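import Mathlib
import Cfsg.Prelude.Def_Sz

/-!
Explicit elements of the Suzuki groups used for the word argument: torus, Weyl element and two
one-parameter families of unitriangular matrices.
-/

namespace CfsgLib.KnownB.SzW

open Matrix
open scoped MatrixGroups

universe u
variable {F : Type u} [Field F]

/-- Torus matrix. -/
def hMat (e : ℕ) (s : F) : Matrix (Fin 4) (Fin 4) F :=
  diagonal ![s ^ (e + 1), s, s⁻¹, (s ^ (e + 1))⁻¹]

/-- Weyl element. -/
def wMat (F : Type u) [Field F] : Matrix (Fin 4) (Fin 4) F :=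
  !![0, 0, 0, 1; 0, 0, 1, 0; 0, 1, 0, 0; 1, 0, 0, 0]

/-- Lower unitriangular central root element. -/
def zMat (e : ℕ) (c : F) : Matrix (Fin 4) (Fin 4) F :=
  !![1, 0, 0, 0; 0, 1, 0, 0; c, 0, 1, 0; c ^ e, c, 0, 1]

/-- Upper unitriangular element. -/
def kMat (e : ℕ) (a : F) : Matrix (Fin 4) (Fin 4) F :=
  !![1, a, a ^ (e + 1), a ^ (e + 2); 0, 1, a ^ e, 0; 0, 0, 1, a; 0, 0, 0, 1]

/-- The defining conditions of a generator of `Sz`. -/
def IsSzMat (e : ℕ) (A : Matrix (Fin 4) (Fin 4) F) : Prop :=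
  (∀ u v, Cfsg.Lie.altForm4 (A *ᵥ u) (A *ᵥ v) = Cfsg.Lie.altForm4 u v) ∧
    Cfsg.Lie.star4 A = A.map (fun x => x ^ e)

theorem mem_Sz {e : ℕ} (g : GL (Fin 4) F) (h : IsSzMat e (g : Matrix (Fin 4) (Fin 4) F)) :
    g ∈ Cfsg.Lie.Sz F e :=
  Subgroup.subset_closure ⟨h.1, h.2⟩

section CharTwo

variable [CharP F 2] {e : ℕ} (he : 0 < e) (hee : ∀ x : F, (x ^ e) ^ e = x ^ 2)

theorem two_eq_zero : (2 : F) = 0 := CharTwo.two_eq_zero

include he in
theorem isSz_wMat : IsSzMat e (wMat F) := by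
  refine ⟨fun u v => ?_, ?_⟩
  · simp [Cfsg.Lie.altForm4, wMat, Matrix.mulVec, dotProduct, Fin.sum_univ_four]
    ring
  · ext i j
    fin_cases i <;> fin_cases j <;>
      simp [Cfsg.Lie.star4, Cfsg.Lie.pairOf, wMat, he.ne', zero_pow, CharTwo.neg_eq]

include he hee in
theorem isSz_zMat (c : F) : IsSzMat e (zMat e c) := by
  have h := hee c
  refine ⟨fun u v => ?_, ?_⟩
  · simp [Cfsg.Lie.altForm4, zMat, Matrix.mulVec, dotProduct, Fin.sum_univ_four]
    linear_combination (c * u 0 * v 1 + c * u 1 * v 0 + c ^ e * u 0 * v 0) * (two_eq_zero (F := F))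
  · ext i j
    fin_cases i <;> fin_cases j <;>
      simp [Cfsg.Lie.star4, Cfsg.Lie.pairOf, zMat, he.ne', zero_pow, CharTwo.neg_eq,
        CharTwo.sub_eq_add, h] <;>
      ring

include he hee in
theorem isSz_kMat (a : F) : IsSzMat e (kMat e a) := by
  have h := hee a
  refine ⟨fun u v => ?_, ?_⟩
  · simp [Cfsg.Lie.altForm4, kMat, Matrix.mulVec, dotProduct, Fin.sum_univ_four]
    linear_combination (a * u 1 * v 3 + a * u 3 * v 1 + a ^ (e + 1) * u 2 * v 3 +
      a ^ (e + 1) * u 3 * v 2 + a ^ e * u 2 * v 2 + a ^ (e + 2) * u 3 * v 3) * (two_eq_zero (F := F))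
  · ext i j
    fin_cases i <;> fin_cases j <;>
      simp [Cfsg.Lie.star4, Cfsg.Lie.pairOf, kMat, he.ne', zero_pow, CharTwo.neg_eq,
        CharTwo.sub_eq_add, pow_add, mul_pow, h] <;>
      try ring
    all_goals simp [CharTwo.two_eq_zero]

include he hee in
theorem isSz_hMat {s : F} (hs : s ≠ 0) : IsSzMat e (hMat e s) := by
  have h := hee s
  refine ⟨fun u v => ?_, ?_⟩
  · simp [Cfsg.Lie.altForm4, hMat, Matrix.mulVec_diagonal]
    field_simp
  · ext i j
    fin_cases i <;> fin_cases j <;>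
      simp [Cfsg.Lie.star4, Cfsg.Lie.pairOf, hMat, he.ne', zero_pow, pow_add, mul_pow, h] <;>
      (try field_simp) <;> try ring

end CharTwo

end CfsgLib.KnownB.SzW
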