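import Cfsg.Agent.Lib.KnownB.SL2Steinberg
import Cfsg.Agent.Lib.Classical.SLOrder
import Cfsg.Agent.Lib.Classical.SLGen

/-!
# The Steinberg presentation of `SL_n` over a finite field, `n ≥ 3`
-/

set_option autoImplicit false
set_option linter.unusedSectionVars false

namespace CfsgLib.KnownB.SLnSt

open Matrix

universe u v

variable {K : Type u} [Field K] {G : Type v} [Group G] {ι : Type*}

/-- A family satisfying the Steinberg relations of type `A`. -/
structure Fam (x : ι → ι → K → G) : Prop where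
  add : ∀ i j, i ≠ j → ∀ t u, x i j t * x i j u = x i j (t + u)
  comm0 : ∀ i j k l, i ≠ j → k ≠ l → i ≠ l → j ≠ k → ∀ t u,
    x i j t * x k l u * (x i j t)⁻¹ * (x k l u)⁻¹ = 1
  comm1 : ∀ i j k, i ≠ j → j ≠ k → i ≠ k → ∀ t u,
    x i j t * x j k u * (x i j t)⁻¹ * (x j k u)⁻¹ = x i k (t * u)

/-- The upper and lower transvections of `SL₂`. -/
def up (t : K) : Matrix.SpecialLinearGroup (Fin 2) K :=
  ⟨!![1, t; 0, 1], by simp [Matrix.det_fin_two_of]⟩

/-- See `up`. -/
def lo (t : K) : Matrix.SpecialLinearGroup (Fin 2) K :=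
  ⟨!![1, 0; t, 1], by simp [Matrix.det_fin_two_of]⟩

/-- Every rank-one subgroup is an image of `SL₂`. -/
def Rank1 (x : ι → ι → K → G) : Prop :=
  ∀ i j, i ≠ j → ∃ φ : Matrix.SpecialLinearGroup (Fin 2) K →* G,
    (∀ t, φ (up t) = x i j t) ∧ ∀ t, φ (lo t) = x j i t

/-- Weyl elements. -/
def wv (x : ι → ι → K → G) (i j : ι) (t : K) : G := x i j t * x j i (-t⁻¹) * x i j t

/-- Torus elements. -/
def dd (x : ι → ι → K → G) (i j : ι) (c : K) : G := wv x i j c * wv x i j (-1)

namespace Fam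

variable {x : ι → ι → K → G} (R : Fam x)
include R

theorem zero {i j : ι} (hij : i ≠ j) : x i j 0 = 1 := by
  have h := R.add i j hij 0 0
  rwa [add_zero, mul_eq_left] at h

theorem neg {i j : ι} (hij : i ≠ j) (t : K) : x i j (-t) = (x i j t)⁻¹ :=
  eq_inv_of_mul_eq_one_left (by rw [R.add i j hij, neg_add_cancel, R.zero hij])

theorem conj_fix {i j k l : ι} (h1 : i ≠ j) (h2 : k ≠ l) (h3 : i ≠ l) (h4 : j ≠ k) (t u : K) :
    x i j t * x k l u * (x i j t)⁻¹ = x k l u :=
  mul_inv_eq_one.1 (R.comm0 i j k l h1 h2 h3 h4 t u)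

theorem comm {i j k l : ι} (h1 : i ≠ j) (h2 : k ≠ l) (h3 : i ≠ l) (h4 : j ≠ k) (t u : K) :
    x i j t * x k l u = x k l u * x i j t :=
  mul_inv_eq_iff_eq_mul.1 (R.conj_fix h1 h2 h3 h4 t u)

/-- `x_ij` acting on `x_jk`. -/
theorem conj_left {i j k : ι} (h1 : i ≠ j) (h2 : j ≠ k) (h3 : i ≠ k) (t u : K) :
    x i j t * x j k u * (x i j t)⁻¹ = x i k (t * u) * x j k u :=
  mul_inv_eq_iff_eq_mul.1 (R.comm1 i j k h1 h2 h3 t u)

/-- `x_ij` acting on `x_ki`. -/
theorem conj_right {i j k : ι} (h1 : i ≠ j) (h2 : k ≠ i) (h3 : k ≠ j) (t u : K) :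
    x i j t * x k i u * (x i j t)⁻¹ = x k j (-(t * u)) * x k i u := by
  rw [R.neg h3, mul_comm t u, ← R.comm1 k i j h2 h1 h3 u t]
  group

theorem wv_inv {i j : ι} (hij : i ≠ j) (t : K) : (wv x i j t)⁻¹ = wv x i j (-t) := by
  simp only [wv, inv_neg, neg_neg, R.neg hij, R.neg hij.symm, _root_.mul_inv_rev, inv_inv, mul_assoc]

variable {i j k : ι} (hij : i ≠ j) (hki : k ≠ i) (hkj : k ≠ j)
include hij hki hkj

theorem wv_ik {t : K} (ht : t ≠ 0) (u : K) :
    wv x i j t * x i k u * (wv x i j t)⁻¹ = x j k (-(t⁻¹ * u)) := by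
  calc _ = x i j t * (x j i (-t⁻¹) * (x i j t * x i k u * (x i j t)⁻¹) * (x j i (-t⁻¹))⁻¹) *
        (x i j t)⁻¹ := by rw [wv]; group
    _ = x i j t * (x j k (-t⁻¹ * u) * x i k u) * (x i j t)⁻¹ := by
      rw [R.conj_fix hij hki.symm hki.symm hij.symm, R.conj_left hij.symm hki.symm hkj.symm]
    _ = (x i j t * x j k (-t⁻¹ * u) * (x i j t)⁻¹) * (x i j t * x i k u * (x i j t)⁻¹) := by group
    _ = x i k (t * (-t⁻¹ * u)) * (x j k (-t⁻¹ * u) * x i k u) := by
      rw [R.conj_left hij hkj.symm hki.symm, R.conj_fix hij hki.symm hki.symm hij.symm, mul_assoc]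
    _ = _ := by
      rw [R.comm hkj.symm hki.symm hkj.symm hki, ← mul_assoc, R.add i k hki.symm,
        show t * (-t⁻¹ * u) + u = 0 by field_simp; ring, R.zero hki.symm, one_mul, neg_mul]

theorem wv_jk {t : K} (ht : t ≠ 0) (u : K) :
    wv x i j t * x j k u * (wv x i j t)⁻¹ = x i k (t * u) := by
  calc _ = x i j t * (x j i (-t⁻¹) * (x i j t * x j k u * (x i j t)⁻¹) * (x j i (-t⁻¹))⁻¹) *
        (x i j t)⁻¹ := by rw [wv]; group
    _ = x i j t * ((x j i (-t⁻¹) * x i k (t * u) * (x j i (-t⁻¹))⁻¹) *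
        (x j i (-t⁻¹) * x j k u * (x j i (-t⁻¹))⁻¹)) * (x i j t)⁻¹ := by
      rw [R.conj_left hij hkj.symm hki.symm]; group
    _ = x i j t * x i k (t * u) * (x i j t)⁻¹ := by
      rw [R.conj_left hij.symm hki.symm hkj.symm, R.conj_fix hij.symm hkj.symm hkj.symm hij,
        mul_assoc (x j k _) (x i k _), R.comm hki.symm hkj.symm hki.symm hkj (t * u) u, ← mul_assoc (x j k _),
        R.add j k hkj.symm, show -t⁻¹ * (t * u) + u = 0 by field_simp; ring, R.zero hkj.symm, one_mul]
    _ = _ := R.conj_fix hij hki.symm hki.symm hij.symm _ _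

theorem wv_kj {t : K} (ht : t ≠ 0) (u : K) :
    wv x i j t * x k j u * (wv x i j t)⁻¹ = x k i (t⁻¹ * u) := by
  calc _ = x i j t * (x j i (-t⁻¹) * (x i j t * x k j u * (x i j t)⁻¹) * (x j i (-t⁻¹))⁻¹) *
        (x i j t)⁻¹ := by rw [wv]; group
    _ = x i j t * (x k i (t⁻¹ * u) * x k j u) * (x i j t)⁻¹ := by
      rw [R.conj_fix hij hkj hij hkj.symm, R.conj_right hij.symm hkj hki,
        show -(-t⁻¹ * u) = t⁻¹ * u by ring]
    _ = (x i j t * x k i (t⁻¹ * u) * (x i j t)⁻¹) * (x i j t * x k j u * (x i j t)⁻¹) := by group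
    _ = x k j (-(t * (t⁻¹ * u))) * (x k i (t⁻¹ * u) * x k j u) := by
      rw [R.conj_right hij hki hkj, R.conj_fix hij hkj hij hkj.symm, mul_assoc]
    _ = _ := by
      rw [R.comm hki hkj hkj hki.symm, ← mul_assoc, R.add k j hkj,
        show -(t * (t⁻¹ * u)) + u = 0 by field_simp; ring, R.zero hkj, one_mul]

theorem wv_ki {t : K} (ht : t ≠ 0) (u : K) :
    wv x i j t * x k i u * (wv x i j t)⁻¹ = x k j (-(t * u)) := by
  calc _ = x i j t * (x j i (-t⁻¹) * (x i j t * x k i u * (x i j t)⁻¹) * (x j i (-t⁻¹))⁻¹) *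
        (x i j t)⁻¹ := by rw [wv]; group
    _ = x i j t * ((x j i (-t⁻¹) * x k j (-(t * u)) * (x j i (-t⁻¹))⁻¹) *
        (x j i (-t⁻¹) * x k i u * (x j i (-t⁻¹))⁻¹)) * (x i j t)⁻¹ := by
      rw [R.conj_right hij hki hkj]; group
    _ = x i j t * x k j (-(t * u)) * (x i j t)⁻¹ := by
      rw [R.conj_right hij.symm hkj hki, R.conj_fix hij.symm hki hij.symm hki.symm,
        mul_assoc (x k i _) (x k j _), R.comm hkj hki hki hkj.symm (-(t * u)) u, ← mul_assoc (x k i _),
        R.add k i hki, show -(-t⁻¹ * -(t * u)) + u = 0 by field_simp; ring, R.zero hki, one_mul]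
    _ = _ := R.conj_fix hij hkj hij hkj.symm _ _

/-- The rank-one relation. -/
theorem wv_ij {t : K} (ht : t ≠ 0) (u : K) :
    wv x i j t * x i j u * (wv x i j t)⁻¹ = x j i (-(t⁻¹ ^ 2 * u)) := by
  have h := R.comm1 i k j hki.symm hkj hij u 1
  rw [mul_one] at h
  conv_lhs => rw [← h]
  calc _ = (wv x i j t * x i k u * (wv x i j t)⁻¹) * (wv x i j t * x k j 1 * (wv x i j t)⁻¹) *
        (wv x i j t * x i k u * (wv x i j t)⁻¹)⁻¹ * (wv x i j t * x k j 1 * (wv x i j t)⁻¹)⁻¹ := by group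
    _ = x j i (-(t⁻¹ * u) * (t⁻¹ * 1)) := by
      rw [R.wv_ik hij hki hkj ht, R.wv_kj hij hki hkj ht, R.comm1 j k i hkj.symm hki hij.symm]
    _ = _ := by congr 1; ring

theorem dd_ik {c : K} (hc : c ≠ 0) (u : K) :
    dd x i j c * x i k u * (dd x i j c)⁻¹ = x i k (c * u) := by
  calc _ = wv x i j c * (wv x i j (-1) * x i k u * (wv x i j (-1))⁻¹) * (wv x i j c)⁻¹ := by
        rw [dd]; group
    _ = _ := by
        rw [R.wv_ik hij hki hkj (neg_ne_zero.2 one_ne_zero), R.wv_jk hij hki hkj hc]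
        congr 1; simp

theorem dd_jk {c : K} (hc : c ≠ 0) (u : K) :
    dd x i j c * x j k u * (dd x i j c)⁻¹ = x j k (c⁻¹ * u) := by
  calc _ = wv x i j c * (wv x i j (-1) * x j k u * (wv x i j (-1))⁻¹) * (wv x i j c)⁻¹ := by
        rw [dd]; group
    _ = _ := by
        rw [R.wv_jk hij hki hkj (neg_ne_zero.2 one_ne_zero), R.wv_ik hij hki hkj hc]
        congr 1; simp

theorem dd_kj {c : K} (hc : c ≠ 0) (u : K) :
    dd x i j c * x k j u * (dd x i j c)⁻¹ = x k j (c * u) := by
  calc _ = wv x i j c * (wv x i j (-1) * x k j u * (wv x i j (-1))⁻¹) * (wv x i j c)⁻¹ := by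
        rw [dd]; group
    _ = _ := by
        rw [R.wv_kj hij hki hkj (neg_ne_zero.2 one_ne_zero), R.wv_ki hij hki hkj hc]
        congr 1; simp

omit hki hkj in
theorem conj_dd_fix {k l : ι} (h1 : k ≠ l) (hki : k ≠ i) (hkj : k ≠ j) (hli : l ≠ i) (hlj : l ≠ j)
    (c u : K) : dd x i j c * x k l u * (dd x i j c)⁻¹ = x k l u := by
  have hw : ∀ t, wv x i j t * x k l u * (wv x i j t)⁻¹ = x k l u := by
    intro t
    have a := R.conj_fix hij h1 hli.symm hkj.symm t u
    have b := R.conj_fix hij.symm h1 hlj.symm hki.symm (-t⁻¹) u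
    calc _ = x i j t * (x j i (-t⁻¹) * (x i j t * x k l u * (x i j t)⁻¹) * (x j i (-t⁻¹))⁻¹) *
          (x i j t)⁻¹ := by rw [wv]; group
      _ = _ := by rw [a, b, a]
  calc _ = wv x i j c * (wv x i j (-1) * x k l u * (wv x i j (-1))⁻¹) * (wv x i j c)⁻¹ := by
        rw [dd]; group
    _ = _ := by rw [hw, hw]

end Fam

theorem up_mul_lo (t : K) (ht : t ≠ 0) :
    ((up t * lo (-t⁻¹) * up t : Matrix.SpecialLinearGroup (Fin 2) K) : Matrix (Fin 2) (Fin 2) K) =
      !![0, t; -t⁻¹, 0] := by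
  rw [Matrix.SpecialLinearGroup.coe_mul, Matrix.SpecialLinearGroup.coe_mul]
  simp only [up, lo]
  ext i j
  fin_cases i <;> fin_cases j <;> simp [Matrix.mul_apply, Fin.sum_univ_two, ht]

theorem dg_val (c : K) (hc : c ≠ 0) :
    ((up c * lo (-c⁻¹) * up c * (up (-1) * lo (-(-1)⁻¹) * up (-1)) :
      Matrix.SpecialLinearGroup (Fin 2) K) : Matrix (Fin 2) (Fin 2) K) = !![c, 0; 0, c⁻¹] := by
  rw [Matrix.SpecialLinearGroup.coe_mul, up_mul_lo c hc, up_mul_lo _ (neg_ne_zero.2 one_ne_zero)]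
  ext i j
  fin_cases i <;> fin_cases j <;> simp [Matrix.mul_apply, Fin.sum_univ_two]

/-- `SL₂` is generated by `up` and `lo`. -/
theorem range_le {φ : Matrix.SpecialLinearGroup (Fin 2) K →* G} {H : Subgroup G}
    (hu : ∀ t, φ (up t) ∈ H) (hl : ∀ t, φ (lo t) ∈ H) (M : Matrix.SpecialLinearGroup (Fin 2) K) :
    φ M ∈ H := by
  have h := CfsgLib.Classical.sl_transvection_induction (H.comap φ) (fun i j hij c => by
    fin_cases i <;> fin_cases j
    · exact absurd rfl hij
    · rw [Subgroup.mem_comap]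
      convert hu c using 2
      refine Subtype.ext ?_
      rw [Matrix.SpecialLinearGroup.transvection_coe]
      ext a b; fin_cases a <;> fin_cases b <;> simp [up]
    · rw [Subgroup.mem_comap]
      convert hl c using 2
      refine Subtype.ext ?_
      rw [Matrix.SpecialLinearGroup.transvection_coe]
      ext a b; fin_cases a <;> fin_cases b <;> simp [lo]
    · exact absurd rfl hij)
  have hm : M ∈ H.comap φ := h ▸ Subgroup.mem_top M
  exact hm

theorem card_sup_le [Finite K] {A B : Subgroup G} [Finite A] [Finite B]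
    (h : B ≤ Subgroup.normalizer (A : Set G)) :
    Finite (A ⊔ B : Subgroup G) ∧ Nat.card (A ⊔ B : Subgroup G) ≤ Nat.card A * Nat.card B := by
  let f : A × B → (A ⊔ B : Subgroup G) := fun p =>
    ⟨p.1.1 * p.2.1, mul_mem (Subgroup.mem_sup_left p.1.2) (Subgroup.mem_sup_right p.2.2)⟩
  have hf : Function.Surjective f := by
    rintro ⟨z, hz⟩
    have hz' : z ∈ (↑(A ⊔ B) : Set G) := hz
    rw [Subgroup.coe_mul_of_right_le_normalizer_left A B h] at hz'
    obtain ⟨a, ha, b, hb, rfl⟩ := Set.mem_mul.1 hz'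
    exact ⟨(⟨a, ha⟩, ⟨b, hb⟩), rfl⟩
  exact ⟨Finite.of_surjective f hf, (Nat.card_le_card_of_surjective f hf).trans_eq (Nat.card_prod _ _)⟩

/-- Generated by commuting copies of `K`. -/
theorem card_closure_le [Finite K] {m : ℕ} (y : Fin m → K → G) (hadd : ∀ i t u, y i t * y i u = y i (t + u))
    (hcomm : ∀ i j, i ≠ j → ∀ t u, y i t * y j u = y j u * y i t) :
    Finite (Subgroup.closure {g | ∃ i t, g = y i t}) ∧
      Nat.card (Subgroup.closure {g | ∃ i t, g = y i t}) ≤ Nat.card K ^ m := by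
  let ϕ : Fin m → Multiplicative K →* G := fun i =>
    MonoidHom.mk' (fun t => y i t.toAdd) fun a b => (hadd i _ _).symm
  let F := MonoidHom.noncommPiCoprod ϕ fun i j hij a b => hcomm i j hij _ _
  have hle : Subgroup.closure {g | ∃ i t, g = y i t} ≤ F.range := by
    rw [Subgroup.closure_le]
    rintro _ ⟨i, t, rfl⟩
    exact ⟨Pi.mulSingle i (Multiplicative.ofAdd t), MonoidHom.noncommPiCoprod_mulSingle _ _ _⟩
  have hfin : Finite F.range := Finite.of_surjective F.rangeRestrict F.rangeRestrict_surjective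
  have := Finite.of_injective _ (Subgroup.inclusion_injective hle)
  refine ⟨this, (Nat.card_le_card_of_injective _ (Subgroup.inclusion_injective hle)).trans ?_⟩
  refine (Nat.card_le_card_of_surjective F.rangeRestrict F.rangeRestrict_surjective).trans_eq ?_
  rw [Nat.card_fun, Nat.card_congr Multiplicative.toAdd, Nat.card_eq_fintype_card (α := Fin m),
    Fintype.card_fin]

/-- The subgroup generated by the `x_ij` with `j ≠ 0`. -/
def stabSub {m : ℕ} [NeZero m] (x : Fin m → Fin m → K → G) : Subgroup G :=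
  Subgroup.closure {g | ∃ i j t, i ≠ j ∧ j ≠ 0 ∧ g = x i j t}

/-- The order of `SL_m`. -/
noncomputable def slCard (K : Type u) [Field K] (m : ℕ) : ℕ :=
  Nat.card (Matrix.SpecialLinearGroup (Fin m) K)

theorem slCard_succ [Fintype K] {m : ℕ} (hm : 1 ≤ m) :
    slCard K (m + 1) = (Fintype.card K ^ (m + 1) - 1) * (Fintype.card K ^ m * slCard K m) := by
  have h1 := CfsgLib.Classical.card_sl_mul (F := K) (n := m + 1) (by omega)
  have h2 := CfsgLib.Classical.card_sl_mul (F := K) hm
  rw [Fin.prod_univ_succ] at h1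
  simp only [Fin.val_zero, pow_zero, Fin.val_succ] at h1
  have h3 : ∏ i : Fin m, (Fintype.card K ^ (m + 1) - Fintype.card K ^ ((i : ℕ) + 1)) =
      Fintype.card K ^ m * ∏ i : Fin m, (Fintype.card K ^ m - Fintype.card K ^ (i : ℕ)) := by
    rw [show Fintype.card K ^ m = ∏ _i : Fin m, Fintype.card K by
      rw [Finset.prod_const, Finset.card_univ, Fintype.card_fin], ← Finset.prod_mul_distrib]
    refine Finset.prod_congr rfl fun i _ => ?_
    rw [Finset.prod_const, Finset.card_univ, Fintype.card_fin, Nat.mul_sub, ← pow_succ', ← pow_succ']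
  rw [h3, ← h2] at h1
  refine Nat.eq_of_mul_eq_mul_left (show 0 < Fintype.card K - 1 by
    have := Fintype.one_lt_card (α := K); omega) ?_
  rw [slCard, h1, slCard]
  ring

theorem bound [Fintype K] : ∀ (m : ℕ) (G : Type v) [Group G] (x : Fin (m + 2) → Fin (m + 2) → K → G),
    Fam x → Rank1 x → Subgroup.closure {g | ∃ i j t, i ≠ j ∧ g = x i j t} = ⊤ →
      Finite G ∧ (stabSub x).index ≤ Fintype.card K ^ (m + 2) - 1 ∧ Nat.card G ≤ slCard K (m + 2) := by
  intro m
  induction m with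
  | zero =>
    intro G _ x R h1 hgen
    obtain ⟨φ, hu, hl⟩ := h1 0 1 (by decide)
    have hsurj : Function.Surjective φ := by
      rw [← MonoidHom.range_eq_top, ← top_le_iff, ← hgen, Subgroup.closure_le]
      rintro _ ⟨i, j, t, hij, rfl⟩
      fin_cases i <;> fin_cases j
      · exact absurd rfl hij
      · exact ⟨up t, hu t⟩
      · exact ⟨lo t, hl t⟩
      · exact absurd rfl hij
    refine ⟨Finite.of_surjective φ hsurj, ?_, Nat.card_le_card_of_surjective φ hsurj⟩
    let ν : Multiplicative K →* Matrix.SpecialLinearGroup (Fin 2) K :=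
      MonoidHom.mk' (fun t => up t.toAdd) fun a b => Subtype.ext (by
        rw [Matrix.SpecialLinearGroup.coe_mul]
        ext i j
        fin_cases i <;> fin_cases j <;>
          simp [up, Matrix.mul_apply, Fin.sum_univ_two, add_comm])
    have hν : Function.Injective ν := fun a b h => by
      have := congrArg (fun M : Matrix.SpecialLinearGroup (Fin 2) K =>
        (M : Matrix (Fin 2) (Fin 2) K) 0 1) h
      exact Multiplicative.toAdd.injective this
    have hle : ν.range.map φ ≤ stabSub x := by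
      rintro _ ⟨_, ⟨t, rfl⟩, rfl⟩
      exact Subgroup.subset_closure ⟨0, 1, t.toAdd, by decide, by decide, hu _⟩
    have hc := ν.range.card_mul_index
    rw [← Nat.card_congr (MonoidHom.ofInjective hν).toEquiv, Nat.card_congr Multiplicative.toAdd,
      CfsgLib.Pres.card_sl, Nat.card_eq_fintype_card] at hc
    rw [← Nat.eq_of_mul_eq_mul_left Fintype.card_pos hc]
    refine Nat.le_of_dvd (Nat.pos_of_ne_zero Subgroup.index_ne_zero_of_finite) ?_
    exact (Subgroup.index_dvd_of_le hle).trans (ν.range.index_map_dvd hsurj)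
  | succ m ih =>
    intro G _ x R h1 hgen
    set S := stabSub x with hS
    have hmemS : ∀ i j t, i ≠ j → j ≠ 0 → x i j t ∈ S := fun i j t a b =>
      Subgroup.subset_closure ⟨i, j, t, a, b, rfl⟩
    set H := Subgroup.closure {g | ∃ (i j : Fin (m + 2)) (t : K), i ≠ j ∧ g = x i.succ j.succ t} with hH
    have hmemH : ∀ (i j : Fin (m + 2)) (t : K), i ≠ j → x i.succ j.succ t ∈ H := fun i j t a =>
      Subgroup.subset_closure ⟨i, j, t, a, rfl⟩
    have hsucc : ∀ {i j : Fin (m + 2)}, i ≠ j → i.succ ≠ j.succ := fun h e => h (Fin.succ_inj.1 e)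
    have h0 : ∀ i : Fin (m + 2), (0 : Fin (m + 3)) ≠ i.succ := fun i => (Fin.succ_ne_zero i).symm
    have h0' : ∀ i : Fin (m + 2), i.succ ≠ (0 : Fin (m + 3)) := Fin.succ_ne_zero
    have hHS : H ≤ S := by
      rw [hH, Subgroup.closure_le]
      rintro _ ⟨i, j, t, hij, rfl⟩
      exact hmemS _ _ _ (hsucc hij) (h0' j)
    -- the induction hypothesis for `H`
    let y : Fin (m + 2) → Fin (m + 2) → K → H := fun i j t =>
      if h : i = j then 1 else ⟨x i.succ j.succ t, hmemH i j t h⟩
    have hy : ∀ i j, i ≠ j → ∀ t, (y i j t : G) = x i.succ j.succ t := fun i j h t => by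
      simp [y, h]
    have hyR : Fam y :=
      { add := fun i j h t u => Subtype.ext (by
          simp only [Subgroup.coe_mul, hy i j h]; exact R.add _ _ (hsucc h) t u)
        comm0 := fun i j k l a b c d t u => Subtype.ext (by
          simp only [Subgroup.coe_mul, Subgroup.coe_inv, Subgroup.coe_one, hy i j a, hy k l b]
          exact R.comm0 _ _ _ _ (hsucc a) (hsucc b) (hsucc c) (hsucc d) t u)
        comm1 := fun i j k a b c t u => Subtype.ext (by
          simp only [Subgroup.coe_mul, Subgroup.coe_inv, hy i j a, hy j k b, hy i k c]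
          exact R.comm1 _ _ _ (hsucc a) (hsucc b) (hsucc c) t u) }
    have hy1 : Rank1 y := by
      intro i j hij
      obtain ⟨φ, hu, hl⟩ := h1 _ _ (hsucc hij)
      refine ⟨φ.codRestrict H (range_le (fun t => hu t ▸ hmemH i j t hij)
        fun t => hl t ▸ hmemH j i t hij.symm), fun t => Subtype.ext ?_, fun t => Subtype.ext ?_⟩
      · rw [hy i j hij]; exact hu t
      · rw [hy j i hij.symm]; exact hl t
    have hygen : Subgroup.closure {g | ∃ i j t, i ≠ j ∧ g = y i j t} = ⊤ := by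
      refine Subgroup.map_injective (f := H.subtype) H.subtype_injective ?_
      rw [MonoidHom.map_closure, ← MonoidHom.range_eq_map, Subgroup.range_subtype]
      conv_rhs => rw [hH]
      congr 1
      ext g
      constructor
      · rintro ⟨_, ⟨i, j, t, hij, rfl⟩, rfl⟩
        exact ⟨i, j, t, hij, hy i j hij t⟩
      · rintro ⟨i, j, t, hij, rfl⟩
        exact ⟨_, ⟨i, j, t, hij, rfl⟩, hy i j hij t⟩
    obtain ⟨hHfin, hHidx, hHcard⟩ := ih H y hyR hy1 hygen
    -- the two unipotent subgroups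
    set L := Subgroup.closure {g | ∃ (i : Fin (m + 2)) (t : K), g = x i.succ 0 t} with hL
    set P := Subgroup.closure {g | ∃ (i : Fin (m + 2)) (t : K), g = x 0 i.succ t} with hP
    obtain ⟨hLfin, hLcard⟩ := card_closure_le (fun i : Fin (m + 2) => x i.succ 0)
      (fun i => R.add _ _ (h0' i))
      (fun i j hij t u => R.comm (h0' i) (h0' j) (h0' i) (h0 j) t u)
    obtain ⟨hPfin, hPcard⟩ := card_closure_le (fun i : Fin (m + 2) => x 0 i.succ)
      (fun i => R.add _ _ (h0 i))
      (fun i j hij t u => R.comm (h0 i) (h0 j) (h0 j) (h0' i) t u)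
    rw [← hL] at hLfin hLcard
    rw [← hP] at hPfin hPcard
    have hmemL : ∀ i t, x (Fin.succ i) 0 t ∈ L := fun i t => Subgroup.subset_closure ⟨i, t, rfl⟩
    have hmemP : ∀ i t, x 0 (Fin.succ i) t ∈ P := fun i t => Subgroup.subset_closure ⟨i, t, rfl⟩
    -- `H` normalises both
    have norm_of : ∀ (A : Subgroup G), (∀ (i j : Fin (m + 2)), i ≠ j → ∀ t, ∀ a ∈ A,
        x i.succ j.succ t * a * (x i.succ j.succ t)⁻¹ ∈ A) →
        ∀ h ∈ H, ∀ a ∈ A, h * a * h⁻¹ ∈ A := by
      intro A hA h hh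
      induction hh using Subgroup.closure_induction'' with
      | mem g hg => obtain ⟨i, j, t, hij, rfl⟩ := hg; exact hA i j hij t
      | inv_mem g hg =>
        obtain ⟨i, j, t, hij, rfl⟩ := hg
        rw [← R.neg (hsucc hij)]
        exact hA i j hij _
      | one => intro a ha; simpa using ha
      | mul g g' _ _ hg hg' =>
        intro a ha
        rw [show g * g' * a * (g * g')⁻¹ = g * (g' * a * g'⁻¹) * g⁻¹ by group]
        exact hg _ (hg' a ha)
    have conj_closure : ∀ (g : G) (T : Set G) (A : Subgroup G), (∀ a ∈ T, g * a * g⁻¹ ∈ A) →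
        ∀ a ∈ Subgroup.closure T, g * a * g⁻¹ ∈ A := fun g T A hT a ha => by
      have : Subgroup.closure T ≤ A.comap (MulAut.conj g).toMonoidHom :=
        (Subgroup.closure_le _).2 fun a ha => hT a ha
      exact this ha
    have hHL : ∀ h ∈ H, ∀ a ∈ L, h * a * h⁻¹ ∈ L := norm_of L fun i j hij t => conj_closure _ _ _ (by
      rintro _ ⟨k, u, rfl⟩
      rcases eq_or_ne j k with rfl | hjk
      · rw [R.conj_left (hsucc hij) (h0' j) (h0' i)]
        exact mul_mem (hmemL _ _) (hmemL _ _)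
      · rw [R.conj_fix (hsucc hij) (h0' k) (h0' i) (hsucc hjk)]
        exact hmemL _ _)
    have hHP : ∀ h ∈ H, ∀ a ∈ P, h * a * h⁻¹ ∈ P := norm_of P fun i j hij t => conj_closure _ _ _ (by
      rintro _ ⟨k, u, rfl⟩
      rcases eq_or_ne i k with rfl | hik
      · rw [R.conj_right (hsucc hij) (h0 i) (h0 j)]
        exact mul_mem (hmemP _ _) (hmemP _ _)
      · rw [R.conj_fix (hsucc hij) (h0 k) (hsucc hik) (h0' j)]
        exact hmemP _ _)
    -- the rank-one data at `0, 1`
    have h01 : (0 : Fin (m + 3)) ≠ (0 : Fin (m + 2)).succ := h0 0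
    set o : Fin (m + 3) := (0 : Fin (m + 2)).succ with ho
    obtain ⟨φ, hu, hl⟩ := h1 0 o h01
    set w := wv x 0 o 1 with hw
    have hwv : ∀ t, φ (up t * lo (-t⁻¹) * up t) = wv x 0 o t := fun t => by
      rw [map_mul, map_mul, hu, hl]; rfl
    have hdd : ∀ c, φ (up c * lo (-c⁻¹) * up c * (up (-1) * lo (-(-1)⁻¹) * up (-1))) = dd x 0 o c :=
      fun c => by rw [map_mul, hwv, hwv]; rfl
    have hk : ∀ k : Fin (m + 2), k ≠ 0 → k.succ ≠ o := fun k hk => hsucc hk
    -- the points
    let O0 : Set (G ⧸ S) := Set.range fun p : L × Kˣ => ((p.1.1 * dd x 0 o (p.2 : K) : G) : G ⧸ S)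
    let O1 : Set (G ⧸ S) := (fun h => ((h * w : G) : G ⧸ S)) '' (H : Set G)
    have mk_eq : ∀ a s : G, s ∈ S → ((a * s : G) : G ⧸ S) = (a : G ⧸ S) := fun a s hs =>
      QuotientGroup.eq.2 (by simpa using S.inv_mem hs)
    have hwS : ∀ (k : Fin (m + 2)), k ≠ 0 → ∀ t, w⁻¹ * x k.succ 0 t * w ∈ S ∧
        w⁻¹ * x 0 k.succ t * w ∈ S := by
      intro k hk0 t
      refine ⟨?_, ?_⟩
      · have e := R.wv_kj h01 (h0' k) (hk k hk0) one_ne_zero t
        rw [inv_one, one_mul] at e
        rw [← e, show w⁻¹ * (wv x 0 o 1 * x k.succ o t * (wv x 0 o 1)⁻¹) * w = x k.succ o t by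
          rw [hw]; group]
        exact hmemS _ _ _ (hk k hk0) h01.symm
      · have e := R.wv_jk h01 (h0' k) (hk k hk0) one_ne_zero t
        rw [one_mul] at e
        rw [← e, show w⁻¹ * (wv x 0 o 1 * x o k.succ t * (wv x 0 o 1)⁻¹) * w = x o k.succ t by
          rw [hw]; group]
        exact hmemS _ _ _ (hk k hk0).symm (h0' k)
    have phi_mem : ∀ M, ((φ M : G) : G ⧸ S) ∈ O0 ∪ O1 := by
      intro M
      have hdet : (M : Matrix (Fin 2) (Fin 2) K) 0 0 * (M : Matrix (Fin 2) (Fin 2) K) 1 1 -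
          (M : Matrix (Fin 2) (Fin 2) K) 0 1 * (M : Matrix (Fin 2) (Fin 2) K) 1 0 = 1 := by
        rw [← Matrix.det_fin_two]; exact M.2
      by_cases hM : (M : Matrix (Fin 2) (Fin 2) K) 0 0 = 0
      · right
        set b := (M : Matrix (Fin 2) (Fin 2) K) 0 1 with hb'
        have hb : b ≠ 0 := fun e => by rw [hM, e] at hdet; simp at hdet
        have hc : (M : Matrix (Fin 2) (Fin 2) K) 1 0 = -b⁻¹ := by
          rw [hM] at hdet; field_simp; linear_combination -hdet
        have hMd : M = up 1 * lo (-1⁻¹) * up 1 *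
            (up b⁻¹ * lo (-(b⁻¹)⁻¹) * up b⁻¹ * (up (-1) * lo (-(-1)⁻¹) * up (-1))) *
            up (-(b * (M : Matrix (Fin 2) (Fin 2) K) 1 1)) := by
          refine Subtype.ext ?_
          rw [Matrix.SpecialLinearGroup.coe_mul, Matrix.SpecialLinearGroup.coe_mul,
            up_mul_lo 1 one_ne_zero, dg_val _ (inv_ne_zero hb)]
          ext i j
          fin_cases i <;> fin_cases j <;>
            simp [up, Matrix.mul_apply, Fin.sum_univ_two, hM, hc, ← hb', hb]
        rw [hMd, map_mul, map_mul, hu, hdd, hwv,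
          mk_eq _ _ (hmemS _ _ _ h01 h01.symm)]
        -- `w * dd(c)` lies in the second set
        set c := b⁻¹ with hc'
        have hc0 : c ≠ 0 := inv_ne_zero hb
        set k : Fin (m + 3) := (1 : Fin (m + 2)).succ with hk'
        have h10 : (1 : Fin (m + 2)) ≠ 0 := by simp
        have hko : o ≠ k := (hsucc h10).symm
        have hk0 : k ≠ 0 := h0' 1
        have hH' : dd x o k c ∈ H := by
          simp only [dd, wv, ho, hk']
          repeat' apply mul_mem
          all_goals first | exact hmemH 0 1 _ h10.symm | exact hmemH 1 0 _ h10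
        refine ⟨dd x o k c, hH', ?_⟩
        have e1 : ∀ u, w⁻¹ * x o k u * w = x 0 k (-u) := fun u => by
          have e := R.wv_ik h01 hk0 hko.symm one_ne_zero (-u)
          rw [inv_one, one_mul, neg_neg] at e
          rw [← e, hw]; group
        have e2 : ∀ u, w⁻¹ * x k o u * w = x k 0 (-u) := fun u => by
          have e := R.wv_ki h01 hk0 hko.symm one_ne_zero (-u)
          rw [one_mul, neg_neg] at e
          rw [← e, hw]; group
        have e3 : ∀ u, wv x o k 1 * x 0 o u * (wv x o k 1)⁻¹ = x 0 k (-u) := fun u => by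
          rw [R.wv_ki hko h01 hk0.symm one_ne_zero, one_mul]
        have e4 : ∀ u, wv x o k 1 * x o 0 u * (wv x o k 1)⁻¹ = x k 0 (-u) := fun u => by
          rw [R.wv_ik hko h01 hk0.symm one_ne_zero, inv_one, one_mul]
        have e5 : ∀ t, w⁻¹ * wv x o k t * w = wv x o k 1 * wv x 0 o t * (wv x o k 1)⁻¹ := fun t => by
          rw [show w⁻¹ * wv x o k t * w = (w⁻¹ * x o k t * w) * (w⁻¹ * x k o (-t⁻¹) * w) *
              (w⁻¹ * x o k t * w) by rw [show wv x o k t = x o k t * x k o (-t⁻¹) * x o k t from rfl]; group,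
            show wv x o k 1 * wv x 0 o t * (wv x o k 1)⁻¹ =
              (wv x o k 1 * x 0 o t * (wv x o k 1)⁻¹) * (wv x o k 1 * x o 0 (-t⁻¹) * (wv x o k 1)⁻¹) *
              (wv x o k 1 * x 0 o t * (wv x o k 1)⁻¹) by
                rw [show wv x 0 o t = x 0 o t * x o 0 (-t⁻¹) * x 0 o t from rfl]; group,
            e1, e2, e3, e4]
        have e6 : w⁻¹ * dd x o k c * w = wv x o k 1 * dd x 0 o c * (wv x o k 1)⁻¹ := by
          rw [show w⁻¹ * dd x o k c * w = (w⁻¹ * wv x o k c * w) * (w⁻¹ * wv x o k (-1) * w) by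
            rw [dd]; group, e5, e5, show dd x 0 o c = wv x 0 o c * wv x 0 o (-1) from rfl]
          group
        have hz : (dd x 0 o c)⁻¹ * wv x o k 1 * dd x 0 o c ∈ S := by
          have a1 : ∀ u, (dd x 0 o c)⁻¹ * x o k u * dd x 0 o c ∈ S := fun u => by
            have e := R.dd_jk h01 hk0 hko.symm hc0 (c * u)
            rw [inv_mul_cancel_left₀ hc0] at e
            rw [← e, show ∀ a b : G, a⁻¹ * (a * b * a⁻¹) * a = b from fun a b => by group]
            exact hmemS _ _ _ hko hk0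
          have a2 : ∀ u, (dd x 0 o c)⁻¹ * x k o u * dd x 0 o c ∈ S := fun u => by
            have e := R.dd_kj h01 hk0 hko.symm hc0 (c⁻¹ * u)
            rw [mul_inv_cancel_left₀ hc0] at e
            rw [← e, show ∀ a b : G, a⁻¹ * (a * b * a⁻¹) * a = b from fun a b => by group]
            exact hmemS _ _ _ hko.symm h01.symm
          rw [show (dd x 0 o c)⁻¹ * wv x o k 1 * dd x 0 o c =
            ((dd x 0 o c)⁻¹ * x o k 1 * dd x 0 o c) * ((dd x 0 o c)⁻¹ * x k o (-(1 : K)⁻¹) * dd x 0 o c) *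
              ((dd x 0 o c)⁻¹ * x o k 1 * dd x 0 o c) by rw [wv]; group]
          exact mul_mem (mul_mem (a1 _) (a2 _)) (a1 _)
        have hwS' : wv x o k 1 ∈ S := mul_mem (mul_mem (hmemS _ _ _ hko hk0)
          (hmemS _ _ _ hko.symm h01.symm)) (hmemS _ _ _ hko hk0)
        show ((dd x o k c * w : G) : G ⧸ S) = ((w * dd x 0 o c : G) : G ⧸ S)
        rw [show dd x o k c * w = w * (wv x o k 1 * dd x 0 o c * (wv x o k 1)⁻¹) by rw [← e6]; group,
          ← mul_assoc, mk_eq _ _ (inv_mem hwS'),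
          show w * (wv x o k 1 * dd x 0 o c) = w * dd x 0 o c * ((dd x 0 o c)⁻¹ * wv x o k 1 * dd x 0 o c) by
            group,
          mk_eq _ _ hz]
      · left
        set a := (M : Matrix (Fin 2) (Fin 2) K) 0 0 with ha'
        have hMd : M = lo ((M : Matrix (Fin 2) (Fin 2) K) 1 0 / a) *
            (up a * lo (-a⁻¹) * up a * (up (-1) * lo (-(-1)⁻¹) * up (-1))) *
            up ((M : Matrix (Fin 2) (Fin 2) K) 0 1 / a) := by
          refine Subtype.ext ?_
          rw [Matrix.SpecialLinearGroup.coe_mul, Matrix.SpecialLinearGroup.coe_mul, dg_val _ hM]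
          ext i j
          fin_cases i <;> fin_cases j <;>
            simp [up, lo, Matrix.mul_apply, Fin.sum_univ_two, ← ha', hM] <;>
            field_simp <;> linear_combination hdet
        rw [hMd, map_mul, map_mul, hu, hl, hdd, mk_eq _ _ (hmemS _ _ _ h01 h01.symm)]
        exact ⟨(⟨_, hmemL 0 _⟩, Units.mk0 a hM), rfl⟩
    -- stability
    have stabH : ∀ (i j : Fin (m + 2)) (t : K), i ≠ j → ∀ ω ∈ O0 ∪ O1,
        x i.succ j.succ t • ω ∈ O0 ∪ O1 := by
      intro i j t hij ω hω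
      have hxH : x i.succ j.succ t ∈ H := hmemH i j t hij
      rcases hω with ⟨⟨l, c⟩, rfl⟩ | ⟨h, hh, rfl⟩
      · left
        refine ⟨(⟨_, hHL _ hxH _ l.2⟩, c), ?_⟩
        show ((x i.succ j.succ t * l * (x i.succ j.succ t)⁻¹ * dd x 0 o c : G) : G ⧸ S) =
          ((x i.succ j.succ t * (l * dd x 0 o c) : G) : G ⧸ S)
        have hz : (dd x 0 o (c : K))⁻¹ * x i.succ j.succ t * dd x 0 o c ∈ S := by
          have gen : ∀ u, dd x 0 o (c : K) * x i.succ j.succ u * (dd x 0 o c)⁻¹ = x i.succ j.succ t →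
              (dd x 0 o (c : K))⁻¹ * x i.succ j.succ t * dd x 0 o c ∈ S := fun u e => by
            rw [← e, show ∀ a b : G, a⁻¹ * (a * b * a⁻¹) * a = b from fun a b => by group]
            exact hHS (hmemH i j u hij)
          by_cases hi : i = 0
          · subst hi
            refine gen ((c : K) * t) ?_
            rw [R.dd_jk h01 (h0' j) (hsucc hij.symm) c.ne_zero, inv_mul_cancel_left₀ c.ne_zero]
          by_cases hj : j = 0
          · subst hj
            refine gen ((c : K)⁻¹ * t) ?_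
            rw [R.dd_kj h01 (h0' i) (hk i hi) c.ne_zero, mul_inv_cancel_left₀ c.ne_zero]
          exact gen t (R.conj_dd_fix h01 (hsucc hij) (h0' i) (hk i hi) (h0' j) (hk j hj) _ _)
        rw [show x i.succ j.succ t * (l * dd x 0 o (c : K)) =
          x i.succ j.succ t * l * (x i.succ j.succ t)⁻¹ * dd x 0 o c *
            ((dd x 0 o (c : K))⁻¹ * x i.succ j.succ t * dd x 0 o c) by group, mk_eq _ _ hz]
      · exact Or.inr ⟨_, mul_mem hxH hh, congrArg QuotientGroup.mk (mul_assoc _ h w)⟩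
    have stabHsub : ∀ h ∈ H, ∀ ω ∈ O0 ∪ O1, h • ω ∈ O0 ∪ O1 := by
      intro h hh
      induction hh using Subgroup.closure_induction'' with
      | mem g hg => obtain ⟨i, j, t, hij, rfl⟩ := hg; exact stabH i j t hij
      | inv_mem g hg =>
        obtain ⟨i, j, t, hij, rfl⟩ := hg
        rw [← R.neg (hsucc hij)]
        exact stabH i j _ hij
      | one => intro ω hω; rwa [one_smul]
      | mul g g' _ _ hg hg' => intro ω hω; rw [mul_smul]; exact hg _ (hg' _ hω)
    have fixw : ∀ h ∈ H, ∀ a ∈ Subgroup.closure {g | ∃ (k : Fin (m + 2)) (t : K), k ≠ 0 ∧ g = x 0 k.succ t},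
        ∀ b, ((h * x 0 o b * a * w : G) : G ⧸ S) ∈ O0 ∪ O1 := by
      intro h hh a ha b
      have hzS : w⁻¹ * a * w ∈ S := by
        have := conj_closure w⁻¹ _ S (by
          rintro _ ⟨k, t, hk0, rfl⟩
          rw [inv_inv]
          exact (hwS k hk0 t).2) a ha
        rwa [inv_inv] at this
      rw [show h * x 0 o b * a * w = h * (x 0 o b * w) * (w⁻¹ * a * w) by group, mk_eq _ _ hzS]
      have hφ : x 0 o b * w = φ (up b * (up 1 * lo (-1⁻¹) * up 1)) := by rw [map_mul, hu, hwv]
      rw [hφ]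
      exact stabHsub h hh _ (phi_mem _)
    have stabL : ∀ l ∈ L, ∀ ω ∈ O0 ∪ O1, l • ω ∈ O0 ∪ O1 := by
      intro l hlL ω hω
      rcases hω with ⟨⟨l', c⟩, rfl⟩ | ⟨h, hh, rfl⟩
      · exact Or.inl ⟨(⟨_, mul_mem hlL l'.2⟩, c), congrArg QuotientGroup.mk (mul_assoc l _ _)⟩
      · refine Or.inr ⟨h, hh, ?_⟩
        show ((h * w : G) : G ⧸ S) = ((l * (h * w) : G) : G ⧸ S)
        have hl' : h⁻¹ * l * h ∈ L := by
          have := hHL h⁻¹ (inv_mem hh) l hlL
          rwa [inv_inv] at this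
        have hz : w⁻¹ * (h⁻¹ * l * h) * w ∈ S := by
          have := conj_closure w⁻¹ _ S (by
            rintro _ ⟨k, t, rfl⟩
            rw [inv_inv]
            rcases eq_or_ne k 0 with rfl | hk0
            · rw [← ho, hw, ← hwv, ← hl, ← map_inv, ← map_mul, ← map_mul]
              have : (up 1 * lo (-1⁻¹) * up 1)⁻¹ * lo t * (up 1 * lo (-1⁻¹) * up 1) = up (-t) := by
                rw [mul_assoc, inv_mul_eq_iff_eq_mul]
                refine Subtype.ext ?_
                rw [Matrix.SpecialLinearGroup.coe_mul,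
                  Matrix.SpecialLinearGroup.coe_mul (up (1 : K) * lo (-1⁻¹) * up 1) (up (-t)),
                  up_mul_lo 1 one_ne_zero]
                ext i j
                fin_cases i <;> fin_cases j <;> simp [up, lo, Matrix.mul_apply, Fin.sum_univ_two]
              rw [this, hu]
              exact hmemS _ _ _ h01 h01.symm
            · exact (hwS k hk0 t).1) _ hl'
          rwa [inv_inv] at this
        rw [show l * (h * w) = h * w * (w⁻¹ * (h⁻¹ * l * h) * w) by group, mk_eq _ _ hz]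
    have stab01 : ∀ t, ∀ ω ∈ O0 ∪ O1, x 0 o t • ω ∈ O0 ∪ O1 := by
      intro t ω hω
      rcases hω with ⟨⟨⟨l, hl0⟩, c⟩, rfl⟩ | ⟨h, hh, rfl⟩
      · set L' := Subgroup.closure {g | ∃ (k : Fin (m + 2)) (t : K), k ≠ 0 ∧ g = x k.succ 0 t}
        obtain ⟨a, ha, b, rfl⟩ : ∃ a ∈ L', ∃ b, l = a * x o 0 b := by
          induction hl0 using Subgroup.closure_induction'' with
          | mem g hg =>
            obtain ⟨k, u, rfl⟩ := hg
            rcases eq_or_ne k 0 with rfl | hk0
            · exact ⟨1, one_mem _, u, (one_mul _).symm⟩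
            · exact ⟨_, Subgroup.subset_closure ⟨k, u, hk0, rfl⟩, 0, by rw [R.zero (h0' 0), mul_one]⟩
          | inv_mem g hg =>
            obtain ⟨k, u, rfl⟩ := hg
            rw [← R.neg (h0' k)]
            rcases eq_or_ne k 0 with rfl | hk0
            · exact ⟨1, one_mem _, _, (one_mul _).symm⟩
            · exact ⟨_, Subgroup.subset_closure ⟨k, _, hk0, rfl⟩, 0, by rw [R.zero (h0' 0), mul_one]⟩
          | one => exact ⟨1, one_mem _, 0, by rw [R.zero (h0' 0), mul_one]⟩
          | mul g g' _ _ hg hg' =>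
            obtain ⟨a, ha, b, rfl⟩ := hg
            obtain ⟨a', ha', b', rfl⟩ := hg'
            refine ⟨a * a', mul_mem ha ha', b + b', ?_⟩
            have hc : x o 0 b * a' = a' * x o 0 b := by
              have : L' ≤ Subgroup.centralizer {x o 0 b} := by
                rw [Subgroup.closure_le]
                rintro _ ⟨k, u, hk0, rfl⟩
                rw [SetLike.mem_coe, Subgroup.mem_centralizer_singleton_iff]
                exact R.comm (h0' k) (h0' 0) (h0' k) (h0 0) u b
              exact (Subgroup.mem_centralizer_singleton_iff.1 (this ha')).symm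
            rw [← R.add _ _ h01.symm, mul_assoc a, ← mul_assoc (x o 0 b), hc]
            group
        show ((x 0 o t * (a * x o 0 b * dd x 0 o c) : G) : G ⧸ S) ∈ O0 ∪ O1
        have hz : x 0 o t * a * (x 0 o t)⁻¹ ∈ L ⊔ H := conj_closure _ _ _ (by
          rintro _ ⟨k, u, hk0, rfl⟩
          rw [R.conj_right h01 (h0' k) (hk k hk0)]
          exact mul_mem (Subgroup.mem_sup_right (hmemH k 0 _ hk0))
            (Subgroup.mem_sup_left (hmemL k u))) a ha
        have stabLH : ∀ z ∈ L ⊔ H, ∀ ω ∈ O0 ∪ O1, z • ω ∈ O0 ∪ O1 := by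
          intro z hz
          have hz' : z ∈ (↑(L ⊔ H) : Set G) := hz
          rw [Subgroup.coe_mul_of_right_le_normalizer_left L H (fun h hh => by
            rw [Subgroup.mem_normalizer_iff]
            exact fun a => ⟨hHL h hh a, fun ha => by simpa [mul_assoc] using hHL _ (inv_mem hh) _ ha⟩)] at hz'
          obtain ⟨p, hp, r, hr, rfl⟩ := Set.mem_mul.1 hz'
          intro ω hω
          rw [mul_smul]
          exact stabL p hp _ (stabHsub r hr _ hω)
        have hφ : x 0 o t * x o 0 b * dd x 0 o (c : K) =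
            φ (up t * lo b * (up (c : K) * lo (-(c : K)⁻¹) * up (c : K) * (up (-1) * lo (-(-1)⁻¹) * up (-1)))) := by
          rw [map_mul, map_mul, hu, hl, hdd]
        rw [show x 0 o t * (a * x o 0 b * dd x 0 o (c : K)) =
          x 0 o t * a * (x 0 o t)⁻¹ * (x 0 o t * x o 0 b * dd x 0 o c) by group, hφ]
        exact stabLH _ hz _ (phi_mem _)
      · show ((x 0 o t * (h * w) : G) : G ⧸ S) ∈ O0 ∪ O1
        have hp : h⁻¹ * x 0 o t * h ∈ P := by
          have := hHP h⁻¹ (inv_mem hh) _ (hmemP 0 t)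
          rwa [inv_inv] at this
        obtain ⟨b, a, ha, e⟩ : ∃ b, ∃ a ∈ Subgroup.closure {g | ∃ (k : Fin (m + 2)) (t : K), k ≠ 0 ∧ g = x 0 k.succ t},
            h⁻¹ * x 0 o t * h = x 0 o b * a := by
          generalize h⁻¹ * x 0 o t * h = p at hp
          induction hp using Subgroup.closure_induction'' with
          | mem g hg =>
            obtain ⟨k, u, rfl⟩ := hg
            rcases eq_or_ne k 0 with rfl | hk0
            · exact ⟨u, 1, one_mem _, (mul_one _).symm⟩
            · exact ⟨0, _, Subgroup.subset_closure ⟨k, u, hk0, rfl⟩, by rw [R.zero h01, one_mul]⟩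
          | inv_mem g hg =>
            obtain ⟨k, u, rfl⟩ := hg
            rw [← R.neg (h0 k)]
            rcases eq_or_ne k 0 with rfl | hk0
            · exact ⟨_, 1, one_mem _, (mul_one _).symm⟩
            · exact ⟨0, _, Subgroup.subset_closure ⟨k, _, hk0, rfl⟩, by rw [R.zero h01, one_mul]⟩
          | one => exact ⟨0, 1, one_mem _, by rw [R.zero h01, one_mul]⟩
          | mul g g' _ _ hg hg' =>
            obtain ⟨b, a, ha, rfl⟩ := hg
            obtain ⟨b', a', ha', rfl⟩ := hg'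
            refine ⟨b + b', a * a', mul_mem ha ha', ?_⟩
            have hc : a * x 0 o b' = x 0 o b' * a := by
              have : Subgroup.closure {g | ∃ (k : Fin (m + 2)) (t : K), k ≠ 0 ∧ g = x 0 k.succ t} ≤
                  Subgroup.centralizer {x 0 o b'} := by
                rw [Subgroup.closure_le]
                rintro _ ⟨k, u, hk0, rfl⟩
                rw [SetLike.mem_coe, Subgroup.mem_centralizer_singleton_iff]
                exact R.comm (h0 k) h01 h01 (h0' k) u b'
              exact Subgroup.mem_centralizer_singleton_iff.1 (this ha)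
            rw [← R.add _ _ h01, ← mul_assoc, mul_assoc (x 0 o b) a, hc]
            group
        rw [show x 0 o t * (h * w) = h * (h⁻¹ * x 0 o t * h) * w by group, e, ← mul_assoc]
        exact fixw h hh a ha b
    have stab : ∀ i j t, i ≠ j → ∀ ω ∈ O0 ∪ O1, x i j t • ω ∈ O0 ∪ O1 := by
      intro i j t hij ω hω
      rcases Fin.eq_zero_or_eq_succ i with rfl | ⟨i, rfl⟩
      · rcases Fin.eq_zero_or_eq_succ j with rfl | ⟨j, rfl⟩
        · exact absurd rfl hij
        rcases eq_or_ne j 0 with rfl | hj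
        · exact stab01 t ω hω
        have e := R.comm1 0 o j.succ h01 (hk j hj).symm (h0 j) t 1
        rw [mul_one] at e
        rw [← e, ← R.neg h01, ← R.neg (hk j hj).symm, mul_smul, mul_smul, mul_smul]
        exact stab01 _ _ (stabH 0 j _ hj.symm _ (stab01 _ _ (stabH 0 j _ hj.symm _ hω)))
      · rcases Fin.eq_zero_or_eq_succ j with rfl | ⟨j, rfl⟩
        · exact stabL _ (hmemL i t) ω hω
        · exact stabH i j t (fun e => hij (by rw [e])) ω hω
    have huniv : O0 ∪ O1 = Set.univ := by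
      refine Set.eq_univ_of_forall fun ω => ?_
      obtain ⟨g, rfl⟩ := QuotientGroup.mk_surjective ω
      have hone : ((1 : G) : G ⧸ S) ∈ O0 ∪ O1 := by simpa using phi_mem 1
      have hg : g ∈ Subgroup.closure {g | ∃ i j t, i ≠ j ∧ g = x i j t} := hgen ▸ Subgroup.mem_top g
      have key : ∀ ω ∈ O0 ∪ O1, g • ω ∈ O0 ∪ O1 := by
        induction hg using Subgroup.closure_induction'' with
        | mem g hg => obtain ⟨i, j, t, hij, rfl⟩ := hg; exact stab i j t hij
        | inv_mem g hg => obtain ⟨i, j, t, hij, rfl⟩ := hg; rw [← R.neg hij]; exact stab i j _ hij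
        | one => intro ω hω; rwa [one_smul]
        | mul g g' _ _ hg hg' => intro ω hω; rw [mul_smul]; exact hg _ (hg' _ hω)
      simpa using key _ hone
    -- counting
    have hy0 : ∀ a ∈ stabSub y, w⁻¹ * (a : G) * w ∈ S := by
      intro a ha
      have hle : stabSub y ≤ (S.comap (MulAut.conj w⁻¹).toMonoidHom).comap H.subtype := by
        rw [stabSub, Subgroup.closure_le]
        rintro _ ⟨i, j, t, hij, hj, rfl⟩
        show w⁻¹ * (y i j t : G) * w⁻¹⁻¹ ∈ S
        rw [hy i j hij, inv_inv]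
        rcases eq_or_ne i 0 with rfl | hi
        · have e := R.wv_ik h01 (h0' j) (hk j hj) one_ne_zero (-t)
          rw [inv_one, one_mul, neg_neg] at e
          rw [← ho, ← e, show w⁻¹ * (wv x 0 o 1 * x 0 j.succ (-t) * (wv x 0 o 1)⁻¹) * w = x 0 j.succ (-t) by
            rw [hw]; group]
          exact hmemS _ _ _ (h0 j) (h0' j)
        · rw [show x i.succ j.succ t = wv x 0 o 1 * x i.succ j.succ t * (wv x 0 o 1)⁻¹ by
            have a := R.conj_fix h01 (hsucc hij) (h0 j) (hk i hi).symm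
            have b := R.conj_fix h01.symm (hsucc hij) (hk j hj).symm (h0 i)
            symm
            calc _ = x 0 o 1 * (x o 0 (-(1 : K)⁻¹) * (x 0 o 1 * x i.succ j.succ t * (x 0 o 1)⁻¹) *
                  (x o 0 (-(1 : K)⁻¹))⁻¹) * (x 0 o 1)⁻¹ := by rw [wv]; group
              _ = _ := by rw [a, b, a],
            show w⁻¹ * (wv x 0 o 1 * x i.succ j.succ t * (wv x 0 o 1)⁻¹) * w = x i.succ j.succ t by
              rw [hw]; group]
          exact hmemS _ _ _ (hsucc hij) (h0' j)
      have h2 : w⁻¹ * (a : G) * w⁻¹⁻¹ ∈ S := hle ha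
      rwa [inv_inv] at h2
    let f1 : H ⧸ stabSub y → G ⧸ S := Quotient.lift (fun h : H => (((h : G) * w : G) : G ⧸ S)) fun a b hab => by
      have hab' : a⁻¹ * b ∈ stabSub y := QuotientGroup.leftRel_apply.1 hab
      refine QuotientGroup.eq.2 ?_
      have := hy0 _ hab'
      simpa [mul_assoc] using this
    let f : (L × Kˣ) ⊕ (H ⧸ stabSub y) → G ⧸ S :=
      Sum.elim (fun p => ((p.1.1 * dd x 0 o (p.2 : K) : G) : G ⧸ S)) f1
    have hf : Function.Surjective f := by
      intro ω
      rcases (huniv ▸ Set.mem_univ ω : ω ∈ O0 ∪ O1) with ⟨p, rfl⟩ | ⟨h, hh, rfl⟩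
      · exact ⟨Sum.inl p, rfl⟩
      · exact ⟨Sum.inr (QuotientGroup.mk (⟨h, hh⟩ : H)), rfl⟩
    have : Finite (G ⧸ S) := Finite.of_surjective f hf
    have hidx : S.index ≤ Fintype.card K ^ (m + 3) - 1 := by
      rw [Subgroup.index_eq_card]
      refine (Nat.card_le_card_of_surjective f hf).trans ?_
      rw [Nat.card_sum, Nat.card_prod, ← Subgroup.index_eq_card, Nat.card_units,
        Nat.card_eq_fintype_card (α := K)]
      rw [Nat.card_eq_fintype_card (α := K)] at hLcard
      have h2 := Nat.mul_le_mul_right (Fintype.card K - 1) hLcard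
      have h3 : 1 ≤ Fintype.card K ^ (m + 2) := Nat.one_le_pow _ _ Fintype.card_pos
      rw [Nat.mul_sub_one, Nat.mul_sub_one, ← pow_succ] at h2
      rw [Nat.mul_sub_one]
      have h4 : Fintype.card K ^ (m + 2) ≤ Fintype.card K ^ (m + 2 + 1) :=
        Nat.pow_le_pow_right Fintype.card_pos (by omega)
      rw [show m + 3 = m + 2 + 1 from rfl]
      omega
    have hnorm : H ≤ Subgroup.normalizer (P : Set G) := fun h hh => by
      rw [Subgroup.mem_normalizer_iff]
      exact fun a => ⟨hHP h hh a, fun ha => by simpa [mul_assoc] using hHP _ (inv_mem hh) _ ha⟩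
    obtain ⟨hSfin, hPH⟩ := card_sup_le (K := K) hnorm
    have hSle : S ≤ P ⊔ H := by
      rw [hS, stabSub, Subgroup.closure_le]
      rintro _ ⟨i, j, t, hij, hj, rfl⟩
      obtain ⟨j, rfl⟩ := Fin.exists_succ_eq.2 hj
      rcases Fin.eq_zero_or_eq_succ i with rfl | ⟨i, rfl⟩
      · exact Subgroup.mem_sup_left (hmemP j t)
      · exact Subgroup.mem_sup_right (hmemH i j t fun e => hij (by rw [e]))
    have := Finite.of_injective _ (Subgroup.inclusion_injective hSle)
    have : Finite G := Finite.of_subgroup_quotient S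
    refine ⟨this, hidx, ?_⟩
    rw [← S.card_mul_index, show m + 1 + 2 = (m + 2) + 1 from rfl, slCard_succ (by omega), mul_comm]
    refine Nat.mul_le_mul hidx ((Nat.card_le_card_of_injective _ (Subgroup.inclusion_injective hSle)).trans
      (hPH.trans (Nat.mul_le_mul ?_ hHcard)))
    rwa [Nat.card_eq_fintype_card (α := K)] at hPcard

theorem rank1_of_fam {n : ℕ} (hn : 3 ≤ n) [Finite K] {x : Fin n → Fin n → K → G} (R : Fam x) : Rank1 x := by
  intro i j hij
  obtain ⟨e, he1, he2⟩ := SL2St.present (K := K)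
  have third : ∀ a b : Fin n, ∃ k : Fin n, k ≠ a ∧ k ≠ b := fun a b => by
    have h : ({a, b} : Finset (Fin n))ᶜ.Nonempty := Finset.card_pos.1 (by
      rw [Finset.card_compl, Fintype.card_fin]
      have := Finset.card_le_two (a := a) (b := b)
      omega)
    obtain ⟨k, hk⟩ := h
    simp only [Finset.mem_compl, Finset.mem_insert, Finset.mem_singleton, not_or] at hk
    exact ⟨k, hk⟩
  let f : Bool × K → G := fun p => if p.1 then x i j p.2 else x j i p.2
  have hrel : ∀ r ∈ ({g : FreeGroup (Bool × K) | ∃ (b : Bool) (t u : K), g = FreeGroup.of (b, t) * FreeGroup.of (b, u) * (FreeGroup.of (b, t + u))⁻¹} ∪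
      {g | ∃ (b : Bool) (t u : K), t ≠ 0 ∧
        g = (FreeGroup.of (b, t) * FreeGroup.of (!b, -t⁻¹) * FreeGroup.of (b, t)) * FreeGroup.of (b, u) *
              (FreeGroup.of (b, t) * FreeGroup.of (!b, -t⁻¹) * FreeGroup.of (b, t))⁻¹ * (FreeGroup.of (!b, -(t⁻¹ ^ 2 * u)))⁻¹}),
      FreeGroup.lift f r = 1 := by
    rintro r (⟨b, t, u, rfl⟩ | ⟨b, t, u, ht, rfl⟩) <;>
      simp only [map_mul, map_inv, FreeGroup.lift_apply_of, f] <;> cases b
    · simp [R.add j i hij.symm]
    · simp [R.add i j hij]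
    · obtain ⟨k, hki, hkj⟩ := third j i
      simp only [Bool.not_false, if_true, if_false, Bool.false_eq_true]
      rw [mul_inv_eq_one]
      exact R.wv_ij hij.symm hki hkj ht u
    · obtain ⟨k, hki, hkj⟩ := third i j
      simp only [Bool.not_true, if_true, if_false, Bool.false_eq_true]
      rw [mul_inv_eq_one]
      exact R.wv_ij hij hki hkj ht u
  refine ⟨(PresentedGroup.toGroup hrel).comp e.symm.toMonoidHom, fun t => ?_, fun t => ?_⟩
  · have : e.symm (up t) = PresentedGroup.of (true, t) := by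
      rw [MulEquiv.symm_apply_eq]; exact Subtype.ext (he1 t).symm
    show PresentedGroup.toGroup hrel (e.symm (up t)) = _
    rw [this, PresentedGroup.toGroup.of]
    rfl
  · have : e.symm (lo t) = PresentedGroup.of (false, t) := by
      rw [MulEquiv.symm_apply_eq]; exact Subtype.ext (he2 t).symm
    show PresentedGroup.toGroup hrel (e.symm (lo t)) = _
    rw [this, PresentedGroup.toGroup.of]
    rfl

theorem present [Finite K] (n : ℕ) (hn : 3 ≤ n) :
    ∃ e : PresentedGroup
        ({g : FreeGroup ({ij : Fin n × Fin n // ij.1 ≠ ij.2} × K) | ∃ (a : {ij : Fin n × Fin n // ij.1 ≠ ij.2}) (t u : K),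
            g = FreeGroup.of (a, t) * FreeGroup.of (a, u) * (FreeGroup.of (a, t + u))⁻¹} ∪
          {g | ∃ (a b : {ij : Fin n × Fin n // ij.1 ≠ ij.2}) (t u : K), a.1.1 ≠ b.1.2 ∧ a.1.2 ≠ b.1.1 ∧
            g = FreeGroup.of (a, t) * FreeGroup.of (b, u) * (FreeGroup.of (a, t))⁻¹ * (FreeGroup.of (b, u))⁻¹} ∪
          {g | ∃ (a b : {ij : Fin n × Fin n // ij.1 ≠ ij.2}) (h : a.1.1 ≠ b.1.2) (t u : K), a.1.2 = b.1.1 ∧
            g = FreeGroup.of (a, t) * FreeGroup.of (b, u) * (FreeGroup.of (a, t))⁻¹ * (FreeGroup.of (b, u))⁻¹ *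
              (FreeGroup.of (⟨(a.1.1, b.1.2), h⟩, t * u))⁻¹}) ≃* Matrix.SpecialLinearGroup (Fin n) K,
      ∀ (a : {ij : Fin n × Fin n // ij.1 ≠ ij.2}) (t : K), ((e (PresentedGroup.of (a, t)) : Matrix (Fin n) (Fin n) K)) = Matrix.transvection a.1.1 a.1.2 t := by
  classical
  have := Fintype.ofFinite K
  set rels : Set (FreeGroup ({ij : Fin n × Fin n // ij.1 ≠ ij.2} × K)) := _ ∪ _ ∪ _ with hrels
  let f : {ij : Fin n × Fin n // ij.1 ≠ ij.2} × K → Matrix.SpecialLinearGroup (Fin n) K := fun p =>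
    Matrix.SpecialLinearGroup.transvection p.1.2 p.2
  have hrel : ∀ r ∈ rels, FreeGroup.lift f r = 1 := by
    rintro r ((⟨a, t, u, rfl⟩ | ⟨a, b, t, u, h1, h2, rfl⟩) | ⟨a, b, h, t, u, h2, rfl⟩) <;>
      simp only [map_mul, map_inv, FreeGroup.lift_apply_of, f]
    · rw [mul_inv_eq_one]
      exact Subtype.ext (Matrix.transvection_mul_transvection_same a.1.1 a.1.2 a.2 t u)
    · rw [mul_inv_eq_one, mul_inv_eq_iff_eq_mul]
      refine Subtype.ext ?_
      simp only [Matrix.SpecialLinearGroup.coe_mul, Matrix.SpecialLinearGroup.transvection_coe]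
      simp [Matrix.transvection, mul_add, add_mul, h1.symm, h2, Matrix.single_mul_single_of_ne, add_assoc, add_left_comm, add_comm]
    · rw [mul_inv_eq_one, mul_inv_eq_iff_eq_mul, mul_inv_eq_iff_eq_mul]
      refine Subtype.ext ?_
      obtain ⟨⟨i, j⟩, hij⟩ := a
      obtain ⟨⟨j', k⟩, hjk⟩ := b
      simp only at h2 hij hjk h
      subst h2
      simp only [Matrix.SpecialLinearGroup.coe_mul, Matrix.SpecialLinearGroup.transvection_coe]
      simp [Matrix.transvection, mul_add, add_mul, h.symm, hij.symm, hjk.symm, Matrix.single_mul_single_of_ne, add_assoc, add_left_comm, add_comm]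
  let Φ : PresentedGroup rels →* Matrix.SpecialLinearGroup (Fin n) K := PresentedGroup.toGroup hrel
  have hΦ : ∀ p, Φ (PresentedGroup.of p) = f p := fun p => PresentedGroup.toGroup.of hrel
  let x : Fin n → Fin n → K → PresentedGroup rels := fun i j t =>
    if h : i ≠ j then PresentedGroup.of (⟨(i, j), h⟩, t) else 1
  have hx : ∀ i j (h : i ≠ j) t, x i j t = PresentedGroup.of (⟨(i, j), h⟩, t) := fun i j h t => dif_pos h
  have hR : Fam x :=
    { add := fun i j h t u => by
        rw [hx i j h, hx i j h, hx i j h]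
        exact PresentedGroup.mk_eq_mk_of_mul_inv_mem (Or.inl (Or.inl ⟨⟨(i, j), h⟩, t, u, rfl⟩))
      comm0 := fun i j k l a b c d t u => by
        rw [hx i j a, hx k l b]
        exact PresentedGroup.one_of_mem (Or.inl (Or.inr ⟨⟨(i, j), a⟩, ⟨(k, l), b⟩, t, u, c, d, rfl⟩))
      comm1 := fun i j k a b c t u => by
        rw [hx i j a, hx j k b, hx i k c]
        exact PresentedGroup.mk_eq_mk_of_mul_inv_mem (Or.inr ⟨⟨(i, j), a⟩, ⟨(j, k), b⟩, c, t, u, rfl, rfl⟩) }
  have hgen : Subgroup.closure {g | ∃ i j t, i ≠ j ∧ g = x i j t} = ⊤ := by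
    rw [← top_le_iff, ← PresentedGroup.closure_range_of rels]
    refine Subgroup.closure_mono ?_
    rintro _ ⟨⟨⟨⟨i, j⟩, h⟩, t⟩, rfl⟩
    exact ⟨i, j, t, h, (hx i j h t).symm⟩
  have hsurj : Function.Surjective Φ := by
    rw [← MonoidHom.range_eq_top]
    exact CfsgLib.Classical.sl_transvection_induction Φ.range
      fun i j hij c => ⟨PresentedGroup.of (⟨(i, j), hij⟩, c), hΦ _⟩
  obtain ⟨m, rfl⟩ : ∃ m, n = m + 2 := ⟨n - 2, by omega⟩
  obtain ⟨hfin, -, hle⟩ := bound m _ x hR (rank1_of_fam hn hR) hgen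
  refine ⟨MulEquiv.ofBijective Φ ((Nat.bijective_iff_surjective_and_card Φ).2
    ⟨hsurj, le_antisymm hle (Nat.card_le_card_of_surjective _ hsurj)⟩), fun a t => ?_⟩
  show ((Φ (PresentedGroup.of (a, t)) : Matrix (Fin (m + 2)) (Fin (m + 2)) K)) = _
  rw [hΦ]
  rfl

end CfsgLib.KnownB.SLnSt
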