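import Cfsg.Agent.Lib.KnownB.SSClass

/-!
# `p'`-elements of `GL_n(q)` and `SL_n(q)`: classes are characteristic polynomials
-/

set_option autoImplicit false
set_option linter.unusedSectionVars false

namespace CfsgLib.KnownB.SSClass

open Polynomial Module Matrix
open scoped MatrixGroups

universe u

variable {F : Type u} [Field F] [Fintype F] (p : ℕ) [Fact p.Prime] [CharP F p] {n : ℕ}

local notation "GLn" => GL (Fin n) F
local notation "SLn" => Matrix.SpecialLinearGroup (Fin n) F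
local notation "Mn" => Matrix (Fin n) (Fin n) F
local notation "T" => Matrix.toLinAlgEquiv' (R := F) (n := Fin n)

theorem ss_iff_coprime (g : GLn) : SS (T (g : Mn)) ↔ (orderOf g).Coprime p := by
  obtain ⟨m, hp, hm⟩ := FiniteField.card F p
  have hcard : Nat.card F = p ^ (m : ℕ) := by rw [Nat.card_eq_fintype_card, hm]
  have key : ∀ e : ℕ, T (g : Mn) ^ e = T (g : Mn) ↔ g ^ e = g := fun e => by
    rw [← map_pow, (Matrix.toLinAlgEquiv' (R := F) (n := Fin n)).injective.eq_iff,
      ← Units.val_pow_eq_pow_val]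
    exact ⟨fun h => Units.ext h, fun h => congrArg Units.val h⟩
  constructor
  · rintro ⟨N, hN, h⟩
    rw [key] at h
    have hq : 1 ≤ Nat.card F ^ N := Nat.one_le_pow _ _ Nat.card_pos
    have h1 : g ^ (Nat.card F ^ N - 1) = 1 := by
      apply mul_right_cancel (b := g)
      rw [← pow_succ, Nat.sub_add_cancel hq, h, one_mul]
    refine Nat.Coprime.coprime_dvd_left (orderOf_dvd_of_pow_eq_one h1) (Nat.Coprime.symm ?_)
    rw [hp.coprime_iff_not_dvd]
    intro hd
    have hd' : p ∣ Nat.card F ^ N := by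
      rw [hcard, ← pow_mul]; exact dvd_pow_self p (Nat.mul_ne_zero m.ne_zero hN.ne')
    have := Nat.dvd_sub hd' hd
    rw [show Nat.card F ^ N - (Nat.card F ^ N - 1) = 1 by omega] at this
    exact hp.one_lt.ne' (Nat.dvd_one.mp this)
  · intro h
    have hpos : 0 < orderOf g := orderOf_pos g
    refine ⟨(orderOf g).totient, Nat.totient_pos.mpr hpos, (key _).mpr ?_⟩
    have hcop : (Nat.card F).Coprime (orderOf g) := by
      rw [hcard]; exact Nat.Coprime.pow_left _ h.symm
    have := Nat.ModEq.pow_totient hcop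
    calc g ^ (Nat.card F ^ (orderOf g).totient) = g ^ 1 := pow_eq_pow_iff_modEq.mpr this
      _ = g := pow_one g

omit [Fintype F] in
theorem charpoly_toLin (A : Mn) : (T A).charpoly = A.charpoly := by
  exact Matrix.charpoly_toLin' A

theorem gl_isConj_of_charpoly {g h : GLn} (hg : (orderOf g).Coprime p) (hh : (orderOf h).Coprime p)
    (hc : (g : Mn).charpoly = (h : Mn).charpoly) : IsConj g h := by
  obtain ⟨e, he⟩ := exists_conj n (T (g : Mn)) (T (h : Mn)) (by simp) ((ss_iff_coprime p g).mpr hg)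
    ((ss_iff_coprime p h).mpr hh) (by rw [charpoly_toLin, charpoly_toLin, hc])
  obtain ⟨E, hE⟩ := (LinearMap.toMatrixAlgEquiv' (R := F) (n := Fin n)).symm.surjective
    (e.toLinearMap)
  obtain ⟨E', hE'⟩ := (LinearMap.toMatrixAlgEquiv' (R := F) (n := Fin n)).symm.surjective
    (e.symm.toLinearMap)
  have hTi : Function.Injective T := (Matrix.toLinAlgEquiv' (R := F) (n := Fin n)).injective
  have hE1 : T E = e.toLinearMap := hE
  have hE2 : T E' = e.symm.toLinearMap := hE'
  have h1 : E * E' = 1 := hTi (by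
    rw [map_mul, map_one, hE1, hE2]
    exact LinearMap.ext fun x => e.apply_symm_apply x)
  have h2 : E' * E = 1 := hTi (by
    rw [map_mul, map_one, hE1, hE2]
    exact LinearMap.ext fun x => e.symm_apply_apply x)
  refine isConj_iff.mpr ⟨⟨E, E', h1, h2⟩, ?_⟩
  rw [mul_inv_eq_iff_eq_mul]
  refine Units.ext (hTi ?_)
  rw [Units.val_mul, Units.val_mul, map_mul, map_mul]
  show T E * T (g : Mn) = T (h : Mn) * T E
  rw [hE1]
  exact LinearMap.ext fun x => (he x).symm

theorem exists_gl {f : F[X]} (hf : f.Monic) (hn : f.natDegree = n) (h0 : f.coeff 0 ≠ 0) :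
    ∃ g : GLn, (orderOf g).Coprime p ∧ (g : Mn).charpoly = f := by
  obtain ⟨φ, hφ, hc⟩ := exists_ss (F := F) n f hf hn
  obtain ⟨A, rfl⟩ := (Matrix.toLinAlgEquiv' (R := F) (n := Fin n)).surjective φ
  rw [charpoly_toLin] at hc
  have hdet : A.det ≠ 0 := by
    rw [Matrix.det_eq_sign_charpoly_coeff, hc]
    exact mul_ne_zero (pow_ne_zero _ (neg_ne_zero.mpr one_ne_zero)) h0
  exact ⟨Matrix.GeneralLinearGroup.mkOfDetNeZero A hdet, (ss_iff_coprime p _).mp hφ, hc⟩

/-- The centraliser of a `p'`-element of `GL_n` has all determinants. -/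
theorem exists_comm_det_gl (hn : 0 < n) {g : GLn} (hg : (orderOf g).Coprime p) {c : F} (hc : c ≠ 0) :
    ∃ d : GLn, d * g = g * d ∧ (d : Mn).det = c := by
  obtain ⟨φ, hφ, hd⟩ := exists_comm_det ((ss_iff_coprime p g).mpr hg) (by simpa using hn) hc
  obtain ⟨A, rfl⟩ := (Matrix.toLinAlgEquiv' (R := F) (n := Fin n)).surjective φ
  have hdet : A.det = c := by rw [← hd]; exact (LinearMap.det_toLin' A).symm
  refine ⟨Matrix.GeneralLinearGroup.mkOfDetNeZero A (hdet ▸ hc), Units.ext ?_, hdet⟩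
  exact (Matrix.toLinAlgEquiv' (R := F) (n := Fin n)).injective (by
    rw [Units.val_mul, Units.val_mul, map_mul, map_mul]; exact hφ)

theorem sl_isConj_of_charpoly {g h : SLn} (hg : (orderOf g).Coprime p) (hh : (orderOf h).Coprime p)
    (hc : (g : Mn).charpoly = (h : Mn).charpoly) : IsConj g h := by
  rcases Nat.eq_zero_or_pos n with rfl | hn
  · rw [Subsingleton.elim g h]
  let ι : SLn →* GLn := Matrix.SpecialLinearGroup.toGL
  have hι : Function.Injective ι := Matrix.SpecialLinearGroup.toGL_injective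
  have hg' : (orderOf (ι g)).Coprime p := by rwa [orderOf_injective ι hι]
  have hh' : (orderOf (ι h)).Coprime p := by rwa [orderOf_injective ι hι]
  obtain ⟨x, hx⟩ := isConj_iff.mp (gl_isConj_of_charpoly p hg' hh' hc)
  have hxd : (x : Mn).det ≠ 0 := by
    rw [← Matrix.GeneralLinearGroup.val_det_apply]; exact Units.ne_zero _
  obtain ⟨d, hd, hdd⟩ := exists_comm_det_gl p hn hg' (inv_ne_zero hxd)
  have hdet : ((x * d : GLn) : Mn).det = 1 := by
    rw [Units.val_mul, Matrix.det_mul, hdd, mul_inv_cancel₀ hxd]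
  obtain ⟨y, hy⟩ : ∃ y : SLn, ι y = x * d := ⟨⟨_, hdet⟩, Units.ext rfl⟩
  refine isConj_iff.mpr ⟨y, hι ?_⟩
  rw [map_mul, map_mul, map_inv, hy, ← hx]
  calc x * d * ι g * (x * d)⁻¹ = x * ((d * ι g) * d⁻¹) * x⁻¹ := by group
    _ = _ := by rw [hd, mul_inv_cancel_right]

omit [Fintype F] in
theorem charpoly_isConj {g h : GLn} (hc : IsConj g h) : (g : Mn).charpoly = (h : Mn).charpoly := by
  obtain ⟨x, rfl⟩ := isConj_iff.mp hc
  rw [Units.val_mul, Units.val_mul, Matrix.coe_units_inv, Matrix.charpoly_units_conj]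

/-- Monic polynomials of degree `n` and their lower coefficients. -/
noncomputable def monicEquiv : {f : F[X] // f.Monic ∧ f.natDegree = n} ≃ (Fin n → F) :=
  (Polynomial.monicEquivDegreeLT n).trans (Polynomial.degreeLTEquiv F n).toEquiv

omit [Fintype F] in
theorem monicEquiv_zero (f : {f : F[X] // f.Monic ∧ f.natDegree = n}) (hn : 0 < n) :
    monicEquiv f ⟨0, hn⟩ = f.1.coeff 0 := by
  show (f.1.eraseLead).coeff 0 = f.1.coeff 0
  rw [Polynomial.eraseLead_coeff_of_ne]
  rw [f.2.2]; omega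

theorem natCard_coeff (hn : 0 < n) (P : F → Prop) :
    Nat.card {f : {f : F[X] // f.Monic ∧ f.natDegree = n} // P (f.1.coeff 0)} =
      Nat.card {a : F // P a} * Fintype.card F ^ (n - 1) := by
  classical
  obtain ⟨m, rfl⟩ : ∃ m, n = m + 1 := ⟨n - 1, by omega⟩
  have e : {f : {f : F[X] // f.Monic ∧ f.natDegree = m + 1} // P (f.1.coeff 0)} ≃
      {a : F // P a} × (Fin m → F) :=
    (Equiv.subtypeEquiv ((monicEquiv (F := F) (n := m + 1)).trans
      (Fin.consEquiv fun _ => F).symm) (q := fun x : F × (Fin m → F) => P x.1) fun f => by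
        have : ((Fin.consEquiv fun _ => F).symm (monicEquiv f)).1 = f.1.coeff 0 :=
          monicEquiv_zero f hn
        simp only [Equiv.trans_apply]
        rw [this]).trans
      { toFun := fun x => (⟨x.1.1, x.2⟩, x.1.2)
        invFun := fun y => ⟨(y.1.1, y.2), y.1.2⟩
        left_inv := fun _ => rfl
        right_inv := fun _ => rfl }
  rw [Nat.card_congr e, Nat.card_prod, Nat.card_pi, Finset.prod_const, Finset.card_univ,
    Fintype.card_fin, Nat.card_eq_fintype_card (α := F), Nat.add_sub_cancel]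

theorem natCard_classes_gl (hn : 0 < n) :
    Nat.card {c : ConjClasses GLn // ∃ g : GLn, ConjClasses.mk g = c ∧ (orderOf g).Coprime p} =
      (Fintype.card F - 1) * Fintype.card F ^ (n - 1) := by
  classical
  have hnz : Nat.card {a : F // a ≠ 0} = Fintype.card F - 1 := by
    rw [← Nat.card_congr unitsEquivNeZero, Nat.card_units, Nat.card_eq_fintype_card]
  rw [← hnz, ← natCard_coeff hn]
  let cp : ConjClasses GLn → F[X] :=
    Quotient.lift (fun g => (g : Mn).charpoly) fun a b h => charpoly_isConj h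
  have hcp : ∀ g : GLn, cp (ConjClasses.mk g) = (g : Mn).charpoly := fun g => rfl
  refine Nat.card_congr (Equiv.ofBijective (fun c => ⟨⟨cp c.1, ?_⟩, ?_⟩) ⟨?_, ?_⟩)
  · obtain ⟨g, hg⟩ := ConjClasses.mk_surjective c.1
    rw [← hg, hcp]
    exact ⟨Matrix.charpoly_monic _, by rw [Matrix.charpoly_natDegree_eq_dim, Fintype.card_fin]⟩
  · obtain ⟨g, hg⟩ := ConjClasses.mk_surjective c.1
    show (cp c.1).coeff 0 ≠ 0
    rw [← hg, hcp]
    intro h0
    have hd : (g : Mn).det = 0 := by rw [Matrix.det_eq_sign_charpoly_coeff, h0, mul_zero]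
    rw [← Matrix.GeneralLinearGroup.val_det_apply] at hd
    exact Units.ne_zero _ hd
  · rintro ⟨_, g, rfl, hg⟩ ⟨_, h, rfl, hh⟩ he
    have := congrArg (fun x => x.1.1) he
    simp only [hcp] at this
    exact Subtype.ext (ConjClasses.mk_eq_mk_iff_isConj.mpr (gl_isConj_of_charpoly p hg hh this))
  · rintro ⟨⟨f, hf, hfn⟩, h0⟩
    obtain ⟨g, hg, hgc⟩ := exists_gl p hf hfn h0
    exact ⟨⟨ConjClasses.mk g, g, rfl, hg⟩, Subtype.ext (Subtype.ext hgc)⟩

theorem natCard_classes_sl (hn : 0 < n) :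
    Nat.card {c : ConjClasses SLn // ∃ g : SLn, ConjClasses.mk g = c ∧ (orderOf g).Coprime p} =
      Fintype.card F ^ (n - 1) := by
  classical
  have h1 : Nat.card {a : F // a = (-1) ^ n} = 1 := Nat.card_unique
  have := natCard_coeff (F := F) hn (fun a => a = (-1) ^ n)
  rw [h1, one_mul] at this
  rw [← this]
  have hsign : ((-1 : F) ^ n) * (-1) ^ n = 1 := by rw [← mul_pow, neg_one_mul, neg_neg, one_pow]
  let cp : ConjClasses SLn → F[X] :=
    Quotient.lift (fun g => (g : Mn).charpoly) fun a b h =>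
      charpoly_isConj (g := Matrix.SpecialLinearGroup.toGL a) (h := Matrix.SpecialLinearGroup.toGL b)
        (MonoidHom.map_isConj Matrix.SpecialLinearGroup.toGL h)
  have hcp : ∀ g : SLn, cp (ConjClasses.mk g) = (g : Mn).charpoly := fun g => rfl
  refine Nat.card_congr (Equiv.ofBijective (fun c => ⟨⟨cp c.1, ?_⟩, ?_⟩) ⟨?_, ?_⟩)
  · obtain ⟨g, hg⟩ := ConjClasses.mk_surjective c.1
    rw [← hg, hcp]
    exact ⟨Matrix.charpoly_monic _, by rw [Matrix.charpoly_natDegree_eq_dim, Fintype.card_fin]⟩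
  · obtain ⟨g, hg⟩ := ConjClasses.mk_surjective c.1
    show (cp c.1).coeff 0 = (-1) ^ n
    rw [← hg, hcp]
    have hd := Matrix.det_eq_sign_charpoly_coeff (g : Mn)
    rw [g.2, Fintype.card_fin] at hd
    calc (g : Mn).charpoly.coeff 0 = ((-1) ^ n * (-1) ^ n) * (g : Mn).charpoly.coeff 0 := by
          rw [hsign, one_mul]
      _ = _ := by rw [mul_assoc, ← hd, mul_one]
  · rintro ⟨_, g, rfl, hg⟩ ⟨_, h, rfl, hh⟩ he
    have := congrArg (fun x => x.1.1) he
    simp only [hcp] at this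
    exact Subtype.ext (ConjClasses.mk_eq_mk_iff_isConj.mpr (sl_isConj_of_charpoly p hg hh this))
  · rintro ⟨⟨f, hf, hfn⟩, h0⟩
    have h0' : f.coeff 0 = (-1) ^ n := h0
    obtain ⟨g, hg, hgc⟩ := exists_gl p hf hfn (by
      rw [h0']; exact pow_ne_zero _ (neg_ne_zero.mpr one_ne_zero))
    have hdet : (g : Mn).det = 1 := by
      rw [Matrix.det_eq_sign_charpoly_coeff, hgc, h0', Fintype.card_fin, hsign]
    obtain ⟨y, hy⟩ : ∃ y : SLn, Matrix.SpecialLinearGroup.toGL y = g := ⟨⟨_, hdet⟩, Units.ext rfl⟩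
    have hord : (orderOf y).Coprime p := by
      rw [← orderOf_injective Matrix.SpecialLinearGroup.toGL Matrix.SpecialLinearGroup.toGL_injective,
        hy]
      exact hg
    refine ⟨⟨ConjClasses.mk y, y, rfl, hord⟩, Subtype.ext (Subtype.ext ?_)⟩
    show (y : Mn).charpoly = f
    rw [← hgc, ← hy]
    rfl

end CfsgLib.KnownB.SSClass
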