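import Mathlib

/-!
Weighted compositions `∑ (i + l) * a l = r`, the weight of `a` being the number of tuples of monic
polynomials of degrees `a l` with non-zero constant terms. The weighted count is at most `q ^ r`, by a
telescoping induction on the smallest part.
-/

set_option autoImplicit false

namespace CfsgLib.KnownB.ClassNum

open Finset

/-- Monic polynomials of degree `a` with non-zero constant term, over a field with `q` elements. -/
def wt (q a : ℕ) : ℕ := if a = 0 then 1 else (q - 1) * q ^ (a - 1)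

/-- Weighted number of compositions of `r` with parts `i, …, i + L - 1`. -/
def sumWt (q : ℕ) : ℕ → ℕ → ℕ → ℕ
  | _, 0, r => if r = 0 then 1 else 0
  | i, L + 1, r => ∑ a ∈ range (r / i + 1), wt q a * sumWt q (i + 1) L (r - i * a)

/-- The compositions. -/
def comps (i L r : ℕ) : Finset (Fin L → ℕ) :=
  (Fintype.piFinset fun _ => range (r + 1)).filter fun a => ∑ l : Fin L, (i + (l : ℕ)) * a l = r

theorem mem_comps {i L r : ℕ} (hi : 1 ≤ i) {a : Fin L → ℕ} :
    a ∈ comps i L r ↔ ∑ l : Fin L, (i + (l : ℕ)) * a l = r := by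
  refine ⟨fun h => (mem_filter.1 h).2, fun h => mem_filter.2 ⟨Fintype.mem_piFinset.2 fun l =>
    mem_range.2 (Nat.lt_succ_of_le ?_), h⟩⟩
  rw [← h]
  refine le_trans ?_ (single_le_sum (f := fun l : Fin L => (i + (l : ℕ)) * a l)
    (fun _ _ => Nat.zero_le _) (mem_univ l))
  exact Nat.le_mul_of_pos_left _ (by omega)

theorem sum_comps (q : ℕ) : ∀ L i r : ℕ, 1 ≤ i →
    ∑ a ∈ comps i L r, ∏ l, wt q (a l) = sumWt q i L r := by
  intro L
  induction L with
  | zero =>
    intro i r hi
    rw [sumWt]
    split_ifs with h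
    · rw [show comps i 0 r = {Fin.elim0} from Finset.ext fun a => by
        simp [mem_comps hi, h, Subsingleton.elim a Fin.elim0]]
      simp
    · rw [show comps i 0 r = ∅ from Finset.ext fun a => by
        simp [mem_comps hi, Ne.symm h]]
      simp
  | succ L ih =>
    intro i r hi
    rw [sumWt]
    simp only [← fun b => ih (i + 1) b (by omega), mul_sum]
    rw [sum_sigma']
    refine sum_bij' (fun a _ => ⟨a 0, Fin.tail a⟩) (fun p _ => Fin.cons p.1 p.2) ?_ ?_ ?_ ?_ ?_
    · intro a ha
      rw [mem_comps hi, Fin.sum_univ_succ] at ha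
      simp only [Fin.val_zero, add_zero, Fin.val_succ] at ha
      rw [mem_sigma, mem_range, mem_comps (by omega)]
      refine ⟨Nat.lt_succ_of_le ((Nat.le_div_iff_mul_le (by omega)).2 ?_), ?_⟩
      · show a 0 * i ≤ r
        rw [mul_comm]; omega
      · calc ∑ l : Fin L, (i + 1 + (l : ℕ)) * Fin.tail a l
            = ∑ l : Fin L, (i + ((l : ℕ) + 1)) * a l.succ :=
              Finset.sum_congr rfl fun l _ => by rw [Fin.tail]; congr 1; omega
          _ = r - i * a 0 := by omega
    · intro p hp
      rw [mem_sigma, mem_range, mem_comps (by omega)] at hp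
      rw [mem_comps hi, Fin.sum_univ_succ]
      simp only [Fin.cons_zero, Fin.cons_succ, Fin.val_zero, add_zero, Fin.val_succ]
      have h2 : i * p.1 ≤ r := by
        have := (Nat.le_div_iff_mul_le (show 0 < i by omega)).1 (Nat.le_of_lt_succ hp.1)
        rwa [mul_comm]
      rw [Finset.sum_congr rfl (fun (l : Fin L) _ => by
        rw [show i + ((l : ℕ) + 1) = i + 1 + (l : ℕ) by omega]), hp.2]
      omega
    · intro a _; exact Fin.cons_self_tail a
    · intro p _; simp
    · intro a _
      rw [Fin.prod_univ_succ]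
      rfl

variable {q : ℕ}

theorem geom_wt (hq : 2 ≤ q) (i : ℕ) (hi : 2 ≤ i) (a : ℕ) :
    (wt q a : ℚ) / (q : ℚ) ^ (i * a) =
      if a = 0 then 1 else (1 - 1 / q) * ((1 : ℚ) / q) ^ ((i - 1) * a) := by
  have hq0 : (q : ℚ) ≠ 0 := by positivity
  rcases a with _ | a
  · simp [wt]
  · obtain ⟨j, rfl⟩ : ∃ j, i = j + 1 := ⟨i - 1, by omega⟩
    rw [wt, if_neg (Nat.succ_ne_zero a), if_neg (Nat.succ_ne_zero a), Nat.add_sub_cancel,
      Nat.add_sub_cancel, Nat.cast_mul, Nat.cast_sub (by omega), Nat.cast_pow]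
    rw [show (j + 1) * (a + 1) = j * (a + 1) + a + 1 by ring, pow_succ, pow_add, div_pow, one_pow]
    field_simp
    push_cast
    ring

theorem geom_sum_wt (hq : 2 ≤ q) (i : ℕ) (hi : 2 ≤ i) (A : ℕ) :
    (1 - ((1 : ℚ) / q) ^ (i - 1)) * ∑ a ∈ range (A + 1), (wt q a : ℚ) / (q : ℚ) ^ (i * a) =
      1 - ((1 : ℚ) / q) ^ (i - 1) + (1 - 1 / q) *
        (((1 : ℚ) / q) ^ (i - 1) - (((1 : ℚ) / q) ^ (i - 1)) ^ (A + 1)) := by
  induction A with
  | zero => simp [wt]
  | succ A ih =>
    rw [sum_range_succ, mul_add, ih, geom_wt hq i hi, if_neg (Nat.succ_ne_zero A), pow_mul]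
    ring

/-- The telescoping bound. -/
theorem sumWt_tail_le (hq : 2 ≤ q) : ∀ L i n : ℕ, 2 ≤ i →
    (1 - ((1 : ℚ) / q) ^ (i - 1)) * ∑ r ∈ range (n + 1), (sumWt q i L r : ℚ) / (q : ℚ) ^ r +
      ((1 : ℚ) / q) ^ (i - 1) * ((sumWt q i L n : ℚ) / (q : ℚ) ^ n) ≤ 1 := by
  have hq1 : (1 : ℚ) / q < 1 := by
    rw [div_lt_one (by positivity)]; exact_mod_cast hq
  intro L
  induction L with
  | zero =>
    intro i n hi
    have hy1 : ((1 : ℚ) / q) ^ (i - 1) ≤ 1 := pow_le_one₀ (by positivity) hq1.le
    rw [sum_range_succ']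
    simp only [sumWt, Nat.succ_ne_zero, if_false, Nat.cast_zero, zero_div, sum_const_zero, zero_add,
      if_true, Nat.cast_one, pow_zero, div_one, mul_one]
    rcases n with _ | n
    · simp
    · simp
  | succ L ih =>
    intro i n hi
    set y := ((1 : ℚ) / q) ^ (i - 1) with hy
    have hy0 : 0 ≤ y := by positivity
    have hy1 : y < 1 := pow_lt_one₀ (by positivity) hq1 (by omega)
    set u : ℕ → ℚ := fun s => (sumWt q (i + 1) L s : ℚ) / (q : ℚ) ^ s with hu
    set g : ℕ → ℚ := fun a => (wt q a : ℚ) / (q : ℚ) ^ (i * a) with hg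
    have hsplit : ∀ r, (sumWt q i (L + 1) r : ℚ) / (q : ℚ) ^ r =
        ∑ a ∈ range (r / i + 1), g a * u (r - i * a) := by
      intro r
      rw [sumWt, Nat.cast_sum, sum_div]
      refine sum_congr rfl fun a ha => ?_
      have hle : i * a ≤ r := by
        have := (Nat.le_div_iff_mul_le (show 0 < i by omega)).1 (Nat.le_of_lt_succ (mem_range.1 ha))
        rwa [mul_comm]
      simp only [hg, hu]
      rw [div_mul_div_comm, ← pow_add, Nat.add_sub_cancel' hle, Nat.cast_mul]
    have h1 : ∑ r ∈ range (n + 1), (sumWt q i (L + 1) r : ℚ) / (q : ℚ) ^ r =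
        ∑ s ∈ range (n + 1), ∑ a ∈ range ((n - s) / i + 1), g a * u s := by
      simp only [hsplit]
      rw [sum_sigma', sum_sigma']
      refine sum_bij' (fun p _ => ⟨p.1 - i * p.2, p.2⟩) (fun p _ => ⟨p.1 + i * p.2, p.2⟩) ?_ ?_ ?_ ?_ ?_
      · intro p hp
        simp only [mem_sigma, mem_range, Nat.lt_succ_iff, Nat.le_div_iff_mul_le (show 0 < i by omega)] at hp ⊢
        have := mul_comm i p.2
        omega
      · intro p hp
        simp only [mem_sigma, mem_range, Nat.lt_succ_iff, Nat.le_div_iff_mul_le (show 0 < i by omega)] at hp ⊢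
        have := mul_comm i p.2
        omega
      · intro p hp
        simp only [mem_sigma, mem_range, Nat.lt_succ_iff, Nat.le_div_iff_mul_le (show 0 < i by omega)] at hp
        have := mul_comm i p.2
        refine Sigma.ext ?_ HEq.rfl
        show p.1 - i * p.2 + i * p.2 = p.1
        omega
      · intro p _
        refine Sigma.ext ?_ HEq.rfl
        show p.1 + i * p.2 - i * p.2 = p.1
        omega
      · intro p _; rfl
    have h2 : (sumWt q i (L + 1) n : ℚ) / (q : ℚ) ^ n =
        ∑ s ∈ range (n + 1), if i ∣ n - s then g ((n - s) / i) * u s else 0 := by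
      rw [hsplit, ← sum_filter]
      refine sum_bij' (fun a _ => n - i * a) (fun s _ => (n - s) / i) ?_ ?_ ?_ ?_ ?_
      · intro a ha
        rw [mem_range, Nat.lt_succ_iff, Nat.le_div_iff_mul_le (show 0 < i by omega), mul_comm] at ha
        rw [mem_filter, mem_range]
        exact ⟨by omega, ⟨a, by omega⟩⟩
      · intro s hs
        rw [mem_filter, mem_range] at hs
        rw [mem_range, Nat.lt_succ_iff]
        exact Nat.div_le_div_right (by omega)
      · intro a ha
        rw [mem_range, Nat.lt_succ_iff, Nat.le_div_iff_mul_le (show 0 < i by omega), mul_comm] at ha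
        rw [Nat.sub_sub_self ha, Nat.mul_div_cancel_left _ (by omega)]
      · intro s hs
        rw [mem_filter, mem_range] at hs
        rw [Nat.mul_div_cancel' hs.2]
        omega
      · intro a ha
        rw [mem_range, Nat.lt_succ_iff, Nat.le_div_iff_mul_le (show 0 < i by omega), mul_comm] at ha
        rw [Nat.sub_sub_self ha, Nat.mul_div_cancel_left _ (by omega)]
    have hterm : ∀ s ∈ range (n + 1),
        (1 - y) * (∑ a ∈ range ((n - s) / i + 1), g a * u s) +
          y * (if i ∣ n - s then g ((n - s) / i) * u s else 0) ≤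
          ((1 - y / q) + if s = n then y / q else 0) * u s := by
      intro s hs
      have hu0 : 0 ≤ u s := by simp only [hu]; positivity
      rw [← sum_mul, ← mul_assoc, ← ite_zero_mul, ← mul_assoc, ← add_mul]
      refine mul_le_mul_of_nonneg_right ?_ hu0
      rw [geom_sum_wt hq i hi, ← hy]
      set A := (n - s) / i with hA
      have hgA : g A = if A = 0 then 1 else (1 - 1 / (q : ℚ)) * y ^ A := by
        simp only [hg]; rw [geom_wt hq i hi, hy, ← pow_mul]
      have hcq : 0 ≤ 1 - 1 / (q : ℚ) := by linarith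
      have hyA : 0 ≤ y ^ (A + 1) := pow_nonneg hy0 _
      by_cases hsn : s = n
      · subst hsn
        have hA0 : A = 0 := by rw [hA]; simp
        rw [if_pos rfl, if_pos (by simp), hgA, hA0, if_pos rfl]
        ring_nf
        exact le_refl _
      rw [if_neg hsn, add_zero]
      by_cases hd : i ∣ n - s
      · rw [if_pos hd]
        have hA0 : A ≠ 0 := by
          intro h0
          have := Nat.div_mul_cancel hd
          rw [← hA, h0] at this
          have := mem_range.1 hs
          omega
        rw [hgA, if_neg hA0, pow_succ]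
        ring_nf
        exact le_refl _
      · rw [if_neg hd, mul_zero, add_zero]
        clear_value y
        have e1 : (1 - 1 / (q : ℚ)) * (y - y ^ (A + 1)) = y - y / q - (1 - 1 / (q : ℚ)) * y ^ (A + 1) := by ring
        have e2 := mul_nonneg hcq hyA
        linarith
    rw [h1, h2, mul_sum, mul_sum, ← sum_add_distrib]
    refine (sum_le_sum hterm).trans ?_
    have hi' := ih (i + 1) n (by omega)
    have hyq : ((1 : ℚ) / q) ^ (i + 1 - 1) = y / q := by
      rw [hy, Nat.add_sub_cancel, div_eq_mul_one_div (((1 : ℚ) / q) ^ (i - 1)) (q : ℚ), ← pow_succ,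
        Nat.sub_add_cancel (by omega : 1 ≤ i)]
    rw [hyq] at hi'
    simp only [add_mul, sum_add_distrib, ite_mul, zero_mul, sum_ite_eq', mem_range, Nat.lt_succ_self,
      if_true, ← mul_sum]
    simpa [hu] using hi'

/-- At most `q ^ n` weighted compositions. -/
theorem sumWt_le_pow (hq : 2 ≤ q) (L n : ℕ) : sumWt q 1 L n ≤ q ^ n := by
  rcases L with _ | L
  · simp only [sumWt]; split_ifs <;> simp [*]
  have h := sumWt_tail_le hq L 2 n le_rfl
  rw [show (2 - 1 : ℕ) = 1 from rfl, pow_one, sum_range_succ] at h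
  have hs : (sumWt q 1 (L + 1) n : ℚ) =
      (q : ℚ) ^ n * ((1 - 1 / q) * ∑ r ∈ range n, (sumWt q 2 L r : ℚ) / (q : ℚ) ^ r +
        (sumWt q 2 L n : ℚ) / (q : ℚ) ^ n) := by
    rw [sumWt, Nat.div_one, Nat.cast_sum, sum_range_succ', mul_add, mul_sum, mul_sum]
    congr 1
    · rw [← sum_range_reflect]
      refine sum_congr rfl fun r hr => ?_
      rw [mem_range] at hr
      rw [wt, if_neg (Nat.succ_ne_zero _), Nat.add_sub_cancel, show n - 1 - r + 1 = n - r by omega,
        one_mul, Nat.sub_sub_self hr.le, Nat.cast_mul, Nat.cast_mul, Nat.cast_sub (by omega),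
        Nat.cast_pow]
      obtain ⟨d, rfl⟩ : ∃ d, n = r + d + 1 := ⟨n - r - 1, by omega⟩
      rw [show r + d + 1 - 1 - r = d by omega, pow_succ, pow_add]
      have : (q : ℚ) ≠ 0 := by positivity
      field_simp
      push_cast
      ring
    · have : (q : ℚ) ≠ 0 := by positivity
      simp [wt]
      field_simp
  have : (sumWt q 1 (L + 1) n : ℚ) ≤ (q : ℚ) ^ n := by
    rw [hs]
    refine mul_le_of_le_one_right (by positivity) ?_
    linarith
  exact_mod_cast this

end CfsgLib.KnownB.ClassNum
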