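import Mathlib
import Cfsg.Agent.Lib.KnownB.CompWeight

/-!
Counting tuples of monic polynomials with prescribed weighted product of constant terms, and the
resulting numerical bounds for the class numbers of `SL_n` and `PSL_n`.
-/

set_option autoImplicit false

namespace CfsgLib.KnownB.ClassNum

open Finset Polynomial

/-- `gcd` of `q - 1` and the parts in use. -/
def gIdx (q : ℕ) {L : ℕ} (a : Fin L → ℕ) : ℕ :=
  Nat.gcd (q - 1) ((univ.filter fun l => a l ≠ 0).gcd fun l : Fin L => 1 + (l : ℕ))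

/-- The weighted count with squared indices. -/
def phiBound (q L r : ℕ) : ℕ := ∑ a ∈ comps 1 L r, gIdx q a ^ 2 * ∏ l, wt q (a l)

variable {F : Type*} [Field F] [Fintype F]

/-- A tuple of monic polynomials, non-zero at zero, of weighted degree `r`. -/
def IsData {L : ℕ} (r : ℕ) (h : Fin L → F[X]) : Prop :=
  (∀ l, (h l).Monic ∧ (h l).coeff 0 ≠ 0) ∧ ∑ l : Fin L, (1 + (l : ℕ)) * (h l).natDegree = r

/-- Weighted product of the constant terms. -/
noncomputable def constVal {L : ℕ} (h : Fin L → F[X]) : F := ∏ l : Fin L, (h l).coeff 0 ^ (1 + (l : ℕ))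

theorem isData_deg_mem {L r : ℕ} {h : Fin L → F[X]} (hh : IsData r h) :
    (fun l => (h l).natDegree) ∈ comps 1 L r := (mem_comps le_rfl).2 hh.2

theorem pow_gcd_mem {G : Type*} [Group G] (H : Subgroup G) (u : G) {a b : ℕ} (ha : u ^ a ∈ H)
    (hb : u ^ b ∈ H) : u ^ Nat.gcd a b ∈ H := by
  rw [← zpow_natCast, Nat.gcd_eq_gcd_ab, zpow_add, zpow_mul, zpow_mul, zpow_natCast, zpow_natCast]
  exact mul_mem (zpow_mem ha _) (zpow_mem hb _)

theorem pow_finset_gcd_mem {G ι : Type*} [Group G] [DecidableEq ι] (H : Subgroup G) (u : G) (s : Finset ι)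
    (f : ι → ℕ) (h : ∀ i ∈ s, u ^ f i ∈ H) : u ^ s.gcd f ∈ H := by
  induction s using Finset.induction with
  | empty => simp [one_mem]
  | insert i s hi ih =>
    rw [gcd_insert]
    exact pow_gcd_mem H u (h i (mem_insert_self i s)) (ih fun j hj => h j (mem_insert_of_mem hj))

theorem gIdx_pos {L : ℕ} (a : Fin L → ℕ) : 0 < gIdx (Fintype.card F) a :=
  Nat.gcd_pos_of_pos_left _ (by have := Fintype.one_lt_card (α := F); omega)

/-- A subgroup of `Fˣ` with all `e`-th powers, `e` in a set, has index at most the gcd. -/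
theorem index_le_of_powers {ι : Type*} [DecidableEq ι] (H : Subgroup Fˣ) (s : Finset ι) (f : ι → ℕ)
    (h : ∀ i ∈ s, ∀ u : Fˣ, u ^ f i ∈ H) : H.index ≤ Nat.gcd (Fintype.card F - 1) (s.gcd f) := by
  classical
  set e := Nat.gcd (Fintype.card F - 1) (s.gcd f) with he
  have hcard : Nat.card Fˣ = Fintype.card F - 1 := by
    rw [Nat.card_units, Nat.card_eq_fintype_card]
  have hle : (powMonoidHom e : Fˣ →* Fˣ).range ≤ H := by
    rintro _ ⟨u, rfl⟩
    refine pow_gcd_mem H u ?_ (pow_finset_gcd_mem H u s f fun i hi => h i hi u)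
    rw [← hcard, pow_card_eq_one']
    exact one_mem H
  have hd := Subgroup.index_dvd_of_le hle
  rw [IsCyclic.index_powMonoidHom_range, hcard,
    Nat.gcd_eq_right (Nat.gcd_dvd_left (Fintype.card F - 1) _)] at hd
  exact Nat.le_of_dvd (Nat.gcd_pos_of_pos_left _ (by have := Fintype.one_lt_card (α := F); omega)) hd

/-- Tuples with prescribed degrees and prescribed constant value. -/
theorem card_fibre_le {L : ℕ} (a : Fin L → ℕ) (t : F) :
    Nat.card {h : Fin L → F[X] // (∀ l, (h l).Monic ∧ (h l).coeff 0 ≠ 0 ∧ (h l).natDegree = a l) ∧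
      constVal h = t} * (Fintype.card F - 1) ≤
        gIdx (Fintype.card F) a * ∏ l, wt (Fintype.card F) (a l) := by
  classical
  set q := Fintype.card F with hq
  let S := {l : Fin L // a l ≠ 0}
  let φ : (S → Fˣ) →* Fˣ :=
    { toFun := fun c => ∏ s : S, c s ^ (1 + (s.1 : ℕ))
      map_one' := by simp
      map_mul' := fun c d => by simp [mul_pow, prod_mul_distrib] }
  have hidx : φ.range.index ≤ gIdx q a := by
    refine index_le_of_powers _ _ _ fun l hl u => ?_
    rw [mem_filter] at hl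
    refine ⟨Pi.mulSingle ⟨l, hl.2⟩ u, ?_⟩
    show ∏ s : S, (Pi.mulSingle (M := fun _ => Fˣ) (⟨l, hl.2⟩ : S) u s) ^ (1 + (s.1 : ℕ)) = u ^ (1 + (l : ℕ))
    rw [Fintype.prod_eq_single ⟨l, hl.2⟩ fun s hs => by rw [Pi.mulSingle_eq_of_ne hs, one_pow],
      Pi.mulSingle_eq_same]
  let X' := {c : S → Fˣ // ((φ c : Fˣ) : F) = t}
  have hX : Nat.card X' ≤ Nat.card φ.ker := by
    rcases isEmpty_or_nonempty X' with h | ⟨⟨c₀, hc₀⟩⟩
    · simp
    · refine Nat.card_le_card_of_injective (fun c => (⟨c₀⁻¹ * c.1, ?_⟩ : φ.ker)) ?_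
      · rw [MonoidHom.mem_ker, map_mul, map_inv, inv_mul_eq_one]
        exact Units.ext (hc₀.trans c.2.symm)
      · intro c d hcd
        exact Subtype.ext (mul_left_cancel (congrArg Subtype.val hcd))
  have hker : Nat.card φ.ker * (q - 1) ≤ gIdx q a * (q - 1) ^ (univ.filter fun l => a l ≠ 0).card := by
    have h1 : Nat.card φ.ker * Nat.card φ.range = (q - 1) ^ (univ.filter fun l => a l ≠ 0).card := by
      rw [mul_comm, ← Nat.card_congr (QuotientGroup.quotientKerEquivRange φ).toEquiv,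
        ← Subgroup.card_eq_card_quotient_mul_card_subgroup, Nat.card_fun, Nat.card_units,
        Nat.card_eq_fintype_card, Nat.card_eq_fintype_card, Fintype.card_subtype]
    have h2 := φ.range.index_mul_card
    rw [Nat.card_units, Nat.card_eq_fintype_card (α := F)] at h2
    rw [← h1, ← h2]
    calc Nat.card φ.ker * (φ.range.index * Nat.card φ.range)
        = φ.range.index * (Nat.card φ.ker * Nat.card φ.range) := by ring
      _ ≤ gIdx q a * (Nat.card φ.ker * Nat.card φ.range) := Nat.mul_le_mul_right _ hidx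
  let R := ∀ l : Fin L, Fin (a l - 1) → F
  have hinj : Nat.card {h : Fin L → F[X] // (∀ l, (h l).Monic ∧ (h l).coeff 0 ≠ 0 ∧
      (h l).natDegree = a l) ∧ constVal h = t} ≤ Nat.card (X' × R) := by
    refine Nat.card_le_card_of_injective (fun h => (⟨fun s => Units.mk0 _ (h.2.1 s.1).2.1, ?_⟩,
      fun l j => (h.1 l).coeff ((j : ℕ) + 1))) ?_
    · refine Eq.trans ?_ h.2.2
      simp only [constVal, φ, MonoidHom.coe_mk, OneHom.coe_mk, Units.coe_prod, Units.val_pow_eq_pow_val,
        Units.val_mk0]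
      rw [← prod_subtype (univ.filter fun l => a l ≠ 0) (fun l => by simp)
        (fun l : Fin L => (h.1 l).coeff 0 ^ (1 + (l : ℕ)))]
      refine prod_filter_of_ne fun l _ hne hl0 => hne ?_
      rw [Monic.natDegree_eq_zero (h.2.1 l).1 |>.1 ((h.2.1 l).2.2.trans hl0), coeff_one_zero, one_pow]
    · intro h h' e
      refine Subtype.ext (funext fun l => Polynomial.ext fun k => ?_)
      have e1 := congrArg Prod.fst e
      have e2 := congrArg Prod.snd e
      rcases lt_trichotomy k (a l) with hk | hk | hk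
      · rcases k with _ | k
        · have := congrArg (fun c : X' => ((c.1 ⟨l, by omega⟩ : Fˣ) : F)) e1
          simpa using this
        · exact congrFun (congrFun e2 l) ⟨k, by omega⟩
      · conv_lhs => rw [hk, ← (h.2.1 l).2.2]
        conv_rhs => rw [hk, ← (h'.2.1 l).2.2]
        rw [(h.2.1 l).1.coeff_natDegree, (h'.2.1 l).1.coeff_natDegree]
      · rw [coeff_eq_zero_of_natDegree_lt (by rw [(h.2.1 l).2.2]; exact hk),
          coeff_eq_zero_of_natDegree_lt (by rw [(h'.2.1 l).2.2]; exact hk)]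
  have hR : Nat.card R = ∏ l, q ^ (a l - 1) := by
    rw [Nat.card_pi]
    exact prod_congr rfl fun l _ => by rw [Nat.card_fun, Nat.card_fin, Nat.card_eq_fintype_card]
  rw [Nat.card_prod] at hinj
  have hwt : ∏ l, wt q (a l) = (q - 1) ^ (univ.filter fun l => a l ≠ 0).card * ∏ l, q ^ (a l - 1) := by
    rw [← prod_const, prod_filter, ← prod_mul_distrib]
    refine prod_congr rfl fun l _ => ?_
    rcases Nat.eq_zero_or_pos (a l) with h | h
    · simp [wt, h]
    · rw [wt, if_neg h.ne', if_pos h.ne']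
  rw [hwt, ← hR, ← mul_assoc]
  calc _ ≤ Nat.card X' * Nat.card R * (q - 1) := Nat.mul_le_mul_right _ hinj
    _ = Nat.card X' * (q - 1) * Nat.card R := by ring
    _ ≤ _ := Nat.mul_le_mul_right _ ((Nat.mul_le_mul_right _ hX).trans hker)

/-- All tuples with prescribed degrees. -/
theorem card_degrees_le {L : ℕ} (a : Fin L → ℕ) :
    Nat.card {h : Fin L → F[X] // ∀ l, (h l).Monic ∧ (h l).coeff 0 ≠ 0 ∧ (h l).natDegree = a l} ≤
      ∏ l, wt (Fintype.card F) (a l) := by
  classical
  have : Nat.card (∀ l, {c : Fin (a l) → F // ∀ i : Fin (a l), (i : ℕ) = 0 → c i ≠ 0}) =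
      ∏ l, wt (Fintype.card F) (a l) := by
    rw [Nat.card_pi]
    refine prod_congr rfl fun l _ => ?_
    generalize a l = k
    rcases k with _ | k
    · rw [Nat.card_eq_one_iff_unique.2 ⟨inferInstance, ⟨⟨Fin.elim0, fun i => i.elim0⟩⟩⟩]
      rfl
    · rw [show wt (Fintype.card F) (k + 1) = Nat.card (Fˣ × (Fin k → F)) by
        rw [Nat.card_prod, Nat.card_units, Nat.card_fun, Nat.card_fin, Nat.card_eq_fintype_card, wt,
          if_neg (Nat.succ_ne_zero k), Nat.add_sub_cancel]]
      exact Nat.card_congr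
        { toFun := fun c => (Units.mk0 (c.1 0) (c.2 0 rfl), Fin.tail c.1)
          invFun := fun p => ⟨Fin.cons (p.1 : F) p.2, fun i hi => by
            rw [show i = 0 from Fin.ext hi]; simp⟩
          left_inv := fun c => Subtype.ext (Fin.cons_self_tail c.1)
          right_inv := fun p => Prod.ext (Units.ext (by simp)) (by simp) }
  rw [← this]
  refine Nat.card_le_card_of_injective (fun h l =>
    ⟨fun i => (h.1 l).coeff i, fun i hi => by simp only [hi]; exact (h.2 l).2.1⟩) fun h h' e => ?_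
  refine Subtype.ext (funext fun l => Polynomial.ext fun k => ?_)
  rcases lt_trichotomy k (a l) with hk | hk | hk
  · exact congrFun (congrArg Subtype.val (congrFun e l)) ⟨k, hk⟩
  · conv_lhs => rw [hk, ← (h.2 l).2.2]
    conv_rhs => rw [hk, ← (h'.2 l).2.2]
    rw [(h.2 l).1.coeff_natDegree, (h'.2 l).1.coeff_natDegree]
  · rw [coeff_eq_zero_of_natDegree_lt (by rw [(h.2 l).2.2]; exact hk),
      coeff_eq_zero_of_natDegree_lt (by rw [(h'.2 l).2.2]; exact hk)]

theorem finite_degrees {L : ℕ} (a : Fin L → ℕ) :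
    Finite {h : Fin L → F[X] // ∀ l, (h l).Monic ∧ (h l).coeff 0 ≠ 0 ∧ (h l).natDegree = a l} := by
  refine Finite.of_injective (fun h l (i : Fin (a l)) => (h.1 l).coeff i) fun h h' e => ?_
  refine Subtype.ext (funext fun l => Polynomial.ext fun k => ?_)
  rcases lt_trichotomy k (a l) with hk | hk | hk
  · exact congrFun (congrFun e l) ⟨k, hk⟩
  · conv_lhs => rw [hk, ← (h.2 l).2.2]
    conv_rhs => rw [hk, ← (h'.2 l).2.2]
    rw [(h.2 l).1.coeff_natDegree, (h'.2 l).1.coeff_natDegree]
  · rw [coeff_eq_zero_of_natDegree_lt (by rw [(h.2 l).2.2]; exact hk),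
      coeff_eq_zero_of_natDegree_lt (by rw [(h'.2 l).2.2]; exact hk)]

instance finite_data {L r : ℕ} : Finite {h : Fin L → F[X] // IsData r h} := by
  haveI := fun a : {a // a ∈ comps 1 L r} => finite_degrees (F := F) a.1
  refine Finite.of_injective (β := Σ a : {a // a ∈ comps 1 L r},
    {h : Fin L → F[X] // ∀ l, (h l).Monic ∧ (h l).coeff 0 ≠ 0 ∧ (h l).natDegree = a.1 l})
    (fun h => ⟨⟨_, isData_deg_mem h.2⟩, h.1, fun l => ⟨(h.2.1 l).1, (h.2.1 l).2, rfl⟩⟩) fun h h' e => ?_
  exact Subtype.ext (congrArg (fun z => z.2.1) e)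

/-- All data. -/
theorem card_data_le (L r : ℕ) :
    Nat.card {h : Fin L → F[X] // IsData r h} ≤ sumWt (Fintype.card F) 1 L r := by
  classical
  haveI := fun a : {a // a ∈ comps 1 L r} => finite_degrees (F := F) a.1
  rw [← sum_comps _ L 1 r le_rfl, ← sum_coe_sort]
  refine le_trans ?_ (sum_le_sum fun (a : {a // a ∈ comps 1 L r}) _ => card_degrees_le (F := F) a.1)
  rw [← Nat.card_sigma]
  refine Nat.card_le_card_of_injective
    (fun h => ⟨⟨_, isData_deg_mem h.2⟩, h.1, fun l => ⟨(h.2.1 l).1, (h.2.1 l).2, rfl⟩⟩) fun h h' e => ?_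
  exact Subtype.ext (congrArg (fun z => z.2.1) e)

/-- Data with prescribed constant value, weighted by the index. -/
theorem sum_gIdx_le {L r : ℕ} (t : F) [Fintype {h : Fin L → F[X] // IsData r h ∧ constVal h = t}] :
    (∑ h : {h : Fin L → F[X] // IsData r h ∧ constVal h = t},
      gIdx (Fintype.card F) fun l => (h.1 l).natDegree) * (Fintype.card F - 1) ≤
        phiBound (Fintype.card F) L r := by
  classical
  rw [← sum_fiberwise_of_maps_to (t := comps 1 L r)
    (g := fun h : {h : Fin L → F[X] // IsData r h ∧ constVal h = t} => fun l => (h.1 l).natDegree)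
    (fun h _ => isData_deg_mem h.2.1), phiBound, sum_mul]
  refine sum_le_sum fun a _ => ?_
  rw [sum_congr rfl (fun h hh => by rw [(mem_filter.1 hh).2]), sum_const, smul_eq_mul]
  refine le_of_eq_of_le (mul_right_comm _ _ _) ?_
  rw [sq, mul_comm, mul_assoc]
  refine Nat.mul_le_mul_left _ ?_
  refine le_trans (Nat.mul_le_mul_right _ ?_) (card_fibre_le a t)
  rw [← Nat.card_eq_finsetCard]
  haveI : Finite {h : Fin L → F[X] // (∀ l, (h l).Monic ∧ (h l).coeff 0 ≠ 0 ∧ (h l).natDegree = a l) ∧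
      constVal h = t} := by
    haveI := finite_degrees (F := F) a
    exact Finite.of_injective (fun h => (⟨h.1, h.2.1⟩ : {h : Fin L → F[X] //
      ∀ l, (h l).Monic ∧ (h l).coeff 0 ≠ 0 ∧ (h l).natDegree = a l})) fun h h' e => by
      simpa [Subtype.ext_iff] using e
  refine Nat.card_le_card_of_injective (fun h => ⟨h.1.1, fun l => ⟨(h.1.2.1.1 l).1, (h.1.2.1.1 l).2,
    congrFun (mem_filter.1 h.2).2 l⟩, h.1.2.2⟩) fun h h' e => ?_
  have e1 := Subtype.ext_iff.1 e
  exact Subtype.ext (Subtype.ext e1)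

end CfsgLib.KnownB.ClassNum
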