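import Mathlib

/-!
Elementary divisor blocks of an endomorphism of a finite vector space: existence, uniqueness through
the sizes of the kernels of `r(φ)`, conjugacy.
-/

set_option autoImplicit false

namespace CfsgLib.KnownB.GLBlocks

open Polynomial Module Finset

variable {F : Type*} [Field F]

/-- The cyclic module of `p ^ e`. -/
abbrev blk (p : F[X]) (e : ℕ) : Type _ := F[X] ⧸ (F[X] ∙ p ^ e)

theorem blk_mk_eq_zero {p : F[X]} {e : ℕ} {a : F[X]} :
    (Submodule.Quotient.mk a : blk p e) = 0 ↔ p ^ e ∣ a := by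
  rw [Submodule.Quotient.mk_eq_zero]; exact Ideal.mem_span_singleton

theorem finite_blk {p : F[X]} (hp : p.Monic) (e : ℕ) : Module.Finite F (blk p e) :=
  Module.Finite.of_basis (AdjoinRoot.powerBasis (pow_ne_zero e hp.ne_zero)).basis

theorem finrank_blk {p : F[X]} (hp : p.Monic) (e : ℕ) : finrank F (blk p e) = e * p.natDegree := by
  rw [show finrank F (blk p e) = (p ^ e).natDegree from finrank_quotient_span_eq_natDegree,
    hp.natDegree_pow]

theorem natCard_blk [Fintype F] {p : F[X]} (hp : p.Monic) (e : ℕ) :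
    Nat.card (blk p e) = Fintype.card F ^ (e * p.natDegree) := by
  haveI := finite_blk hp e
  rw [Module.natCard_eq_pow_finrank (K := F) (V := blk p e), finrank_blk hp, Nat.card_eq_fintype_card]

/-- `p ^ j`-torsion of a block of the same prime. -/
theorem card_torsion_self [Fintype F] {p : F[X]} (hp : p.Monic) (e j : ℕ) :
    Nat.card {z : blk p e // p ^ j • z = 0} = Fintype.card F ^ (min j e * p.natDegree) := by
  rw [← natCard_blk hp (min j e)]
  set m := min j e with hm
  let f : F[X] →ₗ[F[X]] blk p e :=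
    (Submodule.mkQ (F[X] ∙ p ^ e)).comp (LinearMap.mulLeft F[X] (p ^ (e - m)))
  have hker : (F[X] ∙ p ^ m) ≤ LinearMap.ker f := by
    rw [Submodule.span_singleton_le_iff_mem, LinearMap.mem_ker]
    show (Submodule.Quotient.mk (p ^ (e - m) * p ^ m) : blk p e) = 0
    rw [blk_mk_eq_zero, ← pow_add]
    exact pow_dvd_pow p (by omega)
  let g : blk p m →ₗ[F[X]] blk p e := Submodule.liftQ _ f hker
  have hg : ∀ a, g (Submodule.Quotient.mk a) = Submodule.Quotient.mk (p ^ (e - m) * a) := fun a => rfl
  refine (Nat.card_congr (Equiv.ofBijective (fun z => (⟨g z, ?_⟩ : {z : blk p e // p ^ j • z = 0})) ⟨?_, ?_⟩)).symm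
  · obtain ⟨a, rfl⟩ := Submodule.Quotient.mk_surjective _ z
    rw [hg, ← Submodule.Quotient.mk_smul, blk_mk_eq_zero, smul_eq_mul, ← mul_assoc, ← pow_add]
    exact Dvd.dvd.mul_right (pow_dvd_pow p (by omega)) a
  · intro z z' h
    obtain ⟨a, rfl⟩ := Submodule.Quotient.mk_surjective _ z
    obtain ⟨b, rfl⟩ := Submodule.Quotient.mk_surjective _ z'
    have h' : (Submodule.Quotient.mk (p ^ (e - m) * a) : blk p e) =
        Submodule.Quotient.mk (p ^ (e - m) * b) := congrArg Subtype.val h
    rw [Submodule.Quotient.eq, Ideal.mem_span_singleton, ← mul_sub] at h'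
    rw [Submodule.Quotient.eq]
    refine Ideal.mem_span_singleton.2 ((mul_dvd_mul_iff_left (pow_ne_zero (e - m) hp.ne_zero)).1 ?_)
    rw [← pow_add, Nat.sub_add_cancel (min_le_right j e)]
    exact h'
  · rintro ⟨z, hz⟩
    obtain ⟨a, rfl⟩ := Submodule.Quotient.mk_surjective _ z
    rw [← Submodule.Quotient.mk_smul, blk_mk_eq_zero, smul_eq_mul] at hz
    obtain ⟨b, hb⟩ : p ^ (e - m) ∣ a := by
      refine (mul_dvd_mul_iff_left (pow_ne_zero m hp.ne_zero)).1 ?_
      rw [← pow_add, Nat.add_sub_cancel' (min_le_right j e)]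
      rcases le_total j e with h | h
      · rwa [hm, min_eq_left h]
      · rw [hm, min_eq_right h]
        exact dvd_mul_right _ _
    refine ⟨Submodule.Quotient.mk b, Subtype.ext ?_⟩
    show g (Submodule.Quotient.mk b) = Submodule.Quotient.mk a
    rw [hg, hb]

/-- No torsion at other primes. -/
theorem card_torsion_other {p r : F[X]} (h : IsCoprime r p) (e : ℕ) (j : ℕ) :
    Nat.card {z : blk p e // r ^ j • z = 0} = 1 := by
  rw [Nat.card_eq_one_iff_unique]
  refine ⟨⟨fun z z' => Subtype.ext ?_⟩, ⟨⟨0, smul_zero _⟩⟩⟩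
  have key : ∀ z : blk p e, r ^ j • z = 0 → z = 0 := fun z hz => by
    obtain ⟨a, rfl⟩ := Submodule.Quotient.mk_surjective _ z
    rw [← Submodule.Quotient.mk_smul, blk_mk_eq_zero, smul_eq_mul] at hz
    exact blk_mk_eq_zero.2 (h.symm.pow.dvd_of_dvd_mul_left hz)
  rw [key z.1 z.2, key z'.1 z'.2]

/-- A valid multiset of blocks. -/
def Valid (s : Multiset (F[X] × ℕ)) : Prop := ∀ b ∈ s, b.1.Monic ∧ Irreducible b.1 ∧ 1 ≤ b.2

open scoped Classical in
/-- Exponent of the `p ^ j`-torsion. -/
noncomputable def torsExp (s : Multiset (F[X] × ℕ)) (p : F[X]) (j : ℕ) : ℕ :=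
  (s.map fun b => if b.1 = p then min j b.2 else 0).sum

open scoped Classical in
theorem torsExp_succ (s : Multiset (F[X] × ℕ)) (p : F[X]) (j : ℕ) :
    torsExp s p (j + 1) = torsExp s p j + s.countP (fun b => b.1 = p ∧ j < b.2) := by
  induction s using Multiset.induction_on with
  | empty => simp [torsExp]
  | cons b s ih =>
    simp only [torsExp, Multiset.map_cons, Multiset.sum_cons] at ih ⊢
    rw [ih, Multiset.countP_cons]
    by_cases h : b.1 = p
    · by_cases h' : j < b.2
      · simp [h, h']; omega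
      · simp [h, h']; omega
    · simp [h]

/-- Valid multisets are determined by their torsion exponents. -/
theorem eq_of_torsExp {s t : Multiset (F[X] × ℕ)} (hs : Valid s) (ht : Valid t)
    (h : ∀ p : F[X], p.Monic → Irreducible p → ∀ j, torsExp s p j = torsExp t p j) : s = t := by
  classical
  refine Multiset.ext.2 fun b => ?_
  by_cases hb : b.1.Monic ∧ Irreducible b.1 ∧ 1 ≤ b.2
  · obtain ⟨hm, hi, he⟩ := hb
    have hc : ∀ j, s.countP (fun c => c.1 = b.1 ∧ j < c.2) = t.countP (fun c => c.1 = b.1 ∧ j < c.2) :=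
      fun j => by
        have h1 := torsExp_succ s b.1 j
        have h2 := torsExp_succ t b.1 j
        rw [h _ hm hi, h _ hm hi j] at h1
        omega
    have hsplit : ∀ u : Multiset (F[X] × ℕ), u.countP (fun c => c.1 = b.1 ∧ b.2 - 1 < c.2) =
        u.count b + u.countP (fun c => c.1 = b.1 ∧ b.2 < c.2) := by
      intro u
      induction u using Multiset.induction_on with
      | empty => simp
      | cons c u ih =>
        rw [Multiset.countP_cons, Multiset.countP_cons, Multiset.count_cons, ih]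
        by_cases h1 : c = b
        · subst h1
          simp only [true_and, lt_irrefl, if_true, if_false, if_pos (show c.2 - 1 < c.2 by omega)]
          omega
        · have h1' : ¬ b = c := fun h => h1 h.symm
          simp only [if_neg h1']
          by_cases h2 : c.1 = b.1
          · have h3 : c.2 ≠ b.2 := fun h => h1 (Prod.ext h2 h)
            have : b.2 - 1 < c.2 ↔ b.2 < c.2 := by omega
            simp [h2, this]
            omega
          · simp [h2]
    have e1 := hsplit s
    have e2 := hsplit t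
    rw [hc] at e1
    rw [hc] at e1
    omega
  · rw [Multiset.count_eq_zero.2 fun hm => hb (hs b hm), Multiset.count_eq_zero.2 fun hm => hb (ht b hm)]

variable {V : Type*} [AddCommGroup V] [Module F V]

/-- Block decomposition data of an endomorphism. -/
structure Decomp (φ : V →ₗ[F] V) where
  ι : Type
  fin : Fintype ι
  p : ι → F[X]
  e : ι → ℕ
  monic : ∀ i, (p i).Monic
  irred : ∀ i, Irreducible (p i)
  pos : ∀ i, 1 ≤ e i
  equiv : AEval' φ ≃ₗ[F[X]] ∀ i, blk (p i) (e i)

attribute [instance] Decomp.fin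

/-- The blocks as a multiset. -/
def Decomp.blocks {φ : V →ₗ[F] V} (D : Decomp φ) : Multiset (F[X] × ℕ) :=
  (univ : Finset D.ι).val.map fun i => (D.p i, D.e i)

theorem Decomp.valid {φ : V →ₗ[F] V} (D : Decomp φ) : Valid D.blocks := fun b hb => by
  obtain ⟨i, -, rfl⟩ := Multiset.mem_map.1 hb
  exact ⟨D.monic i, D.irred i, D.pos i⟩

theorem nonempty_decomp [FiniteDimensional F V] (φ : V →ₗ[F] V) : Nonempty (Decomp φ) := by
  classical
  obtain ⟨ι, _, p, hp, e, ⟨E⟩⟩ := Module.equiv_directSum_of_isTorsion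
    (R := F[X]) (M := AEval' φ) (AEval.isTorsion_of_finiteDimensional F V φ)
  let p' : ι → F[X] := fun i => p i * C (p i).leadingCoeff⁻¹
  have hm : ∀ i, (p' i).Monic := fun i => monic_mul_leadingCoeff_inv (hp i).ne_zero
  have hassoc : ∀ i, Associated (p i) (p' i) := fun i =>
    ⟨(isUnit_C.2 (Ne.isUnit (inv_ne_zero (leadingCoeff_ne_zero.2 (hp i).ne_zero)))).unit, rfl⟩
  have hspan : ∀ i, (F[X] ∙ p i ^ e i) = (F[X] ∙ p' i ^ e i) := fun i =>
    Ideal.span_singleton_eq_span_singleton.2 (hassoc i).pow_pow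
  let S := {i : ι // 1 ≤ e i}
  obtain ⟨m, ⟨σ⟩⟩ : ∃ m, Nonempty (Fin m ≃ S) := ⟨_, ⟨(Fintype.equivFin S).symm⟩⟩
  let E1 : AEval' φ ≃ₗ[F[X]] ∀ i, blk (p' i) (e i) :=
    (E.trans (DirectSum.linearEquivFunOnFintype F[X] ι _)).trans
      (LinearEquiv.piCongrRight fun i => Submodule.quotEquivOfEq _ _ (hspan i))
  let res : (∀ i, blk (p' i) (e i)) →ₗ[F[X]] ∀ k : Fin m, blk (p' (σ k).1) (e (σ k).1) :=
    LinearMap.pi fun k => LinearMap.proj (σ k).1
  have hsub : ∀ i, ¬ 1 ≤ e i → Subsingleton (blk (p' i) (e i)) := fun i hi => ⟨fun x y => by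
    obtain ⟨a, rfl⟩ := Submodule.Quotient.mk_surjective _ x
    obtain ⟨b, rfl⟩ := Submodule.Quotient.mk_surjective _ y
    rw [Submodule.Quotient.eq, Ideal.mem_span_singleton, show e i = 0 by omega, pow_zero]
    exact one_dvd _⟩
  have hbij : Function.Bijective res := by
    refine ⟨fun f g h => funext fun i => ?_, fun f => ?_⟩
    · by_cases hi : 1 ≤ e i
      · have h1 := congrFun h (σ.symm ⟨i, hi⟩)
        simp only [res, LinearMap.pi_apply, LinearMap.proj_apply] at h1
        rw [Equiv.apply_symm_apply] at h1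
        exact h1
      · exact (hsub i hi).elim _ _
    · refine ⟨∑ k, Pi.single (σ k).1 (f k), funext fun k => ?_⟩
      simp only [res, LinearMap.pi_apply, LinearMap.proj_apply, Finset.sum_apply]
      rw [Finset.sum_eq_single k (fun k' _ hk' => Pi.single_eq_of_ne
        (fun h => hk' (σ.injective (Subtype.ext h)).symm) _) (fun h => absurd (mem_univ k) h),
        Pi.single_eq_same]
  exact ⟨⟨Fin m, inferInstance, fun k => p' (σ k).1, fun k => e (σ k).1, fun k => hm _,
    fun k => (hassoc _).irreducible (hp _), fun k => (σ k).2, E1.trans (LinearEquiv.ofBijective res hbij)⟩⟩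

/-- Size of the kernel of `r ^ j (φ)`. -/
theorem Decomp.card_ker [Fintype F] {φ : V →ₗ[F] V} (D : Decomp φ) {r : F[X]} (hr : r.Monic)
    (hri : Irreducible r) (j : ℕ) :
    Nat.card {v : V // aeval φ (r ^ j) v = 0} =
      Fintype.card F ^ (torsExp D.blocks r j * r.natDegree) := by
  classical
  have e : {v : V // aeval φ (r ^ j) v = 0} ≃ ∀ i, {z : blk (D.p i) (D.e i) // r ^ j • z = 0} :=
    (Equiv.subtypeEquiv ((AEval'.of φ).toEquiv.trans D.equiv.toEquiv)
      (q := fun z => ∀ i, r ^ j • z i = 0) fun v => by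
        show aeval φ (r ^ j) v = 0 ↔ ∀ i, r ^ j • (D.equiv (AEval'.of φ v)) i = 0
        rw [← (AEval'.of φ).map_eq_zero_iff, ← D.equiv.map_eq_zero_iff,
          show AEval'.of φ ((aeval φ (r ^ j)) v) = r ^ j • AEval'.of φ v from AEval.of_aeval_smul _ _ v,
          map_smul, funext_iff]
        rfl).trans (Equiv.subtypePiEquivPi (p := fun i (z : blk (D.p i) (D.e i)) => r ^ j • z = 0))
  rw [Nat.card_congr e, Nat.card_pi]
  have h1 : ∀ i, Nat.card {z : blk (D.p i) (D.e i) // r ^ j • z = 0} =
      Fintype.card F ^ ((if D.p i = r then min j (D.e i) else 0) * r.natDegree) := by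
    intro i
    split_ifs with h
    · subst h; exact card_torsion_self hr _ _
    · rw [zero_mul, pow_zero]
      refine card_torsion_other (((irreducible_iff_prime.1 hri)).coprime_iff_not_dvd.2 fun hd => h ?_) _ _
      exact (eq_of_monic_of_associated hr (D.monic i) (hri.associated_of_dvd (D.irred i) hd)).symm
  rw [prod_congr rfl fun i _ => h1 i, prod_pow_eq_pow_sum, ← sum_mul]
  congr 2
  rw [torsExp, Decomp.blocks, Multiset.map_map]
  refine Finset.sum_congr rfl fun i _ => ?_
  show _ = (if D.p i = r then min j (D.e i) else 0)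
  congr

theorem Decomp.sum_deg [Fintype F] [FiniteDimensional F V] {φ : V →ₗ[F] V} (D : Decomp φ) :
    ∑ i, D.e i * (D.p i).natDegree = finrank F V := by
  have h : Nat.card V = ∏ i, Fintype.card F ^ (D.e i * (D.p i).natDegree) := by
    rw [Nat.card_congr ((AEval'.of φ).toEquiv.trans D.equiv.toEquiv), Nat.card_pi]
    exact prod_congr rfl fun i _ => natCard_blk (D.monic i) _
  rw [Module.natCard_eq_pow_finrank (K := F), prod_pow_eq_pow_sum, Nat.card_eq_fintype_card] at h
  exact (Nat.pow_right_injective Fintype.one_lt_card h).symm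

variable {V' : Type*} [AddCommGroup V'] [Module F V']

theorem Decomp.blocks_eq_of_card [Fintype F] {φ : V →ₗ[F] V} {ψ : V' →ₗ[F] V'} (D : Decomp φ)
    (D' : Decomp ψ) (h : ∀ r : F[X], r.Monic → Irreducible r → ∀ j,
      Nat.card {v : V // aeval φ (r ^ j) v = 0} = Nat.card {v : V' // aeval ψ (r ^ j) v = 0}) :
    D.blocks = D'.blocks := by
  refine eq_of_torsExp D.valid D'.valid fun p hp hpi j => ?_
  have := h p hp hpi j
  rw [D.card_ker hp hpi, D'.card_ker hp hpi] at this
  exact Nat.eq_of_mul_eq_mul_right hpi.natDegree_pos (Nat.pow_right_injective Fintype.one_lt_card this)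

/-- Equal blocks give an intertwining isomorphism. -/
theorem Decomp.exists_conj {φ : V →ₗ[F] V} {ψ : V' →ₗ[F] V'} (D : Decomp φ)
    (D' : Decomp ψ) (h : D.blocks = D'.blocks) :
    ∃ T : V ≃ₗ[F] V', ∀ v, T (φ v) = ψ (T v) := by
  classical
  have hc : ∀ b, Fintype.card {i // (D.p i, D.e i) = b} = Fintype.card {i // (D'.p i, D'.e i) = b} := by
    intro b
    have h1 := congrArg (Multiset.count b) h
    simp only [Decomp.blocks, Multiset.count_map] at h1
    change (univ.filter fun i => b = (D.p i, D.e i)).card =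
      (univ.filter fun i => b = (D'.p i, D'.e i)).card at h1
    rw [← Fintype.card_subtype, ← Fintype.card_subtype] at h1
    rw [Fintype.card_congr (Equiv.subtypeEquivRight (p := fun i => (D.p i, D.e i) = b) fun _ => eq_comm),
      Fintype.card_congr (Equiv.subtypeEquivRight (p := fun i => (D'.p i, D'.e i) = b) fun _ => eq_comm)]
    exact h1
  let σ : D.ι ≃ D'.ι := Equiv.ofFiberEquiv fun b => Fintype.equivOfCardEq (hc b)
  have hσ : ∀ i, (D'.p (σ i), D'.e (σ i)) = (D.p i, D.e i) := fun i =>
    Equiv.ofFiberEquiv_map (f := fun i => (D.p i, D.e i)) (g := fun i => (D'.p i, D'.e i)) _ i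
  have hspan : ∀ i, (F[X] ∙ D.p i ^ D.e i) = (F[X] ∙ D'.p (σ i) ^ D'.e (σ i)) := fun i => by
    rw [show D'.p (σ i) = D.p i from congrArg Prod.fst (hσ i),
      show D'.e (σ i) = D.e i from congrArg Prod.snd (hσ i)]
  let E : AEval' φ ≃ₗ[F[X]] AEval' ψ :=
    ((D.equiv.trans (LinearEquiv.piCongrRight fun i => Submodule.quotEquivOfEq _ _ (hspan i))).trans
      (LinearEquiv.piCongrLeft F[X] (fun i' => blk (D'.p i') (D'.e i')) σ)).trans D'.equiv.symm
  refine ⟨((AEval'.of φ).trans (E.restrictScalars F)).trans (AEval'.of ψ).symm, fun v => ?_⟩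
  show (AEval'.of ψ).symm (E (AEval'.of φ (φ v))) = ψ ((AEval'.of ψ).symm (E (AEval'.of φ v)))
  rw [← AEval'.X_smul_of, map_smul, AEval'.of_symm_X_smul]

theorem card_ker_congr {φ : V →ₗ[F] V} {ψ : V' →ₗ[F] V'} (T : V ≃ₗ[F] V')
    (hT : ∀ v, T (φ v) = ψ (T v)) (r : F[X]) :
    Nat.card {v : V // aeval φ r v = 0} = Nat.card {v : V' // aeval ψ r v = 0} := by
  have h : ∀ v, T (aeval φ r v) = aeval ψ r (T v) := by
    intro v
    induction r using Polynomial.induction_on generalizing v with
    | C a => simp [Module.algebraMap_end_apply]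
    | add p q hp hq => simp [hp, hq]
    | monomial k a ih =>
      rw [pow_succ, ← mul_assoc, map_mul, map_mul (aeval ψ), Module.End.mul_apply, Module.End.mul_apply,
        aeval_X, aeval_X, ih, hT]
  exact Nat.card_congr (Equiv.subtypeEquiv T.toEquiv fun v => by
    show _ ↔ aeval ψ r (T v) = 0
    rw [← h, LinearEquiv.map_eq_zero_iff])

end CfsgLib.KnownB.GLBlocks
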