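import Mathlib
import Cfsg.Agent.Lib.KnownB.GLBlocks
import Cfsg.Agent.Lib.KnownC.CentralizerDet

/-!
Determinants of maps acting by polynomials on the blocks: the determinant of the endomorphism and
determinants attained on the centraliser.
-/

set_option autoImplicit false

namespace CfsgLib.KnownB.GLBlocks

open Polynomial Module Finset

variable {F : Type*} [Field F]

/-- Multiplication by `a` on a block, as an `F`-linear map. -/
noncomputable def blkMul (p : F[X]) (e : ℕ) (a : F[X]) : blk p e →ₗ[F] blk p e :=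
  ((LinearMap.lsmul F[X] (blk p e)) a).restrictScalars F

theorem blkMul_apply (p : F[X]) (e : ℕ) (a : F[X]) (z : blk p e) : blkMul p e a z = a • z := rfl

/-- The norm of `a` modulo `p`. -/
noncomputable def blkNorm (p a : F[X]) : F := Algebra.norm F (AdjoinRoot.mk p a)

theorem det_blkMul_one {p : F[X]} (a : F[X]) :
    LinearMap.det (blkMul p 1 a) = blkNorm p a := by
  let E : blk p 1 ≃ₗ[F] AdjoinRoot p :=
    ((Submodule.quotEquivOfEq _ (F[X] ∙ p) (by rw [pow_one])).restrictScalars F)
  rw [blkNorm, Algebra.norm_apply, ← LinearMap.det_conj (blkMul p 1 a) E]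
  congr 1
  refine LinearMap.ext fun z => ?_
  obtain ⟨b, rfl⟩ := E.surjective z
  simp only [LinearMap.comp_apply, LinearEquiv.coe_coe, LinearEquiv.symm_apply_apply]
  obtain ⟨c, rfl⟩ := Submodule.Quotient.mk_surjective _ b
  rfl

theorem det_blkMul {p : F[X]} (hp : p.Monic) (a : F[X]) :
    ∀ e, LinearMap.det (blkMul p e a) = blkNorm p a ^ e := by
  intro e
  induction e with
  | zero =>
    rw [_root_.pow_zero (blkNorm p a)]
    haveI : Subsingleton (blk p 0) := ⟨fun x y => by
      obtain ⟨u, rfl⟩ := Submodule.Quotient.mk_surjective _ x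
      obtain ⟨v, rfl⟩ := Submodule.Quotient.mk_surjective _ y
      rw [Submodule.Quotient.eq, Ideal.mem_span_singleton, pow_zero]
      exact one_dvd _⟩
    exact LinearMap.det_eq_one_of_subsingleton _
  | succ e ih =>
    haveI := finite_blk hp (e + 1)
    haveI := finite_blk hp e
    haveI := finite_blk hp 1
    have hincl : (F[X] ∙ p ^ e) ≤ LinearMap.ker
        ((Submodule.mkQ (F[X] ∙ p ^ (e + 1))).comp (LinearMap.mulLeft F[X] p)) := by
      rw [Submodule.span_singleton_le_iff_mem, LinearMap.mem_ker]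
      show (Submodule.Quotient.mk (p * p ^ e) : blk p (e + 1)) = 0
      rw [blk_mk_eq_zero, pow_succ']
    let ι' : blk p e →ₗ[F[X]] blk p (e + 1) := Submodule.liftQ _ _ hincl
    have hι : ∀ b, ι' (Submodule.Quotient.mk b) = Submodule.Quotient.mk (p * b) := fun b => rfl
    have hle : (F[X] ∙ p ^ (e + 1)) ≤ (F[X] ∙ p ^ 1) := by
      rw [Submodule.span_singleton_le_iff_mem, Ideal.mem_span_singleton, pow_one]
      exact dvd_pow_self p (by omega)
    let π : blk p (e + 1) →ₗ[F[X]] blk p 1 := Submodule.factor hle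
    have hπ : ∀ b, π (Submodule.Quotient.mk b) = Submodule.Quotient.mk b := fun b => rfl
    have hιi : Function.Injective ι' := (injective_iff_map_eq_zero ι').2 fun z hz => by
      obtain ⟨b, rfl⟩ := Submodule.Quotient.mk_surjective _ z
      rw [hι, blk_mk_eq_zero, pow_succ'] at hz
      exact blk_mk_eq_zero.2 ((mul_dvd_mul_iff_left hp.ne_zero).1 hz)
    have hrk : LinearMap.range (ι'.restrictScalars F) = LinearMap.ker (π.restrictScalars F) := by
      refine le_antisymm ?_ fun z hz => ?_
      · rintro _ ⟨z, rfl⟩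
        obtain ⟨b, rfl⟩ := Submodule.Quotient.mk_surjective _ z
        rw [LinearMap.mem_ker, LinearMap.restrictScalars_apply, LinearMap.restrictScalars_apply, hι, hπ,
          blk_mk_eq_zero, pow_one]
        exact dvd_mul_right p b
      · obtain ⟨b, rfl⟩ := Submodule.Quotient.mk_surjective _ z
        rw [LinearMap.mem_ker, LinearMap.restrictScalars_apply, hπ, blk_mk_eq_zero, pow_one] at hz
        obtain ⟨c, rfl⟩ := hz
        exact ⟨Submodule.Quotient.mk c, hι c⟩
    set W : Submodule F (blk p (e + 1)) := LinearMap.range (ι'.restrictScalars F) with hW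
    have hinv : W ≤ W.comap (blkMul p (e + 1) a) := by
      rintro _ ⟨z, rfl⟩
      exact ⟨a • z, by
        show ι' (a • z) = a • ι' z
        rw [map_smul]⟩
    rw [LinearMap.det_eq_det_mul_det W _ hinv, pow_succ (blkNorm p a)]
    congr 1
    · let e1 : blk p e ≃ₗ[F] W := LinearEquiv.ofInjective (ι'.restrictScalars F) hιi
      rw [← ih, ← LinearMap.det_conj (blkMul p e a) e1]
      congr 1
      refine LinearMap.ext fun z => ?_
      obtain ⟨c, rfl⟩ := e1.surjective z
      simp only [LinearMap.comp_apply, LinearEquiv.coe_coe, LinearEquiv.symm_apply_apply]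
      refine Subtype.ext ?_
      show a • ι' c = ι' (a • c)
      rw [map_smul]
    · let e2 : (blk p (e + 1) ⧸ W) ≃ₗ[F] blk p 1 :=
        (Submodule.quotEquivOfEq _ _ hrk).trans (LinearMap.quotKerEquivOfSurjective (π.restrictScalars F)
          (Submodule.factor_surjective hle))
      rw [← det_blkMul_one, ← LinearMap.det_conj (W.mapQ W (blkMul p (e + 1) a) hinv) e2]
      congr 1
      refine LinearMap.ext fun z => ?_
      obtain ⟨c, rfl⟩ := e2.surjective z
      simp only [LinearMap.comp_apply, LinearEquiv.coe_coe, LinearEquiv.symm_apply_apply]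
      obtain ⟨d, rfl⟩ := Submodule.Quotient.mk_surjective _ c
      show π (a • d) = a • π d
      rw [map_smul]

/-- Determinant of a product of endomorphisms. -/
theorem det_piMap {ι : Type*} [Fintype ι] (W : ι → Type*) [∀ i, AddCommGroup (W i)]
    [∀ i, Module F (W i)] [∀ i, FiniteDimensional F (W i)] (f : ∀ i, W i →ₗ[F] W i) :
    LinearMap.det (LinearMap.piMap f) = ∏ i, LinearMap.det (f i) := by
  classical
  let g : Finset ι → (∀ i, W i) →ₗ[F] (∀ i, W i) := fun s =>
    LinearMap.piMap fun i => if i ∈ s then f i else LinearMap.id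
  have hg : ∀ s, LinearMap.det (g s) = ∏ i ∈ s, LinearMap.det (f i) := by
    intro s
    induction s using Finset.induction with
    | empty =>
      rw [show g ∅ = LinearMap.id from LinearMap.ext fun x => funext fun i => by simp [g], LinearMap.det_id,
        prod_empty]
    | insert j s hj ih =>
      have hsplit : g (insert j s) = g s ∘ₗ (LinearMap.id + (LinearMap.single F W j) ∘ₗ
          ((f j - LinearMap.id) ∘ₗ LinearMap.proj j)) := by
        refine LinearMap.ext fun x => funext fun i => ?_
        simp only [g, LinearMap.coe_piMap, Pi.map_apply, LinearMap.comp_apply, LinearMap.add_apply, LinearMap.id_apply,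
          Pi.add_apply, LinearMap.sub_apply, LinearMap.proj_apply, LinearMap.coe_single]
        by_cases hij : i = j
        · subst hij; simp [hj]
        · simp [hij, Pi.single_eq_of_ne hij]
      rw [hsplit, LinearMap.det_comp, ih, CfsgLib.KnownC.det_one_add_comp_comm, prod_insert hj, mul_comm]
      congr 2
      refine LinearMap.ext fun x => ?_
      simp [LinearMap.comp_apply]
  rw [← hg univ]
  congr 1
  exact LinearMap.ext fun x => funext fun i => by simp [g]

variable {V : Type*} [AddCommGroup V] [Module F V]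

/-- The map acting by `a i` on the `i`-th block. -/
noncomputable def Decomp.blockMap {φ : V →ₗ[F] V} (D : Decomp φ) (a : D.ι → F[X]) : V →ₗ[F] V :=
  (((AEval'.of φ).trans (D.equiv.restrictScalars F)).symm : (∀ i, blk (D.p i) (D.e i)) →ₗ[F] V) ∘ₗ
    LinearMap.piMap (fun i => blkMul (D.p i) (D.e i) (a i)) ∘ₗ
      (((AEval'.of φ).trans (D.equiv.restrictScalars F)) : V →ₗ[F] ∀ i, blk (D.p i) (D.e i))

theorem Decomp.det_blockMap {φ : V →ₗ[F] V} (D : Decomp φ) (a : D.ι → F[X]) :
    LinearMap.det (D.blockMap a) = ∏ i, blkNorm (D.p i) (a i) ^ D.e i := by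
  haveI := fun i => finite_blk (D.monic i) (D.e i)
  rw [← prod_congr rfl (fun i _ => det_blkMul (D.monic i) (a i) (D.e i)), ← det_piMap,
    ← LinearMap.det_conj (LinearMap.piMap fun i => blkMul (D.p i) (D.e i) (a i))
      (((AEval'.of φ).trans (D.equiv.restrictScalars F)).symm)]
  rfl

theorem Decomp.blockMap_X {φ : V →ₗ[F] V} (D : Decomp φ) : D.blockMap (fun _ => X) = φ := by
  refine LinearMap.ext fun v => ?_
  show (AEval'.of φ).symm (D.equiv.symm fun i => (X : F[X]) • D.equiv (AEval'.of φ v) i) = φ v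
  rw [show (fun i => (X : F[X]) • D.equiv (AEval'.of φ v) i) = (X : F[X]) • D.equiv (AEval'.of φ v) from rfl,
    ← map_smul, LinearEquiv.symm_apply_apply, AEval'.of_symm_X_smul, LinearEquiv.symm_apply_apply]

theorem Decomp.blockMap_comm {φ : V →ₗ[F] V} (D : Decomp φ) (a : D.ι → F[X]) :
    D.blockMap a ∘ₗ φ = φ ∘ₗ D.blockMap a := by
  refine LinearMap.ext fun v => ?_
  show (AEval'.of φ).symm (D.equiv.symm fun i => a i • D.equiv (AEval'.of φ (φ v)) i) =
    φ ((AEval'.of φ).symm (D.equiv.symm fun i => a i • D.equiv (AEval'.of φ v) i))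
  rw [← AEval'.X_smul_of, ← AEval'.of_symm_X_smul, map_smul, ← map_smul D.equiv.symm]
  congr 2
  funext i
  simp only [Pi.smul_apply, smul_smul, mul_comm]

theorem blkNorm_X {p : F[X]} (hp : p.Monic) :
    blkNorm p X = (-1) ^ p.natDegree * p.coeff 0 := by
  rw [blkNorm, AdjoinRoot.mk_X, ← AdjoinRoot.powerBasis_gen hp.ne_zero,
    Algebra.PowerBasis.norm_gen_eq_coeff_zero_minpoly, AdjoinRoot.powerBasis_gen,
    AdjoinRoot.minpoly_root hp.ne_zero, hp.leadingCoeff, inv_one, C_1, mul_one, AdjoinRoot.powerBasis_dim]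

/-- The determinant from the blocks. -/
theorem Decomp.det_eq {φ : V →ₗ[F] V} (D : Decomp φ) :
    LinearMap.det φ = ∏ i, ((-1) ^ (D.p i).natDegree * (D.p i).coeff 0) ^ D.e i := by
  conv_lhs => rw [← D.blockMap_X]
  rw [D.det_blockMap]
  exact prod_congr rfl fun i _ => by rw [blkNorm_X (D.monic i)]

/-- The centraliser reaches the `e`-th powers, `e` the exponent of any block. -/
theorem Decomp.exists_commute_det [Finite F] {φ : V →ₗ[F] V} (D : Decomp φ) (i : D.ι) (u : Fˣ) :
    ∃ T : V →ₗ[F] V, T ∘ₗ φ = φ ∘ₗ T ∧ LinearMap.det T = (u : F) ^ D.e i := by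
  classical
  haveI : Fact (Irreducible (D.p i)) := ⟨D.irred i⟩
  haveI : Module.Finite F (AdjoinRoot (D.p i)) := (D.monic i).finite_adjoinRoot
  haveI : Finite (AdjoinRoot (D.p i)) := Module.finite_of_finite F
  obtain ⟨k, hk⟩ := FiniteField.norm_surjective F (AdjoinRoot (D.p i)) (u : F)
  obtain ⟨a, ha⟩ := AdjoinRoot.mk_surjective k
  refine ⟨D.blockMap (Function.update (fun _ => 1) i a), D.blockMap_comm _, ?_⟩
  rw [D.det_blockMap, prod_eq_single i (fun j _ hj => by
      rw [Function.update_of_ne hj, blkNorm, map_one, map_one, one_pow]) (fun h => absurd (mem_univ i) h),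
    Function.update_self, blkNorm, ha, hk]

end CfsgLib.KnownB.GLBlocks
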