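import Mathlib
import Cfsg.Agent.Lib.KnownB.GLBlockDet
import Cfsg.Agent.Lib.KnownB.ClassData

/-!
Conjugacy classes of `GL_n` over a finite field as tuples of monic polynomials, the splitting of classes
in `SL_n`, and the classes fixed by a central element.
-/

set_option autoImplicit false

namespace CfsgLib.KnownB.GLClass

open Polynomial Finset CfsgLib.KnownB.GLBlocks CfsgLib.KnownB.ClassNum

variable {F : Type*} [Field F] {n : ℕ}

/-- A fixed block decomposition of a matrix. -/
noncomputable def decomp (A : Matrix (Fin n) (Fin n) F) : Decomp (Matrix.toLin' A) :=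
  (nonempty_decomp _).some

/-- The product of the primes of the blocks with exponent `e`. -/
noncomputable def hPoly (s : Multiset (F[X] × ℕ)) (e : ℕ) : F[X] :=
  ((s.filter fun b => b.2 = e).map Prod.fst).prod

/-- The polynomial tuple of a matrix. -/
noncomputable def dataOf (A : Matrix (Fin n) (Fin n) F) : Fin n → F[X] :=
  fun l => hPoly (decomp A).blocks ((l : ℕ) + 1)

variable [Fintype F]

theorem block_e_le (A : Matrix (Fin n) (Fin n) F) (i : (decomp A).ι) :
    (decomp A).e i * ((decomp A).p i).natDegree ≤ n ∧ (decomp A).e i ≤ n := by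
  have h := (decomp A).sum_deg
  rw [Module.finrank_fin_fun] at h
  have h1 : (decomp A).e i * ((decomp A).p i).natDegree ≤ n :=
    (single_le_sum (f := fun i => (decomp A).e i * ((decomp A).p i).natDegree)
      (fun _ _ => Nat.zero_le _) (mem_univ i)).trans h.le
  exact ⟨h1, (Nat.le_mul_of_pos_right _ ((decomp A).irred i).natDegree_pos).trans h1⟩

theorem coeff_zero_ne {A : Matrix (Fin n) (Fin n) F} (hA : A.det ≠ 0) (i : (decomp A).ι) :
    ((decomp A).p i).coeff 0 ≠ 0 := by
  intro h
  refine hA ?_
  rw [← LinearMap.det_toLin', (decomp A).det_eq]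
  refine prod_eq_zero (mem_univ i) ?_
  rw [h, mul_zero, zero_pow (by have := (decomp A).pos i; omega)]

theorem hPoly_eq (A : Matrix (Fin n) (Fin n) F) (e : ℕ) :
    hPoly (decomp A).blocks e = ∏ i ∈ univ.filter (fun i => (decomp A).e i = e), (decomp A).p i := by
  rw [hPoly, Decomp.blocks, Multiset.filter_map, Multiset.map_map]
  rfl

theorem fiber_level {α : Type*} [CommMonoid α] (A : Matrix (Fin n) (Fin n) F) (f : (decomp A).ι → α) :
    ∏ l : Fin n, ∏ i ∈ univ.filter (fun i => (decomp A).e i = (l : ℕ) + 1), f i = ∏ i, f i := by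
  have h : ∀ i, (decomp A).e i - 1 < n := fun i => by
    have := (block_e_le A i).2; have := (decomp A).pos i; omega
  rw [← prod_fiberwise_of_maps_to (t := (univ : Finset (Fin n)))
    (g := fun i => (⟨(decomp A).e i - 1, h i⟩ : Fin n)) (fun i _ => mem_univ _) f]
  refine prod_congr rfl fun l _ => prod_congr (Finset.ext fun i => ?_) fun _ _ => rfl
  have := (decomp A).pos i
  simp only [mem_filter, mem_univ, true_and, Fin.ext_iff]
  omega

theorem isData_dataOf {A : Matrix (Fin n) (Fin n) F} (hA : A.det ≠ 0) : IsData n (dataOf A) := by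
  refine ⟨fun l => ⟨?_, ?_⟩, ?_⟩
  · rw [dataOf, hPoly_eq]; exact monic_prod_of_monic _ _ fun i _ => (decomp A).monic i
  · rw [dataOf, hPoly_eq, coeff_zero_prod]
    exact prod_ne_zero_iff.2 fun i _ => coeff_zero_ne hA i
  · have h := (decomp A).sum_deg
    rw [Module.finrank_fin_fun] at h
    conv_rhs => rw [← h]
    have hl : ∀ l : Fin n, (1 + (l : ℕ)) * (dataOf A l).natDegree =
        ∑ i ∈ univ.filter (fun i => (decomp A).e i = (l : ℕ) + 1),
          (decomp A).e i * ((decomp A).p i).natDegree := by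
      intro l
      rw [dataOf, hPoly_eq, natDegree_prod_of_monic _ _ fun i _ => (decomp A).monic i, mul_sum]
      refine sum_congr rfl fun i hi => ?_
      rw [(mem_filter.1 hi).2, add_comm]
    rw [sum_congr rfl fun l _ => hl l]
    exact (fiber_level (α := Multiplicative ℕ) A fun i =>
      Multiplicative.ofAdd ((decomp A).e i * ((decomp A).p i).natDegree) :)

theorem det_eq_constVal (A : Matrix (Fin n) (Fin n) F) :
    A.det = (-1) ^ n * constVal (dataOf A) := by
  have h := (decomp A).sum_deg
  rw [Module.finrank_fin_fun] at h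
  rw [← LinearMap.det_toLin', (decomp A).det_eq]
  simp only [mul_pow, prod_mul_distrib, ← pow_mul]
  rw [prod_pow_eq_pow_sum]
  congr 1
  · congr 1
    conv_rhs => rw [← h]
    exact sum_congr rfl fun i _ => mul_comm _ _
  · rw [constVal, ← fiber_level A]
    refine prod_congr rfl fun l _ => ?_
    rw [dataOf, hPoly_eq, coeff_zero_prod, ← prod_pow]
    exact prod_congr rfl fun i hi => by rw [(mem_filter.1 hi).2, add_comm]

theorem count_hPoly {s : Multiset (F[X] × ℕ)} (hs : Valid s) (b : F[X] × ℕ) [DecidableEq F] :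
    s.count b = (UniqueFactorizationMonoid.normalizedFactors (hPoly s b.2)).count b.1 := by
  classical
  have h : ∀ t : Multiset (F[X]), (∀ p ∈ t, p.Monic ∧ Irreducible p) →
      UniqueFactorizationMonoid.normalizedFactors t.prod = t := by
    intro t
    induction t using Multiset.induction_on with
    | empty => intro; simp
    | cons p t ih =>
      intro ht
      have hp := ht p (Multiset.mem_cons_self p t)
      have ht' := fun x hx => ht x (Multiset.mem_cons_of_mem hx)
      rw [Multiset.prod_cons, UniqueFactorizationMonoid.normalizedFactors_mul hp.2.ne_zero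
        (Multiset.prod_ne_zero fun h0 => (ht' 0 h0).2.ne_zero rfl), ih ht',
        UniqueFactorizationMonoid.normalizedFactors_irreducible hp.2, hp.1.normalize_eq_self,
        Multiset.singleton_add]
  rw [hPoly, h _ fun p hp => by
    obtain ⟨c, hc, rfl⟩ := Multiset.mem_map.1 hp
    exact ⟨(hs c (Multiset.mem_filter.1 hc).1).1, (hs c (Multiset.mem_filter.1 hc).1).2.1⟩,
    Multiset.count_map, Multiset.filter_filter, Multiset.count_eq_card_filter_eq]
  congr 1
  refine Multiset.filter_congr fun c _ => ?_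
  exact ⟨fun e => e ▸ ⟨rfl, rfl⟩, fun e => Prod.ext e.1 e.2.symm⟩

theorem blocks_eq_of_dataOf {A B : Matrix (Fin n) (Fin n) F} (h : dataOf A = dataOf B) :
    (decomp A).blocks = (decomp B).blocks := by
  classical
  refine Multiset.ext.2 fun b => ?_
  by_cases hb : 1 ≤ b.2 ∧ b.2 ≤ n
  · rw [count_hPoly (decomp A).valid, count_hPoly (decomp B).valid]
    have := congrFun h ⟨b.2 - 1, by omega⟩
    simp only [dataOf, show b.2 - 1 + 1 = b.2 by omega] at this
    rw [this]
  · have hz : ∀ M : Matrix (Fin n) (Fin n) F, (decomp M).blocks.count b = 0 := fun M => by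
      refine Multiset.count_eq_zero.2 fun hm => hb ?_
      obtain ⟨i, -, rfl⟩ := Multiset.mem_map.1 hm
      exact ⟨(decomp M).pos i, (block_e_le M i).2⟩
    rw [hz, hz]

/-- Equal tuples give similar matrices. -/
theorem exists_conj_of_dataOf {A B : Matrix (Fin n) (Fin n) F} (h : dataOf A = dataOf B) :
    ∃ T : GL (Fin n) F, (T : Matrix (Fin n) (Fin n) F) * A = B * T := by
  obtain ⟨T, hT⟩ := (decomp A).exists_conj (decomp B) (blocks_eq_of_dataOf h)
  refine ⟨⟨LinearMap.toMatrix' T.toLinearMap, LinearMap.toMatrix' T.symm.toLinearMap, ?_, ?_⟩, ?_⟩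
  · rw [← LinearMap.toMatrix'_comp]; simp
  · rw [← LinearMap.toMatrix'_comp]; simp
  · show LinearMap.toMatrix' T.toLinearMap * A = B * LinearMap.toMatrix' T.toLinearMap
    apply Matrix.toLin'.injective
    rw [Matrix.toLin'_mul, Matrix.toLin'_mul, Matrix.toLin'_toMatrix']
    exact LinearMap.ext hT

/-- Similar matrices have equal tuples. -/
theorem dataOf_conj {A B : Matrix (Fin n) (Fin n) F} (T : GL (Fin n) F)
    (h : (T : Matrix (Fin n) (Fin n) F) * A = B * T) : dataOf A = dataOf B := by
  funext l
  rw [dataOf, dataOf]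
  congr 1
  refine Decomp.blocks_eq_of_card _ _ fun r _ _ j => ?_
  refine card_ker_congr ((Matrix.GeneralLinearGroup.toLin T).toLinearEquiv) (fun v => ?_) _
  show (T : Matrix (Fin n) (Fin n) F).mulVec (Matrix.toLin' A v) =
    Matrix.toLin' B ((T : Matrix (Fin n) (Fin n) F).mulVec v)
  simp [Matrix.mulVec_mulVec, h]

theorem scaleRoots_inv {z : F} (hz : z ≠ 0) (p : F[X]) :
    (p.scaleRoots z).scaleRoots z⁻¹ = p ∧ (p.scaleRoots z⁻¹).scaleRoots z = p := by
  constructor
  · rw [← scaleRoots_mul, mul_inv_cancel₀ hz, scaleRoots_one]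
  · rw [← scaleRoots_mul, inv_mul_cancel₀ hz, scaleRoots_one]

theorem irreducible_scaleRoots {z : F} (hz : z ≠ 0) {p : F[X]} (hp : p.Monic) (hi : Irreducible p) :
    Irreducible (p.scaleRoots z) := by
  have hm : (p.scaleRoots z).Monic := (monic_scaleRoots_iff z).2 hp
  have h1 : p.scaleRoots z ≠ 1 := fun h => by
    have := hi.natDegree_pos
    rw [← natDegree_scaleRoots p z, h, natDegree_one] at this
    exact lt_irrefl 0 this
  rw [hm.irreducible_iff_lt_natDegree_lt h1]
  intro q hq hdeg hdvd
  have := scaleRoots_dvd (r := z⁻¹) _ _ hdvd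
  rw [(scaleRoots_inv hz p).1] at this
  refine (hp.irreducible_iff_lt_natDegree_lt hi.ne_one).1 hi _ ((monic_scaleRoots_iff z⁻¹).2 hq) ?_ this
  rw [natDegree_scaleRoots] at hdeg ⊢
  exact hdeg

theorem blocks_smul {z : F} (hz : z ≠ 0) (A : Matrix (Fin n) (Fin n) F) :
    (decomp (z • A)).blocks = (decomp A).blocks.map fun b => (b.1.scaleRoots z, b.2) := by
  classical
  refine eq_of_torsExp (decomp (z • A)).valid ?_ ?_
  · intro b hb
    obtain ⟨c, hc, rfl⟩ := Multiset.mem_map.1 hb
    obtain ⟨h1, h2, h3⟩ := (decomp A).valid c hc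
    exact ⟨(monic_scaleRoots_iff z).2 h1, irreducible_scaleRoots hz h1 h2, h3⟩
  · intro r hr hri j
    set r' := r.scaleRoots z⁻¹ with hr'
    have hr'm : r'.Monic := (monic_scaleRoots_iff z⁻¹).2 hr
    have hr'i : Irreducible r' := irreducible_scaleRoots (inv_ne_zero hz) hr hri
    have hrr : r'.scaleRoots z = r := (scaleRoots_inv hz r).2
    have hL : torsExp ((decomp A).blocks.map fun b => (b.1.scaleRoots z, b.2)) r j =
        torsExp (decomp A).blocks r' j := by
      rw [torsExp, torsExp, Multiset.map_map]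
      congr 1
      refine Multiset.map_congr rfl fun b _ => ?_
      have : (b.1.scaleRoots z = r) ↔ b.1 = r' :=
        ⟨fun e => by rw [hr', ← e, (scaleRoots_inv hz b.1).1], fun e => by rw [e, hrr]⟩
      simp [this]
    rw [hL]
    have h1 := (decomp (z • A)).card_ker hr hri j
    have h2 := (decomp A).card_ker hr'm hr'i j
    have hker : ∀ v, aeval (Matrix.toLin' (z • A)) (r ^ j) v = 0 ↔
        aeval (Matrix.toLin' A) (r' ^ j) v = 0 := by
      intro v
      have key : aeval (Matrix.toLin' (z • A)) r =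
          algebraMap F _ z ^ r'.natDegree * aeval (Matrix.toLin' A) r' := by
        rw [← hrr, map_smul, Algebra.smul_def, aeval_def, aeval_def]
        exact scaleRoots_eval₂_mul_of_commute _ _ _ (Algebra.commutes z _)
          fun s t => Algebra.commutes s _
      have hc : Commute (algebraMap F (Module.End F (Fin n → F)) z ^ r'.natDegree)
          (aeval (Matrix.toLin' A) r') := Commute.pow_left (Algebra.commutes z _) _
      rw [map_pow, map_pow, key, hc.mul_pow, ← map_pow, ← map_pow,
        Module.End.mul_apply, Module.algebraMap_end_apply, smul_eq_zero]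
      exact or_iff_right (pow_ne_zero _ (pow_ne_zero _ hz))
    rw [Nat.card_congr (Equiv.subtypeEquivRight hker)] at h1
    have h3 := Nat.pow_right_injective Fintype.one_lt_card (h1.symm.trans h2)
    rw [show r'.natDegree = r.natDegree from natDegree_scaleRoots r z⁻¹] at h3
    exact Nat.eq_of_mul_eq_mul_right hri.natDegree_pos h3

theorem dataOf_smul {z : F} (hz : z ≠ 0) (A : Matrix (Fin n) (Fin n) F) :
    dataOf (z • A) = fun l => (dataOf A l).scaleRoots z := by
  funext l
  rw [dataOf, dataOf, blocks_smul hz, hPoly, hPoly, Multiset.filter_map, Multiset.map_map]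
  have key : ∀ t : Multiset (F[X] × ℕ), (t.map fun b => b.1.scaleRoots z).prod =
      ((t.map Prod.fst).prod).scaleRoots z := by
    intro t
    induction t using Multiset.induction_on with
    | empty => simp [one_scaleRoots]
    | cons b t ih =>
      rw [Multiset.map_cons, Multiset.prod_cons, ih, Multiset.map_cons, Multiset.prod_cons,
        mul_scaleRoots_of_noZeroDivisors]
  exact key _

/-- Determinants attained on the centraliser of `A`. -/
noncomputable def detCent (A : GL (Fin n) F) : Subgroup Fˣ :=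
  (Subgroup.centralizer {A}).map Matrix.GeneralLinearGroup.det

theorem index_detCent_le (A : GL (Fin n) F) :
    (detCent A).index ≤ gIdx (Fintype.card F) fun l => (dataOf (A : Matrix (Fin n) (Fin n) F) l).natDegree := by
  refine index_le_of_powers _ _ _ fun l hl u => ?_
  simp only [mem_filter, dataOf, hPoly_eq] at hl
  obtain ⟨i, hi⟩ : ∃ i, i ∈ univ.filter (fun i => (decomp (A : Matrix (Fin n) (Fin n) F)).e i = (l : ℕ) + 1) := by
    by_contra hne
    push Not at hne
    rw [eq_empty_of_forall_notMem hne] at hl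
    simp at hl
  obtain ⟨T, hTc, hTd⟩ := (decomp (A : Matrix (Fin n) (Fin n) F)).exists_commute_det i u
  rw [(mem_filter.1 hi).2, add_comm (l : ℕ) 1] at hTd
  have hdet : (LinearMap.toMatrix' T).det = ((u ^ (1 + (l : ℕ)) : Fˣ) : F) := by
    rw [LinearMap.det_toMatrix', hTd, Units.val_pow_eq_pow_val]
  refine ⟨Matrix.GeneralLinearGroup.mkOfDetNeZero (LinearMap.toMatrix' T) (hdet ▸ Units.ne_zero _),
    ?_, Units.ext hdet⟩
  rw [SetLike.mem_coe, Subgroup.mem_centralizer_singleton_iff]
  refine Units.ext ?_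
  show LinearMap.toMatrix' T * (A : Matrix (Fin n) (Fin n) F) = (A : Matrix (Fin n) (Fin n) F) * LinearMap.toMatrix' T
  apply Matrix.toLin'.injective
  rw [Matrix.toLin'_mul, Matrix.toLin'_mul, Matrix.toLin'_toMatrix']
  exact hTc

/-- The tuple of a class of `SL_n`. -/
noncomputable def slData (C : ConjClasses (Matrix.SpecialLinearGroup (Fin n) F)) : Fin n → F[X] :=
  dataOf ((Quotient.out C : Matrix.SpecialLinearGroup (Fin n) F) : Matrix (Fin n) (Fin n) F)

theorem slData_mk (g : Matrix.SpecialLinearGroup (Fin n) F) :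
    slData (ConjClasses.mk g) = dataOf (g : Matrix (Fin n) (Fin n) F) := by
  obtain ⟨c, hc⟩ := isConj_iff.1 (Quotient.exact (Quotient.out_eq (ConjClasses.mk g)) : IsConj _ g)
  refine dataOf_conj (Matrix.SpecialLinearGroup.toGL c) ?_
  have := congrArg (fun x => ((x * c : Matrix.SpecialLinearGroup (Fin n) F) : Matrix (Fin n) (Fin n) F)) hc
  simpa [mul_assoc, ← Matrix.SpecialLinearGroup.coe_mul] using this

theorem slData_spec (C : ConjClasses (Matrix.SpecialLinearGroup (Fin n) F)) :
    IsData n (slData C) ∧ constVal (slData C) = (-1) ^ n := by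
  induction C using Quotient.inductionOn with
  | h g =>
    show IsData n (slData (ConjClasses.mk g)) ∧ constVal (slData (ConjClasses.mk g)) = (-1) ^ n
    have h1 := det_eq_constVal (g : Matrix (Fin n) (Fin n) F)
    rw [g.det_coe] at h1
    rw [slData_mk]
    refine ⟨isData_dataOf (by rw [g.det_coe]; exact one_ne_zero), ?_⟩
    calc constVal (dataOf (g : Matrix (Fin n) (Fin n) F))
        = (-1) ^ n * ((-1) ^ n * constVal (dataOf (g : Matrix (Fin n) (Fin n) F))) := by
          rw [← mul_assoc, ← mul_pow]; simp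
      _ = _ := by rw [← h1, mul_one]

/-- A class of `GL_n` splits in at most `gIdx` classes of `SL_n`. -/
theorem card_slData_fibre (h : Fin n → F[X]) :
    Nat.card {C : ConjClasses (Matrix.SpecialLinearGroup (Fin n) F) // slData C = h} ≤
      gIdx (Fintype.card F) fun l => (h l).natDegree := by
  classical
  let Fib := {C : ConjClasses (Matrix.SpecialLinearGroup (Fin n) F) // slData C = h}
  rcases isEmpty_or_nonempty Fib with hf | ⟨⟨C₀, hC₀⟩⟩
  · simp
  let rep : ConjClasses (Matrix.SpecialLinearGroup (Fin n) F) → Matrix.SpecialLinearGroup (Fin n) F :=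
    fun C => Quotient.out C
  let A₀ : GL (Fin n) F := Matrix.SpecialLinearGroup.toGL (rep C₀)
  have hconj : ∀ C : Fib, ∃ T : GL (Fin n) F, T * A₀ = Matrix.SpecialLinearGroup.toGL (rep C.1) * T := by
    intro C
    obtain ⟨T, hT⟩ := exists_conj_of_dataOf (A := (rep C₀ : Matrix (Fin n) (Fin n) F))
      (B := (rep C.1 : Matrix (Fin n) (Fin n) F)) (hC₀.trans C.2.symm)
    exact ⟨T, Units.ext hT⟩
  choose T hT using hconj
  have hidx := index_detCent_le A₀
  rw [show (fun l => (dataOf (A₀ : Matrix (Fin n) (Fin n) F) l).natDegree) = fun l => (h l).natDegree by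
    rw [← hC₀]; rfl] at hidx
  refine le_trans ?_ hidx
  rw [Subgroup.index]
  refine Nat.card_le_card_of_injective
    (fun C => (Matrix.GeneralLinearGroup.det (T C) : Fˣ ⧸ detCent A₀)) fun C C' e => ?_
  obtain ⟨S, hS, hSd⟩ := (QuotientGroup.eq.1 e : _ ∈ detCent A₀)
  rw [SetLike.mem_coe, Subgroup.mem_centralizer_singleton_iff] at hS
  set P : GL (Fin n) F := T C' * S⁻¹ * (T C)⁻¹ with hP
  have hPdet : Matrix.GeneralLinearGroup.det P = 1 := by
    rw [hP, map_mul, map_mul, map_inv, map_inv, hSd]
    rw [mul_inv_rev, inv_inv, mul_comm (Matrix.GeneralLinearGroup.det (T C'))]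
    simp [mul_comm, mul_assoc, mul_left_comm]
  let Ps : Matrix.SpecialLinearGroup (Fin n) F :=
    ⟨(P : Matrix (Fin n) (Fin n) F), congrArg Units.val hPdet⟩
  refine Subtype.ext ?_
  rw [← Quotient.out_eq C.1, ← Quotient.out_eq C'.1]
  refine Quotient.sound (isConj_iff.2 ⟨Ps, ?_⟩)
  apply Matrix.SpecialLinearGroup.toGL_injective
  rw [map_mul, map_mul, map_inv, show Matrix.SpecialLinearGroup.toGL Ps = P from Units.ext rfl]
  show P * Matrix.SpecialLinearGroup.toGL (rep C.1) * P⁻¹ = Matrix.SpecialLinearGroup.toGL (rep C'.1)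
  have h1 : Matrix.SpecialLinearGroup.toGL (rep C.1) = T C * A₀ * (T C)⁻¹ := by
    rw [hT C]; simp
  have h2 : Matrix.SpecialLinearGroup.toGL (rep C'.1) = T C' * A₀ * (T C')⁻¹ := by
    rw [hT C']; simp
  have hS' : S⁻¹ * A₀ = A₀ * S⁻¹ := by
    rw [eq_mul_inv_iff_mul_eq, mul_assoc, ← hS, inv_mul_cancel_left]
  rw [h1, h2, hP]
  simp only [mul_inv_rev, inv_inv, mul_assoc, inv_mul_cancel_left]
  rw [← mul_assoc S⁻¹, hS', mul_assoc, inv_mul_cancel_left]

/-- Tuples fixed by scaling with an element of order `m`. -/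
theorem dvd_of_scaleRoots_fixed {z : F} {p : F[X]} (h : p.scaleRoots z = p)
    {i : ℕ} (hi : p.coeff i ≠ 0) : orderOf z ∣ p.natDegree - i := by
  have h1 := congrArg (fun f : F[X] => f.coeff i) h
  simp only [coeff_scaleRoots] at h1
  exact orderOf_dvd_of_pow_eq_one (mul_left_cancel₀ hi (h1.trans (mul_one _).symm))

/-- Contraction of a fixed tuple. -/
theorem isData_contract {z : F} (hz : IsOfFinOrder z) {L r : ℕ} {h : Fin L → F[X]} (hd : IsData r h)
    (hfix : ∀ l, (h l).scaleRoots z = h l) :
    IsData (r / orderOf z) (fun l => contract (orderOf z) (h l)) ∧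
      (∀ l, (h l).natDegree = (contract (orderOf z) (h l)).natDegree * orderOf z) ∧
      ∀ l i, (h l).coeff i = if orderOf z ∣ i then (contract (orderOf z) (h l)).coeff (i / orderOf z) else 0 := by
  classical
  have hm : orderOf z ≠ 0 := hz.orderOf_pos.ne'
  set m := orderOf z
  have hdeg : ∀ l, m ∣ (h l).natDegree := fun l => by
    simpa using dvd_of_scaleRoots_fixed (hfix l) (hd.1 l).2
  have hsupp : ∀ l i, (h l).coeff i ≠ 0 → m ∣ i := fun l i hi => by
    have h1 := dvd_of_scaleRoots_fixed (hfix l) hi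
    have h2 := le_natDegree_of_ne_zero hi
    exact (Nat.dvd_sub_iff_right h2 (hdeg l)).1 h1
  have hcd : ∀ l, (contract m (h l)).natDegree = (h l).natDegree / m := fun l => by
    refine natDegree_eq_of_le_of_coeff_ne_zero (natDegree_le_iff_coeff_eq_zero.2 fun i hi => ?_) ?_
    · rw [coeff_contract hm]
      refine coeff_eq_zero_of_natDegree_lt ?_
      exact (Nat.div_lt_iff_lt_mul (Nat.pos_of_ne_zero hm)).1 hi
    · rw [coeff_contract hm, Nat.div_mul_cancel (hdeg l), (hd.1 l).1.coeff_natDegree]
      exact one_ne_zero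
  refine ⟨⟨fun l => ⟨?_, ?_⟩, ?_⟩, fun l => by rw [hcd, Nat.div_mul_cancel (hdeg l)], fun l i => ?_⟩
  · rw [Monic, leadingCoeff, hcd, coeff_contract hm, Nat.div_mul_cancel (hdeg l)]
    exact (hd.1 l).1.coeff_natDegree
  · rw [coeff_contract hm, zero_mul]; exact (hd.1 l).2
  · rw [← hd.2, sum_congr rfl fun l _ => by rw [hcd l]]
    have e : ∑ l : Fin L, (1 + (l : ℕ)) * (h l).natDegree =
        (∑ l : Fin L, (1 + (l : ℕ)) * ((h l).natDegree / m)) * m := by
      rw [sum_mul]
      exact sum_congr rfl fun l _ => by rw [mul_assoc, Nat.div_mul_cancel (hdeg l)]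
    rw [e, Nat.mul_div_cancel _ (Nat.pos_of_ne_zero hm)]
  · split_ifs with hi
    · rw [coeff_contract hm, Nat.div_mul_cancel hi]
    · exact by_contra fun hc => hi (hsupp l i hc)

/-- Classes of `SL_n` whose tuple is fixed by scaling. -/
theorem card_fixed_le {z : F} (hz : z ≠ 0) :
    Nat.card {C : ConjClasses (Matrix.SpecialLinearGroup (Fin n) F) //
      ∀ l, (slData C l).scaleRoots z = slData C l} * (Fintype.card F - 1) ≤
      phiBound (Fintype.card F) n (n / orderOf z) := by
  classical
  have hfo : IsOfFinOrder z := by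
    refine isOfFinOrder_iff_pow_eq_one.2 ⟨Fintype.card F - 1, ?_, FiniteField.pow_card_sub_one_eq_one z hz⟩
    have := Fintype.one_lt_card (α := F)
    omega
  let X := {C : ConjClasses (Matrix.SpecialLinearGroup (Fin n) F) //
    ∀ l, (slData C l).scaleRoots z = slData C l}
  let D := {h : Fin n → F[X] // IsData (n / orderOf z) h ∧ constVal h = (-1) ^ n}
  haveI : Finite D := Finite.of_injective
    (fun h => (⟨h.1, h.2.1⟩ : {h : Fin n → F[X] // IsData (n / orderOf z) h})) fun a b e => by
      have e1 := Subtype.ext_iff.1 e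
      exact Subtype.ext e1
  letI : Fintype D := Fintype.ofFinite D
  let f : X → D := fun C => ⟨fun l => contract (orderOf z) (slData C.1 l),
    (isData_contract hfo (slData_spec C.1).1 C.2).1, by
      rw [← (slData_spec C.1).2, constVal, constVal]
      refine prod_congr rfl fun l _ => ?_
      rw [coeff_contract hfo.orderOf_pos.ne', zero_mul]⟩
  have hfib : ∀ d : D, Nat.card {C : X // f C = d} ≤ gIdx (Fintype.card F) fun l => (d.1 l).natDegree := by
    intro d
    rcases isEmpty_or_nonempty {C : X // f C = d} with he | ⟨⟨C₀, hC₀⟩⟩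
    · simp
    have hsame : ∀ C : {C : X // f C = d}, slData C.1.1 = slData C₀.1 := by
      intro C
      funext l
      ext i
      rw [(isData_contract hfo (slData_spec C.1.1).1 C.1.2).2.2 l i,
        (isData_contract hfo (slData_spec C₀.1).1 C₀.2).2.2 l i]
      have := congrArg (fun x : D => x.1 l) (C.2.trans hC₀.symm)
      simp only [f] at this
      rw [this]
    refine le_trans (le_trans (Nat.card_le_card_of_injective
      (fun C => (⟨C.1.1, hsame C⟩ : {C' // slData C' = slData C₀.1}))
        (fun a b e => by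
          have e1 := Subtype.ext_iff.1 e
          exact Subtype.ext (Subtype.ext e1))) (card_slData_fibre _)) (le_of_eq ?_)
    rw [← hC₀]
    unfold gIdx
    congr 2
    refine Finset.filter_congr fun l _ => ?_
    simp only
    rw [(isData_contract hfo (slData_spec C₀.1).1 C₀.2).2.1 l]
    simp [f, hfo.orderOf_pos.ne']
  refine le_trans (Nat.mul_le_mul_right _ ?_) (sum_gIdx_le (L := n) (r := n / orderOf z) ((-1) ^ n))
  rw [← Nat.card_congr (Equiv.sigmaFiberEquiv f), Nat.card_sigma]
  exact sum_le_sum fun d _ => hfib d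

end CfsgLib.KnownB.GLClass
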