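import Mathlib
import Cfsg.Agent.Lib.KnownB.GLClass

/-!
Unipotent classes of `GL_n` over a finite field correspond to partitions.
-/

set_option autoImplicit false

namespace CfsgLib.KnownB.UnipClasses

open Polynomial Module CfsgLib.KnownB.GLBlocks CfsgLib.KnownB.GLClass

variable {F : Type*} [Field F] [Fintype F] {n : ℕ}

theorem blocks_fst {A : Matrix (Fin n) (Fin n) F} (hA : IsNilpotent (A - 1)) :
    ∀ b ∈ (decomp A).blocks, b.1 = X - C 1 := by
  classical
  intro b hb
  obtain ⟨i, -, rfl⟩ := Multiset.mem_map.1 hb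
  by_contra hne
  obtain ⟨N, hN⟩ := hA
  have hkill : aeval (Matrix.toLin' A) ((X - C (1 : F)) ^ N) = 0 := by
    rw [map_pow, map_sub, aeval_X, aeval_C, map_one,
      show Matrix.toLin' A - 1 = Matrix.toLinAlgEquiv' (A - 1) by rw [map_sub, map_one]; rfl, ← map_pow, hN,
      map_zero]
  have hr := (decomp A).irred i
  have hcop : IsCoprime ((decomp A).p i) ((X - C (1 : F)) ^ N) := by
    refine IsCoprime.pow_right ((irreducible_iff_prime.1 hr).coprime_iff_not_dvd.2 fun hd => hne ?_)
    exact eq_of_monic_of_associated ((decomp A).monic i) (monic_X_sub_C 1)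
      (hr.associated_of_dvd (irreducible_X_sub_C 1) hd)
  have hker : Nat.card {v : Fin n → F // aeval (Matrix.toLin' A) (((decomp A).p i) ^ 1) v = 0} = 1 := by
    rw [pow_one, Nat.card_eq_one_iff_unique]
    refine ⟨⟨fun v w => Subtype.ext ?_⟩, ⟨⟨0, map_zero _⟩⟩⟩
    obtain ⟨a, b, hab⟩ := hcop
    have key : ∀ v, aeval (Matrix.toLin' A) ((decomp A).p i) v = 0 → v = 0 := fun v hv => by
      have := congrArg (fun g : Module.End F (Fin n → F) => g v) (congrArg (aeval (Matrix.toLin' A)) hab)
      simp only [map_add, map_mul, hkill, mul_zero, add_zero] at this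
      rw [map_one, Module.End.mul_apply, hv, map_zero, Module.End.one_apply] at this
      exact this.symm
    rw [key v.1 v.2, key w.1 w.2]
  rw [(decomp A).card_ker ((decomp A).monic i) hr] at hker
  rcases Nat.pow_eq_one.1 hker with h | h
  · exact absurd h Fintype.one_lt_card.ne'
  rcases Nat.mul_eq_zero.1 h with h | h
  · have h2 := torsExp_succ (decomp A).blocks ((decomp A).p i) 0
    rw [zero_add, h] at h2
    have h3 : 0 < (decomp A).blocks.countP (fun b => b.1 = (decomp A).p i ∧ 0 < b.2) :=
      Multiset.countP_pos.2 ⟨_, hb, rfl, (decomp A).pos i⟩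
    omega
  · exact absurd h hr.natDegree_pos.ne'

theorem sum_snd {A : Matrix (Fin n) (Fin n) F} (hA : IsNilpotent (A - 1)) :
    ((decomp A).blocks.map Prod.snd).sum = n := by
  have h := (decomp A).sum_deg
  rw [Module.finrank_fin_fun] at h
  conv_rhs => rw [← h]
  rw [Decomp.blocks, Multiset.map_map]
  refine Finset.sum_congr rfl fun i _ => ?_
  have := blocks_fst hA _ (Multiset.mem_map_of_mem _ (Finset.mem_univ_val i))
  simp only at this
  show (decomp A).e i = _
  rw [this, natDegree_X_sub_C, mul_one]

/-- The partition of a unipotent matrix. -/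
noncomputable def partOf {A : Matrix (Fin n) (Fin n) F} (hA : IsNilpotent (A - 1)) : Nat.Partition n where
  parts := (decomp A).blocks.map Prod.snd
  parts_pos := fun {e} he => by
    obtain ⟨b, hb, rfl⟩ := Multiset.mem_map.1 he
    exact ((decomp A).valid b hb).2.2
  parts_sum := sum_snd hA

theorem exists_conj_of_partOf {A B : Matrix (Fin n) (Fin n) F} (hA : IsNilpotent (A - 1))
    (hB : IsNilpotent (B - 1)) (h : partOf hA = partOf hB) :
    ∃ T : GL (Fin n) F, (T : Matrix (Fin n) (Fin n) F) * A = B * T := by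
  refine exists_conj_of_dataOf ?_
  have key : ∀ {M : Matrix (Fin n) (Fin n) F} (hM : IsNilpotent (M - 1)),
      (decomp M).blocks = (partOf hM).parts.map fun e => (X - C (1 : F), e) := by
    intro M hM
    show _ = Multiset.map _ ((decomp M).blocks.map Prod.snd)
    rw [Multiset.map_map]
    conv_lhs => rw [← Multiset.map_id (decomp M).blocks]
    exact Multiset.map_congr rfl fun b hb => Prod.ext (blocks_fst hM b hb) rfl
  have hbl : (decomp A).blocks = (decomp B).blocks := by rw [key hA, key hB, h]
  funext l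
  rw [dataOf, dataOf, hbl]

theorem exists_partOf (lam : Nat.Partition n) :
    ∃ A : Matrix (Fin n) (Fin n) F, ∃ hA : IsNilpotent (A - 1), partOf hA = lam := by
  classical
  let L := lam.parts.toList
  let ι := Fin L.length
  let e : ι → ℕ := fun i => L[i]
  have hmem : ∀ i, e i ∈ lam.parts := fun i => by
    rw [← Multiset.mem_toList]; exact List.getElem_mem i.2
  have he : ∀ i, 1 ≤ e i := fun i => lam.parts_pos (hmem i)
  have hmulti : (Finset.univ : Finset ι).val.map e = lam.parts := by
    rw [Fin.univ_def]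
    show (↑(List.map e (List.finRange L.length)) : Multiset ℕ) = lam.parts
    rw [show List.map e (List.finRange L.length) = L from List.ofFn_eq_map.symm.trans (List.ofFn_getElem), Multiset.coe_toList]
  let p : F[X] := X - C 1
  haveI : ∀ i, Module.Finite F (blk p (e i)) := fun i => finite_blk (monic_X_sub_C 1) (e i)
  let φ : (∀ i, blk p (e i)) →ₗ[F] (∀ i, blk p (e i)) :=
    ((LinearMap.lsmul F[X] (∀ i, blk p (e i))) X).restrictScalars F
  let D : Decomp φ :=
    { ι := ι, fin := inferInstance, p := fun _ => p, e := e, monic := fun _ => monic_X_sub_C 1,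
      irred := fun _ => irreducible_X_sub_C 1, pos := he,
      equiv := LinearEquiv.ofAEval φ (LinearEquiv.refl F _) fun m => rfl }
  have hsum : finrank F (∀ i, blk p (e i)) = n := by
    rw [Module.finrank_pi_fintype]
    rw [Finset.sum_congr rfl fun i _ => by rw [finrank_blk (monic_X_sub_C (1 : F)) (e i), natDegree_X_sub_C, mul_one]]
    rw [← lam.parts_sum, ← hmulti]
    rfl
  let E : (∀ i, blk p (e i)) ≃ₗ[F] (Fin n → F) := LinearEquiv.ofFinrankEq _ _ (by simp [hsum])
  let A : Matrix (Fin n) (Fin n) F := LinearMap.toMatrix' (E.toLinearMap ∘ₗ φ ∘ₗ E.symm.toLinearMap)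
  have hlin : ∀ v, E (φ v) = Matrix.toLin' A (E v) := fun v => by simp [A]
  have hblk : (decomp A).blocks = D.blocks :=
    Decomp.blocks_eq_of_card _ _ fun r _ _ j => (card_ker_congr E hlin (r ^ j)).symm
  have hpow : ∀ (j : ℕ) (w : Fin n → F),
      (((A - 1) ^ j).mulVec w) = E ((X - C (1 : F)) ^ j • E.symm w) := by
    intro j
    induction j with
    | zero => intro w; simp
    | succ j ih =>
      intro w
      rw [pow_succ', ← Matrix.mulVec_mulVec, ih, Matrix.sub_mulVec, Matrix.one_mulVec, ← Matrix.toLin'_apply,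
        ← hlin, ← map_sub E, pow_succ', mul_smul]
      congr 1
      funext i
      show (X : F[X]) • (((X - C (1 : F)) ^ j • E.symm w) i) - ((X - C (1 : F)) ^ j • E.symm w) i =
        (X - C (1 : F)) • (((X - C (1 : F)) ^ j • E.symm w) i)
      rw [map_one, sub_smul, one_smul]
  have hA : IsNilpotent (A - 1) := by
    refine ⟨n, Matrix.toLin'.injective (LinearMap.ext fun w => ?_)⟩
    rw [Matrix.toLin'_apply, hpow, map_zero]
    have hz : (X - C (1 : F)) ^ n • E.symm w = 0 := funext fun i => by
      obtain ⟨a, ha⟩ := Submodule.Quotient.mk_surjective _ (E.symm w i)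
      rw [Pi.smul_apply, ← ha, ← Submodule.Quotient.mk_smul, Pi.zero_apply, blk_mk_eq_zero, smul_eq_mul]
      refine Dvd.dvd.mul_right (pow_dvd_pow _ ?_) a
      rw [← lam.parts_sum]
      exact Multiset.le_sum_of_mem (hmem i)
    rw [hz, map_zero]; rfl
  refine ⟨A, hA, Nat.Partition.ext ?_⟩
  show (decomp A).blocks.map Prod.snd = lam.parts
  rw [hblk, Decomp.blocks, Multiset.map_map]
  exact hmulti

end CfsgLib.KnownB.UnipClasses
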