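import Cfsg.Agent.Lib.KnownB.GL2Char

/-!
# Cuspidal characters and the classification of the irreducible characters of `GL₂(F)`
-/

set_option autoImplicit false

namespace CfsgLib.KnownB.GL2

open Matrix Finset
open scoped MatrixGroups ComplexConjugate

variable {F : Type*} [Field F] [Fintype F] [DecidableEq F]
variable {E : Type*} [Field E] [Algebra F E] [IsQuad F E] [Fintype E]

local notation "G2" => GL (Fin 2) F
local notation "M2" => Matrix (Fin 2) (Fin 2) F
local notation "q" => (Fintype.card F : ℂ)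

section Embedding

variable (F E)

/-- A basis of `E` over `F`. -/
noncomputable def quadBasis : Module.Basis (Fin 2) F E :=
  haveI : Module.Finite F E := Module.finite_of_finrank_pos (by rw [IsQuad.finrank_eq]; norm_num)
  Module.finBasisOfFinrankEq F E IsQuad.finrank_eq

/-- The regular embedding `Eˣ → GL₂(F)`. -/
noncomputable def emb : Eˣ →* GL (Fin 2) F :=
  Units.map (Algebra.leftMulMatrix (quadBasis F E)).toMonoidHom

variable {F E}

theorem coe_emb (y : Eˣ) :
    ((emb F E y : G2) : M2) = Algebra.leftMulMatrix (quadBasis F E) (y : E) := rfl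

theorem emb_injective : Function.Injective (emb F E) := fun a b h =>
  Units.ext (Algebra.leftMulMatrix_injective (quadBasis F E) (congrArg Units.val h))

theorem trace_emb (y : Eˣ) : ((emb F E y : G2) : M2).trace = Algebra.trace F E (y : E) := by
  rw [coe_emb, Algebra.trace_eq_matrix_trace (quadBasis F E)]

theorem det_emb (y : Eˣ) : ((emb F E y : G2) : M2).det = Algebra.norm F (y : E) := by
  rw [coe_emb, Algebra.norm_eq_matrix_det (quadBasis F E)]

theorem emb_eq_scalar_iff (y : Eˣ) (a : F) :
    ((emb F E y : G2) : M2) = a • 1 ↔ algebraMap F E a = (y : E) := by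
  rw [coe_emb, ← Algebra.algebraMap_eq_smul_one,
    ← (Algebra.leftMulMatrix (quadBasis F E)).commutes a,
    (Algebra.leftMulMatrix_injective (quadBasis F E)).eq_iff, eq_comm]

theorem nonScalar_emb_iff (y : Eˣ) :
    NonScalar ((emb F E y : G2) : M2) ↔ ∀ a, algebraMap F E a ≠ (y : E) := by
  simp only [NonScalar, ne_eq, emb_eq_scalar_iff]

/-- The function `φ` transported to the torus. -/
noncomputable def torusFun (φ : MulChar E ℂ) : (emb F E).range → ℂ :=
  fun k => φ (((MonoidHom.ofInjective emb_injective).symm k : Eˣ) : E)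

/-- The character induced from the elliptic torus. -/
noncomputable def indK (φ : MulChar E ℂ) : GL (Fin 2) F → ℂ :=
  Cfsg.indFun (emb F E).range (torusFun φ)

theorem isCharacter_indK (φ : MulChar E ℂ) : Cfsg.IsCharacter (GL (Fin 2) F) (indK φ) := by
  refine CfsgLib.Char.isCharacter_indFun _ (CfsgLib.Char.irr_isCharacter ?_)
  exact CfsgLib.Char.isIrrCharacter_linear
    (φ.toUnitHom.comp (MonoidHom.ofInjective emb_injective).symm.toMonoidHom)

theorem torusFun_emb (φ : MulChar E ℂ) (y : Eˣ) :
    torusFun (F := F) φ (MonoidHom.ofInjective emb_injective y) = φ (y : E) := by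
  simp [torusFun]

theorem tbl_indK (φ : MulChar E ℂ) :
    IsTbl E (indK (F := F) φ) (fun a => (q ^ 2 - q) * φ (algebraMap F E a)) (fun _ => 0)
      (fun _ _ => 0) (fun x => φ x + φ (x ^ Fintype.card F)) := by
  classical
  obtain ⟨hq0, hq1, hq2⟩ := q_facts (F := F)
  have hK : (Nat.card (emb F E).range : ℂ) = q ^ 2 - 1 := by
    rw [← Nat.card_congr (MonoidHom.ofInjective emb_injective).toEquiv, Nat.card_units,
      Nat.card_eq_fintype_card, card_quad (F := F) (E := E),
      Nat.cast_sub (Nat.one_le_pow _ _ Fintype.card_pos)]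
    simp
  have hKne : q ^ 2 - 1 ≠ 0 := by
    rw [show q ^ 2 - 1 = (q - 1) * (q + 1) by ring]; exact mul_ne_zero hq1 hq2
  have key : ∀ g : G2, NonScalar (g : M2) → indK φ g = (Nat.card (emb F E).range : ℂ)⁻¹ *
      (Nat.card (Subgroup.centralizer ({g} : Set G2)) : ℂ) *
      ∑ y : Eˣ, if (∀ a, algebraMap F E a ≠ (y : E)) ∧ Algebra.trace F E (y : E) = (g : M2).trace ∧
        Algebra.norm F (y : E) = (g : M2).det then φ (y : E) else 0 := by
    intro g hg
    rw [indK, indFun_apply_eq]
    congr 1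
    refine (Equiv.sum_comp (MonoidHom.ofInjective emb_injective).toEquiv _).symm.trans ?_
    refine Finset.sum_congr rfl fun y _ => ?_
    have hiff : IsConj g (emb F E y) ↔ (∀ a, algebraMap F E a ≠ (y : E)) ∧
        Algebra.trace F E (y : E) = (g : M2).trace ∧ Algebra.norm F (y : E) = (g : M2).det := by
      rw [← nonScalar_emb_iff, ← trace_emb, ← det_emb]
      exact ⟨fun h => ⟨isConj_nonScalar h hg, (isConj_trace_det h).1.symm,
        (isConj_trace_det h).2.symm⟩, fun h => isConj_of_trace_det hg h.1 h.2.1.symm h.2.2.symm⟩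
    simp only [MulEquiv.toEquiv_eq_coe, MulEquiv.coe_toEquiv, MonoidHom.ofInjective_apply,
      hiff]
    split_ifs
    · exact torusFun_emb φ y
    · rfl
  constructor
  · intro g a hga
    have ha : a ≠ 0 := by
      rintro rfl
      have := det_ne_zero g
      simp [hga] at this
    have hg : g = emb F E (Units.mk0 (algebraMap F E a) (by simpa using ha)) := by
      refine Units.ext ?_
      rw [hga]
      exact ((emb_eq_scalar_iff (F := F) (E := E) _ a).mpr rfl).symm
    rw [indK, CfsgLib.Char.indFun_def]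
    have hgK : g ∈ (emb F E).range := ⟨_, hg.symm⟩
    have hx : ∀ x : G2, x⁻¹ * g * x = g := fun x => by
      simpa using scalar_conj (x := x⁻¹) hga
    simp only [hx, CfsgLib.Char.extendByZero_of_mem _ hgK]
    rw [Finset.sum_const, Finset.card_univ, nsmul_eq_mul, ← Nat.card_eq_fintype_card, card_gl, hK]
    have : (⟨g, hgK⟩ : (emb F E).range) = MonoidHom.ofInjective emb_injective
        (Units.mk0 (algebraMap F E a) (by simpa using ha)) := Subtype.ext hg
    rw [this, torusFun_emb, Units.val_mk0]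
    field_simp
  · intro g a hg ht hd
    rw [key g hg, Finset.sum_eq_zero, mul_zero]
    intro y _
    rw [if_neg]
    rintro ⟨h1, h2, h3⟩
    have := roots_eq_empty_of_mem h1 h2 h3
    rw [ht, hd, roots_double] at this
    exact Finset.singleton_ne_empty a this
  · intro g a b hab ht hd
    rw [key g (centralizer_split hab ht hd).1, Finset.sum_eq_zero, mul_zero]
    intro y _
    rw [if_neg]
    rintro ⟨h1, h2, h3⟩
    have := roots_eq_empty_of_mem h1 h2 h3
    rw [ht, hd, roots_pair hab] at this
    simp at this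
  · intro g x hx ht hd
    obtain ⟨hg, hc⟩ := centralizer_ell hx ht hd
    rw [key g hg, hK, hc, inv_mul_cancel₀ hKne, one_mul]
    have hx0 : x ≠ 0 := fun h => hx 0 (by simp [h])
    let u : Eˣ := Units.mk0 x hx0
    let v : Eˣ := Units.mk0 (x ^ Fintype.card F) (pow_ne_zero _ hx0)
    have huv : u ≠ v := fun h => pow_q_ne hx (congrArg Units.val h).symm
    rw [← Finset.sum_filter]
    have : (Finset.univ.filter fun y : Eˣ => (∀ a, algebraMap F E a ≠ (y : E)) ∧
        Algebra.trace F E (y : E) = (g : M2).trace ∧ Algebra.norm F (y : E) = (g : M2).det) =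
        {u, v} := by
      ext y
      simp only [mem_filter, mem_univ, true_and, mem_insert, mem_singleton, Units.ext_iff, u, v,
        Units.val_mk0]
      constructor
      · rintro ⟨-, h2, h3⟩
        rcases quad_roots (root_of_quad ht.symm hd.symm) (root_of_quad h2 h3) with h | h
        · exact Or.inl h
        · rw [ht, algebraMap_T, add_sub_cancel_left] at h
          exact Or.inr h
      · rintro (h | h) <;> rw [h]
        · exact ⟨hx, ht.symm, hd.symm⟩
        · exact ⟨pow_q_notMem hx, by rw [T_pow, ht], by rw [N_pow, hd]⟩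
    rw [this, Finset.sum_pair huv]
    rfl

end Embedding

section Series

/-- Linear characters `χ ∘ det`. -/
noncomputable def detC (χ : MulChar F ℂ) : GL (Fin 2) F → ℂ := fun g => χ (g : M2).det

/-- Twisted Steinberg characters. -/
noncomputable def St (χ : MulChar F ℂ) : GL (Fin 2) F → ℂ :=
  fun g => χ (g : M2).det * (I 1 1 g - 1)

/-- The cuspidal character attached to `ν`. -/
noncomputable def X (ν : MulChar E ℂ) : GL (Fin 2) F → ℂ :=
  (I 1 1 - 2) * I (resF ν) 1 - indK ν

omit [Fintype F] [DecidableEq F] [IsQuad F E] [Fintype E] in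
theorem scalar_trace_det {g : G2} {a : F} (h : (g : M2) = a • 1) :
    a ≠ 0 ∧ (g : M2).det = a * a := by
  refine ⟨?_, by rw [h]; simp; ring⟩
  rintro rfl
  have := det_ne_zero g
  simp [h] at this

theorem one_apply_ne {a : F} (ha : a ≠ 0) : (1 : MulChar F ℂ) a = 1 :=
  MulChar.one_apply ha.isUnit

theorem split_ne_zero {g : G2} {a b : F} (hd : (g : M2).det = a * b) : a ≠ 0 ∧ b ≠ 0 :=
  ⟨fun h => det_ne_zero g (by rw [hd, h, zero_mul]), fun h => det_ne_zero g (by rw [hd, h, mul_zero])⟩

theorem tbl_detC (χ : MulChar F ℂ) :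
    IsTbl E (detC χ) (fun a => χ (a * a)) (fun a => χ (a * a)) (fun a b => χ (a * b))
      (fun x => χ (Algebra.norm F x)) where
  scalar g a h := by simp [detC, (scalar_trace_det h).2]
  double g a _ _ hd := by simp [detC, hd]
  split g a b _ _ hd := by simp [detC, hd]
  ell g x _ _ hd := by simp [detC, hd]

theorem tbl_St (χ : MulChar F ℂ) :
    IsTbl E (St χ) (fun a => q * χ (a * a)) (fun _ => 0) (fun a b => χ (a * b))
      (fun x => -χ (Algebra.norm F x)) where
  scalar g a h := by
    obtain ⟨ha, hd⟩ := scalar_trace_det h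
    simp [St, hd, (tbl_I (E := E) 1 1).scalar g a h, one_apply_ne ha]
    ring
  double g a hg ht hd := by
    simp [St, (tbl_I (E := E) 1 1).double g a hg ht hd, one_apply_ne (split_ne_zero hd).1]
  split g a b hab ht hd := by
    simp [St, hd, (tbl_I (E := E) 1 1).split g a b hab ht hd, one_apply_ne (split_ne_zero hd).1,
      one_apply_ne (split_ne_zero hd).2]
  ell g x hx ht hd := by simp [St, hd, (tbl_I (E := E) 1 1).ell g x hx ht hd]

theorem tbl_X (ν : MulChar E ℂ) :
    IsTbl E (X (F := F) ν) (fun a => (q - 1) * ν (algebraMap F E a))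
      (fun a => -ν (algebraMap F E a)) (fun _ _ => 0)
      (fun x => -(ν x + ν (x ^ Fintype.card F))) where
  scalar g a h := by
    obtain ⟨ha, hd⟩ := scalar_trace_det h
    simp [X, (tbl_I (E := E) 1 1).scalar g a h, (tbl_I (E := E) (resF ν) 1).scalar g a h,
      (tbl_indK (F := F) ν).scalar g a h, one_apply_ne ha]
    ring
  double g a hg ht hd := by
    simp [X, (tbl_I (E := E) 1 1).double g a hg ht hd,
      (tbl_I (E := E) (resF ν) 1).double g a hg ht hd,
      (tbl_indK (F := F) ν).double g a hg ht hd, one_apply_ne (split_ne_zero hd).1]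
    norm_num
  split g a b hab ht hd := by
    simp [X, (tbl_I (E := E) 1 1).split g a b hab ht hd,
      (tbl_I (E := E) (resF ν) 1).split g a b hab ht hd,
      (tbl_indK (F := F) ν).split g a b hab ht hd, one_apply_ne (split_ne_zero hd).1,
      one_apply_ne (split_ne_zero hd).2]
    norm_num
  ell g x hx ht hd := by
    simp [X, (tbl_I (E := E) 1 1).ell g x hx ht hd,
      (tbl_I (E := E) (resF ν) 1).ell g x hx ht hd, (tbl_indK (F := F) ν).ell g x hx ht hd]

omit [IsQuad F E] [Fintype E] in
theorem coe_one_gl : ((1 : G2) : M2) = (1 : F) • 1 := by simp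

omit [IsQuad F E] [Fintype E] in
theorem I_one (α β : MulChar F ℂ) : I α β 1 = q + 1 := by
  obtain ⟨E', _, _, _, _⟩ := exists_quad F
  rw [(tbl_I (E := E') α β).scalar 1 1 coe_one_gl]
  simp

theorem X_one (ν : MulChar E ℂ) : X (F := F) ν 1 = q - 1 := by
  rw [(tbl_X (F := F) ν).scalar 1 1 coe_one_gl]
  simp

omit [IsQuad F E] [Fintype E] in
theorem detC_one (χ : MulChar F ℂ) : detC χ (1 : G2) = 1 := by simp [detC]

omit [IsQuad F E] [Fintype E] in
theorem St_one (χ : MulChar F ℂ) : St χ (1 : G2) = q := by simp [St, I_one]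

omit [IsQuad F E] [Fintype E] in
theorem isClassFunction_I (α β : MulChar F ℂ) : Cfsg.IsClassFunction (GL (Fin 2) F) (I α β) :=
  CfsgLib.Char.indFun_isClassFunction _ _

omit [IsQuad F E] [Fintype E] in
theorem isIrr_detC (χ : MulChar F ℂ) : Cfsg.IsIrrCharacter (GL (Fin 2) F) (detC χ) := by
  have h := CfsgLib.Char.isIrrCharacter_linear
    (χ.toUnitHom.comp (Matrix.GeneralLinearGroup.det : G2 →* Fˣ))
  convert h using 1
  ext g
  simp [detC, MulChar.coe_toUnitHom]

theorem isGeneralized_X (ν : MulChar E ℂ) :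
    Cfsg.IsGeneralizedCharacter (GL (Fin 2) F) (X ν) := by
  open CfsgLib.Char in
  refine isGeneralized_sub (isGeneralized_mul (isGeneralized_sub
    (isGeneralized_of_isCharacter (isCharacter_I 1 1)) ?_)
    (isGeneralized_of_isCharacter (isCharacter_I _ _)))
    (isGeneralized_of_isCharacter (isCharacter_indK ν))
  have h : (2 : G2 → ℂ) = (fun _ => (1 : ℂ)) + fun _ => (1 : ℂ) := by ext; norm_num
  rw [h]
  exact CfsgLib.Char.isGeneralized_of_isCharacter
    (CfsgLib.Char.isCharacter_add CfsgLib.Char.isCharacter_one CfsgLib.Char.isCharacter_one)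

omit [IsQuad F E] [Fintype E] in
theorem isGeneralized_St (χ : MulChar F ℂ) :
    Cfsg.IsGeneralizedCharacter (GL (Fin 2) F) (St χ) := by
  open CfsgLib.Char in
  exact isGeneralized_mul (isGeneralized_of_isCharacter (irr_isCharacter (isIrr_detC χ)))
    (isGeneralized_sub (isGeneralized_of_isCharacter (isCharacter_I 1 1))
      (isGeneralized_of_isCharacter isCharacter_one))

end Series

section Inner

open Classical

omit [IsQuad F E] [Fintype E] in
theorem classInner_of_sum [IsQuad F E] [Fintype E] {f f' : GL (Fin 2) F → ℂ} {c : ℂ}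
    (h : 2 * ∑ g : GL (Fin 2) F, (f * fun g => conj (f' g)) g =
      2 * (q ^ 2 - 1) * (q ^ 2 - q) * c) : Cfsg.classInner f f' = c := by
  obtain ⟨hq0, hq1, hq2⟩ := q_facts (F := F)
  have h0 : (2 : ℂ) * (q ^ 2 - 1) * (q ^ 2 - q) ≠ 0 := by
    rw [show q ^ 2 - 1 = (q - 1) * (q + 1) by ring, show q ^ 2 - q = q * (q - 1) by ring]
    simp [hq0, hq1, hq2]
  exact mul_left_cancel₀ h0 ((classInner_eq_sum f f').trans h)

theorem ite_mul_ite (P Q : Prop) [Decidable P] [Decidable Q] [Decidable (P ∧ Q)] (c : ℂ) :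
    (if P then c else 0) * (if Q then c else 0) = c * c * if P ∧ Q then 1 else 0 := by
  by_cases hP : P <;> by_cases hQ : Q <;> simp [hP, hQ]

/-- Orthogonality of the principal series. -/
theorem inner_I_I (α β α' β' : MulChar F ℂ) :
    Cfsg.classInner (I α β) (I α' β') =
      (if α = α' ∧ β = β' then 1 else 0) + (if α = β' ∧ β = α' then 1 else 0) := by
  obtain ⟨E', _, _, _, _⟩ := exists_quad F
  have h := IsTbl.two_mul_sum ((tbl_I (E := E') α β).mul (tbl_I (E := E') α' β').conjF)
    (by simp [MulChar.map_zero]) (by simp [MulChar.map_zero]) (fun a => by simp [MulChar.map_zero])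
    (by simp)
  refine classInner_of_sum (E := E') (h.trans ?_)
  simp only [Pi.mul_apply, map_add, map_mul, map_one, map_natCast, conj_char, map_zero, mul_zero,
    Finset.sum_const_zero, sub_self, mul_zero, add_zero]
  have e1 : ∑ a : F, ∑ b : F, (α a * β b + α b * β a) * (α'⁻¹ a * β'⁻¹ b + α'⁻¹ b * β'⁻¹ a) =
      2 * ((∑ a, (α * α'⁻¹) a) * ∑ a, (β * β'⁻¹) a) +
      2 * ((∑ a, (α * β'⁻¹) a) * ∑ a, (β * α'⁻¹) a) := by
    have : ∀ a b : F, (α a * β b + α b * β a) * (α'⁻¹ a * β'⁻¹ b + α'⁻¹ b * β'⁻¹ a) =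
        (α * α'⁻¹) a * (β * β'⁻¹) b + (β * β'⁻¹) a * (α * α'⁻¹) b +
        (α * β'⁻¹) a * (β * α'⁻¹) b + (β * α'⁻¹) a * (α * β'⁻¹) b := fun a b => by
      simp only [MulChar.mul_apply]; ring
    simp only [this, Finset.sum_add_distrib, ← Finset.mul_sum, ← Finset.sum_mul]
    ring
  have hA : ∀ a : F, (q + 1) * (α a * β a) * ((q + 1) * (α'⁻¹ a * β'⁻¹ a)) =
      (q + 1) ^ 2 * ((α * α'⁻¹) * (β * β'⁻¹)) a := fun a => by
    simp only [MulChar.mul_apply]; ring
  have hB : ∀ a : F, α a * β a * (α'⁻¹ a * β'⁻¹ a) = ((α * α'⁻¹) * (β * β'⁻¹)) a := fun a => by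
    simp only [MulChar.mul_apply]; ring
  have hC : ∀ a : F, (α a * β a + α a * β a) * (α'⁻¹ a * β'⁻¹ a + α'⁻¹ a * β'⁻¹ a) =
      4 * ((α * α'⁻¹) * (β * β'⁻¹)) a := fun a => by
    simp only [MulChar.mul_apply]; ring
  simp only [hA, hB, hC, e1, ← Finset.mul_sum, sum_char, mul_inv_eq_one, ite_mul_ite]
  ring

/-- Orthogonality of the cuspidal series. -/
theorem inner_X_X (ν μ : MulChar E ℂ) :
    Cfsg.classInner (X (F := F) ν) (X μ) =
      (if ν = μ then 1 else 0) + (if ν = μ ^ Fintype.card F then 1 else 0) := by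
  have h := IsTbl.two_mul_sum ((tbl_X (F := F) ν).mul (tbl_X (F := F) μ).conjF)
    (by simp [MulChar.map_zero]) (by simp [MulChar.map_zero]) (fun a => by simp)
    (by simp [MulChar.map_zero, Fintype.card_ne_zero])
  refine classInner_of_sum (E := E) (h.trans ?_)
  simp only [Pi.mul_apply, map_add, map_mul, map_one, map_sub, map_natCast, map_neg, conj_char,
    mul_zero, map_zero, Finset.sum_const_zero, sub_self, mul_zero, add_zero, neg_mul_neg]
  set w : MulChar E ℂ := ν * μ⁻¹ with hw
  set w2 : MulChar E ℂ := ν * (μ⁻¹) ^ Fintype.card F with hw2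
  have hA : ∀ a : F, (q - 1) * ν (algebraMap F E a) * ((q - 1) * μ⁻¹ (algebraMap F E a)) =
      (q - 1) ^ 2 * resF w a := fun a => by
    simp only [resF_apply, hw, MulChar.mul_apply]; ring
  have hB : ∀ a : F, ν (algebraMap F E a) * μ⁻¹ (algebraMap F E a) = resF w a := fun a => by
    simp only [resF_apply, hw, MulChar.mul_apply]
  have hw2' : ∀ x : E, w2 x = ν x * μ⁻¹ (x ^ Fintype.card F) := fun x => by
    rw [hw2, MulChar.mul_apply, MulChar.pow_apply' _ Fintype.card_ne_zero, map_pow]
  have hD : ∀ x : E,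
      (ν x + ν (x ^ Fintype.card F)) * (μ⁻¹ x + μ⁻¹ (x ^ Fintype.card F)) =
      w x + w (x ^ Fintype.card F) + w2 x + w2 (x ^ Fintype.card F) := fun x => by
    rw [hw2', hw2', pow_q_q, hw]
    simp only [MulChar.mul_apply]
    ring
  have hDa : ∀ a : F, (ν (algebraMap F E a) + ν (algebraMap F E a)) *
      (μ⁻¹ (algebraMap F E a) + μ⁻¹ (algebraMap F E a)) = 4 * resF w a := fun a => by
    rw [resF_apply, hw, MulChar.mul_apply]
    ring
  have hs : ∑ x : E, (w x + w (x ^ Fintype.card F) + w2 x + w2 (x ^ Fintype.card F)) =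
      2 * ∑ x : E, w x + 2 * ∑ x : E, w2 x := by
    simp only [Finset.sum_add_distrib]
    rw [sum_pow_q (F := F) (fun x => w x), sum_pow_q (F := F) (fun x => w2 x)]
    ring
  simp only [hA, hB, hD, hs, algebraMap_pow_q, hDa, ← Finset.mul_sum]
  simp only [sum_char, card_quad (F := F) (E := E), hw, hw2, inv_pow, mul_inv_eq_one]
  push_cast
  split_ifs <;> ring

/-- The two series are orthogonal. -/
theorem inner_I_X (α β : MulChar F ℂ) (ν : MulChar E ℂ) :
    Cfsg.classInner (I α β) (X (F := F) ν) = 0 := by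
  have h := IsTbl.two_mul_sum ((tbl_I (E := E) α β).mul (tbl_X (F := F) ν).conjF)
    (by simp [MulChar.map_zero]) (by simp [MulChar.map_zero]) (fun a => by simp [MulChar.map_zero])
    (by simp)
  refine classInner_of_sum (E := E) (h.trans ?_)
  simp only [Pi.mul_apply, map_add, map_mul, map_one, map_sub, map_natCast, map_neg, conj_char,
    mul_zero, zero_mul, map_zero, Finset.sum_const_zero, sub_self, mul_zero, add_zero]
  have hA : ∀ a : F, (q + 1) * (α a * β a) * ((q - 1) * ν⁻¹ (algebraMap F E a)) =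
      (q ^ 2 - 1) * (α a * β a * ν⁻¹ (algebraMap F E a)) := fun a => by ring
  simp only [hA, mul_neg, Finset.sum_neg_distrib, ← Finset.mul_sum]
  ring

end Inner

end CfsgLib.KnownB.GL2
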