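import Cfsg.Agent.Lib.Geom.PSpInvol
import Cfsg.Agent.Lib.KnownB.GL2Irr

/-!
# An element of order `p (q^m + 1)` in `PSp(2m+2, q)`
-/

set_option autoImplicit false

namespace CfsgLib.KnownB.SpElem

open Matrix

universe u

variable {F : Type u} [Field F]

section Restrict

variable {L : Type*} [Field L] [Algebra F L] {m : ℕ} (b : Module.Basis (Fin m) F L)

local notation "M" => Algebra.leftMulMatrix b
local notation "T" => Algebra.traceMatrix F (b : Fin m → L)

theorem transpose_comm (x : L) : (M x)ᵀ * T = T * M x := by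
  ext i j
  simp only [Matrix.mul_apply, Matrix.transpose_apply, Algebra.leftMulMatrix_eq_repr_mul,
    Algebra.traceMatrix_apply, Algebra.traceForm_apply]
  have e1 : ∑ k, b.repr (x * b i) k * Algebra.trace F L (b k * b j) =
      Algebra.trace F L ((x * b i) * b j) := by
    conv_rhs => rw [← b.sum_repr (x * b i), Finset.sum_mul, map_sum]
    simp [smul_mul_assoc, smul_eq_mul]
  have e2 : ∑ k, Algebra.trace F L (b i * b k) * b.repr (x * b j) k =
      Algebra.trace F L (b i * (x * b j)) := by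
    conv_rhs => rw [← b.sum_repr (x * b j), Finset.mul_sum, map_sum]
    simp [mul_smul_comm, smul_eq_mul, mul_comm]
  rw [e1, e2]
  congr 1
  ring

variable [Finite F] [Finite L]

theorem isUnit_traceMatrix : IsUnit (T).det :=
  isUnit_iff_ne_zero.mpr (Algebra.traceMatrix_of_basis (A := F) b ▸ det_traceForm_ne_zero b)

/-- `SL₂(L) → Sp(2m, F)` by restriction of scalars along a basis and its trace-dual. -/
noncomputable def restrictMat (A : Matrix (Fin 2) (Fin 2) L) :
    Matrix (Fin m ⊕ Fin m) (Fin m ⊕ Fin m) F :=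
  fromBlocks (M (A 0 0)) (M (A 0 1) * T⁻¹) (T * M (A 1 0)) (T * M (A 1 1) * T⁻¹)

theorem restrictMat_mul (A B : Matrix (Fin 2) (Fin 2) L) :
    restrictMat b (A * B) = restrictMat b A * restrictMat b B := by
  have hT := isUnit_traceMatrix b
  simp only [restrictMat, fromBlocks_multiply, Matrix.mul_apply, Fin.sum_univ_two, map_add, map_mul]
  congr 1 <;>
    simp only [Matrix.add_mul, Matrix.mul_add, Matrix.mul_assoc, Matrix.nonsing_inv_mul_cancel_left _ _ hT,
      Matrix.nonsing_inv_mul _ hT, Matrix.mul_one]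

theorem restrictMat_mem (A : SpecialLinearGroup (Fin 2) L) :
    restrictMat b (A : Matrix (Fin 2) (Fin 2) L) ∈ symplecticGroup (Fin m) F := by
  have hT := isUnit_traceMatrix b
  have hTs : (T)ᵀ = T := by
    ext i j
    simp [Algebra.traceMatrix_apply, Algebra.traceForm_apply, mul_comm]
  have h1 : ∀ x, (M x)ᵀ = T * M x * T⁻¹ := fun x => by
    rw [← transpose_comm, Matrix.mul_nonsing_inv_cancel_right _ _ hT]
  have hdet : A 0 0 * A 1 1 - A 0 1 * A 1 0 = 1 := by
    rw [← Matrix.det_fin_two]; exact A.2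
  rw [SymplecticGroup.mem_iff, restrictMat, Matrix.J, fromBlocks_transpose, fromBlocks_multiply,
    fromBlocks_multiply]
  simp only [Matrix.transpose_mul, Matrix.transpose_nonsing_inv, hTs, h1, Matrix.mul_zero,
    Matrix.mul_one, zero_add, add_zero, Matrix.mul_neg, Matrix.neg_mul, Matrix.mul_assoc,
    Matrix.nonsing_inv_mul_cancel_left _ _ hT, Matrix.nonsing_inv_mul _ hT,
    Matrix.mul_nonsing_inv_cancel_left _ _ hT, Matrix.mul_nonsing_inv _ hT]
  have hM : ∀ x y (Z : Matrix (Fin m) (Fin m) F), M x * (M y * Z) = M (x * y) * Z := fun x y Z => by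
    rw [map_mul, Matrix.mul_assoc]
  congr 1
  · rw [hM, hM, mul_comm (A 0 1), ← sub_eq_add_neg, sub_self]
  · rw [← map_mul, ← map_mul, ← sub_eq_add_neg, ← map_sub,
      show A 0 1 * A 1 0 - A 0 0 * A 1 1 = -1 by linear_combination -hdet, map_neg, map_one]
  · rw [hM, hM, ← sub_eq_add_neg, ← Matrix.mul_sub, ← Matrix.sub_mul, ← map_sub,
      show A 1 1 * A 0 0 - A 1 0 * A 0 1 = 1 by linear_combination hdet, map_one, Matrix.one_mul,
      Matrix.mul_nonsing_inv _ hT]
  · rw [← map_mul, ← map_mul, mul_comm (A 1 1), ← sub_eq_add_neg, sub_self]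

/-- The restriction of scalars homomorphism. -/
noncomputable def restrictSp : SpecialLinearGroup (Fin 2) L →* symplecticGroup (Fin m) F where
  toFun A := ⟨restrictMat b (A : Matrix (Fin 2) (Fin 2) L), restrictMat_mem b A⟩
  map_one' := Subtype.ext (by
    simp [restrictMat, Matrix.mul_nonsing_inv _ (isUnit_traceMatrix b)])
  map_mul' A B := Subtype.ext (by simp [restrictMat_mul])

theorem restrictSp_injective : Function.Injective (restrictSp b) := by
  have hT := isUnit_traceMatrix b
  intro A B h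
  have h' : restrictMat b (A : Matrix (Fin 2) (Fin 2) L) = restrictMat b (B : Matrix (Fin 2) (Fin 2) L) :=
    congrArg Subtype.val h
  obtain ⟨h00, h01, h10, h11⟩ := fromBlocks_inj.mp h'
  have hinj := Algebra.leftMulMatrix_injective b
  refine Subtype.ext ?_
  ext i j
  fin_cases i <;> fin_cases j
  · exact hinj h00
  · exact hinj (by
      have := congrArg (· * T) h01
      simpa [Matrix.mul_assoc, Matrix.nonsing_inv_mul _ hT] using this)
  · exact hinj (by
      have := congrArg (T⁻¹ * ·) h10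
      simpa [Matrix.nonsing_inv_mul_cancel_left _ _ hT] using this)
  · exact hinj (by
      have := congrArg (fun X => T⁻¹ * X * T) h11
      simpa [Matrix.mul_assoc, Matrix.nonsing_inv_mul _ hT, Matrix.nonsing_inv_mul_cancel_left _ _ hT] using this)

end Restrict

/-- Splitting of the index set of `Sp(2m+2)`. -/
def spSplit (m : ℕ) : (Fin m ⊕ Fin m) ⊕ (Fin 1 ⊕ Fin 1) ≃ Fin (m + 1) ⊕ Fin (m + 1) :=
  (Equiv.sumSumSumComm _ _ _ _).trans (Equiv.sumCongr finSumFinEquiv finSumFinEquiv)

/-- Orthogonal sum of symplectic matrices. -/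
def spSum (m : ℕ) :
    symplecticGroup (Fin m) F × symplecticGroup (Fin 1) F →* symplecticGroup (Fin (m + 1)) F where
  toFun A := ⟨reindex (spSplit m) (spSplit m) (fromBlocks A.1.1 0 0 A.2.1), by
    have hJ : (Matrix.J (Fin (m + 1)) F) =
        reindex (spSplit m) (spSplit m) (fromBlocks (Matrix.J (Fin m) F) 0 0 (Matrix.J (Fin 1) F)) := by
      ext i j
      obtain ⟨i, rfl⟩ := (spSplit m).surjective i
      obtain ⟨j, rfl⟩ := (spSplit m).surjective j
      rw [reindex_apply, submatrix_apply, Equiv.symm_apply_apply, Equiv.symm_apply_apply]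
      rcases i with (i | i) | (i | i) <;> rcases j with (j | j) | (j | j) <;>
        simp [spSplit, Matrix.J, Matrix.one_apply, Fin.ext_iff] <;> omega
    have h1 := SymplecticGroup.mem_iff.mp A.1.2
    have h2 := SymplecticGroup.mem_iff.mp A.2.2
    rw [SymplecticGroup.mem_iff, hJ]
    simp only [reindex_apply, transpose_submatrix, fromBlocks_transpose, submatrix_mul_equiv,
      fromBlocks_multiply, Matrix.transpose_zero, Matrix.mul_zero, Matrix.zero_mul, add_zero,
      zero_add, h1, h2]⟩
  map_one' := Subtype.ext (by simp [fromBlocks_one])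
  map_mul' A B := Subtype.ext (by
    simp [reindex_apply, submatrix_mul_equiv, fromBlocks_multiply])

/-- A transvection in `Sp(2)`. -/
def spTrans (a : F) : symplecticGroup (Fin 1) F :=
  ⟨fromBlocks 1 (a • 1) 0 1, SymplecticGroup.mem_iff.mpr (by
    rw [Matrix.J, fromBlocks_transpose, fromBlocks_multiply, fromBlocks_multiply]
    simp)⟩

theorem spTrans_mul (a b : F) : spTrans a * spTrans b = spTrans (a + b) :=
  Subtype.ext (by
    show fromBlocks 1 (a • 1) 0 1 * fromBlocks 1 (b • 1) 0 1 = _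
    rw [fromBlocks_multiply]
    simp [spTrans, add_smul, add_comm])

theorem spTrans_pow (k : ℕ) : spTrans (1 : F) ^ k = spTrans (k : F) := by
  induction k with
  | zero => exact Subtype.ext (by simp [spTrans, fromBlocks_one])
  | succ k ih => rw [pow_succ, ih, spTrans_mul, Nat.cast_succ]

/-- An element of order `q^m + 1` in `Sp(2m, q)`. -/
theorem exists_orderOf [Fintype F] (p : ℕ) [Fact p.Prime] [CharP F p] (m : ℕ) [NeZero m] :
    ∃ s : symplecticGroup (Fin m) F, orderOf s = Fintype.card F ^ m + 1 := by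
  classical
  let L := FiniteField.Extension F p m
  have : Fintype L := Fintype.ofFinite L
  have hL : Fintype.card L = Fintype.card F ^ m := by
    rw [← Nat.card_eq_fintype_card, ← Nat.card_eq_fintype_card, FiniteField.natCard_extension]
  obtain ⟨E, _, _, _, hquad⟩ := GL2.exists_quad L
  have hE : Fintype.card E = Fintype.card L ^ 2 := by
    rw [Module.card_eq_pow_finrank (K := L) (V := E), GL2.IsQuad.finrank_eq]
  obtain ⟨γ, hγ⟩ := IsCyclic.exists_monoid_generator (α := Eˣ)
  have hγo : orderOf γ = Fintype.card L ^ 2 - 1 := by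
    rw [orderOf_eq_card_of_forall_mem_zpowers fun x => ?_, Nat.card_units, Nat.card_eq_fintype_card, hE]
    obtain ⟨i, hi⟩ := hγ x
    exact ⟨(i : ℤ), by simpa using hi⟩
  obtain ⟨Q, hQ⟩ : ∃ Q, Q = Fintype.card L := ⟨_, rfl⟩
  rw [← hQ] at hγo
  have hQ2 : 2 ≤ Q := hQ ▸ Fintype.one_lt_card
  have hsq : Q ^ 2 - 1 = (Q + 1) * (Q - 1) := by rw [sq]; exact Nat.mul_self_sub_mul_self_eq Q 1
  have hu : orderOf (γ ^ (Q - 1)) = Q + 1 := by
    rw [orderOf_pow' γ (by omega), hγo, hsq, Nat.gcd_mul_left_left, Nat.mul_div_cancel _ (by omega)]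
  have hnorm : Algebra.norm L ((γ ^ (Q - 1) : Eˣ) : E) = 1 := by
    rw [Units.val_pow_eq_pow_val, map_pow, hQ]
    exact FiniteField.pow_card_sub_one_eq_one _ ((Algebra.norm_ne_zero_iff).mpr (Units.ne_zero γ))
  obtain ⟨A, hA⟩ : ∃ A : SpecialLinearGroup (Fin 2) L,
      (A : Matrix (Fin 2) (Fin 2) L) = ((GL2.emb L E (γ ^ (Q - 1)) : GL (Fin 2) L) : Matrix (Fin 2) (Fin 2) L) :=
    ⟨⟨_, (GL2.det_emb _).trans hnorm⟩, rfl⟩
  have hAo : orderOf A = Q + 1 := by
    rw [← hu, ← orderOf_injective (GL2.emb L E) GL2.emb_injective (γ ^ (Q - 1)),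
      ← orderOf_injective (Matrix.SpecialLinearGroup.toGL (n := Fin 2) (R := L))
        Matrix.SpecialLinearGroup.toGL_injective A]
    congr 1
    exact Units.ext hA
  refine ⟨restrictSp ((Module.finBasis F L).reindex (finCongr (FiniteField.finrank_extension F p m))) A, ?_⟩
  rw [orderOf_injective _ (restrictSp_injective _), hAo, hQ, hL]

/-- An element of order `p (q^m + 1)` in `PSp(2m+2, q)`, `q` odd. -/
theorem exists_orderOf_psp [Fintype F] (p : ℕ) [Fact p.Prime] [CharP F p] (hp2 : p ≠ 2) (m : ℕ)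
    [NeZero m] : ∃ g : Cfsg.PSp (m + 1) F, orderOf g = p * (Fintype.card F ^ m + 1) := by
  classical
  have hp : p.Prime := Fact.out
  obtain ⟨s, hs⟩ := exists_orderOf (F := F) p m
  obtain ⟨g, hg⟩ : ∃ g, g = spSum m (s, spTrans (1 : F)) := ⟨_, rfl⟩
  refine ⟨QuotientGroup.mk g, ?_⟩
  have hkey : ∀ k : ℕ, g ^ k ∈ Subgroup.center (symplecticGroup (Fin (m + 1)) F) ↔
      p * (Fintype.card F ^ m + 1) ∣ k := by
    intro k
    have hgk : g ^ k = spSum m (s ^ k, spTrans (k : F)) := by
      rw [hg, ← map_pow]; congr 1; exact Prod.ext rfl (spTrans_pow k)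
    constructor
    · intro hc
      have hsgn : (g ^ k : symplecticGroup (Fin (m + 1)) F).1 = 1 ∨
          (g ^ k : symplecticGroup (Fin (m + 1)) F).1 = -1 := by
        rcases Geom.spLin_center (by omega) hc with h | h
        · left
          refine Matrix.ext_iff_mulVec.mpr fun v => ?_
          rw [Matrix.one_mulVec, ← Geom.spLin_apply, h]
        · right
          refine Matrix.ext_iff_mulVec.mpr fun v => ?_
          rw [Matrix.neg_mulVec, Matrix.one_mulVec, ← Geom.spLin_apply, h]
      have hblock : ∀ c : F, (g ^ k : symplecticGroup (Fin (m + 1)) F).1 = c • 1 →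
          (s ^ k).1 = c • 1 ∧ c = 1 ∧ (k : F) = 0 := by
        intro c hc'
        rw [hgk] at hc'
        change reindex (spSplit m) (spSplit m) (fromBlocks (s ^ k).1 0 0 (spTrans (k : F)).1) = c • 1 at hc'
        have h2 := congrArg (reindex (spSplit m) (spSplit m)).symm hc'
        rw [Equiv.symm_apply_apply] at h2
        have h3 : (reindex (spSplit m) (spSplit m)).symm (c • (1 : Matrix _ _ F)) = fromBlocks (c • 1) 0 0 (c • 1) := by
          simp [reindex_symm, reindex_apply, Matrix.smul_one_eq_diagonal, fromBlocks_diagonal]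
        rw [h3] at h2
        obtain ⟨e1, -, -, e4⟩ := fromBlocks_inj.mp h2
        have e5 := congrFun (congrFun e4 (Sum.inl 0)) (Sum.inl 0)
        have e6 := congrFun (congrFun e4 (Sum.inl 0)) (Sum.inr 0)
        simp [spTrans] at e5 e6
        exact ⟨e1, e5.symm, e6⟩
      obtain ⟨e1, hk⟩ : (s ^ k).1 = 1 ∧ (k : F) = 0 := by
        rcases hsgn with h | h
        · obtain ⟨a, -, b⟩ := hblock 1 (by rw [h, one_smul])
          exact ⟨by rw [a, one_smul], b⟩
        · obtain ⟨a, b, b'⟩ := hblock (-1) (by rw [h, neg_one_smul])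
          exact ⟨by rw [a, b, one_smul], b'⟩
      have h1 := orderOf_dvd_of_pow_eq_one (show s ^ k = 1 from Subtype.ext e1)
      rw [hs] at h1
      refine Nat.Coprime.mul_dvd_of_dvd_of_dvd ?_ ((CharP.cast_eq_zero_iff F p k).mp hk) h1
      refine (Nat.Prime.coprime_iff_not_dvd hp).mpr fun h => hp.not_dvd_one ((Nat.dvd_add_right ?_).mp h)
      obtain ⟨f, -, hf⟩ := FiniteField.card F p
      rw [hf, ← pow_mul]
      exact dvd_pow_self p (Nat.mul_pos f.pos (Nat.pos_of_ne_zero (NeZero.ne m))).ne'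
    · rintro ⟨t, rfl⟩
      have h1 : s ^ (p * (Fintype.card F ^ m + 1) * t) = 1 := by
        rw [← orderOf_dvd_iff_pow_eq_one, hs]; exact (dvd_mul_left _ _).mul_right t
      have h2 : ((p * (Fintype.card F ^ m + 1) * t : ℕ) : F) = 0 := by
        rw [CharP.cast_eq_zero_iff F p, mul_assoc]; exact dvd_mul_right _ _
      rw [hgk, h1, h2, show spTrans (0 : F) = 1 from Subtype.ext (by simp [spTrans, fromBlocks_one]),
        show ((1 : symplecticGroup (Fin m) F), (1 : symplecticGroup (Fin 1) F)) = 1 from rfl, map_one]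
      exact one_mem _
  refine Nat.dvd_antisymm (orderOf_dvd_of_pow_eq_one ?_) ((hkey _).mp ?_)
  · rw [← QuotientGroup.mk_pow, QuotientGroup.eq_one_iff]; exact (hkey _).mpr dvd_rfl
  · rw [← QuotientGroup.eq_one_iff, QuotientGroup.mk_pow, pow_orderOf_eq_one]

end CfsgLib.KnownB.SpElem
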