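import Cfsg.Agent.Lib.KnownB.SL2Norm

/-!
# Sylow subgroups of `SL₂(F)`, `q` odd, for primes other than the characteristic
-/

set_option autoImplicit false

namespace CfsgLib.KnownB.SL2

open Matrix CfsgLib.KnownB.GL2
open scoped MatrixGroups

section Abstract

variable {G : Type*} [Group G] {T : Subgroup G} {n : ℕ}

theorem mem_normalizer_of_centralizer_eq {g x : G}
    (hx : Subgroup.centralizer ({x} : Set G) = T)
    (hy : Subgroup.centralizer ({g * x * g⁻¹} : Set G) = T) :
    g ∈ Subgroup.normalizer (T : Set G) := by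
  rw [Subgroup.mem_normalizer_iff]
  intro h
  conv_lhs => rw [← hx, Subgroup.mem_centralizer_singleton_iff]
  conv_rhs => rw [← hy, Subgroup.mem_centralizer_singleton_iff]
  exact ((Commute.conj_iff (a := h) (b := x) g)).symm

theorem TorusData.comm (D : TorusData T n) : ∀ a ∈ T, ∀ b ∈ T, a * b = b * a := by
  intro a ha b hb
  have := D.cyclic
  let := IsCyclic.commGroup (α := T)
  exact congrArg Subtype.val (mul_comm (⟨a, ha⟩ : T) ⟨b, hb⟩)

theorem TorusData.out_mul_out (D : TorusData T n) [Finite G] {x y : G}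
    (hx : x ∈ Subgroup.normalizer (T : Set G)) (hxT : x ∉ T)
    (hy : y ∈ Subgroup.normalizer (T : Set G)) (hyT : y ∉ T) : x * y ∈ T := by
  set N := Subgroup.normalizer (T : Set G)
  have hle : T ≤ N := Subgroup.le_normalizer
  have hi : (T.subgroupOf N).index = 2 := by
    have h := (T.subgroupOf N).index_mul_card
    rw [Nat.card_congr (Subgroup.subgroupOfEquivOfLe hle).toEquiv, D.card, D.card_norm] at h
    exact Nat.eq_of_mul_eq_mul_right (by rw [← D.card]; exact Nat.card_pos) h
  exact (Subgroup.mul_mem_iff_of_index_two hi (a := ⟨x, hx⟩) (b := ⟨y, hy⟩)).mpr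
    (iff_of_false hxT hyT)

theorem TorusData.map {G' : Type*} [Group G'] (D : TorusData T n) (e : G ≃* G') :
    TorusData (T.map e.toMonoidHom) n := by
  have hn : Subgroup.normalizer ((T.map e.toMonoidHom : Subgroup G') : Set G') =
      (Subgroup.normalizer (T : Set G)).map e.toMonoidHom :=
    (Subgroup.map_equiv_normalizer_eq T e).symm
  have hm : ∀ (H : Subgroup G) (a : G), e a ∈ H.map e.toMonoidHom ↔ a ∈ H := by
    intro H a
    exact Subgroup.mem_map_iff_mem (f := e.toMonoidHom) e.injective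
  refine ⟨?_, ?_, ?_, ?_, ?_⟩
  · have := D.cyclic
    exact isCyclic_of_surjective (e.subgroupMap T) (e.subgroupMap T).surjective
  · rw [← D.card]
    exact (Nat.card_congr (e.subgroupMap T).toEquiv).symm
  · rintro _ ⟨g, hg, rfl⟩ hg2
    have hg2' : g * g ≠ 1 := fun h => hg2 (by rw [← map_mul, h, map_one])
    ext y
    obtain ⟨z, rfl⟩ := e.surjective y
    rw [hm, ← D.cent g hg hg2', Subgroup.mem_centralizer_singleton_iff,
      Subgroup.mem_centralizer_singleton_iff]
    show e z * e g = e g * e z ↔ _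
    rw [← map_mul, ← map_mul, e.injective.eq_iff]
  · rw [hn, ← D.card_norm]
    exact (Nat.card_congr (e.subgroupMap _).toEquiv).symm
  · intro y hy hyT
    obtain ⟨z, rfl⟩ := e.surjective y
    rw [hn, hm] at hy
    rw [hm] at hyT
    obtain ⟨h1, h2, h3⟩ := D.inv z hy hyT
    refine ⟨?_, by rw [← map_mul, ← map_mul, h2, map_one], fun h => h3 (e.injective (by
      rw [map_mul, h, map_one]))⟩
    rintro _ ⟨a, ha, rfl⟩
    show e z * e a * (e z)⁻¹ = (e a)⁻¹
    rw [← map_inv, ← map_mul, ← map_mul, h1 a ha, map_inv]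

/-- A Sylow subgroup lies below a conjugate of any subgroup of full `ℓ`-part. -/
theorem exists_conj_le [Finite G] {ℓ : ℕ} [Fact ℓ.Prime] (H : Subgroup G)
    (h : (Nat.card H).factorization ℓ = (Nat.card G).factorization ℓ) (P : Sylow ℓ G) :
    ∃ g : G, (P : Subgroup G) ≤ H.map (MulAut.conj g).toMonoidHom := by
  obtain ⟨Q⟩ : Nonempty (Sylow ℓ H) := inferInstance
  let S : Subgroup G := (Q : Subgroup H).map H.subtype
  have hS : Nat.card S = ℓ ^ (Nat.card G).factorization ℓ := by
    rw [← h, ← Q.card_eq_multiplicity]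
    exact (Nat.card_congr ((Q : Subgroup H).equivMapOfInjective _ H.subtype_injective).toEquiv).symm
  obtain ⟨g, hg⟩ := MulAction.exists_smul_eq G (Sylow.ofCard S hS) P
  refine ⟨g, ?_⟩
  rw [← hg, Sylow.coe_subgroup_smul, Sylow.coe_ofCard]
  exact Subgroup.map_mono (Subgroup.map_subtype_le _)

/-- A subgroup of a torus containing an element outside `{g | g² = 1}` has the torus as
centraliser, and the same normaliser. -/
theorem TorusData.centralizer_normalizer (D : TorusData T n) {P : Subgroup G} (hP : P ≤ T)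
    {x : G} (hx : x ∈ P) (hx2 : x * x ≠ 1) :
    Subgroup.centralizer (P : Set G) = T ∧
      Subgroup.normalizer (P : Set G) = Subgroup.normalizer (T : Set G) := by
  have hc := D.cent x (hP hx) hx2
  constructor
  · refine le_antisymm (fun y hy => ?_) fun a ha => ?_
    · rw [← hc, Subgroup.mem_centralizer_singleton_iff]
      exact (Subgroup.mem_centralizer_iff.mp hy x hx).symm
    · rw [Subgroup.mem_centralizer_iff]
      exact fun b hb => D.comm b (hP hb) a ha
  · refine le_antisymm (fun g hg => ?_) fun g hg => ?_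
    · have hy : g * x * g⁻¹ ∈ P := (Subgroup.mem_normalizer_iff.mp hg x).mp hx
      refine mem_normalizer_of_centralizer_eq hc (D.cent _ (hP hy) fun h => hx2 ?_)
      rw [conj_mul] at h
      exact conj_eq_one_iff.mp h
    · have key : ∀ g ∈ Subgroup.normalizer (T : Set G), ∀ a ∈ P, g * a * g⁻¹ ∈ P := by
        intro g hg a ha
        by_cases hgT : g ∈ T
        · rw [D.comm g hgT a (hP ha), mul_inv_cancel_right]; exact ha
        · rw [(D.inv g hg hgT).1 a (hP ha)]; exact inv_mem ha
      rw [Subgroup.mem_normalizer_iff]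
      refine fun a => ⟨key g hg a, fun ha => ?_⟩
      have := key g⁻¹ (inv_mem hg) _ ha
      rwa [show g⁻¹ * (g * a * g⁻¹) * g⁻¹⁻¹ = a by group] at this

/-- Data of a Sylow `2`-subgroup inside the normaliser of a torus. -/
theorem TorusData.sylow_two (D : TorusData T n) [Finite G] (S : Sylow 2 G)
    (hle : (S : Subgroup G) ≤ Subgroup.normalizer (T : Set G)) {a : ℕ} (ha : 2 ≤ a)
    (hn : n.factorization 2 = a) (hG : (Nat.card G).factorization 2 = a + 1) :
    ∃ r w : G, r ∈ T ∧ r ∈ (S : Subgroup G) ∧ orderOf r = 2 ^ a ∧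
      w ∈ (S : Subgroup G) ∧ w ∉ T ∧
      (∀ x ∈ (S : Subgroup G), (x ∈ T → x ∈ Subgroup.zpowers r) ∧
        (x ∉ T → x * w ∈ Subgroup.zpowers r)) ∧
      (∀ g ∈ Subgroup.normalizer (T : Set G),
        g ∈ Subgroup.normalizer ((S : Subgroup G) : Set G) → g ∈ (S : Subgroup G)) := by
  have hS : Nat.card S = 2 ^ (a + 1) := by rw [← hG]; exact S.card_eq_multiplicity
  have hn0 : n ≠ 0 := by rw [← D.card]; exact Nat.card_pos.ne'
  obtain ⟨w, hwS, hwT⟩ : ∃ w ∈ (S : Subgroup G), w ∉ T := by
    by_contra hc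
    push Not at hc
    have := (Nat.prime_two.pow_dvd_iff_le_factorization hn0).mp (by
      rw [← hS, ← D.card]; exact Subgroup.card_dvd_of_le hc)
    omega
  set A : Subgroup G := (S : Subgroup G) ⊓ T with hA
  have hwA : w ∉ A := fun h => hwT h.2
  have hcard : Nat.card (S : Subgroup G) = 2 * Nat.card A :=
    card_eq_two_mul_of_coset A _ inf_le_left hwS hwA fun x hx hxA =>
      ⟨mul_mem hx hwS, D.out_mul_out (hle hx) (fun h => hxA ⟨hx, h⟩) (hle hwS) hwT⟩
  have hAc : Nat.card A = 2 ^ a := by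
    rw [show Nat.card (S : Subgroup G) = 2 ^ (a + 1) from hS, pow_succ'] at hcard
    omega
  have : IsCyclic T := D.cyclic
  have : IsCyclic A := isCyclic_of_injective (Subgroup.inclusion (inf_le_right : A ≤ T))
    (Subgroup.inclusion_injective _)
  obtain ⟨⟨r, hr⟩, hgen⟩ := IsCyclic.exists_generator (α := A)
  have hord : orderOf r = 2 ^ a := by
    rw [← hAc, ← orderOf_eq_card_of_forall_mem_zpowers hgen, Subgroup.orderOf_mk]
  have hmem : ∀ y : G, y ∈ A ↔ y ∈ Subgroup.zpowers r := by
    intro y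
    constructor
    · intro hy
      obtain ⟨k, hk⟩ := Subgroup.mem_zpowers_iff.mp (hgen ⟨y, hy⟩)
      exact Subgroup.mem_zpowers_iff.mpr ⟨k, by simpa using congrArg Subtype.val hk⟩
    · exact fun hy => Subgroup.zpowers_le.mpr hr hy
  have htwo : ∀ t ∈ T, t ^ (2 ^ a) = 1 → t ∈ A := by
    classical
    intro t ht htp
    have := Fintype.ofFinite G
    by_contra hc
    let U : Finset T := Finset.univ.filter fun y : T => y ^ (2 ^ a) = 1
    have hU : U.card ≤ 2 ^ a := IsCyclic.card_pow_eq_one_le (by positivity)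
    let V : Finset T := insert ⟨t, ht⟩ (Finset.univ.image (Subgroup.inclusion (inf_le_right : A ≤ T)))
    have hsub : V ⊆ U := by
      intro y hy
      simp only [V, Finset.mem_insert, Finset.mem_image, Finset.mem_univ, true_and] at hy
      simp only [U, Finset.mem_filter, Finset.mem_univ, true_and]
      rcases hy with rfl | ⟨b, rfl⟩
      · exact Subtype.ext (by simpa using htp)
      · rw [← map_pow, ← hAc, pow_card_eq_one', map_one]
    have hV : V.card = 2 ^ a + 1 := by
      rw [Finset.card_insert_of_notMem, Finset.card_image_of_injective _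
        (Subgroup.inclusion_injective _), Finset.card_univ, ← Nat.card_eq_fintype_card, hAc]
      simp only [Finset.mem_image, Finset.mem_univ, true_and, not_exists]
      intro b hb
      have hb' : (b : G) = t := congrArg Subtype.val hb
      exact hc (hb' ▸ b.2)
    have := Finset.card_le_card hsub
    omega
  have hfix : ∀ t ∈ T, t ∈ Subgroup.normalizer ((S : Subgroup G) : Set G) → t ∈ A := by
    intro t ht hts
    have h1 : t * w * t⁻¹ ∈ (S : Subgroup G) := (Subgroup.mem_normalizer_iff.mp hts w).mp hwS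
    have h2 := (D.inv w (hle hwS) hwT).1 t⁻¹ (inv_mem ht)
    rw [inv_inv] at h2
    have h3 : t * w * t⁻¹ = t * t * w := by
      rw [mul_inv_eq_iff_eq_mul] at h2
      rw [mul_assoc, h2, mul_assoc]
    rw [h3, Subgroup.mul_mem_cancel_right _ hwS] at h1
    have h4 : (t * t) ∈ A := ⟨h1, mul_mem ht ht⟩
    refine htwo t ht ?_
    have h5 : orderOf t ∣ 2 ^ (a + 1) := orderOf_dvd_of_pow_eq_one (by
      rw [pow_succ', pow_mul, sq]
      exact congrArg Subtype.val (show (⟨t * t, h4⟩ : A) ^ (2 ^ a) = 1 by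
        rw [← hAc]; exact pow_card_eq_one'))
    have h6 : orderOf t ∣ n := by rw [← D.card]; exact Subgroup.orderOf_dvd_natCard _ ht
    obtain ⟨j, -, hj⟩ := (Nat.dvd_prime_pow Nat.prime_two).mp h5
    rw [hj] at h6
    have := (Nat.prime_two.pow_dvd_iff_le_factorization hn0).mp h6
    exact orderOf_dvd_iff_pow_eq_one.mp (hj ▸ pow_dvd_pow 2 (by omega))
  refine ⟨r, w, hr.2, hr.1, hord, hwS, hwT, fun x hx => ⟨fun hxT => (hmem x).mp ⟨hx, hxT⟩,
    fun hxT => (hmem _).mp ⟨mul_mem hx hwS, D.out_mul_out (hle hx) hxT (hle hwS) hwT⟩⟩, ?_⟩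
  intro g hg hgS
  by_cases hgT : g ∈ T
  · exact (hfix g hgT hgS).1
  · have := (hfix (g * w) (D.out_mul_out hg hgT (hle hwS) hwT)
      (mul_mem hgS (Subgroup.le_normalizer hwS))).1
    exact (Subgroup.mul_mem_cancel_right _ hwS).mp this

end Abstract

variable {F : Type*} [Field F] [Fintype F]

local notation "S2" => Matrix.SpecialLinearGroup (Fin 2) F
local notation "M2" => Matrix (Fin 2) (Fin 2) F

theorem factorization_sl_two {ℓ : ℕ} (hℓ : ¬ ℓ ∣ Fintype.card F) :
    (Nat.card S2).factorization ℓ =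
      (Fintype.card F - 1).factorization ℓ + (Fintype.card F + 1).factorization ℓ := by
  have hq : 1 < Fintype.card F := Fintype.one_lt_card
  rw [Classical.card_sl_two_eq, show Fintype.card F ^ 2 - 1 =
      (Fintype.card F + 1) * (Fintype.card F - 1) by
      simpa [sq] using Nat.sq_sub_sq (Fintype.card F) 1,
    Nat.factorization_mul (by omega) (mul_ne_zero (by omega) (by omega)),
    Nat.factorization_mul (by omega) (by omega), Finsupp.add_apply, Finsupp.add_apply,
    Nat.factorization_eq_zero_of_not_dvd hℓ]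
  omega

theorem exists_torus_sylow_odd (hodd : Odd (Fintype.card F)) {ℓ : ℕ} [Fact ℓ.Prime]
    (hℓ : ℓ ≠ 2) (P : Sylow ℓ S2) {n : ℕ}
    (h : n = Fintype.card F - 1 ∧ ℓ ∣ Fintype.card F - 1 ∨
      n = Fintype.card F + 1 ∧ ℓ ∣ Fintype.card F + 1) :
    ∃ T : Subgroup S2, TorusData T n ∧ Subgroup.centralizer ((P : Subgroup S2) : Set S2) = T ∧
      Subgroup.normalizer ((P : Subgroup S2) : Set S2) = Subgroup.normalizer (T : Set S2) := by
  have hℓp : ℓ.Prime := Fact.out
  have hq1 : 1 < Fintype.card F := Fintype.one_lt_card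
  have hℓ3 : 3 ≤ ℓ := by have := hℓp.two_le; omega
  have hnd : ¬ (ℓ ∣ Fintype.card F - 1 ∧ ℓ ∣ Fintype.card F + 1) := fun ⟨h1, h2⟩ => by
    have := Nat.le_of_dvd (by omega) (Nat.dvd_sub h2 h1)
    omega
  have hℓq : ¬ ℓ ∣ Fintype.card F := fun h' => by
    rcases h with ⟨-, hd⟩ | ⟨-, hd⟩
    · have := Nat.le_of_dvd (by omega) (Nat.dvd_sub h' hd)
      omega
    · have := Nat.le_of_dvd (by omega) (Nat.dvd_sub hd h')
      omega
  obtain ⟨T₀, D₀, hfac⟩ : ∃ T₀ : Subgroup S2, TorusData T₀ n ∧
      (Nat.card T₀).factorization ℓ = (Nat.card S2).factorization ℓ := by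
    rw [factorization_sl_two hℓq]
    rcases h with ⟨rfl, hd⟩ | ⟨rfl, hd⟩
    · refine ⟨_, (torusData_split hodd ?_).1, ?_⟩
      · have := Nat.le_of_dvd (by omega) hd
        omega
      · rw [Classical.card_splitTorus, Nat.factorization_eq_zero_of_not_dvd
          (n := Fintype.card F + 1) (fun h' => hnd ⟨hd, h'⟩), add_zero]
    · obtain ⟨δ, hδ⟩ := FiniteField.exists_nonsquare (ringChar_ne_two hodd)
      refine ⟨_, (torusData_nonsplit hodd hδ).1, ?_⟩
      rw [(torusData_nonsplit hodd hδ).1.card, Nat.factorization_eq_zero_of_not_dvd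
          (n := Fintype.card F - 1) (fun h' => hnd ⟨h', hd⟩), zero_add]
  obtain ⟨g, hg⟩ := exists_conj_le T₀ hfac P
  have hpos : 1 ≤ (Nat.card S2).factorization ℓ := by
    rw [← hfac, D₀.card]
    have hn0 : n ≠ 0 := by rcases h with ⟨rfl, -⟩ | ⟨rfl, -⟩ <;> omega
    refine hℓp.factorization_pos_of_dvd hn0 ?_
    rcases h with ⟨rfl, hd⟩ | ⟨rfl, hd⟩ <;> exact hd
  have hnt : (P : Subgroup S2) ≠ ⊥ := fun h' => by
    have h1 := P.card_eq_multiplicity
    rw [show Nat.card P = Nat.card (P : Subgroup S2) from rfl, h', Subgroup.card_bot] at h1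
    have := (Nat.one_lt_pow (by omega) hℓp.one_lt : 1 < ℓ ^ (Nat.card S2).factorization ℓ)
    omega
  obtain ⟨x, hx, hx1⟩ := (P : Subgroup S2).ne_bot_iff_exists_ne_one.mp hnt |>
    fun ⟨x, hx⟩ => (⟨(x : S2), x.2, fun h' => hx (Subtype.ext h')⟩ : ∃ y, y ∈ (P : Subgroup S2) ∧ y ≠ 1)
  have hx2 : x * x ≠ 1 := by
    intro h'
    obtain ⟨k, hk⟩ := P.isPGroup' ⟨x, hx⟩
    have hxk : x ^ ℓ ^ k = 1 := congrArg Subtype.val hk
    have hc : (ℓ ^ k).gcd 2 = 1 :=
      Nat.Coprime.pow_left k ((Nat.coprime_primes hℓp Nat.prime_two).mpr hℓ)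
    have := Nat.dvd_gcd (orderOf_dvd_of_pow_eq_one hxk)
      (orderOf_dvd_of_pow_eq_one (show x ^ 2 = 1 by rw [sq, h']))
    rw [hc, Nat.dvd_one, orderOf_eq_one_iff] at this
    exact hx1 this
  exact ⟨_, D₀.map (MulAut.conj g), (D₀.map (MulAut.conj g)).centralizer_normalizer hg hx hx2⟩

theorem exists_torus_sylow_two (hodd : Odd (Fintype.card F)) (S : Sylow 2 S2) :
    ∃ (T : Subgroup S2) (n a : ℕ), TorusData T n ∧
      (S : Subgroup S2) ≤ Subgroup.normalizer (T : Set S2) ∧ 2 ≤ a ∧ n.factorization 2 = a ∧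
      (Nat.card S2).factorization 2 = a + 1 ∧
      ((Fintype.card F % 8 = 1 ∨ Fintype.card F % 8 = 7) → 3 ≤ a) ∧
      ((Fintype.card F % 8 = 3 ∨ Fintype.card F % 8 = 5) → a = 2) := by
  have hq1 : 1 < Fintype.card F := Fintype.one_lt_card
  rw [Nat.odd_iff] at hodd
  have h2q : ¬ 2 ∣ Fintype.card F := by omega
  have key : ∀ m, m % 4 = 0 → m ≠ 0 → (m % 8 = 0 → 3 ≤ m.factorization 2) ∧
      (m % 8 = 4 → m.factorization 2 = 2) := by
    intro m hm h0
    refine ⟨fun h => (Nat.prime_two.pow_dvd_iff_le_factorization h0).mp (by norm_num; omega),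
      fun h => le_antisymm ?_ (Classical.two_le_factorization_of_mod_four hm h0)⟩
    by_contra hc
    have := (Nat.prime_two.pow_dvd_iff_le_factorization h0).mpr (show 3 ≤ m.factorization 2 by omega)
    omega
  obtain ⟨T₀, n, D₀, hfac, hn4, hn0, hm⟩ : ∃ (T₀ : Subgroup S2) (n : ℕ), TorusData T₀ n ∧
      (Nat.card S2).factorization 2 = n.factorization 2 + 1 ∧ n % 4 = 0 ∧ n ≠ 0 ∧
      ((Fintype.card F % 8 = 1 ∨ Fintype.card F % 8 = 7) → n % 8 = 0) ∧
      ((Fintype.card F % 8 = 3 ∨ Fintype.card F % 8 = 5) → n % 8 = 4) := by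
    rw [factorization_sl_two h2q]
    by_cases h4 : Fintype.card F % 4 = 1
    · refine ⟨_, _, (torusData_split (Nat.odd_iff.mpr hodd) (by omega)).1, ?_, by omega, by omega,
        by omega, by omega⟩
      rw [Classical.factorization_two_of_mod_four (n := Fintype.card F + 1) (by omega)]
    · obtain ⟨δ, hδ⟩ := FiniteField.exists_nonsquare (ringChar_ne_two (Nat.odd_iff.mpr hodd))
      refine ⟨_, _, (torusData_nonsplit (Nat.odd_iff.mpr hodd) hδ).1, ?_, by omega, by omega,
        by omega, by omega⟩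
      rw [Classical.factorization_two_of_mod_four (n := Fintype.card F - 1) (by omega), add_comm]
  obtain ⟨g, hg⟩ := exists_conj_le (Subgroup.normalizer (T₀ : Set S2)) (by
    rw [D₀.card_norm, hfac, Nat.factorization_mul two_ne_zero hn0, Finsupp.add_apply,
      Nat.prime_two.factorization_self, add_comm]) S
  refine ⟨_, n, _, D₀.map (MulAut.conj g), ?_, Classical.two_le_factorization_of_mod_four hn4 hn0,
    rfl, hfac, fun h => (key n hn4 hn0).1 (hm.1 h), fun h => (key n hn4 hn0).2 (hm.2 h)⟩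
  rwa [← Subgroup.map_equiv_normalizer_eq]

omit [Fintype F] in
/-- The Hurwitz unit built from two anticommuting square roots of `-1`. -/
theorem exists_triality (h2 : (2 : F) ≠ 0) {r w : S2} (hr : ((r * r : S2) : M2) = -1)
    (hw : ((w * w : S2) : M2) = -1) (hwr : w * r * w⁻¹ = r⁻¹) :
    ∃ g : S2, g * w = r * g ∧ g * r = r * w * g := by
  have neg_inv : ∀ s : S2, ((s * s : S2) : M2) = -1 → ((s⁻¹ : S2) : M2) = -(s : M2) := by
    intro s hs
    have h1 : ((s⁻¹ : S2) : M2) * ((s * s : S2) : M2) = (s : M2) := by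
      rw [← Matrix.SpecialLinearGroup.coe_mul, inv_mul_cancel_left]
    rw [hs, mul_neg, mul_one] at h1
    exact neg_eq_iff_eq_neg.mp h1
  have htr : ∀ s : S2, ((s * s : S2) : M2) = -1 → (s : M2) 1 1 = -(s : M2) 0 0 := by
    intro s hs
    have h := congrFun (congrFun (neg_inv s hs) 0) 0
    simpa [coe_inv_entries, Matrix.adjugate_fin_two] using h
  set R : M2 := (r : M2) with hR
  set W : M2 := (w : M2) with hW
  have hRR : R * R = -1 := by rw [hR, ← Matrix.SpecialLinearGroup.coe_mul, hr]
  have hWW : W * W = -1 := by rw [hW, ← Matrix.SpecialLinearGroup.coe_mul, hw]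
  have hWR : W * R = -(R * W) := by
    have h := congrArg (fun x : S2 => (x : M2)) (mul_inv_eq_iff_eq_mul.mp hwr)
    simp only [Matrix.SpecialLinearGroup.coe_mul, neg_inv r hr, neg_mul] at h
    exact h
  have hRR' : ∀ X : M2, R * (R * X) = -X := fun X => by rw [← mul_assoc, hRR, neg_one_mul]
  have hWW' : ∀ X : M2, W * (W * X) = -X := fun X => by rw [← mul_assoc, hWW, neg_one_mul]
  have hWR' : ∀ X : M2, W * (R * X) = -(R * (W * X)) := fun X => by
    rw [← mul_assoc, hWR, neg_mul, mul_assoc]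
  set Y : M2 := R + W + R * W with hY
  have hYY : Y * Y = (-3 : F) • (1 : M2) := by
    rw [neg_smul, show (3 : F) = 1 + 1 + 1 by norm_num, add_smul, add_smul, one_smul]
    simp only [hY, add_mul, mul_add, mul_assoc, hRR, hWW, hWR, hRR', hWW', hWR', mul_neg, neg_mul,
      neg_neg, mul_one, one_mul]
    abel
  have hY11 : Y 1 1 = -Y 0 0 := by
    have h := congrFun (congrFun hWR 0) 0
    have hr' := htr r hr
    have hw' := htr w hw
    rw [← hR] at hr'
    rw [← hW] at hw'
    simp [Matrix.mul_apply, Fin.sum_univ_two, hY, hr', hw'] at h ⊢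
    linear_combination h
  have hdet : ((2 : F)⁻¹ • (-1 + Y) : M2).det = 1 := by
    have h := congrFun (congrFun hYY 0) 0
    simp [Matrix.mul_apply, Fin.sum_univ_two] at h
    simp [Matrix.det_fin_two, hY11]
    field_simp
    linear_combination -h
  refine ⟨⟨_, hdet⟩, Subtype.ext ?_, Subtype.ext ?_⟩
  · show ((2 : F)⁻¹ • (-1 + Y)) * W = R * ((2 : F)⁻¹ • (-1 + Y))
    simp only [smul_mul_assoc, mul_smul_comm, hY, add_mul, mul_add, mul_assoc, hRR, hWW, hWR,
      hRR', hWW', hWR', mul_neg, neg_mul, neg_neg, mul_one, one_mul]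
    congr 1
    abel
  · show ((2 : F)⁻¹ • (-1 + Y)) * R = R * W * ((2 : F)⁻¹ • (-1 + Y))
    simp only [smul_mul_assoc, mul_smul_comm, hY, add_mul, mul_add, mul_assoc, hRR, hWW, hWR,
      hRR', hWW', hWR', mul_neg, neg_mul, neg_neg, mul_one, one_mul]
    congr 1
    abel

theorem sylow_two_triality (hodd : Odd (Fintype.card F)) (S : Sylow 2 S2)
    {T : Subgroup S2} {n : ℕ} (D : TorusData T n)
    (hle : (S : Subgroup S2) ≤ Subgroup.normalizer (T : Set S2)) {r w : S2} (hrT : r ∈ T)
    (hrS : r ∈ (S : Subgroup S2)) (hord : orderOf r = 2 ^ 2) (hwS : w ∈ (S : Subgroup S2))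
    (hwT : w ∉ T)
    (hsplit : ∀ x ∈ (S : Subgroup S2), (x ∈ T → x ∈ Subgroup.zpowers r) ∧
      (x ∉ T → x * w ∈ Subgroup.zpowers r)) :
    ∃ g ∈ Subgroup.normalizer ((S : Subgroup S2) : Set S2), g * w = r * g ∧ g * r = r * w * g := by
  classical
  have h2 := two_ne hodd
  have hr2 : r * r ≠ 1 := fun h => by
    have := Nat.le_of_dvd two_pos (orderOf_dvd_of_pow_eq_one (show r ^ 2 = 1 by rw [sq, h]))
    omega
  have hsqm : ∀ x : S2, (x * x) * (x * x) = 1 → x * x ≠ 1 → ((x * x : S2) : M2) = -1 := by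
    intro x h h'
    rcases (mul_self_eq_one_iff_center h2).mp h with e | e
    · exact absurd (Subtype.ext e) h'
    · exact e
  obtain ⟨hwinv, hw4, hw2⟩ := D.inv w (hle hwS) hwT
  have hr4 : (r * r) * (r * r) = 1 := by
    rw [show (r * r) * (r * r) = r ^ 4 by simp [pow_succ, mul_assoc], show 4 = orderOf r by rw [hord]; rfl,
      pow_orderOf_eq_one]
  obtain ⟨g, hgw, hgr⟩ := exists_triality h2 (hsqm r hr4 hr2) (hsqm w hw4 hw2) (hwinv r hrT)
  set N := Subgroup.normalizer ((S : Subgroup S2) : Set S2) with hN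
  have hgN : g ∈ N := by
    have e1 : g * r * g⁻¹ = r * w := mul_inv_eq_iff_eq_mul.mpr hgr
    have e2 : g * w * g⁻¹ = r := mul_inv_eq_iff_eq_mul.mpr hgw
    have hmap : (S : Subgroup S2).map (MulAut.conj g).toMonoidHom = (S : Subgroup S2) := by
      refine Subgroup.eq_of_le_of_card_ge ?_ ?_
      · rintro _ ⟨x, hx, rfl⟩
        have hz : ∀ z ∈ Subgroup.zpowers r,
            (MulAut.conj g) z ∈ (S : Subgroup S2) := by
          rintro _ ⟨k, rfl⟩
          show (MulAut.conj g) (r ^ k) ∈ _
          rw [map_zpow, MulAut.conj_apply, e1]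
          exact zpow_mem (mul_mem hrS hwS) k
        by_cases hxT : x ∈ T
        · exact hz x ((hsplit x hx).1 hxT)
        · have h := hz _ ((hsplit x hx).2 hxT)
          rw [map_mul, MulAut.conj_apply (h := w), e2] at h
          exact (Subgroup.mul_mem_cancel_right _ hrS).mp h
      · exact (Nat.card_congr ((S : Subgroup S2).equivMapOfInjective _
          (MulAut.conj g).injective).toEquiv).le
    rw [hN, Subgroup.mem_normalizer_iff]
    intro x
    conv_rhs => rw [← hmap]
    exact (Subgroup.mem_map_iff_mem (f := (MulAut.conj g).toMonoidHom)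
      (MulAut.conj g).injective).symm
  exact ⟨g, hgN, hgw, hgr⟩

theorem sylow_two_facts (hodd : Odd (Fintype.card F)) (S : Sylow 2 S2) :
    Subgroup.centralizer ((S : Subgroup S2) : Set S2) = Subgroup.center S2 ∧
    ((Fintype.card F % 8 = 1 ∨ Fintype.card F % 8 = 7) →
      Subgroup.normalizer ((S : Subgroup S2) : Set S2) = (S : Subgroup S2)) ∧
    ((Fintype.card F % 8 = 3 ∨ Fintype.card F % 8 = 5) →
      Nat.card (Subgroup.normalizer ((S : Subgroup S2) : Set S2)) = 3 * Nat.card S) := by
  classical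
  have h2 := two_ne hodd
  obtain ⟨T, n, a, D, hle, ha, hn, hG, h17, h35⟩ := exists_torus_sylow_two hodd S
  obtain ⟨r, w, hrT, hrS, hord, hwS, hwT, hsplit, hfix⟩ := D.sylow_two S hle ha hn hG
  have h4a : 4 ≤ 2 ^ a := (pow_le_pow_right' one_le_two ha : 2 ^ 2 ≤ 2 ^ a)
  have hr2 : r * r ≠ 1 := fun h => by
    have := Nat.le_of_dvd two_pos (orderOf_dvd_of_pow_eq_one (show r ^ 2 = 1 by rw [sq, h]))
    omega
  have hout : ∀ x ∈ (S : Subgroup S2), x ∉ T → x ^ 4 = 1 := fun x hx hxT => by
    rw [show x ^ 4 = (x * x) * (x * x) by simp [pow_succ, mul_assoc]]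
    exact (D.inv x (hle hx) hxT).2.1
  refine ⟨le_antisymm (fun g hg => ?_) (fun g hg => ?_), fun hq => ?_, fun hq => ?_⟩
  · rw [Subgroup.mem_centralizer_iff] at hg
    have hgT : g ∈ T := by
      rw [← D.cent r hrT hr2, Subgroup.mem_centralizer_singleton_iff]
      exact (hg r hrS).symm
    refine mem_center_of_mul_self h2 ?_
    have h := (D.inv w (hle hwS) hwT).1 g hgT
    rw [hg w hwS, mul_inv_cancel_right] at h
    exact eq_inv_iff_mul_eq_one.mp h
  · rw [Subgroup.mem_centralizer_iff]
    exact fun x _ => Subgroup.mem_center_iff.mp hg x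
  · refine le_antisymm (fun g hg => hfix g ?_ hg) Subgroup.le_normalizer
    have hy : g * r * g⁻¹ ∈ (S : Subgroup S2) := (Subgroup.mem_normalizer_iff.mp hg r).mp hrS
    have hyT : g * r * g⁻¹ ∈ T := by
      by_contra hc
      have h := hout _ hy hc
      rw [conj_pow, conj_eq_one_iff] at h
      have h8 : 8 ≤ 2 ^ a := (pow_le_pow_right' one_le_two (h17 hq) : 2 ^ 3 ≤ 2 ^ a)
      have := Nat.le_of_dvd (by norm_num) (orderOf_dvd_of_pow_eq_one h)
      omega
    refine mem_normalizer_of_centralizer_eq (D.cent r hrT hr2) (D.cent _ hyT fun h => hr2 ?_)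
    rw [conj_mul] at h
    exact conj_eq_one_iff.mp h
  · obtain rfl := h35 hq
    have hS8 : Nat.card (S : Subgroup S2) = 8 := by
      rw [show Nat.card (S : Subgroup S2) = Nat.card S from rfl, S.card_eq_multiplicity, hG]
      rfl
    obtain ⟨g, hgN, hgw, hgr⟩ := sylow_two_triality hodd S D hle hrT hrS hord hwS hwT hsplit
    have hr4 : (r * r) * (r * r) = 1 := by
      rw [show (r * r) * (r * r) = r ^ 4 by simp [pow_succ, mul_assoc],
        show 4 = orderOf r by rw [hord]; rfl, pow_orderOf_eq_one]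
    set N := Subgroup.normalizer ((S : Subgroup S2) : Set S2) with hN
    have hgS : g ∉ (S : Subgroup S2) := by
      intro hg
      by_cases hgT : g ∈ T
      · rw [D.comm g hgT r hrT, mul_assoc] at hgr
        have h := mul_left_cancel hgr
        rw [right_eq_mul] at h
        exact hwT (h ▸ T.one_mem)
      · have h := (D.inv g (hle hg) hgT).1 r hrT
        rw [mul_inv_eq_iff_eq_mul.mpr hgr] at h
        rw [eq_inv_mul_of_mul_eq h] at hwT
        exact hwT (mul_mem (inv_mem hrT) (inv_mem hrT))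
    have hSN : (S : Subgroup S2) ≤ N := Subgroup.le_normalizer
    obtain ⟨m, hm⟩ := Subgroup.card_dvd_of_le hSN
    rw [hS8] at hm
    have hm1 : m ≠ 1 := by
      rintro rfl
      exact hgS ((Subgroup.eq_of_le_of_card_ge hSN (by omega)).symm ▸ hgN)
    have hmodd : ¬ 2 ∣ m := by
      rintro ⟨k, rfl⟩
      have h16 : 2 ^ 4 ∣ Nat.card S2 :=
        Dvd.dvd.trans ⟨k, by rw [hm]; ring⟩ N.card_subgroup_dvd_card
      have := (Nat.prime_two.pow_dvd_iff_le_factorization Nat.card_pos.ne').mp h16
      omega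
    have hup : Nat.card N ≤ 6 * 4 := by
      have := Fintype.ofFinite N
      let Φ : N → S2 := fun x => x.1 * r * (x.1)⁻¹
      rw [Nat.card_eq_fintype_card, ← Finset.card_univ, mul_comm]
      refine le_trans (Finset.card_le_mul_card_image (s := Finset.univ) (f := Φ) 4 ?_)
        (Nat.mul_le_mul_left 4 ?_)
      · intro b hb
        obtain ⟨x₀, -, hx₀⟩ := Finset.mem_image.mp hb
        calc _ ≤ (Finset.univ.filter fun y : S2 => y ∈ Subgroup.zpowers r).card := by
              refine Finset.card_le_card_of_injOn (fun x => (x₀.1)⁻¹ * x.1) ?_ ?_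
              · intro x hx
                have hx' : Φ x = Φ x₀ := by
                  rw [hx₀]; exact (Finset.mem_filter.mp hx).2
                simp only [Finset.coe_filter, Finset.mem_univ, true_and, Set.mem_setOf_eq]
                have hc : (x₀.1)⁻¹ * x.1 ∈ T := by
                  rw [← D.cent r hrT hr2, Subgroup.mem_centralizer_singleton_iff]
                  simp only [Φ, mul_inv_eq_iff_eq_mul] at hx'
                  calc (x₀.1)⁻¹ * x.1 * r = (x₀.1)⁻¹ * (x.1 * r) := mul_assoc _ _ _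
                    _ = _ := by rw [hx']; group
                exact (hsplit _ (hfix _ (Subgroup.le_normalizer hc)
                  (mul_mem (inv_mem x₀.2) x.2))).1 hc
              · intro x _ y _ hxy
                exact Subtype.ext (mul_left_cancel hxy)
          _ = 4 := by
              rw [← Fintype.card_subtype, ← Nat.card_eq_fintype_card]
              exact (Nat.card_zpowers r).trans hord
      · have hsub : Finset.univ.image Φ ⊆
            (Finset.univ.filter fun y : S2 => y ∈ (S : Subgroup S2)) \ {1, r * r} := by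
          intro b hb
          obtain ⟨x, -, rfl⟩ := Finset.mem_image.mp hb
          simp only [Finset.mem_sdiff, Finset.mem_filter, Finset.mem_univ, true_and,
            Finset.mem_insert, Finset.mem_singleton, not_or]
          refine ⟨(Subgroup.mem_normalizer_iff.mp x.2 r).mp hrS, fun h => hr2 ?_, fun h => hr2 ?_⟩
          · simp only [Φ, conj_eq_one_iff] at h
            rw [h, one_mul]
          · have h' := congrArg (fun y => y * y) h
            simp only [Φ, hr4] at h'
            rw [conj_mul] at h'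
            exact conj_eq_one_iff.mp h'
        refine le_trans (Finset.card_le_card hsub) ?_
        rw [Finset.card_sdiff_of_subset, Finset.card_pair (Ne.symm hr2), ← Fintype.card_subtype,
          ← Nat.card_eq_fintype_card]
        · exact le_of_eq (by
            rw [show Nat.card {y // y ∈ (S : Subgroup S2)} = 8 from hS8])
        · intro y hy
          simp only [Finset.mem_insert, Finset.mem_singleton] at hy
          simp only [Finset.mem_filter, Finset.mem_univ, true_and]
          rcases hy with rfl | rfl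
          · exact one_mem _
          · exact mul_mem hrS hrS
    rw [show Nat.card S = Nat.card (S : Subgroup S2) from rfl, hS8, hm]
    omega

end CfsgLib.KnownB.SL2
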