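import Cfsg.Agent.Lib.Fusion.PSpPSUChar
import Cfsg.Agent.Lib.Classical.UnitaryGen

/-!
Two generators of the special unitary group over a finite field: a torus element and a root element
times a Coxeter element.
-/

set_option autoImplicit false
set_option linter.unusedVariables false
set_option linter.unusedSectionVars false
set_option linter.style.haveILetI false

namespace CfsgLib.KnownB.SUTwoGen

open Matrix Fin CfsgLib.Fusion.FormGroup

variable {K : Type*} [Field K]

/-! ### Additive span of the powers of an element -/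

/-- Outside all subfields, the powers of an element span additively. -/
theorem closure_pow_eq_top [Fintype K] (r : K) (hr' : r ≠ 0)
    (h : ∀ Q : ℕ, 2 ≤ Q → Q * Q ≤ Fintype.card K → r ^ (Q - 1) ≠ 1) :
    AddSubgroup.closure (Set.range fun n : ℕ => r ^ n) = ⊤ := by
  classical
  set A := AddSubgroup.closure (Set.range fun n : ℕ => r ^ n) with hA
  have hr : ∀ n : ℕ, r ^ n ∈ A := fun n => AddSubgroup.subset_closure ⟨n, rfl⟩
  have hmul : ∀ x ∈ A, ∀ y ∈ A, x * y ∈ A := by
    intro x hx y hy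
    induction hx using AddSubgroup.closure_induction with
    | mem x hx =>
      obtain ⟨a, rfl⟩ := hx
      induction hy using AddSubgroup.closure_induction with
      | mem y hy =>
        obtain ⟨b, rfl⟩ := hy
        show r ^ a * r ^ b ∈ A
        rw [← pow_add]
        exact hr _
      | zero => rw [mul_zero]; exact zero_mem A
      | add y z _ _ hy hz => rw [mul_add]; exact add_mem hy hz
      | neg y _ hy => rw [mul_neg]; exact neg_mem hy
    | zero => rw [zero_mul]; exact zero_mem A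
    | add x z _ _ hx hz => rw [add_mul]; exact add_mem hx hz
    | neg x _ hx => rw [neg_mul]; exact neg_mem hx
  have h1 : (1 : K) ∈ A := pow_zero r ▸ hr 0
  have hpow : ∀ x ∈ A, ∀ n : ℕ, x ^ n ∈ A := fun x hx n => by
    induction n with
    | zero => rwa [pow_zero]
    | succ n ih => rw [pow_succ]; exact hmul _ ih _ hx
  have hinv : ∀ x ∈ A, x⁻¹ ∈ A := fun x hx => by
    rcases eq_or_ne x 0 with rfl | hx0
    · rwa [_root_.inv_zero]
    · have hc : 2 ≤ Fintype.card K := Fintype.one_lt_card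
      rw [show x⁻¹ = x ^ (Fintype.card K - 2) from inv_eq_of_mul_eq_one_left (by
        rw [← pow_succ, show Fintype.card K - 2 + 1 = Fintype.card K - 1 by omega,
          FiniteField.pow_card_sub_one_eq_one x hx0])]
      exact hpow x hx _
  let T : Subfield K :=
    { carrier := A
      mul_mem' := fun {x y} hx hy => hmul x hx y hy
      one_mem' := h1
      add_mem' := fun {x y} hx hy => add_mem hx hy
      zero_mem' := zero_mem A
      neg_mem' := fun {x} hx => neg_mem hx
      inv_mem' := hinv }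
  by_contra hne
  have hT : T ≠ ⊤ := fun e => hne (by
    rw [eq_top_iff]
    intro x _
    exact (e.symm ▸ Subfield.mem_top x : x ∈ T))
  have hrank : 2 ≤ Module.finrank T K := by
    rcases Nat.lt_or_ge (Module.finrank T K) 2 with hlt | hge
    · exfalso
      have hpos : 0 < Module.finrank T K := Module.finrank_pos
      have hcard : Nat.card K = Nat.card T := by
        rw [Module.natCard_eq_pow_finrank (K := T) (V := K),
          show Module.finrank T K = 1 by omega, pow_one]
      refine hT (eq_top_iff.2 fun x _ => ?_)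
      have hsurj : Function.Surjective (fun t : T => (t : K)) :=
        ((Nat.bijective_iff_injective_and_card _).2 ⟨Subtype.val_injective, hcard.symm⟩).2
      obtain ⟨t, rfl⟩ := hsurj x
      exact t.2
    · exact hge
  have hQ : 2 ≤ Fintype.card T := Fintype.one_lt_card
  have hle : Fintype.card T * Fintype.card T ≤ Fintype.card K := by
    have := Module.card_eq_pow_finrank (K := T) (V := K)
    rw [this]
    calc Fintype.card T * Fintype.card T = Fintype.card T ^ 2 := (sq _).symm
      _ ≤ _ := Nat.pow_le_pow_right (by omega) hrank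
  refine h _ hQ hle ?_
  have hrT : r ∈ T := pow_one r ▸ hr 1
  have hr0 : (⟨r, hrT⟩ : T) ≠ 0 := fun e => hr' (congrArg Subtype.val e)
  exact congrArg Subtype.val (FiniteField.pow_card_sub_one_eq_one _ hr0)

/-! ### The Coxeter permutation -/

variable {n : ℕ}

/-- The map behind the Coxeter permutation. -/
def cycFun (hn : 2 ≤ n) (x : Fin n) : Fin n :=
  ⟨if (x : ℕ) + 1 < n / 2 then (x : ℕ) + 1 else if (x : ℕ) + 1 = n / 2 then n - 1 else
    if (x : ℕ) = n - n / 2 then 0 else if n - n / 2 < (x : ℕ) then (x : ℕ) - 1 else x, by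
    have := x.2
    split_ifs <;> omega⟩

/-- The Coxeter permutation. -/
noncomputable def cyc (hn : 2 ≤ n) : Equiv.Perm (Fin n) :=
  Equiv.ofBijective (cycFun hn) (Finite.injective_iff_bijective.1 fun x y h => by
    have h' := congrArg Fin.val h
    have := x.2
    have := y.2
    simp only [cycFun] at h'
    refine Fin.ext ?_
    split_ifs at h' <;> omega)

theorem cyc_val (hn : 2 ≤ n) (x : Fin n) :
    (cyc hn x : ℕ) = if (x : ℕ) + 1 < n / 2 then (x : ℕ) + 1 else if (x : ℕ) + 1 = n / 2 then n - 1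
      else if (x : ℕ) = n - n / 2 then 0 else if n - n / 2 < (x : ℕ) then (x : ℕ) - 1 else x := rfl

theorem cyc_rev (hn : 2 ≤ n) (x : Fin n) : cyc hn (rev x) = rev (cyc hn x) := by
  refine Fin.ext ?_
  have := x.2
  rw [cyc_val, rev_val, rev_val, cyc_val]
  split_ifs <;> omega

theorem cyc_mid (hn : 2 ≤ n) {o : Fin n} (ho : rev o = o) : cyc hn o = o := by
  refine Fin.ext ?_
  have := congrArg Fin.val ho
  rw [rev_val] at this
  have := o.2
  rw [cyc_val]
  split_ifs <;> omega

/-- The index of the first half at `i`. -/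
def ix (i : ℕ) (h : i < n / 2) : Fin n := ⟨i, by omega⟩

theorem ix_val (i : ℕ) (h : i < n / 2) : ((ix i h : Fin n) : ℕ) = i := rfl

theorem ix_ne_rev (i : ℕ) (h : i < n / 2) : (ix i h : Fin n) ≠ rev (ix i h) := fun e => by
  have := congrArg Fin.val e
  rw [rev_val, ix_val] at this
  omega

theorem cyc_ix (hn : 2 ≤ n) (i : ℕ) (h : i + 1 < n / 2) :
    cyc hn (ix i (by omega)) = ix (i + 1) h := Fin.ext (by
  rw [cyc_val, ix_val, ix_val, if_pos h])

theorem cyc_last (hn : 2 ≤ n) :
    cyc hn (ix (n / 2 - 1) (by omega)) = rev (ix 0 (by omega)) := Fin.ext (by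
  rw [cyc_val, rev_val, ix_val, ix_val]
  split_ifs <;> omega)

theorem cyc_symm_zero (hn : 2 ≤ n) :
    (cyc hn).symm (ix 0 (by omega)) = rev (ix (n / 2 - 1) (by omega)) := by
  rw [Equiv.symm_apply_eq, cyc_rev, cyc_last, Fin.rev_rev]

theorem ix_or (x : Fin n) :
    (∃ (i : ℕ) (h : i < n / 2), x = ix i h ∨ x = rev (ix i h)) ∨ rev x = x := by
  have := x.2
  by_cases hx : (x : ℕ) < n / 2
  · exact Or.inl ⟨x, hx, Or.inl (Fin.ext rfl)⟩
  by_cases hx' : n - n / 2 ≤ (x : ℕ)
  · exact Or.inl ⟨n - 1 - x, by omega, Or.inr (Fin.ext (by rw [rev_val, ix_val]; omega))⟩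
  · exact Or.inr (Fin.ext (by rw [rev_val]; omega))

theorem adm_mk {x y : Fin n} (h1 : x ≠ y) (h2 : x ≠ rev y) (hx : x ≠ rev x) (hy : y ≠ rev y) :
    Adm x y := ⟨h1, h2, hx, hy⟩

theorem adm_ix {i j : ℕ} (hi : i < n / 2) (hj : j < n / 2) (h : i ≠ j) :
    Adm (ix i hi : Fin n) (ix j hj) ∧ Adm (ix i hi : Fin n) (rev (ix j hj)) := by
  have h1 : (ix i hi : Fin n) ≠ ix j hj := fun e => h (congrArg Fin.val e)
  have h2 : (ix i hi : Fin n) ≠ rev (ix j hj) := fun e => by
    have := congrArg Fin.val e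
    rw [rev_val, ix_val, ix_val] at this
    omega
  exact ⟨⟨h1, h2, ix_ne_rev i hi, ix_ne_rev j hj⟩, h2, by rwa [Fin.rev_rev], ix_ne_rev i hi,
    by rw [Fin.rev_rev]; exact (ix_ne_rev j hj).symm⟩

theorem mid_eq {x y : Fin n} (hx : rev x = x) (hy : rev y = y) : x = y := Fin.ext (by
  have := congrArg Fin.val hx
  have := congrArg Fin.val hy
  rw [rev_val] at *
  have := x.2
  have := y.2
  omega)

/-! ### Elements -/

variable {σ : K ≃+* K}

local notation "G" => Dat.group (suDat σ n)

theorem e_one (x : Fin n) : (suDat σ n).e x = 1 := rfl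

theorem σ_eq (z : K) : (suDat σ n).σ z = σ z := rfl

/-- `t` at `i`, its conjugate inverse at the mirror. -/
def tw (σ : K ≃+* K) (i : Fin n) (t : K) : Fin n → K :=
  fun x => if x = i then t else if x = rev i then (σ t)⁻¹ else 1

theorem tw_rel (hσ : ∀ z, σ (σ z) = z) {i : Fin n} (hi : i ≠ rev i) {t : K} (ht : t ≠ 0)
    (x : Fin n) : tw σ i t x * σ (tw σ i t (rev x)) = 1 := by
  have hσt : σ t ≠ 0 := fun h => ht (by rw [← hσ t, h, map_zero])
  by_cases h1 : x = i
  · subst h1; simp [tw, hi.symm, hσ, ht]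
  by_cases h2 : x = rev i
  · subst h2; simp [tw, hi.symm, hσt]
  simp [tw, h1, h2, show rev x ≠ i from fun e => h2 (by rw [← e, Fin.rev_rev])]

theorem tw_prod {i : Fin n} (hi : i ≠ rev i) (t : K) : ∏ x, tw σ i t x = t * (σ t)⁻¹ := by
  rw [Fintype.prod_eq_mul i (rev i) hi fun x hx => by simp [tw, hx.1, hx.2]]
  simp [tw, hi.symm]

theorem tw_self (i : Fin n) (t : K) : tw σ i t i = t := if_pos rfl

theorem tw_rev {i : Fin n} (hi : i ≠ rev i) (t : K) : tw σ i t (rev i) = (σ t)⁻¹ := by
  simp [tw, hi.symm]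

theorem tw_ne {i x : Fin n} (t : K) (h1 : x ≠ i) (h2 : x ≠ rev i) : tw σ i t x = 1 := by
  simp [tw, h1, h2]

theorem diag_ne_zero {d : Fin n → K} (hd : ∀ x, d x * σ (d (rev x)) = 1) (x : Fin n) : d x ≠ 0 :=
  fun h => by have := hd x; rw [h, zero_mul] at this; exact zero_ne_one this

theorem exists_diag (d : Fin n → K) (hd : ∀ x, d x * σ (d (rev x)) = 1) (hp : ∏ x, d x = 1) :
    ∃ g : G, mat g = mono 1 d := by
  obtain ⟨g, hg, hgm⟩ := exists_mono (D := suDat σ n) 1 (fun _ => rfl) d (fun i => by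
    simp only [e_one, σ_eq, mul_one]; exact hd i) (diag_ne_zero hd)
    (by rw [mono_one, det_diagonal, hp])
  exact ⟨⟨g, hg⟩, hgm⟩

theorem diag_comm {g h : G} {d d' : Fin n → K} (hg : mat g = mono 1 d)
    (hh : mat h = mono 1 d') : g * h = h * g := mat_inj (by
  rw [mat_mul, mat_mul, hg, hh, mono_mul, mono_mul]
  simp only [Equiv.Perm.one_apply, mul_comm])

theorem mono_inv {w : G} {π : Equiv.Perm (Fin n)} {W : Fin n → K} (hW : ∀ x, W x ≠ 0)
    (hw : mat w = mono π W) : mat w⁻¹ = mono π.symm (fun x => (W (π.symm x))⁻¹) := by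
  refine left_inv_eq_right_inv (a := mat w) (by rw [← mat_mul, inv_mul_cancel, mat_one]) ?_
  rw [hw, mono_mul]
  ext x y
  simp only [mono, Matrix.of_apply, Equiv.Perm.coe_mul, Function.comp_apply,
    Equiv.apply_symm_apply, Matrix.one_apply]
  split_ifs with h
  · exact mul_inv_cancel₀ (hW _)
  · rfl

/-! ### Identities -/

theorem sh_sh_ident {i j k : Fin n} (h : Adm i j) (h' : Adm j k) (h'' : Adm i k) (a b : K) :
    (1 + shM (suDat σ n) i j a) * (1 + shM (suDat σ n) j k b) =
      (1 + shM (suDat σ n) i k (a * b)) * (1 + shM (suDat σ n) j k b) *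
        (1 + shM (suDat σ n) i j a) := by
  obtain ⟨ij, ij', ii, jj⟩ := h
  obtain ⟨jk, jk', -, kk⟩ := h'
  obtain ⟨ik, ik', -, -⟩ := h''
  have r : ∀ {u v : Fin n}, u ≠ v → rev u ≠ rev v := fun h e => h (Fin.rev_injective e)
  have r' : ∀ {u v : Fin n}, u ≠ rev v → rev u ≠ v := fun h e => h (by rw [← e, Fin.rev_rev])
  simp only [shM, σ_eq, e_one, mul_one, map_mul, Matrix.mul_add, Matrix.add_mul, Matrix.mul_one,
    Matrix.one_mul, sne ij.symm, sne jk.symm, sne ik.symm, sne ij, sne jk, sne ik, sne ij',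
    sne ij'.symm, sne jk', sne jk'.symm, sne ik', sne ik'.symm, sne ii, sne ii.symm, sne jj,
    sne jj.symm, sne kk, sne kk.symm, sne (r ij), sne (r ij).symm, sne (r jk), sne (r jk).symm,
    sne (r ik), sne (r ik).symm, sne (r' ij'), sne (r' ij').symm, sne (r' jk'), sne (r' jk').symm,
    sne (r' ik'), sne (r' ik').symm, single_mul_single_same, add_zero, zero_add, Matrix.zero_mul,
    Matrix.mul_zero, neg_mul, mul_neg, neg_neg, ← Matrix.single_neg]
  simp only [mul_comm (σ b) (σ a)]
  abel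

theorem sh_long_ident {i j : Fin n} (h : Adm i j) (a b : K) :
    (1 + shM (suDat σ n) i j a) * (1 + shM (suDat σ n) j (rev i) b) =
      (1 + lgM i (a * b - σ a * σ b)) * (1 + shM (suDat σ n) j (rev i) b) *
        (1 + shM (suDat σ n) i j a) := by
  obtain ⟨ij, ij', ii, jj⟩ := h
  have r : ∀ {u v : Fin n}, u ≠ v → rev u ≠ rev v := fun h e => h (Fin.rev_injective e)
  have r' : ∀ {u v : Fin n}, u ≠ rev v → rev u ≠ v := fun h e => h (by rw [← e, Fin.rev_rev])
  simp only [shM, lgM, σ_eq, e_one, mul_one, Fin.rev_rev, Matrix.mul_add, Matrix.add_mul,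
    Matrix.mul_one, Matrix.one_mul, sne ij, sne ij.symm, sne ij', sne ij'.symm, sne ii, sne ii.symm,
    sne jj, sne jj.symm, sne (r ij), sne (r ij).symm, sne (r' ij'), sne (r' ij').symm,
    single_mul_single_same, add_zero, zero_add, Matrix.zero_mul, Matrix.mul_zero, neg_mul, mul_neg,
    neg_neg, sub_eq_add_neg, Matrix.single_add, ← Matrix.single_neg]
  simp only [mul_comm (σ b) (σ a)]
  abel

theorem md_prod {i o : Fin n} (ho : rev o = o) (hi : i ≠ o) (hi' : i ≠ rev i) (a b c d : K) :
    (1 + mdM (suDat σ n) i o a b) * (1 + mdM (suDat σ n) i o c d) =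
      1 + mdM (suDat σ n) i o (a + c) (b + d - a * σ c) := by
  have h2 : rev i ≠ o := fun e => hi (by rw [← Fin.rev_rev i, e, ho])
  simp only [mdM, σ_eq, map_add, neg_add, Matrix.mul_add, Matrix.add_mul, Matrix.mul_one,
    Matrix.one_mul, sne hi, sne hi.symm, sne h2, sne h2.symm, sne hi', sne hi'.symm,
    single_mul_single_same, add_zero, zero_add, sub_eq_add_neg, mul_neg, neg_mul, neg_neg,
    neg_zero, Matrix.zero_mul, Matrix.mul_zero, Matrix.single_add, ← Matrix.single_neg]
  abel

theorem md_md_ident (hσ0 : ∀ z, σ (σ z) = z) {i j o : Fin n} (ho : rev o = o) (h : Adm i j)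
    (a b c d : K) :
    (1 + mdM (suDat σ n) i o a b) * (1 + mdM (suDat σ n) j o c d) =
      (1 + shM (suDat σ n) i (rev j) (-(a * σ c))) * (1 + mdM (suDat σ n) j o c d) *
        (1 + mdM (suDat σ n) i o a b) := by
  obtain ⟨ij, ij', ii, jj⟩ := h
  have oi : o ≠ i := fun e => ii (by rw [← e, ho])
  have oj : o ≠ j := fun e => jj (by rw [← e, ho])
  have oi' : o ≠ rev i := fun e => oi (by rw [← ho, e, Fin.rev_rev])
  have oj' : o ≠ rev j := fun e => oj (by rw [← ho, e, Fin.rev_rev])
  have r : ∀ {u v : Fin n}, u ≠ v → rev u ≠ rev v := fun h e => h (Fin.rev_injective e)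
  have r' : ∀ {u v : Fin n}, u ≠ rev v → rev u ≠ v := fun h e => h (by rw [← e, Fin.rev_rev])
  have hσ : -σ (-(a * σ c)) = c * σ a := by rw [map_neg, neg_neg, map_mul, hσ0, mul_comm]
  simp only [mdM, shM, σ_eq, e_one, mul_one, hσ, Fin.rev_rev, Matrix.mul_add, Matrix.add_mul,
    Matrix.mul_one, Matrix.one_mul, sne ij, sne ij.symm, sne ij', sne ij'.symm, sne ii,
    sne ii.symm, sne jj, sne jj.symm, sne oi, sne oi.symm, sne oj, sne oj.symm, sne oi',
    sne oi'.symm, sne oj', sne oj'.symm, sne (r ij), sne (r ij).symm, sne (r' ij'),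
    sne (r' ij').symm, single_mul_single_same, add_zero, zero_add, Matrix.zero_mul, Matrix.mul_zero,
    mul_neg, neg_mul, neg_neg, ← Matrix.single_neg]
  abel

/-- Conjugation of a middle root element by a diagonal element. -/
theorem md_diag (hD : (suDat σ n).Good) {g u : G} {w : Fin n → K} (hw : ∀ x, w x ≠ 0)
    (hg : mat g = mono 1 w) {i o : Fin n} (ho : rev o = o) (h : i ≠ o) (h' : i ≠ rev i)
    {a b : K} (hu : mat u = 1 + mdM (suDat σ n) i o a b) :
    mat (g * u * g⁻¹) = 1 + mdM (suDat σ n) i o (w i * a / w o) (w i * b / w (rev i)) :=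
  (md_partner hD ho h h' (g := g * u * g⁻¹) (a := w i * a / w o) (b := w i * b / w (rev i))
    (d := w o * -(suDat σ n).σ a / w (rev i)) (by
      refine mono_conj (π := 1) (w := w) hg hu ?_
      rw [mdM, Matrix.mul_add, Matrix.mul_add, Matrix.add_mul, Matrix.add_mul, mono_mul_single,
        mono_mul_single, mono_mul_single]
      conv_rhs => rw [show single i o (w i * a / w o) =
          single i ((1 : Equiv.Perm (Fin n)) o) (w i * a / w o) from rfl,
        show single i (rev i) (w i * b / w (rev i)) =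
          single i ((1 : Equiv.Perm (Fin n)) (rev i)) (w i * b / w (rev i)) from rfl,
        show single o (rev i) (w o * -(suDat σ n).σ a / w (rev i)) =
          single o ((1 : Equiv.Perm (Fin n)) (rev i)) (w o * -(suDat σ n).σ a / w (rev i)) from rfl]
      rw [single_mul_mono, single_mul_mono, single_mul_mono,
        div_mul_cancel₀ _ (hw o), div_mul_cancel₀ _ (hw (rev i)), div_mul_cancel₀ _ (hw (rev i))]
      rfl)).2

theorem transvection_shape (hD : (suDat σ n).Good) {i0 : Fin n} (hne : i0 ≠ rev i0) {B : G}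
    (h : ∀ x, x ≠ i0 → ∀ y, mat B x y = if x = y then 1 else 0) :
    mat B = 1 + lgM i0 (mat B i0 (rev i0)) := by
  have hrow : ∀ y, y ≠ rev i0 → mat B i0 y = if i0 = y then 1 else 0 := by
    intro y hy
    have hb : rev y ≠ i0 := fun e => hy (by rw [← e, Fin.rev_rev])
    have hr := row_rel hD B i0 (rev y)
    rw [Finset.sum_eq_single y (fun x _ hx => by
      rw [h _ hb, if_neg fun e => hx (Fin.rev_injective e.symm), map_zero, mul_zero]) (by simp),
      h _ hb, if_pos rfl, map_one, mul_one, e_one, e_one, mul_one] at hr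
    rw [hr]
    rcases eq_or_ne i0 y with e | e
    · subst e; simp
    · rw [if_neg e, if_neg fun e' => e (Fin.rev_injective e').symm]
  ext x y
  rw [Matrix.add_apply, lgM, Matrix.one_apply, Matrix.single_apply]
  rcases eq_or_ne x i0 with hx | hx
  · subst hx
    rcases eq_or_ne y (rev x) with hy | hy
    · subst hy
      simp [hne]
    · rw [hrow y hy]
      simp [Ne.symm hy]
  · rw [h x hx y]
    simp [Ne.symm hx]

/-! ### Root groups inside a subgroup -/

variable (H : Subgroup (Dat.group (suDat σ n)))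

/-- All elements of a short root group lie in `H`. -/
def Full (i j : Fin n) : Prop :=
  ∀ (g : G) (c : K), mat g = 1 + shM (suDat σ n) i j c → g ∈ H

/-- All elements of a long root group lie in `H`. -/
def FullL (i : Fin n) : Prop :=
  ∀ (g : G) (c : K), mat g = 1 + lgM i c → g ∈ H

/-- All elements of a middle root group lie in `H`. -/
def FullM (i o : Fin n) : Prop :=
  ∀ (g : G) (a b : K), mat g = 1 + mdM (suDat σ n) i o a b → g ∈ H

variable {H}

/-- The data of a Coxeter element in `H`. -/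
structure Cox (hn : 2 ≤ n) (H : Subgroup G) where
  w : Dat.group (suDat σ n)
  W : Fin n → K
  hW : ∀ x, W x ≠ 0
  hw : mat w = mono (cyc hn) W
  mem : w ∈ H

theorem full_partner (hD : (suDat σ n).Good) {i j : Fin n} (h : Full H i j) :
    Full H (rev j) (rev i) := fun g c hg => by
  refine h g (-σ c) ?_
  rw [hg, shM, shM, Fin.rev_rev, Fin.rev_rev, add_comm (single (rev j) _ _)]
  simp only [e_one, mul_one, σ_eq, map_neg, neg_neg, show σ (σ c) = c from hD.hσ c]

variable [Fintype K]

theorem exists_sub_conj (hD : (suDat σ n).Good) (hne2 : ∃ d, σ d ≠ d) {c : K} (hc : c + σ c = 0) :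
    ∃ z, c = z - σ z := by
  obtain ⟨s, hs⟩ : ∃ s : K, s + σ s ≠ 0 := by
    by_contra h
    simp only [not_exists, not_not] at h
    obtain ⟨d, hd⟩ := hne2
    have h1 := h 1
    rw [map_one] at h1
    exact hd (by linear_combination h d - d * h1)
  refine ⟨c * s / (s + σ s), ?_⟩
  have e : σ c = -c := by linear_combination hc
  have hσσ : σ (σ s) = s := hD.hσ s
  rw [map_div₀, map_mul, map_add, hσσ, e, add_comm (σ s) s]
  field_simp
  ring

section

variable (p : ℕ) [Fact p.Prime] [CharP K p]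
include p

theorem full_comp (hD : (suDat σ n).Good) {i j k : Fin n} (h : Adm i j) (h' : Adm j k)
    (h'' : Adm i k) (hij : Full H i j) (hjk : Full H j k) : Full H i k := fun g c hg => by
  obtain ⟨x, hx, -⟩ := exists_shG p hD h c
  obtain ⟨y, hy, -⟩ := exists_shG p hD h' (1 : K)
  have e : x * y = g * y * x := mat_inj (by
    rw [mat_mul, mat_mul, mat_mul, hx, hy, hg]
    have := sh_sh_ident (σ := σ) h h' h'' c 1
    rwa [mul_one] at this)
  rw [show g = x * y * x⁻¹ * y⁻¹ by rw [e]; group]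
  exact mul_mem (mul_mem (mul_mem (hij x c hx) (hjk y 1 hy)) (inv_mem (hij x c hx)))
    (inv_mem (hjk y 1 hy))

theorem fullL_of_short (hD : (suDat σ n).Good) (hne2 : ∃ d, σ d ≠ d) {i j : Fin n} (h : Adm i j) (h1 : Full H i j)
    (h2 : Full H j (rev i)) : FullL H i := fun g c hg => by
  have hc : c + 1 * σ c = 0 := lg_cond hD h.2.2.1 hg
  rw [one_mul] at hc
  obtain ⟨z, hz⟩ := exists_sub_conj hD hne2 hc
  have h' : Adm j (rev i) := ⟨fun e => h.2.1 (by rw [e, Fin.rev_rev]),
    by rw [Fin.rev_rev]; exact h.1.symm, h.2.2.2, by rw [Fin.rev_rev]; exact h.2.2.1.symm⟩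
  obtain ⟨x, hx, -⟩ := exists_shG p hD h z
  obtain ⟨y, hy, -⟩ := exists_shG p hD h' (1 : K)
  have e : x * y = g * y * x := mat_inj (by
    rw [mat_mul, mat_mul, mat_mul, hx, hy, hg]
    have := sh_long_ident (σ := σ) h z 1
    rwa [map_one, mul_one, mul_one, ← hz] at this)
  rw [show g = x * y * x⁻¹ * y⁻¹ by rw [e]; group]
  exact mul_mem (mul_mem (mul_mem (h1 x z hx) (h2 y 1 hy)) (inv_mem (h1 x z hx)))
    (inv_mem (h2 y 1 hy))

theorem full_of_mid (hD : (suDat σ n).Good) {i j o : Fin n} (ho : rev o = o) (h : Adm i j)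
    (hi : FullM H i o) (hj : FullM H j o) : Full H i (rev j) := fun g c hg => by
  have oi : i ≠ o := fun e => h.2.2.1 (by rw [e, ho])
  have oj : j ≠ o := fun e => h.2.2.2 (by rw [e, ho])
  obtain ⟨b, hb⟩ := (hD.mid o ho).2 (-c)
  obtain ⟨d, hd⟩ := (hD.mid o ho).2 (1 : K)
  obtain ⟨x, hx, -⟩ := exists_mdG p hD ho oi h.2.2.1 hb
  obtain ⟨y, hy, -⟩ := exists_mdG p hD ho oj h.2.2.2 hd
  have e : x * y = g * y * x := mat_inj (by
    rw [mat_mul, mat_mul, mat_mul, hx, hy, hg]
    have := md_md_ident (σ := σ) hD.hσ ho h (-c) b 1 d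
    rwa [map_one, mul_one, neg_neg] at this)
  rw [show g = x * y * x⁻¹ * y⁻¹ by rw [e]; group]
  exact mul_mem (mul_mem (mul_mem (hi x _ _ hx) (hj y _ _ hy)) (inv_mem (hi x _ _ hx)))
    (inv_mem (hj y _ _ hy))

theorem fullM_of_some (hD : (suDat σ n).Good) (hne2 : ∃ d, σ d ≠ d) {i o : Fin n} (ho : rev o = o) (hi : i ≠ o)
    (hi' : i ≠ rev i)
    (hsome : ∀ a, ∃ g ∈ H, ∃ b, mat g = 1 + mdM (suDat σ n) i o a b) :
    FullM H i o ∧ FullL H i := by
  have hL : FullL H i := fun g c hg => by
    have hc : c + 1 * σ c = 0 := lg_cond hD hi' hg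
    rw [one_mul] at hc
    obtain ⟨z, hz⟩ := exists_sub_conj hD hne2 hc
    obtain ⟨x, hxH, b, hx⟩ := hsome (-z)
    obtain ⟨y, hyH, d, hy⟩ := hsome 1
    have e : x * y = g * (y * x) := mat_inj (by
      have h2 : rev i ≠ o := fun e => hi (by rw [← Fin.rev_rev i, e, ho])
      rw [mat_mul, mat_mul, mat_mul, hx, hy, hg, md_prod ho hi hi', md_prod ho hi hi']
      simp only [lgM, mdM, σ_eq, Matrix.mul_add, Matrix.add_mul, Matrix.mul_one, Matrix.one_mul,
        sne hi, sne hi.symm, sne h2, sne h2.symm, sne hi', sne hi'.symm, add_zero, zero_add]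
      rw [hz, map_one, map_neg, mul_one, one_mul, map_add, map_add, map_one, map_neg]
      simp only [sub_eq_add_neg, neg_add, neg_neg, Matrix.single_add, ← Matrix.single_neg]
      abel)
    rw [show g = x * y * (y * x)⁻¹ by rw [e]; group]
    exact mul_mem (mul_mem hxH hyH) (inv_mem (mul_mem hyH hxH))
  refine ⟨fun g a b hg => ?_, hL⟩
  obtain ⟨x, hxH, b0, hx⟩ := hsome a
  have h2 : rev i ≠ o := fun e => hi (by rw [← Fin.rev_rev i, e, ho])
  have c1 := (md_partner hD ho hi hi' (d := -(suDat σ n).σ a) (by rw [hg, mdM])).1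
  have c2 := (md_partner hD ho hi hi' (d := -(suDat σ n).σ a) (by rw [hx, mdM])).1
  obtain ⟨t, ht, -⟩ := exists_lgG p hD hi' (c := b - b0) (by
    show b - b0 + 1 * (suDat σ n).σ (b - b0) = 0
    rw [map_sub]
    linear_combination c1 - c2)
  have e : g = t * x := mat_inj (by
    rw [mat_mul, ht, hx, hg]
    simp only [lgM, mdM, Matrix.mul_add, Matrix.add_mul, Matrix.mul_one, Matrix.one_mul,
      sne hi, sne hi.symm, sne h2, sne h2.symm, sne hi', sne hi'.symm, add_zero, zero_add,
      sub_eq_add_neg, mul_neg, neg_mul, neg_zero, Matrix.zero_mul, Matrix.mul_zero,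
      single_mul_single_same, Matrix.single_add, ← Matrix.single_neg]
    abel)
  exact e ▸ mul_mem (hL t _ ht) hxH

variable {hn : 2 ≤ n}

theorem full_step (hD : (suDat σ n).Good) (C : Cox hn H) {i j : Fin n} (h : Adm i j)
    (hij : Full H i j) : Full H (cyc hn i) (cyc hn j) := fun g c hg => by
  obtain ⟨u, hu, -⟩ := exists_shG p hD h (c * C.W j / C.W i)
  have := C.hW i
  have := C.hW j
  have e : g = C.w * u * C.w⁻¹ := mat_inj (by
    rw [(sh_conj hD (cyc_rev hn) C.hW C.hw h hu).2, hg]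
    congr 2
    field_simp)
  rw [e]
  exact mul_mem (mul_mem C.mem (hij u _ hu)) (inv_mem C.mem)

theorem fullM_step (hD : (suDat σ n).Good) (C : Cox hn H) {i o : Fin n} (ho : rev o = o)
    (hio : i ≠ o) (hi' : i ≠ rev i) (hi : FullM H i o) : FullM H (cyc hn i) o := fun g a b hg => by
  have hρ : ∀ z, (cyc hn).symm (rev z) = rev ((cyc hn).symm z) := fun z => by
    rw [Equiv.symm_apply_eq, cyc_rev, Equiv.apply_symm_apply]
  have hni : cyc hn i ≠ rev (cyc hn i) := fun e => hi' ((cyc hn).injective (by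
    rw [cyc_rev]; exact e))
  have hno : cyc hn i ≠ o := fun e => hio ((cyc hn).injective (by rw [e, cyc_mid hn ho]))
  obtain ⟨a', b', hm, -⟩ := md_conj hD hρ (fun x => inv_ne_zero (C.hW _)) (mono_inv C.hW C.hw)
    ho hno hni hg
  rw [Equiv.symm_apply_apply, show (cyc hn).symm o = o by
    rw [Equiv.symm_apply_eq, cyc_mid hn ho]] at hm
  have := mul_mem (mul_mem C.mem (hi _ _ _ hm)) (inv_mem C.mem)
  simpa [mul_assoc] using this

theorem full_all (hD : (suDat σ n).Good) (h4 : 4 ≤ n) (heven : n % 2 = 0) (C : Cox hn H)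
    (h01 : Full H (ix 0 (by omega)) (ix 1 (by omega))) : ∀ x y, Adm x y → Full H x y := by
  have hadj : ∀ (i : ℕ) (h : i + 1 < n / 2), Full H (ix i (by omega)) (ix (i + 1) h) := by
    intro i
    induction i with
    | zero => exact fun h => h01
    | succ i ih =>
      intro h
      have := full_step p hD C (adm_ix (by omega) (by omega) (by omega)).1 (ih (by omega))
      rwa [cyc_ix hn i (by omega), cyc_ix hn (i + 1) h] at this
  have hwrap : Full H (ix (n / 2 - 1) (by omega)) (rev (ix 0 (by omega))) := by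
    have := full_step p hD C (adm_ix (by omega) (by omega) (by omega)).1
      (hadj (n / 2 - 2) (by omega))
    have e : (ix (n / 2 - 2 + 1) (by omega) : Fin n) = ix (n / 2 - 1) (by omega) :=
      Fin.ext (by rw [ix_val, ix_val]; omega)
    rwa [cyc_ix hn _ (by omega), e, cyc_last] at this
  have hrevadm : ∀ (i j : ℕ) (hi : i < n / 2) (hj : j < n / 2), i ≠ j →
      Adm (rev (ix i hi : Fin n)) (rev (ix j hj)) := fun i j hi hj hne => by
    obtain ⟨h1, h2⟩ := adm_ix hi hj hne
    exact ⟨fun e => h1.1 (Fin.rev_injective e),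
      fun e => h2.1 (by rw [Fin.rev_rev] at e; exact (Fin.rev_rev _).symm.trans (congrArg rev e)),
      by rw [Fin.rev_rev]; exact h1.2.2.1.symm, by rw [Fin.rev_rev]; exact h1.2.2.2.symm⟩
  have hrevadj : ∀ (i : ℕ) (h : i + 1 < n / 2),
      Full H (rev (ix i (by omega))) (rev (ix (i + 1) h)) := by
    intro i
    induction i with
    | zero =>
      intro h
      have := full_step p hD C (adm_ix (by omega) (by omega) (by omega)).2 hwrap
      rwa [cyc_last, cyc_rev, cyc_ix hn 0 (by omega)] at this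
    | succ i ih =>
      intro h
      have := full_step p hD C (hrevadm i (i + 1) (by omega) (by omega) (by omega)) (ih (by omega))
      rwa [cyc_rev, cyc_rev, cyc_ix hn i (by omega), cyc_ix hn (i + 1) h] at this
  have hdown : ∀ (i : ℕ) (h : i + 1 < n / 2), Full H (ix (i + 1) h) (ix i (by omega)) := by
    intro i h
    have := full_partner hD (hrevadj i h)
    rwa [Fin.rev_rev, Fin.rev_rev] at this
  have hnear : ∀ (d i j : ℕ) (hi : i < n / 2) (hj : j < n / 2), j = i + (d + 1) →
      Full H (ix i hi) (ix j hj) ∧ Full H (ix j hj) (ix i hi) := by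
    intro d
    induction d with
    | zero =>
      intro i j hi hj e
      subst e
      exact ⟨hadj i hj, hdown i hj⟩
    | succ d ih =>
      intro i j hi hj e
      subst e
      obtain ⟨h1, h2⟩ := ih i (i + (d + 1)) hi (by omega) rfl
      obtain ⟨h3, h4⟩ : Full H (ix (i + (d + 1)) (by omega)) (ix (i + (d + 1) + 1) hj) ∧
          Full H (ix (i + (d + 1) + 1) hj) (ix (i + (d + 1)) (by omega)) :=
        ⟨hadj _ hj, hdown _ hj⟩
      exact ⟨full_comp p hD (adm_ix _ _ (by omega)).1 (adm_ix _ _ (by omega)).1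
          (adm_ix _ _ (by omega)).1 h1 h3,
        full_comp p hD (adm_ix _ _ (by omega)).1 (adm_ix _ _ (by omega)).1
          (adm_ix _ _ (by omega)).1 h4 h2⟩
  have hsame : ∀ (i j : ℕ) (hi : i < n / 2) (hj : j < n / 2), i ≠ j →
      Full H (ix i hi) (ix j hj) := by
    intro i j hi hj hne
    rcases Nat.lt_or_gt_of_ne hne with h | h
    · exact (hnear (j - i - 1) i j hi hj (by omega)).1
    · exact (hnear (i - j - 1) j i hj hi (by omega)).2
  have hrow0 : ∀ (i : ℕ) (hi : i < n / 2), i ≠ 0 →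
      Full H (ix i hi) (rev (ix 0 (by omega))) := by
    intro i hi h0
    rcases eq_or_ne i (n / 2 - 1) with rfl | h1
    · exact hwrap
    · exact full_comp p hD (adm_ix _ _ h1).1 (adm_ix _ _ (by omega)).2 (adm_ix _ _ h0).2
        (hsame i (n / 2 - 1) hi (by omega) h1) hwrap
  have hmix : ∀ (i j : ℕ) (hi : i < n / 2) (hj : j < n / 2), i ≠ j →
      Full H (ix i hi) (rev (ix j hj)) := by
    intro i j hi hj hne
    rcases eq_or_ne j 0 with rfl | hj0
    · exact hrow0 i hi hne
    rcases eq_or_ne i 0 with rfl | hi0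
    · have := full_partner hD (hrow0 j hj hj0)
      rwa [Fin.rev_rev] at this
    exact full_comp p hD (adm_ix _ _ hi0).2 (hrevadm 0 j (by omega) hj (Ne.symm hj0))
      (adm_ix _ _ hne).2 (hrow0 i hi hi0) (full_partner hD (hsame j 0 hj (by omega) hj0))
  have hadm' : ∀ (i j : ℕ) (hi : i < n / 2) (hj : j < n / 2), i ≠ j →
      Adm (rev (ix i hi) : Fin n) (ix j hj) := fun i j hi hj h =>
    (adm_ix hj hi (Ne.symm h)).2.symm
  have hmix' : ∀ (i j : ℕ) (hi : i < n / 2) (hj : j < n / 2), i ≠ j →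
      Full H (rev (ix i hi)) (ix j hj) := by
    have b0 : ∀ (j : ℕ) (hj : j < n / 2), j ≠ 0 →
        Full H (rev (ix 0 (by omega))) (ix j hj) := by
      intro j hj hj0
      obtain ⟨i, rfl⟩ : ∃ i, j = i + 1 := ⟨j - 1, by omega⟩
      rcases eq_or_ne i (n / 2 - 1) with rfl | h1
      · omega
      have := full_step p hD C (adm_ix (by omega) (by omega) (Ne.symm h1)).1
        (hsame (n / 2 - 1) i (by omega) (by omega) (Ne.symm h1))
      rwa [cyc_last, cyc_ix hn i hj] at this
    intro i j hi hj hne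
    rcases eq_or_ne i 0 with rfl | hi0
    · exact b0 j hj (Ne.symm hne)
    rcases eq_or_ne j 0 with rfl | hj0
    · have := full_partner hD (b0 i hi hi0)
      rwa [Fin.rev_rev] at this
    exact full_comp p hD (hrevadm i 0 hi (by omega) hi0) (hadm' 0 j _ hj (Ne.symm hj0))
      (hadm' i j hi hj hne) (full_partner hD (hsame 0 i (by omega) hi (Ne.symm hi0))) (b0 j hj hj0)
  have hnomid : ∀ z : Fin n, rev z ≠ z := fun z e => by
    have := congrArg Fin.val e
    rw [rev_val] at this
    have := z.2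
    omega
  intro x y hxy
  rcases ix_or x with ⟨i, hi, rfl | rfl⟩ | h <;> rcases ix_or y with ⟨j, hj, rfl | rfl⟩ | h' <;>
    first
    | exact absurd h (hnomid _)
    | exact absurd h' (hnomid _)
    | exact hsame i j hi hj fun e => by subst e; exact hxy.1 rfl
    | exact hmix i j hi hj fun e => by subst e; exact hxy.2.1 (Fin.rev_rev _).symm
    | exact hmix' i j hi hj fun e => by subst e; exact hxy.2.1 rfl
    | exact full_partner hD (hsame j i hj hi fun e => by subst e; exact hxy.1 rfl)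

/-! ### Transitivity -/

theorem exists_to_axis (hD : (suDat σ n).Good) (C : Cox hn H)
    (hS : ∀ x y, Adm x y → Full H x y) (hL : ∀ x : Fin n, x ≠ rev x → FullL H x)
    (hM : ∀ x o : Fin n, rev o = o → x ≠ o → x ≠ rev x → FullM H x o)
    (v : Fin n → K) (hv : v ≠ 0) (hiso : ∑ x, v x * σ (v (rev x)) = 0) :
    ∃ h ∈ H, ∀ x, x ≠ ix 0 (by omega) → (mat h *ᵥ v) x = 0 := by
  set i0 : Fin n := ix 0 (by omega) with hi0
  have hpres : ∀ (h : G) (u : Fin n → K),
      ∑ x, (mat h *ᵥ u) x * σ ((mat h *ᵥ u) (rev x)) = ∑ x, u x * σ (u (rev x)) := by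
    intro h u
    have key : ∀ w : Fin n → K, ∑ x, w x * σ (w (rev x)) =
        w ⬝ᵥ ((suDat σ n).J *ᵥ fun z => σ (w z)) := fun w => by
      refine Finset.sum_congr rfl fun x _ => ?_
      rw [Matrix.mulVec, dotProduct, Finset.sum_eq_single (rev x)
        (fun b _ hb => by simp [Dat.J, hb]) (by simp)]
      simp [Dat.J, e_one]
    have hmap : (fun z => σ ((mat h *ᵥ u) z)) = (mat h).map σ *ᵥ fun z => σ (u z) :=
      funext fun z => RingHom.map_mulVec (σ : K →+* K) _ _ z
    rw [key, key, hmap, Matrix.mulVec_mulVec, ← Matrix.vecMul_transpose, ← Matrix.dotProduct_mulVec,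
      Matrix.mulVec_mulVec, ← Matrix.mul_assoc]
    congr 2
    exact mat_isom h
  have step : ∀ y, (∀ v : Fin n → K, v y ≠ 0 → ∃ h ∈ H, (mat h *ᵥ v) i0 ≠ 0) →
      ∀ v : Fin n → K, v (cyc hn y) ≠ 0 → ∃ h ∈ H, (mat h *ᵥ v) i0 ≠ 0 := by
    intro y ih v hv
    obtain ⟨h, hh, hne⟩ := ih (mat C.w⁻¹ *ᵥ v) fun h0 => hv (by
      have e : mat C.w *ᵥ (mat C.w⁻¹ *ᵥ v) = v := by
        rw [Matrix.mulVec_mulVec, mat_mul_inv, Matrix.one_mulVec]
      conv_lhs => rw [← e]
      rw [C.hw, Matrix.mulVec, dotProduct, Finset.sum_eq_single y (fun b _ hb => by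
        simp [mono, Ne.symm hb]) (by simp), h0, mul_zero])
    refine ⟨h * C.w⁻¹, mul_mem hh (inv_mem C.mem), ?_⟩
    rwa [mat_mul, ← Matrix.mulVec_mulVec]
  have h1 : ∀ (i : ℕ) (hi : i < n / 2), ∀ v : Fin n → K, v (ix i hi) ≠ 0 →
      ∃ h ∈ H, (mat h *ᵥ v) i0 ≠ 0 := by
    intro i
    induction i with
    | zero => exact fun hi v hv => ⟨1, one_mem _, by rwa [mat_one, Matrix.one_mulVec]⟩
    | succ i ih => exact fun hi => cyc_ix hn i hi ▸ step _ (ih (by omega))
  have h2 : ∀ (i : ℕ) (hi : i < n / 2), ∀ v : Fin n → K, v (rev (ix i hi)) ≠ 0 →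
      ∃ h ∈ H, (mat h *ᵥ v) i0 ≠ 0 := by
    intro i
    induction i with
    | zero => exact fun hi => cyc_last hn ▸ step _ (h1 _ _)
    | succ i ih =>
      intro hi
      have := step _ (ih (by omega))
      rwa [cyc_rev, cyc_ix hn i hi] at this
  obtain ⟨h0, hh0, hne⟩ : ∃ h ∈ H, (mat h *ᵥ v) i0 ≠ 0 := by
    by_cases hex : ∃ x, rev x ≠ x ∧ v x ≠ 0
    · obtain ⟨x, hxr, hx⟩ := hex
      rcases ix_or x with ⟨i, hi, rfl | rfl⟩ | h
      · exact h1 i hi v hx
      · exact h2 i hi v hx
      · exact absurd h hxr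
    · push Not at hex
      obtain ⟨o, ho⟩ := Function.ne_iff.1 hv
      have hoo : rev o = o := by
        by_contra h
        exact ho (hex o h)
      rw [Fintype.sum_eq_single o (fun x hx => by
        rw [hex x (fun h => hx (mid_eq h hoo)), zero_mul]), hoo] at hiso
      rcases mul_eq_zero.1 hiso with h | h
      · exact absurd h ho
      · exact absurd (σ.injective (h.trans (map_zero σ).symm)) ho
  classical
  have hclear : ∀ s : Finset (Fin n), i0 ∉ s → rev i0 ∉ s → (∀ x ∈ s, rev x ≠ x) → ∃ h ∈ H,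
      (mat h *ᵥ v) i0 ≠ 0 ∧ ∀ x ∈ s, (mat h *ᵥ v) x = 0 := by
    intro s
    induction s using Finset.induction_on with
    | empty => exact fun _ _ _ => ⟨h0, hh0, hne, by simp⟩
    | insert j s hjs ih =>
      intro n1 n2 n3
      simp only [Finset.mem_insert, not_or] at n1 n2
      obtain ⟨h, hh, hne, hs⟩ := ih n1.2 n2.2 fun x hx => n3 x (Finset.mem_insert_of_mem hx)
      set u := mat h *ᵥ v with hu
      have hadm : Adm j i0 := adm_mk (Ne.symm n1.1) (Ne.symm n2.1)
        (Ne.symm (n3 j (Finset.mem_insert_self _ _))) (ix_ne_rev _ _)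
      obtain ⟨g, hg, -⟩ := exists_shG p hD hadm (-u j / u i0)
      have hval : ∀ x, x ≠ rev i0 →
          (mat g *ᵥ u) x = u x + if x = j then (-u j / u i0) * u i0 else 0 := by
        intro x hx
        rw [hg, Matrix.add_mulVec, Matrix.one_mulVec, Pi.add_apply, shM, Matrix.add_mulVec,
          Pi.add_apply, Matrix.single_mulVec, Matrix.single_mulVec]
        simp [Function.update, hx]
      refine ⟨g * h, mul_mem (hS _ _ hadm g _ hg) hh, ?_, fun x hx => ?_⟩
      · rw [mat_mul, ← Matrix.mulVec_mulVec, ← hu, hval _ (ix_ne_rev _ _), if_neg n1.1, add_zero]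
        exact hne
      · rw [mat_mul, ← Matrix.mulVec_mulVec, ← hu]
        rcases Finset.mem_insert.1 hx with rfl | hx
        · rw [hval _ (Ne.symm n2.1), if_pos rfl]
          field_simp
          ring
        · rw [hval _ (fun e => n2.2 (e ▸ hx)), if_neg (fun e : x = j => hjs (e ▸ hx)), add_zero]
          exact hs x hx
  have hi0r : i0 ≠ rev i0 := ix_ne_rev _ _
  obtain ⟨h, hh, hne, hs⟩ := hclear
    (Finset.univ.filter fun x => x ≠ i0 ∧ x ≠ rev i0 ∧ rev x ≠ x)
    (by simp) (by simp) (fun x hx => (Finset.mem_filter.1 hx).2.2.2)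
  -- clear the middle
  obtain ⟨h', hh', hne', hs'⟩ : ∃ h' ∈ H, (mat h' *ᵥ v) i0 ≠ 0 ∧
      ∀ x, x ≠ i0 → x ≠ rev i0 → (mat h' *ᵥ v) x = 0 := by
    by_cases hex : ∃ o : Fin n, rev o = o
    swap
    · exact ⟨h, hh, hne, fun x h1 h2 => hs x
        (Finset.mem_filter.2 ⟨Finset.mem_univ _, h1, h2, fun e => hex ⟨x, e⟩⟩)⟩
    obtain ⟨o, ho⟩ := hex
    set u := mat h *ᵥ v with hu
    obtain ⟨b, hb⟩ := (hD.mid o ho).2 (σ (u o / u i0))
    have o0 : rev i0 ≠ o := fun e =>
      hi0r (Fin.rev_injective (show rev i0 = rev (rev i0) by rw [e, ho]))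
    have o0' : o ≠ i0 := fun e => hi0r (by rw [← e, ho])
    have hr0 : rev i0 ≠ rev (rev i0) := by rw [Fin.rev_rev]; exact hi0r.symm
    obtain ⟨g, hg, -⟩ := exists_mdG p hD ho o0 hr0 hb
    have hval : ∀ x, x ≠ rev i0 → (mat g *ᵥ u) x = u x + if x = o then -u o else 0 := by
      intro x hx
      have hσσ : σ (σ (u o / u i0)) = u o / u i0 := hD.hσ _
      rw [hg, Matrix.add_mulVec, Matrix.one_mulVec, Pi.add_apply, mdM, Matrix.add_mulVec,
        Matrix.add_mulVec, Pi.add_apply, Pi.add_apply, Matrix.single_mulVec, Matrix.single_mulVec,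
        Matrix.single_mulVec, Fin.rev_rev, σ_eq, hσσ]
      simp [Function.update, hx]
      rw [div_mul_cancel₀ _ hne]
    refine ⟨g * h, mul_mem (hM _ _ ho o0 hr0 g _ _ hg) hh, ?_, fun x h1 h2 => ?_⟩
    · rw [mat_mul, ← Matrix.mulVec_mulVec, ← hu, hval _ hi0r, if_neg o0'.symm, add_zero]
      exact hne
    · rw [mat_mul, ← Matrix.mulVec_mulVec, ← hu, hval x h2]
      by_cases hxo : x = o
      · rw [if_pos hxo, hxo, add_neg_cancel]
      · rw [if_neg hxo, add_zero]
        exact hs x (Finset.mem_filter.2 ⟨Finset.mem_univ _, h1, h2, fun e => hxo (mid_eq e ho)⟩)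
  set u := mat h' *ᵥ v with hu
  have hu0 : σ (u i0) ≠ 0 := fun e => hne' (σ.injective (e.trans (map_zero σ).symm))
  have hr0 : rev i0 ≠ rev (rev i0) := by rw [Fin.rev_rev]; exact hi0r.symm
  have hcond : -u (rev i0) / u i0 + (suDat σ n).η * (suDat σ n).σ (-u (rev i0) / u i0) = 0 := by
    have hI : ∑ x, u x * σ (u (rev x)) = 0 := (hpres h' v).trans hiso
    rw [Fintype.sum_eq_add i0 (rev i0) hi0r (fun x hx => by rw [hs' x hx.1 hx.2, zero_mul]),
      Fin.rev_rev] at hI
    show _ + 1 * σ _ = 0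
    rw [map_div₀, map_neg]
    field_simp
    linear_combination -hI
  obtain ⟨g, hg, -⟩ := exists_lgG p hD hr0 hcond
  refine ⟨g * h', mul_mem (hL _ hr0 g _ hg) hh', fun x hx => ?_⟩
  rw [mat_mul, ← Matrix.mulVec_mulVec, ← hu, hg, Matrix.add_mulVec, Matrix.one_mulVec,
    Pi.add_apply, lgM, Matrix.single_mulVec, Fin.rev_rev]
  by_cases hx' : x = rev i0
  · subst hx'
    simp [Function.update]
    field_simp
    ring
  · simp [Function.update, hx', hs' x hx hx']

theorem transvection_mem (hD : (suDat σ n).Good) (C : Cox hn H)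
    (hS : ∀ x y, Adm x y → Full H x y) (hL : ∀ x : Fin n, x ≠ rev x → FullL H x)
    (hM : ∀ x o : Fin n, rev o = o → x ≠ o → x ≠ rev x → FullM H x o)
    (g : G) (v r : Fin n → K) (hgm : mat g = 1 + Matrix.vecMulVec v r)
    (hiso : ∑ x, v x * σ (v (rev x)) = 0) : g ∈ H := by
  by_cases hv0 : v = 0
  · rw [show g = 1 from mat_inj (by rw [hgm, hv0, mat_one]; simp)]
    exact one_mem H
  obtain ⟨h, hh, hax⟩ := exists_to_axis p hD C hS hL hM v hv0 hiso
  have hB : mat (h * g * h⁻¹) = 1 + Matrix.vecMulVec (mat h *ᵥ v) (r ᵥ* mat h⁻¹) := by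
    rw [mat_mul, mat_mul, hgm, Matrix.mul_add, Matrix.mul_one, Matrix.add_mul, mat_mul_inv,
      Matrix.mul_vecMulVec, Matrix.vecMulVec_mul]
  have hshape := transvection_shape hD (ix_ne_rev 0 (by omega)) (B := h * g * h⁻¹) fun x hx y => by
    rw [hB, Matrix.add_apply, Matrix.vecMulVec_apply, hax x hx, zero_mul, add_zero,
      Matrix.one_apply]
  have := mul_mem (mul_mem (inv_mem hh) (hL _ (ix_ne_rev _ _) _ _ hshape)) hh
  simpa [mul_assoc] using this

/-! ### The base root group -/

theorem trick {h E x x2 w : G} (hx2 : x2 = x⁻¹) (hwh : w * h = E * w) (hhE : h * E = E * h)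
    (hh : h ∈ H) (hb : x * w ∈ H) :
    h * x * h⁻¹ * (h * E * x2 * (h * E)⁻¹) * (E * x * E⁻¹) * x2 ∈ H := by
  have hbh : x * w * h * (x * w)⁻¹ = x * E * x⁻¹ := by
    have : E = w * h * w⁻¹ := by rw [hwh, mul_inv_cancel_right]
    rw [this]
    group
  have h1 := mul_mem (mul_mem hb hh) (inv_mem hb)
  rw [hbh] at h1
  have h2 := mul_mem (mul_mem (mul_mem hh h1) (inv_mem hh)) (inv_mem h1)
  have e2 : h * E * h⁻¹ = E := by rw [hhE, mul_inv_cancel_right]
  rw [show h * (x * E * x⁻¹) * h⁻¹ * (x * E * x⁻¹)⁻¹ =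
      h * x * h⁻¹ * (h * E * x⁻¹ * (h * E)⁻¹) * (h * E * h⁻¹) * x * E⁻¹ * x⁻¹ by group, e2] at h2
  rw [hx2, show h * x * h⁻¹ * (h * E * x⁻¹ * (h * E)⁻¹) * (E * x * E⁻¹) * x⁻¹ =
    h * x * h⁻¹ * (h * E * x⁻¹ * (h * E)⁻¹) * E * x * E⁻¹ * x⁻¹ by group]
  exact h2

theorem gen_even (hD : (suDat σ n).Good) (hne2 : ∃ d, σ d ≠ d)
    (h4 : 4 ≤ n) (heven : n % 2 = 0) (d : Fin n → K)
    (hd : ∀ z, d z * σ (d (rev z)) = 1) (hp : ∏ z, d z = 1)
    (hr : AddSubgroup.closure
      (Set.range fun k : ℕ => (d (ix 0 (by omega)) / d (ix 1 (by omega))) ^ k) = ⊤)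
    (hr1 : d (ix 0 (by omega)) ≠ d (ix 1 (by omega)))
    (hβ : d (rev (ix (n / 2 - 1) (by omega))) ≠ d (ix 0 (by omega))) :
    ∃ a b : G, ∀ H : Subgroup G, a ∈ H → b ∈ H →
      ∀ (g : G) (v r : Fin n → K), mat g = 1 + Matrix.vecMulVec v r →
        ∑ x, v x * σ (v (rev x)) = 0 → g ∈ H := by
  have hn : 2 ≤ n := by omega
  set i0 : Fin n := ix 0 (by omega) with hi0
  set i1 : Fin n := ix 1 (by omega) with hi1
  have h01 : Adm i0 i1 := (adm_ix _ _ (by omega)).1
  have hd0 : ∀ z, d z ≠ 0 := diag_ne_zero hd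
  obtain ⟨h, hh⟩ := exists_diag d hd hp
  have hrev : ∀ z, (cyc hn).symm (rev z) = rev ((cyc hn).symm z) := fun z => by
    rw [Equiv.symm_apply_eq, cyc_rev, Equiv.apply_symm_apply]
  set d' : Fin n → K := fun z => d ((cyc hn).symm z) with hd'
  obtain ⟨E, hE⟩ := exists_diag d' (fun z => by
    show d _ * σ (d _) = 1
    rw [hrev]; exact hd _) (by rw [hd', Equiv.prod_comp (cyc hn).symm d]; exact hp)
  obtain ⟨x, hx, -⟩ := exists_shG p hD h01 (1 : K)
  obtain ⟨x2, hx2, -⟩ := exists_shG p hD h01 (-1 : K)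
  have hx2' : x2 = x⁻¹ := eq_inv_of_mul_eq_one_left (mat_inj (by
    rw [sh_add hD h01 hx2 hx, neg_add_cancel, mat_one]; simp [shM]))
  obtain ⟨w, W, hW, hw⟩ := exists_weylG hD (cyc hn) (cyc_rev hn)
  refine ⟨h, x * w, fun H hhH hbH => ?_⟩
  have hwh : w * h = E * w := mat_inj (by
    rw [mat_mul, mat_mul, hw, hh, hE, mono_mul, mono_mul, mul_one, one_mul]
    congr 1
    funext z
    simp [hd', mul_comm])
  have hX := trick p hx2' hwh (diag_comm hh hE) hhH hbH
  have hEh : mat (h * E) = mono 1 (fun z => d z * d' z) := by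
    rw [mat_mul, hh, hE, mono_mul, mul_one]
    rfl
  have hbe : ∀ z, d' z ≠ 0 := fun z => hd0 _
  obtain ⟨-, hA⟩ := sh_conj hD (π := 1) (fun _ => rfl) hd0 hh h01 hx
  obtain ⟨-, hB⟩ := sh_conj hD (π := 1) (fun _ => rfl) (fun z => mul_ne_zero (hd0 z) (hbe z))
    hEh h01 hx2
  obtain ⟨-, hC⟩ := sh_conj hD (π := 1) (fun _ => rfl) hbe hE h01 hx
  have hXm := sh_add hD h01 (sh_add hD h01 (sh_add hD h01 hA hB) hC) hx2
  have e0 : d' i0 = d (rev (ix (n / 2 - 1) (by omega))) := congrArg d (cyc_symm_zero hn)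
  have e1 : d' i1 = d i0 := congrArg d (by
    rw [Equiv.symm_apply_eq]; exact (cyc_ix hn 0 (by omega)).symm)
  generalize hc : d i0 * 1 / d i1 + d i0 * d' i0 * -1 / (d i1 * d' i1) + d' i0 * 1 / d' i1 + -1 = c0
    at hXm
  have hc0 : c0 ≠ 0 := by
    rw [← hc]
    intro e
    have := hd0 i1
    have := hbe i1
    field_simp at e
    have : (d i0 - d i1) * (d' i1 - d' i0) = 0 := by linear_combination e
    rcases mul_eq_zero.1 this with e' | e'
    · exact hr1 (sub_eq_zero.1 e')
    · rw [sub_eq_zero, e0, e1] at e'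
      exact hβ e'.symm
  set rr := d i0 / d i1 with hrr
  have hpow : ∀ k : ℕ, ∃ g ∈ H, mat g = 1 + shM (suDat σ n) i0 i1 (rr ^ k * c0) := by
    intro k
    induction k with
    | zero => exact ⟨_, hX, by rw [hXm, pow_zero, one_mul]⟩
    | succ k ih =>
      obtain ⟨g, hgH, hg⟩ := ih
      obtain ⟨-, hm'⟩ := sh_conj hD (π := 1) (fun _ => rfl) hd0 hh h01 hg
      refine ⟨_, mul_mem (mul_mem hhH hgH) (inv_mem hhH), ?_⟩
      rw [hm', Equiv.Perm.one_apply, Equiv.Perm.one_apply]
      congr 2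
      rw [hrr]; ring
  have hall : ∀ s ∈ AddSubgroup.closure (Set.range fun k : ℕ => rr ^ k),
      ∃ g ∈ H, mat g = 1 + shM (suDat σ n) i0 i1 (s * c0) := by
    intro s hs
    induction hs using AddSubgroup.closure_induction with
    | mem s hs => obtain ⟨k, rfl⟩ := hs; exact hpow k
    | zero => exact ⟨1, one_mem _, by rw [mat_one]; simp [shM]⟩
    | add a b _ _ ha hb =>
      obtain ⟨g, hgH, hg⟩ := ha
      obtain ⟨g', hgH', hg'⟩ := hb
      exact ⟨g * g', mul_mem hgH hgH', by rw [sh_add hD h01 hg hg', add_mul]⟩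
    | neg a _ ha =>
      obtain ⟨g, hgH, hg⟩ := ha
      obtain ⟨g', hg', -⟩ := exists_shG p hD h01 (-a * c0)
      have e : g' = g⁻¹ := eq_inv_of_mul_eq_one_left (mat_inj (by
        rw [sh_add hD h01 hg' hg, mat_one, neg_mul, neg_add_cancel]; simp [shM]))
      exact ⟨g', e ▸ inv_mem hgH, hg'⟩
  have hF01 : Full H i0 i1 := fun g c hg => by
    obtain ⟨g', hg'H, hg'⟩ := hall (c / c0) (by rw [hr]; trivial)
    have e : g = g' := mat_inj (by rw [hg, hg', div_mul_cancel₀ _ hc0])
    exact e ▸ hg'H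
  have hwH : w ∈ H := by simpa using mul_mem (inv_mem (hF01 x 1 hx)) hbH
  let C : Cox hn H := ⟨w, W, hW, hw, hwH⟩
  have hS := full_all p hD h4 heven C hF01
  have hnomid : ∀ z : Fin n, rev z ≠ z := fun z e => by
    have := congrArg Fin.val e
    rw [rev_val] at this
    have := z.2
    omega
  have hL : ∀ z : Fin n, z ≠ rev z → FullL H z := by
    intro z hz
    obtain ⟨y, hy⟩ : ∃ y : Fin n, Adm z y := by
      by_cases hz0 : z = i0 ∨ z = rev i0
      · refine ⟨i1, ?_⟩
        rcases hz0 with rfl | rfl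
        · exact h01
        · exact adm_mk (fun e => h01.2.1 (by rw [← e, Fin.rev_rev]))
            (fun e => h01.1 (Fin.rev_injective e)) hz (ix_ne_rev _ _)
      · push Not at hz0
        exact ⟨i0, adm_mk hz0.1 hz0.2 hz (ix_ne_rev _ _)⟩
    refine fullL_of_short p hD hne2 hy (hS _ _ hy) (hS _ _ ?_)
    exact adm_mk (fun e => hy.2.1 (by rw [e, Fin.rev_rev]))
      (by rw [Fin.rev_rev]; exact hy.1.symm) hy.2.2.2 (by rw [Fin.rev_rev]; exact hz.symm)
  exact fun g v r hgm hiso => transvection_mem p hD C hS hL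
    (fun z o ho _ _ => absurd ho (hnomid o)) g v r hgm hiso

theorem gen_odd (hD : (suDat σ n).Good) (hne2 : ∃ d, σ d ≠ d)
    (h3 : 3 ≤ n) {o : Fin n} (ho : rev o = o) (d : Fin n → K)
    (hd : ∀ z, d z * σ (d (rev z)) = 1) (hp : ∏ z, d z = 1)
    (hr : AddSubgroup.closure (Set.range fun k : ℕ => (d (ix 0 (by omega)) / d o) ^ k) = ⊤)
    (hr1 : d (ix 0 (by omega)) ≠ d o)
    (hβ : d (rev (ix (n / 2 - 1) (by omega))) ≠ d o) :
    ∃ a b : G, ∀ H : Subgroup G, a ∈ H → b ∈ H →
      ∀ (g : G) (v r : Fin n → K), mat g = 1 + Matrix.vecMulVec v r →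
        ∑ x, v x * σ (v (rev x)) = 0 → g ∈ H := by
  have hn : 2 ≤ n := by omega
  set i0 : Fin n := ix 0 (by omega) with hi0
  have hi0o : i0 ≠ o := fun e => ix_ne_rev 0 (show 0 < n / 2 by omega) (by rw [← hi0, e, ho])
  have hi0r : i0 ≠ rev i0 := ix_ne_rev _ _
  have hd0 : ∀ z, d z ≠ 0 := diag_ne_zero hd
  obtain ⟨h, hh⟩ := exists_diag d hd hp
  have hrev : ∀ z, (cyc hn).symm (rev z) = rev ((cyc hn).symm z) := fun z => by
    rw [Equiv.symm_apply_eq, cyc_rev, Equiv.apply_symm_apply]
  set d' : Fin n → K := fun z => d ((cyc hn).symm z) with hd'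
  obtain ⟨E, hE⟩ := exists_diag d' (fun z => by
    show d _ * σ (d _) = 1
    rw [hrev]; exact hd _) (by rw [hd', Equiv.prod_comp (cyc hn).symm d]; exact hp)
  obtain ⟨b0, hb0⟩ := (hD.mid o ho).2 (1 : K)
  obtain ⟨x, hx, -⟩ := exists_mdG p hD ho hi0o hi0r hb0
  have hσ1 : σ (-1 : K) = -1 := by rw [map_neg, map_one]
  obtain ⟨x2, hx2, -⟩ := exists_mdG p hD ho hi0o hi0r (a := (-1 : K)) (b := σ b0) (by
    show σ b0 + σ (σ b0) + -1 * σ (-1) = 0
    rw [show σ (σ b0) = b0 from hD.hσ b0, hσ1]
    have e : b0 + σ b0 + 1 * σ 1 = 0 := hb0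
    rw [map_one] at e
    linear_combination e)
  have hx2' : x2 = x⁻¹ := eq_inv_of_mul_eq_one_left (mat_inj (by
    rw [mat_mul, hx2, hx, md_prod ho hi0o hi0r, mat_one, neg_add_cancel]
    have e : b0 + σ b0 + 1 * σ 1 = 0 := hb0
    rw [map_one] at e
    rw [map_one, show σ b0 + b0 - -1 * 1 = 0 by linear_combination e]
    simp [mdM]))
  obtain ⟨w, W, hW, hw⟩ := exists_weylG hD (cyc hn) (cyc_rev hn)
  refine ⟨h, x * w, fun H hhH hbH => ?_⟩
  have hwh : w * h = E * w := mat_inj (by
    rw [mat_mul, mat_mul, hw, hh, hE, mono_mul, mono_mul, mul_one, one_mul]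
    congr 1
    funext z
    simp [hd', mul_comm])
  have hX := trick p hx2' hwh (diag_comm hh hE) hhH hbH
  have hEh : mat (h * E) = mono 1 (fun z => d z * d' z) := by
    rw [mat_mul, hh, hE, mono_mul, mul_one]
    rfl
  have hbe : ∀ z, d' z ≠ 0 := fun z => hd0 _
  have hA := md_diag hD hd0 hh ho hi0o hi0r hx
  have hB := md_diag hD (fun z => mul_ne_zero (hd0 z) (hbe z)) hEh ho hi0o hi0r hx2
  have hC := md_diag hD hbe hE ho hi0o hi0r hx
  have hXm := (mat_mul _ x2).trans (congrArg (· * mat x2)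
    ((mat_mul _ _).trans (congrArg₂ (· * ·) ((mat_mul _ _).trans (congrArg₂ (· * ·) hA hB)) hC)))
  simp only [hx2, md_prod ho hi0o hi0r] at hXm
  generalize hc : d i0 * 1 / d o + d i0 * d' i0 * -1 / (d o * d' o) + d' i0 * 1 / d' o + -1 = c0
    at hXm
  have e0 : d' i0 = d (rev (ix (n / 2 - 1) (by omega))) := congrArg d (cyc_symm_zero hn)
  have e1 : d' o = d o := congrArg d (by rw [Equiv.symm_apply_eq, cyc_mid hn ho])
  have hc0 : c0 ≠ 0 := by
    rw [← hc]
    intro e
    have := hd0 o
    have := hbe o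
    field_simp at e
    have : (d i0 - d o) * (d' o - d' i0) = 0 := by linear_combination e
    rcases mul_eq_zero.1 this with e' | e'
    · exact hr1 (sub_eq_zero.1 e')
    · rw [sub_eq_zero, e0, e1] at e'
      exact hβ e'.symm
  set rr := d i0 / d o with hrr
  have hpow : ∀ k : ℕ, ∃ g ∈ H, ∃ b, mat g = 1 + mdM (suDat σ n) i0 o (rr ^ k * c0) b := by
    intro k
    induction k with
    | zero => exact ⟨_, hX, _, by rw [hXm, pow_zero, one_mul]⟩
    | succ k ih =>
      obtain ⟨g, hgH, b, hg⟩ := ih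
      refine ⟨_, mul_mem (mul_mem hhH hgH) (inv_mem hhH), d i0 * b / d (rev i0), ?_⟩
      rw [md_diag hD hd0 hh ho hi0o hi0r hg]
      congr 2
      rw [hrr]; ring
  have hall : ∀ s ∈ AddSubgroup.closure (Set.range fun k : ℕ => rr ^ k),
      ∃ g ∈ H, ∃ b, mat g = 1 + mdM (suDat σ n) i0 o (s * c0) b := by
    intro s hs
    induction hs using AddSubgroup.closure_induction with
    | mem s hs => obtain ⟨k, rfl⟩ := hs; exact hpow k
    | zero => exact ⟨1, one_mem _, 0, by rw [mat_one]; simp [mdM]⟩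
    | add a a' _ _ ha ha' =>
      obtain ⟨g, hgH, b, hg⟩ := ha
      obtain ⟨g', hgH', b', hg'⟩ := ha'
      exact ⟨g * g', mul_mem hgH hgH', _, by rw [mat_mul, hg, hg', md_prod ho hi0o hi0r, add_mul]⟩
    | neg a _ ha =>
      obtain ⟨g, hgH, b, hg⟩ := ha
      have c1 : b + σ b + a * c0 * σ (a * c0) = 0 :=
        (md_partner hD ho hi0o hi0r (d := -(suDat σ n).σ (a * c0)) (by rw [hg, mdM])).1
      have c2 : σ b + σ (σ b) + -a * c0 * σ (-a * c0) = 0 := by
        rw [show σ (σ b) = b from hD.hσ b, neg_mul, map_neg]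
        linear_combination c1
      obtain ⟨g', hg', -⟩ := exists_mdG p hD ho hi0o hi0r c2
      have e : g' = g⁻¹ := eq_inv_of_mul_eq_one_left (mat_inj (by
        rw [mat_mul, hg', hg, md_prod ho hi0o hi0r, mat_one,
          show σ b + b - -a * c0 * σ (a * c0) = 0 by linear_combination c1,
          show -a * c0 + a * c0 = 0 by ring]
        simp [mdM]))
      exact ⟨g', e ▸ inv_mem hgH, _, hg'⟩
  obtain ⟨hM0, hL0⟩ := fullM_of_some p hD hne2 ho hi0o hi0r fun a => by
    obtain ⟨g, hgH, b, hg⟩ := hall (a / c0) (by rw [hr]; trivial)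
    exact ⟨g, hgH, b, by rw [hg, div_mul_cancel₀ _ hc0]⟩
  have hwH : w ∈ H := by simpa using mul_mem (inv_mem (hM0 x _ _ hx)) hbH
  let C : Cox hn H := ⟨w, W, hW, hw, hwH⟩
  have hne : ∀ (i : ℕ) (hi : i < n / 2), (ix i hi : Fin n) ≠ o ∧ rev (ix i hi : Fin n) ≠ o :=
    fun i hi => ⟨fun e => ix_ne_rev i hi (by rw [e, ho]),
      fun e => ix_ne_rev i hi (Fin.rev_injective
        (show rev (ix i hi : Fin n) = rev (rev (ix i hi)) by rw [e, ho]))⟩
  have h1 : ∀ (i : ℕ) (hi : i < n / 2), FullM H (ix i hi) o := by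
    intro i
    induction i with
    | zero => exact fun hi => hM0
    | succ i ih =>
      intro hi
      have := fullM_step p hD C ho (hne i (by omega)).1 (ix_ne_rev i (by omega)) (ih (by omega))
      rwa [cyc_ix hn i hi] at this
  have h2 : ∀ (i : ℕ) (hi : i < n / 2), FullM H (rev (ix i hi)) o := by
    intro i
    induction i with
    | zero =>
      intro hi
      have := fullM_step p hD C ho (hne (n / 2 - 1) (by omega)).1 (ix_ne_rev _ _)
        (h1 (n / 2 - 1) (by omega))
      rwa [cyc_last] at this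
    | succ i ih =>
      intro hi
      have := fullM_step p hD C ho (hne i (by omega)).2
        (by rw [Fin.rev_rev]; exact (ix_ne_rev i (by omega)).symm) (ih (by omega))
      rwa [cyc_rev, cyc_ix hn i hi] at this
  have hM : ∀ z o' : Fin n, rev o' = o' → z ≠ o' → z ≠ rev z → FullM H z o' := by
    intro z o' ho' hz hz'
    obtain rfl := mid_eq ho' ho
    rcases ix_or z with ⟨i, hi, rfl | rfl⟩ | h
    · exact h1 i hi
    · exact h2 i hi
    · exact absurd h.symm hz'
  have hno : ∀ z : Fin n, z ≠ rev z → z ≠ o := fun z hz e => hz (by rw [e, ho])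
  have hS : ∀ a b : Fin n, Adm a b → Full H a b := fun a b hab => by
    have h' : Adm a (rev b) := ⟨hab.2.1, by rw [Fin.rev_rev]; exact hab.1, hab.2.2.1,
      by rw [Fin.rev_rev]; exact hab.2.2.2.symm⟩
    have := full_of_mid p hD ho h' (hM a o ho (hno a h'.2.2.1) h'.2.2.1)
      (hM (rev b) o ho (hno _ h'.2.2.2) h'.2.2.2)
    rwa [Fin.rev_rev] at this
  have hL : ∀ z : Fin n, z ≠ rev z → FullL H z := fun z hz =>
    (fullM_of_some p hD hne2 ho (hno z hz) hz fun a => by
      obtain ⟨b, hb⟩ := (hD.mid o ho).2 a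
      obtain ⟨g, hg, -⟩ := exists_mdG p hD ho (hno z hz) hz hb
      exact ⟨g, hM z o ho (hno z hz) hz g a b hg, b, hg⟩).2
  exact fun g v r hgm hiso => transvection_mem p hD C hS hL hM g v r hgm hiso

end

/-! ### The unitary group -/

theorem exists_iso [Fintype K] {q : ℕ} (hK : Fintype.card K = q ^ 2) (hn : 3 ≤ n)
    (hσq : ∀ z, σ z = CfsgLib.Classical.qFrob hK z) (hσ : orderOf σ = 2) :
    ∃ (e : Cfsg.SU n K q ≃* G) (P Q : Matrix (Fin n) (Fin n) K),
      Q * P = 1 ∧ Qᵀ * (suDat σ n).J * Q.map σ = 1 ∧ ∀ s, mat (e s) = Q * s.1.1 * P := by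
  have hD := suGood hσ hn
  set D := suDat σ n with hDd
  have hJJ : D.J * D.J = 1 := by
    rw [hD.J_mul_J]
    exact one_smul K _
  obtain ⟨h, hh⟩ := CfsgLib.KnownC.exists_congr_one σ hσ ⟨D.J, D.J, hJJ, hJJ⟩ (suJ_map σ n)
  set P : Matrix (Fin n) (Fin n) K := (h : Matrix (Fin n) (Fin n) K)ᵀ with hP
  set Q : Matrix (Fin n) (Fin n) K := ((h⁻¹ : GL (Fin n) K) : Matrix (Fin n) (Fin n) K)ᵀ with hQ
  have hPQ : P * Q = 1 := by rw [hP, hQ, ← transpose_mul, Units.inv_mul, transpose_one]
  have hQP : Q * P = 1 := by rw [hP, hQ, ← transpose_mul, Units.mul_inv, transpose_one]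
  have hJ : D.J = Pᵀ * P.map σ := by
    rw [hP, transpose_transpose]
    exact hh.trans (by rw [Matrix.transpose_map])
  have hQ' : Qᵀ * D.J * Q.map σ = 1 := by
    rw [hJ, ← mul_assoc, ← transpose_mul, hPQ, transpose_one, one_mul, ← Matrix.map_mul, hPQ,
      Matrix.map_one _ (map_zero σ) (map_one σ)]
  have hdet : ∀ A : Matrix (Fin n) (Fin n) K, (Q * A * P).det = A.det := fun A => by
    rw [det_mul, det_mul, mul_right_comm, ← det_mul, hQP, det_one, one_mul]
  have hmap : ∀ X : Matrix (Fin n) (Fin n) K,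
      X.map σ = X.map (CfsgLib.Classical.qFrob hK) := fun X => by ext i j; exact hσq _
  have hiso : ∀ s : Cfsg.SU n K q, D.IsIsom (Q * s.1.1 * P) := fun s => by
    show (Q * s.1.1 * P)ᵀ * D.J * (Q * s.1.1 * P).map σ = D.J
    have hs := (CfsgLib.Classical.mem_su_iff hK s.1).1 s.2
    rw [← hmap] at hs
    rw [transpose_mul, transpose_mul, Matrix.map_mul, Matrix.map_mul]
    calc Pᵀ * (s.1.1ᵀ * Qᵀ) * D.J * (Q.map σ * s.1.1.map σ * P.map σ)
        = Pᵀ * (s.1.1ᵀ * (Qᵀ * D.J * Q.map σ) * s.1.1.map σ) * P.map σ := by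
          simp only [mul_assoc]
      _ = _ := by rw [hQ', mul_one, hs, mul_one, hJ]
  let φ : Cfsg.SU n K q →* D.group :=
    { toFun := fun s => ⟨Matrix.GeneralLinearGroup.mkOfDetNeZero (Q * s.1.1 * P)
          (by rw [hdet, s.1.2]; exact one_ne_zero),
        hiso s, by
          show (Q * s.1.1 * P).det = 1
          rw [hdet, s.1.2]⟩
      map_one' := Subtype.ext (Units.ext (by
        show Q * 1 * P = 1
        rw [mul_one, hQP]))
      map_mul' := fun s t => Subtype.ext (Units.ext (by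
        show Q * (s.1.1 * t.1.1) * P = Q * s.1.1 * P * (Q * t.1.1 * P)
        calc Q * (s.1.1 * t.1.1) * P = Q * s.1.1 * 1 * t.1.1 * P := by
              simp only [mul_one, mul_assoc]
          _ = _ := by rw [← hPQ]; simp only [mul_assoc])) }
  have hbij : Function.Bijective φ := by
    refine ⟨fun s t hst => ?_, fun g => ?_⟩
    · have h1 : Q * s.1.1 * P = Q * t.1.1 * P := congrArg (fun g : D.group => mat g) hst
      have h2 := congrArg (fun X => P * X * Q) h1
      simp only [← mul_assoc, hPQ, one_mul] at h2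
      simp only [mul_assoc, hPQ, mul_one] at h2
      exact Subtype.ext (Subtype.ext h2)
    · have hd : (P * mat g * Q).det = 1 := by
        rw [det_mul, det_mul, mul_right_comm, ← det_mul, hPQ, det_one, one_mul, mat_det]
      refine ⟨⟨⟨P * mat g * Q, hd⟩, (CfsgLib.Classical.mem_su_iff hK _).2 ?_⟩,
        Subtype.ext (Units.ext ?_)⟩
      · show (P * mat g * Q)ᵀ * (P * mat g * Q).map (CfsgLib.Classical.qFrob hK) = 1
        rw [← hmap, transpose_mul, transpose_mul, Matrix.map_mul, Matrix.map_mul]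
        calc Qᵀ * ((mat g)ᵀ * Pᵀ) * (P.map σ * (mat g).map σ * Q.map σ)
            = Qᵀ * ((mat g)ᵀ * (Pᵀ * P.map σ) * (mat g).map σ) * Q.map σ := by
              simp only [mul_assoc]
          _ = _ := by rw [← hJ, show (mat g)ᵀ * D.J * (mat g).map σ = D.J from mat_isom g, hQ']
      · show Q * (P * mat g * Q) * P = mat g
        rw [← mul_assoc, ← mul_assoc, hQP, one_mul, mul_assoc, hQP, mul_one]
  exact ⟨MulEquiv.ofBijective φ hbij, P, Q, hQP, hQ', fun s => rfl⟩

/-- `PSU_n(q)` is generated by two elements. -/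
theorem psu_two_gen {F : Type*} [Field F] [Fintype F] {q : ℕ} (hF : Fintype.card F = q ^ 2)
    {n : ℕ} (hn : 3 ≤ n) (h32 : n = 3 → q ≠ 2) :
    ∃ a b : Cfsg.PSU n F q, Subgroup.closure ({a, b} : Set (Cfsg.PSU n F q)) = ⊤ := by
  classical
  have : Fact (ringChar F).Prime := ⟨CharP.char_is_prime F (ringChar F)⟩
  obtain ⟨σ, hσq, hσ⟩ := CfsgLib.Classical.SemiUnitary.exists_qFrobEquiv hF
  have hD := suGood hσ hn
  have hσpow : ∀ z, σ z = z ^ q := fun z => (hσq z).trans (CfsgLib.Classical.qFrob_apply hF z)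
  have hσσ : ∀ z, σ (σ z) = z := hD.hσ
  have hq : 2 ≤ q := by
    by_contra h
    have h1 : 1 < Fintype.card F := Fintype.one_lt_card
    rw [hF] at h1
    interval_cases q <;> simp at h1
  obtain ⟨ξ, hξ⟩ := IsCyclic.exists_generator (α := Fˣ)
  have hord : orderOf ξ = q * q - 1 := by
    rw [orderOf_eq_card_of_forall_mem_zpowers hξ, Nat.card_units, Nat.card_eq_fintype_card, hF, sq]
  set l : F := (ξ : F) with hl
  have hl0 : l ≠ 0 := ξ.ne_zero
  have hne : ∀ k : ℕ, 0 < k → k < q * q - 1 → l ^ k ≠ 1 := fun k h1 h2 e => by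
    refine pow_ne_one_of_lt_orderOf (x := ξ) (show k ≠ 0 by omega) (by rw [hord]; exact h2)
      (Units.ext ?_)
    rwa [Units.val_pow_eq_pow_val, Units.val_one]
  have hQ : ∀ Q : ℕ, Q * Q ≤ Fintype.card F → Q ≤ q := fun Q h => by
    rw [hF, sq] at h
    exact Nat.mul_self_le_mul_self_iff.1 h
  have hσl0 : σ l ≠ 0 := fun h => hl0 (by rw [← hσσ l, h, map_zero])
  have hne2 : ∃ d, σ d ≠ d := by
    by_contra h
    simp only [not_exists, not_not] at h
    rw [show σ = 1 from RingEquiv.ext h, orderOf_one] at hσ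
    omega
  have hqq : q * 2 ≤ q * q := Nat.mul_le_mul_left q hq
  have hmid : ∀ o : Fin n, rev o = o → ∀ t : F, t * σ t = 1 → ∀ x,
      (fun z => if z = o then t else 1) x * σ ((fun z => if z = o then t else 1) (rev x)) = 1 := by
    intro o ho t ht x
    by_cases hx : x = o
    · subst hx; simp [ho, ht]
    · simp [hx, show rev x ≠ o from fun e => hx (by rw [← Fin.rev_rev x, e, ho])]
  obtain ⟨a, b, hab⟩ : ∃ a b : Dat.group (suDat σ n), ∀ H : Subgroup (Dat.group (suDat σ n)),
      a ∈ H → b ∈ H → ∀ (g : Dat.group (suDat σ n)) (v r : Fin n → F),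
        mat g = 1 + Matrix.vecMulVec v r → ∑ x, v x * σ (v (rev x)) = 0 → g ∈ H := by
    rcases Nat.mod_two_eq_zero_or_one n with heven | hodd
    · have h4 : 4 ≤ n := by omega
      set i0 : Fin n := ix 0 (by omega) with hi0
      set i1 : Fin n := ix 1 (by omega) with hi1
      have h01 : Adm i0 i1 := (adm_ix _ _ (by omega)).1
      have hr0 : i0 ≠ rev i0 := h01.2.2.1
      have hr1 : i1 ≠ rev i1 := h01.2.2.2
      set d : Fin n → F := fun z => tw σ i0 l z * tw σ i1 l⁻¹ z with hd
      have d0 : d i0 = l := by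
        simp only [hd]
        rw [tw_self, tw_ne _ h01.1 h01.2.1, mul_one]
      have d1 : d i1 = l⁻¹ := by
        simp only [hd]
        rw [tw_self, tw_ne _ h01.1.symm (fun e => h01.2.1 (by rw [e, Fin.rev_rev])), one_mul]
      refine gen_even (ringChar F) hD hne2 h4 heven d (fun z => ?_) ?_ ?_ ?_ ?_
      · simp only [hd, map_mul]
        rw [mul_mul_mul_comm, tw_rel hσσ hr0 hl0, tw_rel hσσ hr1 (inv_ne_zero hl0), one_mul]
      · simp only [hd]
        rw [Finset.prod_mul_distrib, tw_prod hr0, tw_prod hr1, map_inv₀]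
        have : σ l ≠ 0 := fun h => hl0 (by rw [← hσσ l, h, map_zero])
        field_simp
      · rw [← hi0, ← hi1, d0, d1, div_inv_eq_mul]
        refine closure_pow_eq_top _ (by simp [hl0]) fun Q hQ2 hQQ e => ?_
        have := hQ Q hQQ
        rw [← sq, ← pow_mul] at e
        exact hne (2 * (Q - 1)) (by omega) (by omega) e
      · rw [← hi0, ← hi1, d0, d1]
        intro e
        exact hne 2 (by omega) (by omega) (by rw [sq]; nth_rw 2 [e]; exact mul_inv_cancel₀ hl0)
      · rw [← hi0, d0]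
        intro e
        by_cases h2 : n / 2 - 1 = 1
        · rw [show (ix (n / 2 - 1) (by omega) : Fin n) = i1 from Fin.ext (by
            rw [ix_val, hi1, ix_val, h2])] at e
          simp only [hd] at e
          rw [tw_rev hr1, tw_ne _ (Ne.symm h01.2.1) (fun e' => h01.1 (Fin.rev_injective e').symm),
            one_mul, map_inv₀, inv_inv, hσpow] at e
          refine hne (q - 1) (by omega) (by omega) (mul_left_cancel₀ hl0 ?_)
          rw [← pow_succ', Nat.sub_add_cancel (by omega), mul_one, e]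
        · set j := rev (ix (n / 2 - 1) (by omega) : Fin n) with hj
          have hjv : (j : ℕ) = n - 1 - (n / 2 - 1) := by rw [hj, rev_val, ix_val]
          simp only [hd] at e
          rw [tw_ne _ (fun e' => by rw [e', hi0, ix_val] at hjv; omega)
              (fun e' => by rw [e', rev_val, hi0, ix_val] at hjv; omega),
            tw_ne _ (fun e' => by rw [e', hi1, ix_val] at hjv; omega)
              (fun e' => by rw [e', rev_val, hi1, ix_val] at hjv; omega), mul_one] at e
          exact hne 1 (by omega) (by omega) (by rw [pow_one, ← e])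
    · have ho : rev (⟨n / 2, by omega⟩ : Fin n) = ⟨n / 2, by omega⟩ :=
        Fin.ext (by rw [rev_val]; show n - 1 - n / 2 = n / 2; omega)
      set o : Fin n := ⟨n / 2, by omega⟩ with ho'
      set i0 : Fin n := ix 0 (by omega) with hi0
      set iL : Fin n := ix (n / 2 - 1) (by omega) with hiL
      have hr0 : i0 ≠ rev i0 := ix_ne_rev _ _
      have hrL : iL ≠ rev iL := ix_ne_rev _ _
      have h0o : o ≠ i0 := fun e => hr0 (by rw [← e, ho])
      have h0o' : o ≠ rev i0 := fun e => h0o (by rw [← ho, e, Fin.rev_rev])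
      have hLo : o ≠ iL := fun e => hrL (by rw [← e, ho])
      have hLo' : o ≠ rev iL := fun e => hLo (by rw [← ho, e, Fin.rev_rev])
      have hσl : σ l ≠ 0 := fun h => hl0 (by rw [← hσσ l, h, map_zero])
      rcases Nat.lt_or_ge 2 q with hq3 | hq2
      · set d : Fin n → F := fun z => tw σ i0 l z * if z = o then σ l / l else 1 with hd
        have d0 : d i0 = l := by
          simp only [hd]
          rw [tw_self, if_neg h0o.symm, mul_one]
        have dd : d o * l = l ^ q := by
          simp only [hd]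
          rw [tw_ne _ h0o h0o', if_true, one_mul, div_mul_cancel₀ _ hl0, hσpow]
        refine gen_odd (ringChar F) hD hne2 hn ho d (fun z => ?_) ?_ ?_ ?_ ?_
        · simp only [hd, map_mul]
          rw [mul_mul_mul_comm, tw_rel hσσ hr0 hl0,
            hmid o ho _ (by rw [map_div₀, hσσ]; field_simp) z, one_mul]
        · simp only [hd]
          rw [Finset.prod_mul_distrib, tw_prod hr0, Finset.prod_ite_eq' Finset.univ o fun _ => σ l / l,
            if_pos (Finset.mem_univ o)]
          field_simp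
        · rw [← hi0, d0]
          refine closure_pow_eq_top _ (div_ne_zero hl0 fun h =>
            pow_ne_zero q hl0 (dd.symm.trans (by rw [h, zero_mul]))) fun Q hQ2 hQQ e => ?_
          have := hQ Q hQQ
          refine hne ((q - 2) * (Q - 1)) (Nat.mul_pos (by omega) (by omega)) ?_ ?_
          · calc (q - 2) * (Q - 1) ≤ (q - 2) * (q - 1) := Nat.mul_le_mul_left _ (by omega)
              _ < (q + 1) * (q - 1) := Nat.mul_lt_mul_of_pos_right (by omega) (by omega)
              _ = q * q - 1 := by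
                rw [add_mul, one_mul, Nat.mul_sub, mul_one]
                omega
          · have hdo : d o = l ^ (q - 1) := mul_right_cancel₀ hl0 (dd.trans (by
              rw [← pow_succ, Nat.sub_add_cancel (by omega)]))
            have e2 : l / d o = (l ^ (q - 2))⁻¹ := by
              rw [hdo, show q - 1 = q - 2 + 1 by omega, pow_succ]
              field_simp
            rw [e2, inv_pow, inv_eq_one, ← pow_mul] at e
            exact e
        · rw [← hi0, d0]
          intro e
          refine hne (q - 2) (by omega) (by omega) (mul_left_cancel₀ (mul_ne_zero hl0 hl0) ?_)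
          rw [mul_one, ← sq, ← pow_add, show 2 + (q - 2) = q by omega, ← dd, ← e, sq]
        · intro e
          have hdo : d o = σ l / l := by
            simp only [hd]
            rw [tw_ne _ h0o h0o', if_true, one_mul]
          by_cases h1 : n / 2 - 1 = 0
          · rw [← hiL, show iL = i0 from Fin.ext (by rw [hiL, hi0, ix_val, ix_val, h1]), hdo] at e
            simp only [hd] at e
            rw [tw_rev hr0, if_neg h0o'.symm, mul_one] at e
            have hq3' : q * 3 ≤ q * q := Nat.mul_le_mul_left q hq3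
            refine hne (2 * q - 1) (by omega) (by omega) (mul_left_cancel₀ hl0 ?_)
            field_simp at e
            rw [← pow_succ', show 2 * q - 1 + 1 = q + q by omega, pow_add, ← hσpow, mul_one]
            linear_combination -e
          · set j := rev iL with hj
            have hjv : (j : ℕ) = n - 1 - (n / 2 - 1) := by rw [hj, rev_val, hiL, ix_val]
            rw [hdo] at e
            simp only [hd] at e
            rw [tw_ne _ (fun e' => by rw [e', hi0, ix_val] at hjv; omega)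
              (fun e' => by rw [e', rev_val, hi0, ix_val] at hjv; omega), if_neg hLo'.symm,
              mul_one] at e
            refine hne (q - 1) (by omega) (by omega) (mul_left_cancel₀ hl0 ?_)
            rw [← pow_succ', Nat.sub_add_cancel (by omega), mul_one, ← hσpow]
            field_simp at e
            linear_combination -e
      · have hq2' : q = 2 := by omega
        subst hq2'
        have h5 : 5 ≤ n := by
          have : n ≠ 3 := fun h => h32 h rfl
          omega
        have h0L : i0 ≠ iL := fun e => by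
          have := congrArg Fin.val e
          rw [hi0, hiL, ix_val, ix_val] at this
          omega
        have h0L' : i0 ≠ rev iL := fun e => by
          have := congrArg Fin.val e
          rw [rev_val, hi0, hiL, ix_val, ix_val] at this
          omega
        have hl3 : l ^ 3 = 1 := by
          have : ξ ^ 3 = 1 := by
            have h := pow_orderOf_eq_one ξ
            rwa [hord] at h
          rw [hl, ← Units.val_pow_eq_pow_val, this, Units.val_one]
        have hl1 : l ≠ 1 := fun h => hne 1 (by omega) (by omega) (by rw [pow_one, h])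
        set d : Fin n → F :=
          fun z => tw σ i0 l z * tw σ iL l z * if z = o then l * l else 1 with hd
        have d0 : d i0 = l := by
          simp only [hd]
          rw [tw_self, tw_ne _ h0L h0L', if_neg h0o.symm, mul_one, mul_one]
        have dd : d o = l * l := by
          simp only [hd]
          rw [tw_ne _ h0o h0o', tw_ne _ hLo hLo', if_true, one_mul, one_mul]
        refine gen_odd (ringChar F) hD hne2 hn ho d (fun z => ?_) ?_ ?_ ?_ ?_
        · simp only [hd, map_mul]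
          rw [mul_mul_mul_comm, mul_mul_mul_comm (tw σ i0 l z), tw_rel hσσ hr0 hl0,
            tw_rel hσσ hrL hl0, hmid o ho _ (by
              rw [map_mul, hσpow]; linear_combination (l ^ 3 + 1) * hl3) z, one_mul, one_mul]
        · simp only [hd]
          rw [Finset.prod_mul_distrib, Finset.prod_mul_distrib, tw_prod hr0, tw_prod hrL,
            Finset.prod_ite_eq' Finset.univ o fun _ => l * l, if_pos (Finset.mem_univ o), hσpow]
          field_simp
        · rw [← hi0, d0, dd]
          refine closure_pow_eq_top _ (by simp [hl0]) fun Q hQ2 hQQ e => ?_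
          have := hQ Q hQQ
          obtain rfl : Q = 2 := by omega
          apply hl1
          field_simp at e
          simpa using e.symm
        · rw [← hi0, d0, dd]
          intro e
          exact hl1 (mul_left_cancel₀ hl0 (by rw [mul_one, ← e]))
        · intro e
          rw [← hiL, dd] at e
          simp only [hd] at e
          rw [tw_ne _ (Ne.symm h0L') (fun e' => h0L (Fin.rev_injective e').symm), tw_rev hrL,
            if_neg hLo'.symm, one_mul, mul_one, hσpow] at e
          apply hl1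
          field_simp at e
          linear_combination -e - l * hl3
  obtain ⟨e, P, Q, hQP, hQ', hem⟩ := exists_iso hF hn hσq hσ
  have h32' : ¬(n = 3 ∧ q = 2) := fun h => h32 h.1 h.2
  have htop : Subgroup.closure {e.symm a, e.symm b} = ⊤ := by
    refine top_le_iff.1 ?_
    rw [← CfsgLib.Classical.closure_transvections_eq_top hF hn h32', Subgroup.closure_le]
    rintro A ⟨u, c, hu, hA⟩
    have hH := hab ((Subgroup.closure {e.symm a, e.symm b}).map e.toMonoidHom)
      ⟨e.symm a, Subgroup.subset_closure (by simp), e.apply_symm_apply a⟩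
      ⟨e.symm b, Subgroup.subset_closure (by simp), e.apply_symm_apply b⟩ (e A) (Q *ᵥ u)
      ((c • fun i => (u i) ^ q) ᵥ* P) (by
        rw [hem, hA, Cfsg.unitaryTransvection, Matrix.mul_add, Matrix.mul_one, Matrix.add_mul, hQP,
          Matrix.mul_smul, Matrix.smul_mul, Matrix.mul_vecMulVec, Matrix.vecMulVec_mul,
          ← Matrix.vecMulVec_smul, Matrix.smul_vecMul]) (by
        have key : ∀ w : Fin n → F, ∑ x, w x * σ (w (rev x)) =
            w ⬝ᵥ ((suDat σ n).J *ᵥ fun z => σ (w z)) := fun w => by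
          refine Finset.sum_congr rfl fun x _ => ?_
          rw [Matrix.mulVec, dotProduct, Finset.sum_eq_single (rev x)
            (fun b _ hb => by simp [Dat.J, hb]) (by simp)]
          simp [Dat.J, e_one]
        have hmap : (fun z => σ ((Q *ᵥ u) z)) = Q.map σ *ᵥ fun z => σ (u z) :=
          funext fun z => RingHom.map_mulVec (σ : F →+* F) _ _ z
        rw [key, hmap, Matrix.mulVec_mulVec, ← Matrix.vecMul_transpose, ← Matrix.dotProduct_mulVec,
          Matrix.mulVec_mulVec, ← Matrix.mul_assoc, hQ', Matrix.one_mulVec]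
        rw [Cfsg.hermForm] at hu
        simpa [dotProduct, hσpow] using hu)
    obtain ⟨A', hA', hA''⟩ := hH
    rwa [e.injective hA''] at hA'
  refine ⟨QuotientGroup.mk' _ (e.symm a), QuotientGroup.mk' _ (e.symm b), ?_⟩
  have h := congrArg (Subgroup.map (QuotientGroup.mk' (Subgroup.center (Cfsg.SU n F q)))) htop
  rw [MonoidHom.map_closure, Set.image_pair] at h
  exact h.trans (Subgroup.map_top_of_surjective _ (QuotientGroup.mk'_surjective _))

end CfsgLib.KnownB.SUTwoGen
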