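import Cfsg.Agent.Lib.KnownB.GL2Count
import Cfsg.Agent.Lib.Char.Monomial

/-!
# `SL₂(F)` inside `GL₂(F)`: conjugacy and splitting of unipotent classes
-/

set_option autoImplicit false

namespace CfsgLib.KnownB.SL2

open Matrix Finset CfsgLib.KnownB.GL2
open scoped MatrixGroups

variable {F : Type*} [Field F]

local notation "G2" => GL (Fin 2) F
local notation "S2" => Matrix.SpecialLinearGroup (Fin 2) F
local notation "M2" => Matrix (Fin 2) (Fin 2) F

/-- The embedding of `SL₂` in `GL₂`. -/
abbrev ι : Matrix.SpecialLinearGroup (Fin 2) F →* GL (Fin 2) F :=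
  Matrix.SpecialLinearGroup.toGL

theorem coe_ι (s : S2) : ((ι s : G2) : M2) = (s : M2) := rfl

theorem ι_injective : Function.Injective (ι (F := F)) :=
  Matrix.SpecialLinearGroup.toGL_injective

/-- The diagonal element `diag(1, d)`. -/
noncomputable def dgl (d : Fˣ) : GL (Fin 2) F :=
  Matrix.GeneralLinearGroup.mkOfDetNeZero !![1, 0; 0, (d : F)] (by simp [det_fin_two])

theorem coe_dgl (d : Fˣ) : ((dgl d : G2) : M2) = !![1, 0; 0, (d : F)] := rfl

/-- The element of `SL₂` with the same matrix as an element of determinant one. -/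
def mkSL (g : G2) (h : (g : M2).det = 1) : S2 := ⟨(g : M2), h⟩

theorem ι_mkSL (g : G2) (h : (g : M2).det = 1) : ι (mkSL g h) = g := Units.ext rfl

theorem det_ι (s : S2) : ((ι s : G2) : M2).det = 1 := s.2

theorem decompose_bijective :
    Function.Bijective (fun p : S2 × Fˣ => ι p.1 * dgl p.2) := by
  constructor
  · rintro ⟨s, d⟩ ⟨s', d'⟩ h
    have hd := congrArg (fun g : G2 => (g : M2).det) h
    simp [Units.val_mul, coe_dgl, det_mul, det_fin_two] at hd
    obtain rfl : d = d' := Units.ext (by simpa [← det_fin_two] using hd)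
    exact Prod.ext (ι_injective (mul_right_cancel h)) rfl
  · intro g
    let d : Fˣ := Units.mk0 _ (det_ne_zero g)
    have h : ((g * (dgl d)⁻¹ : G2) : M2).det = 1 := by
      have h2 : ((dgl d : G2) : M2).det = (g : M2).det := by simp [coe_dgl, det_fin_two, d]
      rw [Units.val_mul, det_mul]
      have h3 : ((dgl d : G2) : M2).det * (((dgl d)⁻¹ : G2) : M2).det = 1 := by
        rw [← det_mul, ← Units.val_mul, mul_inv_cancel, Units.val_one, det_one]
      rwa [h2] at h3
    exact ⟨(mkSL _ h, d), by simp [ι_mkSL]⟩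

variable [Fintype F] [DecidableEq F]

theorem sum_sl (f : GL (Fin 2) F → ℂ) :
    ∑ s : S2, f (ι s) = ∑ g : G2, if (g : M2).det = 1 then f g else 0 := by
  rw [← Finset.sum_filter]
  refine Finset.sum_bij' (fun s _ => ι s) (fun g hg => mkSL g (by simpa using hg)) ?_ ?_ ?_ ?_ ?_
  · intro s _; simp [det_ι]
  · simp
  · intro s _; rfl
  · intro g _; exact ι_mkSL _ _
  · intro s _; rfl

theorem card_sl :
    (Nat.card S2 : ℂ) * ((Fintype.card F : ℂ) - 1) =
      ((Fintype.card F : ℂ) ^ 2 - 1) * ((Fintype.card F : ℂ) ^ 2 - Fintype.card F) := by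
  rw [← card_gl, ← Nat.card_eq_of_bijective _ (decompose_bijective (F := F)), Nat.card_prod,
    Nat.card_units, Nat.card_eq_fintype_card (α := F), Nat.cast_mul,
    Nat.cast_sub Fintype.card_pos, Nat.cast_one]

section Conj

omit [Fintype F] [DecidableEq F] in
/-- Conjugation in `GL₂` can be corrected to conjugation in `SL₂` by a centralising element of the
same determinant. -/
theorem isConj_of_commute {s t : S2} {x c : G2} (hx : x * ι s * x⁻¹ = ι t)
    (hc : c * ι s = ι s * c) (hd : (c : M2).det = (x : M2).det) : IsConj s t := by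
  have h : ((x * c⁻¹ : G2) : M2).det = 1 := by
    rw [Units.val_mul, det_mul, ← hd, ← det_mul, ← Units.val_mul, mul_inv_cancel, Units.val_one,
      det_one]
  refine isConj_iff.mpr ⟨mkSL _ h, ι_injective ?_⟩
  rw [map_mul, map_mul, map_inv, ι_mkSL, ← hx]
  calc x * c⁻¹ * ι s * (x * c⁻¹)⁻¹ = x * (c⁻¹ * (ι s * c)) * x⁻¹ := by group
    _ = x * (c⁻¹ * (c * ι s)) * x⁻¹ := by rw [hc]
    _ = x * ι s * x⁻¹ := by group

/-- If `tr² ≠ 4` or the characteristic is `2`, conjugacy in `GL₂` of elements of `SL₂` implies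
conjugacy in `SL₂`. -/
theorem isConj_of_isConj_gl {s t : S2} (hc : IsConj (ι s) (ι t))
    (h : (s : M2).trace ^ 2 ≠ 4 ∨ (2 : F) = 0) : IsConj s t := by
  obtain ⟨x, hx⟩ := isConj_iff.mp hc
  obtain ⟨a, b, hab⟩ : ∃ a b : F, a * a + (s : M2).trace * a * b + b * b = (x : M2).det := by
    by_cases h2 : (2 : F) = 0
    · have hr : ringChar F = 2 := by
        have : ringChar F ∣ 2 := ringChar.dvd (by exact_mod_cast h2)
        rcases (Nat.dvd_prime Nat.prime_two).mp this with h' | h'
        · exact absurd h' (CharP.ringChar_ne_one)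
        · exact h'
      obtain ⟨c, hc⟩ := FiniteField.isSquare_of_char_two hr (x : M2).det
      exact ⟨c, 0, by simp [hc]⟩
    · have hT := h.resolve_right h2
      set T := (s : M2).trace
      have hk : 1 - T ^ 2 / 4 ≠ 0 := by
        intro h0
        have h4 : (4 : F) ≠ 0 := by
          rw [show (4 : F) = 2 * 2 by norm_num]; exact mul_ne_zero h2 h2
        field_simp at h0
        exact hT (by linear_combination -h0)
      have hr : Fintype.card F % 2 = 1 := FiniteField.odd_card_of_char_ne_two (fun hr => h2 (by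
        have := ringChar.Nat.cast_ringChar (R := F); rw [hr] at this; exact_mod_cast this))
      open Polynomial in
      obtain ⟨u, b, hub⟩ := FiniteField.exists_root_sum_quadratic (R := F) (f := X ^ 2)
        (g := Polynomial.C (1 - T ^ 2 / 4) * X ^ 2 - Polynomial.C (x : M2).det)
        (degree_X_pow 2) (by
          rw [degree_sub_C (by rw [degree_C_mul_X_pow 2 hk]; norm_num), degree_C_mul_X_pow 2 hk]; rfl) hr
      simp at hub
      refine ⟨u - T * b / 2, b, ?_⟩
      have h4 : (4 : F) ≠ 0 := by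
        rw [show (4 : F) = 2 * 2 by norm_num]; exact mul_ne_zero h2 h2
      field_simp at hub ⊢
      linear_combination hub
  have hs := s.2
  rw [det_fin_two] at hs
  have hdet : (a • (1 : M2) + b • (s : M2)).det = (x : M2).det := by
    rw [← hab]
    simp [det_fin_two, trace_fin_two]
    linear_combination (b * b) * hs
  refine isConj_of_commute
    (c := Matrix.GeneralLinearGroup.mkOfDetNeZero _ (hdet ▸ det_ne_zero x)) hx ?_ hdet
  refine Units.ext ?_
  show (a • (1 : M2) + b • (s : M2)) * (s : M2) = (s : M2) * (a • (1 : M2) + b • (s : M2))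
  simp [mul_add, add_mul, smul_mul_assoc, mul_smul_comm]

end Conj

section Unipotent

/-- The element `[[a, n], [0, a]]` with `a² = 1`. -/
def utri (a n : F) (ha : a * a = 1) : S2 := ⟨!![a, n; 0, a], by simp [det_fin_two, ha]⟩

omit [Fintype F] [DecidableEq F] in
theorem coe_utri (a n : F) (ha : a * a = 1) : ((utri a n ha : S2) : M2) = !![a, n; 0, a] := rfl

omit [Fintype F] [DecidableEq F] in
theorem utri_data (a n : F) (ha : a * a = 1) (hn : n ≠ 0) :
    NonScalar ((utri a n ha : S2) : M2) ∧ ((utri a n ha : S2) : M2).trace = a + a ∧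
      ((utri a n ha : S2) : M2).det = a * a :=
  ⟨(nonScalar_iff _).mpr (Or.inl (by simpa [coe_utri] using hn)), by simp [coe_utri, trace_fin_two],
    by simp [coe_utri, det_fin_two]⟩

omit [Fintype F] [DecidableEq F] in
/-- A nonscalar element with a double eigenvalue is conjugate to a triangular one. -/
theorem exists_isConj_utri {s : S2} (hs : NonScalar (s : M2)) {a : F}
    (ht : (s : M2).trace = a + a) (hd : (s : M2).det = a * a) :
    ∃ (ha : a * a = 1) (n : F), n ≠ 0 ∧ IsConj s (utri a n ha) := by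
  have ha : a * a = 1 := hd ▸ s.2
  obtain ⟨h1, h2, h3⟩ := utri_data a 1 ha one_ne_zero
  obtain ⟨x, hx⟩ := isConj_iff.mp (isConj_of_trace_det (g := ι s) (h := ι (utri a 1 ha)) hs h1
    (ht.trans h2.symm) (hd.trans h3.symm))
  set e := (x : M2).det with he
  let δ : G2 := Matrix.GeneralLinearGroup.mkOfDetNeZero !![e⁻¹, 0; 0, 1]
    (by rw [Matrix.det_fin_two_of]; simp [he, det_ne_zero x])
  have hδ : δ * ι (utri a 1 ha) * δ⁻¹ = ι (utri a e⁻¹ ha) := by
    rw [mul_inv_eq_iff_eq_mul]
    refine Units.ext ?_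
    show (!![e⁻¹, 0; 0, 1] : M2) * !![a, 1; 0, a] = !![a, e⁻¹; 0, a] * !![e⁻¹, 0; 0, 1]
    ext i j
    fin_cases i <;> fin_cases j <;> simp [Matrix.mul_apply, Fin.sum_univ_two, mul_comm]
  refine ⟨ha, e⁻¹, inv_ne_zero (det_ne_zero x), isConj_of_commute (x := δ * x) (c := 1) ?_
    (by simp) ?_⟩
  · rw [← hδ, ← hx]; group
  · rw [Units.val_one, det_one, Units.val_mul, det_mul]
    show 1 = (!![e⁻¹, 0; 0, 1] : M2).det * (x : M2).det
    rw [Matrix.det_fin_two_of, ← he]
    simp [he, det_ne_zero x]

omit [Fintype F] [DecidableEq F] in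
/-- Two triangular elements are conjugate iff the upper entries differ by a square. -/
theorem isConj_utri_iff {a n m : F} (ha : a * a = 1) (hn : n ≠ 0) (hm : m ≠ 0) :
    IsConj (utri a n ha) (utri a m ha) ↔ IsSquare (n * m) := by
  constructor
  · intro h
    obtain ⟨y, hy⟩ := isConj_iff.mp h
    rw [mul_inv_eq_iff_eq_mul] at hy
    have hy' := congrArg (fun s : S2 => (s : M2)) hy
    simp only [Matrix.SpecialLinearGroup.coe_mul, coe_utri] at hy'
    have e10 := congrFun (congrFun hy' 1) 1
    have e01 := congrFun (congrFun hy' 0) 1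
    simp [Matrix.mul_apply, Fin.sum_univ_two] at e10 e01
    have h10 : (y : M2) 1 0 = 0 := by
      have : (y : M2) 1 0 * n = 0 := by linear_combination e10
      exact (mul_eq_zero.mp this).resolve_right hn
    have hdet := y.2
    rw [det_fin_two, h10, mul_zero, sub_zero] at hdet
    refine ⟨(y : M2) 0 0 * n, ?_⟩
    linear_combination (-(y : M2) 0 0 * n) * e01 + (-(n * m)) * hdet
  · rintro ⟨r, hr⟩
    have hr0 : r ≠ 0 := by
      rintro rfl
      simp [hn, hm] at hr
    obtain ⟨w, hw⟩ : ∃ w : S2, (w : M2) = !![r / n, 0; 0, n / r] :=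
      ⟨⟨_, by simp [det_fin_two]; field_simp⟩, rfl⟩
    refine isConj_iff.mpr ⟨w, ?_⟩
    rw [mul_inv_eq_iff_eq_mul]
    refine Subtype.ext ?_
    rw [Matrix.SpecialLinearGroup.coe_mul, Matrix.SpecialLinearGroup.coe_mul, hw, coe_utri,
      coe_utri]
    ext i j
    fin_cases i <;> fin_cases j <;> simp [Matrix.mul_apply, Fin.sum_univ_two, mul_comm]
    field_simp
    linear_combination -hr

end Unipotent

omit [Field F] [Fintype F] [DecidableEq F] in
/-- Multiplying by a central element scales an irreducible character. -/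
theorem irr_mul_central {G : Type*} [Group G] {χ : G → ℂ} (hχ : Cfsg.IsIrrCharacter G χ)
    {z : G} (hz : z ∈ Subgroup.center G) (g : G) : χ 1 * χ (z * g) = χ z * χ g := by
  obtain ⟨n, ρ, hρ, rfl⟩ := hχ
  obtain ⟨c, hc⟩ := CfsgLib.Char.exists_scalar_of_commute ρ (ρ z) fun x => by
    rw [← Module.End.mul_eq_comp, ← Module.End.mul_eq_comp, ← map_mul, ← map_mul,
      Subgroup.mem_center_iff.mp hz x]
  have key : ∀ x : G, ρ.character (z * x) = c * ρ.character x := fun x => by
    simp [Representation.character, map_mul, hc, Module.End.mul_eq_comp, LinearMap.smul_comp]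
  have h1 := key 1
  rw [mul_one] at h1
  rw [key, h1]
  ring

end CfsgLib.KnownB.SL2
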