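import Cfsg.Agent.Lib.KnownB.SL2Half

/-!
# Irreducible characters of `SL₂(F)` recognised by degree
-/

set_option autoImplicit false

namespace CfsgLib.KnownB.SL2

open Matrix Finset CfsgLib.KnownB.GL2
open scoped MatrixGroups ComplexConjugate

variable {F : Type*} [Field F] [Fintype F] [DecidableEq F]
variable {E : Type*} [Field E] [Algebra F E] [IsQuad F E] [Fintype E]

local notation "S2" => Matrix.SpecialLinearGroup (Fin 2) F
local notation "M2" => Matrix (Fin 2) (Fin 2) F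
local notation "q" => (Fintype.card F : ℂ)

section Types

omit [Fintype F] [DecidableEq F] in
theorem diag_type {s : S2} (h01 : (s : M2) 0 1 = 0) (h10 : (s : M2) 1 0 = 0) :
    (s : M2) 0 0 * (s : M2) 1 1 = 1 ∧ (s : M2).trace = (s : M2) 0 0 + (s : M2) 1 1 ∧
      ((s : M2) 0 0 ^ 2 ≠ 1 → (s : M2) 0 0 ≠ (s : M2) 1 1) := by
  obtain ⟨ht, hd⟩ := diag_data h01 h10
  have h1 : (s : M2) 0 0 * (s : M2) 1 1 = 1 := hd.symm.trans s.2
  refine ⟨h1, ht, fun h he => h ?_⟩
  rw [sq]
  nth_rw 2 [he]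
  exact h1

omit [Fintype F] [DecidableEq F] in
theorem upper_type {s : S2} (h10 : (s : M2) 1 0 = 0) (he : (s : M2) 0 0 = (s : M2) 1 1)
    (h01 : (s : M2) 0 1 ≠ 0) :
    NonScalar (s : M2) ∧ (s : M2) 0 0 * (s : M2) 0 0 = 1 ∧
      (s : M2).trace = (s : M2) 0 0 + (s : M2) 0 0 := by
  obtain ⟨hn, ht, hd⟩ := upper_data h10 he h01
  exact ⟨hn, hd.symm.trans s.2, ht⟩

omit [DecidableEq F] in
theorem ell_type (E : Type*) [Field E] [Algebra F E] [IsQuad F E] [Fintype E] {s : S2}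
    (h : ∀ (c : F) (v : Fin 2 → F), v ≠ 0 → (s : M2).mulVec v ≠ c • v) :
    ∃ x : E, (∀ a, algebraMap F E a ≠ x) ∧ Algebra.norm F x = 1 ∧
      (s : M2).trace = Algebra.trace F E x := by
  obtain ⟨x, hx, ht, hd⟩ := ell_of_noEig E h
  exact ⟨x, hx, hd.symm.trans s.2, ht⟩

theorem isConj_outer_split (d : Fˣ) {s : S2} {a b : F} (hab : a * b = 1) (hne : a ≠ b)
    (ht : (s : M2).trace = a + b) : IsConj s (outer d s) := by
  refine isConj_of_isConj_gl (isConj_iff.mpr ⟨dgl d, (ι_outer d s).symm⟩) (Or.inl fun h => hne ?_)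
  rw [ht] at h
  have : (a - b) ^ 2 = 0 := by linear_combination h - 4 * hab
  exact sub_eq_zero.mp (sq_eq_zero_iff.mp this)

theorem isConj_outer_ell (d : Fˣ) {s : S2} {x : E} (hx : ∀ a, algebraMap F E a ≠ x)
    (hn : Algebra.norm F x = 1) (ht : (s : M2).trace = Algebra.trace F E x) :
    IsConj s (outer d s) := by
  refine isConj_of_isConj_gl (isConj_iff.mpr ⟨dgl d, (ι_outer d s).symm⟩) ?_
  by_cases h2 : (2 : F) = 0
  · exact Or.inr h2
  refine Or.inl fun h => ?_
  have hr := roots_eq_empty_of_mem hx ht.symm hn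
  have : (s : M2).trace / 2 ∈ roots (s : M2).trace 1 := by
    simp only [roots, mem_filter, mem_univ, true_and]
    field_simp
    linear_combination h
  rw [hr] at this
  exact Finset.notMem_empty _ this

theorem St0_values (s : S2) :
    (∀ a b : F, a * b = 1 → a ≠ b → (s : M2).trace = a + b → St0 s = 1) ∧
    (∀ a : F, NonScalar (s : M2) → a * a = 1 → (s : M2).trace = a + a → St0 s = 0) := by
  classical
  refine ⟨fun a b hab hne ht => ?_, fun a hs ha ht => ?_⟩
  · rw [St0_apply, P_split 1 hab hne ht, one_apply_ne (left_ne_zero_of_mul_eq_one hab),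
      one_apply_ne (right_ne_zero_of_mul_eq_one hab)]
    norm_num
  · rw [St0_apply, P_double 1 hs ha ht, one_apply_ne (left_ne_zero_of_mul_eq_one ha), sub_self]

theorem St0_ell {s : S2} {x : E} (hx : ∀ a, algebraMap F E a ≠ x)
    (hn : Algebra.norm F x = 1) (ht : (s : M2).trace = Algebra.trace F E x) : St0 s = -1 := by
  rw [St0_apply, P_ell 1 hx hn ht, zero_sub]

end Types

section Even

theorem even_char (heven : ¬ Odd (Fintype.card F)) {α : MulChar F ℂ} (h : α ^ 2 = 1) : α = 1 := by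
  obtain ⟨e⟩ := MulChar.mulEquiv_units F ℂ
  have h1 : (e α) ^ 2 = 1 := by rw [← map_pow, h, map_one]
  have hF : ringChar F = 2 := by
    by_contra hc
    exact heven (Nat.odd_iff.mpr (FiniteField.odd_card_of_char_ne_two hc))
  have := ringChar.Nat.cast_ringChar (R := F)
  rw [hF] at this
  have h2 : ((e α : F) - 1) ^ 2 = 0 := by
    have h1' := congrArg (Units.val : Fˣ → F) h1
    rw [Units.val_pow_eq_pow_val, Units.val_one] at h1'
    push_cast at this
    linear_combination h1' - ((e α : F) - 1) * this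
  exact e.map_eq_one_iff.mp (Units.ext (sub_eq_zero.mp (sq_eq_zero_iff.mp h2)))

theorem even_trivC (heven : ¬ Odd (Fintype.card F)) {ν : MulChar E ℂ} (h : TrivC F (ν ^ 2)) :
    TrivC F ν := by
  intro x hx
  obtain ⟨k, hk⟩ := Nat.not_odd_iff_even.mp heven
  set y := x ^ (k + 1)
  have hy : Algebra.norm F y = 1 := by rw [map_pow, hx, one_pow]
  have hxq : x ^ (Fintype.card F + 1) = 1 := by
    rw [pow_succ', ← algebraMap_N (F := F), hx, map_one]
  have hy2 : y ^ 2 = x := by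
    rw [← pow_mul, show (k + 1) * 2 = (Fintype.card F + 1) + 1 by omega, pow_succ, hxq, one_mul]
  rw [← hy2, map_pow, ← MulChar.pow_apply' _ two_ne_zero]
  exact h y hy

theorem irr_cases_even (E : Type*) [Field E] [Algebra F E] [IsQuad F E] [Fintype E]
    (heven : ¬ Odd (Fintype.card F)) {χ : S2 → ℂ} (hχ : Cfsg.IsIrrCharacter S2 χ) :
    χ = (fun _ => 1) ∨ χ = St0 ∨ (∃ α : MulChar F ℂ, α ^ 2 ≠ 1 ∧ χ = P α) ∨
      ∃ μ : MulChar E ℂ, ¬ TrivC F (μ ^ 2) ∧ χ = C μ := by
  rcases irr_cases_sl E hχ with h | h | h | h | ⟨α, ha, hb, -⟩ | ⟨μ, ha, hb, -⟩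
  · exact Or.inl h
  · exact Or.inr (Or.inl h)
  · exact Or.inr (Or.inr (Or.inl h))
  · exact Or.inr (Or.inr (Or.inr h))
  · exact absurd (even_char heven hb) ha
  · exact absurd (even_trivC heven hb) ha

end Even

section Odd

/-- All the data attached to an odd field. -/
structure OddData (E : Type*) [Field E] [Algebra F E] [IsQuad F E] [Fintype E] where
  ε : Fˣ
  hε : ¬ IsSquare (ε : F)
  ν : MulChar E ℂ
  hν : ¬ TrivC F ν
  hν2 : TrivC F (ν ^ 2)
  p₁ : Matrix.SpecialLinearGroup (Fin 2) F → ℂ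
  p₂ : Matrix.SpecialLinearGroup (Fin 2) F → ℂ
  c₁ : Matrix.SpecialLinearGroup (Fin 2) F → ℂ
  c₂ : Matrix.SpecialLinearGroup (Fin 2) F → ℂ
  hP : Halves ε (P (sgnC F)) p₁ p₂
  hC : Halves ε (C (F := F) ν) c₁ c₂

theorem exists_oddData (E : Type*) [Field E] [Algebra F E] [IsQuad F E] [Fintype E]
    (hodd : Odd (Fintype.card F)) : Nonempty (OddData (F := F) E) := by
  obtain ⟨ε, hε⟩ := nonsquare_exists hodd
  obtain ⟨ν, hν, hν2⟩ := exists_nu0 (E := E) hodd
  obtain ⟨p₁, p₂, hP⟩ := exists_halves_P E hodd ε hε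
  obtain ⟨c₁, c₂, hC⟩ := exists_halves_C hodd ε hε hν hν2
  exact ⟨⟨ε, hε, ν, hν, hν2, p₁, p₂, c₁, c₂, hP, hC⟩⟩

omit [DecidableEq F] in
theorem half_cast (hodd : Odd (Fintype.card F)) :
    (((Fintype.card F + 1) / 2 : ℕ) : ℂ) = (q + 1) / 2 ∧
      (((Fintype.card F - 1) / 2 : ℕ) : ℂ) = (q - 1) / 2 := by
  obtain ⟨k, hk⟩ := hodd
  rw [hk, show (2 * k + 1 + 1) / 2 = k + 1 by omega, show (2 * k + 1 - 1) / 2 = k by omega]
  push_cast
  constructor <;> ring

theorem OddData.degrees (D : OddData (F := F) E) (hodd : Odd (Fintype.card F)) :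
    D.p₁ 1 = (((Fintype.card F + 1) / 2 : ℕ) : ℂ) ∧
    D.p₂ 1 = (((Fintype.card F + 1) / 2 : ℕ) : ℂ) ∧
    D.c₁ 1 = (((Fintype.card F - 1) / 2 : ℕ) : ℂ) ∧
    D.c₂ 1 = (((Fintype.card F - 1) / 2 : ℕ) : ℂ) := by
  rw [(half_cast hodd).1, (half_cast hodd).2, D.hP.deg.1, D.hP.deg.2, D.hC.deg.1, D.hC.deg.2,
    P_one, C_one]
  exact ⟨rfl, rfl, rfl, rfl⟩

theorem OddData.cases (D : OddData (F := F) E) (hodd : Odd (Fintype.card F)) {χ : S2 → ℂ}
    (hχ : Cfsg.IsIrrCharacter S2 χ) :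
    χ = (fun _ => 1) ∨ χ = St0 ∨ (∃ α : MulChar F ℂ, α ^ 2 ≠ 1 ∧ χ = P α) ∨
      (∃ μ : MulChar E ℂ, ¬ TrivC F (μ ^ 2) ∧ χ = C μ) ∨
      χ = D.p₁ ∨ χ = D.p₂ ∨ χ = D.c₁ ∨ χ = D.c₂ :=
  irr_cases_odd hodd D.ε D.hν D.hν2 D.hP D.hC hχ

end Odd

section Degree

theorem irr_deg_q {χ : S2 → ℂ} (hχ : Cfsg.IsIrrCharacter S2 χ) (hd : χ 1 = q) : χ = St0 := by
  obtain ⟨E', _, _, _, _⟩ := exists_quad F
  have h2 : (2 : ℝ) ≤ Fintype.card F := by exact_mod_cast Fintype.one_lt_card
  by_cases hodd : Odd (Fintype.card F)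
  · obtain ⟨D⟩ := exists_oddData E' hodd
    have hdeg := D.degrees hodd
    rw [(half_cast hodd).1, (half_cast hodd).2] at hdeg
    rcases D.cases hodd hχ with h | h | ⟨α, -, h⟩ | ⟨μ, -, h⟩ | h | h | h | h
    rotate_left
    · exact h
    all_goals
      exfalso
      subst h
      simp only [P_one, C_one, hdeg.1, hdeg.2.1, hdeg.2.2.1, hdeg.2.2.2] at hd
      replace hd := congrArg Complex.re hd
      simp at hd <;> linarith
  · rcases irr_cases_even E' hodd hχ with h | h | ⟨α, -, h⟩ | ⟨μ, -, h⟩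
    rotate_left
    · exact h
    all_goals
      exfalso
      subst h
      simp only [P_one, C_one] at hd
      replace hd := congrArg Complex.re hd
      simp at hd <;> linarith

theorem irr_deg_q_add_one {χ : S2 → ℂ} (hχ : Cfsg.IsIrrCharacter S2 χ) (hd : χ 1 = q + 1) :
    ∃ α : MulChar F ℂ, α ^ 2 ≠ 1 ∧ χ = P α := by
  obtain ⟨E', _, _, _, _⟩ := exists_quad F
  have h2 : (2 : ℝ) ≤ Fintype.card F := by exact_mod_cast Fintype.one_lt_card
  by_cases hodd : Odd (Fintype.card F)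
  · obtain ⟨D⟩ := exists_oddData E' hodd
    have hdeg := D.degrees hodd
    rw [(half_cast hodd).1, (half_cast hodd).2] at hdeg
    rcases D.cases hodd hχ with h | h | h | ⟨μ, -, h⟩ | h | h | h | h
    rotate_left 2
    · exact h
    all_goals
      exfalso
      subst h
      simp only [St0_one, C_one, hdeg.1, hdeg.2.1, hdeg.2.2.1, hdeg.2.2.2] at hd
      replace hd := congrArg Complex.re hd
      simp at hd <;> linarith
  · rcases irr_cases_even E' hodd hχ with h | h | h | ⟨μ, -, h⟩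
    rotate_left 2
    · exact h
    all_goals
      exfalso
      subst h
      simp only [St0_one, C_one] at hd
      replace hd := congrArg Complex.re hd
      simp at hd <;> linarith

theorem irr_deg_q_sub_one (E : Type*) [Field E] [Algebra F E] [IsQuad F E] [Fintype E]
    (hq : 4 ≤ Fintype.card F) {χ : S2 → ℂ} (hχ : Cfsg.IsIrrCharacter S2 χ)
    (hd : χ 1 = q - 1) : ∃ μ : MulChar E ℂ, ¬ TrivC F (μ ^ 2) ∧ χ = C μ := by
  have h4 : (4 : ℝ) ≤ Fintype.card F := by exact_mod_cast hq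
  by_cases hodd : Odd (Fintype.card F)
  · obtain ⟨D⟩ := exists_oddData E hodd
    have hdeg := D.degrees hodd
    rw [(half_cast hodd).1, (half_cast hodd).2] at hdeg
    rcases D.cases hodd hχ with h | h | ⟨α, -, h⟩ | h | h | h | h | h
    rotate_left 3
    · exact h
    all_goals
      exfalso
      subst h
      simp only [St0_one, P_one, hdeg.1, hdeg.2.1, hdeg.2.2.1, hdeg.2.2.2] at hd
      replace hd := congrArg Complex.re hd
      simp at hd <;> linarith
  · rcases irr_cases_even E hodd hχ with h | h | ⟨α, -, h⟩ | h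
    rotate_left 3
    · exact h
    all_goals
      exfalso
      subst h
      simp only [St0_one, P_one] at hd
      replace hd := congrArg Complex.re hd
      simp at hd <;> linarith

theorem OddData.deg_half_plus (D : OddData (F := F) E) (hodd : Odd (Fintype.card F))
    (hq : 5 ≤ Fintype.card F) {χ : S2 → ℂ} (hχ : Cfsg.IsIrrCharacter S2 χ)
    (hd : χ 1 = (((Fintype.card F + 1) / 2 : ℕ) : ℂ)) : χ = D.p₁ ∨ χ = D.p₂ := by
  have h5 : (5 : ℝ) ≤ Fintype.card F := by exact_mod_cast hq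
  have hdeg := D.degrees hodd
  rw [(half_cast hodd).1] at hd hdeg
  rw [(half_cast hodd).2] at hdeg
  rcases D.cases hodd hχ with h | h | ⟨α, -, h⟩ | ⟨μ, -, h⟩ | h | h | h | h
  rotate_left 4
  · exact Or.inl h
  · exact Or.inr h
  all_goals
    exfalso
    subst h
    simp only [St0_one, P_one, C_one, hdeg.2.2.1, hdeg.2.2.2] at hd
    replace hd := congrArg Complex.re hd
    simp at hd <;> linarith

theorem OddData.deg_half_minus (D : OddData (F := F) E) (hodd : Odd (Fintype.card F))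
    (hq : 5 ≤ Fintype.card F) {χ : S2 → ℂ} (hχ : Cfsg.IsIrrCharacter S2 χ)
    (hd : χ 1 = (((Fintype.card F - 1) / 2 : ℕ) : ℂ)) : χ = D.c₁ ∨ χ = D.c₂ := by
  have h5 : (5 : ℝ) ≤ Fintype.card F := by exact_mod_cast hq
  have hdeg := D.degrees hodd
  rw [(half_cast hodd).2] at hd hdeg
  rw [(half_cast hodd).1] at hdeg
  rcases D.cases hodd hχ with h | h | ⟨α, -, h⟩ | ⟨μ, -, h⟩ | h | h | h | h
  rotate_left 6
  · exact Or.inl h
  · exact Or.inr h
  all_goals
    exfalso
    subst h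
    simp only [St0_one, P_one, C_one, hdeg.1, hdeg.2.1] at hd
    replace hd := congrArg Complex.re hd
    simp at hd <;> linarith

end Degree

end CfsgLib.KnownB.SL2
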