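import Cfsg.Agent.Lib.KnownB.SL2Norm
import Cfsg.Agent.Lib.KnownB.SL2Deg

/-!
# Elements of `PSL₂(F)`: orders and products of two conjugacy classes
-/

set_option autoImplicit false

namespace CfsgLib.KnownB.SL2

open Matrix CfsgLib.KnownB.GL2
open scoped MatrixGroups

variable {F : Type*} [Field F]

local notation "G2" => GL (Fin 2) F
local notation "S2" => Matrix.SpecialLinearGroup (Fin 2) F
local notation "M2" => Matrix (Fin 2) (Fin 2) F
local notation "PS" => Matrix.ProjectiveSpecialLinearGroup (Fin 2) F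
local notation "π" => QuotientGroup.mk' (Subgroup.center (Matrix.SpecialLinearGroup (Fin 2) F))

theorem exists_lift (g : PS) : ∃ s : S2, π s = g := QuotientGroup.mk'_surjective _ g

theorem mk_eq_one_iff {s : S2} : π s = 1 ↔ ∃ a : F, (s : M2) = a • 1 := by
  rw [QuotientGroup.mk'_apply, QuotientGroup.eq_one_iff, Matrix.SpecialLinearGroup.mem_center_iff]
  constructor
  · rintro ⟨r, -, hr⟩
    exact ⟨r, by rw [← hr, Matrix.scalar_apply, ← Matrix.smul_one_eq_diagonal]⟩
  · rintro ⟨a, ha⟩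
    refine ⟨a, ?_, by rw [ha, Matrix.scalar_apply, ← Matrix.smul_one_eq_diagonal]⟩
    have := s.2
    rw [ha] at this
    simpa using this

theorem nonScalar_of_mk_ne {s : S2} (h : π s ≠ 1) : NonScalar (s : M2) :=
  fun a ha => h (mk_eq_one_iff.mpr ⟨a, ha⟩)

/-- The element `-s`. -/
def negSL (s : S2) : S2 := ⟨-(s : M2), by rw [det_neg, Fintype.card_fin]; simp⟩

theorem coe_negSL (s : S2) : ((negSL s : S2) : M2) = -(s : M2) := rfl

theorem mk_negSL (s : S2) : π (negSL s) = π s := by
  have h : negSL s = negSL (1 : S2) * s := Subtype.ext (by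
    rw [Matrix.SpecialLinearGroup.coe_mul, coe_negSL, coe_negSL,
      Matrix.SpecialLinearGroup.coe_one, neg_one_mul])
  have hn : π (negSL (1 : S2)) = 1 := mk_eq_one_iff.mpr ⟨-1, by
    rw [coe_negSL, Matrix.SpecialLinearGroup.coe_one, neg_smul, one_smul]⟩
  rw [h, map_mul, hn, one_mul]

theorem mk_eq_mk_iff {s t : S2} : π s = π t ↔ s = t ∨ s = negSL t := by
  constructor
  · intro h
    have h1 : π (s * t⁻¹) = 1 := by rw [map_mul, map_inv, h, mul_inv_cancel]
    obtain ⟨a, ha⟩ := mk_eq_one_iff.mp h1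
    have hd := (s * t⁻¹).2
    rw [ha] at hd
    simp at hd
    have hs : (s : M2) = a • (t : M2) := by
      calc (s : M2) = ((s * t⁻¹ : S2) : M2) * (t : M2) := by
            rw [← Matrix.SpecialLinearGroup.coe_mul, inv_mul_cancel_right]
        _ = _ := by rw [ha, smul_mul_assoc, one_mul]
    rcases hd with rfl | rfl
    · exact Or.inl (Subtype.ext (by rw [hs, one_smul]))
    · exact Or.inr (Subtype.ext (by rw [hs, coe_negSL, neg_smul, one_smul]))
  · rintro (rfl | rfl)
    · rfl
    · exact mk_negSL t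

theorem trace_sl_conj (u s : S2) : ((u * s * u⁻¹ : S2) : M2).trace = (s : M2).trace := by
  rw [Matrix.SpecialLinearGroup.coe_mul, trace_mul_comm, ← Matrix.SpecialLinearGroup.coe_mul,
    inv_mul_cancel_left]

/-- A conjugate of a nonscalar element has nonzero lower left entry. -/
theorem exists_conj_ne_zero {s : S2} (hs : NonScalar (s : M2)) :
    ∃ u : S2, ((u * s * u⁻¹ : S2) : M2) 1 0 ≠ 0 := by
  by_cases h10 : (s : M2) 1 0 = 0
  · by_cases h01 : (s : M2) 0 1 = 0
    · have h3 : (s : M2) 0 0 ≠ (s : M2) 1 1 := by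
        have := (nonScalar_iff _).mp hs
        tauto
      obtain ⟨u, hu⟩ : ∃ u : S2, (u : M2) = !![1, 0; 1, 1] :=
        ⟨⟨_, by simp [det_fin_two_of]⟩, rfl⟩
      refine ⟨u, fun h => h3 ?_⟩
      simp only [Matrix.SpecialLinearGroup.coe_mul, coe_inv_entries, hu] at h
      simp [Matrix.mul_apply, Fin.sum_univ_two, Matrix.vecMul, dotProduct, h10, h01] at h
      linear_combination h
    · obtain ⟨u, hu⟩ : ∃ u : S2, (u : M2) = !![0, 1; -1, 0] :=
        ⟨⟨_, by simp [det_fin_two_of]⟩, rfl⟩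
      refine ⟨u, fun h => h01 ?_⟩
      simp only [Matrix.SpecialLinearGroup.coe_mul, coe_inv_entries, hu] at h
      simpa [Matrix.mul_apply, Fin.sum_univ_two, Matrix.vecMul, dotProduct, h10] using h
  · exact ⟨1, by simpa using h10⟩

open Polynomial in
/-- The class products of two non-identity elements of `PSL₂` are not a single class. -/
theorem class_product_not_class [Fintype F] (h4 : 4 ≤ Fintype.card F) (a b : PS) (ha : a ≠ 1)
    (hb : b ≠ 1) (c : PS) :
    {g : PS | ∃ u v : PS, g = (u * a * u⁻¹) * (v * b * v⁻¹)} ≠ {g | IsConj c g} := by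
  classical
  intro heq
  obtain ⟨C, rfl⟩ := exists_lift c
  obtain ⟨A₀, rfl⟩ := exists_lift a
  obtain ⟨B₀, rfl⟩ := exists_lift b
  obtain ⟨u, hu⟩ := exists_conj_ne_zero (nonScalar_of_mk_ne ha)
  obtain ⟨v, hv⟩ := exists_conj_ne_zero (nonScalar_of_mk_ne hb)
  set A := u * A₀ * u⁻¹
  set B := v * B₀ * v⁻¹
  let U : F → S2 := fun x => ⟨!![1, x; 0, 1], by simp [det_fin_two_of]⟩
  have hkey : ∀ x : F, ((A * (U x * B * (U x)⁻¹) : S2) : M2).trace = (C : M2).trace ∨
      ((A * (U x * B * (U x)⁻¹) : S2) : M2).trace = -(C : M2).trace := by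
    intro x
    have hmem : π (A * (U x * B * (U x)⁻¹)) ∈
        {g : PS | ∃ u v : PS, g = (u * π A₀ * u⁻¹) * (v * π B₀ * v⁻¹)} :=
      ⟨π u, π (U x * v), by simp only [A, B, map_mul, map_inv]; group⟩
    rw [heq] at hmem
    obtain ⟨w, hw⟩ := isConj_iff.mp hmem
    obtain ⟨W, rfl⟩ := exists_lift w
    rw [← map_inv, ← map_mul, ← map_mul, mk_eq_mk_iff] at hw
    rcases hw with h | h
    · left; rw [← h, trace_sl_conj]
    · right
      have := congrArg (fun s : S2 => (s : M2).trace) h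
      simp only [trace_sl_conj, coe_negSL, trace_neg] at this
      linear_combination this
  set k₀ : F := ((A * B : S2) : M2).trace
  set k₁ : F := ((A : M2) 0 0 - (A : M2) 1 1) * (B : M2) 1 0 +
    (A : M2) 1 0 * ((B : M2) 1 1 - (B : M2) 0 0)
  set k₂ : F := -((A : M2) 1 0 * (B : M2) 1 0)
  have hk2 : k₂ ≠ 0 := neg_ne_zero.mpr (mul_ne_zero hu hv)
  have hpoly : ∀ x : F, ((A * (U x * B * (U x)⁻¹) : S2) : M2).trace =
      k₂ * x ^ 2 + k₁ * x + k₀ := by
    intro x
    simp only [k₀, k₁, k₂, Matrix.SpecialLinearGroup.coe_mul, coe_inv_entries, trace_fin_two]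
    simp [U, Matrix.mul_apply, Fin.sum_univ_two, Matrix.vecMul, dotProduct]
    ring
  let sol : F → Finset F := fun t => Finset.univ.filter fun x => k₂ * x ^ 2 + k₁ * x + k₀ = t
  have hsol : ∀ t, (sol t).card ≤ 2 := by
    intro t
    by_contra hc
    obtain ⟨x, y, z, hx, hy, hz, hxy, hxz, hyz⟩ := Finset.two_lt_card_iff.mp (not_le.mp hc)
    simp only [sol, Finset.mem_filter, Finset.mem_univ, true_and] at hx hy hz
    have e1 : k₂ * (x + y) + k₁ = 0 :=
      (mul_eq_zero.mp (show (x - y) * (k₂ * (x + y) + k₁) = 0 by linear_combination hx - hy)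
        ).resolve_left (sub_ne_zero.mpr hxy)
    have e2 : k₂ * (x + z) + k₁ = 0 :=
      (mul_eq_zero.mp (show (x - z) * (k₂ * (x + z) + k₁) = 0 by linear_combination hx - hz)
        ).resolve_left (sub_ne_zero.mpr hxz)
    exact hyz (mul_left_cancel₀ hk2 (by linear_combination e1 - e2))
  have hall : (Finset.univ : Finset F) ⊆ sol (C : M2).trace ∪ sol (-(C : M2).trace) := by
    intro x _
    rcases hkey x with h | h <;> rw [hpoly] at h <;> simp [sol, h]
  by_cases hodd : Odd (Fintype.card F)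
  · have := (Finset.card_le_card hall).trans (Finset.card_union_le _ _)
    rw [Finset.card_univ] at this
    have h1 := hsol (C : M2).trace
    have h2 := hsol (-(C : M2).trace)
    rw [Nat.odd_iff] at hodd
    omega
  · have hneg : -(C : M2).trace = (C : M2).trace := by
      have hr : ringChar F = 2 := by
        by_contra hc
        exact hodd (Nat.odd_iff.mpr (FiniteField.odd_card_of_char_ne_two hc))
      have : CharP F 2 := ringChar.of_eq hr
      exact CharTwo.neg_eq _
    rw [hneg, Finset.union_idempotent] at hall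
    have := Finset.card_le_card hall
    rw [Finset.card_univ] at this
    have h1 := hsol (C : M2).trace
    omega

section Orders

variable [Fintype F]

omit [Fintype F] in
theorem orderOf_mk_dvd {s : S2} {k : ℕ} (h : ∃ a : F, ((s ^ k : S2) : M2) = a • 1) :
    orderOf (π s) ∣ k :=
  orderOf_dvd_of_pow_eq_one (by rw [← map_pow]; exact mk_eq_one_iff.mpr h)

theorem orderOf_dvd_p (p : ℕ) [Fact p.Prime] [CharP F p] {s : S2} {a : F} (ha : a * a = 1)
    (ht : (s : M2).trace = a + a) : orderOf (π s) ∣ p := by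
  refine orderOf_mk_dvd ⟨a ^ p, ?_⟩
  have hN : ((s : M2) - a • 1) ^ 2 = 0 := by
    have hd' := det_entries s
    rw [trace_fin_two] at ht
    rw [sq]
    ext i j
    fin_cases i <;> fin_cases j <;> simp [Matrix.mul_apply, Fin.sum_univ_two]
    · linear_combination (s : M2) 0 0 * ht - hd' + ha
    · linear_combination (s : M2) 0 1 * ht
    · linear_combination (s : M2) 1 0 * ht
    · linear_combination (s : M2) 1 1 * ht - hd' + ha
  have hp : 2 ≤ p := (Fact.out : p.Prime).two_le
  have hNp : ((s : M2) - a • 1) ^ p = 0 := pow_eq_zero_of_le hp hN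
  have hcomm : Commute ((s : M2) - a • 1) (a • 1) := (Commute.one_right _).smul_right a
  rw [Matrix.SpecialLinearGroup.coe_pow, ← sub_add_cancel (s : M2) (a • 1),
    add_pow_char_of_commute p hcomm,
    hNp, zero_add, _root_.smul_pow, one_pow]

theorem orderOf_dvd_ell {E : Type*} [Field E] [Algebra F E] [IsQuad F E] [Fintype E] {s : S2}
    {x : E} (hx : ∀ a, algebraMap F E a ≠ x) (hn : Algebra.norm F x = 1)
    (ht : (s : M2).trace = Algebra.trace F E x) :
    orderOf (π s) ∣ (Fintype.card F + 1) / Nat.gcd 2 (Fintype.card F - 1) := by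
  classical
  have hq1 : 1 < Fintype.card F := Fintype.one_lt_card
  set d := Nat.gcd 2 (Fintype.card F - 1) with hd
  have hd12 : d = 1 ∨ d = 2 := (Nat.dvd_prime Nat.prime_two).mp (Nat.gcd_dvd_left _ _)
  have hdm : d ∣ Fintype.card F - 1 := Nat.gcd_dvd_right _ _
  have hdp : d ∣ Fintype.card F + 1 := by
    have := Nat.dvd_add hdm (Nat.gcd_dvd_left 2 (Fintype.card F - 1))
    rwa [show Fintype.card F - 1 + 2 = Fintype.card F + 1 by omega] at this
  have hrootE : ∀ (y : E) (m : ℕ), d ∣ m → y ^ m = 1 →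
      y ^ (m / d) = 1 ∨ y ^ (m / d) = -1 := by
    intro y m hm hy
    have h : (y ^ (m / d)) ^ d = 1 := by rw [← pow_mul, Nat.div_mul_cancel hm, hy]
    rcases hd12 with h' | h' <;> rw [h'] at h
    · rw [pow_one] at h; rw [h']; exact Or.inl h
    · rw [h']; exact sq_eq_one_iff.mp h
  let u : Eˣ := Units.mk0 x (ne_zero_of_norm_one hn)
  have hc : IsConj (ι s) (emb F E u) := by
    refine isConj_of_trace_det (centralizer_ell hx ht ((det_ι _).trans hn.symm)).1
      ((nonScalar_emb_iff _).mpr hx) ?_ ?_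
    · rw [trace_emb]; exact ht
    · rw [det_emb, Units.val_mk0, hn]; exact det_ι _
  obtain ⟨y, hy⟩ := isConj_iff.mp hc.symm
  have hpow : x ^ (Fintype.card F + 1) = 1 := by
    rw [pow_succ', ← algebraMap_N]
    show algebraMap F E (Algebra.norm F x) = 1
    rw [hn, map_one]
  set m := (Fintype.card F + 1) / d
  obtain ⟨e, he⟩ : ∃ e : F, algebraMap F E e = ((u ^ m : Eˣ) : E) := by
    rw [Units.val_pow_eq_pow_val, Units.val_mk0]
    rcases hrootE x _ hdp hpow with h | h
    · exact ⟨1, by rw [map_one, h]⟩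
    · exact ⟨-1, by rw [map_neg, map_one, h]⟩
  refine orderOf_mk_dvd ⟨e, ?_⟩
  have hDm := (emb_eq_scalar_iff (F := F) (E := E) (u ^ m) e).mpr he
  rw [map_pow] at hDm
  rw [← coe_ι, map_pow, ← hy, conj_pow, scalar_conj hDm, hDm]

/-- The order of an element of `PSL₂(q)` divides `p` or `(q ± 1)/d`. -/
theorem orderOf_psl_cases (p : ℕ) [Fact p.Prime] [CharP F p] (g : PS) :
    orderOf g ∣ p ∨ orderOf g ∣ (Fintype.card F - 1) / Nat.gcd 2 (Fintype.card F - 1) ∨
      orderOf g ∣ (Fintype.card F + 1) / Nat.gcd 2 (Fintype.card F - 1) := by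
  classical
  obtain ⟨E, _, _, _, _⟩ := exists_quad F
  obtain ⟨s, rfl⟩ := exists_lift g
  have hq1 : 1 < Fintype.card F := Fintype.one_lt_card
  set d := Nat.gcd 2 (Fintype.card F - 1) with hd
  have hd12 : d = 1 ∨ d = 2 := (Nat.dvd_prime Nat.prime_two).mp (Nat.gcd_dvd_left _ _)
  have hdm : d ∣ Fintype.card F - 1 := Nat.gcd_dvd_right _ _
  have hdp : d ∣ Fintype.card F + 1 := by
    have := Nat.dvd_add hdm (Nat.gcd_dvd_left 2 (Fintype.card F - 1))
    rwa [show Fintype.card F - 1 + 2 = Fintype.card F + 1 by omega] at this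
  have hrootF : ∀ (y : F) (m : ℕ), d ∣ m → y ^ m = 1 →
      y ^ (m / d) = 1 ∨ y ^ (m / d) = -1 := by
    intro y m hm hy
    have h : (y ^ (m / d)) ^ d = 1 := by rw [← pow_mul, Nat.div_mul_cancel hm, hy]
    rcases hd12 with h' | h' <;> rw [h'] at h
    · rw [pow_one] at h; rw [h']; exact Or.inl h
    · rw [h']; exact sq_eq_one_iff.mp h
  rcases sl_cases E s with ⟨a, -, hs⟩ | ⟨hs, a, ha, ht⟩ | ⟨a, b, hab, hne, ht⟩ |
    ⟨x, hx, hn, ht⟩
  · left
    rw [show π s = 1 from mk_eq_one_iff.mpr ⟨a, hs⟩, orderOf_one]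
    exact one_dvd p
  · exact Or.inl (orderOf_dvd_p p ha ht)
  · right; left
    have hna : a ≠ 0 := left_ne_zero_of_mul_eq_one hab
    have hb : b = a⁻¹ := (inv_eq_of_mul_eq_one_right hab).symm
    let D : G2 := Matrix.GeneralLinearGroup.mkOfDetNeZero !![a, 0; 0, b] (by
      rw [det_fin_two_of]; simp [hab])
    have hc : IsConj (ι s) D := by
      refine isConj_of_trace_det (centralizer_split hne ht (by rw [det_ι, hab])).1
        ((nonScalar_iff _).mpr (Or.inr (Or.inr (by simpa [D] using hne)))) ?_ ?_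
      · rw [coe_ι, ht]; simp [D, trace_fin_two]
      · rw [det_ι, ← hab]; simp [D, det_fin_two]
    obtain ⟨y, hy⟩ := isConj_iff.mp hc.symm
    set m := (Fintype.card F - 1) / d
    obtain ⟨e, he, heb⟩ : ∃ e : F, a ^ m = e ∧ b ^ m = e := by
      rcases hrootF a _ hdm (FiniteField.pow_card_sub_one_eq_one a hna) with h | h
      · exact ⟨1, h, by rw [hb, inv_pow, h, inv_one]⟩
      · exact ⟨-1, h, by rw [hb, inv_pow, h, inv_neg, inv_one]⟩
    refine orderOf_mk_dvd ⟨e, ?_⟩
    have hDm : ((D ^ m : G2) : M2) = e • 1 := by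
      rw [Units.val_pow_eq_pow_val]
      show (!![a, 0; 0, b] : M2) ^ m = e • 1
      rw [show (!![a, 0; 0, b] : M2) = Matrix.diagonal ![a, b] by
        ext i j; fin_cases i <;> fin_cases j <;> simp, Matrix.diagonal_pow]
      ext i j
      fin_cases i <;> fin_cases j <;> simp [he, heb]
    rw [← coe_ι, map_pow, ← hy, conj_pow, scalar_conj hDm, hDm]
  · exact Or.inr (Or.inr (orderOf_dvd_ell hx hn ht))

/-- Every divisor of `p` and of `(q ± 1)/d` is an element order. -/
theorem exists_orderOf_psl (p : ℕ) [Fact p.Prime] [CharP F p] {m : ℕ}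
    (h : m ∣ p ∨ m ∣ (Fintype.card F - 1) / Nat.gcd 2 (Fintype.card F - 1) ∨
      m ∣ (Fintype.card F + 1) / Nat.gcd 2 (Fintype.card F - 1)) :
    ∃ g : PS, orderOf g = m := by
  classical
  have hq1 : 1 < Fintype.card F := Fintype.one_lt_card
  set d := Nat.gcd 2 (Fintype.card F - 1) with hd
  have hd12 : d = 1 ∨ d = 2 := (Nat.dvd_prime Nat.prime_two).mp (Nat.gcd_dvd_left _ _)
  have hdm : d ∣ Fintype.card F - 1 := Nat.gcd_dvd_right _ _
  have hdp : d ∣ Fintype.card F + 1 := by
    have := Nat.dvd_add hdm (Nat.gcd_dvd_left 2 (Fintype.card F - 1))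
    rwa [show Fintype.card F - 1 + 2 = Fintype.card F + 1 by omega] at this
  suffices h' : ∃ (g : PS) (N : ℕ), orderOf g = N ∧ 0 < N ∧ m ∣ N by
    obtain ⟨g, N, hg, hN, hm⟩ := h'
    exact ⟨g ^ (orderOf g / m), orderOf_pow_orderOf_div (by omega) (hg ▸ hm)⟩
  have key : ∀ (C : Subgroup S2) (n : ℕ), IsCyclic C → Nat.card C = n → d ∣ n → 0 < n →
      ∃ g : PS, n / d ∣ orderOf g := by
    intro C n hC hn hdn hn0
    obtain ⟨⟨s, hs⟩, hgen⟩ := IsCyclic.exists_generator (α := C)
    have hos : orderOf s = n := by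
      rw [← hn, ← orderOf_eq_card_of_forall_mem_zpowers hgen, Subgroup.orderOf_mk]
    refine ⟨π s, ?_⟩
    have h1 : π (s ^ orderOf (π s)) = 1 := by rw [map_pow, pow_orderOf_eq_one]
    obtain ⟨a, ha⟩ := mk_eq_one_iff.mp h1
    have hsq : a ^ 2 = 1 := by
      have hdet := (s ^ orderOf (π s)).2
      rw [ha] at hdet
      simpa using hdet
    have had : a ^ d = 1 := by
      rcases hd12 with h' | h'
      · have : ¬ Odd (Fintype.card F) := fun hodd => by
          have h2 : 2 ∣ d := Nat.dvd_gcd dvd_rfl (by rw [Nat.odd_iff] at hodd; omega)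
          omega
        have hr : ringChar F = 2 := by
          by_contra hc
          exact this (Nat.odd_iff.mpr (FiniteField.odd_card_of_char_ne_two hc))
        have : CharP F 2 := ringChar.of_eq hr
        rw [h', pow_one]
        rcases sq_eq_one_iff.mp hsq with h | h
        · exact h
        · rw [h, CharTwo.neg_eq]
      · rw [h']; exact hsq
    have hdiv : n ∣ orderOf (π s) * d := by
      rw [← hos]
      refine orderOf_dvd_of_pow_eq_one (Subtype.ext ?_)
      rw [pow_mul, Matrix.SpecialLinearGroup.coe_pow, ha, _root_.smul_pow, one_pow, had, one_smul,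
        Matrix.SpecialLinearGroup.coe_one]
    exact (Nat.div_dvd_iff_dvd_mul hdn (by omega)).mpr (by rwa [mul_comm] at hdiv)
  obtain ⟨a, b, hab⟩ := Classical.exists_anisotropic_binary (F := F)
  rcases h with h | h | h
  · refine ⟨π (Classical.uElt 1), p, ?_, (Fact.out : p.Prime).pos, h⟩
    refine orderOf_eq_prime ?_ fun h1 => ?_
    · rw [← map_pow]
      refine mk_eq_one_iff.mpr ⟨1, ?_⟩
      rw [one_smul, Matrix.SpecialLinearGroup.coe_pow, Classical.uElt_val]
      have : (!![1, 1; 0, 1] : M2) = 1 + !![0, 1; 0, 0] := by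
        ext i j; fin_cases i <;> fin_cases j <;> simp
      have hN : (!![0, 1; 0, 0] : M2) ^ 2 = 0 := by
        rw [sq]; ext i j; fin_cases i <;> fin_cases j <;> simp [Matrix.mul_apply, Fin.sum_univ_two]
      rw [this, add_pow_char_of_commute p (Commute.one_left _), one_pow,
        pow_eq_zero_of_le (Fact.out : p.Prime).two_le hN, add_zero]
    · obtain ⟨a, ha⟩ := mk_eq_one_iff.mp h1
      have := congrFun (congrFun ha 0) 1
      simp [Classical.uElt_val] at this
  · obtain ⟨g, hg⟩ := key (Classical.splitTorus F).range _ Classical.isCyclic_splitTorus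
      Classical.card_splitTorus hdm (by omega)
    exact ⟨g, _, rfl, orderOf_pos g, h.trans hg⟩
  · obtain ⟨g, hg⟩ := key (Classical.nsTorus a b) _ (Classical.isCyclic_nsTorus hab)
      (Classical.card_nsTorus hab) hdp (by omega)
    exact ⟨g, _, rfl, orderOf_pos g, h.trans hg⟩

end Orders

section Covering

variable [Fintype F]

theorem isConj_mk_of_trace {X A : S2} (hX : (X : M2).trace ^ 2 ≠ 4 ∨ (2 : F) = 0)
    (hXn : NonScalar (X : M2)) (hAn : NonScalar (A : M2))
    (h : (A : M2).trace = (X : M2).trace) : ∃ u : PS, π A = u * π X * u⁻¹ := by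
  classical
  obtain ⟨y, hy⟩ := isConj_iff.mp (isConj_of_isConj_gl
    (GL2.isConj_of_trace_det (g := ι X) (h := ι A) hXn hAn h.symm
      ((det_ι X).trans (det_ι A).symm)) hX)
  exact ⟨π y, by rw [← hy, map_mul, map_mul, map_inv]⟩

/-- If every lift is, up to sign and conjugation, a product of two elements of trace `t`, then every
nonidentity element is a product of two conjugates of `x`. -/
theorem covering {X : S2} (hX : (X : M2).trace ^ 2 ≠ 4 ∨ (2 : F) = 0) (hXn : NonScalar (X : M2))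
    {G : S2} {A B : S2} (hAn : NonScalar (A : M2)) (hBn : NonScalar (B : M2))
    (hA : (A : M2).trace = (X : M2).trace) (hB : (B : M2).trace = (X : M2).trace)
    (hc : IsConj (A * B) G) : ∃ u v : PS, π G = (u * π X * u⁻¹) * (v * π X * v⁻¹) := by
  obtain ⟨u, hu⟩ := isConj_mk_of_trace hX hXn hAn hA
  obtain ⟨v, hv⟩ := isConj_mk_of_trace hX hXn hBn hB
  obtain ⟨y, hy⟩ := isConj_iff.mp hc
  refine ⟨π y * u, π y * v, ?_⟩
  rw [← hy, map_mul, map_mul, map_mul, map_inv, hu, hv]
  group

omit [Fintype F] in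
theorem nonScalar_of_trace {t : F} {A : S2} (ht : t ^ 2 ≠ 4) (hA : (A : M2).trace = t) :
    NonScalar (A : M2) := by
  intro a ha
  have hd := A.2
  rw [ha] at hd
  simp at hd
  apply ht
  rw [← hA, ha]
  rcases hd with rfl | rfl <;> simp <;> norm_num

theorem covering_odd (hodd : Odd (Fintype.card F)) {X : S2} (hX : (X : M2).trace ^ 2 ≠ 4)
    (hX0 : (X : M2).trace ≠ 0) (g : PS) (hg : g ≠ 1) :
    ∃ u v : PS, g = (u * π X * u⁻¹) * (v * π X * v⁻¹) := by
  classical
  have h2 := two_ne hodd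
  set t := (X : M2).trace
  obtain ⟨G, rfl⟩ := exists_lift g
  have hXn := nonScalar_of_trace hX (A := X) rfl
  by_cases hs : (G : M2).trace ^ 2 = 4
  · -- unipotent up to sign
    obtain ⟨G', hG', hG't⟩ : ∃ G' : S2, π G' = π G ∧ (G' : M2).trace = -1 + -1 := by
      rcases sq_eq_sq_iff_eq_or_eq_neg.mp (show (G : M2).trace ^ 2 = (2 : F) ^ 2 by
        rw [hs]; norm_num) with h | h
      · exact ⟨negSL G, mk_negSL G, by rw [coe_negSL, trace_neg, h]; norm_num⟩
      · exact ⟨G, rfl, by rw [h]; norm_num⟩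
    rw [← hG']
    obtain ⟨ha, n, hn, hc⟩ := exists_isConj_utri (nonScalar_of_mk_ne (hG' ▸ hg)) hG't
      (G'.2.trans (by norm_num))
    have hc0 : -2 * t / n ≠ 0 := div_ne_zero (mul_ne_zero (neg_ne_zero.mpr h2) hX0) hn
    obtain ⟨A, hAm⟩ : ∃ A : S2, (A : M2) = !![0, -(n / (-2 * t)); -2 * t / n, t] :=
      ⟨⟨_, by rw [det_fin_two_of]; field_simp; ring⟩, rfl⟩
    have hA : (A : M2).trace = t := by simp [hAm, trace_fin_two]
    have hB : ((A⁻¹ * utri (-1 : F) n ha : S2) : M2).trace = t := by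
      simp only [Matrix.SpecialLinearGroup.coe_mul, coe_inv_entries, hAm, coe_utri]
      simp [trace_fin_two]
      field_simp
      ring
    exact covering (Or.inl hX) hXn (nonScalar_of_trace hX hA) (nonScalar_of_trace hX hB) hA hB
      (by rw [mul_inv_cancel_left]; exact hc.symm)
  · set s := (G : M2).trace
    obtain ⟨a, r, har⟩ := FiniteField.exists_root_sum_quadratic (R := F)
      (f := Polynomial.C (s ^ 2 - 4) * Polynomial.X ^ 2 +
        (Polynomial.C (4 * t - 2 * t * s) * Polynomial.X + Polynomial.C (t ^ 2 - 4)))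
      (g := Polynomial.C (-1) * Polynomial.X ^ 2) (by
        rw [Polynomial.degree_add_eq_left_of_degree_lt (by
          rw [Polynomial.degree_C_mul_X_pow 2 (sub_ne_zero.mpr hs)]
          exact Polynomial.degree_linear_le.trans_lt (by norm_num)),
          Polynomial.degree_C_mul_X_pow 2 (sub_ne_zero.mpr hs)]; rfl)
      (by rw [Polynomial.degree_C_mul_X_pow 2 (neg_ne_zero.mpr one_ne_zero)]; rfl)
      (FiniteField.odd_card_of_char_ne_two (ringChar_ne_two hodd))
    simp at har
    set b := (r - (t - a * s)) / 2 with hb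
    obtain ⟨A, hAm⟩ : ∃ A : S2, (A : M2) = !![a, b; t + b - a * s, t - a] :=
      ⟨⟨_, by rw [det_fin_two_of, hb]; field_simp; linear_combination har⟩, rfl⟩
    obtain ⟨H, hHm⟩ : ∃ H : S2, (H : M2) = !![0, -1; 1, s] :=
      ⟨⟨_, by simp [det_fin_two_of]⟩, rfl⟩
    have hH : (H : M2).trace = s := by simp [hHm, trace_fin_two]
    have hA : (A : M2).trace = t := by simp [hAm, trace_fin_two]
    have hB : ((A⁻¹ * H : S2) : M2).trace = t := by
      simp only [Matrix.SpecialLinearGroup.coe_mul, coe_inv_entries, hAm, hHm]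
      simp [trace_fin_two]
    refine covering (Or.inl hX) hXn (nonScalar_of_trace hX hA) (nonScalar_of_trace hX hB) hA hB ?_
    rw [mul_inv_cancel_left]
    exact isConj_of_isConj_gl (GL2.isConj_of_trace_det (g := ι H) (h := ι G)
      (nonScalar_of_trace hs hH) (nonScalar_of_mk_ne hg) hH ((det_ι H).trans (det_ι G).symm))
      (Or.inl (by rw [hH]; exact hs))

theorem covering_even [CharP F 2] {X : S2} (hXn : NonScalar (X : M2)) {l : F} (hl : l ≠ 0)
    (hX : (X : M2).trace = l + l⁻¹) (hX0 : (X : M2).trace ≠ 0) (g : PS) (hg : g ≠ 1) :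
    ∃ u v : PS, g = (u * π X * u⁻¹) * (v * π X * v⁻¹) := by
  classical
  have h2 : (2 : F) = 0 := CharTwo.two_eq_zero
  obtain ⟨G, rfl⟩ := exists_lift g
  set t := (X : M2).trace
  set s := (G : M2).trace
  have h4 : (4 : F) = 0 := by rw [show (4 : F) = 2 * 2 by norm_num, h2, zero_mul]
  have ht4 : t ^ 2 ≠ 4 := by rw [h4]; exact pow_ne_zero 2 hX0
  obtain ⟨H, hHn, hH, A, hA, hB⟩ : ∃ H : S2, NonScalar (H : M2) ∧ (H : M2).trace = s ∧
      ∃ A : S2, (A : M2).trace = t ∧ ((A⁻¹ * H : S2) : M2).trace = t := by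
    obtain ⟨H, hHm⟩ : ∃ H : S2, (H : M2) = !![0, -1; 1, s] :=
      ⟨⟨_, by simp [det_fin_two_of]⟩, rfl⟩
    obtain ⟨A, hAm⟩ : ∃ A : S2, (A : M2) = !![l, 0; t - l * s, l⁻¹] :=
      ⟨⟨_, by simp [det_fin_two_of, hl]⟩, rfl⟩
    refine ⟨H, (nonScalar_iff _).mpr (Or.inr (Or.inl (by simp [hHm]))),
      by simp [hHm, trace_fin_two], A, ?_, ?_⟩
    · rw [hX]; simp [hAm, trace_fin_two]
    · simp only [Matrix.SpecialLinearGroup.coe_mul, coe_inv_entries, hAm, hHm]
      simp [trace_fin_two]
  refine covering (Or.inr h2) hXn (nonScalar_of_trace ht4 hA) (nonScalar_of_trace ht4 hB) hA hB ?_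
  rw [mul_inv_cancel_left]
  exact isConj_of_isConj_gl (GL2.isConj_of_trace_det (g := ι H) (h := ι G)
    hHn (nonScalar_of_mk_ne hg) hH ((det_ι H).trans (det_ι G).symm)) (Or.inr h2)

end Covering

end CfsgLib.KnownB.SL2
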