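import Cfsg.Agent.Lib.KnownB.SL2Count
import Cfsg.Prelude.Def_Blocks

/-!
# Number of irreducible characters of `SL₂(F)`, `q` odd, whose degree has a given property
-/

set_option autoImplicit false

namespace CfsgLib.KnownB.SL2

open Matrix Finset CfsgLib.KnownB.GL2
open scoped MatrixGroups ComplexConjugate

variable {F : Type*} [Field F] [Fintype F] [DecidableEq F]

local notation "S2" => Matrix.SpecialLinearGroup (Fin 2) F

omit [Fintype F] [DecidableEq F] in
theorem charDegree_of_eq {G : Type*} [Group G] {χ : G → ℂ} {d : ℕ} (h : χ 1 = (d : ℂ)) :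
    Cfsg.charDegree χ = d := by
  rw [Cfsg.charDegree, h, Complex.natCast_re, Nat.floor_natCast]

theorem natCard_degProp (hodd : Odd (Fintype.card F)) (p : ℕ → Prop) [DecidablePred p] :
    Nat.card {χ : Cfsg.IrrCharacter S2 // p (Cfsg.charDegree (χ : S2 → ℂ))} =
      (if p 1 then 1 else 0) + (if p (Fintype.card F) then 1 else 0) +
      (if p (Fintype.card F + 1) then (Fintype.card F - 3) / 2 else 0) +
      (if p (Fintype.card F - 1) then (Fintype.card F - 1) / 2 else 0) +
      (if p ((Fintype.card F + 1) / 2) then 2 else 0) +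
      (if p ((Fintype.card F - 1) / 2) then 2 else 0) := by
  classical
  obtain ⟨E, _, _, _, _⟩ := exists_quad F
  obtain ⟨D⟩ : Nonempty (OddData (F := F) E) := exists_oddData E hodd
  obtain ⟨hPn, hCn, hcard, hne1, hne2⟩ := counts_odd hodd D
  have fP : (Pset F).Finite :=
    CfsgLib.Char.finite_setOf_isIrr.subset fun χ h => (Pset_deg h).1
  have fC : (Cset F E).Finite :=
    CfsgLib.Char.finite_setOf_isIrr.subset fun χ h => (Cset_deg h).1
  rw [Set.ncard_eq_toFinset_card _ fP] at hPn
  rw [Set.ncard_eq_toFinset_card _ fC] at hCn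
  have hdeg := D.degrees hodd
  let l : Multiset (S2 → ℂ) := {(fun _ => 1)} + {St0} + fP.toFinset.val + fC.toFinset.val +
    ({D.p₁} + {D.p₂}) + ({D.c₁} + {D.c₂})
  have hT : ∀ χ, χ ∈ l.toFinset ↔ Cfsg.IsIrrCharacter S2 χ := by
    intro χ
    simp only [l, Multiset.mem_toFinset, Multiset.mem_add, Multiset.mem_singleton, Finset.mem_val,
      Set.Finite.mem_toFinset]
    constructor
    · rintro (((((rfl | rfl) | h) | h) | (rfl | rfl)) | (rfl | rfl))
      · exact CfsgLib.Char.isIrrCharacter_one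
      · exact isIrr_St0
      · exact (Pset_deg h).1
      · exact (Cset_deg h).1
      · exact D.hP.irr₁
      · exact D.hP.irr₂
      · exact D.hC.irr₁
      · exact D.hC.irr₂
    · intro h
      rcases D.cases hodd h with h' | h' | ⟨α, hα, h'⟩ | ⟨μ, hμ, h'⟩ | h' | h' | h' | h'
      · exact Or.inl (Or.inl (Or.inl (Or.inl (Or.inl h'))))
      · exact Or.inl (Or.inl (Or.inl (Or.inl (Or.inr h'))))
      · exact Or.inl (Or.inl (Or.inl (Or.inr ⟨α, hα, h'.symm⟩)))
      · exact Or.inl (Or.inl (Or.inr ⟨μ, hμ, h'.symm⟩))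
      · exact Or.inl (Or.inr (Or.inl h'))
      · exact Or.inl (Or.inr (Or.inr h'))
      · exact Or.inr (Or.inl h')
      · exact Or.inr (Or.inr h')
  have hlc : l.card = Fintype.card F + 4 := by
    simp only [l, Multiset.card_add, Multiset.card_singleton, Finset.card_val]
    omega
  have hnd : l.Nodup := by
    rw [← Multiset.toFinset_card_eq_card_iff_nodup, hlc, ← hcard, (sum_sq_irr hT).2]
  have hfilter : Nat.card {χ : Cfsg.IrrCharacter S2 // p (Cfsg.charDegree (χ : S2 → ℂ))} =
      l.countP (fun χ => p (Cfsg.charDegree χ)) := by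
    rw [Multiset.countP_eq_card_filter, ← Multiset.toFinset_card_of_nodup (hnd.filter _),
      Multiset.toFinset_filter]
    rw [← Fintype.card_coe, ← Nat.card_eq_fintype_card]
    exact Nat.card_congr
      ⟨fun χ => ⟨χ.1.1, Finset.mem_filter.mpr ⟨(hT _).mpr χ.1.2, χ.2⟩⟩,
        fun χ => ⟨⟨χ.1, (hT _).mp (Finset.mem_filter.mp χ.2).1⟩, (Finset.mem_filter.mp χ.2).2⟩,
        fun _ => rfl, fun _ => rfl⟩
  have hconst : ∀ (T : Finset (S2 → ℂ)) (d : ℕ), (∀ χ ∈ T, Cfsg.charDegree χ = d) →
      T.val.countP (fun χ => p (Cfsg.charDegree χ)) = if p d then T.card else 0 := by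
    intro T d hd
    split_ifs with h
    · exact Multiset.countP_eq_card.mpr fun χ hχ => by rwa [hd χ hχ]
    · exact Multiset.countP_eq_zero.mpr fun χ hχ => by rwa [hd χ hχ]
  have hone : ∀ (χ : S2 → ℂ) (d : ℕ), χ 1 = (d : ℂ) →
      Multiset.countP (fun χ => p (Cfsg.charDegree χ)) {χ} = if p d then 1 else 0 := by
    intro χ d hd
    rw [← Multiset.cons_zero, Multiset.countP_cons, Multiset.countP_zero, zero_add,
      charDegree_of_eq hd]
  have hP1 : ∀ χ ∈ fP.toFinset, Cfsg.charDegree χ = Fintype.card F + 1 := fun χ hχ =>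
    charDegree_of_eq (by rw [(Pset_deg (fP.mem_toFinset.mp hχ)).2]; push_cast; rfl)
  have hC1 : ∀ χ ∈ fC.toFinset, Cfsg.charDegree χ = Fintype.card F - 1 := fun χ hχ =>
    charDegree_of_eq (by
      rw [(Cset_deg (fC.mem_toFinset.mp hχ)).2, Nat.cast_sub Fintype.card_pos, Nat.cast_one])
  rw [hfilter]
  simp only [l, Multiset.countP_add]
  rw [hone _ 1 (by simp), hone St0 (Fintype.card F) (by rw [St0_one]),
    hconst _ _ hP1, hconst _ _ hC1, hone _ _ hdeg.1, hone _ _ hdeg.2.1, hone _ _ hdeg.2.2.1,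
    hone _ _ hdeg.2.2.2]
  rw [show fP.toFinset.card = (Fintype.card F - 3) / 2 by omega,
    show fC.toFinset.card = (Fintype.card F - 1) / 2 by omega]
  split_ifs <;> omega

end CfsgLib.KnownB.SL2
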