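import Cfsg.Agent.Lib.KnownB.SL2Deg

/-!
# Numbers of irreducible characters of `SL₂(F)` of each degree
-/

set_option autoImplicit false

namespace CfsgLib.KnownB.SL2

open Matrix Finset CfsgLib.KnownB.GL2
open scoped MatrixGroups ComplexConjugate

variable {F : Type*} [Field F] [Fintype F] [DecidableEq F]
variable {E : Type*} [Field E] [Algebra F E] [IsQuad F E] [Fintype E]

local notation "S2" => Matrix.SpecialLinearGroup (Fin 2) F
local notation "q" => (Fintype.card F : ℂ)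

/-- Irreducible principal series characters. -/
def Pset (F : Type*) [Field F] [Fintype F] [DecidableEq F] :
    Set (Matrix.SpecialLinearGroup (Fin 2) F → ℂ) :=
  (P (F := F)) '' {α | α ^ 2 ≠ 1}

/-- Irreducible cuspidal characters. -/
def Cset (F E : Type*) [Field F] [Fintype F] [DecidableEq F] [Field E] [Algebra F E] [IsQuad F E]
    [Fintype E] : Set (Matrix.SpecialLinearGroup (Fin 2) F → ℂ) :=
  (C (F := F) (E := E)) '' {μ | ¬ TrivC F (μ ^ 2)}

theorem P_inv (α : MulChar F ℂ) : P α⁻¹ = P α := by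
  have h1 := res_I_general (1 : MulChar F ℂ) α
  rw [one_mul, I_comm, res_I] at h1
  exact h1.symm

theorem P_eq_iff {α β : MulChar F ℂ} : P β = P α ↔ β = α ∨ β = α⁻¹ := by
  classical
  constructor
  · intro h
    by_contra hc
    push Not at hc
    have h1 := inner_P_P β α
    rw [if_neg hc.1, if_neg (fun h' => hc.2 (eq_inv_of_mul_eq_one_left h')), add_zero, h,
      inner_P_P, if_pos rfl] at h1
    split_ifs at h1 <;> norm_num at h1
  · rintro (rfl | rfl)
    · rfl
    · exact P_inv α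

theorem ncard_Pset :
    2 * (Pset F).ncard + {α : MulChar F ℂ | α ^ 2 = 1}.ncard = Fintype.card F - 1 := by
  rw [Pset, two_mul_ncard_image _ {α : MulChar F ℂ | α ^ 2 ≠ 1} (fun α => α⁻¹)
    (fun α hα => by simpa [inv_pow] using hα)
    (fun α (hα : α ^ 2 ≠ 1) h => hα (by rw [sq]; nth_rw 1 [← h]; exact inv_mul_cancel α))]
  · have h := Set.ncard_add_ncard_compl {α : MulChar F ℂ | α ^ 2 = 1}
    rw [Set.compl_ofPred, card_mulChar] at h
    simp only [ne_eq] at h ⊢
    omega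
  · intro α _ β _
    exact P_eq_iff

theorem ncard_sq_one_odd (hodd : Odd (Fintype.card F)) :
    {α : MulChar F ℂ | α ^ 2 = 1}.ncard = 2 := by
  rw [show {α : MulChar F ℂ | α ^ 2 = 1} = {1, sgnC F} from ?_,
    Set.ncard_pair (Ne.symm (sgnC_ne_one hodd))]
  ext α
  constructor
  · intro h
    by_cases h1 : α = 1
    · exact Or.inl h1
    · exact Or.inr (eq_sgnC hodd h1 h)
  · rintro (rfl | rfl)
    · exact one_pow 2
    · exact sgnC_sq

theorem ncard_sq_one_even (heven : ¬ Odd (Fintype.card F)) :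
    {α : MulChar F ℂ | α ^ 2 = 1}.ncard = 1 := by
  rw [show {α : MulChar F ℂ | α ^ 2 = 1} = {1} from ?_, Set.ncard_singleton]
  ext α
  exact ⟨fun h => even_char heven h, fun h => by simp [Set.mem_singleton_iff.mp h]⟩

theorem inner_C_P (μ : MulChar E ℂ) (α : MulChar F ℂ) :
    Cfsg.classInner (C (F := F) μ) (P α) = 0 := by
  rw [← CfsgLib.Char.classInner_conj_symm, inner_P_C, map_zero]

theorem inner_one_of_P_one {Φ : S2 → ℂ} (h : Cfsg.classInner Φ (P (1 : MulChar F ℂ)) = 0)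
    (hΦ : Cfsg.IsCharacter S2 Φ) :
    Cfsg.classInner Φ St0 = 0 ∧ Cfsg.classInner Φ (fun _ => 1) = 0 := by
  obtain ⟨a, ha⟩ := CfsgLib.Char.classInner_isCharacter_nat hΦ
    (CfsgLib.Char.irr_isCharacter isIrr_St0)
  obtain ⟨b, hb⟩ := CfsgLib.Char.classInner_isCharacter_nat hΦ CfsgLib.Char.isCharacter_one
  rw [P_trivial, CfsgLib.Char.classInner_add_right, ha, hb] at h
  have : a + b = 0 := by exact_mod_cast h
  rw [ha, hb, show a = 0 by omega, show b = 0 by omega]
  exact ⟨Nat.cast_zero, Nat.cast_zero⟩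

theorem ne_of_orth {G : Type*} [Group G] [Fintype G] {a a' b b' : G → ℂ}
    (ha : Cfsg.IsIrrCharacter G a) (ha' : Cfsg.IsIrrCharacter G a')
    (hb : Cfsg.IsIrrCharacter G b) (hb' : Cfsg.IsIrrCharacter G b')
    (h : Cfsg.classInner (a + a') (b + b') = 0) : a ≠ b ∧ a ≠ b' ∧ a' ≠ b ∧ a' ≠ b' := by
  classical
  simp only [CfsgLib.Char.classInner_add_left, CfsgLib.Char.classInner_add_right,
    CfsgLib.Char.irr_classInner ha hb, CfsgLib.Char.irr_classInner ha hb',
    CfsgLib.Char.irr_classInner ha' hb, CfsgLib.Char.irr_classInner ha' hb'] at h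
  refine ⟨?_, ?_, ?_, ?_⟩ <;> intro he <;> rw [if_pos he] at h <;> split_ifs at h <;>
    norm_num at h

theorem ne_of_orth_one {G : Type*} [Group G] [Fintype G] {x b b' : G → ℂ}
    (hx : Cfsg.IsIrrCharacter G x)
    (hb : Cfsg.IsIrrCharacter G b) (hb' : Cfsg.IsIrrCharacter G b')
    (h : Cfsg.classInner (b + b') x = 0) : b ≠ x ∧ b' ≠ x := by
  classical
  rw [CfsgLib.Char.classInner_add_left, CfsgLib.Char.irr_classInner hb hx,
    CfsgLib.Char.irr_classInner hb' hx] at h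
  constructor <;> intro he <;> rw [if_pos he] at h <;> split_ifs at h <;> norm_num at h

theorem Pset_deg {χ : S2 → ℂ} (h : χ ∈ Pset F) :
    Cfsg.IsIrrCharacter S2 χ ∧ χ 1 = q + 1 := by
  obtain ⟨α, hα, rfl⟩ := h
  exact ⟨isIrr_P_iff.mpr hα, P_one α⟩

theorem Cset_deg {χ : S2 → ℂ} (h : χ ∈ Cset F E) :
    Cfsg.IsIrrCharacter S2 χ ∧ χ 1 = q - 1 := by
  obtain ⟨μ, hμ, rfl⟩ := h
  exact ⟨isIrr_C hμ, C_one μ⟩

theorem Cset_ne {χ : S2 → ℂ} (h : χ ∈ Cset F E) :
    χ ≠ (fun _ => 1) ∧ χ ≠ St0 := by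
  obtain ⟨μ, hμ, rfl⟩ := h
  obtain ⟨h1, h2⟩ := inner_one_of_P_one (inner_C_P μ 1)
    (CfsgLib.Char.irr_isCharacter (isIrr_C hμ))
  constructor <;> intro he
  · rw [he, CfsgLib.Char.irr_classInner_self CfsgLib.Char.isIrrCharacter_one] at h2
    exact one_ne_zero h2
  · rw [he, CfsgLib.Char.irr_classInner_self isIrr_St0] at h1
    exact one_ne_zero h1

theorem sum_const_of_deg {T : Finset (S2 → ℂ)} {d : ℂ} (h : ∀ χ ∈ T, χ 1 = d) :
    ∑ χ ∈ T, χ 1 ^ 2 = (T.card : ℂ) * d ^ 2 := by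
  rw [Finset.sum_congr rfl (fun χ hχ => by rw [h χ hχ]), Finset.sum_const, nsmul_eq_mul]

theorem sum_sq_irr {T : Finset (S2 → ℂ)} (hT : ∀ χ, χ ∈ T ↔ Cfsg.IsIrrCharacter S2 χ) :
    ∑ χ ∈ T, χ 1 ^ 2 = q * (q ^ 2 - 1) ∧
      Nat.card (Cfsg.IrrCharacter S2) = T.card := by
  obtain ⟨hq0, hq1, hq2⟩ := q_facts (F := F)
  have := Fintype.ofFinite (Cfsg.IrrCharacter S2)
  refine ⟨?_, ?_⟩
  · rw [Finset.sum_subtype (s := T) (p := fun χ => Cfsg.IsIrrCharacter S2 χ) hT
      (fun χ : S2 → ℂ => χ 1 ^ 2)]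
    show ∑ χ : Cfsg.IrrCharacter S2, (χ : S2 → ℂ) 1 ^ 2 = _
    rw [CfsgLib.Char.sum_irr_sq]
    apply mul_right_cancel₀ hq1
    rw [card_sl]; ring
  · rw [← Fintype.card_coe, ← Nat.card_eq_fintype_card]
    exact Nat.card_congr (Equiv.subtypeEquivRight fun χ => (hT χ).symm)

theorem counts_even (E : Type*) [Field E] [Algebra F E] [IsQuad F E] [Fintype E]
    (heven : ¬ Odd (Fintype.card F)) :
    2 * (Pset F).ncard + 2 = Fintype.card F ∧ 2 * (Cset F E).ncard = Fintype.card F ∧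
      Nat.card (Cfsg.IrrCharacter S2) = Fintype.card F + 1 := by
  classical
  have hq2 : 2 ≤ Fintype.card F := Fintype.one_lt_card
  have hPn : 2 * (Pset F).ncard + 2 = Fintype.card F := by
    have := ncard_Pset (F := F)
    rw [ncard_sq_one_even heven] at this
    omega
  have fin := fun (s : Set (S2 → ℂ)) (hs : s ⊆ {χ | Cfsg.IsIrrCharacter S2 χ}) =>
    CfsgLib.Char.finite_setOf_isIrr.subset hs
  have fP : (Pset F).Finite := fin _ fun χ h => (Pset_deg h).1
  have fC : (Cset F E).Finite := fin _ fun χ h => (Cset_deg h).1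
  rw [Set.ncard_eq_toFinset_card _ fP] at hPn
  rw [Set.ncard_eq_toFinset_card _ fP, Set.ncard_eq_toFinset_card _ fC]
  set TP := fP.toFinset
  set TC := fC.toFinset
  have hP : ∀ χ, χ ∈ TP → Cfsg.IsIrrCharacter S2 χ ∧ χ 1 = q + 1 := fun χ h =>
    Pset_deg (fP.mem_toFinset.mp h)
  have hC : ∀ χ, χ ∈ TC → Cfsg.IsIrrCharacter S2 χ ∧ χ 1 = q - 1 := fun χ h =>
    Cset_deg (fC.mem_toFinset.mp h)
  let T1 : Finset (S2 → ℂ) := {fun _ => 1}
  let T2 : Finset (S2 → ℂ) := {St0}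
  let T := T1 ∪ T2 ∪ TP ∪ TC
  have hT : ∀ χ, χ ∈ T ↔ Cfsg.IsIrrCharacter S2 χ := by
    intro χ
    simp only [T, T1, T2, mem_union, mem_singleton]
    constructor
    · rintro (((rfl | rfl) | h) | h)
      · exact CfsgLib.Char.isIrrCharacter_one
      · exact isIrr_St0
      · exact (hP _ h).1
      · exact (hC _ h).1
    · intro h
      rcases irr_cases_even E heven h with h' | h' | ⟨α, hα, h'⟩ | ⟨μ, hμ, h'⟩
      · exact Or.inl (Or.inl (Or.inl h'))
      · exact Or.inl (Or.inl (Or.inr h'))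
      · exact Or.inl (Or.inr (fP.mem_toFinset.mpr ⟨α, hα, h'.symm⟩))
      · exact Or.inr (fC.mem_toFinset.mpr ⟨μ, hμ, h'.symm⟩)
  have hq' : (2 : ℝ) ≤ Fintype.card F := by exact_mod_cast hq2
  have d1 : Disjoint T1 T2 := by
    simp only [T1, T2, disjoint_singleton]
    intro h
    have := congrArg Complex.re (congrFun h 1)
    simp [St0_one] at this
    linarith
  have d2 : Disjoint (T1 ∪ T2) TP := by
    rw [Finset.disjoint_left]
    intro χ hχ hχ'
    have h1 := congrArg Complex.re (hP χ hχ').2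
    simp only [T1, T2, mem_union, mem_singleton] at hχ
    rcases hχ with rfl | rfl <;> simp [St0_one] at h1 <;> linarith
  have d3 : Disjoint (T1 ∪ T2 ∪ TP) TC := by
    rw [Finset.disjoint_left]
    intro χ hχ hχ'
    simp only [T1, T2, mem_union, mem_singleton] at hχ
    rcases hχ with (rfl | rfl) | h
    · exact (Cset_ne (fC.mem_toFinset.mp hχ')).1 rfl
    · exact (Cset_ne (fC.mem_toFinset.mp hχ')).2 rfl
    · have h1 := congrArg Complex.re ((hP χ h).2.symm.trans (hC χ hχ').2)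
      simp at h1
      linarith
  obtain ⟨hsq, hcard⟩ := sum_sq_irr hT
  rw [Finset.sum_union d3, Finset.sum_union d2, Finset.sum_union d1,
    sum_const_of_deg (fun χ h => (hP χ h).2), sum_const_of_deg (fun χ h => (hC χ h).2)] at hsq
  simp only [T1, T2, Finset.sum_singleton, St0_one, one_pow] at hsq
  rw [Finset.card_union_of_disjoint d3, Finset.card_union_of_disjoint d2,
    Finset.card_union_of_disjoint d1, Finset.card_singleton, Finset.card_singleton] at hcard
  have hPC : 2 * (TP.card : ℂ) + 2 = q := by exact_mod_cast hPn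
  obtain ⟨hq0, hq1, hqp⟩ := q_facts (F := F)
  have hCC : 2 * (TC.card : ℂ) = q := by
    apply mul_right_cancel₀ (pow_ne_zero 2 hq1)
    linear_combination 2 * hsq - (q + 1) ^ 2 * hPC
  have hCn : 2 * TC.card = Fintype.card F := by exact_mod_cast hCC
  exact ⟨hPn, hCn, by omega⟩

theorem counts_odd (hodd : Odd (Fintype.card F)) (D : OddData (F := F) E) :
    2 * (Pset F).ncard + 3 = Fintype.card F ∧ 2 * (Cset F E).ncard + 1 = Fintype.card F ∧
      Nat.card (Cfsg.IrrCharacter S2) = Fintype.card F + 4 ∧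
      D.p₁ ≠ D.p₂ ∧ D.c₁ ≠ D.c₂ := by
  classical
  have hq3 : 3 ≤ Fintype.card F := by
    have := Fintype.one_lt_card (α := F)
    rw [Nat.odd_iff] at hodd
    omega
  have hPn : 2 * (Pset F).ncard + 3 = Fintype.card F := by
    have := ncard_Pset (F := F)
    rw [ncard_sq_one_odd hodd] at this
    omega
  have fin := fun (s : Set (S2 → ℂ)) (hs : s ⊆ {χ | Cfsg.IsIrrCharacter S2 χ}) =>
    CfsgLib.Char.finite_setOf_isIrr.subset hs
  have fP : (Pset F).Finite := fin _ fun χ h => (Pset_deg h).1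
  have fC : (Cset F E).Finite := fin _ fun χ h => (Cset_deg h).1
  rw [Set.ncard_eq_toFinset_card _ fP] at hPn
  rw [Set.ncard_eq_toFinset_card _ fP, Set.ncard_eq_toFinset_card _ fC]
  set TP := fP.toFinset
  set TC := fC.toFinset
  have hP : ∀ χ, χ ∈ TP → Cfsg.IsIrrCharacter S2 χ ∧ χ 1 = q + 1 := fun χ h =>
    Pset_deg (fP.mem_toFinset.mp h)
  have hC : ∀ χ, χ ∈ TC → Cfsg.IsIrrCharacter S2 χ ∧ χ 1 = q - 1 := fun χ h =>
    Cset_deg (fC.mem_toFinset.mp h)
  let T1 : Finset (S2 → ℂ) := {fun _ => 1}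
  let T2 : Finset (S2 → ℂ) := {St0}
  let T3 : Finset (S2 → ℂ) := {D.p₁, D.p₂}
  let T4 : Finset (S2 → ℂ) := {D.c₁, D.c₂}
  let T := T1 ∪ T2 ∪ TP ∪ TC ∪ T3 ∪ T4
  have hT : ∀ χ, χ ∈ T ↔ Cfsg.IsIrrCharacter S2 χ := by
    intro χ
    simp only [T, T1, T2, T3, T4, mem_union, mem_singleton, mem_insert]
    constructor
    · rintro (((((rfl | rfl) | h) | h) | (rfl | rfl)) | (rfl | rfl))
      · exact CfsgLib.Char.isIrrCharacter_one
      · exact isIrr_St0
      · exact (hP _ h).1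
      · exact (hC _ h).1
      · exact D.hP.irr₁
      · exact D.hP.irr₂
      · exact D.hC.irr₁
      · exact D.hC.irr₂
    · intro h
      rcases D.cases hodd h with h' | h' | ⟨α, hα, h'⟩ | ⟨μ, hμ, h'⟩ | h' | h' | h' | h'
      · exact Or.inl (Or.inl (Or.inl (Or.inl (Or.inl h'))))
      · exact Or.inl (Or.inl (Or.inl (Or.inl (Or.inr h'))))
      · exact Or.inl (Or.inl (Or.inl (Or.inr (fP.mem_toFinset.mpr ⟨α, hα, h'.symm⟩))))
      · exact Or.inl (Or.inl (Or.inr (fC.mem_toFinset.mpr ⟨μ, hμ, h'.symm⟩)))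
      · exact Or.inl (Or.inr (Or.inl h'))
      · exact Or.inl (Or.inr (Or.inr h'))
      · exact Or.inr (Or.inl h')
      · exact Or.inr (Or.inr h')
  have hdeg := D.degrees hodd
  rw [(half_cast hodd).1, (half_cast hodd).2] at hdeg
  have hq' : (3 : ℝ) ≤ Fintype.card F := by exact_mod_cast hq3
  -- orthogonality facts
  obtain ⟨oP1, oP2⟩ := inner_one_of_P_one (Φ := D.p₁ + D.p₂) (by
    rw [← D.hP.sum, inner_P_P, if_neg (sgnC_ne_one hodd), if_neg (by
      rw [mul_one]; exact sgnC_ne_one hodd), add_zero]) (D.hP.sum ▸ isCharacter_P _)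
  obtain ⟨oC1, oC2⟩ := inner_one_of_P_one (Φ := D.c₁ + D.c₂) (by
    rw [← D.hC.sum, inner_C_P]) (D.hC.sum ▸ isCharacter_C D.hν)
  have n12 := ne_of_orth_one isIrr_St0 D.hP.irr₁ D.hP.irr₂ oP1
  have n11 := ne_of_orth_one CfsgLib.Char.isIrrCharacter_one D.hP.irr₁ D.hP.irr₂ oP2
  have m12 := ne_of_orth_one isIrr_St0 D.hC.irr₁ D.hC.irr₂ oC1
  have m11 := ne_of_orth_one CfsgLib.Char.isIrrCharacter_one D.hC.irr₁ D.hC.irr₂ oC2
  have npc := ne_of_orth D.hP.irr₁ D.hP.irr₂ D.hC.irr₁ D.hC.irr₂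
    (by rw [← D.hP.sum, ← D.hC.sum, inner_P_C])
  have npC : ∀ χ ∈ TC, D.p₁ ≠ χ ∧ D.p₂ ≠ χ ∧ D.c₁ ≠ χ ∧ D.c₂ ≠ χ := by
    intro χ hχ
    obtain ⟨μ, hμ, rfl⟩ := fC.mem_toFinset.mp hχ
    have a := ne_of_orth_one (isIrr_C hμ) D.hP.irr₁ D.hP.irr₂ (by rw [← D.hP.sum, inner_P_C])
    have b := ne_of_orth_one (isIrr_C hμ) D.hC.irr₁ D.hC.irr₂ (by
      rw [← D.hC.sum, inner_C_C, if_neg, if_neg, add_zero]
      · intro h
        apply hμ
        intro x hx
        have e1 := h x hx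
        have e2 := D.hν2 x hx
        rw [MulChar.mul_apply] at e1
        rw [MulChar.pow_apply' _ two_ne_zero] at e2 ⊢
        calc μ x ^ 2 = (D.ν x * μ x) ^ 2 := by rw [mul_pow, e2, one_mul]
          _ = 1 := by rw [e1, one_pow]
      · intro h
        apply hμ
        intro x hx
        have e1 := h x hx
        have e2 := D.hν2 x⁻¹ (norm_inv_one hx)
        rw [MulChar.mul_apply, MulChar.inv_apply'] at e1
        rw [MulChar.pow_apply' _ two_ne_zero] at e2 ⊢
        calc μ x ^ 2 = (D.ν x⁻¹ * μ x) ^ 2 := by rw [mul_pow, e2, one_mul]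
          _ = 1 := by rw [e1, one_pow])
    exact ⟨a.1, a.2, b.1, b.2⟩
  have d1 : Disjoint T1 T2 := by
    simp only [T1, T2, disjoint_singleton]
    intro h
    have := congrArg Complex.re (congrFun h 1)
    simp [St0_one] at this
    linarith
  have d2 : Disjoint (T1 ∪ T2) TP := by
    rw [Finset.disjoint_left]
    intro χ hχ hχ'
    have h1 := congrArg Complex.re (hP χ hχ').2
    simp only [T1, T2, mem_union, mem_singleton] at hχ
    rcases hχ with rfl | rfl <;> simp [St0_one] at h1 <;> linarith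
  have d3 : Disjoint (T1 ∪ T2 ∪ TP) TC := by
    rw [Finset.disjoint_left]
    intro χ hχ hχ'
    simp only [T1, T2, mem_union, mem_singleton] at hχ
    rcases hχ with (rfl | rfl) | h
    · exact (Cset_ne (fC.mem_toFinset.mp hχ')).1 rfl
    · exact (Cset_ne (fC.mem_toFinset.mp hχ')).2 rfl
    · have h1 := congrArg Complex.re ((hP χ h).2.symm.trans (hC χ hχ').2)
      simp at h1
      linarith
  have d4 : Disjoint (T1 ∪ T2 ∪ TP ∪ TC) T3 := by
    rw [Finset.disjoint_left]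
    intro χ hχ hχ'
    simp only [T1, T2, T3, mem_union, mem_singleton, mem_insert] at hχ hχ'
    rcases hχ with ((rfl | rfl) | h) | h <;> rcases hχ' with h' | h'
    · exact n11.1 h'.symm
    · exact n11.2 h'.symm
    · exact n12.1 h'.symm
    · exact n12.2 h'.symm
    · have h1 := congrArg Complex.re ((hP χ h).2.symm.trans (h' ▸ hdeg.1))
      simp at h1
      linarith
    · have h1 := congrArg Complex.re ((hP χ h).2.symm.trans (h' ▸ hdeg.2.1))
      simp at h1
      linarith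
    · exact (npC χ h).1 h'.symm
    · exact (npC χ h).2.1 h'.symm
  have d5 : Disjoint (T1 ∪ T2 ∪ TP ∪ TC ∪ T3) T4 := by
    rw [Finset.disjoint_left]
    intro χ hχ hχ'
    simp only [T1, T2, T3, T4, mem_union, mem_singleton, mem_insert] at hχ hχ'
    rcases hχ with (((rfl | rfl) | h) | h) | (rfl | rfl) <;> rcases hχ' with h' | h'
    · exact m11.1 h'.symm
    · exact m11.2 h'.symm
    · exact m12.1 h'.symm
    · exact m12.2 h'.symm
    · have h1 := congrArg Complex.re ((hP χ h).2.symm.trans (h' ▸ hdeg.2.2.1))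
      simp at h1
      linarith
    · have h1 := congrArg Complex.re ((hP χ h).2.symm.trans (h' ▸ hdeg.2.2.2))
      simp at h1
      linarith
    · exact (npC χ h).2.2.1 h'.symm
    · exact (npC χ h).2.2.2 h'.symm
    · exact npc.1 h'
    · exact npc.2.1 h'
    · exact npc.2.2.1 h'
    · exact npc.2.2.2 h'
  obtain ⟨hsq, hcard⟩ := sum_sq_irr hT
  rw [Finset.sum_union d5, Finset.sum_union d4, Finset.sum_union d3, Finset.sum_union d2,
    Finset.sum_union d1,
    sum_const_of_deg (fun χ h => (hP χ h).2), sum_const_of_deg (fun χ h => (hC χ h).2)] at hsq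
  simp only [T1, T2, T3, T4, Finset.sum_singleton, Finset.sum_pair D.hP.ne,
    Finset.sum_pair D.hC.ne, St0_one, one_pow, hdeg.1, hdeg.2.1, hdeg.2.2.1, hdeg.2.2.2] at hsq
  rw [Finset.card_union_of_disjoint d5, Finset.card_union_of_disjoint d4,
    Finset.card_union_of_disjoint d3, Finset.card_union_of_disjoint d2,
    Finset.card_union_of_disjoint d1, Finset.card_singleton, Finset.card_singleton,
    Finset.card_pair D.hP.ne, Finset.card_pair D.hC.ne] at hcard
  have hPC : 2 * (TP.card : ℂ) + 3 = q := by exact_mod_cast hPn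
  obtain ⟨hq0, hq1, hqp⟩ := q_facts (F := F)
  have hCC : 2 * (TC.card : ℂ) + 1 = q := by
    apply mul_right_cancel₀ (pow_ne_zero 2 hq1)
    linear_combination 2 * hsq - (q + 1) ^ 2 * hPC
  have hCn : 2 * TC.card + 1 = Fintype.card F := by exact_mod_cast hCC
  exact ⟨hPn, hCn, by omega, D.hP.ne, D.hC.ne⟩

theorem natCard_deg (s : Set (S2 → ℂ)) (d : ℂ)
    (hs : ∀ χ, χ ∈ s ↔ Cfsg.IsIrrCharacter S2 χ ∧ χ 1 = d) :
    Nat.card {χ : Cfsg.IrrCharacter S2 // (χ : S2 → ℂ) 1 = d} = s.ncard := by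
  rw [← Nat.card_coe_set_eq]
  exact Nat.card_congr ((Equiv.subtypeSubtypeEquivSubtypeInter _ _).trans
    (Equiv.subtypeEquivRight fun χ => (hs χ).symm))

end CfsgLib.KnownB.SL2
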