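import Mathlib
import Cfsg.Agent.Lib.Chev.Parabolic

/-!
Minimal representatives of cosets and double cosets of parabolic subgroups of the Weyl group.
-/

set_option autoImplicit false

namespace CfsgLib.Chev

open Cfsg.Lie

variable {D : ChevalleyDatum}

private lemma apply_inv' {n : ℕ} (f : Equiv.Perm (Fin n)) (a : Fin n) : f (f⁻¹ a) = a :=
  f.apply_symm_apply a

private lemma inv_apply' {n : ℕ} (f : Equiv.Perm (Fin n)) (a : Fin n) : f⁻¹ (f a) = a :=
  f.symm_apply_apply a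

namespace Good

variable (g : Good D)
include g

/-- `w` is the shortest element of `w W_J`. -/
def MinL (J : Set ℕ) (w : Equiv.Perm (Fin D.nroots)) : Prop :=
  ∀ q : Fin D.rank, (q : ℕ) ∈ J → half D ≤ (w (g.sroot q)).val

/-- `w` is the shortest element of `W_K w W_J`. -/
def MinD (K J : Set ℕ) (w : Equiv.Perm (Fin D.nroots)) : Prop :=
  g.MinL J w ∧ g.MinL K w⁻¹

lemma weyl_le_wJ {J : Set ℕ} : g.wJ J ≤ g.weyl :=
  Subgroup.closure_mono fun _ ⟨i, _, h⟩ => ⟨i, h.symm⟩

lemma weyl_nroot {w : Equiv.Perm (Fin D.nroots)} (hw : w ∈ g.weyl) (a : Fin D.nroots) :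
    w (g.nroot a) = g.nroot (w a) := by
  obtain ⟨l, rfl⟩ := g.exists_wperm hw
  exact g.wperm_nroot l a

lemma minL_pos {J : Set ℕ} {w : Equiv.Perm (Fin D.nroots)} (hw : w ∈ g.weyl) (h : g.MinL J w)
    {a : Fin D.nroots} (hs : g.SuppIn J a) : half D ≤ (w a).val ↔ half D ≤ a.val := by
  obtain ⟨l, rfl⟩ := g.exists_wperm hw
  refine ⟨fun h1 => ?_, fun h1 => g.pos_of_simples l h h1 hs⟩
  by_contra hc
  have h2 := g.pos_of_simples l h ((g.nroot_pos_iff a).2 (Nat.not_le.1 hc)) (g.suppIn_nroot hs)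
  rw [g.wperm_nroot, g.nroot_pos_iff] at h2
  omega

lemma ninv_inv {w : Equiv.Perm (Fin D.nroots)} (hw : w ∈ g.weyl) : ninv D w⁻¹ = ninv D w := by
  classical
  rw [ninv, ninv]
  refine Finset.card_bij' (fun a _ => g.nroot (w⁻¹ a)) (fun a _ => g.nroot (w a)) ?_ ?_ ?_ ?_
  · intro a ha
    simp only [Finset.mem_filter, Finset.mem_univ, true_and] at ha ⊢
    refine ⟨(g.nroot_pos_iff _).2 ha.2, ?_⟩
    rw [g.weyl_nroot hw, apply_inv']
    by_contra hc
    have := (g.nroot_pos_iff a).1 (Nat.not_lt.1 hc)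
    omega
  · intro a ha
    simp only [Finset.mem_filter, Finset.mem_univ, true_and] at ha ⊢
    refine ⟨(g.nroot_pos_iff _).2 ha.2, ?_⟩
    rw [g.weyl_nroot (inv_mem hw), inv_apply']
    by_contra hc
    have := (g.nroot_pos_iff a).1 (Nat.not_lt.1 hc)
    omega
  · intro a _
    show g.nroot (w (g.nroot (w⁻¹ a))) = a
    rw [g.weyl_nroot hw, apply_inv', g.nroot_nroot]
  · intro a _
    show g.nroot (w⁻¹ (g.nroot (w a))) = a
    rw [g.weyl_nroot (inv_mem hw), inv_apply', g.nroot_nroot]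

/-- Lengths add on `W^J × W_J`. -/
lemma ninv_mul_wJ {J : Set ℕ} {w v : Equiv.Perm (Fin D.nroots)} (hw : w ∈ g.weyl)
    (h : g.MinL J w) (hv : v ∈ g.wJ J) : ninv D (w * v) = ninv D w + ninv D v := by
  classical
  set S := Finset.univ.filter fun a : Fin D.nroots => half D ≤ a.val ∧ ((w * v) a).val < half D
  have hS : ∀ a, a ∈ S ↔ half D ≤ a.val ∧ (w (v a)).val < half D := fun a =>
    Finset.mem_filter.trans (and_iff_right (Finset.mem_univ a))
  have key : S.card = (S.filter fun a : Fin D.nroots => g.SuppIn J a).card +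
      (S.filter fun a : Fin D.nroots => ¬ g.SuppIn J a).card :=
    (Finset.card_filter_add_card_filter_not _).symm
  have h1 : (S.filter fun a : Fin D.nroots => g.SuppIn J a).card = ninv D v := by
    rw [ninv]
    congr 1
    ext a
    simp only [Finset.mem_filter, Finset.mem_univ, true_and, hS]
    constructor
    · rintro ⟨⟨h2, h3⟩, hs⟩
      have := g.minL_pos hw h ((g.suppIn_wJ hv a).2 hs)
      exact ⟨h2, by omega⟩
    · rintro ⟨h2, h3⟩
      have hs : g.SuppIn J a := by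
        by_contra hc
        have := g.pos_of_not_supp hv h2 hc
        omega
      have := g.minL_pos hw h ((g.suppIn_wJ hv a).2 hs)
      exact ⟨⟨h2, by omega⟩, hs⟩
  have h2 : (S.filter fun a : Fin D.nroots => ¬ g.SuppIn J a).card = ninv D w := by
    rw [ninv]
    refine Finset.card_bij' (fun a _ => v a) (fun a _ => v⁻¹ a) ?_ ?_ (fun a _ => by simp)
      (fun a _ => by simp)
    · intro a ha
      simp only [Finset.mem_filter, Finset.mem_univ, true_and, hS] at ha ⊢
      exact ⟨g.pos_of_not_supp hv ha.1.1 ha.2, ha.1.2⟩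
    · intro a ha
      simp only [Finset.mem_filter, Finset.mem_univ, true_and, hS] at ha ⊢
      have hns : ¬ g.SuppIn J a := fun hs => by
        have := (g.minL_pos hw h hs).2 ha.1
        omega
      refine ⟨⟨g.pos_of_not_supp (inv_mem hv) ha.1 hns, ?_⟩,
        fun hs => hns ((g.suppIn_wJ (inv_mem hv) a).1 hs)⟩
      rw [apply_inv']
      exact ha.2
  show S.card = _
  omega

lemma exists_minL (J : Set ℕ) {w : Equiv.Perm (Fin D.nroots)} (hw : w ∈ g.weyl) :
    ∃ v ∈ g.wJ J, g.MinL J (w * v) := by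
  classical
  obtain ⟨v, hv, hmin⟩ := Finset.exists_min_image
    (Finset.univ.filter fun v => v ∈ g.wJ J) (fun v => ninv D (w * v))
    ⟨1, by simp [one_mem]⟩
  simp only [Finset.mem_filter, Finset.mem_univ, true_and] at hv hmin
  refine ⟨v, hv, fun q hq => ?_⟩
  by_contra hc
  have h1 := g.ninv_mul_rperm
    (g.weyl_nroot (mul_mem hw (g.weyl_le_wJ hv))) (q := q) (Nat.not_le.1 hc)
  have h2 := hmin (v * g.rperm q) (mul_mem hv (Subgroup.subset_closure ⟨q, hq, rfl⟩))
  rw [← mul_assoc] at h2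
  omega

lemma eq_one_of_ninv {v : Equiv.Perm (Fin D.nroots)} (hv : v ∈ g.weyl) (h : ninv D v = 0) :
    v = 1 := by
  refine g.eq_one_of_pos hv fun a ha => ?_
  by_contra hc
  rw [ninv, Finset.card_eq_zero, Finset.filter_eq_empty_iff] at h
  exact h (Finset.mem_univ a) ⟨ha, Nat.not_le.1 hc⟩

lemma minL_unique {J : Set ℕ} {w v : Equiv.Perm (Fin D.nroots)} (hw : w ∈ g.weyl)
    (h : g.MinL J w) (h' : g.MinL J (w * v)) (hv : v ∈ g.wJ J) : v = 1 := by
  have h1 := g.ninv_mul_wJ hw h hv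
  have h2 := g.ninv_mul_wJ (mul_mem hw (g.weyl_le_wJ hv)) h' (inv_mem hv)
  rw [mul_inv_cancel_right] at h2
  exact g.eq_one_of_ninv (g.weyl_le_wJ hv) (by omega)

lemma minL_eq {J : Set ℕ} {w w' : Equiv.Perm (Fin D.nroots)} (hw : w ∈ g.weyl)
    (h : g.MinL J w) (h' : g.MinL J w') (hv : w⁻¹ * w' ∈ g.wJ J) : w' = w := by
  have h1 := g.minL_unique hw h (by rwa [mul_inv_cancel_left]) hv
  exact (inv_mul_eq_one.1 h1).symm

/-- Lengths add on `W_K × ^K W`. -/
lemma ninv_wJ_mul {K : Set ℕ} {w v : Equiv.Perm (Fin D.nroots)} (hw : w ∈ g.weyl)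
    (h : g.MinL K w⁻¹) (hv : v ∈ g.wJ K) : ninv D (v * w) = ninv D v + ninv D w := by
  have h1 := g.ninv_mul_wJ (inv_mem hw) h (inv_mem hv)
  rw [← mul_inv_rev, g.ninv_inv (mul_mem (g.weyl_le_wJ hv) hw), g.ninv_inv hw,
    g.ninv_inv (g.weyl_le_wJ hv)] at h1
  omega

lemma minL_rperm_mul {J : Set ℕ} {x : Equiv.Perm (Fin D.nroots)} (hx : x ∈ g.weyl)
    (h : g.MinL J x) (i : Fin D.rank) :
    g.MinL J (g.rperm i * x) ∨
      ∃ k : Fin D.rank, (k : ℕ) ∈ J ∧ g.rperm i * x = x * g.rperm k := by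
  by_cases hall : g.MinL J (g.rperm i * x)
  · exact Or.inl hall
  · right
    simp only [MinL, not_forall] at hall
    obtain ⟨q, hq, hneg⟩ := hall
    have e : x (g.sroot q) = g.sroot i := by
      by_contra hne
      exact hneg (g.rperm_pos i (h q hq) hne)
    obtain ⟨l, rfl⟩ := g.exists_wperm hx
    exact ⟨q, hq, (g.wperm_conj e).symm⟩

lemma exists_left_minL {K J : Set ℕ} {x : Equiv.Perm (Fin D.nroots)} (hx : x ∈ g.weyl)
    (h : g.MinL J x) {a : Equiv.Perm (Fin D.nroots)} (ha : a ∈ g.wJ K) :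
    ∃ a' ∈ g.wJ K, g.MinL J (a' * x) ∧ (a' * x)⁻¹ * (a * x) ∈ g.wJ J := by
  obtain ⟨l, hl, rfl⟩ := g.exists_wperm_J ha
  clear ha
  induction l with
  | nil =>
    refine ⟨1, one_mem _, by rwa [one_mul], ?_⟩
    rw [wperm_nil, inv_mul_cancel]
    exact one_mem _
  | cons i l ih =>
    obtain ⟨a', ha', hm, hr⟩ := ih fun j hj => hl j (List.mem_cons_of_mem _ hj)
    have hi : g.rperm i ∈ g.wJ K :=
      Subgroup.subset_closure ⟨i, hl i (by simp), rfl⟩
    rcases g.minL_rperm_mul (mul_mem (g.weyl_le_wJ ha') hx) hm i with h1 | ⟨k, hk, he⟩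
    · refine ⟨g.rperm i * a', mul_mem hi ha', by rwa [mul_assoc], ?_⟩
      rw [wperm_cons]
      simpa [mul_assoc] using hr
    · refine ⟨a', ha', hm, ?_⟩
      have e : (a' * x)⁻¹ * (g.rperm i * g.wperm l * x) =
          g.rperm k * ((a' * x)⁻¹ * (g.wperm l * x)) := by
        rw [show (a' * x)⁻¹ * (g.rperm i * g.wperm l * x) =
          (a' * x)⁻¹ * (g.rperm i * (a' * x)) * ((a' * x)⁻¹ * (g.wperm l * x)) by group, he,
          inv_mul_cancel_left]
      rw [wperm_cons, e]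
      exact mul_mem (Subgroup.subset_closure ⟨k, hk, rfl⟩) hr

/-- Every double coset has a shortest element. -/
lemma exists_minD (K J : Set ℕ) {w : Equiv.Perm (Fin D.nroots)} (hw : w ∈ g.weyl) :
    ∃ x ∈ g.weyl, g.MinD K J x ∧ ∃ a ∈ g.wJ K, ∃ b ∈ g.wJ J, w = a * x * b := by
  classical
  obtain ⟨⟨a, b⟩, hab, hmin⟩ := Finset.exists_min_image
    ((Finset.univ.filter fun v => v ∈ g.wJ K) ×ˢ (Finset.univ.filter fun v => v ∈ g.wJ J))
    (fun p => ninv D (p.1 * w * p.2)) ⟨(1, 1), by simp [one_mem]⟩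
  simp only [Finset.mem_product, Finset.mem_filter, Finset.mem_univ, true_and, Prod.forall]
    at hab hmin
  obtain ⟨ha, hb⟩ := hab
  have hx : a * w * b ∈ g.weyl :=
    mul_mem (mul_mem (g.weyl_le_wJ ha) hw) (g.weyl_le_wJ hb)
  refine ⟨_, hx, ⟨fun q hq => ?_, fun q hq => ?_⟩, a⁻¹, inv_mem ha, b⁻¹, inv_mem hb, by group⟩
  · by_contra hc
    have h1 := g.ninv_mul_rperm (g.weyl_nroot hx) (q := q) (Nat.not_le.1 hc)
    have h2 := hmin a (b * g.rperm q) ⟨ha, mul_mem hb (Subgroup.subset_closure ⟨q, hq, rfl⟩)⟩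
    rw [← mul_assoc] at h2
    omega
  · by_contra hc
    have h1 := g.ninv_mul_rperm (g.weyl_nroot (inv_mem hx)) (q := q) (Nat.not_le.1 hc)
    have h2 := hmin (g.rperm q * a) b ⟨mul_mem (Subgroup.subset_closure ⟨q, hq, rfl⟩) ha, hb⟩
    have hm : g.rperm q ∈ g.weyl := Subgroup.subset_closure ⟨q, rfl⟩
    have e : (a * w * b)⁻¹ * g.rperm q = (g.rperm q * a * w * b)⁻¹ := by
      conv_rhs => rw [mul_assoc (g.rperm q) a w, mul_assoc (g.rperm q) (a * w) b, mul_inv_rev,
        g.rperm_inv]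
    rw [e, g.ninv_inv (by simpa [mul_assoc] using mul_mem hm hx), g.ninv_inv hx] at h1
    omega

/-- The shortest element of a double coset is unique. -/
lemma minD_unique {K J : Set ℕ} {x y : Equiv.Perm (Fin D.nroots)} (hx : x ∈ g.weyl)
    (hy : y ∈ g.weyl) (h : g.MinD K J x) (h' : g.MinD K J y)
    {a b : Equiv.Perm (Fin D.nroots)} (ha : a ∈ g.wJ K) (hb : b ∈ g.wJ J)
    (he : y = a * x * b) : y = x := by
  obtain ⟨a', ha', hm, hr⟩ := g.exists_left_minL hx h.1 ha
  have h1 : y = a' * x := g.minL_eq (mul_mem (g.weyl_le_wJ ha') hx) hm h'.1 (by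
    rw [he, ← mul_assoc ((a' * x)⁻¹)]
    exact mul_mem hr hb)
  have h2 := g.ninv_wJ_mul hx h.2 ha'
  have h3 := g.ninv_wJ_mul hy h'.2 (inv_mem ha')
  rw [← h1] at h2
  rw [show a'⁻¹ * y = x by rw [h1, inv_mul_cancel_left]] at h3
  rw [h1, g.eq_one_of_ninv (g.weyl_le_wJ ha') (by omega), one_mul]

lemma minL_eq_left {K J : Set ℕ} {x w : Equiv.Perm (Fin D.nroots)} (hx : x ∈ g.weyl)
    (h : g.MinL J x) (hw : g.MinL J w) {a b : Equiv.Perm (Fin D.nroots)} (ha : a ∈ g.wJ K)
    (hb : b ∈ g.wJ J) (he : w = a * x * b) : ∃ a' ∈ g.wJ K, w = a' * x := by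
  obtain ⟨a', ha', hm, hr⟩ := g.exists_left_minL hx h ha
  refine ⟨a', ha', g.minL_eq (mul_mem (g.weyl_le_wJ ha') hx) hm hw ?_⟩
  rw [he, ← mul_assoc ((a' * x)⁻¹)]
  exact mul_mem hr hb

/-- A positive root supported in `J` sent to a fundamental root by a shortest element is
fundamental. -/
lemma eq_sroot_of_image {J : Set ℕ} {w : Equiv.Perm (Fin D.nroots)} (hw : w ∈ g.weyl)
    (h : g.MinL J w) {b : Fin D.nroots} (hb : half D ≤ b.val) (hs : g.SuppIn J b)
    {q : Fin D.rank} (he : w b = g.sroot q) :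
    ∃ j : Fin D.rank, (j : ℕ) ∈ J ∧ b = g.sroot j := by
  obtain ⟨l, rfl⟩ := g.exists_wperm hw
  obtain ⟨j, hj⟩ : ∃ j : Fin D.rank, g.co b j ≠ 0 := by
    by_contra hno
    push Not at hno
    have := g.wt_pos hb b.2
    rw [g.wt_eq, Finset.sum_eq_zero fun j hj => by
      rw [hno ⟨j, Finset.mem_range.1 hj⟩, zero_mul]] at this
    exact lt_irrefl _ this
  have hjJ : (j : ℕ) ∈ J := by
    by_contra hc
    exact hj (hs j j.2 hc)
  set c := g.wperm l (g.sroot j) with hc_def
  have hcpos : half D ≤ c.val := h j hjJ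
  have term : ∀ p < D.rank, ∀ i : Fin D.rank, 0 ≤ g.co b i * g.co (g.wperm l (g.sroot i)) p := by
    intro p hp i
    by_cases hi : (i : ℕ) ∈ J
    · exact mul_nonneg (g.co_nonneg b.2 hb i.2) (g.co_nonneg (Fin.isLt _) (h i hi) hp)
    · rw [hs i i.2 hi, zero_mul]
  have hle : ∀ p < D.rank, g.co b j * g.co c p ≤ if (q : ℕ) = p then 1 else 0 := by
    intro p hp
    have h2 := Finset.single_le_sum (s := Finset.univ) (fun i _ => term p hp i) (Finset.mem_univ j)
    rw [← g.co_wperm l b hp, he, ← hc_def] at h2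
    rwa [show g.co (g.sroot q) p = if (q : ℕ) = p then 1 else 0 from g.co_simple q.2 hp] at h2
  have hbj : 1 ≤ g.co b j := by
    have := g.co_nonneg b.2 hb j.2
    omega
  have hz : ∀ p < D.rank, (q : ℕ) ≠ p → g.co c p = 0 := by
    intro p hp hne
    have h2 := hle p hp
    rw [if_neg hne] at h2
    nlinarith [g.co_nonneg c.2 hcpos hp]
  have hq1 : g.co c q = 1 := by
    have h2 := hle q q.2
    rw [if_pos rfl] at h2
    have h3 : g.co c q ≠ 0 := by
      intro h0
      have := g.wt_pos hcpos c.2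
      rw [g.wt_eq, Finset.sum_eq_zero fun p hp => by
        rcases eq_or_ne (q : ℕ) p with rfl | hne
        · rw [h0, zero_mul]
        · rw [hz p (Finset.mem_range.1 hp) hne, zero_mul]] at this
      exact lt_irrefl _ this
    have h4 := g.co_nonneg c.2 hcpos q.2
    have h5 : 1 ≤ g.co c q := by omega
    refine le_antisymm ?_ h5
    nlinarith
  have hcq : c = g.sroot q := g.co_ext fun p hp => by
    rw [show g.co (g.sroot q) p = if (q : ℕ) = p then 1 else 0 from g.co_simple q.2 hp]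
    rcases eq_or_ne (q : ℕ) p with rfl | hne
    · rw [if_pos rfl, hq1]
    · rw [if_neg hne, hz p hp hne]
  exact ⟨j, hjJ, (g.wperm l).injective (by rw [he, ← hcq])⟩

/-- The fundamental roots in `K` coming from fundamental roots in `J`. -/
def meet (K J : Set ℕ) (w : Equiv.Perm (Fin D.nroots)) : Set ℕ :=
  {k | k ∈ K ∧ ∃ j q : Fin D.rank, (q : ℕ) = k ∧ (j : ℕ) ∈ J ∧ w (g.sroot j) = g.sroot q}

/-- Kilmoyer. -/
lemma mem_meet {K J : Set ℕ} {w : Equiv.Perm (Fin D.nroots)} (hw : w ∈ g.weyl)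
    (h : g.MinD K J w) {v : Equiv.Perm (Fin D.nroots)} (hv : v ∈ g.wJ K)
    (hy : w⁻¹ * v * w ∈ g.wJ J) : v ∈ g.wJ (g.meet K J w) := by
  induction' hn : ninv D v using Nat.strong_induction_on with n ih generalizing v
  by_cases h1 : g.MinL K v⁻¹
  · have := g.minL_unique (w := 1) (one_mem _) (fun q _ => by simpa using g.sroot_pos q)
      (v := v⁻¹) (by rwa [one_mul]) (inv_mem hv)
    rw [inv_eq_one.1 this]
    exact one_mem _
  simp only [MinL, not_forall] at h1
  obtain ⟨q, hq, hneg⟩ := h1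
  have hvw := g.weyl_le_wJ hv
  set b := w⁻¹ (g.sroot q) with hb
  have hbpos : half D ≤ b.val := h.2 q hq
  have hbs : g.SuppIn J b := by
    by_contra hns
    have h2 := g.pos_of_not_supp (inv_mem hy) hbpos hns
    have e : (w⁻¹ * v * w)⁻¹ b = w⁻¹ (v⁻¹ (g.sroot q)) := by
      simp [hb]
    rw [e] at h2
    exact hneg ((g.minL_pos (inv_mem hw) h.2
      ((g.suppIn_wJ (inv_mem hv) _).2 (g.suppIn_sroot q hq))).1 h2)
  have hwb : w b = g.sroot q := Equiv.apply_symm_apply _ _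
  obtain ⟨j, hj, hbj⟩ := g.eq_sroot_of_image hw h.1 hbpos hbs hwb
  have hqm : (q : ℕ) ∈ g.meet K J w := ⟨hq, j, q, rfl, hj, hbj ▸ hwb⟩
  obtain ⟨l, rfl⟩ := g.exists_wperm hw
  have hconj := g.wperm_conj (l := l) (hbj ▸ hwb)
  have hlt : ninv D (g.rperm q * v) < n := by
    have h3 := (g.ninv_rperm_mul q (g.rperm q * v)
      (g.weyl_nroot (mul_mem (Subgroup.subset_closure ⟨q, rfl⟩) hvw))).2 (by
        show half D ≤ ((g.rperm q * v)⁻¹ (g.sroot q)).val
        rw [mul_inv_rev, g.rperm_inv, Equiv.Perm.mul_apply, g.rperm_sroot,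
          g.weyl_nroot (inv_mem hvw), g.nroot_pos_iff]
        exact Nat.not_le.1 hneg)
    rw [← mul_assoc, g.rperm_mul_self, one_mul, hn] at h3
    omega
  have hy' : (g.wperm l)⁻¹ * (g.rperm q * v) * g.wperm l ∈ g.wJ J := by
    have e : (g.wperm l)⁻¹ * (g.rperm q * v) * g.wperm l =
        g.rperm j * ((g.wperm l)⁻¹ * v * g.wperm l) := by
      have e2 : (g.wperm l)⁻¹ * g.rperm q = g.rperm j * (g.wperm l)⁻¹ := by
        rw [eq_mul_inv_iff_mul_eq, mul_assoc, inv_mul_eq_iff_eq_mul]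
        exact hconj.symm
      rw [← mul_assoc, e2]
      group
    rw [e]
    exact mul_mem (Subgroup.subset_closure ⟨j, hj, rfl⟩) hy
  have hv' := ih _ hlt (mul_mem (Subgroup.subset_closure ⟨q, hq, rfl⟩) hv) hy' rfl
  have := mul_mem (Subgroup.subset_closure ⟨q, hqm, rfl⟩ : g.rperm q ∈ g.wJ (g.meet K J _)) hv'
  rwa [← mul_assoc, g.rperm_mul_self, one_mul] at this

/-- `w⁻¹` sends to negative roots the positive roots outside `K`, and no other. -/
def IsOpp (K : Set ℕ) (w : Equiv.Perm (Fin D.nroots)) : Prop :=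
  ∀ a : Fin D.nroots, half D ≤ a.val → ((w⁻¹ a).val < half D ↔ ¬ g.SuppIn K a)

lemma exists_opp (K : Set ℕ) : ∃ w ∈ g.weyl, g.IsOpp K w := by
  obtain ⟨l0, hl0⟩ := g.exists_longest
  obtain ⟨lK, hlK, hneg⟩ := g.exists_longest_J K
  have hK : g.wperm lK ∈ g.wJ K := g.wperm_mem_wJ hlK
  refine ⟨(g.wperm l0 * (g.wperm lK)⁻¹)⁻¹,
    inv_mem (mul_mem (g.wperm_mem _) (inv_mem (g.wperm_mem _))), fun a ha => ?_⟩
  rw [inv_inv, Equiv.Perm.mul_apply]
  by_cases hs : g.SuppIn K a
  · have h1 := hneg a ha hs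
    have h2 := hl0 _ ((g.nroot_pos_iff _).2 h1)
    rw [g.wperm_nroot] at h2
    have h3 := g.nroot_pos_iff (g.wperm l0 ((g.wperm lK)⁻¹ a))
    simp only [hs, not_true_eq_false, iff_false]
    omega
  · have h1 := g.pos_of_not_supp (inv_mem hK) ha hs
    exact iff_of_true (hl0 _ h1) hs

lemma opp_unique {K : Set ℕ} {w w' : Equiv.Perm (Fin D.nroots)} (hw : w ∈ g.weyl)
    (hw' : w' ∈ g.weyl) (h : g.IsOpp K w) (h' : g.IsOpp K w') : w' = w := by
  have key : w'⁻¹ * w = 1 := g.eq_one_of_pos (mul_mem (inv_mem hw') hw) fun b hb => by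
    rw [Equiv.Perm.mul_apply]
    set a := w b with ha
    have hba : w⁻¹ a = b := Equiv.symm_apply_apply _ _
    by_cases hpos : half D ≤ a.val
    · have h1 := h a hpos
      rw [hba] at h1
      have hs : g.SuppIn K a := by
        by_contra hc
        have := h1.2 hc; omega
      by_contra hc
      exact (h' a hpos).1 (Nat.not_le.1 hc) hs
    · have hna : half D ≤ (g.nroot a).val := (g.nroot_pos_iff a).2 (Nat.not_le.1 hpos)
      have h1 := h _ hna
      rw [g.weyl_nroot (inv_mem hw), hba] at h1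
      have hnb : (g.nroot b).val < half D := by
        by_contra hc
        have := (g.nroot_pos_iff b).1 (Nat.not_lt.1 hc); omega
      have h2 := (h' _ hna).2 (h1.1 hnb)
      rw [g.weyl_nroot (inv_mem hw')] at h2
      by_contra hc
      have := (g.nroot_pos_iff (w'⁻¹ a)).2 (Nat.not_le.1 hc)
      omega
  exact inv_mul_eq_one.1 key

lemma opp_minL_inv {K : Set ℕ} {w : Equiv.Perm (Fin D.nroots)} (h : g.IsOpp K w) :
    g.MinL K w⁻¹ := fun q hq => by
  by_contra hc
  exact (h _ (g.sroot_pos q)).1 (Nat.not_le.1 hc) (g.suppIn_sroot q hq)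

lemma opp_pos_supp {K : Set ℕ} {w : Equiv.Perm (Fin D.nroots)} (h : g.IsOpp K w)
    {a : Fin D.nroots} (ha : half D ≤ a.val) (hw : half D ≤ (w⁻¹ a).val) : g.SuppIn K a := by
  by_contra hc
  have := (h a ha).2 hc
  omega

lemma suppIn_range (a : Fin D.nroots) : g.SuppIn {i | i < D.rank} a :=
  fun _ hq hn => absurd hq hn

/-- The fundamental ascents of the opposite element map onto `K`. -/
lemma opp_meet {K : Set ℕ} {w : Equiv.Perm (Fin D.nroots)} (hw : w ∈ g.weyl) (h : g.IsOpp K w)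
    {q : Fin D.rank} (hq : (q : ℕ) ∈ K) :
    ∃ j : Fin D.rank, w (g.sroot j) = g.sroot q := by
  obtain ⟨l, rfl⟩ := g.exists_wperm hw
  set M : Set ℕ := {j | ∃ hj : j < D.rank, half D ≤ (g.wperm l (g.sroot ⟨j, hj⟩)).val}
  have hM : g.MinL M (g.wperm l) := fun j ⟨_, hj⟩ => hj
  set b := (g.wperm l)⁻¹ (g.sroot q) with hb
  have hbpos : half D ≤ b.val := g.opp_minL_inv h q hq
  have hwb : g.wperm l b = g.sroot q := Equiv.apply_symm_apply _ _
  have hbs : g.SuppIn M b := by
    intro j hj hjM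
    by_contra hne
    -- some coordinate outside `K` would be negative
    set c := g.wperm l (g.sroot ⟨j, hj⟩) with hc
    have hcneg : c.val < half D := by
      by_contra h1
      exact hjM ⟨hj, Nat.not_lt.1 h1⟩
    have hns : ¬ g.SuppIn K c := by
      intro hs
      have h1 := (g.minL_pos (inv_mem hw) (g.opp_minL_inv h) hs).1
        (by rw [hc, inv_apply']; exact g.sroot_pos _)
      omega
    simp only [SuppIn, not_forall] at hns
    obtain ⟨p, hp, hpK, hcp⟩ := hns
    have hsum := g.co_wperm l b hp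
    rw [hwb, show g.co (g.sroot q) p = if (q : ℕ) = p then 1 else 0 from g.co_simple q.2 hp,
      if_neg fun e : (q : ℕ) = p => hpK (by rw [← e]; exact hq)] at hsum
    have hterm : ∀ i : Fin D.rank, g.co b i * g.co (g.wperm l (g.sroot i)) p ≤ 0 := by
      intro i
      refine mul_nonpos_of_nonneg_of_nonpos (g.co_nonneg b.2 hbpos i.2) ?_
      set e := g.wperm l (g.sroot i) with he
      by_cases hep : half D ≤ e.val
      · refine (g.opp_pos_supp h hep ?_ p hp hpK).le
        rw [he, inv_apply']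
        exact g.sroot_pos i
      · have h1 := g.co_nonneg (g.nroot e).2 ((g.nroot_pos_iff e).2 (Nat.not_le.1 hep)) hp
        rw [show g.co (g.nroot e) p = - g.co e p from g.co_neg e.2 hp] at h1
        omega
    have h0 := (Finset.sum_eq_zero_iff_of_nonpos fun i _ => hterm i).1 hsum.symm ⟨j, hj⟩
      (Finset.mem_univ _)
    exact (mul_ne_zero hne hcp) h0
  obtain ⟨j, -, hj⟩ := g.eq_sroot_of_image hw hM hbpos hbs hwb
  exact ⟨j, by rw [← hj, hwb]⟩

/-- The opposite element is characterised by its ascents. -/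
lemma isOpp_of_ascents {K : Set ℕ} {w : Equiv.Perm (Fin D.nroots)} (hw : w ∈ g.weyl)
    (h : g.MinL K w⁻¹)
    (hA : ∀ j : Fin D.rank, half D ≤ (w (g.sroot j)).val → g.SuppIn K (w (g.sroot j))) :
    g.IsOpp K w := by
  obtain ⟨l, rfl⟩ := g.exists_wperm hw
  intro a ha
  constructor
  · intro hneg hs
    have := (g.minL_pos (inv_mem hw) h hs).2 ha
    omega
  · intro hns
    by_contra hc
    set b := (g.wperm l)⁻¹ a with hb
    simp only [SuppIn, not_forall] at hns
    obtain ⟨p, hp, hpK, hne⟩ := hns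
    have hsum := g.co_wperm l b hp
    rw [hb, apply_inv', ← hb] at hsum
    have hle : g.co a p ≤ 0 := by
      rw [hsum]
      refine Finset.sum_nonpos fun i _ => mul_nonpos_of_nonneg_of_nonpos
        (g.co_nonneg b.2 (Nat.not_lt.1 hc) i.2) ?_
      set e := g.wperm l (g.sroot i) with he
      by_cases hep : half D ≤ e.val
      · exact (hA i hep p hp hpK).le
      · have h1 := g.co_nonneg (g.nroot e).2 ((g.nroot_pos_iff e).2 (Nat.not_le.1 hep)) hp
        rw [show g.co (g.nroot e) p = - g.co e p from g.co_neg e.2 hp] at h1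
        omega
    have := g.co_nonneg a.2 ha hp
    omega

end Good

end CfsgLib.Chev
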