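import Mathlib
import Cfsg.Prelude.Def_ParabolicCharacters
import Cfsg.Agent.Lib.Chev.CardGroup
import Cfsg.Agent.Lib.KnownB.ChevWeylCosets

/-!
Cosets of standard parabolic subgroups of a Chevalley group as unions of Bruhat cells.
-/

set_option autoImplicit false

namespace CfsgLib.Chev

open Cfsg.Lie Matrix

variable {D : ChevalleyDatum} {F : Type*} [Field F]

/-- The Borel subgroup inside the group. -/
abbrev borelIn (D : ChevalleyDatum) (F : Type*) [Field F] : Subgroup ↥(D.group F) :=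
  (D.borelSubgroup F).subgroupOf (D.group F)

lemma borelIn_le_parabolicIn (J : Finset ℕ) : borelIn D F ≤ D.parabolicIn F J :=
  fun _ hx => Subgroup.mem_subgroupOf.2 (Subgroup.mem_sup_left hx)

/-- The projection of `G/B` onto `G/P_J`. -/
noncomputable def projQ (J : Finset ℕ) (c : ↥(D.group F) ⧸ borelIn D F) :
    ↥(D.group F) ⧸ D.parabolicIn F J :=
  ((c.out : ↥(D.group F)) : ↥(D.group F) ⧸ D.parabolicIn F J)

lemma projQ_mk (J : Finset ℕ) (a : ↥(D.group F)) :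
    projQ J (a : ↥(D.group F) ⧸ borelIn D F) = (a : ↥(D.group F) ⧸ D.parabolicIn F J) := by
  rw [projQ, QuotientGroup.eq]
  exact borelIn_le_parabolicIn J (QuotientGroup.eq.1 (QuotientGroup.out_eq' _))

lemma projQ_smul (J : Finset ℕ) (x : ↥(D.group F)) (c : ↥(D.group F) ⧸ borelIn D F) :
    projQ J (x • c) = x • projQ J c := by
  induction c using QuotientGroup.induction_on with
  | _ a =>
    rw [MulAction.Quotient.smul_coe, smul_eq_mul, projQ_mk, projQ_mk,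
      MulAction.Quotient.smul_coe, smul_eq_mul]

namespace Good

variable (g : Good D)
include g

open Classical in
/-- A representative of a Weyl group element. -/
noncomputable def nW (F : Type*) [Field F] (w : Equiv.Perm (Fin D.nroots)) : ↥(D.group F) :=
  if h : w ∈ g.weyl then
    ⟨g.wordN (g.exists_wperm h).choose, g.monomial_le_group (g.wordN_mem _)⟩
  else 1

lemma acts_nW {w : Equiv.Perm (Fin D.nroots)} (hw : w ∈ g.weyl) :
    g.Acts (g.nW F w : GL D.Idx F) w := by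
  rw [nW, dif_pos hw]
  have h := g.acts_wordN (F := F) (g.exists_wperm hw).choose
  rwa [(g.exists_wperm hw).choose_spec] at h

lemma nW_mem_monomial {w : Equiv.Perm (Fin D.nroots)} (hw : w ∈ g.weyl) :
    (g.nW F w : GL D.Idx F) ∈ D.monomialSubgroup F := by
  rw [nW, dif_pos hw]
  exact g.wordN_mem _

/-- Monomial elements with the same permutation agree modulo `H`. -/
lemma acts_diag {n n' : GL D.Idx F} (hn : n ∈ D.monomialSubgroup F)
    (hn' : n' ∈ D.monomialSubgroup F) {π : Equiv.Perm (Fin D.nroots)} (h : g.Acts n π)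
    (h' : g.Acts n' π) : n⁻¹ * n' ∈ D.diagonalSubgroup F := by
  let z : ↥(D.monomialSubgroup F) := ⟨n⁻¹ * n', mul_mem (inv_mem hn) hn'⟩
  have ha : g.Acts (z : GL D.Idx F) (π⁻¹ * π) := g.acts_mul (g.acts_inv h) h'
  rw [inv_mul_cancel] at ha
  have hk : z ∈ (g.rootAct (F := F)).ker := by
    rw [MonoidHom.mem_ker]
    exact Subtype.ext (g.rootAct_eq ha)
  rw [g.rootAct_ker, Subgroup.mem_subgroupOf] at hk
  exact hk

lemma nW_wperm (l : List (Fin D.rank)) :
    (g.nW F (g.wperm l) : GL D.Idx F)⁻¹ * g.wordN l ∈ D.diagonalSubgroup F :=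
  g.acts_diag (g.nW_mem_monomial (g.wperm_mem l)) (g.wordN_mem l) (g.acts_nW (g.wperm_mem l))
    (g.acts_wordN l)

lemma nW_mul {x y : Equiv.Perm (Fin D.nroots)} (hx : x ∈ g.weyl) (hy : y ∈ g.weyl) :
    (g.nW F (x * y))⁻¹ * (g.nW F x * g.nW F y) ∈ borelIn D F :=
  Subgroup.mem_subgroupOf.2 (Subgroup.mem_sup_right (g.acts_diag (g.nW_mem_monomial (mul_mem hx hy))
    (mul_mem (g.nW_mem_monomial hx) (g.nW_mem_monomial hy)) (g.acts_nW (mul_mem hx hy))
    (g.acts_mul (g.acts_nW hx) (g.acts_nW hy))))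

lemma nW_one : g.nW F 1 ∈ borelIn D F := by
  have h := g.nW_wperm (F := F) []
  rw [wperm_nil] at h
  rw [show g.wordN (F := F) [] = 1 from rfl, mul_one] at h
  exact Subgroup.mem_subgroupOf.2 (Subgroup.mem_sup_right (inv_mem_iff.1 h))

/-- The Bruhat cell of a Weyl group element. -/
def cellW (F : Type*) [Field F] (w : Equiv.Perm (Fin D.nroots)) : Set ↥(D.group F) :=
  {x | ∃ b ∈ borelIn D F, ∃ c ∈ borelIn D F, x = b * g.nW F w * c}

lemma nW_mem_cellW (w : Equiv.Perm (Fin D.nroots)) : g.nW F w ∈ g.cellW F w :=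
  ⟨1, one_mem _, 1, one_mem _, by simp⟩

lemma mul_mem_cellW {w : Equiv.Perm (Fin D.nroots)} {x b c : ↥(D.group F)}
    (hb : b ∈ borelIn D F) (hc' : c ∈ borelIn D F) (hx : x ∈ g.cellW F w) :
    b * x * c ∈ g.cellW F w := by
  obtain ⟨b', hb', c', hc'', rfl⟩ := hx
  exact ⟨b * b', mul_mem hb hb', c' * c, mul_mem hc'' hc', by group⟩

lemma exists_cellW (hc : HasComm D) (x : ↥(D.group F)) :
    ∃ w ∈ g.weyl, x ∈ g.cellW F w := by
  obtain ⟨b, hb, n, hn, π, hπw, hπ, u, hu, he⟩ := g.exists_canonical hc x.2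
  have hd : (g.nW F π : GL D.Idx F)⁻¹ * n ∈ D.borelSubgroup F := Subgroup.mem_sup_right
    (g.acts_diag (g.nW_mem_monomial hπw) hn (g.acts_nW hπw) hπ)
  have hu' : u ∈ D.borelSubgroup F := Subgroup.mem_sup_left (g.minus_le_pos π hu)
  refine ⟨π, hπw, ⟨b, g.borel_le_group hb⟩, Subgroup.mem_subgroupOf.2 hb,
    ⟨_, g.borel_le_group (mul_mem hd hu')⟩, Subgroup.mem_subgroupOf.2 (mul_mem hd hu'),
    Subtype.ext ?_⟩
  show (x : GL D.Idx F) = b * g.nW F π * ((g.nW F π : GL D.Idx F)⁻¹ * n * u)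
  rw [he]
  group

lemma cellW_unique (hc : HasComm D) {x : ↥(D.group F)} {v w : Equiv.Perm (Fin D.nroots)}
    (hv : v ∈ g.weyl) (hw : w ∈ g.weyl) (h : x ∈ g.cellW F v) (h' : x ∈ g.cellW F w) :
    v = w := by
  obtain ⟨b, hb, c, hc1, rfl⟩ := h
  obtain ⟨b', hb', c', hc2, he⟩ := h'
  have h1 := g.canonical_coset hc (Subgroup.mem_subgroupOf.1 hb) (Subgroup.mem_subgroupOf.1 hb')
    (g.nW_mem_monomial hv) (g.nW_mem_monomial hw) (Subgroup.mem_subgroupOf.1 hc1)
    (Subgroup.mem_subgroupOf.1 hc2) (congrArg Subtype.val he)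
  exact inv_mul_eq_one.1
    (g.acts_unique (g.acts_mul (g.acts_inv (g.acts_nW hv)) (g.acts_nW hw)) (g.acts_diagonal h1))

lemma exists_red {w : Equiv.Perm (Fin D.nroots)} (hw : w ∈ g.weyl) :
    ∃ l, g.wperm l = w ∧ l.length = ninv D w := by
  obtain ⟨l, rfl⟩ := g.exists_wperm hw
  obtain ⟨l', hr, he, -⟩ := exists_isRed (s := g.wS) l
  have e : g.wperm l = g.wperm l' := by rw [← g.coe_wordVal, ← he, g.coe_wordVal]
  exact ⟨l', e.symm, by rw [e, g.isRed_iff_ninv.1 hr]⟩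

lemma ninv_wperm_mul_le (l : List (Fin D.rank)) {y : Equiv.Perm (Fin D.nroots)}
    (hy : y ∈ g.weyl) : ninv D (g.wperm l * y) ≤ l.length + ninv D y := by
  induction l with
  | nil => simp [wperm_nil]
  | cons i l ih =>
    have := (g.ninv_rperm_mul i _ (g.weyl_nroot (mul_mem (g.wperm_mem l) hy))).1
    rw [wperm_cons, mul_assoc, List.length_cons]
    omega

/-- Cells multiply when lengths add. -/
lemma cellW_mul (hc : HasComm D) {x y : Equiv.Perm (Fin D.nroots)} (hx : x ∈ g.weyl)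
    (hy : y ∈ g.weyl) (hl : ninv D (x * y) = ninv D x + ninv D y) {a b : ↥(D.group F)}
    (ha : a ∈ g.cellW F x) (hb : b ∈ g.cellW F y) : a * b ∈ g.cellW F (x * y) := by
  obtain ⟨l, rfl, hlen⟩ := g.exists_red hx
  have key : ∀ l : List (Fin D.rank), ninv D (g.wperm l * y) = l.length + ninv D y →
      ∀ c ∈ D.borelSubgroup F, ∃ p ∈ D.borelSubgroup F, ∃ r ∈ D.borelSubgroup F,
        g.wordN l * c * (g.nW F y : GL D.Idx F) =
          p * (g.wordN l * (g.nW F y : GL D.Idx F)) * r := by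
    intro l
    induction l with
    | nil => exact fun _ c hc' => ⟨c, hc', 1, one_mem _, by simp [wordN]⟩
    | cons i l ih =>
      intro hl c hc'
      have hz := mul_mem (g.wperm_mem l) hy
      have h1 := g.ninv_rperm_mul i _ (g.weyl_nroot hz)
      have h2 := g.ninv_wperm_mul_le l hy
      rw [wperm_cons, mul_assoc, List.length_cons] at hl
      have hpos : half D ≤ ((g.wperm l * y)⁻¹ (g.sroot i)).val := by
        by_contra hneg
        have hs : g.rperm i * (g.wperm l * y) ∈ g.weyl :=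
          mul_mem (Subgroup.subset_closure ⟨i, rfl⟩) hz
        have h3 := (g.ninv_rperm_mul i _ (g.weyl_nroot hs)).2 (by
          show half D ≤ ((g.rperm i * (g.wperm l * y))⁻¹ (g.sroot i)).val
          rw [_root_.mul_inv_rev, g.rperm_inv, Equiv.Perm.mul_apply, g.rperm_sroot,
            g.weyl_nroot (inv_mem hz), g.nroot_pos_iff]
          exact Nat.not_le.1 hneg)
        rw [← mul_assoc (g.rperm i) (g.rperm i), g.rperm_mul_self, one_mul] at h3
        omega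
      have hl' : ninv D (g.wperm l * y) = l.length + ninv D y := by omega
      obtain ⟨p, hp, r, hr, he⟩ := ih hl' c hc'
      obtain ⟨u, hu, t, h, hh, rfl⟩ := g.borel_decomp hc (i := i) hp
      set n := g.wordN l * (g.nW F y : GL D.Idx F) with hn_def
      have hnN : n ∈ D.monomialSubgroup F := mul_mem (g.wordN_mem l) (g.nW_mem_monomial hy)
      have hhn : g.Acts (h * n) (g.wperm l * y) := by
        have := g.acts_mul (g.acts_diagonal hh) (g.acts_mul (g.acts_wordN l) (g.acts_nW hy))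
        rwa [one_mul] at this
      obtain ⟨z, hz', hze⟩ := g.xG_mul_of_pos hhn hpos t
      have hk : n⁻¹ * h * n ∈ D.borelSubgroup F := by
        have := g.diag_conj (inv_mem hnN) hh
        rw [inv_inv] at this
        exact Subgroup.mem_sup_right this
      refine ⟨g.nI i * u * (g.nI i)⁻¹, Subgroup.mem_sup_left (g.posExcept_le_pos i
        (g.nI_conj_posExcept i (Subgroup.mem_map_of_mem _ hu))), n⁻¹ * h * n * z * r,
        mul_mem (mul_mem hk hz') hr, ?_⟩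
      calc g.wordN (i :: l) * c * (g.nW F y : GL D.Idx F)
          = g.nI i * (g.wordN l * c * (g.nW F y : GL D.Idx F)) := by
            rw [g.wordN_cons]; group
        _ = g.nI i * u * (g.nI i)⁻¹ * g.nI i * (g.xG (D.simple i) t * (h * n)) * r := by
            rw [he]; group
        _ = _ := by rw [hze, g.wordN_cons, mul_assoc (g.nI i) (g.wordN l), ← hn_def]; group
  obtain ⟨b1, hb1, c1, hc1, rfl⟩ := ha
  obtain ⟨b2, hb2, c2, hc2, rfl⟩ := hb
  have hd : g.wordN l = (g.nW F (g.wperm l) : GL D.Idx F) *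
      ((g.nW F (g.wperm l) : GL D.Idx F)⁻¹ * g.wordN l) := by group
  set d := (g.nW F (g.wperm l) : GL D.Idx F)⁻¹ * g.wordN (F := F) l with hd_def
  have hdB : d ∈ D.borelSubgroup F := Subgroup.mem_sup_right (g.nW_wperm l)
  obtain ⟨p, hp, r, hr, he⟩ := key l (by omega) (d⁻¹ * ((c1 : GL D.Idx F) * b2))
    (mul_mem (inv_mem hdB) (mul_mem (Subgroup.mem_subgroupOf.1 hc1) (Subgroup.mem_subgroupOf.1 hb2)))
  set m := (g.nW F (g.wperm l * y) : GL D.Idx F)⁻¹ * (g.wordN l * (g.nW F y : GL D.Idx F))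
  have hm : m ∈ D.borelSubgroup F := Subgroup.mem_sup_right
    (g.acts_diag (g.nW_mem_monomial (mul_mem hx hy))
      (mul_mem (g.wordN_mem l) (g.nW_mem_monomial hy)) (g.acts_nW (mul_mem hx hy))
      (g.acts_mul (g.acts_wordN l) (g.acts_nW hy)))
  refine ⟨⟨(b1 : GL D.Idx F) * p, mul_mem b1.2 (g.borel_le_group hp)⟩,
    Subgroup.mem_subgroupOf.2 (mul_mem (Subgroup.mem_subgroupOf.1 hb1) hp),
    ⟨m * r * (c2 : GL D.Idx F), mul_mem (g.borel_le_group (mul_mem hm hr)) c2.2⟩,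
    Subgroup.mem_subgroupOf.2 (mul_mem (mul_mem hm hr) (Subgroup.mem_subgroupOf.1 hc2)),
    Subtype.ext ?_⟩
  show (b1 : GL D.Idx F) * g.nW F (g.wperm l) * c1 * ((b2 : GL D.Idx F) * g.nW F y * c2) =
    (b1 : GL D.Idx F) * p * g.nW F (g.wperm l * y) * (m * r * c2)
  calc (b1 : GL D.Idx F) * (g.nW F (g.wperm l) : GL D.Idx F) * (c1 : GL D.Idx F) *
        ((b2 : GL D.Idx F) * (g.nW F y : GL D.Idx F) * (c2 : GL D.Idx F))
      = (b1 : GL D.Idx F) * (g.wordN l * (d⁻¹ * ((c1 : GL D.Idx F) * (b2 : GL D.Idx F))) *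
          (g.nW F y : GL D.Idx F)) * (c2 : GL D.Idx F) := by
        rw [hd_def]; group
    _ = (b1 : GL D.Idx F) * (p * (g.wordN l * (g.nW F y : GL D.Idx F)) * r) *
          (c2 : GL D.Idx F) := by rw [he]
    _ = _ := by simp only [m]; group

lemma nW_mul_mem_cellW (hc : HasComm D) {x y : Equiv.Perm (Fin D.nroots)} (hx : x ∈ g.weyl)
    (hy : y ∈ g.weyl) {b : ↥(D.group F)} (hb : b ∈ g.cellW F y)
    (hl : ninv D (x * y) = ninv D x + ninv D y) : g.nW F x * b ∈ g.cellW F (x * y) :=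
  g.cellW_mul hc hx hy hl (g.nW_mem_cellW x) hb

lemma inv_mem_cellW {w : Equiv.Perm (Fin D.nroots)} (hw : w ∈ g.weyl) {x : ↥(D.group F)}
    (hx : x ∈ g.cellW F w) : x⁻¹ ∈ g.cellW F w⁻¹ := by
  obtain ⟨b, hb, c, hc', rfl⟩ := hx
  have h := g.nW_mul (F := F) hw (inv_mem hw)
  rw [mul_inv_cancel] at h
  have h2 : g.nW F w * g.nW F w⁻¹ ∈ borelIn D F := by
    have := mul_mem (g.nW_one (F := F)) h
    rwa [← mul_assoc, mul_inv_cancel, one_mul] at this
  refine ⟨c⁻¹, inv_mem hc', (g.nW F w * g.nW F w⁻¹)⁻¹ * b⁻¹, mul_mem (inv_mem h2) (inv_mem hb), ?_⟩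
  group

lemma nW_mem_parabolicIn {J : Finset ℕ} {v : Equiv.Perm (Fin D.nroots)}
    (hv : v ∈ g.wJ (J : Set ℕ)) : g.nW F v ∈ D.parabolicIn F J := by
  obtain ⟨l, hl, rfl⟩ := g.exists_wperm_J hv
  clear hv
  have h1 : g.wordN (F := F) l ∈ D.parabolicSubgroup F (J : Set ℕ) := by
    induction l with
    | nil => exact one_mem _
    | cons i l ih =>
      rw [wordN_cons]
      exact mul_mem (g.nI_mem_parabolic (hl i (by simp)))
        (ih fun k hk => hl k (List.mem_cons_of_mem _ hk))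
  have h2 : (g.nW F (g.wperm l) : GL D.Idx F)⁻¹ * g.wordN l ∈
      D.parabolicSubgroup F (J : Set ℕ) :=
    Subgroup.mem_sup_left (Subgroup.mem_sup_right (g.nW_wperm l))
  refine Subgroup.mem_subgroupOf.2 ?_
  have := mul_mem h1 (inv_mem h2)
  simpa [mul_assoc] using this

/-- `P_J = B W_J B`. -/
theorem mem_parabolicIn_iff (hc : HasComm D) {J : Finset ℕ} {x : ↥(D.group F)}
    {w : Equiv.Perm (Fin D.nroots)} (hw : w ∈ g.weyl) (hx : x ∈ g.cellW F w) :
    x ∈ D.parabolicIn F J ↔ w ∈ g.wJ (J : Set ℕ) := by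
  constructor
  · intro hxJ
    let P := g.bnPair (F := F) hc
    let T : Set ↥(D.group F) :=
      {s | ∃ i : Fin D.rank, (i : ℕ) ∈ J ∧ (s : GL D.Idx F) = g.nI i}
    have hT : T ⊆ P.S := fun s ⟨i, _, hi⟩ => g.mem_bnS.2 ⟨i, hi⟩
    have hle : D.parabolicSubgroup F (J : Set ℕ) ≤ (P.parabolic T).map (D.group F).subtype := by
      refine sup_le (fun b hb => ?_) ((Subgroup.closure_le _).2 ?_)
      · exact ⟨⟨b, g.borel_le_group hb⟩, Subgroup.mem_sup_left (Subgroup.mem_subgroupOf.2 hb), rfl⟩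
      · rintro s ⟨j, hj, hjr, hs⟩
        have e : s = g.nI ⟨j, hjr⟩ := Units.ext (by rw [hs, nI, g.coe_nG]; simp)
        exact ⟨⟨s, e ▸ g.monomial_le_group (g.nI_mem _)⟩,
          Subgroup.mem_sup_right (Subgroup.subset_closure ⟨⟨j, hjr⟩, hj, e⟩), rfl⟩
    obtain ⟨y, hy, hye⟩ := hle (Subgroup.mem_subgroupOf.1 hxJ)
    obtain rfl : y = x := Subtype.ext hye
    obtain ⟨L, hL, hcell⟩ := (BN.mem_parabolic P hT).1 hy
    have hex : ∀ L : List ↥(D.group F), (∀ s ∈ L, s ∈ T) → ∃ l : List (Fin D.rank),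
        (∀ i ∈ l, (i : ℕ) ∈ J) ∧ (L.prod : GL D.Idx F) = g.wordN l := by
      intro L
      induction L with
      | nil => exact fun _ => ⟨[], by simp, by simp [wordN]⟩
      | cons s L ih =>
        intro h
        obtain ⟨l, hl, he⟩ := ih fun k hk => h k (List.mem_cons_of_mem _ hk)
        obtain ⟨i, hi, hs⟩ := h s (by simp)
        refine ⟨i :: l, by simpa [hi] using hl, ?_⟩
        rw [List.prod_cons, Subgroup.coe_mul, he, hs, g.wordN_cons]
    obtain ⟨l, hl, hle'⟩ := hex L hL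
    have h1 : (g.nW F (g.wperm l))⁻¹ * L.prod ∈ borelIn D F := by
      refine Subgroup.mem_subgroupOf.2 ?_
      rw [Subgroup.coe_mul, Subgroup.coe_inv, hle']
      exact Subgroup.mem_sup_right (g.nW_wperm l)
    have h2 : L.prod ∈ g.cellW F (g.wperm l) :=
      ⟨1, one_mem _, _, h1, by group⟩
    obtain ⟨p, hp, q, hq, he⟩ := (BN.mem_cell P).1 hcell
    have h3 : y ∈ g.cellW F (g.wperm l) := he ▸ g.mul_mem_cellW hp hq h2
    rw [g.cellW_unique hc hw (g.wperm_mem l) hx h3]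
    exact g.wperm_mem_wJ hl
  · rintro hv
    obtain ⟨b, hb, c, hc', rfl⟩ := hx
    exact mul_mem (mul_mem (borelIn_le_parabolicIn J hb) (g.nW_mem_parabolicIn hv))
      (borelIn_le_parabolicIn J hc')

lemma mem_borelIn_iff (hc : HasComm D) {x : ↥(D.group F)}
    {w : Equiv.Perm (Fin D.nroots)} (hw : w ∈ g.weyl) (hx : x ∈ g.cellW F w) :
    x ∈ borelIn D F ↔ w = 1 := by
  constructor
  · intro hb
    refine g.cellW_unique hc hw (one_mem _) hx ⟨1, one_mem _, (g.nW F 1)⁻¹ * x,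
      mul_mem (inv_mem g.nW_one) hb, by group⟩
  · rintro rfl
    obtain ⟨b, hb, c, hc', rfl⟩ := hx
    exact mul_mem (mul_mem hb g.nW_one) hc'

/-- The cell of `w` in `G/B`. -/
def cellQ (F : Type*) [Field F] (w : Equiv.Perm (Fin D.nroots)) :
    Set (↥(D.group F) ⧸ borelIn D F) :=
  (fun a : ↥(D.group F) => (a : ↥(D.group F) ⧸ borelIn D F)) '' g.cellW F w

lemma mk_mem_cellQ {w : Equiv.Perm (Fin D.nroots)} {a : ↥(D.group F)} :
    (a : ↥(D.group F) ⧸ borelIn D F) ∈ g.cellQ F w ↔ a ∈ g.cellW F w := by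
  refine ⟨fun ⟨b, hb, he⟩ => ?_, fun h => ⟨a, h, rfl⟩⟩
  have := g.mul_mem_cellW (one_mem _) (QuotientGroup.eq.1 he) hb
  rwa [one_mul, mul_inv_cancel_left] at this

/-- Two points of cells over the same point of `G/P_J`. -/
lemma projQ_eq (hc : HasComm D) {J : Finset ℕ} {v w : Equiv.Perm (Fin D.nroots)}
    (hv : v ∈ g.weyl) (hw : w ∈ g.weyl) {a b : ↥(D.group F)} (ha : a ∈ g.cellW F v)
    (hb : b ∈ g.cellW F w) (hm : g.MinL (J : Set ℕ) v)
    (he : (a : ↥(D.group F) ⧸ D.parabolicIn F J) = (b : ↥(D.group F) ⧸ D.parabolicIn F J)) :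
    v⁻¹ * w ∈ g.wJ (J : Set ℕ) ∧
      ∀ y ∈ g.weyl, a⁻¹ * b ∈ g.cellW F y → w = v * y := by
  have hp := QuotientGroup.eq.1 he
  obtain ⟨y, hy, hyc⟩ := g.exists_cellW hc (a⁻¹ * b)
  have hyJ := (g.mem_parabolicIn_iff hc hy hyc).1 hp
  have h1 := g.cellW_mul hc hv hy (g.ninv_mul_wJ hv hm hyJ) ha hyc
  rw [mul_inv_cancel_left] at h1
  have h2 := g.cellW_unique hc hw (mul_mem hv hy) hb h1
  refine ⟨by rw [h2, inv_mul_cancel_left]; exact hyJ, fun z hz hzc => ?_⟩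
  rw [h2, g.cellW_unique hc hy hz hyc hzc]

/-- A cell of a minimal element maps injectively into `G/P_J`. -/
theorem projQ_inj (hc : HasComm D) {J : Finset ℕ} {v w : Equiv.Perm (Fin D.nroots)}
    (hv : v ∈ g.weyl) (hw : w ∈ g.weyl) (hmv : g.MinL (J : Set ℕ) v)
    (hmw : g.MinL (J : Set ℕ) w) {c d : ↥(D.group F) ⧸ borelIn D F} (hcv : c ∈ g.cellQ F v)
    (hdw : d ∈ g.cellQ F w) (he : projQ J c = projQ J d) : v = w ∧ c = d := by
  obtain ⟨a, ha, rfl⟩ := hcv
  obtain ⟨b, hb, rfl⟩ := hdw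
  simp only [projQ_mk] at he
  obtain ⟨h1, h2⟩ := g.projQ_eq hc hv hw ha hb hmv he
  obtain rfl := g.minL_eq hv hmv hmw h1
  refine ⟨rfl, QuotientGroup.eq.2 ?_⟩
  obtain ⟨y, hy, hyc⟩ := g.exists_cellW hc (a⁻¹ * b)
  have hy1 : y = 1 := mul_left_cancel (a := w) (by rw [mul_one]; exact (h2 y hy hyc).symm)
  exact (g.mem_borelIn_iff hc hy hyc).2 hy1

theorem projQ_surj (hc : HasComm D) (J : Finset ℕ) (x : ↥(D.group F) ⧸ D.parabolicIn F J) :
    ∃ w ∈ g.weyl, g.MinL (J : Set ℕ) w ∧ ∃ c ∈ g.cellQ F w, projQ J c = x := by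
  induction x using QuotientGroup.induction_on with
  | _ a =>
    obtain ⟨w, hw, hwa⟩ := g.exists_cellW hc a
    obtain ⟨v, hv, hm⟩ := g.exists_minL (J : Set ℕ) hw
    obtain ⟨b, hb, c, hc', rfl⟩ := hwa
    refine ⟨w * v, mul_mem hw (g.weyl_le_wJ hv), hm,
      ((b * g.nW F (w * v) : ↥(D.group F)) : ↥(D.group F) ⧸ borelIn D F),
      g.mk_mem_cellQ.2 ⟨b, hb, 1, one_mem _, by rw [mul_one]⟩, ?_⟩
    rw [projQ_mk, QuotientGroup.eq]
    have h1 := borelIn_le_parabolicIn J (g.nW_mul (F := F) hw (g.weyl_le_wJ hv))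
    have e : (b * g.nW F (w * v))⁻¹ * (b * g.nW F w * c) =
        ((g.nW F (w * v))⁻¹ * (g.nW F w * g.nW F v)) * (g.nW F v)⁻¹ * c := by group
    rw [e]
    exact mul_mem (mul_mem h1 (inv_mem (g.nW_mem_parabolicIn hv))) (borelIn_le_parabolicIn J hc')

open Classical in
/-- The minimal coset representatives of `W_J`. -/
noncomputable def minLs (J : Set ℕ) : Finset (Equiv.Perm (Fin D.nroots)) :=
  Finset.univ.filter fun w => w ∈ g.weyl ∧ g.MinL J w

lemma mem_minLs {J : Set ℕ} {w : Equiv.Perm (Fin D.nroots)} :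
    w ∈ g.minLs J ↔ w ∈ g.weyl ∧ g.MinL J w := by
  classical simp [minLs]

/-- Counting in `G/P_J` cell by cell. -/
theorem card_cosets [Fintype F] (hc : HasComm D) (J : Finset ℕ)
    (Q : ↥(D.group F) ⧸ D.parabolicIn F J → Prop) :
    Nat.card {x // Q x} =
      ∑ w ∈ g.minLs (J : Set ℕ), Nat.card {c // c ∈ g.cellQ F w ∧ Q (projQ J c)} := by
  classical
  let e : (Σ w : ↥(g.minLs (J : Set ℕ)),
      {c // c ∈ g.cellQ F (w : Equiv.Perm (Fin D.nroots)) ∧ Q (projQ J c)}) → {x // Q x} :=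
    fun p => ⟨projQ J p.2.1, p.2.2.2⟩
  have hbij : Function.Bijective e := by
    constructor
    · rintro ⟨⟨v, hv⟩, c, hc1, hc2⟩ ⟨⟨w, hw⟩, d, hd1, hd2⟩ h
      obtain ⟨hv1, hv2⟩ := g.mem_minLs.1 hv
      obtain ⟨hw1, hw2⟩ := g.mem_minLs.1 hw
      obtain ⟨rfl, rfl⟩ := g.projQ_inj hc hv1 hw1 hv2 hw2 hc1 hd1 (Subtype.ext_iff.1 h)
      rfl
    · rintro ⟨x, hx⟩
      obtain ⟨w, hw, hm, c, hc1, rfl⟩ := g.projQ_surj hc J x
      exact ⟨⟨⟨w, g.mem_minLs.2 ⟨hw, hm⟩⟩, c, hc1, hx⟩, rfl⟩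
  rw [← Nat.card_eq_of_bijective e hbij, Nat.card_sigma]
  exact Finset.sum_coe_sort (g.minLs (J : Set ℕ))
    fun w => Nat.card {c // c ∈ g.cellQ F w ∧ Q (projQ J c)}

/-- `U_{w⁻¹}^-` inside the group. -/
def cellU (_g : Good D) (F : Type*) [Field F] (w : Equiv.Perm (Fin D.nroots)) :
    Subgroup ↥(D.group F) :=
  (rootGen D F (minusSet w⁻¹)).subgroupOf (D.group F)

/-- `U_{w⁻¹}^-` parametrises the cell of `w`. -/
theorem cellU_bijOn (hc : HasComm D) {w : Equiv.Perm (Fin D.nroots)} (hw : w ∈ g.weyl) :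
    Set.BijOn (fun u : ↥(D.group F) => ((u * g.nW F w : ↥(D.group F)) :
      ↥(D.group F) ⧸ borelIn D F)) (g.cellU F w : Set ↥(D.group F)) (g.cellQ F w) := by
  have hn := g.acts_inv (g.acts_nW (F := F) hw)
  refine ⟨fun u hu => ?_, fun u hu v hv he => ?_, ?_⟩
  · refine g.mk_mem_cellQ.2 ⟨u, Subgroup.mem_subgroupOf.2
      (Subgroup.mem_sup_left (g.minus_le_pos _ (Subgroup.mem_subgroupOf.1 hu))), 1, one_mem _,
      by rw [mul_one]⟩
  · have h1 := Subgroup.mem_subgroupOf.1 (QuotientGroup.eq.1 he)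
    have h2 : (u : GL D.Idx F)⁻¹ * v ∈ rootGen D F (minusSet w⁻¹) :=
      mul_mem (inv_mem (Subgroup.mem_subgroupOf.1 hu)) (Subgroup.mem_subgroupOf.1 hv)
    have h3 := g.conj_minus_le hn h2
    rw [inv_inv] at h3
    have h4 : (g.nW F w : GL D.Idx F)⁻¹ * ((u : GL D.Idx F)⁻¹ * v) * (g.nW F w : GL D.Idx F) ∈
        D.borelSubgroup F ⊓ D.negUnipotent F := by
      refine Subgroup.mem_inf.2 ⟨?_, h3⟩
      have e : ((u * g.nW F w)⁻¹ * (v * g.nW F w) : ↥(D.group F)).1 =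
          (g.nW F w : GL D.Idx F)⁻¹ * ((u : GL D.Idx F)⁻¹ * v) * (g.nW F w : GL D.Idx F) := by
        simp [mul_assoc]
      rwa [e] at h1
    rw [g.borel_inf_neg, Subgroup.mem_bot] at h4
    refine Subtype.ext (inv_mul_eq_one.1 ?_)
    have h5 := congrArg (fun z => (g.nW F w : GL D.Idx F) * z * (g.nW F w : GL D.Idx F)⁻¹) h4
    simpa [mul_assoc] using h5
  · rintro c ⟨a, ⟨b, hb, c', hc', rfl⟩, rfl⟩
    obtain ⟨v, hv, h, hh, hbe⟩ := g.mem_borel.1 (Subgroup.mem_subgroupOf.1 hb)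
    obtain ⟨p, hp, m, hm, he⟩ := g.pos_split hc w⁻¹ (inv_mem hv)
    refine ⟨⟨m⁻¹, g.posUnipotent_le_group (g.minus_le_pos _ (inv_mem hm))⟩,
      Subgroup.mem_subgroupOf.2 (inv_mem hm), ?_⟩
    refine QuotientGroup.eq.2 (Subgroup.mem_subgroupOf.2 ?_)
    have h1 := g.conj_plus_le hn (inv_mem hp)
    rw [inv_inv] at h1
    have h2 := g.diag_conj (inv_mem (g.nW_mem_monomial (F := F) hw)) hh
    rw [inv_inv] at h2
    have hv' : v = m⁻¹ * p⁻¹ := by rw [← _root_.mul_inv_rev, ← he, inv_inv]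
    show (m⁻¹ * (g.nW F w : GL D.Idx F))⁻¹ * ((b : GL D.Idx F) * g.nW F w * c') ∈
      D.borelSubgroup F
    have e : (m⁻¹ * (g.nW F w : GL D.Idx F))⁻¹ * ((b : GL D.Idx F) * g.nW F w * c') =
        ((g.nW F w : GL D.Idx F)⁻¹ * p⁻¹ * g.nW F w) *
          ((g.nW F w : GL D.Idx F)⁻¹ * h * g.nW F w) * c' := by
      rw [← hbe, hv']; group
    rw [e]
    exact mul_mem (mul_mem (Subgroup.mem_sup_left h1) (Subgroup.mem_sup_right h2))
      (Subgroup.mem_subgroupOf.1 hc')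

lemma card_cellU [Fintype F] (hc : HasComm D) {w : Equiv.Perm (Fin D.nroots)} (hw : w ∈ g.weyl) :
    Nat.card (g.cellU F w) = Fintype.card F ^ ninv D w := by
  rw [← g.ninv_inv hw, ← g.card_minus hc _ (g.acts_inv (g.acts_nW (F := F) hw))]
  exact Nat.card_congr (Subgroup.subgroupOfEquivOfLe
    ((g.minus_le_pos _).trans g.posUnipotent_le_group)).toEquiv

theorem card_cellQ [Fintype F] (hc : HasComm D) {w : Equiv.Perm (Fin D.nroots)}
    (hw : w ∈ g.weyl) : Nat.card (g.cellQ F w) = Fintype.card F ^ ninv D w := by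
  rw [← g.card_cellU (F := F) hc hw]
  exact (Nat.card_congr (g.cellU_bijOn hc hw).equiv).symm

end Good

end CfsgLib.Chev
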