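import Mathlib
import Cfsg.Agent.Lib.KnownC.AlgebraEmbed
import Cfsg.Agent.Lib.ClassK.Zsigmondy

/-!
Elements of order `q ^ (n / 2) + 1` in `PSL_n(q)`: they come from the torus of order `(q ^ n - 1) / (q - 1)`.
-/

set_option autoImplicit false

namespace CfsgLib.KnownB.TorusPSL

open Polynomial Matrix

theorem dvd_half_iff {d m : ℕ} (hm : m ≠ 0) (hd : d ∣ 2 * m) :
    d ∣ m ↔ ¬ 2 ^ padicValNat 2 (2 * m) ∣ d := by
  obtain ⟨v, u, hu, rfl⟩ := Nat.exists_eq_two_pow_mul_odd hm
  have hv : padicValNat 2 (2 * (2 ^ v * u)) = v + 1 := by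
    haveI : Fact (Nat.Prime 2) := ⟨Nat.prime_two⟩
    rw [← mul_assoc, ← pow_succ', padicValNat.mul (by positivity) hu.pos.ne', padicValNat.prime_pow,
      padicValNat.eq_zero_of_not_dvd (by simpa [← even_iff_two_dvd] using hu), add_zero]
  rw [hv]
  constructor
  · intro h h'
    have h1 : 2 ^ (v + 1) ∣ 2 ^ v * u := h'.trans h
    rw [pow_succ, Nat.mul_dvd_mul_iff_left (by positivity)] at h1
    exact (Nat.not_even_iff_odd.2 hu) (even_iff_two_dvd.2 h1)
  · intro h
    rw [← mul_assoc, ← pow_succ'] at hd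
    obtain ⟨a, b, ha, hb, rfl⟩ := Nat.dvd_mul.1 hd
    obtain ⟨j, hj, rfl⟩ := (Nat.dvd_prime_pow Nat.prime_two).1 ha
    have hjv : j ≤ v := by
      by_contra hc
      exact h (Dvd.dvd.mul_right (pow_dvd_pow 2 (by omega)) b)
    exact mul_dvd_mul (pow_dvd_pow 2 hjv) hb

/-- `(q ^ k - 1) / (q - 1) ≡ k` modulo a divisor of `q - 1`. -/
theorem dvd_geom_iff {q k d : ℕ} (hq : 2 ≤ q) (hd : d ∣ q - 1) :
    d ∣ (q ^ k - 1) / (q - 1) ↔ d ∣ k := by
  rw [← Nat.geomSum_eq hq]
  have h1 : q ≡ 1 [MOD d] := ((Nat.modEq_iff_dvd' (by omega)).2 hd).symm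
  have h2 : ∀ j : ℕ, ∑ i ∈ Finset.range j, q ^ i ≡ j [MOD d] := by
    intro j
    induction j with
    | zero => rfl
    | succ j ih =>
      rw [Finset.sum_range_succ]
      exact ih.add (by simpa using h1.pow j)
  exact (h2 k).dvd_iff dvd_rfl

variable {F : Type*} [Field F] [Fintype F] {q n : ℕ}

/-- Fixed points of `x ↦ x ^ q` lie in the base field. -/
theorem mem_base {L : Type*} [Field L] [Algebra F L] (hF : Fintype.card F = q) {x : L} (hx : x ^ q = x) :
    ∃ c : F, algebraMap F L c = x := by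
  classical
  have hq : 1 < q := hF ▸ Fintype.one_lt_card
  set s : Finset L := Finset.univ.image (algebraMap F L) with hs
  have hcard : s.card = q := by
    rw [hs, Finset.card_image_of_injective _ (algebraMap F L).injective, Finset.card_univ, hF]
  have hroots : ∀ y ∈ insert x s, (X ^ q - X : L[X]).IsRoot y := by
    intro y hy
    rcases Finset.mem_insert.1 hy with rfl | hy
    · simp [hx]
    · obtain ⟨c, -, rfl⟩ := Finset.mem_image.1 hy
      simp [← map_pow, ← hF, FiniteField.pow_card]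
  have hle : (insert x s).card ≤ q := by
    have h0 : (X ^ q - X : L[X]) ≠ 0 := FiniteField.X_pow_card_sub_X_ne_zero L hq
    refine le_trans (Finset.card_le_card (t := (X ^ q - X : L[X]).roots.toFinset) fun y hy => ?_)
      ((Multiset.toFinset_card_le _).trans ((Polynomial.card_roots' _).trans
        (FiniteField.X_pow_card_sub_X_natDegree_eq L hq).le))
    rw [Multiset.mem_toFinset, Polynomial.mem_roots h0]
    exact hroots y hy
  by_contra hno
  have hxs : x ∉ s := fun h => by
    obtain ⟨c, -, hc⟩ := Finset.mem_image.1 h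
    exact hno ⟨c, hc⟩
  rw [Finset.card_insert_of_notMem hxs, hcard] at hle
  omega

theorem scalar_pow_card_sub_one {L : Type*} [Field L] [Algebra F L] (hF : Fintype.card F = q) {x : L} (hx : x ≠ 0) :
    x ^ (q - 1) = 1 ↔ ∃ c : F, algebraMap F L c = x := by
  have hq : 1 < q := hF ▸ Fintype.one_lt_card
  constructor
  · intro h
    refine mem_base hF ?_
    conv_lhs => rw [show q = q - 1 + 1 by omega, pow_succ, h, one_mul]
  · rintro ⟨c, rfl⟩
    rw [← map_pow, ← hF, FiniteField.pow_card_sub_one_eq_one c (fun h => hx (by rw [h, map_zero])), map_one]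

theorem mk_pow_eq_one_iff {g : SpecialLinearGroup (Fin n) F} {k : ℕ} :
    (QuotientGroup.mk g : ProjectiveSpecialLinearGroup (Fin n) F) ^ k = 1 ↔
      ∃ c : F, c ^ n = 1 ∧ (g : Matrix (Fin n) (Fin n) F) ^ k = scalar (Fin n) c := by
  rw [← QuotientGroup.mk_pow, QuotientGroup.eq_one_iff, Matrix.SpecialLinearGroup.mem_center_iff, Fintype.card_fin,
    Matrix.SpecialLinearGroup.coe_pow]
  exact exists_congr fun c => and_congr_right fun _ => eq_comm

/-- The torus. -/
theorem exists_of_dvd (hF : Fintype.card F = q) {m : ℕ} (hm : 1 ≤ m)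
    (hd : Nat.gcd (2 * m) (q - 1) ∣ m) :
    ∃ g : ProjectiveSpecialLinearGroup (Fin (2 * m)) F, orderOf g = q ^ m + 1 := by
  classical
  have hq : 2 ≤ q := hF ▸ Fintype.one_lt_card
  obtain ⟨p, hchar⟩ := CharP.exists F
  haveI := hchar
  haveI : Fact p.Prime := ⟨CharP.char_is_prime F p⟩
  haveI : NeZero (2 * m) := ⟨by omega⟩
  let L := FiniteField.Extension F p (2 * m)
  haveI : Finite L := Module.finite_of_finite F
  haveI : Fintype L := Fintype.ofFinite L
  have hL : Nat.card L = q ^ (2 * m) := by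
    rw [FiniteField.natCard_extension, Nat.card_eq_fintype_card, hF]
  have hdim : Module.finrank F L = 2 * m := FiniteField.finrank_extension F p (2 * m)
  let b := (Module.finBasis F L).reindex (finCongr hdim)
  let φ : L →ₐ[F] Matrix (Fin (2 * m)) (Fin (2 * m)) F := Algebra.leftMulMatrix b
  have hφ : Function.Injective φ := Algebra.leftMulMatrix_injective b
  obtain ⟨ζ, hζ⟩ := IsCyclic.exists_generator (α := Lˣ)
  have hord : orderOf ζ = q ^ (2 * m) - 1 := by
    rw [orderOf_eq_card_of_forall_mem_zpowers hζ, Nat.card_units, hL]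
  set ω : L := ((ζ ^ (q - 1) : Lˣ) : L) with hω
  have hdet : (φ ω).det = 1 := by
    rw [hω, Units.val_pow_eq_pow_val, map_pow, Matrix.det_pow, ← hF]
    refine FiniteField.pow_card_sub_one_eq_one _ ?_
    have : IsUnit (φ (ζ : L)) := ζ.isUnit.map φ
    exact ((Matrix.isUnit_iff_isUnit_det _).1 this).ne_zero
  let s : SpecialLinearGroup (Fin (2 * m)) F := ⟨φ ω, hdet⟩
  set x : ProjectiveSpecialLinearGroup (Fin (2 * m)) F := QuotientGroup.mk s with hx
  set A := (q ^ m - 1) / (q - 1) with hA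
  have hA' : (q - 1) * A = q ^ m - 1 := Nat.mul_div_cancel' (by simpa using Nat.sub_dvd_pow_sub_pow q 1 m)
  have hsplit : q ^ (2 * m) - 1 = (q ^ m + 1) * ((q - 1) * A) := by
    rw [hA', mul_comm 2 m, pow_mul]
    exact (by simpa using Nat.sq_sub_sq (q ^ m) 1)
  -- a power of `x` is trivial only for multiples
  have hdvd : q ^ m + 1 ∣ orderOf x := by
    have h1 : x ^ orderOf x = 1 := pow_orderOf_eq_one x
    generalize orderOf x = k at h1
    rw [hx, mk_pow_eq_one_iff] at h1
    obtain ⟨c, -, hc⟩ := h1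
    have hk : ω ^ k = algebraMap F L c := hφ (by
      rw [map_pow, AlgHom.commutes, Matrix.algebraMap_eq_diagonal]
      exact hc)
    have hω0 : ω ^ k ≠ 0 := pow_ne_zero _ (Units.ne_zero _)
    have h2 : ζ ^ ((q - 1) * k * (q - 1)) = 1 := Units.ext (by
      rw [pow_mul, pow_mul, Units.val_pow_eq_pow_val, Units.val_pow_eq_pow_val, Units.val_one]
      exact (scalar_pow_card_sub_one hF hω0).2 ⟨c, hk.symm⟩)
    rw [← orderOf_dvd_iff_pow_eq_one, hord, hsplit, mul_assoc (q - 1) k, mul_left_comm (q ^ m + 1),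
      Nat.mul_dvd_mul_iff_left (by omega)] at h2
    -- `(q^m + 1) A ∣ k (q - 1)` and `gcd (2m) (q - 1) ∣ A`
    have hgA : Nat.gcd ((q ^ m + 1) * A) (q - 1) ∣ A := by
      set e := Nat.gcd ((q ^ m + 1) * A) (q - 1) with he
      have he1 : e ∣ q - 1 := Nat.gcd_dvd_right _ _
      have he2 : e ∣ 2 * m := by
        refine (dvd_geom_iff hq he1).1 ?_
        rw [hsplit, mul_left_comm, Nat.mul_div_cancel_left _ (by omega)]
        exact Nat.gcd_dvd_left _ _
      exact (dvd_geom_iff hq he1).2 ((Nat.dvd_gcd he2 he1).trans hd)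
    have h3 : (q ^ m + 1) * A ∣ k * Nat.gcd ((q ^ m + 1) * A) (q - 1) := by
      rw [← Nat.gcd_mul_left]
      exact Nat.dvd_gcd (dvd_mul_left _ _) h2
    have hA0 : 0 < A := Nat.div_pos (Nat.sub_le_sub_right (Nat.le_self_pow (by omega) q) 1) (by omega)
    exact Nat.dvd_of_mul_dvd_mul_right hA0 (h3.trans (mul_dvd_mul_left k hgA))
  obtain ⟨c, hc⟩ := hdvd
  have hpos : 0 < orderOf x := orderOf_pos x
  refine ⟨x ^ c, ?_⟩
  rw [orderOf_pow' x (by rintro rfl; omega), hc, Nat.gcd_mul_left_left,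
    Nat.mul_div_cancel _ (Nat.pos_of_ne_zero (by rintro rfl; omega))]

/-- The converse. -/
theorem dvd_of_exists (hF : Fintype.card F = q) (hq3 : 3 ≤ q) {m : ℕ} (hm : 2 ≤ m)
    (hx : ∃ g : ProjectiveSpecialLinearGroup (Fin (2 * m)) F, orderOf g = q ^ m + 1) :
    Nat.gcd (2 * m) (q - 1) ∣ m := by
  classical
  obtain ⟨x, hx⟩ := hx
  obtain ⟨g, rfl⟩ := QuotientGroup.mk_surjective x
  obtain ⟨r, hr, hrdvd, hrprim⟩ := CfsgLib.ClassK.zsigmondy (a := q) (n := 2 * m) (by omega) (by omega)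
    (fun h => by omega) (fun h => by omega)
  haveI := Fact.mk hr
  have hq1 : 1 ≤ q ^ m := Nat.one_le_pow _ _ (by omega)
  have hrm : r ∣ q ^ m + 1 := by
    have hsq : q ^ (2 * m) - 1 = (q ^ m + 1) * (q ^ m - 1) := by
      rw [mul_comm 2 m, pow_mul]; exact (by simpa using Nat.sq_sub_sq (q ^ m) 1)
    rw [hsq] at hrdvd
    exact (hr.dvd_mul.1 hrdvd).resolve_right (hrprim m (by omega) (by omega))
  -- the order of the matrix
  set G : Matrix (Fin (2 * m)) (Fin (2 * m)) F := (g : Matrix (Fin (2 * m)) (Fin (2 * m)) F) with hG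
  have hgo : r ∣ orderOf g := hrm.trans (hx ▸ orderOf_map_dvd (QuotientGroup.mk' _) g)
  set k := orderOf g / r with hk
  set h : SpecialLinearGroup (Fin (2 * m)) F := g ^ k with hh
  have hho : orderOf h = r := by
    rw [hh, hk]
    exact orderOf_pow_orderOf_div (orderOf_pos g).ne' hgo
  set H : Matrix (Fin (2 * m)) (Fin (2 * m)) F := (h : Matrix (Fin (2 * m)) (Fin (2 * m)) F) with hH
  have hHr : H ^ r = 1 := by
    rw [hH, ← Matrix.SpecialLinearGroup.coe_pow, ← hho, pow_orderOf_eq_one, Matrix.SpecialLinearGroup.coe_one]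
  have hrne : (r : F) ≠ 0 := by
    intro h0
    obtain ⟨p, hchar⟩ := CharP.exists F
    haveI := hchar
    obtain ⟨N, hp, hcard⟩ := FiniteField.card F p
    have hrp : r = p := ((Nat.prime_dvd_prime_iff_eq hp hr).1 ((CharP.cast_eq_zero_iff F p r).1 h0)).symm
    have h1 : r ∣ q ^ m := dvd_pow (by rw [← hF, hcard, hrp]; exact dvd_pow_self p N.pos.ne') (by omega)
    exact hr.one_lt.ne' (Nat.dvd_one.1 ((Nat.dvd_add_right h1).1 hrm))
  have hint : IsIntegral F H := IsIntegral.of_finite F H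
  have hμr : minpoly F H ∣ X ^ r - 1 := minpoly.dvd F H (by simp [hHr])
  have hμdeg : (minpoly F H).natDegree ≤ 2 * m := by
    refine (natDegree_le_of_dvd (Matrix.minpoly_dvd_charpoly H) (Matrix.charpoly_monic H).ne_zero).trans ?_
    rw [Matrix.charpoly_natDegree_eq_dim, Fintype.card_fin]
  -- a factor other than `X - 1`
  obtain ⟨P, hP, hPm, hPμ, hP1⟩ : ∃ P : F[X], Irreducible P ∧ P.Monic ∧ P ∣ minpoly F H ∧ P ≠ X - C 1 := by
    by_contra hno
    push Not at hno
    have hsq : Squarefree (minpoly F H) := by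
      refine Squarefree.squarefree_of_dvd hμr ?_
      have : (X ^ r - 1 : F[X]).Separable := Polynomial.separable_X_pow_sub_C 1 hrne one_ne_zero
      exact this.squarefree
    have hμ0 : minpoly F H ≠ 0 := minpoly.ne_zero hint
    have hdvd : minpoly F H ∣ (X - C 1) := by
      haveI : Nonempty (Fin (2 * m)) := ⟨⟨0, by omega⟩⟩
      obtain ⟨P, hP, hPd⟩ := WfDvdMonoid.exists_irreducible_factor
        (Polynomial.not_isUnit_of_natDegree_pos _ (minpoly.natDegree_pos hint)) hμ0
      have hX : ∀ P : F[X], Irreducible P → P ∣ minpoly F H → (X - C (1 : F)) ∣ P := by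
        intro P hP hPd
        have h1 := hno (normalize P) ((normalize_associated P).symm.irreducible hP)
          (Polynomial.monic_normalize hP.ne_zero) ((normalize_associated P).dvd.trans hPd)
        exact h1 ▸ (normalize_associated P).dvd
      obtain ⟨c, hc⟩ := (hX P hP hPd).trans hPd
      have hcu : IsUnit c := by
        by_contra hcu
        obtain ⟨P', hP', hPd'⟩ := WfDvdMonoid.exists_irreducible_factor hcu
          (right_ne_zero_of_mul (hc ▸ hμ0))
        exact (Polynomial.irreducible_X_sub_C (1 : F)).not_isUnit (hsq _ (hc ▸ mul_dvd_mul_left _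
          ((hX P' hP' (hPd'.trans (hc ▸ dvd_mul_left c _))).trans hPd')))
      rw [hc]
      exact (hcu.mul_right_dvd).2 dvd_rfl
    have hH1 : H = 1 := by
      have h1 := minpoly.aeval F H
      obtain ⟨c, hc⟩ := hdvd
      have h2 : aeval H (X - C (1 : F)) = 0 := by rw [hc, map_mul, h1, zero_mul]
      simpa [sub_eq_zero] using h2
    have hh1 : h = 1 := Subtype.ext hH1
    rw [hh1, orderOf_one] at hho
    exact hr.one_lt.ne hho
  -- its degree is `2 m`
  haveI := Fact.mk hP
  have hPr : P ∣ X ^ r - 1 := hPμ.trans hμr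
  have hdeg : 2 * m ≤ P.natDegree := by
    haveI : Module.Finite F (AdjoinRoot P) := (AdjoinRoot.powerBasis hP.ne_zero).finite
    haveI : Finite (AdjoinRoot P) := Module.finite_of_finite F
    set z := AdjoinRoot.root P with hz
    have hzr : z ^ r = 1 := by
      have := AdjoinRoot.mk_eq_zero.2 hPr
      simpa [sub_eq_zero] using this
    have hz1 : z ≠ 1 := fun h1 => hP1 (by
      have : P ∣ X - C 1 := AdjoinRoot.mk_eq_zero.1 (by simp [← hz, h1])
      exact eq_of_monic_of_associated hPm (monic_X_sub_C 1)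
        (hP.associated_of_dvd (irreducible_X_sub_C 1) this))
    have hz0 : z ≠ 0 := fun h0 => by rw [h0, zero_pow hr.ne_zero] at hzr; exact zero_ne_one hzr
    have hord : orderOf (Units.mk0 z hz0) = r := by
      refine orderOf_eq_prime (Units.ext ?_) (fun h1 => hz1 (congrArg Units.val h1))
      simpa using hzr
    have h1 := orderOf_dvd_natCard (Units.mk0 z hz0)
    rw [hord, Nat.card_units, Module.natCard_eq_pow_finrank (K := F), Nat.card_eq_fintype_card, hF,
      (AdjoinRoot.powerBasis hP.ne_zero).finrank, AdjoinRoot.powerBasis_dim] at h1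
    by_contra hlt
    exact hrprim _ hP.natDegree_pos (by omega) h1
  have hμP : minpoly F H = P :=
    (eq_of_monic_of_dvd_of_natDegree_le hPm (minpoly.monic hint) hPμ (by omega))
  have hPdeg : P.natDegree = 2 * m := le_antisymm (hμP ▸ hμdeg) hdeg
  -- the field `F[H]`
  let ψ : AdjoinRoot P →ₐ[F] Matrix (Fin (2 * m)) (Fin (2 * m)) F :=
    Ideal.Quotient.liftₐ (Ideal.span {P}) (Polynomial.aeval H) (fun f hf => by
      obtain ⟨c, rfl⟩ := Ideal.mem_span_singleton.1 hf
      rw [map_mul, ← hμP, minpoly.aeval, zero_mul])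
  haveI : Nonempty (Fin (2 * m)) := ⟨⟨0, by omega⟩⟩
  have hψinj : Function.Injective ψ := ψ.toRingHom.injective
  haveI : Module.Finite F (AdjoinRoot P) := (AdjoinRoot.powerBasis hP.ne_zero).finite
  haveI : Finite (AdjoinRoot P) := Module.finite_of_finite F
  -- the commutant
  let i₀ : Fin (2 * m) := ⟨0, by omega⟩
  let v : Fin (2 * m) → F := Pi.single i₀ 1
  let ev : AdjoinRoot P →ₗ[F] (Fin (2 * m) → F) :=
    { toFun := fun a => ψ a *ᵥ v
      map_add' := fun a b => by simp [Matrix.add_mulVec]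
      map_smul' := fun c a => by simp [Matrix.smul_mulVec] }
  have hev : Function.Injective ev := by
    rw [injective_iff_map_eq_zero]
    intro a ha
    by_contra ha0
    have h1 : ψ a⁻¹ *ᵥ (ψ a *ᵥ v) = v := by
      rw [Matrix.mulVec_mulVec, ← map_mul, inv_mul_cancel₀ ha0, map_one, Matrix.one_mulVec]
    rw [show ψ a *ᵥ v = 0 from ha, Matrix.mulVec_zero] at h1
    have := congrFun h1 i₀
    simp [v] at this
  have hsur : Function.Surjective ev := by
    refine (LinearMap.injective_iff_surjective_of_finrank_eq_finrank ?_).1 hev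
    rw [(AdjoinRoot.powerBasis hP.ne_zero).finrank, AdjoinRoot.powerBasis_dim, hPdeg,
      Module.finrank_fintype_fun_eq_card, Fintype.card_fin]
  obtain ⟨a, ha⟩ := hsur (G *ᵥ v)
  have hψroot : ψ (AdjoinRoot.root P) = H := aeval_X (R := F) H
  have hcomm : ∀ b, G * ψ b = ψ b * G := by
    intro b
    induction b using AdjoinRoot.induction_on with
    | ih f =>
      rw [← AdjoinRoot.aeval_eq, ← Polynomial.aeval_algHom_apply, hψroot]
      have hc : Commute G H := by
        rw [hG, hH, hh, Matrix.SpecialLinearGroup.coe_pow]; exact Commute.self_pow _ k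
      exact Algebra.commute_of_mem_adjoin_singleton_of_commute
        (Polynomial.aeval_mem_adjoin_singleton F H) hc
  have hGa : G = ψ a := by
    refine Matrix.ext_iff_mulVec.2 fun w => ?_
    obtain ⟨b, rfl⟩ := hsur w
    show G *ᵥ (ψ b *ᵥ v) = ψ a *ᵥ (ψ b *ᵥ v)
    rw [Matrix.mulVec_mulVec, hcomm, ← Matrix.mulVec_mulVec, ← ha, Matrix.mulVec_mulVec, ← map_mul]
    show ψ b *ᵥ (ψ a *ᵥ v) = _
    rw [Matrix.mulVec_mulVec, ← map_mul, mul_comm b a]
  -- the norm
  have hnorm : a ^ ((q ^ (2 * m) - 1) / (q - 1)) = 1 := by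
    have hdet : Algebra.norm F a = 1 := by
      rw [Algebra.norm_apply]
      let e : AdjoinRoot P ≃ₗ[F] (Fin (2 * m) → F) := LinearEquiv.ofBijective ev ⟨hev, hsur⟩
      rw [← LinearMap.det_conj (Algebra.lmul F (AdjoinRoot P) a) e,
        show (↑e : AdjoinRoot P →ₗ[F] _) ∘ₗ (Algebra.lmul F (AdjoinRoot P) a) ∘ₗ (↑e.symm : _ →ₗ[F] _) =
          Matrix.toLin' G from ?_, LinearMap.det_toLin']
      · exact g.2
      · refine LinearMap.ext fun w => ?_
        obtain ⟨b, rfl⟩ := e.surjective w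
        show ev (a * e.symm (e b)) = G *ᵥ ev b
        rw [LinearEquiv.symm_apply_apply, hGa]
        show ψ (a * b) *ᵥ v = ψ a *ᵥ (ψ b *ᵥ v)
        rw [map_mul, Matrix.mulVec_mulVec]
    have h1 := FiniteField.algebraMap_norm_eq_pow (K := F) (x := a)
    rw [hdet, map_one, Module.natCard_eq_pow_finrank (K := F), Nat.card_eq_fintype_card, hF,
      (AdjoinRoot.powerBasis hP.ne_zero).finrank, AdjoinRoot.powerBasis_dim, hPdeg] at h1
    exact h1.symm
  -- the bound
  set d := Nat.gcd (2 * m) (q - 1) with hd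
  have hd1 : d ∣ q - 1 := Nat.gcd_dvd_right _ _
  set N := (q ^ (2 * m) - 1) / (q - 1) with hN
  have hdN : d ∣ N := (dvd_geom_iff (by omega) hd1).2 (Nat.gcd_dvd_left _ _)
  have hao : (q ^ m + 1) ∣ N / d := by
    rw [← hx, orderOf_dvd_iff_pow_eq_one, mk_pow_eq_one_iff]
    have ha0 : a ^ (N / d) ≠ 0 := pow_ne_zero _ fun h0 => by
      have h1 : G.det = 1 := g.2
      rw [hGa, h0, map_zero, Matrix.det_zero] at h1
      exact zero_ne_one h1
    obtain ⟨c, hc⟩ := (scalar_pow_card_sub_one hF ha0).1 (by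
      obtain ⟨j, hj⟩ := hd1
      rw [← pow_mul, hj, ← mul_assoc, Nat.div_mul_cancel hdN, pow_mul, hnorm, one_pow])
    have hGc : G ^ (N / d) = scalar (Fin (2 * m)) c := by
      rw [hGa, ← map_pow, ← hc, AlgHom.commutes, Matrix.algebraMap_eq_diagonal]
      rfl
    refine ⟨c, ?_, hGc⟩
    have h1 := congrArg Matrix.det hGc
    rw [Matrix.det_pow, hG, g.2, one_pow] at h1
    simpa using h1.symm
  have hsplit : N = (q ^ m + 1) * ((q ^ m - 1) / (q - 1)) := by
    rw [hN, ← Nat.mul_div_assoc _ (by simpa using Nat.sub_dvd_pow_sub_pow q 1 m)]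
    congr 1
    rw [mul_comm 2 m, pow_mul]; exact (by simpa using Nat.sq_sub_sq (q ^ m) 1)
  refine (dvd_geom_iff (by omega) hd1).1 (Nat.dvd_of_mul_dvd_mul_left (Nat.succ_pos (q ^ m)) ?_)
  have h2 : (q ^ m + 1) * d ∣ N / d * d := Nat.mul_dvd_mul_right hao d
  rw [Nat.div_mul_cancel hdN, hsplit] at h2
  exact h2

/-- Main statement. -/
theorem main (hF : Fintype.card F = q) (hodd : Odd q) (hn : 4 ≤ n) (heven : Even n) :
    (∃ g : ProjectiveSpecialLinearGroup (Fin n) F, orderOf g = q ^ (n / 2) + 1) ↔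
      padicValNat 2 (q - 1) < padicValNat 2 n := by
  obtain ⟨m, rfl⟩ := heven.two_dvd
  rw [Nat.mul_div_cancel_left m (by norm_num)]
  have hq : 2 ≤ q := hF ▸ Fintype.one_lt_card
  have hq3 : 3 ≤ q := by obtain ⟨k, hk⟩ := hodd; omega
  haveI : Fact (Nat.Prime 2) := ⟨Nat.prime_two⟩
  have key : padicValNat 2 (q - 1) < padicValNat 2 (2 * m) ↔ Nat.gcd (2 * m) (q - 1) ∣ m := by
    rw [dvd_half_iff (by omega) (Nat.gcd_dvd_left _ _), Nat.dvd_gcd_iff,
      padicValNat_dvd_iff_le (by omega : q - 1 ≠ 0), ← not_le]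
    simp [pow_padicValNat_dvd]
  rw [key]
  exact ⟨dvd_of_exists hF hq3 (by omega), exists_of_dvd hF (by omega)⟩

end CfsgLib.KnownB.TorusPSL
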