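import Mathlib
import Cfsg.Agent.Lib.KnownC.UnitarySpectrum
import Cfsg.Agent.Lib.ClassK.Zsigmondy
import Cfsg.Agent.Lib.KnownB.TorusPSL

/-!
Elements of order `q ^ m + (-1) ^ m` in `PSU_{2m}(q)`.
-/

set_option autoImplicit false
set_option maxHeartbeats 400000

namespace CfsgLib.KnownB.TorusPSU

open Matrix Polynomial CfsgLib.Classical CfsgLib.Classical.SemiPalin CfsgLib.KnownC
open CfsgLib.KnownC.UnitarySpectrum

universe u

/-- `B (q + 1) = q ^ k - (-1) ^ k` forces `B ≡ ± k` modulo divisors of `q + 1`. -/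
theorem dvd_alt_iff {q k d B : ℕ} (hd : d ∣ q + 1)
    (hB : (B : ℤ) * ((q : ℤ) + 1) = (q : ℤ) ^ k - (-1) ^ k) : d ∣ B ↔ d ∣ k := by
  have h := geom_sum₂_mul (q : ℤ) (-1) k
  rw [sub_neg_eq_add, ← hB] at h
  have hB' := mul_right_cancel₀ (by positivity) h
  have hq : (q : ZMod d) = -1 := eq_neg_of_add_eq_zero_left (by
    rw [← Nat.cast_one (R := ZMod d), ← Nat.cast_add, (ZMod.natCast_eq_zero_iff _ _).2 hd])
  have h2 : (B : ZMod d) = (-1) ^ (k - 1) * (k : ZMod d) := by
    have := congrArg (Int.cast : ℤ → ZMod d) hB'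
    push_cast at this
    rw [← this, hq, Finset.sum_congr rfl fun i hi => by
      rw [← pow_add, show i + (k - 1 - i) = k - 1 by have := Finset.mem_range.1 hi; omega]]
    rw [Finset.sum_const, Finset.card_range, nsmul_eq_mul, mul_comm]
  rw [← ZMod.natCast_eq_zero_iff, ← ZMod.natCast_eq_zero_iff, h2]
  exact (IsUnit.mul_right_eq_zero (isUnit_one.neg.pow _))

/-- A squarefree polynomial divides whatever each of its irreducible factors divides. -/
theorem dvd_of_factors {F : Type*} [Field F] {f Q : F[X]} (hf : Squarefree f)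
    (h : ∀ P, Irreducible P → P ∣ f → P ∣ Q) : f ∣ Q := by
  have key : ∀ g : F[X], g ≠ 0 → g ∣ f → g ∣ Q := by
    intro g
    induction g using UniqueFactorizationMonoid.induction_on_prime with
    | h₁ => intro h0; exact absurd rfl h0
    | h₂ g hg => intro _ _; exact hg.dvd
    | h₃ g P hg hP ih =>
      intro _ hd
      refine IsCoprime.mul_dvd (hP.irreducible.coprime_iff_not_dvd.2 fun hPg => ?_)
        (h P hP.irreducible ((dvd_mul_right P g).trans hd)) (ih hg ((dvd_mul_left g P).trans hd))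
      exact hP.not_isUnit (hf P ((mul_dvd_mul_left P hPg).trans hd))
  exact key f hf.ne_zero dvd_rfl

variable {F : Type u} [Field F] [Fintype F] {q : ℕ} (hF : Fintype.card F = q ^ 2)

/-- The order in question. -/
def eOrd (q m : ℕ) : ℕ := if Even m then q ^ m + 1 else q ^ m - 1

theorem eOrd_mul {q m : ℕ} (hq : 2 ≤ q) (hm : 1 ≤ m) :
    ∃ A, 0 < A ∧ eOrd q m * A * (q + 1) = q ^ (2 * m) - 1 ∧
      (∀ d, d ∣ q + 1 → d ∣ 2 * m → d ∣ eOrd q m * A) ∧ ∀ d, d ∣ q + 1 → (d ∣ A ↔ d ∣ m) := by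
  have hq1 : 1 ≤ q ^ m := Nat.one_le_pow _ _ (by omega)
  have hsq : q ^ (2 * m) - 1 = (q ^ m + 1) * (q ^ m - 1) := by
    rw [mul_comm 2 m, pow_mul]; exact (by simpa using Nat.sq_sub_sq (q ^ m) 1)
  have hbig : 1 < q ^ m := Nat.one_lt_pow (by omega) (by omega)
  obtain ⟨A, hA, hA0, hAZ⟩ : ∃ A, eOrd q m * A * (q + 1) = q ^ (2 * m) - 1 ∧ 0 < A ∧
      (A : ℤ) * ((q : ℤ) + 1) = (q : ℤ) ^ m - (-1) ^ m := by
    rcases Nat.even_or_odd m with hev | hodd
    · obtain ⟨A, hA⟩ : q + 1 ∣ q ^ m - 1 := by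
        obtain ⟨k, rfl⟩ := hev.two_dvd
        refine dvd_trans ⟨q - 1, (by simpa using Nat.sq_sub_sq q 1)⟩ ?_
        rw [pow_mul]
        simpa using Nat.sub_dvd_pow_sub_pow (q ^ 2) 1 k
      refine ⟨A, by rw [eOrd, if_pos hev, hsq, hA]; ring, ?_, ?_⟩
      · rcases Nat.eq_zero_or_pos A with h | h
        · rw [h, mul_zero] at hA; omega
        · exact h
      · have := congrArg (Nat.cast : ℕ → ℤ) hA
        rw [Nat.cast_sub hq1] at this
        push_cast at this
        rw [hev.neg_one_pow]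
        linear_combination -this
    · obtain ⟨A, hA⟩ : q + 1 ∣ q ^ m + 1 := by simpa using hodd.nat_add_dvd_pow_add_pow q 1
      refine ⟨A, by rw [eOrd, if_neg (Nat.not_even_iff_odd.2 hodd), hsq, hA]; ring, ?_, ?_⟩
      · rcases Nat.eq_zero_or_pos A with h | h
        · rw [h, mul_zero] at hA; omega
        · exact h
      · have := congrArg (Nat.cast : ℕ → ℤ) hA
        push_cast at this
        rw [hodd.neg_one_pow]
        linear_combination -this
  refine ⟨A, hA0, hA, fun d hd hdm => ?_, fun d hd => dvd_alt_iff hd hAZ⟩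
  refine (dvd_alt_iff (q := q) (k := 2 * m) hd ?_).2 hdm
  have := congrArg (Nat.cast : ℕ → ℤ) hA
  rw [Nat.cast_sub (Nat.one_le_pow _ _ (by omega))] at this
  push_cast at this
  rw [pow_mul (-1 : ℤ), neg_one_sq, one_pow]
  push_cast
  linear_combination this

theorem fixed_of_pow_succ {c : F} (hc : ∃ x : F, x ^ (q + 1) = c) : qFrob hF c = c := by
  obtain ⟨x, rfl⟩ := hc
  rw [qFrob_apply, ← pow_mul, show (q + 1) * q = q ^ 2 + q by ring, pow_add, ← hF, FiniteField.pow_card,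
    ← pow_succ']

include hF in
/-- The torus element. -/
theorem exists_of_dvd {m : ℕ} (hm : 2 ≤ m) (hd : Nat.gcd (2 * m) (q + 1) ∣ m) :
    ∃ x : Cfsg.PSU (2 * m) F q, orderOf x = eOrd q m := by
  classical
  obtain ⟨p, hchar⟩ := CharP.exists F
  haveI := hchar
  obtain ⟨N, hp, hcard⟩ := FiniteField.card F p
  haveI := Fact.mk hp
  obtain ⟨a, -, hq⟩ := (Nat.dvd_prime_pow hp).1
    (show q ∣ p ^ (N : ℕ) by rw [← hcard, hF, sq]; exact dvd_mul_right q q)
  have hq2 := two_le_of_card_sq hF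
  obtain ⟨A, hA0, hA, -, hAiff⟩ := eOrd_mul (q := q) (m := m) hq2 (by omega)
  haveI : NeZero m := ⟨by omega⟩
  let L := FiniteField.Extension F p m
  haveI : Finite L := Module.finite_of_finite F
  have hL : Nat.card L = q ^ (2 * m) := by
    rw [FiniteField.natCard_extension, Nat.card_eq_fintype_card, hF, pow_mul]
  obtain ⟨ζ, hζ⟩ := IsCyclic.exists_generator (α := Lˣ)
  have hord : orderOf ζ = q ^ (2 * m) - 1 := by
    rw [orderOf_eq_card_of_forall_mem_zpowers hζ, Nat.card_units, hL]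
  set γ : L := ((ζ ^ (q + 1) : Lˣ) : L) with hγ
  have hint : IsIntegral F γ := Algebra.IsIntegral.isIntegral γ
  set P := minpoly F γ with hP
  haveI hPi : Fact (Irreducible P) := ⟨minpoly.irreducible hint⟩
  have hPm : P.Monic := minpoly.monic hint
  have hP0 : P.coeff 0 ≠ 0 := minpoly.coeff_zero_ne_zero hint (Units.ne_zero _)
  have hroot : aeval γ P = 0 := minpoly.aeval F γ
  -- the degree
  have hdeg : P.natDegree = m := by
    have hdvd : P.natDegree ∣ m := by
      have := minpoly.degree_dvd hint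
      rwa [FiniteField.finrank_extension] at this
    by_contra hne
    haveI : Module.Finite F (AdjoinRoot P) := (AdjoinRoot.powerBasis hPi.out.ne_zero).finite
    haveI : Finite (AdjoinRoot P) := Module.finite_of_finite F
    letI : Fintype (AdjoinRoot P) := Fintype.ofFinite _
    have hcardP : Fintype.card (AdjoinRoot P) = q ^ (2 * P.natDegree) := by
      rw [Module.card_eq_pow_finrank (K := F), (AdjoinRoot.powerBasis hPi.out.ne_zero).finrank,
        AdjoinRoot.powerBasis_dim, hF, ← pow_mul]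
    have hpow : γ ^ (q ^ (2 * P.natDegree)) = γ := by
      let emb : AdjoinRoot P →ₐ[F] L := AdjoinRoot.liftAlgHom P (Algebra.ofId F L) γ (by simpa [aeval_def] using hroot)
      have he : emb (AdjoinRoot.root P) = γ := AdjoinRoot.liftAlgHom_root P _ _ _
      rw [← he, ← map_pow, ← hcardP, FiniteField.pow_card]
    have hone : γ ^ (q ^ (2 * P.natDegree) - 1) = 1 := by
      refine mul_right_cancel₀ (Units.ne_zero (ζ ^ (q + 1))) ?_
      rw [← hγ, ← pow_succ, one_mul, Nat.sub_add_cancel (Nat.one_le_pow _ _ (by omega)), hpow]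
    have h1 : ζ ^ ((q + 1) * (q ^ (2 * P.natDegree) - 1)) = 1 := Units.ext (by
      rw [pow_mul, Units.val_pow_eq_pow_val, ← hγ, hone, Units.val_one])
    rw [← orderOf_dvd_iff_pow_eq_one, hord] at h1
    obtain ⟨t, ht⟩ := hdvd
    have ht2 : 2 * P.natDegree ≤ m := by
      rcases Nat.lt_or_ge t 2 with h | h
      · rcases (show t = 0 ∨ t = 1 by omega) with rfl | rfl <;> omega
      · rw [ht, mul_comm 2]; exact Nat.mul_le_mul_left _ h
    have hpos : 0 < q ^ (2 * P.natDegree) - 1 :=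
      Nat.sub_pos_of_lt (Nat.one_lt_pow (by have := hPi.out.natDegree_pos; omega) (by omega))
    have hle := Nat.le_of_dvd (Nat.mul_pos (by omega) hpos) h1
    have h2 : (q + 1) * (q ^ (2 * P.natDegree) - 1) ≤ (q + 1) * (q ^ m - 1) :=
      Nat.mul_le_mul_left _ (Nat.sub_le_sub_right (Nat.pow_le_pow_right (by omega) ht2) 1)
    have h3 : (q + 1) * (q ^ m - 1) < (q ^ m + 1) * (q ^ m - 1) :=
      Nat.mul_lt_mul_of_pos_right (Nat.add_lt_add_right (lt_self_pow₀ (by omega) (by omega)) 1)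
        (Nat.sub_pos_of_lt (Nat.one_lt_pow (by omega) (by omega)))
    have hsq : q ^ (2 * m) - 1 = (q ^ m + 1) * (q ^ m - 1) := by
      rw [mul_comm 2 m, pow_mul]; exact (by simpa using Nat.sq_sub_sq (q ^ m) 1)
    omega
  -- the norm is fixed
  have hfix : qFrob hF (P.coeff 0) = P.coeff 0 := by
    let b : Module.Basis (Fin m) F L :=
      (Module.finBasis F L).reindex (finCongr (FiniteField.finrank_extension F p m))
    obtain ⟨j, -, hjm, hjd⟩ := det_leftMul b hPi.out hPm hroot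
    have hj : j = 1 := by
      rw [hdeg] at hjm
      exact (Nat.eq_of_mul_eq_mul_right (by omega : 0 < m) (by rw [one_mul]; exact hjm)).symm
    rw [hj, pow_one, hγ, Units.val_pow_eq_pow_val, map_pow, Matrix.det_pow] at hjd
    have h1 := fixed_of_pow_succ hF ⟨_, hjd⟩
    rw [map_mul, map_pow, map_neg, map_one] at h1
    exact mul_left_cancel₀ (pow_ne_zero _ (neg_ne_zero.2 one_ne_zero)) h1
  obtain ⟨w, -, hw⟩ := exists_torus hF hq (n := 2 * m) (by omega)
  set x : Cfsg.PSU (2 * m) F q := QuotientGroup.mk' _ w with hx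
  have hpos : 0 < orderOf x := orderOf_pos x
  obtain ⟨c, hc, t, ht⟩ := hw P 1 hPi.out hPm hP0
    (Or.inr ⟨by rw [hdeg, mul_one], by rw [pow_one]; exact hfix⟩) (orderOf x) (pow_orderOf_eq_one x)
  have hγM : γ ^ orderOf x = algebraMap F L c := by
    have h := congrArg (aeval γ) ht
    rwa [map_mul, hroot, zero_mul, map_sub, map_pow, aeval_X, aeval_C, sub_eq_zero] at h
  have h1 : ζ ^ ((q + 1) * orderOf x * (q + 1)) = 1 := Units.ext (by
    rw [pow_mul, pow_mul, Units.val_pow_eq_pow_val, Units.val_pow_eq_pow_val, ← hγ, hγM, Units.val_one,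
      ← map_pow, pow_succ, ← qFrob_apply hF, mul_comm, hc, map_one])
  rw [← orderOf_dvd_iff_pow_eq_one, hord, ← hA, mul_comm (q + 1) (orderOf x), mul_assoc (orderOf x),
    mul_comm (orderOf x), mul_assoc (q + 1), mul_comm (eOrd q m * A) (q + 1),
    Nat.mul_dvd_mul_iff_left (by omega)] at h1
  have hgA : Nat.gcd (eOrd q m * A) (q + 1) ∣ A := by
    set e := Nat.gcd (eOrd q m * A) (q + 1) with he
    have he1 : e ∣ q + 1 := Nat.gcd_dvd_right _ _
    refine (hAiff e he1).2 ((Nat.dvd_gcd ?_ he1).trans hd)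
    refine (dvd_alt_iff (q := q) (B := eOrd q m * A) he1 ?_).1 (Nat.gcd_dvd_left _ _)
    have := congrArg (Nat.cast : ℕ → ℤ) hA
    rw [Nat.cast_sub (Nat.one_le_pow _ _ (by omega))] at this
    push_cast at this
    rw [pow_mul (-1 : ℤ), neg_one_sq, one_pow]
    push_cast
    linear_combination this
  have h3 : eOrd q m * A ∣ orderOf x * Nat.gcd (eOrd q m * A) (q + 1) := by
    rw [← Nat.gcd_mul_left]
    exact Nat.dvd_gcd (dvd_mul_left _ _) (by rw [mul_comm (orderOf x)]; exact h1)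
  obtain ⟨k, hk⟩ := Nat.dvd_of_mul_dvd_mul_right hA0 (h3.trans (mul_dvd_mul_left _ hgA))
  have hk0 : k ≠ 0 := by rintro rfl; omega
  refine ⟨x ^ k, ?_⟩
  rw [orderOf_pow' x hk0, hk, Nat.gcd_mul_left_left, Nat.mul_div_cancel _ (Nat.pos_of_ne_zero hk0)]

include hF in
/-- The converse. -/
theorem dvd_of_exists (hodd : Odd q) {m : ℕ} (hm : 2 ≤ m)
    (hx : ∃ x : Cfsg.PSU (2 * m) F q, orderOf x = eOrd q m) : Nat.gcd (2 * m) (q + 1) ∣ m := by
  classical
  obtain ⟨p, hchar⟩ := CharP.exists F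
  haveI := hchar
  obtain ⟨N, hp, hcard⟩ := FiniteField.card F p
  haveI := Fact.mk hp
  obtain ⟨a, -, hq⟩ := (Nat.dvd_prime_pow hp).1
    (show q ∣ p ^ (N : ℕ) by rw [← hcard, hF, sq]; exact dvd_mul_right q q)
  have hq2 := two_le_of_card_sq hF
  have hq3 : 3 ≤ q := by obtain ⟨k, hk⟩ := hodd; omega
  obtain ⟨x, hx⟩ := hx
  obtain ⟨g, rfl⟩ := QuotientGroup.mk'_surjective _ x
  -- the primitive prime
  have hsq : q ^ (2 * m) - 1 = (q ^ m + 1) * (q ^ m - 1) := by
    rw [mul_comm 2 m, pow_mul]; exact (by simpa using Nat.sq_sub_sq (q ^ m) 1)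
  obtain ⟨r, hr, hre, hr2, hprim⟩ : ∃ r, r.Prime ∧ r ∣ eOrd q m ∧ r ≠ 2 ∧
      ∀ k, 0 < k → r ∣ q ^ (2 * k) - 1 → m ∣ k := by
    have horder : ∀ r n : ℕ, r.Prime → 0 < n → r ∣ q ^ n - 1 → (∀ k, 0 < k → k < n → ¬ r ∣ q ^ k - 1) →
        ∀ k, 0 < k → r ∣ q ^ k - 1 → n ∣ k := by
      intro r n hr hn0 hn hmin k hk hkd
      haveI := Fact.mk hr
      have hcast : ∀ j, r ∣ q ^ j - 1 ↔ (q : ZMod r) ^ j = 1 := fun j => by
        rw [← ZMod.natCast_eq_zero_iff, Nat.cast_sub (Nat.one_le_pow _ _ (by omega)), Nat.cast_pow,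
          Nat.cast_one, sub_eq_zero]
      by_contra hnk
      have hmod : (q : ZMod r) ^ (k % n) = 1 := by
        have h := (hcast k).1 hkd
        rwa [← Nat.div_add_mod k n, pow_add, pow_mul, (hcast n).1 hn, one_pow, one_mul] at h
      exact hmin _ (Nat.pos_of_ne_zero fun h0 => hnk (Nat.dvd_of_mod_eq_zero h0)) (Nat.mod_lt _ hn0)
        ((hcast _).2 hmod)
    have htwo : ∀ r n : ℕ, r.Prime → 1 < n → (∀ k, 0 < k → k < n → ¬ r ∣ q ^ k - 1) → r ≠ 2 := by
      intro r n _ hn hmin h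
      refine hmin 1 one_pos hn ?_
      rw [h, pow_one]
      obtain ⟨k, rfl⟩ := hodd
      exact ⟨k, by omega⟩
    rcases Nat.even_or_odd m with hev | hmodd
    · obtain ⟨r, hr, hrd, hmin⟩ := CfsgLib.ClassK.zsigmondy (a := q) (n := 2 * m) (by omega) (by omega)
        (fun h => by omega) (fun h => by omega)
      refine ⟨r, hr, ?_, htwo r _ hr (by omega) hmin, fun k hk hkd => ?_⟩
      · rw [eOrd, if_pos hev]
        rw [hsq] at hrd
        exact (hr.dvd_mul.1 hrd).resolve_right (hmin m (by omega) (by omega))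
      · exact Nat.dvd_of_mul_dvd_mul_left (by norm_num) (horder r _ hr (by omega) hrd hmin (2 * k) (by omega) hkd)
    · obtain ⟨r, hr, hrd, hmin⟩ := CfsgLib.ClassK.zsigmondy (a := q) (n := m) (by omega) (by omega)
        (fun h => by omega) (fun h => by obtain ⟨k, hk⟩ := hmodd; omega)
      refine ⟨r, hr, ?_, htwo r _ hr (by omega) hmin, fun k hk hkd => ?_⟩
      · rw [eOrd, if_neg (Nat.not_even_iff_odd.2 hmodd)]
        exact hrd
      · exact (Nat.Coprime.dvd_of_dvd_mul_left ((Nat.coprime_two_left.2 hmodd).symm)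
          (horder r _ hr (by omega) hrd hmin (2 * k) (by omega) hkd))
  haveI := Fact.mk hr
  -- the order of a preimage
  set G := mat g with hG
  set o := orderOf g with ho
  have ho0 : 0 < o := orderOf_pos g
  have hro : r ∣ o := hre.trans (hx ▸ orderOf_map_dvd (QuotientGroup.mk' _) g)
  have hoF : (o : F) ≠ 0 := by
    intro h0
    have hpo : p ∣ o := (CharP.cast_eq_zero_iff F p o).1 h0
    have h1 : (QuotientGroup.mk' (Subgroup.center (Cfsg.SU (2 * m) F q))) (g ^ eOrd q m) = 1 := by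
      rw [map_pow, ← hx, pow_orderOf_eq_one]
    obtain ⟨c, hc, hgc⟩ := scalar_of_mk_eq_one hF (by omega) _ h1
    have h2 : o ∣ eOrd q m * (q + 1) := orderOf_dvd_of_pow_eq_one (mat_inj (by
      rw [mat_pow, mat_one, pow_mul, ← mat_pow, hgc, _root_.smul_pow, one_pow, pow_succ', ← qFrob_apply hF,
        hc, one_smul]))
    have hpq : p ∣ q := by
      rw [hq]; refine dvd_pow_self p ?_
      rintro rfl; simp at hq; omega
    rcases hp.dvd_mul.1 (hpo.trans h2) with h | h
    · have hpm : p ∣ q ^ m := dvd_pow hpq (by omega)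
      have h1m : 1 ≤ q ^ m := Nat.one_le_pow _ _ (by omega)
      unfold eOrd at h
      split_ifs at h
      · exact hp.one_lt.ne' (Nat.dvd_one.1 ((Nat.dvd_add_right hpm).1 h))
      · have := Nat.dvd_sub hpm h
        rw [Nat.sub_sub_self h1m] at this
        exact hp.one_lt.ne' (Nat.dvd_one.1 this)
    · exact hp.one_lt.ne' (Nat.dvd_one.1 ((Nat.dvd_add_right hpq).1 h))
  have hGo : G ^ o = 1 := by rw [hG, ← mat_pow, pow_orderOf_eq_one, mat_one]
  have hint : IsIntegral F G := IsIntegral.of_finite F G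
  have hμo : minpoly F G ∣ X ^ o - C 1 := minpoly.dvd F G (by simp [hGo])
  have hsqf : Squarefree (minpoly F G) := Squarefree.squarefree_of_dvd hμo
    (Polynomial.separable_X_pow_sub_C 1 hoF one_ne_zero).squarefree
  -- a factor seeing `r`
  obtain ⟨P₀, hP₀, hP₀d, hP₀n⟩ : ∃ P, Irreducible P ∧ P ∣ minpoly F G ∧ ¬ P ∣ X ^ (o / r) - C 1 := by
    by_contra hno
    push Not at hno
    obtain ⟨t, ht⟩ := dvd_of_factors hsqf hno
    have h := congrArg (aeval G) ht
    rw [map_mul, minpoly.aeval, zero_mul, map_sub, map_pow, aeval_X, aeval_C, map_one, sub_eq_zero, hG,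
      ← mat_pow, ← mat_one] at h
    have h2 : o ∣ o / r := orderOf_dvd_of_pow_eq_one (mat_inj h)
    have h4 : 0 < o / r := Nat.div_pos (Nat.le_of_dvd ho0 hro) hr.pos
    exact (Nat.div_lt_self ho0 hr.one_lt).not_ge (Nat.le_of_dvd h4 h2)
  set P := normalize P₀ with hPdef
  have hPa : Associated P P₀ := normalize_associated P₀
  have hP : Irreducible P := hPa.symm.irreducible hP₀
  have hPm : P.Monic := Polynomial.monic_normalize hP₀.ne_zero
  haveI := Fact.mk hP
  have hPμ : P ∣ minpoly F G := hPa.dvd.trans hP₀d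
  have hPn : ¬ P ∣ X ^ (o / r) - C 1 := fun h => hP₀n (hPa.symm.dvd.trans h)
  set k := P.natDegree with hk
  have hk0 : 0 < k := hP.natDegree_pos
  haveI : Module.Finite F (AdjoinRoot P) := (AdjoinRoot.powerBasis hP.ne_zero).finite
  haveI : Finite (AdjoinRoot P) := Module.finite_of_finite F
  have hrk : Module.finrank F (AdjoinRoot P) = k := by
    rw [(AdjoinRoot.powerBasis hP.ne_zero).finrank, AdjoinRoot.powerBasis_dim]
  have hcK : Nat.card (AdjoinRoot P) = q ^ (2 * k) := by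
    rw [Module.natCard_eq_pow_finrank (K := F), Nat.card_eq_fintype_card, hF, hrk, ← pow_mul]
  set β := AdjoinRoot.root P with hβ
  have hpoly : ∀ j c, P ∣ X ^ j - C c ↔ β ^ j = algebraMap F (AdjoinRoot P) c := fun j c => by
    rw [← AdjoinRoot.mk_eq_zero, map_sub, map_pow, AdjoinRoot.mk_X, AdjoinRoot.mk_C, sub_eq_zero,
      ← AdjoinRoot.algebraMap_eq]
  have hβo : β ^ o = 1 := by rw [(hpoly o 1).1 (hPμ.trans hμo), map_one]
  have hβor : β ^ (o / r) ≠ 1 := fun h => hPn ((hpoly _ 1).2 (by rw [map_one]; exact h))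
  have hβ0 : β ≠ 0 := fun h => by rw [h, zero_pow ho0.ne'] at hβo; exact zero_ne_one hβo
  have hrk2 : r ∣ q ^ (2 * k) - 1 := by
    have h1 : r ∣ orderOf β := by
      by_contra hndvd
      refine hβor (orderOf_dvd_iff_pow_eq_one.1 ?_)
      refine (Nat.Coprime.dvd_of_dvd_mul_left ((hr.coprime_iff_not_dvd.2 hndvd).symm) ?_)
      rw [Nat.mul_div_cancel' hro]
      exact orderOf_dvd_of_pow_eq_one hβo
    have h2 : orderOf (Units.mk0 β hβ0) = orderOf β := by rw [← orderOf_units, Units.val_mk0]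
    have h3 := orderOf_dvd_natCard (Units.mk0 β hβ0)
    rw [h2, Nat.card_units, hcK] at h3
    exact h1.trans h3
  have hmk : m ∣ k := hprim k hk0 hrk2
  set χ := (mat g).charpoly with hχ
  have hχm : χ.Monic := Matrix.charpoly_monic _
  have hχd : χ.natDegree = 2 * m := by rw [hχ, Matrix.charpoly_natDegree_eq_dim, Fintype.card_fin]
  have hdet : χ.coeff 0 = 1 := by
    have h := Matrix.det_eq_sign_charpoly_coeff (mat g)
    rw [Fintype.card_fin, pow_mul, neg_one_sq, one_pow, one_mul, ← hχ] at h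
    rw [← h]
    exact g.1.2
  have hPχ : P ∣ χ := hPμ.trans (Matrix.minpoly_dvd_charpoly G)
  have hP0 : P.coeff 0 ≠ 0 := fun h => by
    obtain ⟨R, hR⟩ := hPχ
    rw [hR, mul_coeff_zero, h, zero_mul] at hdet
    exact zero_ne_one hdet
  have hχt : tilde (qFrob hF) χ = χ := by
    obtain ⟨G₀, hG₀⟩ : ∃ G₀ : GL (Fin (2 * m)) F, (G₀ : Matrix (Fin (2 * m)) (Fin (2 * m)) F) = mat g :=
      ⟨Matrix.SpecialLinearGroup.toGL (g : Matrix.SpecialLinearGroup (Fin (2 * m)) F), rfl⟩
    have hgu : G₀ ∈ Cfsg.GU (2 * m) F q := by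
      rw [SemiUnitary.mem_gu_iff hF, hG₀]
      exact (mem_su_iff hF _).1 g.2
    have h := SemiUnitaryExists.tilde_charpoly hF hgu
    rw [hG₀] at h
    exact h
  have hk2 : k ≤ 2 * m := hχd ▸ natDegree_le_of_dvd hPχ hχm.ne_zero
  have hne : tilde (qFrob hF) P ≠ P := by
    intro ht
    obtain ⟨hkodd, hβq⟩ := self_tilde_root hF hq hP0 ht
    obtain ⟨t, ht⟩ := hmk
    rw [← hk, ht] at hkodd
    obtain ⟨hmodd, htodd⟩ := Nat.odd_mul.1 hkodd
    have ht1 : t = 1 := by
      obtain ⟨s, rfl⟩ := htodd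
      by_contra hne
      have : m * 3 ≤ m * (2 * s + 1) := Nat.mul_le_mul_left m (by omega)
      omega
    rw [ht1, mul_one] at ht
    rw [← hk, ← hβ, ht] at hβq
    have h1 : r ∣ q ^ m + 1 := by
      by_contra hndvd
      refine hβor (orderOf_dvd_iff_pow_eq_one.1 ?_)
      have hcop : Nat.Coprime (orderOf β) r :=
        ((hr.coprime_iff_not_dvd.2 fun h => hndvd (h.trans (orderOf_dvd_of_pow_eq_one hβq))).symm)
      refine hcop.dvd_of_dvd_mul_left ?_
      rw [Nat.mul_div_cancel' hro]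
      exact orderOf_dvd_of_pow_eq_one hβo
    rw [eOrd, if_neg (Nat.not_even_iff_odd.2 hmodd)] at hre
    have h2 := Nat.dvd_sub h1 hre
    rw [show q ^ m + 1 - (q ^ m - 1) = 2 by
      have : 1 ≤ q ^ m := Nat.one_le_pow _ _ (by omega)
      omega] at h2
    exact hr2 ((Nat.prime_dvd_prime_iff_eq hr Nat.prime_two).1 h2)
  obtain ⟨hQm, hQd, hQ0⟩ := tilde_facts (qFrob hF) hPm hP0
  have hQ := tilde_irreducible (qFrob hF) (qFrob_qFrob hF) hPm hP0 hP
  have hcop : IsCoprime P (tilde (qFrob hF) P) := (hP.coprime_iff_not_dvd).2 fun hd =>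
    hne (eq_of_monic_of_associated hPm hQm (hP.associated_of_dvd hQ hd)).symm
  have hQχ : tilde (qFrob hF) P ∣ χ := by
    obtain ⟨R, hR⟩ := hPχ
    exact ⟨tilde (qFrob hF) R, by rw [← tilde_mul, ← hR, hχt]⟩
  have hprod : P * tilde (qFrob hF) P ∣ χ := hcop.mul_dvd hPχ hQχ
  have hkm : k = m := by
    have h := natDegree_le_of_dvd hprod hχm.ne_zero
    rw [hPm.natDegree_mul hQm, hQd, ← hk, hχd] at h
    have := Nat.le_of_dvd hk0 hmk
    omega
  have hχeq : χ = P * tilde (qFrob hF) P :=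
    (eq_of_monic_of_dvd_of_natDegree_le (hPm.mul hQm) hχm hprod
      (by rw [hPm.natDegree_mul hQm, hQd, ← hk, hχd]; omega))
  have hfix : qFrob hF (P.coeff 0) = P.coeff 0 := by
    rw [hχeq, mul_coeff_zero, hQ0, ← div_eq_mul_inv,
      div_eq_one_iff_eq ((_root_.map_ne_zero _).2 hP0)] at hdet
    exact hdet.symm
  -- the torus order
  obtain ⟨A, hA0, hA, hAd, hAiff⟩ := eOrd_mul (q := q) (m := m) hq2 (by omega)
  set T := eOrd q m * A with hT
  have hβT : β ^ T = 1 := by
    let b : Module.Basis (Fin k) F (AdjoinRoot P) := (AdjoinRoot.powerBasis hP.ne_zero).basis.reindex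
      (finCongr (AdjoinRoot.powerBasis_dim hP.ne_zero))
    obtain ⟨j, -, hjm, hjd⟩ := det_leftMul b hP hPm
      (show aeval β P = 0 by rw [hβ, AdjoinRoot.aeval_eq, AdjoinRoot.mk_self])
    have hj : j = 1 := by
      exact (Nat.eq_of_mul_eq_mul_right hk0 (by rw [one_mul]; exact hjm)).symm
    rw [hj, pow_one, ← Algebra.norm_eq_matrix_det b] at hjd
    have hn0 : Algebra.norm F β ≠ 0 := Algebra.norm_ne_zero_iff.2 hβ0
    have hnq : Algebra.norm F β ^ (q - 1) = 1 := by
      refine mul_right_cancel₀ hn0 ?_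
      rw [← pow_succ, Nat.sub_add_cancel (by omega : 1 ≤ q), one_mul, ← qFrob_apply hF, hjd, map_mul,
        map_pow, map_neg, map_one, hfix]
    have h := FiniteField.algebraMap_norm_eq_pow (K := F) (x := β)
    have h' := congrArg (fun z => z ^ (q - 1)) h
    rw [← map_pow, hnq, map_one, ← pow_mul, hcK, Nat.card_eq_fintype_card, hF, hkm] at h'
    rw [h']
    congr 1
    -- `T = (q^{2m} - 1) / (q² - 1) * (q - 1)`
    obtain ⟨s, hs⟩ : q ^ 2 - 1 ∣ q ^ (2 * m) - 1 := by
      rw [pow_mul]; simpa using Nat.sub_dvd_pow_sub_pow (q ^ 2) 1 m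
    have hq21 : 0 < q ^ 2 - 1 := Nat.sub_pos_of_lt (Nat.one_lt_pow (by omega) (by omega))
    rw [hs, Nat.mul_div_cancel_left _ hq21]
    have : (q + 1) * (q - 1) = q ^ 2 - 1 := by simpa using (Nat.sq_sub_sq q 1).symm
    refine Nat.eq_of_mul_eq_mul_right (show 0 < q + 1 by omega) ?_
    rw [hA, hs, ← this]
    ring
  set d := Nat.gcd (2 * m) (q + 1) with hd
  have hd1 : d ∣ q + 1 := Nat.gcd_dvd_right _ _
  have hdT : d ∣ T := hAd d hd1 (Nat.gcd_dvd_left _ _)
  have hβd : (β ^ (T / d)) ^ (q + 1) = 1 := by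
    obtain ⟨j, hj⟩ := hd1
    rw [← pow_mul, hj, ← mul_assoc, Nat.div_mul_cancel hdT, pow_mul, hβT, one_pow]
  obtain ⟨c, hc⟩ := (CfsgLib.KnownB.TorusPSL.scalar_pow_card_sub_one hF (pow_ne_zero (T / d) hβ0)).1 (by
    rw [show q ^ 2 - 1 = (q + 1) * (q - 1) by simpa using Nat.sq_sub_sq q 1, pow_mul, hβd, one_pow])
  have hcc : c * qFrob hF c = 1 := by
    refine (algebraMap F (AdjoinRoot P)).injective ?_
    rw [qFrob_apply, ← pow_succ', map_pow, map_one, hc, hβd]
  have hT0 : 0 < T := by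
    refine Nat.mul_pos ?_ hA0
    unfold eOrd
    have := Nat.one_lt_pow (show m ≠ 0 by omega) (show 1 < q by omega)
    split_ifs <;> omega
  have hTd : 0 < T / d := Nat.div_pos (Nat.le_of_dvd hT0 hdT) (Nat.gcd_pos_of_pos_right _ (by omega))
  have hdvdP : P ∣ X ^ (T / d) - C c := (hpoly _ c).2 hc.symm
  have hdvdχ : χ ∣ X ^ (T / d) - C c := by
    rw [hχeq]
    refine hcop.mul_dvd hdvdP ?_
    obtain ⟨R, hR⟩ := hdvdP
    exact ⟨tilde (qFrob hF) R, by rw [← tilde_mul, ← hR, tilde_binomial hF hTd hcc]⟩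
  obtain ⟨R, hR⟩ := hdvdχ
  have h0 := congrArg (aeval (mat g)) hR
  rw [map_mul, hχ, Matrix.aeval_self_charpoly, zero_mul, map_sub, map_pow, aeval_X, aeval_C, sub_eq_zero,
    Algebra.algebraMap_eq_smul_one] at h0
  have hfin : eOrd q m ∣ T / d := by
    rw [← hx]
    refine orderOf_dvd_of_pow_eq_one ?_
    rw [← map_pow]
    exact mk_eq_one_of_smul _ c (by rw [mat_pow, h0])
  refine (hAiff d hd1).1 (Nat.dvd_of_mul_dvd_mul_left (by
    unfold eOrd
    have := Nat.one_lt_pow (show m ≠ 0 by omega) (show 1 < q by omega)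
    split_ifs <;> omega : 0 < eOrd q m) ?_)
  have h5 := Nat.mul_dvd_mul_right hfin d
  rwa [Nat.div_mul_cancel hdT] at h5

include hF in
theorem main (hodd : Odd q) {n : ℕ} (hn : 4 ≤ n) (heven : Even n) :
    (∃ g : Cfsg.PSU n F q, orderOf g = if Even (n / 2) then q ^ (n / 2) + 1 else q ^ (n / 2) - 1) ↔
      padicValNat 2 (q + 1) < padicValNat 2 n := by
  obtain ⟨m, rfl⟩ := heven.two_dvd
  rw [Nat.mul_div_cancel_left m (by norm_num)]
  haveI : Fact (Nat.Prime 2) := ⟨Nat.prime_two⟩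
  have key : padicValNat 2 (q + 1) < padicValNat 2 (2 * m) ↔ Nat.gcd (2 * m) (q + 1) ∣ m := by
    rw [CfsgLib.KnownB.TorusPSL.dvd_half_iff (by omega) (Nat.gcd_dvd_left _ _), Nat.dvd_gcd_iff,
      padicValNat_dvd_iff_le (by omega : q + 1 ≠ 0), ← not_le]
    simp [pow_padicValNat_dvd]
  rw [key]
  exact ⟨dvd_of_exists hF hodd (by omega), exists_of_dvd hF (by omega)⟩

end CfsgLib.KnownB.TorusPSU
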