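import Cfsg.Agent.Lib.Chev.StructG2
import Cfsg.Agent.Lib.Chev.Good
import Cfsg.Agent.Lib.Chev.TorusH
import Cfsg.Agent.Lib.Classical.ChevFieldFix
import Cfsg.Agent.Lib.Classical.SLGen

/-!
The homomorphism of `SL₃` into the group of type G₂ on the long roots, through the splitting
`sl₃ ⊕ V ⊕ V*` of the adjoint module.
-/

set_option autoImplicit false
set_option maxRecDepth 100000

namespace CfsgLib.KnownB.G2SL3

open Cfsg.Lie CfsgLib.Chev Matrix

universe u

variable {R : Type*} [CommRing R]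

/-- The coordinates of the adjoint module. -/
abbrev I : Type := chevG2.Idx

/-- The coordinate of a root. -/
abbrev rt (r : ℕ) (h : r < 12 := by omega) : I := Sum.inr ⟨r, h⟩

/-- The coordinate of a fundamental coroot. -/
abbrev cr (i : ℕ) (h : i < 2 := by omega) : I := Sum.inl ⟨i, h⟩

/-- Coordinates from the three summands. -/
def encFun (M : Matrix (Fin 3) (Fin 3) R) (p q : Fin 3 → R) : I → R :=
  Sum.elim ![M 0 0, M 1 1 + 2 * M 0 0]
    ![-(M 2 0), M 1 0, q 0, p 2, -(p 1), M 2 1, M 1 2, -(q 1), q 2, p 0, M 0 1, -(M 0 2)]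

/-- Case analysis on the coordinates. -/
theorem idx_cases {P : I → Prop} (h0 : P (cr 0)) (h1 : P (cr 1)) (h2 : P (rt 0)) (h3 : P (rt 1)) (h4 : P (rt 2)) (h5 : P (rt 3)) (h6 : P (rt 4)) (h7 : P (rt 5)) (h8 : P (rt 6)) (h9 : P (rt 7)) (h10 : P (rt 8)) (h11 : P (rt 9)) (h12 : P (rt 10)) (h13 : P (rt 11)) :
    ∀ a, P a := by
  rintro (a | a) <;> fin_cases a <;> assumption

theorem enc_cr0 (M : Matrix (Fin 3) (Fin 3) R) (p q : Fin 3 → R) :
    encFun M p q (cr 0) = M 0 0 := rfl

theorem enc_cr1 (M : Matrix (Fin 3) (Fin 3) R) (p q : Fin 3 → R) :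
    encFun M p q (cr 1) = M 1 1 + 2 * M 0 0 := rfl

theorem enc_rt0 (M : Matrix (Fin 3) (Fin 3) R) (p q : Fin 3 → R) :
    encFun M p q (rt 0) = -(M 2 0) := rfl

theorem enc_rt1 (M : Matrix (Fin 3) (Fin 3) R) (p q : Fin 3 → R) :
    encFun M p q (rt 1) = M 1 0 := rfl

theorem enc_rt2 (M : Matrix (Fin 3) (Fin 3) R) (p q : Fin 3 → R) :
    encFun M p q (rt 2) = q 0 := rfl

theorem enc_rt3 (M : Matrix (Fin 3) (Fin 3) R) (p q : Fin 3 → R) :
    encFun M p q (rt 3) = p 2 := rfl

theorem enc_rt4 (M : Matrix (Fin 3) (Fin 3) R) (p q : Fin 3 → R) :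
    encFun M p q (rt 4) = -(p 1) := rfl

theorem enc_rt5 (M : Matrix (Fin 3) (Fin 3) R) (p q : Fin 3 → R) :
    encFun M p q (rt 5) = M 2 1 := rfl

theorem enc_rt6 (M : Matrix (Fin 3) (Fin 3) R) (p q : Fin 3 → R) :
    encFun M p q (rt 6) = M 1 2 := rfl

theorem enc_rt7 (M : Matrix (Fin 3) (Fin 3) R) (p q : Fin 3 → R) :
    encFun M p q (rt 7) = -(q 1) := rfl

theorem enc_rt8 (M : Matrix (Fin 3) (Fin 3) R) (p q : Fin 3 → R) :
    encFun M p q (rt 8) = q 2 := rfl

theorem enc_rt9 (M : Matrix (Fin 3) (Fin 3) R) (p q : Fin 3 → R) :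
    encFun M p q (rt 9) = p 0 := rfl

theorem enc_rt10 (M : Matrix (Fin 3) (Fin 3) R) (p q : Fin 3 → R) :
    encFun M p q (rt 10) = M 0 1 := rfl

theorem enc_rt11 (M : Matrix (Fin 3) (Fin 3) R) (p q : Fin 3 → R) :
    encFun M p q (rt 11) = -(M 0 2) := rfl

/-- The summand `sl₃`. -/
def mat3 (v : I → R) : Matrix (Fin 3) (Fin 3) R :=
  !![v (cr 0), v (rt 10), -(v (rt 11));
     v (rt 1), v (cr 1) - 2 * v (cr 0), v (rt 6);
     -(v (rt 0)), v (rt 5), v (cr 0) - v (cr 1)]

/-- The summand `V`. -/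
def vecV (v : I → R) : Fin 3 → R := ![v (rt 9), -(v (rt 4)), v (rt 3)]

/-- The summand `V*`. -/
def vecW (v : I → R) : Fin 3 → R := ![v (rt 2), -(v (rt 7)), v (rt 8)]

theorem encFun_add (M M' : Matrix (Fin 3) (Fin 3) R) (p p' q q' : Fin 3 → R) :
    encFun (M + M') (p + p') (q + q') = encFun M p q + encFun M' p' q' := by
  funext a
  revert a
  apply idx_cases <;> simp [enc_cr0, enc_cr1, enc_rt0, enc_rt1, enc_rt2, enc_rt3, enc_rt4, enc_rt5, enc_rt6, enc_rt7, enc_rt8, enc_rt9, enc_rt10, enc_rt11] <;> ring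

theorem encFun_smul (c : R) (M : Matrix (Fin 3) (Fin 3) R) (p q : Fin 3 → R) :
    encFun (c • M) (c • p) (c • q) = c • encFun M p q := by
  funext a
  revert a
  apply idx_cases <;> simp [enc_cr0, enc_cr1, enc_rt0, enc_rt1, enc_rt2, enc_rt3, enc_rt4, enc_rt5, enc_rt6, enc_rt7, enc_rt8, enc_rt9, enc_rt10, enc_rt11] <;> ring

theorem mat3_encFun (M : Matrix (Fin 3) (Fin 3) R) (p q : Fin 3 → R) (h : M.trace = 0) :
    mat3 (encFun M p q) = M := by
  rw [Matrix.trace_fin_three] at h
  ext i j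
  fin_cases i <;> fin_cases j <;> simp [mat3, enc_cr0, enc_cr1, enc_rt0, enc_rt1, enc_rt2, enc_rt3, enc_rt4, enc_rt5, enc_rt6, enc_rt7, enc_rt8, enc_rt9, enc_rt10, enc_rt11]
  linear_combination -h

theorem vecV_encFun (M : Matrix (Fin 3) (Fin 3) R) (p q : Fin 3 → R) : vecV (encFun M p q) = p := by
  funext i; fin_cases i <;> simp [vecV, enc_cr0, enc_cr1, enc_rt0, enc_rt1, enc_rt2, enc_rt3, enc_rt4, enc_rt5, enc_rt6, enc_rt7, enc_rt8, enc_rt9, enc_rt10, enc_rt11]

theorem vecW_encFun (M : Matrix (Fin 3) (Fin 3) R) (p q : Fin 3 → R) : vecW (encFun M p q) = q := by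
  funext i; fin_cases i <;> simp [vecW, enc_cr0, enc_cr1, enc_rt0, enc_rt1, enc_rt2, enc_rt3, enc_rt4, enc_rt5, enc_rt6, enc_rt7, enc_rt8, enc_rt9, enc_rt10, enc_rt11]

theorem trace_mat3 (v : I → R) : (mat3 v).trace = 0 := by
  rw [Matrix.trace_fin_three]; simp [mat3]; ring

theorem encFun_mat3 (v : I → R) : encFun (mat3 v) (vecV v) (vecW v) = v := by
  funext a
  revert a
  apply idx_cases <;> simp [mat3, vecV, vecW, enc_cr0, enc_cr1, enc_rt0, enc_rt1, enc_rt2, enc_rt3, enc_rt4, enc_rt5, enc_rt6, enc_rt7, enc_rt8, enc_rt9, enc_rt10, enc_rt11]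

theorem mat3_add (v w : I → R) : mat3 (v + w) = mat3 v + mat3 w := by
  ext i j; fin_cases i <;> fin_cases j <;> simp [mat3] <;> ring

theorem mat3_smul (c : R) (v : I → R) : mat3 (c • v) = c • mat3 v := by
  ext i j; fin_cases i <;> fin_cases j <;> simp [mat3] <;> ring

theorem vecV_add (v w : I → R) : vecV (v + w) = vecV v + vecV w := by
  funext i; fin_cases i <;> simp [vecV] <;> ring

theorem vecV_smul (c : R) (v : I → R) : vecV (c • v) = c • vecV v := by
  funext i; fin_cases i <;> simp [vecV]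

theorem vecW_add (v w : I → R) : vecW (v + w) = vecW v + vecW w := by
  funext i; fin_cases i <;> simp [vecW] <;> ring

theorem vecW_smul (c : R) (v : I → R) : vecW (c • v) = c • vecW v := by
  funext i; fin_cases i <;> simp [vecW]

/-- Matrices on the three summands. -/
abbrev M3 (R : Type*) : Type _ := Matrix (Fin 3) (Fin 3) R

/-- The linear map given on the three summands. -/
def glin (f : M3 R →ₗ[R] M3 R) (P Q : M3 R) : (I → R) →ₗ[R] (I → R) where
  toFun v := encFun (f (mat3 v)) (P *ᵥ vecV v) (Q *ᵥ vecW v)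
  map_add' v w := by
    rw [mat3_add, vecV_add, vecW_add, map_add, Matrix.mulVec_add, Matrix.mulVec_add, encFun_add]
  map_smul' c v := by
    rw [mat3_smul, vecV_smul, vecW_smul, map_smul, Matrix.mulVec_smul, Matrix.mulVec_smul, encFun_smul,
      RingHom.id_apply]

theorem glin_apply (f : M3 R →ₗ[R] M3 R) (P Q : M3 R) (v : I → R) :
    glin f P Q v = encFun (f (mat3 v)) (P *ᵥ vecV v) (Q *ᵥ vecW v) := rfl

theorem glin_add (f f' : M3 R →ₗ[R] M3 R) (P P' Q Q' : M3 R) :
    glin (f + f') (P + P') (Q + Q') = glin f P Q + glin f' P' Q' := by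
  refine LinearMap.ext fun v => ?_
  rw [glin_apply, LinearMap.add_apply, Matrix.add_mulVec, Matrix.add_mulVec, encFun_add,
    LinearMap.add_apply, glin_apply, glin_apply]

theorem glin_smul (c : R) (f : M3 R →ₗ[R] M3 R) (P Q : M3 R) :
    glin (c • f) (c • P) (c • Q) = c • glin f P Q := by
  refine LinearMap.ext fun v => ?_
  rw [glin_apply, LinearMap.smul_apply, Matrix.smul_mulVec, Matrix.smul_mulVec, encFun_smul,
    LinearMap.smul_apply, glin_apply]

theorem glin_id : glin (LinearMap.id : M3 R →ₗ[R] M3 R) 1 1 = LinearMap.id := by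
  refine LinearMap.ext fun v => ?_
  rw [glin_apply, LinearMap.id_apply, Matrix.one_mulVec, Matrix.one_mulVec, encFun_mat3, LinearMap.id_apply]

theorem glin_comp (f f' : M3 R →ₗ[R] M3 R) (P P' Q Q' : M3 R)
    (hf' : ∀ M : M3 R, M.trace = 0 → (f' M).trace = 0) :
    glin f P Q ∘ₗ glin f' P' Q' = glin (f ∘ₗ f') (P * P') (Q * Q') := by
  refine LinearMap.ext fun v => ?_
  rw [LinearMap.comp_apply, glin_apply, glin_apply, glin_apply, vecV_encFun, vecW_encFun,
    mat3_encFun _ _ _ (hf' _ (trace_mat3 v)), Matrix.mulVec_mulVec, Matrix.mulVec_mulVec,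
    LinearMap.comp_apply]

/-! ### The action of a matrix with its inverse -/

/-- The action of `A` with inverse `B`. -/
def act (A B : M3 R) : (I → R) →ₗ[R] (I → R) := glin (LinearMap.mulLeftRight R (A, B)) A Bᵀ

/-- Its matrix. -/
def actMat (A B : M3 R) : Matrix I I R := LinearMap.toMatrix' (act A B)

theorem actMat_mul (A B C D : M3 R) (hCD : D * C = 1) :
    actMat A B * actMat C D = actMat (A * C) (D * B) := by
  have h : act A B ∘ₗ act C D = act (A * C) (D * B) := by
    rw [act, act, glin_comp, act, Matrix.transpose_mul]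
    · congr 1
      refine LinearMap.ext fun M => ?_
      simp only [LinearMap.comp_apply, LinearMap.mulLeftRight_apply, Matrix.mul_assoc]
    · intro M hM
      rw [LinearMap.mulLeftRight_apply, Matrix.trace_mul_cycle, hCD, Matrix.one_mul, hM]
  rw [actMat, actMat, actMat, ← LinearMap.toMatrix'_comp, h]

theorem actMat_one : actMat (1 : M3 R) 1 = 1 := by
  rw [actMat, act, Matrix.transpose_one,
    show LinearMap.mulLeftRight R ((1 : M3 R), (1 : M3 R)) = LinearMap.id from
      LinearMap.ext fun M => by simp, glin_id, LinearMap.toMatrix'_id]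

/-- First order term of a transvection. -/
def linOne (E : M3 R) : Matrix I I R :=
  LinearMap.toMatrix' (glin (LinearMap.mulLeft R E - LinearMap.mulRight R E) E (-Eᵀ))

/-- Second order term of a transvection. -/
def linTwo (E : M3 R) : Matrix I I R :=
  LinearMap.toMatrix' (glin (-(LinearMap.mulLeftRight R (E, E))) 0 0)

theorem actMat_expand (E : M3 R) (t : R) :
    actMat (1 + t • E) (1 - t • E) = 1 + t • linOne E + t ^ 2 • linTwo E := by
  have hf : LinearMap.mulLeftRight R (1 + t • E, 1 - t • E) =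
      LinearMap.id + t • (LinearMap.mulLeft R E - LinearMap.mulRight R E) +
        t ^ 2 • (-(LinearMap.mulLeftRight R (E, E))) := by
    refine LinearMap.ext fun M => ?_
    simp only [LinearMap.mulLeftRight_apply, LinearMap.add_apply, LinearMap.smul_apply, LinearMap.id_apply,
      LinearMap.sub_apply, LinearMap.neg_apply, LinearMap.mulLeft_apply, LinearMap.mulRight_apply]
    simp only [add_mul, mul_sub, one_mul, mul_one, Matrix.smul_mul, Matrix.mul_smul, smul_smul, smul_sub,
      smul_neg, pow_two]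
    abel
  have hA : (1 + t • E : M3 R) = 1 + t • E + t ^ 2 • (0 : M3 R) := by rw [smul_zero, add_zero]
  have hB : (1 - t • E : M3 R)ᵀ = 1 + t • (-Eᵀ) + t ^ 2 • (0 : M3 R) := by
    rw [Matrix.transpose_sub, Matrix.transpose_one, Matrix.transpose_smul, smul_zero, add_zero, smul_neg,
      sub_eq_add_neg]
  rw [actMat, act, hf, hB]
  conv_lhs => arg 2; arg 2; rw [hA]
  rw [glin_add, glin_add, glin_smul, glin_smul, glin_id, map_add, map_add, map_smul, map_smul,
    LinearMap.toMatrix'_id]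
  rfl

/-! ### Naturality -/

variable {S : Type*} [CommRing S] (φ : R →+* S)

theorem map_encFun (M : M3 R) (p q : Fin 3 → R) :
    φ ∘ encFun M p q = encFun (M.map φ) (φ ∘ p) (φ ∘ q) := by
  funext a
  revert a
  apply idx_cases <;> simp [enc_cr0, enc_cr1, enc_rt0, enc_rt1, enc_rt2, enc_rt3, enc_rt4, enc_rt5, enc_rt6, enc_rt7, enc_rt8, enc_rt9, enc_rt10, enc_rt11, map_ofNat]

theorem map_mat3 (v : I → R) : (mat3 v).map φ = mat3 (φ ∘ v) := by
  ext i j; fin_cases i <;> fin_cases j <;> simp [mat3, map_ofNat]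

theorem map_vecV (v : I → R) : φ ∘ vecV v = vecV (φ ∘ v) := by
  funext i; fin_cases i <;> simp [vecV]

theorem map_vecW (v : I → R) : φ ∘ vecW v = vecW (φ ∘ v) := by
  funext i; fin_cases i <;> simp [vecW]

theorem map_mulVec' {ι : Type*} [Fintype ι] (M : Matrix ι ι R) (v : ι → R) :
    φ ∘ (M *ᵥ v) = M.map φ *ᵥ (φ ∘ v) := by
  funext i; exact RingHom.map_mulVec φ M v i

theorem map_glin (f : M3 R →ₗ[R] M3 R) (f' : M3 S →ₗ[S] M3 S)
    (hf : ∀ M : M3 R, (f M).map φ = f' (M.map φ)) (P Q : M3 R) (v : I → R) :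
    φ ∘ glin f P Q v = glin f' (P.map φ) (Q.map φ) (φ ∘ v) := by
  rw [glin_apply, glin_apply, map_encFun, hf, map_mat3, map_mulVec', map_mulVec', map_vecV, map_vecW]

theorem map_toMatrix (f : M3 R →ₗ[R] M3 R) (f' : M3 S →ₗ[S] M3 S)
    (hf : ∀ M : M3 R, (f M).map φ = f' (M.map φ)) (P Q : M3 R) :
    (LinearMap.toMatrix' (glin f P Q)).map φ = LinearMap.toMatrix' (glin f' (P.map φ) (Q.map φ)) := by
  ext a b
  rw [Matrix.map_apply, LinearMap.toMatrix'_apply, LinearMap.toMatrix'_apply]
  have h := congrFun (map_glin φ f f' hf P Q (Pi.single b 1)) a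
  rw [Function.comp_apply] at h
  rw [h]
  refine congrFun (congrArg _ (funext fun k => ?_)) a
  simp [Pi.single_apply, apply_ite φ]

theorem map_actMat (A B : M3 R) : (actMat A B).map φ = actMat (A.map φ) (B.map φ) := by
  rw [actMat, act, map_toMatrix φ _ (LinearMap.mulLeftRight S (A.map φ, B.map φ)) (fun M => by
    simp only [LinearMap.mulLeftRight_apply, Matrix.map_mul]), Matrix.transpose_map]
  rfl

theorem map_linOne (E : M3 R) : (linOne E).map φ = linOne (E.map φ) := by
  rw [linOne, map_toMatrix φ _ (LinearMap.mulLeft S (E.map φ) - LinearMap.mulRight S (E.map φ)) (fun M => by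
    simp only [LinearMap.sub_apply, LinearMap.mulLeft_apply, LinearMap.mulRight_apply]
    ext i j
    simp [Matrix.mul_apply])]
  congr 2
  ext i j; simp

theorem map_linTwo (E : M3 R) : (linTwo E).map φ = linTwo (E.map φ) := by
  rw [linTwo, map_toMatrix φ _ (-(LinearMap.mulLeftRight S (E.map φ, E.map φ))) (fun M => by
    simp only [LinearMap.neg_apply, LinearMap.mulLeftRight_apply]
    ext i j
    simp [Matrix.mul_apply])]
  congr 2 <;> simp

/-! ### Comparison with the root elements -/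

/-- The root of an off-diagonal position. -/
def rOf (i j : Fin 3) : ℕ := (![![0, 10, 11], ![1, 0, 6], ![0, 5, 0]] : Fin 3 → Fin 3 → ℕ) i j

/-- Its sign. -/
def sgn (i j : Fin 3) : ℤ := (![![1, 1, -1], ![1, 1, 1], ![-1, 1, 1]] : Fin 3 → Fin 3 → ℤ) i j

theorem rOf_lt (i j : Fin 3) : rOf i j < chevG2.nroots := by
  fin_cases i <;> fin_cases j <;> decide

theorem sgn_sq (i j : Fin 3) : sgn i j * sgn i j = 1 := by fin_cases i <;> fin_cases j <;> decide

theorem table_one : ∀ i j : Fin 3, i ≠ j →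
    linOne (Matrix.single i j (1 : ℤ)) = sgn i j • rmat chevG2 (rOf i j) 1 := by
  decide +kernel

theorem table_two : ∀ i j : Fin 3, i ≠ j →
    linTwo (Matrix.single i j (1 : ℤ)) = rmat chevG2 (rOf i j) 2 := by
  decide +kernel

theorem table_three : ∀ i j : Fin 3, i ≠ j → rmat chevG2 (rOf i j) 3 = 0 := by
  decide +kernel

variable {F : Type u} [Field F]

theorem actMat_transvection {i j : Fin 3} (h : i ≠ j) (t : F) :
    actMat (Matrix.transvection i j t) (Matrix.transvection i j (-t)) =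
      chevG2.x F (rOf i j) ((sgn i j : F) * t) := by
  have hE : (Matrix.single i j (1 : ℤ)).map (Int.castRingHom F) = Matrix.single i j (1 : F) := by
    ext a b
    simp only [Matrix.map_apply, Matrix.single, Matrix.of_apply]
    split_ifs <;> simp
  have e1 : linOne (Matrix.single i j (1 : F)) =
      (sgn i j : F) • (rmat chevG2 (rOf i j) 1).map (Int.cast : ℤ → F) := by
    rw [← hE, ← map_linOne, table_one i j h]
    ext a b
    simp only [Matrix.map_apply, Matrix.smul_apply, smul_eq_mul, Int.cast_mul, eq_intCast]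
  have e2 : linTwo (Matrix.single i j (1 : F)) = (rmat chevG2 (rOf i j) 2).map (Int.cast : ℤ → F) := by
    rw [← hE, ← map_linTwo, table_two i j h]
    rfl
  have hA : Matrix.transvection i j t = 1 + t • Matrix.single i j (1 : F) := by
    rw [Matrix.transvection, Matrix.smul_single, smul_eq_mul, mul_one]
  have hB : Matrix.transvection i j (-t) = 1 - t • Matrix.single i j (1 : F) := by
    rw [Matrix.transvection, sub_eq_add_neg, ← neg_smul, Matrix.smul_single, smul_eq_mul, mul_one]
  rw [hA, hB, actMat_expand, e1, e2, x_eq goodG2.lie.shape (rOf_lt i j), table_three i j h, smul_smul,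
    mul_comm (sgn i j : F), Matrix.map_zero _ Int.cast_zero, smul_zero, add_zero]
  congr 2
  rw [mul_pow, show (sgn i j : F) ^ 2 = 1 by rw [pow_two, ← Int.cast_mul, sgn_sq, Int.cast_one], mul_one]

/-- The homomorphism. -/
noncomputable def toG2 : Matrix.SpecialLinearGroup (Fin 3) F →* GL I F :=
  MonoidHom.toHomUnits
    { toFun := fun A => actMat (A : M3 F) ((A⁻¹ : Matrix.SpecialLinearGroup (Fin 3) F) : M3 F)
      map_one' := by rw [inv_one, Matrix.SpecialLinearGroup.coe_one, actMat_one]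
      map_mul' := fun A B => by
        rw [Matrix.SpecialLinearGroup.coe_mul, _root_.mul_inv_rev, Matrix.SpecialLinearGroup.coe_mul,
          actMat_mul]
        rw [← Matrix.SpecialLinearGroup.coe_mul, inv_mul_cancel, Matrix.SpecialLinearGroup.coe_one] }

theorem coe_toG2 (A : Matrix.SpecialLinearGroup (Fin 3) F) :
    ((toG2 A : GL I F) : Matrix I I F) =
      actMat (A : M3 F) ((A⁻¹ : Matrix.SpecialLinearGroup (Fin 3) F) : M3 F) := rfl

theorem toG2_transvection {i j : Fin 3} (h : i ≠ j) (t : F) :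
    toG2 (Matrix.SpecialLinearGroup.transvection h t) = goodG2.xG (rOf i j) ((sgn i j : F) * t) := by
  refine Units.ext ?_
  have hinv : (Matrix.SpecialLinearGroup.transvection h t)⁻¹ = Matrix.SpecialLinearGroup.transvection h (-t) :=
    inv_eq_of_mul_eq_one_right (Subtype.ext (by
      rw [Matrix.SpecialLinearGroup.coe_mul, Matrix.SpecialLinearGroup.coe_one]
      show Matrix.transvection i j t * Matrix.transvection i j (-t) = 1
      rw [Matrix.transvection_mul_transvection_same _ _ h, add_neg_cancel, Matrix.transvection_zero]))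
  rw [coe_toG2, hinv, goodG2.coe_xG]
  exact actMat_transvection h t

theorem toG2_mem (A : Matrix.SpecialLinearGroup (Fin 3) F) : toG2 A ∈ chevG2.group F := by
  have h := CfsgLib.Classical.sl_transvection_induction ((chevG2.group F).comap (toG2 (F := F)))
    fun i j hij c => by
      rw [Subgroup.mem_comap, toG2_transvection]
      exact goodG2.xG_mem_group (rOf_lt i j) _
  exact Subgroup.mem_comap.1 (h ▸ Subgroup.mem_top A)

theorem map_toG2 {K : Type*} [Field K] (f : F →+* K) (A : Matrix.SpecialLinearGroup (Fin 3) F) :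
    Matrix.GeneralLinearGroup.map f (toG2 A) = toG2 (Matrix.SpecialLinearGroup.map f A) := by
  refine Units.ext ?_
  show ((toG2 A : GL I F) : Matrix I I F).map f = _
  rw [coe_toG2, map_actMat, coe_toG2, ← map_inv]
  rfl

end CfsgLib.KnownB.G2SL3
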