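import Cfsg.Agent.Lib.KnownB.SzSums

/-!
# Every non-trivial element of `Sz(q)` is a product of two conjugates of an element of order `> 2`
-/

set_option autoImplicit false
set_option linter.unusedSectionVars false

namespace CfsgLib.KnownB.SzCh

open CfsgLib.Suzuki CfsgLib.Char
open scoped ComplexConjugate

section Criterion

variable {G : Type*} [Group G] [Fintype G] [Fintype (Cfsg.IrrCharacter G)]

/-- The Frobenius sum deciding whether `g` is a product of two conjugates of `x`. -/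
noncomputable def frobSum (x g : G) : ℂ :=
  ∑ χ : Cfsg.IrrCharacter G, (χ : G → ℂ) x ^ 2 * conj ((χ : G → ℂ) g) / (χ : G → ℂ) 1

theorem frobSum_conj (x g s t : G) : frobSum (s * x * s⁻¹) (t * g * t⁻¹) = frobSum x g :=
  Finset.sum_congr rfl fun χ _ => by
    rw [irr_isClassFunction χ.2 x s, irr_isClassFunction χ.2 g t]

theorem exists_two_conj {x g : G} (h : frobSum x g ≠ 0) :
    ∃ u v : G, g = (u * x * u⁻¹) * (v * x * v⁻¹) := by
  classical
  by_contra hcon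
  push Not at hcon
  have h1 := CfsgLib.BlockB.sum_classFun_mul_conj
    (classIndicator_isClassFunction (ConjClasses.mk g)) x x
  have h0 : ∀ t : G, classIndicator (ConjClasses.mk g) (x * (t * x * t⁻¹)) = 0 := by
    intro t
    unfold classIndicator
    rw [if_neg]
    intro e
    obtain ⟨y, hy⟩ := isConj_iff.1 (ConjClasses.mk_eq_mk_iff_isConj.1 e)
    refine hcon y (y * t) ?_
    rw [← hy]
    group
  rw [Finset.sum_eq_zero fun t _ => h0 t] at h1
  have h2 : ∀ χ : Cfsg.IrrCharacter G,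
      Cfsg.classInner (classIndicator (ConjClasses.mk g)) (χ : G → ℂ) * (χ : G → ℂ) x *
        (χ : G → ℂ) x / (χ : G → ℂ) 1 =
      (Nat.card G : ℂ)⁻¹ * (Nat.card (ConjClasses.mk g).carrier : ℂ) *
        ((χ : G → ℂ) x ^ 2 * conj ((χ : G → ℂ) g) / (χ : G → ℂ) 1) := by
    intro χ
    rw [classInner_def, sum_classIndicator_mul _ _ (irr_isClassFunction χ.2) g rfl]
    ring
  rw [Finset.sum_congr rfl fun χ _ => h2 χ, ← Finset.mul_sum] at h1
  rcases mul_eq_zero.1 h1.symm with e | e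
  · exact natCard_ne_zero e
  rcases mul_eq_zero.1 e with e | e
  · rcases mul_eq_zero.1 e with e | e
    · exact inv_ne_zero natCard_ne_zero e
    · have : Nonempty (ConjClasses.mk g).carrier := ⟨⟨g, ConjClasses.mem_carrier_mk⟩⟩
      rw [Nat.cast_eq_zero] at e
      exact Nat.card_pos.ne' e
  · exact h e

theorem ne_zero_of_norm_lt {z : ℂ} (r : ℝ) (h : ‖z - (r : ℂ)‖ < r) : z ≠ 0 := fun e => by
  rw [e, zero_sub, norm_neg, Complex.norm_real, Real.norm_eq_abs] at h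
  exact absurd (le_abs_self r) (not_le.2 h)

theorem ne_zero_of_eq_real {z : ℂ} {r : ℝ} (h : z = (r : ℂ)) (hr : 0 < r) : z ≠ 0 := by
  rw [h]
  exact Complex.ofReal_ne_zero.2 hr.ne'

end Criterion

/-- The inequalities needed, with `k = 2^m`. -/
theorem ineqs {k : ℝ} (hk : k = 2 ∨ 4 ≤ k) :
    1 / (2 * k ^ 2) ^ 2 ≤ 1 / 64 ∧ 2 / (k * (2 * k ^ 2 - 1)) ≤ 1 / 7 ∧
    2 * k / (2 * k ^ 2 - 1) ≤ 4 / 7 ∧ 2 * k / (k * (2 * k ^ 2 - 1)) ≤ 2 / 7 ∧
    4 * (2 * k - 1) / ((2 * k ^ 2 - 1) * (2 * k ^ 2 - 2 * k + 1)) ≤ 12 / 35 ∧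
    (2 * k ^ 2 + 2 * k - 3) / ((2 * k ^ 2 - 1) * (2 * k ^ 2 - 2 * k + 1)) ≤ 9 / 35 ∧
    4 / ((2 * k ^ 2 - 1) * (2 * k ^ 2 - 2 * k + 1)) ≤ 4 / 35 ∧
    (2 * k ^ 2 - 2 * k - 3) * (2 * k + 1) / ((2 * k ^ 2 - 1) * (2 * k ^ 2 + 2 * k + 1)) ≤ 1 / 3 ∧
    4 * (2 * k + 1) / ((2 * k ^ 2 - 1) * (2 * k ^ 2 + 2 * k + 1)) ≤ 1 / 3 ∧
    4 * (2 * k ^ 2 - 2 * k - 3) / ((2 * k ^ 2 - 1) * (2 * k ^ 2 + 2 * k + 1)) ≤ 1 / 3 ∧
    4 * (2 * k ^ 2 + 2 * k - 3) / ((2 * k ^ 2 - 1) * (2 * k ^ 2 - 2 * k + 1)) <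
      1 - 1 / (2 * k ^ 2) ^ 2 + 2 / (k * (2 * k ^ 2 - 1)) ∧
    2 * (2 * k ^ 2) / ((2 * k ^ 2) ^ 2 + 1) ≤ 1 / 4 := by
  rcases hk with rfl | hk
  · norm_num
  have a1 : 31 ≤ 2 * k ^ 2 - 1 := by nlinarith
  have a2 : 25 ≤ 2 * k ^ 2 - 2 * k + 1 := by nlinarith
  have a3 : 41 ≤ 2 * k ^ 2 + 2 * k + 1 := by nlinarith
  have a4 : 1024 ≤ (2 * k ^ 2) ^ 2 := by nlinarith
  have a5 : 124 ≤ k * (2 * k ^ 2 - 1) := by nlinarith
  have p1 : (0 : ℝ) < (2 * k ^ 2 - 1) * (2 * k ^ 2 - 2 * k + 1) :=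
    mul_pos (by linarith) (by linarith)
  have p2 : (0 : ℝ) < (2 * k ^ 2 - 1) * (2 * k ^ 2 + 2 * k + 1) :=
    mul_pos (by linarith) (by linarith)
  have b1 : 1 / (2 * k ^ 2) ^ 2 ≤ 1 / 64 := by
    rw [div_le_iff₀ (by linarith)]; linarith
  have b2 : 2 / (k * (2 * k ^ 2 - 1)) ≤ 1 / 7 := by
    rw [div_le_iff₀ (by linarith)]; linarith
  have b6 : (2 * k ^ 2 + 2 * k - 3) / ((2 * k ^ 2 - 1) * (2 * k ^ 2 - 2 * k + 1)) ≤ 1 / 8 := by
    rw [div_le_iff₀ p1]; nlinarith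
  refine ⟨b1, b2, ?_, ?_, ?_, b6.trans (by norm_num), ?_, ?_, ?_, ?_, ?_, ?_⟩
  · rw [div_le_iff₀ (by linarith)]; nlinarith
  · rw [div_le_iff₀ (by linarith)]; nlinarith
  · rw [div_le_iff₀ p1]; nlinarith
  · rw [div_le_iff₀ p1]; nlinarith
  · rw [div_le_iff₀ p2]; nlinarith
  · rw [div_le_iff₀ p2]; nlinarith
  · rw [div_le_iff₀ p2]; nlinarith
  · rw [mul_div_assoc]
    have : 0 ≤ 2 / (k * (2 * k ^ 2 - 1)) := by positivity
    linarith
  · rw [div_le_iff₀ (by positivity)]; nlinarith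

variable {F : Type*} [Field F] [CharP F 2] [Fintype F] {m : ℕ}
variable (hm : 1 ≤ m) (hF : Fintype.card F = 2 ^ (2 * m + 1))
variable [Fintype (Cfsg.Sz F m)] [Fintype (Cfsg.IrrCharacter (Cfsg.Sz F m))]

local notation "Kc" => ((2 : ℂ) ^ m)
local notation "Qc" => (2 * ((2 : ℂ) ^ m) ^ 2)
local notation "Kr" => ((2 : ℝ) ^ m)
local notation "Qr" => (2 * ((2 : ℝ) ^ m) ^ 2)
local notation "GG" => Cfsg.Sz F m
local notation "sX" => setX (F := F) (m := m)
local notation "sY" => setY (F := F) (m := m)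
local notation "sZ" => setZ (F := F) (m := m)
local notation "sW" => setW (F := F) (m := m)

include hm hF

omit [Fintype (Cfsg.Sz F m)] [Fintype (Cfsg.IrrCharacter (Cfsg.Sz F m))] in
theorem k_cases : Kr = 2 ∨ 4 ≤ Kr := by
  rcases (show m = 1 ∨ 2 ≤ m by omega) with rfl | h
  · exact Or.inl (pow_one 2)
  · exact Or.inr (le_trans (by norm_num) (pow_le_pow_right₀ one_le_two h))

/-- The Frobenius sum, split by type of character. -/
theorem frobSum_split {x g : GG} {wv : ℂ}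
    (hW : ∀ χ ∈ sW, (χ : GG → ℂ) x ^ 2 = wv) :
    frobSum x g = 1 + stChar hF x ^ 2 * conj (stChar hF g) / Qc ^ 2 +
      (∑ χ ∈ sX, (χ : GG → ℂ) x ^ 2 * conj ((χ : GG → ℂ) g)) / (Qc ^ 2 + 1) +
      (∑ χ ∈ sY, (χ : GG → ℂ) x ^ 2 * conj ((χ : GG → ℂ) g)) /
        ((Qc - 1) * (Qc - 2 * Kc + 1)) +
      (∑ χ ∈ sZ, (χ : GG → ℂ) x ^ 2 * conj ((χ : GG → ℂ) g)) /
        ((Qc - 1) * (Qc + 2 * Kc + 1)) +
      wv * conj (wSum hF g) / (Kc * (Qc - 1)) := by
  rw [frobSum, sum_split hm hF (fun χ => χ x ^ 2 * conj (χ g) / χ 1), stChar_one hF,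
    Finset.sum_congr (s₁ := sX) rfl fun χ h => by rw [(one_of_deg hm hF).1 h],
    Finset.sum_congr (s₁ := sY) rfl fun χ h => by rw [(one_of_deg hm hF).2.1 h],
    Finset.sum_congr (s₁ := sZ) rfl fun χ h => by rw [(one_of_deg hm hF).2.2.1 h],
    Finset.sum_congr (s₁ := sW) rfl fun χ h => by rw [(one_of_deg hm hF).2.2.2 h, hW χ h],
    ← Finset.sum_div, ← Finset.sum_div, ← Finset.sum_div, ← Finset.sum_div,
    ← Finset.mul_sum sW, ← map_sum, (sum_setW hm hF).2, map_one]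
  ring

omit [Fintype (Cfsg.Sz F m)] [Fintype (Cfsg.IrrCharacter (Cfsg.Sz F m))] in
/-- Representatives for the non-trivial elements. -/
theorem rep_cases {g : GG} (hg : g ≠ 1) : ∃ s : GG, s * g * s⁻¹ ≠ 1 ∧
    (s * g * s⁻¹ ∈ zSub (thSq_of_card hF) ∨
      (s * g * s⁻¹ ∈ uSub (thSq_of_card hF) ∧ s * g * s⁻¹ ∉ zSub (thSq_of_card hF)) ∨
      s * g * s⁻¹ ∈ hSub (thSq_of_card hF) ∨ s * g * s⁻¹ ∈ torP hm hF ∨
      s * g * s⁻¹ ∈ torM hm hF) := by
  have hne : ∀ s : GG, s * g * s⁻¹ ≠ 1 := fun s e => hg (conj_eq_one_iff.1 e)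
  rcases type_cases hm hF g hg with ⟨-, s, hs⟩ | ⟨-, s, hs⟩ | ⟨-, s, hs⟩ | ⟨-, s, hs⟩
  · by_cases hz : s * g * s⁻¹ ∈ zSub (thSq_of_card hF)
    · exact ⟨s, hne s, Or.inl hz⟩
    · exact ⟨s, hne s, Or.inr (Or.inl ⟨hs, hz⟩)⟩
  · exact ⟨s, hne s, Or.inr (Or.inr (Or.inl hs))⟩
  · exact ⟨s, hne s, Or.inr (Or.inr (Or.inr (Or.inl hs)))⟩
  · exact ⟨s, hne s, Or.inr (Or.inr (Or.inr (Or.inr hs)))⟩

set_option maxHeartbeats 800000 in
theorem ne_u {x : GG} (hx : x ∈ uSub (thSq_of_card hF)) (hxz : x ∉ zSub (thSq_of_card hF))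
    {g : GG} (hg : g ≠ 1) : frobSum x g ≠ 0 := by
  obtain ⟨s, hs1, hs⟩ := rep_cases hm hF hg
  rw [← frobSum_conj x g 1 s, one_mul, inv_one, mul_one]
  generalize s * g * s⁻¹ = g at hs1 hs
  obtain ⟨-, sU, -, -, -, -⟩ := stChar_vals hm hF
  obtain ⟨hN, hW⟩ := setW_u hm hF
  obtain ⟨wZ, wU, wH, wP, wM⟩ := wSum_vals hm hF
  have hk := k_cases hm hF
  obtain ⟨i1, i2, i3, i4, i5, i6, i7, i8, i9, i10, i11, i12⟩ := ineqs hk
  have hk2 : 2 ≤ Kr := by rcases hk with h | h <;> linarith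
  have hQ : 8 ≤ Qr := by nlinarith
  have hnM : 5 ≤ Qr - 2 * Kr + 1 := by nlinarith
  have hnP : 13 ≤ Qr + 2 * Kr + 1 := by nlinarith
  have hN' : ((sX).card : ℝ) + (sY).card + (sZ).card = Qr - 1 := by
    apply Complex.ofReal_injective
    push_cast
    exact hN
  have c1 : (0 : ℝ) ≤ (sX).card := Nat.cast_nonneg _
  have c2 : (0 : ℝ) ≤ (sY).card := Nat.cast_nonneg _
  have c3 : (0 : ℝ) ≤ (sZ).card := Nat.cast_nonneg _
  have p1 : 0 < (Qr - 1) * (Qr - 2 * Kr + 1) := mul_pos (by linarith) (by linarith)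
  have p2 : 0 < (Qr - 1) * (Qr + 2 * Kr + 1) := mul_pos (by linarith) (by linarith)
  have base : frobSum x g = 1 + (∑ χ ∈ sX, conj ((χ : GG → ℂ) g)) / (Qc ^ 2 + 1) +
      (∑ χ ∈ sY, conj ((χ : GG → ℂ) g)) / ((Qc - 1) * (Qc - 2 * Kc + 1)) +
      (∑ χ ∈ sZ, conj ((χ : GG → ℂ) g)) / ((Qc - 1) * (Qc + 2 * Kc + 1)) +
      -(Kc ^ 2) * conj (wSum hF g) / (Kc * (Qc - 1)) := by
    rw [frobSum_split hm hF (fun χ h => hW χ h x hx hxz), sU x hx hxz,
      Finset.sum_congr (s₁ := sX) rfl fun χ h => by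
        rw [(setX_vals hm hF h).2.1 x hx hxz, one_pow, one_mul],
      Finset.sum_congr (s₁ := sY) rfl fun χ h => by
        rw [(setY_vals hm hF h).2.1 x hx hxz, neg_one_sq, one_mul],
      Finset.sum_congr (s₁ := sZ) rfl fun χ h => by
        rw [(setZ_vals hm hF h).2.1 x hx hxz, neg_one_sq, one_mul]]
    ring
  obtain ⟨k1, k2, k3, k4, k5, k6⟩ := Kc_ne hm hF
  have hs' := hs
  rcases hs with hg' | ⟨hg', hgz⟩ | hg' | hg' | hg'
  · rw [Finset.sum_congr (s₁ := sX) rfl fun χ h => by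
        rw [(setX_vals hm hF h).1 g hg' hs1, map_one],
      Finset.sum_congr (s₁ := sY) rfl fun χ h => by rw [(setY_vals hm hF h).1 g hg' hs1],
      Finset.sum_congr (s₁ := sZ) rfl fun χ h => by rw [(setZ_vals hm hF h).1 g hg' hs1],
      wZ g hg' hs1] at base
    refine ne_zero_of_eq_real (r := 1 + (sX).card / (Qr ^ 2 + 1) +
      (sY).card * (2 * Kr - 1) / ((Qr - 1) * (Qr - 2 * Kr + 1)) -
      (sZ).card * (2 * Kr + 1) / ((Qr - 1) * (Qr + 2 * Kr + 1)) +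
      Kr ^ 2 * (2 * Kr) / (Kr * (Qr - 1))) ?_ ?_
    · rw [base]
      simp only [Finset.sum_const, nsmul_eq_mul, map_sub, map_neg, map_mul, map_pow, map_ofNat,
        map_one]
      push_cast
      ring
    · have t1 : (sZ).card * (2 * Kr + 1) / ((Qr - 1) * (Qr + 2 * Kr + 1)) < 1 := by
        have h1 : (sZ).card * (2 * Kr + 1) ≤ (Qr - 1) * (2 * Kr + 1) :=
          mul_le_mul_of_nonneg_right (by linarith) (by linarith)
        have h2 : (Qr - 1) * (2 * Kr + 1) < (Qr - 1) * (Qr + 2 * Kr + 1) :=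
          mul_lt_mul_of_pos_left (by linarith) (by linarith)
        rw [div_lt_one p2]
        linarith
      have t2 : 0 ≤ (sX).card / (Qr ^ 2 + 1) := by positivity
      have t3 : 0 ≤ (sY).card * (2 * Kr - 1) / ((Qr - 1) * (Qr - 2 * Kr + 1)) :=
        div_nonneg (mul_nonneg c2 (by linarith)) p1.le
      have t4 : 0 ≤ Kr ^ 2 * (2 * Kr) / (Kr * (Qr - 1)) :=
        div_nonneg (by positivity) (mul_nonneg (by positivity) (by linarith))
      linarith
  · rw [Finset.sum_congr (s₁ := sX) rfl fun χ h => by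
        rw [(setX_vals hm hF h).2.1 g hg' hgz, map_one],
      Finset.sum_congr (s₁ := sY) rfl fun χ h => by rw [(setY_vals hm hF h).2.1 g hg' hgz],
      Finset.sum_congr (s₁ := sZ) rfl fun χ h => by rw [(setZ_vals hm hF h).2.1 g hg' hgz],
      wU g hg' hgz] at base
    refine ne_zero_of_eq_real (r := 1 + (sX).card / (Qr ^ 2 + 1) -
      (sY).card / ((Qr - 1) * (Qr - 2 * Kr + 1)) -
      (sZ).card / ((Qr - 1) * (Qr + 2 * Kr + 1))) ?_ ?_
    · rw [base]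
      simp only [Finset.sum_const, nsmul_eq_mul, map_neg, map_one, map_zero]
      push_cast
      ring
    · have t1 : (sY).card / ((Qr - 1) * (Qr - 2 * Kr + 1)) ≤ 1 / 5 := by
        rw [div_le_iff₀ p1]
        nlinarith
      have t2 : (sZ).card / ((Qr - 1) * (Qr + 2 * Kr + 1)) ≤ 1 / 13 := by
        rw [div_le_iff₀ p2]
        nlinarith
      have t3 : 0 ≤ (sX).card / (Qr ^ 2 + 1) := by positivity
      linarith
  · rw [← map_sum, sum_X_hSub hm hF hg' hs1,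
      Finset.sum_eq_zero (s := sY) fun χ h => by
        rw [(setY_vals hm hF h).2.2.1 g hg' hs1, map_zero],
      Finset.sum_eq_zero (s := sZ) fun χ h => by
        rw [(setZ_vals hm hF h).2.2.1 g hg' hs1, map_zero],
      wH g hg' hs1] at base
    refine ne_zero_of_eq_real (r := 1 - 1 / (Qr ^ 2 + 1)) ?_ ?_
    · rw [base]
      simp only [map_neg, map_one, map_zero]
      push_cast
      ring
    · have : 1 / (Qr ^ 2 + 1) < 1 := by
        rw [div_lt_one (by positivity)]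
        nlinarith
      linarith
  · rw [Finset.sum_eq_zero (s := sX) fun χ h => by
        rw [(setX_vals hm hF h).2.2.1 g hg' hs1, map_zero],
      ← map_sum, sum_Y_torP hm hF hg' hs1,
      Finset.sum_eq_zero (s := sZ) fun χ h => by
        rw [(setZ_vals hm hF h).2.2.2.1 g hg' hs1, map_zero],
      wP g hg' hs1] at base
    refine ne_zero_of_eq_real (r := 1 + 1 / ((Qr - 1) * (Qr - 2 * Kr + 1)) -
      2 * Kr / (Qr - 1)) ?_ ?_
    · rw [base]
      simp only [map_one, map_ofNat]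
      push_cast
      field_simp
      ring
    · have : 0 ≤ 1 / ((Qr - 1) * (Qr - 2 * Kr + 1)) := by positivity
      linarith
  · rw [Finset.sum_eq_zero (s := sX) fun χ h => by
        rw [(setX_vals hm hF h).2.2.2.1 g hg' hs1, map_zero],
      Finset.sum_eq_zero (s := sY) fun χ h => by
        rw [(setY_vals hm hF h).2.2.2.1 g hg' hs1, map_zero],
      ← map_sum, sum_Z_torM hm hF hg' hs1, wM g hg' hs1] at base
    refine ne_zero_of_eq_real (r := 1 + 1 / ((Qr - 1) * (Qr + 2 * Kr + 1)) +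
      2 * Kr / (Qr - 1)) ?_ ?_
    · rw [base]
      simp only [map_one, map_neg, map_ofNat]
      push_cast
      field_simp
      ring
    · have : 0 ≤ 1 / ((Qr - 1) * (Qr + 2 * Kr + 1)) := by positivity
      have : 0 ≤ 2 * Kr / (Qr - 1) := div_nonneg (by positivity) (by linarith)
      linarith

theorem ne_h {x : GG} (hx : x ∈ hSub (thSq_of_card hF)) (hx1 : x ≠ 1) {g : GG} (hg : g ≠ 1) :
    frobSum x g ≠ 0 := by
  obtain ⟨-, -, sH, -, -, sle⟩ := stChar_vals hm hF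
  obtain ⟨i1, -, -, -, -, -, -, -, -, -, -, i12⟩ := ineqs (k_cases hm hF)
  have base : frobSum x g = 1 + conj (stChar hF g) / Qc ^ 2 +
      (∑ χ ∈ sX, (χ : GG → ℂ) x ^ 2 * conj ((χ : GG → ℂ) g)) / (Qc ^ 2 + 1) := by
    rw [frobSum_split hm hF (wv := 0) (fun χ h => by
        rw [((mem_setW hm hF).1 h).1.2.2.1 x hx hx1, zero_pow two_ne_zero]),
      sH x hx hx1,
      Finset.sum_eq_zero (s := sY) fun χ h => by
        rw [(setY_vals hm hF h).2.2.1 x hx hx1, zero_pow two_ne_zero, zero_mul],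
      Finset.sum_eq_zero (s := sZ) fun χ h => by
        rw [(setZ_vals hm hF h).2.2.1 x hx hx1, zero_pow two_ne_zero, zero_mul]]
    ring
  refine ne_zero_of_norm_lt 1 ?_
  rw [base, Complex.ofReal_one, add_assoc, add_sub_cancel_left]
  refine (norm_add_le _ _).trans_lt ?_
  have e1 : ‖conj (stChar hF g) / Qc ^ 2‖ ≤ 1 / Qr ^ 2 := by
    rw [norm_div, Complex.norm_conj]
    simp only [norm_pow, norm_mul, Complex.norm_ofNat]
    gcongr
    exact sle g hg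
  have e2 : ‖(∑ χ ∈ sX, (χ : GG → ℂ) x ^ 2 * conj ((χ : GG → ℂ) g)) / (Qc ^ 2 + 1)‖ ≤
      2 * Qr / (Qr ^ 2 + 1) := by
    have e3 : ‖Qc ^ 2 + 1‖ = Qr ^ 2 + 1 := by
      rw [show Qc ^ 2 + 1 = ((Qr ^ 2 + 1 : ℝ) : ℂ) by push_cast; ring, Complex.norm_real,
        Real.norm_eq_abs, abs_of_pos (by positivity)]
    rw [norm_div, e3]
    gcongr
    refine (norm_sum_le _ _).trans ((Finset.sum_le_sum fun χ h => ?_).trans (b := ∑ χ ∈ sX,
      2 * ‖(χ : GG → ℂ) x‖ ^ 2) ?_)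
    · rw [norm_mul, norm_pow, Complex.norm_conj, mul_comm 2]
      gcongr
      exact (setX_vals hm hF h).2.2.2.2 g hg
    · rw [← Finset.mul_sum, sum_X_sq hm hF hx hx1]
      linarith
  linarith

theorem ne_p {x : GG} (hx : x ∈ torP hm hF) (hx1 : x ≠ 1) {g : GG} (hg : g ≠ 1) :
    frobSum x g ≠ 0 := by
  obtain ⟨s, hs1, hs⟩ := rep_cases hm hF hg
  rw [← frobSum_conj x g 1 s, one_mul, inv_one, mul_one]
  generalize s * g * s⁻¹ = g at hs1 hs
  obtain ⟨sZ', sU, sH, sP, sM, -⟩ := stChar_vals hm hF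
  obtain ⟨wZ, wU, wH, wP, wM⟩ := wSum_vals hm hF
  obtain ⟨hY2, c, hc1, hc2, hc⟩ := sum_Y_sq hm hF hx hx1
  have hk := k_cases hm hF
  obtain ⟨i1, i2, i3, i4, i5, i6, i7, i8, i9, i10, i11, i12⟩ := ineqs hk
  have hk2 : 2 ≤ Kr := by rcases hk with h | h <;> linarith
  have hQ : 8 ≤ Qr := by nlinarith
  have hnM : 5 ≤ Qr - 2 * Kr + 1 := by nlinarith
  have p1 : 0 < (Qr - 1) * (Qr - 2 * Kr + 1) := mul_pos (by linarith) (by linarith)
  obtain ⟨k1, k2, k3, k4, k5, k6⟩ := Kc_ne hm hF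
  have base : frobSum x g = 1 + conj (stChar hF g) / Qc ^ 2 +
      (∑ χ ∈ sY, (χ : GG → ℂ) x ^ 2 * conj ((χ : GG → ℂ) g)) /
        ((Qc - 1) * (Qc - 2 * Kc + 1)) +
      conj (wSum hF g) / (Kc * (Qc - 1)) := by
    rw [frobSum_split hm hF (wv := 1) (fun χ h => by
        rw [((mem_setW hm hF).1 h).1.2.2.2.1 x hx hx1, one_pow]),
      sP x hx hx1,
      Finset.sum_eq_zero (s := sX) fun χ h => by
        rw [(setX_vals hm hF h).2.2.1 x hx hx1, zero_pow two_ne_zero, zero_mul],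
      Finset.sum_eq_zero (s := sZ) fun χ h => by
        rw [(setZ_vals hm hF h).2.2.2.1 x hx hx1, zero_pow two_ne_zero, zero_mul]]
    ring
  rcases hs with hg' | ⟨hg', hgz⟩ | hg' | hg' | hg'
  · rw [sZ' g hg' hs1, wZ g hg' hs1,
      Finset.sum_congr (s₁ := sY) rfl fun χ h => by rw [(setY_vals hm hF h).1 g hg' hs1],
      ← Finset.sum_mul, hc] at base
    refine ne_zero_of_eq_real (r := 1 + c * (2 * Kr - 1) / ((Qr - 1) * (Qr - 2 * Kr + 1)) -
      2 * Kr / (Kr * (Qr - 1))) ?_ ?_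
    · rw [base]
      simp only [map_sub, map_neg, map_mul, map_pow, map_ofNat, map_one, map_zero]
      push_cast
      ring
    · have : -(12 / 35) ≤ c * (2 * Kr - 1) / ((Qr - 1) * (Qr - 2 * Kr + 1)) := by
        refine le_trans (neg_le_neg i5) ?_
        rw [← neg_div]
        gcongr
        nlinarith
      linarith
  · rw [sU g hg' hgz, wU g hg' hgz,
      Finset.sum_congr (s₁ := sY) rfl fun χ h => by rw [(setY_vals hm hF h).2.1 g hg' hgz],
      ← Finset.sum_mul, hc] at base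
    refine ne_zero_of_eq_real (r := 1 - c / ((Qr - 1) * (Qr - 2 * Kr + 1))) ?_ ?_
    · rw [base]
      simp only [map_neg, map_one, map_zero]
      push_cast
      ring
    · have : c / ((Qr - 1) * (Qr - 2 * Kr + 1)) ≤ 9 / 35 := le_trans (by gcongr) i6
      linarith
  · rw [sH g hg' hs1, wH g hg' hs1, Finset.sum_eq_zero (s := sY) fun χ h => by
      rw [(setY_vals hm hF h).2.2.1 g hg' hs1, map_zero, mul_zero]] at base
    refine ne_zero_of_eq_real (r := 1 + 1 / Qr ^ 2) ?_ (by positivity)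
    rw [base]
    simp only [map_one, map_zero]
    push_cast
    ring
  · rw [sP g hg' hs1, wP g hg' hs1] at base
    refine ne_zero_of_norm_lt (1 - 1 / Qr ^ 2 + 2 / (Kr * (Qr - 1))) ?_
    have e : frobSum x g - ((1 - 1 / Qr ^ 2 + 2 / (Kr * (Qr - 1)) : ℝ) : ℂ) =
        (∑ χ ∈ sY, (χ : GG → ℂ) x ^ 2 * conj ((χ : GG → ℂ) g)) /
          ((((Qr - 1) * (Qr - 2 * Kr + 1)) : ℝ) : ℂ) := by
      rw [base]
      simp only [map_neg, map_one, map_ofNat]
      push_cast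
      ring
    rw [e, norm_div, Complex.norm_real, Real.norm_eq_abs, abs_of_pos p1]
    refine lt_of_le_of_lt ?_ i11
    gcongr
    refine (norm_sum_le _ _).trans ((Finset.sum_le_sum fun χ h => ?_).trans (b := ∑ χ ∈ sY,
      4 * ‖(χ : GG → ℂ) x‖ ^ 2) ?_)
    · rw [norm_mul, norm_pow, Complex.norm_conj, mul_comm 4]
      gcongr
      exact (setY_vals hm hF h).2.2.2.2 g hg' hs1
    · rw [← Finset.mul_sum, hY2]
  · rw [sM g hg' hs1, wM g hg' hs1, Finset.sum_eq_zero (s := sY) fun χ h => by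
      rw [(setY_vals hm hF h).2.2.2.1 g hg' hs1, map_zero, mul_zero]] at base
    refine ne_zero_of_eq_real (r := 1 - 1 / Qr ^ 2 - 2 / (Kr * (Qr - 1))) ?_ (by linarith)
    rw [base]
    simp only [map_neg, map_one, map_ofNat]
    push_cast
    ring

theorem ne_m {x : GG} (hx : x ∈ torM hm hF) (hx1 : x ≠ 1) {g : GG} (hg : g ≠ 1) :
    frobSum x g ≠ 0 := by
  obtain ⟨s, hs1, hs⟩ := rep_cases hm hF hg
  rw [← frobSum_conj x g 1 s, one_mul, inv_one, mul_one]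
  generalize s * g * s⁻¹ = g at hs1 hs
  obtain ⟨sZ', sU, sH, sP, sM, -⟩ := stChar_vals hm hF
  obtain ⟨wZ, wU, wH, wP, wM⟩ := wSum_vals hm hF
  obtain ⟨hZ2, c, hc1, hc2, hc⟩ := sum_Z_sq hm hF hx hx1
  have hk := k_cases hm hF
  obtain ⟨i1, i2, i3, i4, i5, i6, i7, i8, i9, i10, i11, i12⟩ := ineqs hk
  have hk2 : 2 ≤ Kr := by rcases hk with h | h <;> linarith
  have hQ : 8 ≤ Qr := by nlinarith
  have p2 : 0 < (Qr - 1) * (Qr + 2 * Kr + 1) := mul_pos (by linarith) (by linarith)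
  obtain ⟨k1, k2, k3, k4, k5, k6⟩ := Kc_ne hm hF
  have base : frobSum x g = 1 + conj (stChar hF g) / Qc ^ 2 +
      (∑ χ ∈ sZ, (χ : GG → ℂ) x ^ 2 * conj ((χ : GG → ℂ) g)) /
        ((Qc - 1) * (Qc + 2 * Kc + 1)) +
      conj (wSum hF g) / (Kc * (Qc - 1)) := by
    rw [frobSum_split hm hF (wv := 1) (fun χ h => by
        rw [((mem_setW hm hF).1 h).1.2.2.2.2 x hx hx1, neg_one_sq]),
      sM x hx hx1,
      Finset.sum_eq_zero (s := sX) fun χ h => by
        rw [(setX_vals hm hF h).2.2.2.1 x hx hx1, zero_pow two_ne_zero, zero_mul],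
      Finset.sum_eq_zero (s := sY) fun χ h => by
        rw [(setY_vals hm hF h).2.2.2.1 x hx hx1, zero_pow two_ne_zero, zero_mul]]
    ring
  rcases hs with hg' | ⟨hg', hgz⟩ | hg' | hg' | hg'
  · rw [sZ' g hg' hs1, wZ g hg' hs1,
      Finset.sum_congr (s₁ := sZ) rfl fun χ h => by rw [(setZ_vals hm hF h).1 g hg' hs1],
      ← Finset.sum_mul, hc] at base
    refine ne_zero_of_eq_real (r := 1 - c * (2 * Kr + 1) / ((Qr - 1) * (Qr + 2 * Kr + 1)) -
      2 * Kr / (Kr * (Qr - 1))) ?_ ?_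
    · rw [base]
      simp only [map_sub, map_neg, map_mul, map_pow, map_ofNat, map_one, map_zero]
      push_cast
      ring
    · have : c * (2 * Kr + 1) / ((Qr - 1) * (Qr + 2 * Kr + 1)) ≤ 1 / 3 :=
        le_trans (by gcongr) i8
      linarith
  · rw [sU g hg' hgz, wU g hg' hgz,
      Finset.sum_congr (s₁ := sZ) rfl fun χ h => by rw [(setZ_vals hm hF h).2.1 g hg' hgz],
      ← Finset.sum_mul, hc] at base
    refine ne_zero_of_eq_real (r := 1 - c / ((Qr - 1) * (Qr + 2 * Kr + 1))) ?_ ?_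
    · rw [base]
      simp only [map_neg, map_one, map_zero]
      push_cast
      ring
    · have : c / ((Qr - 1) * (Qr + 2 * Kr + 1)) < 1 := by
        rw [div_lt_one p2]
        nlinarith
      linarith
  · rw [sH g hg' hs1, wH g hg' hs1, Finset.sum_eq_zero (s := sZ) fun χ h => by
      rw [(setZ_vals hm hF h).2.2.1 g hg' hs1, map_zero, mul_zero]] at base
    refine ne_zero_of_eq_real (r := 1 + 1 / Qr ^ 2) ?_ (by positivity)
    rw [base]
    simp only [map_one, map_zero]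
    push_cast
    ring
  · rw [sP g hg' hs1, wP g hg' hs1, Finset.sum_eq_zero (s := sZ) fun χ h => by
      rw [(setZ_vals hm hF h).2.2.2.1 g hg' hs1, map_zero, mul_zero]] at base
    have : 0 ≤ 2 / (Kr * (Qr - 1)) := div_nonneg (by norm_num) (mul_nonneg (by linarith) (by linarith))
    refine ne_zero_of_eq_real (r := 1 - 1 / Qr ^ 2 + 2 / (Kr * (Qr - 1))) ?_ (by linarith)
    rw [base]
    simp only [map_neg, map_one, map_ofNat]
    push_cast
    ring
  · rw [sM g hg' hs1, wM g hg' hs1] at base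
    refine ne_zero_of_norm_lt (1 - 1 / Qr ^ 2 - 2 / (Kr * (Qr - 1))) ?_
    have e : frobSum x g - ((1 - 1 / Qr ^ 2 - 2 / (Kr * (Qr - 1)) : ℝ) : ℂ) =
        (∑ χ ∈ sZ, (χ : GG → ℂ) x ^ 2 * conj ((χ : GG → ℂ) g)) /
          ((((Qr - 1) * (Qr + 2 * Kr + 1)) : ℝ) : ℂ) := by
      rw [base]
      simp only [map_neg, map_one, map_ofNat]
      push_cast
      ring
    rw [e, norm_div, Complex.norm_real, Real.norm_eq_abs, abs_of_pos p2]
    refine lt_of_le_of_lt (le_trans ?_ i10) (by linarith)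
    gcongr
    refine (norm_sum_le _ _).trans ((Finset.sum_le_sum fun χ h => ?_).trans (b := ∑ χ ∈ sZ,
      4 * ‖(χ : GG → ℂ) x‖ ^ 2) ?_)
    · rw [norm_mul, norm_pow, Complex.norm_conj, mul_comm 4]
      gcongr
      exact (setZ_vals hm hF h).2.2.2.2 g hg' hs1
    · rw [← Finset.mul_sum, hZ2]

omit [Fintype (Cfsg.Sz F m)] [Fintype (Cfsg.IrrCharacter (Cfsg.Sz F m))] in
/-- Strong covering. -/
theorem two_conj_cover {x : GG} (hx : x * x ≠ 1) {g : GG} (hg : g ≠ 1) :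
    ∃ u v : GG, g = (u * x * u⁻¹) * (v * x * v⁻¹) := by
  have := Fintype.ofFinite GG
  have := Fintype.ofFinite (Cfsg.IrrCharacter GG)
  refine exists_two_conj ?_
  have hx1 : x ≠ 1 := fun e => hx (by rw [e, mul_one])
  obtain ⟨s, hs1, hs⟩ := rep_cases hm hF hx1
  rw [← frobSum_conj x g s 1, one_mul, inv_one, mul_one]
  rcases hs with h | ⟨h, hz⟩ | h | h | h
  · exfalso
    obtain ⟨b, hb⟩ := h
    refine hx ((conj_eq_one_iff (a := s)).1 ?_)
    rw [show s * (x * x) * s⁻¹ = s * x * s⁻¹ * (s * x * s⁻¹) by group, hb, tG_sq, map_zero,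
      zero_mul, tG_zero]
  · exact ne_u hm hF h hz hg
  · exact ne_h hm hF h hs1 hg
  · exact ne_p hm hF h hs1 hg
  · exact ne_m hm hF h hs1 hg

end CfsgLib.KnownB.SzCh
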