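import Cfsg.Agent.Lib.KnownB.CompLabel
import Cfsg.Prelude.Def_LinearParabolics
import Mathlib.GroupTheory.DoubleCoset
import Mathlib.GroupTheory.GroupAction.Quotient
import Mathlib.LinearAlgebra.Matrix.Permutation
import Mathlib.LinearAlgebra.Matrix.Rank

/-!
# Bruhat decomposition of `GL_n` and orbits on pairs of flags
-/

set_option autoImplicit false

namespace CfsgLib.KnownB.Flag

open scoped MatrixGroups
open Finset

universe u

variable {F : Type u} [Field F] {n : ℕ}

/-- Permutation matrices as elements of `GL_n`. -/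
def permGL : Equiv.Perm (Fin n) →* GL (Fin n) F :=
  (Matrix.permMatrixHom (n := Fin n) (R := F)).toHomUnits

theorem permGL_apply (σ : Equiv.Perm (Fin n)) (i j : Fin n) :
    (permGL (F := F) σ : Matrix (Fin n) (Fin n) F) i j = if i = σ j then 1 else 0 := by
  show (σ⁻¹).permMatrix F i j = _
  rw [Equiv.Perm.permMatrix, PEquiv.toMatrix_apply]
  simp only [Equiv.toPEquiv_apply, Option.mem_some_iff]
  refine if_congr ?_ rfl rfl
  exact Equiv.Perm.inv_eq_iff_eq

/-- Bruhat decomposition: every invertible matrix is upper triangular times permutation times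
upper triangular. -/
theorem exists_bruhat [Finite F] (g : GL (Fin n) F) : ∃ b₁ ∈ Cfsg.upperTriangularGL n F,
    ∃ σ : Equiv.Perm (Fin n), ∃ b₂ ∈ Cfsg.upperTriangularGL n F, g = b₁ * permGL σ * b₂ := by
  classical
  have := Fintype.ofFinite F
  let A : Matrix (Fin n) (Fin n) F := g
  let X : Fin n → Finset (Fin n → F) := fun j =>
    Finset.univ.filter fun x => x j = 1 ∧ ∀ k, j < k → x k = 0
  have hne : ∀ j x, x ∈ X j → A.mulVec x ≠ 0 := by
    intro j x hx h0
    have h1 : (g⁻¹ : GL (Fin n) F).val.mulVec (A.mulVec x) = x := by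
      rw [Matrix.mulVec_mulVec, ← Units.val_mul, inv_mul_cancel, Units.val_one, Matrix.one_mulVec]
    rw [h0, Matrix.mulVec_zero] at h1
    have := (Finset.mem_filter.mp hx).2.1
    rw [← h1] at this
    exact zero_ne_one this
  let N : (Fin n → F) → ℕ := fun v =>
    (Finset.univ.filter fun i => v i ≠ 0).sup fun i => (i : ℕ) + 1
  have hex : ∀ j, ∃ (x : Fin n → F) (p : Fin n), x ∈ X j ∧ A.mulVec x p ≠ 0 ∧
      (∀ i, p < i → A.mulVec x i = 0) ∧ ∀ y ∈ X j, ∃ i, p ≤ i ∧ A.mulVec y i ≠ 0 := by
    intro j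
    obtain ⟨x, hx, hmin⟩ := (X j).exists_min_image (fun x => N (A.mulVec x))
      ⟨Pi.single j 1, Finset.mem_filter.mpr ⟨Finset.mem_univ _, Pi.single_eq_same _ _,
        fun k hk => Pi.single_eq_of_ne hk.ne' _⟩⟩
    have hmax : ∀ y ∈ X j, ∃ p : Fin n, A.mulVec y p ≠ 0 ∧ N (A.mulVec y) = (p : ℕ) + 1 := by
      intro y hy
      obtain ⟨i, hi⟩ : ∃ i, A.mulVec y i ≠ 0 := Function.ne_iff.mp (hne j y hy)
      obtain ⟨p, hp, hpm⟩ := Finset.exists_mem_eq_sup
        (Finset.univ.filter fun i => A.mulVec y i ≠ 0) ⟨i, by simp [hi]⟩ fun i => (i : ℕ) + 1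
      exact ⟨p, (Finset.mem_filter.mp hp).2, hpm⟩
    obtain ⟨p, hp, hpN⟩ := hmax x hx
    refine ⟨x, p, hx, hp, fun i hi => ?_, fun y hy => ?_⟩
    · by_contra hc
      have : (i : ℕ) + 1 ≤ N (A.mulVec x) := Finset.le_sup (f := fun i : Fin n => (i : ℕ) + 1)
        (Finset.mem_filter.mpr ⟨Finset.mem_univ _, hc⟩)
      rw [Fin.lt_def] at hi
      omega
    · obtain ⟨r, hr, hrN⟩ := hmax y hy
      refine ⟨r, ?_, hr⟩
      have := hmin y hy
      rw [Fin.le_def]
      omega
  choose x p hx hp hz hmin using hex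
  have hinj : Function.Injective p := by
    suffices h : ∀ k j, k < j → p k ≠ p j by
      intro k j hkj
      rcases lt_trichotomy k j with hl | hl | hl
      · exact absurd hkj (h k j hl)
      · exact hl
      · exact absurd hkj.symm (h j k hl)
    intro k j hkj he
    have h1 := (Finset.mem_filter.mp (hx j)).2
    have h2 := (Finset.mem_filter.mp (hx k)).2
    let t := A.mulVec (x j) (p j) / A.mulVec (x k) (p j)
    obtain ⟨i, hi, hne'⟩ := hmin j (x j - t • x k) (Finset.mem_filter.mpr ⟨Finset.mem_univ _, by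
      simp [h1.1, h2.2 j hkj], fun l hl => by simp [h1.2 l hl, h2.2 l (hkj.trans hl)]⟩)
    apply hne'
    rw [Matrix.mulVec_sub, Matrix.mulVec_smul, Pi.sub_apply, Pi.smul_apply, smul_eq_mul]
    rcases hi.eq_or_lt with rfl | hlt
    · have hk0 : A.mulVec (x k) (p j) ≠ 0 := he ▸ hp k
      rw [div_mul_cancel₀ _ hk0, sub_self]
    · rw [hz j i hlt, hz k i (he ▸ hlt), mul_zero, sub_zero]
  let σ : Equiv.Perm (Fin n) := Equiv.ofBijective p (Finite.injective_iff_bijective.mp hinj)
  let U : Matrix (Fin n) (Fin n) F := Matrix.of fun i j => x j i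
  have hU : U.BlockTriangular id := fun i j hij => (Finset.mem_filter.mp (hx j)).2.2 i hij
  have hUd : U.det = 1 := by
    rw [Matrix.det_of_isUpperTriangular hU]
    exact Finset.prod_eq_one fun i _ => (Finset.mem_filter.mp (hx i)).2.1
  let u : GL (Fin n) F := Matrix.GeneralLinearGroup.mkOfDetNeZero U (hUd ▸ one_ne_zero)
  have hu : u ∈ Cfsg.upperTriangularGL n F := hU
  refine ⟨g * u * (permGL σ)⁻¹, ?_, σ, u⁻¹, inv_mem hu, by group⟩
  intro i l hli
  show ((g * u * (permGL σ)⁻¹ : GL (Fin n) F) : Matrix (Fin n) (Fin n) F) i l = 0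
  rw [← map_inv, Units.val_mul, Matrix.mul_apply]
  rw [Finset.sum_eq_single (σ⁻¹ l) (fun k _ hk => by
    rw [permGL_apply, if_neg hk, mul_zero]) (fun h => absurd (Finset.mem_univ _) h)]
  rw [permGL_apply, if_pos rfl, mul_one, Units.val_mul]
  have : p (σ⁻¹ l) = l := σ.apply_symm_apply l
  exact hz (σ⁻¹ l) i (this.symm ▸ hli)

variable {μ ν : Fin n → ℕ}

theorem upperTriangularGL_le (μ : Fin n → ℕ) :
    Cfsg.upperTriangularGL n F ≤ Cfsg.parabolicGL n F μ := by
  intro g hg i j hij
  exact hg (lt_of_not_ge fun h => not_le.mpr hij (compLabel_mono h))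

theorem permGL_mem {s : Equiv.Perm (Fin n)} (hs : s ∈ Cfsg.youngSubgroup μ) :
    permGL (F := F) s ∈ Cfsg.parabolicGL n F μ := by
  intro i j hij
  show (permGL (F := F) s : Matrix (Fin n) (Fin n) F) i j = 0
  rw [permGL_apply, if_neg]
  rintro rfl
  rw [hs j] at hij
  exact lt_irrefl _ hij

/-- Invariance of corner ranks along a double coset. -/
theorem rank_corner_le {a b : GL (Fin n) F} (ha : a ∈ Cfsg.parabolicGL n F ν)
    (hb : b ∈ Cfsg.parabolicGL n F μ) (M : Matrix (Fin n) (Fin n) F) (r c : ℕ) :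
    ((Matrix.diagonal fun i => if r ≤ Cfsg.compLabel ν i then (1 : F) else 0) *
        ((a : Matrix (Fin n) (Fin n) F) * M * b) *
        Matrix.diagonal fun i => if Cfsg.compLabel μ i < c then (1 : F) else 0).rank ≤
      ((Matrix.diagonal fun i => if r ≤ Cfsg.compLabel ν i then (1 : F) else 0) * M *
        Matrix.diagonal fun i => if Cfsg.compLabel μ i < c then (1 : F) else 0).rank := by
  set E : Matrix (Fin n) (Fin n) F :=
    Matrix.diagonal fun i => if r ≤ Cfsg.compLabel ν i then (1 : F) else 0 with hE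
  set C : Matrix (Fin n) (Fin n) F :=
    Matrix.diagonal fun i => if Cfsg.compLabel μ i < c then (1 : F) else 0 with hC
  have h1 : E * (a : Matrix (Fin n) (Fin n) F) = E * a * E := by
    ext i j
    rw [hE, Matrix.mul_diagonal, Matrix.diagonal_mul]
    by_cases hi : r ≤ Cfsg.compLabel ν i
    · by_cases hj : r ≤ Cfsg.compLabel ν j
      · simp [hi, hj]
      · have : (a : Matrix (Fin n) (Fin n) F) i j = 0 := ha (by omega)
        simp [this]
    · simp [hi]
  have h2 : (b : Matrix (Fin n) (Fin n) F) * C = C * b * C := by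
    ext i j
    rw [hC, Matrix.mul_diagonal, Matrix.mul_diagonal, Matrix.diagonal_mul]
    by_cases hj : Cfsg.compLabel μ j < c
    · by_cases hi : Cfsg.compLabel μ i < c
      · simp [hi, hj]
      · have : (b : Matrix (Fin n) (Fin n) F) i j = 0 := hb (by omega)
        simp [this]
    · simp [hj]
  have : E * ((a : Matrix (Fin n) (Fin n) F) * M * b) * C = (E * a) * (E * M * C) * (b * C) := by
    calc E * ((a : Matrix (Fin n) (Fin n) F) * M * b) * C
        = (E * a) * M * (b * C) := by simp only [mul_assoc]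
      _ = (E * a * E) * M * (C * b * C) := by rw [← h1, ← h2]
      _ = (E * a) * (E * M * C) * (b * C) := by simp only [mul_assoc]
  rw [this]
  exact (Matrix.rank_mul_le_left _ _).trans (Matrix.rank_mul_le_right _ _)

/-- The number of positions `x` with `lab μ x < c` sent to labels `≥ r`. -/
def cornerCount (ν μ : Fin n → ℕ) (σ : Equiv.Perm (Fin n)) (r c : ℕ) : ℕ :=
  (Finset.univ.filter fun x => Cfsg.compLabel μ x < c ∧ r ≤ Cfsg.compLabel ν (σ x)).card

theorem rank_permGL_corner (σ : Equiv.Perm (Fin n)) (r c : ℕ) :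
    ((Matrix.diagonal fun i => if r ≤ Cfsg.compLabel ν i then (1 : F) else 0) *
        (permGL (F := F) σ : Matrix (Fin n) (Fin n) F) *
        Matrix.diagonal fun i => if Cfsg.compLabel μ i < c then (1 : F) else 0).rank =
      cornerCount ν μ σ r c := by
  classical
  rw [show (Matrix.diagonal fun i => if r ≤ Cfsg.compLabel ν i then (1 : F) else 0) *
      (permGL (F := F) σ : Matrix (Fin n) (Fin n) F) *
      (Matrix.diagonal fun i => if Cfsg.compLabel μ i < c then (1 : F) else 0) =
      (permGL (F := F) σ : Matrix (Fin n) (Fin n) F) * Matrix.diagonal fun i =>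
        if Cfsg.compLabel μ i < c ∧ r ≤ Cfsg.compLabel ν (σ i) then (1 : F) else 0 by
    ext i j
    rw [Matrix.mul_diagonal, Matrix.diagonal_mul, Matrix.mul_diagonal, permGL_apply]
    by_cases h : i = σ j
    · subst h
      by_cases h1 : Cfsg.compLabel μ j < c <;> by_cases h2 : r ≤ Cfsg.compLabel ν (σ j) <;>
        simp [h1, h2]
    · simp [h]]
  rw [Matrix.rank_mul_eq_right_of_isUnit_det _ _ ((Matrix.isUnit_iff_isUnit_det _).mp
    (Units.isUnit (permGL (F := F) σ))), Matrix.rank_diagonal, Fintype.card_subtype, cornerCount]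
  congr 1
  refine Finset.filter_congr fun x _ => ?_
  by_cases h : Cfsg.compLabel μ x < c ∧ r ≤ Cfsg.compLabel ν (σ x) <;> simp [h]

theorem cornerCount_le {σ τ : Equiv.Perm (Fin n)} {a b : GL (Fin n) F}
    (ha : a ∈ Cfsg.parabolicGL n F ν) (hb : b ∈ Cfsg.parabolicGL n F μ)
    (h : permGL σ = a * permGL τ * b) (r c : ℕ) :
    cornerCount ν μ σ r c ≤ cornerCount ν μ τ r c := by
  rw [← rank_permGL_corner (F := F), ← rank_permGL_corner (F := F), h, Units.val_mul, Units.val_mul]
  exact rank_corner_le ha hb _ r c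

/-- The matrix of block intersection numbers of a permutation. -/
noncomputable def blockCount (hν : ∑ i, ν i = n) (hμ : ∑ i, μ i = n) (σ : Equiv.Perm (Fin n))
    (i j : Fin n) : ℕ :=
  Nat.card {x // (lab hν (σ x), lab hμ x) = (i, j)}

theorem blockCount_eq_of_corner (hν : ∑ i, ν i = n) (hμ : ∑ i, μ i = n) {σ τ : Equiv.Perm (Fin n)}
    (h : ∀ r c, cornerCount ν μ σ r c = cornerCount ν μ τ r c) :
    blockCount hν hμ σ = blockCount hν hμ τ := by
  classical
  have key : ∀ (π : Equiv.Perm (Fin n)) (i j : Fin n), blockCount hν hμ π i j +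
      (cornerCount ν μ π (i + 1) (j + 1) + cornerCount ν μ π i j) =
      cornerCount ν μ π i (j + 1) + cornerCount ν μ π (i + 1) j := by
    intro π i j
    simp only [blockCount, cornerCount, Nat.card_eq_fintype_card, Fintype.card_subtype,
      Finset.card_filter, ← Finset.sum_add_distrib]
    refine Finset.sum_congr rfl fun x _ => ?_
    simp only [compLabel_eq_lab hν, compLabel_eq_lab hμ, Prod.mk.injEq, Fin.ext_iff]
    split_ifs <;> omega
  funext i j
  have h1 := key σ i j
  have h2 := key τ i j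
  rw [h, h, h, h] at h1
  omega

theorem mem_youngSubgroup_iff (hν : ∑ i, ν i = n) (s : Equiv.Perm (Fin n)) :
    s ∈ Cfsg.youngSubgroup ν ↔ ∀ x, lab hν (s x) = lab hν x := by
  constructor
  · intro h x
    exact Fin.ext (by rw [← compLabel_eq_lab, ← compLabel_eq_lab]; exact h x)
  · intro h x
    rw [compLabel_eq_lab hν, compLabel_eq_lab hν, h]

theorem exists_mem_of_blockCount_eq (hν : ∑ i, ν i = n) (hμ : ∑ i, μ i = n)
    {σ τ : Equiv.Perm (Fin n)} (h : blockCount hν hμ σ = blockCount hν hμ τ) :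
    ∃ a ∈ Cfsg.youngSubgroup ν, ∃ b ∈ Cfsg.youngSubgroup μ, τ = a * σ * b := by
  classical
  let f : Fin n → Fin n × Fin n := fun x => (lab hν (τ x), lab hμ x)
  let g : Fin n → Fin n × Fin n := fun x => (lab hν (σ x), lab hμ x)
  have hc : ∀ c, Nat.card {x // f x = c} = Nat.card {x // g x = c} := fun c =>
    (congrFun (congrFun h c.1) c.2).symm
  let π : Equiv.Perm (Fin n) := Equiv.ofFiberEquiv fun c =>
    (Finite.equivFinOfCardEq (hc c)).trans (Finite.equivFinOfCardEq rfl).symm
  have hπ : ∀ x, g (π x) = f x := fun x => Equiv.ofFiberEquiv_map _ x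
  refine ⟨τ * π⁻¹ * σ⁻¹, (mem_youngSubgroup_iff hν _).mpr fun y => ?_, π,
    (mem_youngSubgroup_iff hμ _).mpr fun x => congrArg Prod.snd (hπ x), by group⟩
  obtain ⟨x, rfl⟩ := σ.surjective y
  obtain ⟨z, rfl⟩ := π.surjective x
  simpa using (congrArg Prod.fst (hπ z)).symm

/-- Matrices of natural numbers with given row and column sums. -/
abbrev Margins (ν μ : Fin n → ℕ) : Type :=
  {M : Fin n → Fin n → ℕ // (∀ i, ∑ j, M i j = ν i) ∧ ∀ j, ∑ i, M i j = μ j}

theorem natCard_fiber_fst {M : Fin n → Fin n → ℕ} (i : Fin n) :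
    Nat.card {t : Σ q : Fin n × Fin n, Fin (M q.1 q.2) // t.1.1 = i} = ∑ j, M i j := by
  classical
  rw [Nat.card_eq_fintype_card, Fintype.card_subtype]
  rw [← Finset.univ_sigma_univ, show (Finset.univ.sigma fun q : Fin n × Fin n =>
      (Finset.univ : Finset (Fin (M q.1 q.2)))).filter (fun t => t.1.1 = i) =
      (Finset.univ.filter fun q : Fin n × Fin n => q.1 = i).sigma fun _ => Finset.univ by
    ext t; simp]
  rw [Finset.card_sigma, Finset.sum_filter, Fintype.sum_prod_type]
  rw [Finset.sum_comm]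
  simp [Finset.sum_ite_eq']

theorem natCard_fiber_snd {M : Fin n → Fin n → ℕ} (j : Fin n) :
    Nat.card {t : Σ q : Fin n × Fin n, Fin (M q.1 q.2) // t.1.2 = j} = ∑ i, M i j := by
  classical
  rw [Nat.card_eq_fintype_card, Fintype.card_subtype]
  rw [← Finset.univ_sigma_univ, show (Finset.univ.sigma fun q : Fin n × Fin n =>
      (Finset.univ : Finset (Fin (M q.1 q.2)))).filter (fun t => t.1.2 = j) =
      (Finset.univ.filter fun q : Fin n × Fin n => q.2 = j).sigma fun _ => Finset.univ by
    ext t; simp]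
  rw [Finset.card_sigma, Finset.sum_filter, Fintype.sum_prod_type]
  simp

theorem exists_blockCount (hν : ∑ i, ν i = n) (hμ : ∑ i, μ i = n) (M : Margins ν μ) :
    ∃ σ : Equiv.Perm (Fin n), blockCount hν hμ σ = M.1 := by
  classical
  obtain ⟨e1, he1⟩ : ∃ e : (Σ q : Fin n × Fin n, Fin (M.1 q.1 q.2)) ≃ Fin n,
      ∀ t, lab hν (e t) = t.1.1 := by
    refine ⟨Equiv.ofFiberEquiv fun i => Classical.choice ?_, fun t => Equiv.ofFiberEquiv_map _ t⟩
    refine ⟨Finite.equivFinOfCardEq ?_ |>.trans (labFiberEquiv hν i).symm⟩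
    rw [natCard_fiber_fst, M.2.1]
  obtain ⟨e2, he2⟩ : ∃ e : (Σ q : Fin n × Fin n, Fin (M.1 q.1 q.2)) ≃ Fin n,
      ∀ t, lab hμ (e t) = t.1.2 := by
    refine ⟨Equiv.ofFiberEquiv fun j => Classical.choice ?_, fun t => Equiv.ofFiberEquiv_map _ t⟩
    refine ⟨Finite.equivFinOfCardEq ?_ |>.trans (labFiberEquiv hμ j).symm⟩
    rw [natCard_fiber_snd, M.2.2]
  refine ⟨e2.symm.trans e1, funext fun i => funext fun j => ?_⟩
  rw [blockCount, Nat.card_congr (Equiv.subtypeEquiv (q := fun t => t.1 = (i, j)) e2.symm fun x => by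
    obtain ⟨t, rfl⟩ := e2.surjective x
    rw [Equiv.trans_apply, Equiv.symm_apply_apply, he1, he2])]
  rw [Nat.card_congr (Equiv.sigmaSubtype (α := Fin n × Fin n) (i, j)), Nat.card_fin]

/-- Double cosets of Young subgroups and matrices with given margins. -/
theorem natCard_young_double (hν : ∑ i, ν i = n) (hμ : ∑ i, μ i = n) :
    Nat.card (DoubleCoset.Quotient (Cfsg.youngSubgroup ν : Set (Equiv.Perm (Fin n)))
      (Cfsg.youngSubgroup μ)) = Nat.card (Margins ν μ) := by
  classical
  have hmarg : ∀ σ, (∀ i, ∑ j, blockCount hν hμ σ i j = ν i) ∧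
      ∀ j, ∑ i, blockCount hν hμ σ i j = μ j := fun σ => by
    constructor
    · intro i
      rw [← natCard_lab_fiber hν i, ← Nat.card_congr (σ.subtypeEquiv (p := fun x => lab hν (σ x) = i)
        (q := fun y => lab hν y = i) fun _ => Iff.rfl)]
      simp only [blockCount, Nat.card_eq_fintype_card, Fintype.card_subtype]
      rw [Finset.card_eq_sum_card_fiberwise (f := lab hμ) (t := Finset.univ)
        (fun x _ => Finset.mem_univ _)]
      refine Finset.sum_congr rfl fun j _ => ?_
      rw [Finset.filter_filter]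
      exact congrArg Finset.card (Finset.filter_congr fun x _ => Prod.mk.injEq _ _ _ _ ▸ Iff.rfl)
    · intro j
      rw [← natCard_lab_fiber hμ j]
      simp only [blockCount, Nat.card_eq_fintype_card, Fintype.card_subtype]
      rw [Finset.card_eq_sum_card_fiberwise (f := fun x => lab hν (σ x)) (t := Finset.univ)
        (fun x _ => Finset.mem_univ _)]
      refine Finset.sum_congr rfl fun i _ => ?_
      rw [Finset.filter_filter]
      exact congrArg Finset.card (Finset.filter_congr fun x _ => by rw [Prod.mk.injEq]; tauto)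
  refine Nat.card_congr (Equiv.ofBijective
    (Quotient.lift (fun σ => (⟨blockCount hν hμ σ, hmarg σ⟩ : Margins ν μ)) ?_) ⟨?_, ?_⟩)
  · intro σ τ h
    obtain ⟨a, ha, b, hb, rfl⟩ := DoubleCoset.rel_iff.mp h
    refine Subtype.ext (funext fun i => funext fun j => (Nat.card_congr (b.subtypeEquiv fun x => ?_)).symm)
    rw [Equiv.Perm.mul_apply, Equiv.Perm.mul_apply, (mem_youngSubgroup_iff hν a).mp ha,
      (mem_youngSubgroup_iff hμ b).mp hb]
  · intro x y h
    induction x using Quotient.inductionOn with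
    | h σ =>
      induction y using Quotient.inductionOn with
      | h τ =>
        obtain ⟨a, ha, b, hb, h'⟩ := exists_mem_of_blockCount_eq hν hμ (congrArg Subtype.val h)
        exact Quotient.sound (DoubleCoset.rel_iff.mpr ⟨a, ha, b, hb, h'⟩)
  · intro M
    obtain ⟨σ, hσ⟩ := exists_blockCount hν hμ M
    exact ⟨Quotient.mk _ σ, Subtype.ext hσ⟩

/-- Double cosets of parabolics and of Young subgroups correspond. -/
theorem natCard_parabolic_double [Finite F] (hν : ∑ i, ν i = n) (hμ : ∑ i, μ i = n) :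
    Nat.card (DoubleCoset.Quotient (Cfsg.parabolicGL n F ν : Set (GL (Fin n) F))
      (Cfsg.parabolicGL n F μ)) =
    Nat.card (DoubleCoset.Quotient (Cfsg.youngSubgroup ν : Set (Equiv.Perm (Fin n)))
      (Cfsg.youngSubgroup μ)) := by
  refine (Nat.card_congr (Equiv.ofBijective
    (Quotient.lift (fun σ => (Quotient.mk _ (permGL (F := F) σ) :
      DoubleCoset.Quotient (Cfsg.parabolicGL n F ν : Set (GL (Fin n) F)) (Cfsg.parabolicGL n F μ)))
      ?_) ⟨?_, ?_⟩)).symm
  · intro σ τ h
    obtain ⟨a, ha, b, hb, rfl⟩ := DoubleCoset.rel_iff.mp h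
    exact Quotient.sound (DoubleCoset.rel_iff.mpr
      ⟨_, permGL_mem ha, _, permGL_mem hb, by rw [map_mul, map_mul]⟩)
  · intro x y h
    induction x using Quotient.inductionOn with
    | h σ =>
      induction y using Quotient.inductionOn with
      | h τ =>
        obtain ⟨a, ha, b, hb, h'⟩ := DoubleCoset.rel_iff.mp (Quotient.exact h)
        have h'' : permGL σ = a⁻¹ * permGL τ * b⁻¹ := by rw [h']; group
        obtain ⟨a', ha', b', hb', e⟩ := exists_mem_of_blockCount_eq hν hμ
          (blockCount_eq_of_corner hν hμ fun r c =>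
            le_antisymm (cornerCount_le (inv_mem ha) (inv_mem hb) h'' r c) (cornerCount_le ha hb h' r c))
        exact Quotient.sound (DoubleCoset.rel_iff.mpr ⟨a', ha', b', hb', e⟩)
  · intro q
    induction q using Quotient.inductionOn with
    | h g =>
      obtain ⟨b₁, hb₁, σ, b₂, hb₂, rfl⟩ := exists_bruhat g
      exact ⟨Quotient.mk _ σ, Quotient.sound (DoubleCoset.rel_iff.mpr
        ⟨b₁, upperTriangularGL_le ν hb₁, b₂, upperTriangularGL_le μ hb₂, rfl⟩)⟩

/-- The inner product of two permutation characters counts double cosets. -/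
theorem inner_fixedPointCharacter {G : Type*} [Group G] [Fintype G] (H K : Subgroup G) :
    (Nat.card G : ℂ)⁻¹ * ∑ g : G,
        Cfsg.fixedPointCharacter H g * Cfsg.fixedPointCharacter K g =
      (Nat.card (DoubleCoset.Quotient (H : Set G) K) : ℂ) := by
  classical
  have hfix : ∀ g : G, Fintype.card (MulAction.fixedBy ((G ⧸ H) × (G ⧸ K)) g) =
      Nat.card (MulAction.fixedBy (G ⧸ H) g) * Nat.card (MulAction.fixedBy (G ⧸ K) g) := fun g => by
    rw [← Nat.card_eq_fintype_card, ← Nat.card_prod]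
    exact Nat.card_congr
      { toFun := fun x => (⟨x.1.1, congrArg Prod.fst x.2⟩, ⟨x.1.2, congrArg Prod.snd x.2⟩)
        invFun := fun y => ⟨(y.1.1, y.2.1), Prod.ext y.1.2 y.2.2⟩
        left_inv := fun _ => rfl
        right_inv := fun _ => rfl }
  have horb : Nat.card (MulAction.orbitRel.Quotient G ((G ⧸ H) × (G ⧸ K))) =
      Nat.card (DoubleCoset.Quotient (H : Set G) K) := by
    refine (Nat.card_congr (Equiv.ofBijective
      (Quotient.lift (fun x : G => (Quotient.mk _ (((1 : G) : G ⧸ H), (x : G ⧸ K)) :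
        MulAction.orbitRel.Quotient G ((G ⧸ H) × (G ⧸ K)))) ?_) ⟨?_, ?_⟩)).symm
    · intro x y h
      obtain ⟨a, ha, b, hb, rfl⟩ := DoubleCoset.rel_iff.mp h
      refine Quotient.sound (MulAction.orbitRel_apply.mpr ⟨a⁻¹, ?_⟩)
      show a⁻¹ • (((1 : G) : G ⧸ H), ((a * x * b : G) : G ⧸ K)) = _
      rw [Prod.smul_mk, MulAction.Quotient.smul_coe, MulAction.Quotient.smul_coe, smul_eq_mul,
        smul_eq_mul]
      refine Prod.ext ?_ ?_
      · exact QuotientGroup.eq.mpr (by simpa using ha)
      · refine QuotientGroup.eq.mpr ?_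
        have : (a⁻¹ * (a * x * b))⁻¹ * x = b⁻¹ := by group
        rw [this]; exact inv_mem hb
    · intro x y h
      induction x using Quotient.inductionOn with
      | h x =>
        induction y using Quotient.inductionOn with
        | h y =>
          obtain ⟨a, ha⟩ := MulAction.orbitRel_apply.mp (Quotient.exact h)
          simp only [Prod.smul_mk, MulAction.Quotient.smul_coe, smul_eq_mul, Prod.mk.injEq,
            QuotientGroup.eq, mul_one] at ha
          refine Quotient.sound (DoubleCoset.rel_iff.mpr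
            ⟨a⁻¹, by simpa using ha.1, ((a * y)⁻¹ * x)⁻¹, inv_mem ha.2, ?_⟩)
          group
    · intro q
      induction q using Quotient.inductionOn with
      | h z =>
        obtain ⟨z₁, z₂⟩ := z
        induction z₁ using Quotient.inductionOn with
        | h a =>
          induction z₂ using Quotient.inductionOn with
          | h b =>
            refine ⟨Quotient.mk _ (a⁻¹ * b), Quotient.sound (MulAction.orbitRel_apply.mpr ⟨a⁻¹, ?_⟩)⟩
            show a⁻¹ • ((a : G ⧸ H), (b : G ⧸ K)) = _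
            rw [Prod.smul_mk, MulAction.Quotient.smul_coe, MulAction.Quotient.smul_coe, smul_eq_mul,
              inv_mul_cancel, smul_eq_mul]
  have hb := MulAction.sum_card_fixedBy_eq_card_orbits_mul_card_group G ((G ⧸ H) × (G ⧸ K))
  rw [Finset.sum_congr rfl (fun g _ => hfix g), ← Nat.card_eq_fintype_card (α := G),
    ← Nat.card_eq_fintype_card, horb] at hb
  have hG : (Nat.card G : ℂ) ≠ 0 := by exact_mod_cast Nat.card_pos.ne'
  rw [inv_mul_eq_iff_eq_mul₀ hG, mul_comm]
  simp only [Cfsg.fixedPointCharacter]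
  exact_mod_cast hb

end CfsgLib.KnownB.Flag
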