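import Mathlib
import Cfsg.Agent.Lib.KnownB.ClassData

/-!
Numerical bounds for the index-weighted composition counts.
-/

set_option autoImplicit false

namespace CfsgLib.KnownB.ClassNum

open Finset

variable {q : ℕ}

theorem gIdx_dvd_sub_one {L : ℕ} (a : Fin L → ℕ) : gIdx q a ∣ q - 1 := Nat.gcd_dvd_left _ _

theorem gIdx_dvd_part {L : ℕ} (a : Fin L → ℕ) {l : Fin L} (hl : a l ≠ 0) :
    gIdx q a ∣ 1 + (l : ℕ) :=
  (Nat.gcd_dvd_right _ _).trans (gcd_dvd (mem_filter.2 ⟨mem_univ l, hl⟩))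

theorem gIdx_dvd_total {L r : ℕ} {a : Fin L → ℕ} (ha : a ∈ comps 1 L r) : gIdx q a ∣ r := by
  rw [← (mem_comps le_rfl).1 ha]
  refine dvd_sum fun l _ => ?_
  rcases Nat.eq_zero_or_pos (a l) with h | h
  · simp [h]
  · exact Dvd.dvd.mul_right (gIdx_dvd_part a h.ne') _

theorem gIdx_one_le (hq : 2 ≤ q) {L : ℕ} (a : Fin L → ℕ) : 1 ≤ gIdx q a :=
  Nat.gcd_pos_of_pos_left _ (by omega)

/-- Compositions all of whose parts are multiples of `d`. -/
theorem sum_dvd_le (q : ℕ) {L r d : ℕ} (hd : 0 < d) :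
    ∑ a ∈ (comps 1 L r).filter (fun a => ∀ l : Fin L, a l ≠ 0 → d ∣ 1 + (l : ℕ)), ∏ l, wt q (a l) ≤
      sumWt q 1 L (r / d) := by
  classical
  rw [← sum_comps q L 1 (r / d) le_rfl]
  have hlt : ∀ k : Fin L, d ∣ 1 + (k : ℕ) → (1 + (k : ℕ)) / d - 1 < L := fun k hk => by
    have h1 := Nat.div_le_self (1 + (k : ℕ)) d
    have h2 := Nat.div_pos (Nat.le_of_dvd (by omega) hk) hd
    omega
  let ψ : (Fin L → ℕ) → Fin L → ℕ := fun a k =>
    if h : d * (1 + (k : ℕ)) - 1 < L then a ⟨d * (1 + (k : ℕ)) - 1, h⟩ else 0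
  have key : ∀ (f : ℕ → ℕ → ℕ), (∀ j, f j 0 = f 0 0) → ∀ a : Fin L → ℕ, True := fun _ _ _ => trivial
  have hσ : ∀ a : Fin L → ℕ, (∀ l : Fin L, a l ≠ 0 → d ∣ 1 + (l : ℕ)) →
      ∀ (g : ℕ → ℕ → ℕ) (_ : ∀ j, g j 0 = 0),
      ∑ l : Fin L, g (1 + (l : ℕ)) (a l) = ∑ k : Fin L, g (d * (1 + (k : ℕ))) (ψ a k) := by
    intro a ha g hg
    refine sum_bij_ne_zero
      (fun l _ hne => ⟨(1 + (l : ℕ)) / d - 1, hlt l (ha l fun h => hne (by rw [h, hg]))⟩) ?_ ?_ ?_ ?_
    · intro l _ _; exact mem_univ _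
    · intro l₁ _ h₁ l₂ _ h₂ he
      have d1 := ha l₁ fun h => h₁ (by rw [h, hg])
      have d2 := ha l₂ fun h => h₂ (by rw [h, hg])
      have e := congrArg Fin.val he
      simp only at e
      have p1 := Nat.div_pos (Nat.le_of_dvd (by omega) d1) hd
      have p2 := Nat.div_pos (Nat.le_of_dvd (by omega) d2) hd
      have : (1 + (l₁ : ℕ)) / d = (1 + (l₂ : ℕ)) / d := by omega
      have := (Nat.div_mul_cancel d1).symm.trans ((congrArg (· * d) this).trans (Nat.div_mul_cancel d2))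
      exact Fin.ext (by omega)
    · intro k _ hne
      by_cases h : d * (1 + (k : ℕ)) - 1 < L
      · have hpos : 0 < d * (1 + (k : ℕ)) := Nat.mul_pos hd (by omega)
        have he : 1 + ((⟨d * (1 + (k : ℕ)) - 1, h⟩ : Fin L) : ℕ) = d * (1 + (k : ℕ)) := by
          show 1 + (d * (1 + (k : ℕ)) - 1) = _
          omega
        refine ⟨⟨d * (1 + (k : ℕ)) - 1, h⟩, mem_univ _, ?_, Fin.ext ?_⟩
        · rw [he]; simpa [ψ, h] using hne
        · show (1 + (d * (1 + (k : ℕ)) - 1)) / d - 1 = (k : ℕ)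
          rw [show 1 + (d * (1 + (k : ℕ)) - 1) = d * (1 + (k : ℕ)) by omega, Nat.mul_div_cancel_left _ hd]
          omega
      · exact absurd (by simp [ψ, h, hg]) hne
    · intro l _ hne
      have d1 := ha l fun h => hne (by rw [h, hg])
      have p1 := Nat.div_pos (Nat.le_of_dvd (by omega) d1) hd
      have e1 : d * (1 + ((1 + (l : ℕ)) / d - 1)) = 1 + (l : ℕ) := by
        rw [show 1 + ((1 + (l : ℕ)) / d - 1) = (1 + (l : ℕ)) / d by omega, Nat.mul_div_cancel' d1]
      simp only [ψ]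
      rw [e1]
      simp
  have hinj : Set.InjOn ψ ↑((comps 1 L r).filter (fun a => ∀ l : Fin L, a l ≠ 0 → d ∣ 1 + (l : ℕ))) := by
    intro a ha b hb hab
    funext l
    by_cases hl : d ∣ 1 + (l : ℕ)
    · have p1 := Nat.div_pos (Nat.le_of_dvd (by omega) hl) hd
      have e1 : d * (1 + ((1 + (l : ℕ)) / d - 1)) = 1 + (l : ℕ) := by
        rw [show 1 + ((1 + (l : ℕ)) / d - 1) = (1 + (l : ℕ)) / d by omega, Nat.mul_div_cancel' hl]
      have := congrFun hab ⟨(1 + (l : ℕ)) / d - 1, hlt l hl⟩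
      simp only [ψ, e1] at this
      simpa using this
    · have h1 : a l = 0 := by_contra fun h => hl ((mem_filter.1 ha).2 l h)
      have h2 : b l = 0 := by_contra fun h => hl ((mem_filter.1 hb).2 l h)
      rw [h1, h2]
  have hwt : ∀ a : Fin L → ℕ, (∀ l : Fin L, a l ≠ 0 → d ∣ 1 + (l : ℕ)) →
      ∏ l, wt q (a l) = ∏ k, wt q (ψ a k) := by
    intro a ha
    refine prod_bij_ne_one
      (fun l _ hne => ⟨(1 + (l : ℕ)) / d - 1, hlt l (ha l fun h => hne (by rw [h]; rfl))⟩) ?_ ?_ ?_ ?_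
    · intro l _ _; exact mem_univ _
    · intro l₁ _ h₁ l₂ _ h₂ he
      have d1 := ha l₁ fun h => h₁ (by rw [h]; rfl)
      have d2 := ha l₂ fun h => h₂ (by rw [h]; rfl)
      have e := congrArg Fin.val he
      simp only at e
      have p1 := Nat.div_pos (Nat.le_of_dvd (by omega) d1) hd
      have p2 := Nat.div_pos (Nat.le_of_dvd (by omega) d2) hd
      have : (1 + (l₁ : ℕ)) / d = (1 + (l₂ : ℕ)) / d := by omega
      have := (Nat.div_mul_cancel d1).symm.trans ((congrArg (· * d) this).trans (Nat.div_mul_cancel d2))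
      exact Fin.ext (by omega)
    · intro k _ hne
      by_cases h : d * (1 + (k : ℕ)) - 1 < L
      · have hpos : 0 < d * (1 + (k : ℕ)) := Nat.mul_pos hd (by omega)
        refine ⟨⟨d * (1 + (k : ℕ)) - 1, h⟩, mem_univ _, ?_, Fin.ext ?_⟩
        · simpa [ψ, h] using hne
        · show (1 + (d * (1 + (k : ℕ)) - 1)) / d - 1 = (k : ℕ)
          rw [show 1 + (d * (1 + (k : ℕ)) - 1) = d * (1 + (k : ℕ)) by omega, Nat.mul_div_cancel_left _ hd]
          omega
      · exact absurd (by simp [ψ, h, wt]) hne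
    · intro l _ hne
      have d1 := ha l fun h => hne (by rw [h]; rfl)
      have p1 := Nat.div_pos (Nat.le_of_dvd (by omega) d1) hd
      have e1 : d * (1 + ((1 + (l : ℕ)) / d - 1)) = 1 + (l : ℕ) := by
        rw [show 1 + ((1 + (l : ℕ)) / d - 1) = (1 + (l : ℕ)) / d by omega, Nat.mul_div_cancel' d1]
      simp only [ψ, e1]
      simp
  rw [sum_congr rfl (fun a ha => hwt a (mem_filter.1 ha).2),
    ← sum_image (f := fun b : Fin L → ℕ => ∏ k, wt q (b k)) hinj]
  refine sum_le_sum_of_subset_of_nonneg (fun b hb => ?_) fun _ _ _ => Nat.zero_le _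
  obtain ⟨a, ha, rfl⟩ := mem_image.1 hb
  rw [mem_filter, mem_comps le_rfl] at ha
  rw [mem_comps le_rfl]
  have h := (hσ a ha.2 (fun j x => j * x) fun j => by simp).symm.trans ha.1
  simp only [mul_assoc, ← mul_sum] at h
  rw [← h, Nat.mul_div_cancel_left _ hd]

/-- Extra terms over the divisors. -/
theorem phiBound_le (hq : 2 ≤ q) (L r : ℕ) :
    phiBound q L r ≤ sumWt q 1 L r +
      ∑ d ∈ (Nat.gcd r (q - 1)).divisors.filter (fun d => 1 < d), (d ^ 2 - 1) * sumWt q 1 L (r / d) := by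
  classical
  calc phiBound q L r
      ≤ ∑ a ∈ comps 1 L r, (1 + ∑ d ∈ (Nat.gcd r (q - 1)).divisors.filter (fun d => 1 < d),
          if d ∣ gIdx q a then d ^ 2 - 1 else 0) * ∏ l, wt q (a l) := by
        refine sum_le_sum fun a ha => Nat.mul_le_mul_right _ ?_
        rcases (gIdx_one_le hq a).eq_or_lt with h | h
        · rw [← h]; omega
        · have hmem : gIdx q a ∈ (Nat.gcd r (q - 1)).divisors.filter (fun d => 1 < d) :=
            mem_filter.2 ⟨Nat.mem_divisors.2 ⟨Nat.dvd_gcd (gIdx_dvd_total ha) (gIdx_dvd_sub_one a),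
              fun h0 => by have := (Nat.gcd_eq_zero_iff.1 h0).2; omega⟩, h⟩
          have h2 := single_le_sum (f := fun d => if d ∣ gIdx q a then d ^ 2 - 1 else 0)
            (fun _ _ => Nat.zero_le _) hmem
          simp only [dvd_refl, if_true] at h2
          omega
    _ ≤ _ := by
        simp only [add_mul, one_mul, sum_add_distrib, sum_comps q L 1 r le_rfl, sum_mul]
        refine Nat.add_le_add_left ?_ _
        rw [sum_comm]
        refine sum_le_sum fun d hd => ?_
        simp only [ite_mul, zero_mul]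
        rw [← sum_filter, ← mul_sum]
        refine Nat.mul_le_mul_left _ (le_trans (sum_le_sum_of_subset_of_nonneg (fun a ha => ?_)
          fun _ _ _ => Nat.zero_le _) (sum_dvd_le q (by have := (mem_filter.1 hd).2; omega)))
        rw [mem_filter] at ha ⊢
        exact ⟨ha.1, fun l hl => ha.2.trans (gIdx_dvd_part a hl)⟩

theorem sumWt_zero (i L : ℕ) : sumWt q i L 0 = 1 := by
  induction L generalizing i with
  | zero => simp [sumWt]
  | succ L ih => simp [sumWt, wt, ih]

theorem sumWt_small : ∀ i L r : ℕ, 0 < r → r < i → sumWt q i L r = 0 := by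
  intro i L
  induction L generalizing i with
  | zero => intro r h _; simp [sumWt, h.ne']
  | succ L ih =>
    intro r h0 hr
    simp [sumWt, Nat.div_eq_of_lt hr, ih (i + 1) r h0 (by omega)]

theorem sumWt_self_le (i L : ℕ) (hi : 1 ≤ i) : sumWt q i L i ≤ q - 1 := by
  rcases L with _ | L
  · simp [sumWt, show i ≠ 0 by omega]
  · simp [sumWt, Nat.div_self hi, sum_range_succ, wt, sumWt_zero, sumWt_small (i + 1) L i hi (by omega)]

theorem sumWt_one_one (L : ℕ) : sumWt q 1 L 1 ≤ q - 1 := sumWt_self_le 1 L le_rfl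

theorem sumWt_one_two (hq : 2 ≤ q) (L : ℕ) : sumWt q 1 L 2 ≤ q ^ 2 - 1 := by
  rcases L with _ | L
  · simp [sumWt]
  · have h2 := sumWt_self_le (q := q) 2 L (by omega)
    simp only [sumWt, Nat.div_one, sum_range_succ, range_zero, sum_empty, zero_add, one_mul, Nat.sub_zero,
      Nat.sub_self, sumWt_zero, sumWt_small 2 L (2 - 1) (by omega) (by omega), wt, if_true, mul_zero,
      add_zero, if_neg (by omega : ¬ 2 = 0), mul_one, Nat.reduceAdd, Nat.reduceSub, pow_one]
    obtain ⟨s, rfl⟩ : ∃ s, q = s + 1 := ⟨q - 1, by omega⟩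
    simp only [Nat.add_sub_cancel, pow_one] at h2 ⊢
    have : (s + 1) ^ 2 = s * (s + 1) + s + 1 := by ring
    omega

theorem sumWt_one_three (hq : 2 ≤ q) (L : ℕ) : sumWt q 1 L 3 ≤ q ^ 3 - q := by
  rcases L with _ | L
  · simp [sumWt]
  · have h2 := sumWt_self_le (q := q) 2 L (by omega)
    have h3 : sumWt q 2 L 3 ≤ q - 1 := by
      rcases L with _ | L
      · simp [sumWt]
      · have h4 := sumWt_self_le (q := q) 3 L (by omega)
        simp only [sumWt, show 3 / 2 + 1 = 2 from rfl, sum_range_succ, range_zero, sum_empty, zero_add,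
          mul_zero, Nat.sub_zero, sumWt_small 3 L (3 - 2 * 1) (by omega) (by omega), add_zero, wt, if_true,
          one_mul]
        exact h4
    simp only [sumWt, Nat.div_one, sum_range_succ, range_zero, sum_empty, zero_add, one_mul, Nat.sub_zero,
      Nat.sub_self, sumWt_zero, sumWt_small 2 L (3 - 2) (by omega) (by omega), wt, if_true, mul_zero,
      add_zero, if_neg (by omega : ¬ 3 = 0), if_neg (by omega : ¬ 1 = 0), mul_one, pow_zero, Nat.reduceAdd, Nat.reduceSub, pow_one]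
    obtain ⟨s, rfl⟩ : ∃ s, q = s + 1 := ⟨q - 1, by omega⟩
    simp only [Nat.add_sub_cancel, show 3 - 1 = 2 from rfl] at h2 h3 ⊢
    have h5 : s * sumWt (s + 1) 2 L 2 ≤ s * s := Nat.mul_le_mul_left _ h2
    have : (s + 1) ^ 3 = s * (s + 1) ^ 2 + s * s + 2 * s + 1 := by ring
    omega

/-- `Σ_{1 < d ∣ g} (d² - 1) ≤ 2 (g² - 1)`. -/
theorem sum_divisor_sq_le (g : ℕ) :
    ∑ d ∈ g.divisors.filter (fun d => 1 < d), (d ^ 2 - 1) ≤ 2 * (g ^ 2 - 1) := by
  rcases Nat.lt_or_ge g 2 with hg | hg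
  · interval_cases g <;> decide
  have hQ : ∀ m : ℕ, ∑ k ∈ range m, (1 : ℚ) / ((k : ℚ) + 1) ^ 2 ≤ 2 - 1 / (m : ℚ) ∨ m = 0 := by
    intro m
    induction m with
    | zero => exact Or.inr rfl
    | succ m ih =>
      left
      rcases Nat.eq_zero_or_pos m with rfl | hm
      · norm_num
      rcases ih with ih | ih
      · rw [sum_range_succ]
        have hm' : (0 : ℚ) < m := by exact_mod_cast hm
        have : (1 : ℚ) / ((m : ℚ) + 1) ^ 2 ≤ 1 / (m : ℚ) - 1 / ((m : ℚ) + 1) := by
          rw [div_sub_div _ _ hm'.ne' (by positivity), div_le_div_iff₀ (by positivity) (by positivity)]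
          nlinarith
        push_cast
        linarith
      · omega
  have hg0 : g ≠ 0 := by omega
  have h1 : ((∑ d ∈ g.divisors, d ^ 2 : ℕ) : ℚ) ≤ (g : ℚ) ^ 2 * (2 - 1 / (g : ℚ)) := by
    rw [← Nat.sum_div_divisors g (fun d => d ^ 2), Nat.cast_sum]
    refine le_trans (le_of_eq (sum_congr rfl fun d hd => ?_) : _ ≤ ∑ d ∈ g.divisors, (g : ℚ) ^ 2 *
      (1 / (d : ℚ) ^ 2)) ?_
    · obtain ⟨c, rfl⟩ := Nat.dvd_of_mem_divisors hd
      have hd0 : (d : ℚ) ≠ 0 := by exact_mod_cast (Nat.pos_of_mem_divisors hd).ne'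
      rw [Nat.mul_div_cancel_left _ (Nat.pos_of_mem_divisors hd)]
      push_cast
      field_simp
    · rw [← mul_sum]
      refine mul_le_mul_of_nonneg_left (le_trans ?_ ((hQ g).resolve_right hg0)) (by positivity)
      rw [show ∑ k ∈ range g, (1 : ℚ) / ((k : ℚ) + 1) ^ 2 =
          ∑ d ∈ (range g).image (fun k : ℕ => k + 1), (1 : ℚ) / ((d : ℕ) : ℚ) ^ 2 by
        rw [sum_image (fun a _ b _ e => by simpa using e)]
        push_cast
        rfl]
      refine sum_le_sum_of_subset_of_nonneg (fun d hd => ?_) fun _ _ _ => by positivity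
      have h1 := Nat.pos_of_mem_divisors hd
      have h2 := Nat.divisor_le hd
      exact mem_image.2 ⟨d - 1, mem_range.2 (by omega), by omega⟩
  have h2 : ∑ d ∈ g.divisors, d ^ 2 + g ≤ 2 * g ^ 2 := by
    have e : (g : ℚ) ^ 2 * (2 - 1 / (g : ℚ)) = 2 * (g : ℚ) ^ 2 - g := by
      have : (g : ℚ) ≠ 0 := by exact_mod_cast hg0
      field_simp
    rw [e, le_sub_iff_add_le] at h1
    exact_mod_cast h1
  have h3 : (∑ d ∈ g.divisors.filter (fun d => 1 < d), (d ^ 2 - 1)) + 1 ≤ ∑ d ∈ g.divisors, d ^ 2 := by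
    rw [← sum_filter_add_sum_filter_not g.divisors (fun d => 1 < d) (fun d => d ^ 2)]
    refine Nat.add_le_add (sum_le_sum fun d _ => Nat.sub_le _ _) ?_
    have h1m : 1 ∈ g.divisors.filter (fun d => ¬ 1 < d) :=
      mem_filter.2 ⟨Nat.one_mem_divisors.2 hg0, lt_irrefl 1⟩
    exact single_le_sum (f := fun d => d ^ 2) (fun _ _ => Nat.zero_le _) h1m
  omega

theorem phiBound_two (hq : 2 ≤ q) (L : ℕ) :
    phiBound q L 2 ≤ q ^ 2 - 1 + (if 2 ∣ q - 1 then 3 * (q - 1) else 0) := by
  refine (phiBound_le hq L 2).trans (Nat.add_le_add (sumWt_one_two hq L) ?_)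
  split_ifs with h
  · rw [Nat.gcd_eq_left h, show Nat.divisors 2 = {1, 2} from by decide]
    simp [filter_insert, filter_singleton]
    exact sumWt_one_one L
  · have : Nat.gcd 2 (q - 1) = 1 :=
      (Nat.Prime.eq_one_or_self_of_dvd Nat.prime_two _ (Nat.gcd_dvd_left _ _)).resolve_right
        (fun e => h (e ▸ Nat.gcd_dvd_right _ _))
    simp [this]

theorem phiBound_one (hq : 2 ≤ q) (L : ℕ) : phiBound q L 1 ≤ q - 1 := by
  refine (phiBound_le hq L 1).trans ?_
  rw [Nat.gcd_one_left, Nat.divisors_one]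
  simp [filter_singleton]
  exact sumWt_one_one L

/-- The main bound behind `k(SL_n(q))`. -/
theorem phiBound_main (hq : 2 ≤ q) (L n : ℕ) (hn : 3 ≤ n) :
    phiBound q L n ≤ (q - 1) * (q ^ (n - 1) + 3 * q ^ (n - 2)) := by
  refine (phiBound_le hq L n).trans ?_
  obtain ⟨k, rfl⟩ : ∃ k, n = k + 2 := ⟨n - 2, by omega⟩
  obtain ⟨s, rfl⟩ : ∃ s, q = s + 2 := ⟨q - 2, by omega⟩
  rw [Nat.add_sub_cancel, show k + 2 - 1 = k + 1 by omega, show s + 2 - 1 = s + 1 by omega]
  have hc := sumWt_le_pow (q := s + 2) hq L (k + 2)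
  have hQ : (s + 1) * ((s + 2) ^ (k + 1) + 3 * (s + 2) ^ k) =
      (s + 2) ^ (k + 2) + (2 * s + 1) * (s + 2) ^ k := by ring
  rcases Nat.lt_or_ge k 3 with hk | hk
  · have hk1 : 1 ≤ k := by omega
    rw [hQ]
    interval_cases k
    · simp only [Nat.reduceAdd, pow_one] at hc ⊢
      rcases (Nat.dvd_prime Nat.prime_three).1 (Nat.gcd_dvd_left 3 (s + 1)) with h | h
      · simp [h, filter_singleton]
        exact hc.trans (Nat.le_add_right _ _)
      · rw [h, show Nat.divisors 3 = {1, 3} from by decide]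
        simp [filter_insert, filter_singleton]
        have h1 := sumWt_one_one (q := s + 2) L
        have h3 := sumWt_one_three (q := s + 2) hq L
        have hs : 3 ∣ s + 1 := h ▸ Nat.gcd_dvd_right _ _
        have h2s : 2 ≤ s := by omega
        have := Nat.le_self_pow (n := 3) (by omega) (s + 2)
        have := Nat.mul_le_mul_right (s + 1) h2s
        have e : (2 * s + 1) * (s + 2) = 2 * (s * (s + 1)) + 3 * s + 2 := by ring
        omega
    · simp only [Nat.reduceAdd] at hc ⊢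
      refine Nat.add_le_add hc ?_
      obtain h | h | h : Nat.gcd 4 (s + 1) = 1 ∨ Nat.gcd 4 (s + 1) = 2 ∨ Nat.gcd 4 (s + 1) = 4 := by
        have h1 := Nat.gcd_dvd_left 4 (s + 1)
        have h2 := Nat.le_of_dvd (by omega) h1
        interval_cases hh : Nat.gcd 4 (s + 1) <;> simp_all
      · simp [h, filter_singleton]
      · rw [h, show Nat.divisors 2 = {1, 2} from by decide]
        simp [filter_insert, filter_singleton]
        have h2 := sumWt_le_pow (q := s + 2) hq L 2
        have hs : 2 ∣ s + 1 := h ▸ Nat.gcd_dvd_right _ _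
        refine le_trans (Nat.mul_le_mul_left _ h2) (Nat.mul_le_mul_right _ ?_)
        omega
      · rw [h, show Nat.divisors 4 = {1, 2, 4} from by decide]
        simp [filter_insert, filter_singleton]
        have h2 := sumWt_le_pow (q := s + 2) hq L 2
        have h1 := sumWt_one_one (q := s + 2) L
        have hs : 4 ∣ s + 1 := h ▸ Nat.gcd_dvd_right _ _
        have h3s : 3 ≤ s := by omega
        have := Nat.mul_le_mul_right ((s + 2) ^ 2) (show 7 ≤ 2 * s + 1 by omega)
        have := Nat.mul_le_mul_right (s + 2) (show 5 ≤ s + 2 by omega)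
        have e : (s + 2) ^ 2 = (s + 2) * (s + 2) := pow_two _
        omega
  rw [hQ]
  refine Nat.add_le_add hc ?_
  set g := Nat.gcd (k + 2) (s + 1)
  have hg : g ≤ s + 1 := Nat.le_of_dvd (by omega) (Nat.gcd_dvd_right _ _)
  calc ∑ d ∈ g.divisors.filter (fun d => 1 < d), (d ^ 2 - 1) * sumWt (s + 2) 1 L ((k + 2) / d)
      ≤ ∑ d ∈ g.divisors.filter (fun d => 1 < d), (d ^ 2 - 1) * (s + 2) ^ (k - 1) := by
        refine sum_le_sum fun d hd => Nat.mul_le_mul_left _ ((sumWt_le_pow hq L _).trans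
          (Nat.pow_le_pow_right (by omega) ?_))
        have := (mem_filter.1 hd).2
        have := Nat.div_le_div_left (show 2 ≤ d by omega) (show 0 < 2 by omega) (a := k + 2)
        omega
    _ ≤ 2 * (g ^ 2 - 1) * (s + 2) ^ (k - 1) := by
        rw [← sum_mul]; exact Nat.mul_le_mul_right _ (sum_divisor_sq_le g)
    _ ≤ 2 * (s * (s + 2)) * (s + 2) ^ (k - 1) := by
        refine Nat.mul_le_mul_right _ (Nat.mul_le_mul_left _ ?_)
        have : g ^ 2 ≤ (s + 1) ^ 2 := Nat.pow_le_pow_left hg 2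
        have e : (s + 1) ^ 2 = s * (s + 2) + 1 := by ring
        omega
    _ ≤ _ := by
        obtain ⟨j, rfl⟩ : ∃ j, k = j + 1 := ⟨k - 1, by omega⟩
        rw [Nat.add_sub_cancel, pow_succ]
        nlinarith [Nat.zero_le ((s + 2) ^ j)]

theorem phiBound_le_two_mul (hq : 2 ≤ q) (L n : ℕ) (hn : 1 ≤ n) : phiBound q L n ≤ 2 * q ^ n := by
  rcases Nat.lt_or_ge n 3 with h | h
  · interval_cases n
    · have := phiBound_one hq L
      rw [pow_one]
      omega
    · refine (phiBound_two hq L).trans ?_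
      split_ifs with hd
      · have h3 : 3 ≤ q := by omega
        have := Nat.mul_le_mul_right q h3
        rw [pow_two]
        omega
      · omega
  · refine (phiBound_main hq L n h).trans ?_
    obtain ⟨k, rfl⟩ : ∃ k, n = k + 2 := ⟨n - 2, by omega⟩
    obtain ⟨s, rfl⟩ : ∃ s, q = s + 2 := ⟨q - 2, by omega⟩
    rw [Nat.add_sub_cancel, show k + 2 - 1 = k + 1 by omega, show s + 2 - 1 = s + 1 by omega, pow_succ,
      pow_succ (s + 2) (k + 1), pow_succ]
    have h2 : (s + 1) * (s + 5) ≤ 2 * ((s + 2) * (s + 2)) := by nlinarith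
    nlinarith [Nat.mul_le_mul_left ((s + 2) ^ k) h2]

/-- The numerical bound for `gcd · k(PSL_n(q))`. -/
theorem psl_bound (hq : 2 ≤ q) (n : ℕ) (hn : 2 ≤ n) (L : ℕ) :
    ∑ m ∈ (Nat.gcd n (q - 1)).divisors, Nat.totient m * phiBound q L (n / m) ≤
      (q - 1) * (q ^ (n - 1) + 5 * q ^ (n - 2)) := by
  set g := Nat.gcd n (q - 1) with hg
  have hg0 : g ≠ 0 := (Nat.gcd_pos_of_pos_left _ (by omega)).ne'
  rw [← sum_erase_add _ _ (Nat.one_mem_divisors.2 hg0)]
  simp only [Nat.totient_one, one_mul, Nat.div_one]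
  rcases eq_or_lt_of_le hn with rfl | hn3
  · obtain ⟨s, rfl⟩ : ∃ s, q = s + 2 := ⟨q - 2, by omega⟩
    have hB := phiBound_two (q := s + 2) hq L
    rcases (Nat.dvd_prime Nat.prime_two).1 (Nat.gcd_dvd_left 2 (s + 2 - 1)) with h | h
    · have hd : ¬ 2 ∣ s + 2 - 1 := fun hd => by rw [Nat.gcd_eq_left hd] at h; omega
      rw [if_neg hd] at hB
      rw [hg, h]
      simp at hB ⊢
      refine hB.trans ?_
      have e : (s + 1) * (s + 2 + 5) = s * s + 4 * s + 4 + (4 * s + 3) := by ring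
      have e2 : (s + 2) ^ 2 = s * s + 4 * s + 4 := by ring
      omega
    · have hd : 2 ∣ s + 2 - 1 := by
        have := Nat.gcd_dvd_right 2 (s + 2 - 1)
        rwa [h] at this
      rw [if_pos hd] at hB
      rw [hg, h, show Nat.divisors 2 = {1, 2} from by decide]
      have h1 := phiBound_one (q := s + 2) hq L
      simp at hB h1 ⊢
      have e : (s + 2) ^ 2 = (s + 1) * (s + 3) + 1 := by ring
      have e3 : (s + 1) * (s + 2 + 5) = (s + 1) * (s + 3) + 4 * (s + 1) := by ring
      omega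
  · have hmain := phiBound_main hq L n hn3
    have hgq : g ≤ q - 1 := Nat.le_of_dvd (by omega) (Nat.gcd_dvd_right _ _)
    have hextra : ∑ m ∈ g.divisors.erase 1, Nat.totient m * phiBound q L (n / m) ≤
        (q - 1) * (2 * q ^ (n - 2)) := by
      calc _ ≤ ∑ m ∈ g.divisors.erase 1, Nat.totient m * (2 * q ^ (n - 2)) := by
              refine sum_le_sum fun m hm => Nat.mul_le_mul_left _ ?_
              rw [mem_erase, Nat.mem_divisors] at hm
              have hmn : m ∣ n := hm.2.1.trans (Nat.gcd_dvd_left _ _)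
              have hm2 : 2 ≤ m := by
                have := Nat.pos_of_dvd_of_pos hmn (by omega)
                omega
              have := Nat.div_le_div_left hm2 (show 0 < 2 by omega) (a := n)
              refine (phiBound_le_two_mul hq L _ (Nat.div_pos (Nat.le_of_dvd (by omega) hmn) (by omega))).trans
                (Nat.mul_le_mul_left _ (Nat.pow_le_pow_right (by omega) (by omega)))
        _ ≤ _ := by
              rw [← sum_mul]
              refine Nat.mul_le_mul_right _ (le_trans (le_trans (sum_le_sum_of_subset_of_nonneg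
                (erase_subset _ _) fun _ _ _ => Nat.zero_le _) (Nat.sum_totient g).le) hgq)
    calc _ ≤ (q - 1) * (2 * q ^ (n - 2)) + (q - 1) * (q ^ (n - 1) + 3 * q ^ (n - 2)) :=
          Nat.add_le_add hextra hmain
      _ = _ := by ring

end CfsgLib.KnownB.ClassNum
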