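import Mathlib
import Cfsg.Agent.Lib.ClassK.RowSieve
import Cfsg.Agent.Lib.ClassK.SmallOrders

/-!
A group of order 7920 with disconnected prime graph is simple.

If the number of Sylow 11-subgroups is 1 or 12, the centraliser of one of them makes the graph
connected. Otherwise a minimal normal subgroup is either a small 2- or 5-group centralised by all
elements of order 11, connecting the graph, or simple of an impossible order.
-/

set_option autoImplicit false

namespace CfsgLib.KnownB.Order7920

open Subgroup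

variable {G : Type*} [Group G]

/-- An element of prime order normalising a group is trivial on it if no proper divisor of the
order of the group is congruent to it. -/
theorem commute_of_normalize [Finite G] {r : ℕ} [Fact r.Prime] {z : G} (hz : orderOf z = r)
    {P : Subgroup G} (hzP : z ∈ normalizer (P : Set G))
    (hnum : ∀ f : ℕ, f ∣ Nat.card P → f % r = Nat.card P % r → f = Nat.card P)
    {x : G} (hx : x ∈ P) : Commute z x := by
  classical
  have := Fintype.ofFinite P
  set e : MulAut P := P.normalizerMonoidHom ⟨z, hzP⟩ with he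
  have hpow : e ^ r = 1 := by
    rw [he, ← map_pow]
    have : (⟨z, hzP⟩ : normalizer (P : Set G)) ^ r = 1 :=
      Subtype.ext (by simpa [hz] using pow_orderOf_eq_one z)
    rw [this, map_one]
  set σ : Equiv.Perm P := MulAut.toPerm P e with hσ
  have hσr : σ ^ r ^ 1 = 1 := by rw [hσ, pow_one, ← map_pow, hpow, map_one]
  have hmod := Equiv.Perm.card_compl_support_modEq (p := r) (n := 1) hσr
  let F : Subgroup P := MonoidHom.eqLocus (e.toMonoidHom) (MonoidHom.id P)
  have hmem : ∀ a, a ∈ F ↔ σ a = a := fun a => Iff.rfl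
  have hF : Nat.card F = σ.supportᶜ.card := by
    rw [Nat.card_eq_fintype_card, Fintype.card_subtype]
    congr 1
    ext a
    simp [hmem]
  have hFtop : F = ⊤ := by
    refine Subgroup.eq_top_of_card_eq _ (hnum _ F.card_subgroup_dvd_card ?_)
    rw [hF, Nat.card_eq_fintype_card]
    exact hmod
  have hxx : σ ⟨x, hx⟩ = ⟨x, hx⟩ := (hmem _).1 (by rw [hFtop]; exact mem_top _)
  have h2 : z * x * z⁻¹ = x := congrArg Subtype.val hxx
  show z * x = x * z
  exact mul_inv_eq_iff_eq_mul.1 h2

/-- If `K` normalises `L ≤ K` and the prime `r` divides `|K|` but not `|L|`, every prime power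
dividing `|L|` divides the order of a subgroup of `L` normalised by an element of order `r`. -/
theorem exists_normalized [Finite G] {r : ℕ} [Fact r.Prime] {K L : Subgroup G} (hLK : L ≤ K)
    (hKL : K ≤ normalizer (L : Set G)) (hr : r ∣ Nat.card K) (hrL : ¬ r ∣ Nat.card L)
    {p k : ℕ} (hp : p.Prime) (hpk : p ^ k ∣ Nat.card L) :
    ∃ z ∈ K, ∃ P : Subgroup G, orderOf z = r ∧ z ∈ normalizer (P : Set G) ∧ P ≤ L ∧
      IsPGroup p P ∧ p ^ k ∣ Nat.card P := by
  have : Fact p.Prime := ⟨hp⟩
  let L' : Subgroup K := L.subgroupOf K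
  have : L'.Normal := by
    refine ⟨fun a ha b => ?_⟩
    have h := (mem_normalizer_iff.1 (hKL b.2) (a : G)).1 ha
    simpa [L', mem_subgroupOf] using h
  have hcardL : Nat.card L' = Nat.card L := Nat.card_congr (subgroupOfEquivOfLe hLK).toEquiv
  obtain ⟨P⟩ := (inferInstance : Nonempty (Sylow p L'))
  set P' : Subgroup K := (P : Subgroup L').map L'.subtype with hP'
  have hfr : normalizer (P' : Set K) ⊔ L' = ⊤ := Sylow.normalizer_sup_eq_top P
  have hidx : L'.index = L'.relIndex (normalizer (P' : Set K)) := by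
    rw [← relIndex_top_right, ← hfr, relIndex_sup_right]
  have hrN : r ∣ Nat.card (normalizer (P' : Set K)) := by
    refine dvd_trans ?_ (relIndex_dvd_card L' _)
    rw [← hidx]
    refine (((Fact.out : r.Prime).dvd_mul).1 ?_).resolve_left (hcardL ▸ hrL)
    rw [card_mul_index]
    exact hr
  obtain ⟨z, hz⟩ := exists_prime_orderOf_dvd_card' r hrN
  refine ⟨((z : K) : G), (z : K).2, P'.map K.subtype, ?_, ?_, ?_, ?_, ?_⟩
  · simpa [Subgroup.orderOf_coe] using hz
  · exact le_normalizer_map K.subtype ⟨(z : K), z.2, rfl⟩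
  · rintro _ ⟨a, ⟨b, -, rfl⟩, rfl⟩
    exact b.2
  · exact (P.2.map _).map _
  · rw [card_map_of_injective K.subtype_injective, hP',
      card_map_of_injective L'.subtype_injective]
    exact P.pow_dvd_card_of_pow_dvd_card (hcardL ▸ hpk)

/-- Adjacency in the prime graph. -/
def Adj (G : Type*) [Group G] (p q : ℕ) : Prop := ∃ g : G, orderOf g = p * q

theorem Adj.symm {p q : ℕ} (h : Adj G p q) : Adj G q p := by
  obtain ⟨g, hg⟩ := h
  exact ⟨g, by rw [hg, mul_comm]⟩

theorem adj_of_commute {x y : G} {p q : ℕ} (hx : orderOf x = p) (hy : orderOf y = q)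
    (hp : p.Prime) (hq : q.Prime) (hpq : p ≠ q) (h : Commute x y) : Adj G p q :=
  ⟨x * y, by
    rw [h.orderOf_mul_eq_mul_orderOf_of_coprime, hx, hy]
    rw [hx, hy]
    exact (Nat.coprime_primes hp hq).2 hpq⟩

theorem adj_of_centralize [Finite G] {A B : Subgroup G} (hAB : B ≤ centralizer (A : Set G))
    {p q : ℕ} (hp : p.Prime) (hq : q.Prime) (hpq : p ≠ q) (hpA : p ∣ Nat.card A)
    (hqB : q ∣ Nat.card B) : Adj G p q := by
  have : Fact p.Prime := ⟨hp⟩
  have : Fact q.Prime := ⟨hq⟩
  obtain ⟨a, ha⟩ := exists_prime_orderOf_dvd_card' p hpA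
  obtain ⟨b, hb⟩ := exists_prime_orderOf_dvd_card' q hqB
  exact adj_of_commute (x := (a : G)) (y := (b : G)) (by rw [Subgroup.orderOf_coe, ha])
    (by rw [Subgroup.orderOf_coe, hb]) hp hq hpq (hAB b.2 a a.2)

variable [Finite G]

theorem card_sylow (hord : Nat.card G = 7920) (S : Sylow 11 G) [Fact (Nat.Prime 11)] :
    Nat.card S = 11 := by
  have h := CfsgLib.Transfer.card_sylow_eq_prime S (by rw [hord]; norm_num)
    (by rw [hord]; norm_num)
  exact h

variable [h11 : Fact (Nat.Prime 11)] (hord : Nat.card G = 7920) (S : Sylow 11 G)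

include hord

/-- The number of Sylow subgroups times the normaliser. -/
theorem count_mul :
    Nat.card (normalizer ((S : Subgroup G) : Set G)) * Nat.card (Sylow 11 G) = 7920 := by
  rw [← hord, Sylow.card_eq_index_normalizer S]
  exact card_mul_index (normalizer ((S : Subgroup G) : Set G))

theorem count_mem : Nat.card (Sylow 11 G) ∈ [1, 12, 45, 144] := by
  obtain ⟨S⟩ := (inferInstance : Nonempty (Sylow 11 G))
  have h1 : Nat.card (Sylow 11 G) % 11 = 1 := card_sylow_modEq_one 11 G
  have h2 : Nat.card (Sylow 11 G) ∣ 720 := by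
    have h := Sylow.card_dvd_index S
    have hi := (S : Subgroup G).index_mul_card
    rw [card_sylow hord S, hord] at hi
    have : (S : Subgroup G).index = 720 := by omega
    rwa [this] at h
  have key : ∀ d ∈ Nat.divisors 720, d % 11 = 1 → d ∈ [1, 12, 45, 144] := by decide +kernel
  exact key _ (Nat.mem_divisors.2 ⟨h2, by norm_num⟩) h1

/-- Every subgroup generated by an element of order 11 is a conjugate of `S`. -/
theorem exists_conj {z : G} (hz : orderOf z = 11) :
    ∃ T : Sylow 11 G, (T : Subgroup G) = zpowers z := by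
  have hP : IsPGroup 11 (zpowers z) := IsPGroup.of_card (n := 1) (by simpa using hz)
  obtain ⟨T, hT⟩ := hP.exists_le_sylow
  exact ⟨T, (eq_of_le_of_card_ge hT (by rw [card_sylow hord T, Nat.card_zpowers, hz])).symm⟩

theorem card_normalizer_eq {z : G} (hz : orderOf z = 11) :
    Nat.card (normalizer (zpowers z : Set G)) * Nat.card (Sylow 11 G) = 7920 := by
  obtain ⟨T, hT⟩ := exists_conj hord hz
  rw [← hT]
  exact count_mul hord T

omit hord h11 [Finite G] in
theorem centralizer_le_normalizer' (H : Subgroup G) :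
    centralizer (H : Set G) ≤ normalizer (H : Set G) := by
  intro g hg
  refine mem_normalizer_iff.2 fun a => ⟨fun ha => ?_, fun ha => ?_⟩
  · rw [← hg a ha, mul_inv_cancel_right]; exact ha
  · have h1 := hg _ ha
    have h2 : a = g * a * g⁻¹ := by
      calc a = g⁻¹ * ((g * a * g⁻¹) * g) := by group
        _ = g⁻¹ * (g * (g * a * g⁻¹)) := by rw [h1]
        _ = g * a * g⁻¹ := by group
    rw [h2]; exact ha

/-- A normal subgroup containing an element of order 11 contains all of them. -/
theorem sylow_le_of_dvd {C : Subgroup G} [C.Normal] (h : 11 ∣ Nat.card C) (T : Sylow 11 G) :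
    (T : Subgroup G) ≤ C := by
  obtain ⟨c, hc⟩ := exists_prime_orderOf_dvd_card' 11 h
  rw [← Subgroup.orderOf_coe] at hc
  obtain ⟨U, hU⟩ := exists_conj hord hc
  have hUC : (U : Subgroup G) ≤ C := by rw [hU, zpowers_le]; exact c.2
  obtain ⟨g, rfl⟩ := MulAction.exists_smul_eq G U T
  intro x hx
  rw [Sylow.coe_subgroup_smul, mem_pointwise_smul_iff_inv_smul_mem] at hx
  have h3 := ‹C.Normal›.conj_mem _ (hUC hx) g
  simpa [mul_assoc] using h3

/-- The count divides the order of a normal subgroup containing an element of order 11. -/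
theorem count_dvd {C : Subgroup G} [C.Normal] (h : 11 ∣ Nat.card C) :
    Nat.card (Sylow 11 G) * 11 ∣ Nat.card C := by
  obtain ⟨S⟩ := (inferInstance : Nonempty (Sylow 11 G))
  have hSC := sylow_le_of_dvd hord h S
  set N : Subgroup G := normalizer ((S : Subgroup G) : Set G) with hN
  have hfr : N ⊔ C = ⊤ := Sylow.normalizer_sup_eq_top' S hSC
  have hidx : C.index = C.relIndex N := by
    rw [← relIndex_top_right, ← hfr, relIndex_sup_right]
  have h1 : Nat.card (C ⊓ N : Subgroup G) * C.index = Nat.card N := by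
    rw [hidx, ← inf_relIndex_right, relIndex, ← Nat.card_congr
      (subgroupOfEquivOfLe (inf_le_right : C ⊓ N ≤ N)).toEquiv]
    exact card_mul_index _
  have h2 : Nat.card N * Nat.card (Sylow 11 G) = 7920 := count_mul hord S
  have h3 := C.card_mul_index
  rw [hord] at h3
  have h4 : Nat.card C = Nat.card (C ⊓ N : Subgroup G) * Nat.card (Sylow 11 G) := by
    refine Nat.eq_of_mul_eq_mul_right (Nat.pos_of_ne_zero C.index_ne_zero_of_finite) ?_
    rw [h3, mul_right_comm, h1, h2]
  rw [h4, mul_comm]
  refine Nat.mul_dvd_mul_right ?_ _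
  exact (card_sylow hord S).symm.dvd.trans (card_dvd_of_le (le_inf hSC le_normalizer))

/-- A subgroup of order prime to 11 normalised inside `K` by an element of order 11 has order
dividing that of a normaliser of such an element. -/
theorem card_dvd_of_normalized {K L : Subgroup G} (hLK : L ≤ K)
    (hKL : K ≤ normalizer (L : Set G)) (hK : 11 ∣ Nat.card K) (hL : ¬ 11 ∣ Nat.card L) :
    Nat.card L * (11 * Nat.card (Sylow 11 G)) ∣ 7920 := by
  obtain ⟨S⟩ := (inferInstance : Nonempty (Sylow 11 G))
  have hL' : Nat.card L ∣ 7920 := hord ▸ L.card_subgroup_dvd_card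
  have h1 : Nat.card L ∣ Nat.card (normalizer ((S : Subgroup G) : Set G)) := by
    refine (Nat.dvd_iff_prime_pow_dvd_dvd _ _).2 fun p k hp hpk => ?_
    rcases Nat.eq_zero_or_pos k with rfl | hk
    · simp
    obtain ⟨z, -, P, hz, hzP, hPL, hP, hpP⟩ := exists_normalized hLK hKL hK hL hp hpk
    have hcomm : ∀ x ∈ P, Commute z x := by
      intro x hx
      have hPdvd : Nat.card P ∣ 7920 := hord ▸ P.card_subgroup_dvd_card
      have hp11 : p ≠ 11 := by
        rintro rfl
        exact hL ((dvd_pow_self 11 hk.ne').trans hpk)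
      have hP11 : ¬ 11 ∣ Nat.card P := fun h => hL (h.trans (card_dvd_of_le hPL))
      have : Fact p.Prime := ⟨hp⟩
      obtain ⟨j, hj⟩ := IsPGroup.iff_card.1 hP
      refine commute_of_normalize hz hzP (fun f hf hmod => ?_) hx
      have key : ∀ d ∈ Nat.divisors 7920, ¬ 11 ∣ d → d.primeFactors.card ≤ 1 →
          ∀ f ∈ Nat.divisors d, f % 11 = d % 11 → f = d := by decide +kernel
      refine key _ (Nat.mem_divisors.2 ⟨hPdvd, by norm_num⟩) hP11 ?_ f
        (Nat.mem_divisors.2 ⟨hf, Nat.card_pos.ne'⟩) hmod
      rw [hj]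
      rcases Nat.eq_zero_or_pos j with rfl | hj'
      · simp
      · rw [Nat.primeFactors_prime_pow hj'.ne' hp]; simp
    have hPN : P ≤ normalizer (zpowers z : Set G) := by
      refine le_trans (fun x hx => ?_) (centralizer_le_normalizer' _)
      rintro _ ⟨i, rfl⟩
      exact ((hcomm x hx).zpow_left i).eq
    refine (hpP.trans (card_dvd_of_le hPN)).trans (dvd_of_eq ?_)
    exact Nat.eq_of_mul_eq_mul_right Nat.card_pos
      ((card_normalizer_eq hord hz).trans (count_mul hord S).symm)
  have h2 : 11 ∣ Nat.card (normalizer ((S : Subgroup G) : Set G)) := by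
    exact (card_sylow hord S).symm.dvd.trans (card_dvd_of_le le_normalizer)
  have h3 : Nat.card L * 11 ∣ Nat.card (normalizer ((S : Subgroup G) : Set G)) :=
    Nat.Coprime.mul_dvd_of_dvd_of_dvd
      (((Fact.out : Nat.Prime 11).coprime_iff_not_dvd.2 hL).symm) h1 h2
  rw [← mul_assoc, ← count_mul hord S]
  exact Nat.mul_dvd_mul_right h3 _

/-- When there are 45 or 144 Sylow subgroups, such a subgroup is centralised. -/
theorem commute_of_normalized {K L : Subgroup G} (hLK : L ≤ K)
    (hKL : K ≤ normalizer (L : Set G)) (hK : 11 ∣ Nat.card K) (hL : ¬ 11 ∣ Nat.card L)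
    (hn : Nat.card (Sylow 11 G) = 45 ∨ Nat.card (Sylow 11 G) = 144) {z : G} (hzK : z ∈ K)
    (hz : orderOf z = 11) {x : G} (hx : x ∈ L) : Commute z x := by
  refine commute_of_normalize hz (hKL hzK) (fun f hf hmod => ?_) hx
  have h := card_dvd_of_normalized hord hLK hKL hK hL
  have key : ∀ d ∈ Nat.divisors 7920, (d * (11 * 45) ∣ 7920 ∨ d * (11 * 144) ∣ 7920) →
      ∀ f ∈ Nat.divisors d, f % 11 = d % 11 → f = d := by decide +kernel
  refine key _ (Nat.mem_divisors.2 ⟨(dvd_mul_right _ _).trans h, by norm_num⟩) ?_ f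
    (Nat.mem_divisors.2 ⟨hf, Nat.card_pos.ne'⟩) hmod
  rcases hn with h' | h' <;> rw [h'] at h
  · exact Or.inl h
  · exact Or.inr h

/-- One or twelve Sylow 11-subgroups connect the prime graph. -/
theorem adj_of_small (hn : Nat.card (Sylow 11 G) = 1 ∨ Nat.card (Sylow 11 G) = 12) :
    Adj G 2 11 ∧ Adj G 3 11 ∧ (Adj G 5 11 ∨ Adj G 3 5) := by
  obtain ⟨S⟩ := (inferInstance : Nonempty (Sylow 11 G))
  have hS := card_sylow hord S
  set N : Subgroup G := normalizer ((S : Subgroup G) : Set G) with hN
  set C : Subgroup G := centralizer ((S : Subgroup G) : Set G) with hC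
  have hCN : C ≤ N := centralizer_le_normalizer' _
  let f : N →* MulAut (S : Subgroup G) := (S : Subgroup G).normalizerMonoidHom
  have hker : f.ker = C.subgroupOf N := (S : Subgroup G).normalizerMonoidHom_ker
  have haut : Nat.card (MulAut (S : Subgroup G)) = 10 := by
    have : IsCyclic (S : Subgroup G) := isCyclic_of_prime_card hS
    rw [IsCyclic.card_mulAut, hS]; decide
  have h10 : f.ker.index ∣ 10 := by
    rw [index_ker, ← haut]; exact card_subgroup_dvd_card _
  have hcard : Nat.card C * f.ker.index = Nat.card N := by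
    rw [← Nat.card_congr (subgroupOfEquivOfLe hCN).toEquiv, ← hker, card_mul_index]
  have hdiv : Nat.card N ∣ Nat.card C * 10 := hcard ▸ Nat.mul_dvd_mul_left _ h10
  have hcm := count_mul hord S
  rw [← hN] at hcm
  have hN' : Nat.card N = 7920 ∨ Nat.card N = 660 := by
    rcases hn with h | h <;> rw [h] at hcm <;> omega
  have h66 : 66 ∣ Nat.card C := by
    rcases hN' with h | h <;> rw [h] at hdiv <;> omega
  have hSC : (S : Subgroup G) ≤ centralizer (C : Set G) := fun a ha b hb => (hb a ha).symm
  have h2 : Adj G 2 11 := adj_of_centralize hSC Nat.prime_two h11.out (by norm_num)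
    ((by norm_num : 2 ∣ 66).trans h66) hS.symm.dvd
  have h3 : Adj G 3 11 := adj_of_centralize hSC Nat.prime_three h11.out (by norm_num)
    ((by norm_num : 3 ∣ 66).trans h66) hS.symm.dvd
  refine ⟨h2, h3, ?_⟩
  by_cases h5 : 5 ∣ Nat.card C
  · exact Or.inl (adj_of_centralize hSC (by norm_num) h11.out (by norm_num) h5 hS.symm.dvd)
  · refine Or.inr ?_
    have : Fact (Nat.Prime 5) := ⟨by norm_num⟩
    have : Fact (Nat.Prime 3) := ⟨Nat.prime_three⟩
    have hNC : N ≤ normalizer (C : Set G) := by
      intro g hg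
      rw [hN] at hg
      have : (C.subgroupOf N).Normal := hker ▸ inferInstance
      exact (normal_subgroupOf_iff_le_normalizer hCN).1 this (hN ▸ hg)
    obtain ⟨z, -, P, hz, hzP, -, hP, h3P⟩ := exists_normalized hCN hNC
      (by rcases hN' with h | h <;> rw [h] <;> norm_num : 5 ∣ Nat.card N) h5 Nat.prime_three
      (k := 1) (by simpa using (by norm_num : 3 ∣ 66).trans h66)
    obtain ⟨x, hx⟩ := exists_prime_orderOf_dvd_card' 3 (by simpa using h3P)
    obtain ⟨j, hj⟩ := IsPGroup.iff_card.1 hP
    have hj2 : j ≤ 2 := by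
      have h : 3 ^ j ∣ 7920 := hj ▸ hord ▸ P.card_subgroup_dvd_card
      by_contra hlt
      have : 27 ∣ 7920 := (pow_dvd_pow 3 (show 3 ≤ j by omega)).trans h
      norm_num at this
    have hxz : Commute z (x : G) := by
      refine commute_of_normalize hz hzP (fun f hf hmod => ?_) x.2
      rw [hj] at hf hmod ⊢
      have key : ∀ j < 3, ∀ f ∈ Nat.divisors (3 ^ j), f % 5 = 3 ^ j % 5 → f = 3 ^ j := by
        decide +kernel
      exact key j (by omega) f (Nat.mem_divisors.2 ⟨hf, by positivity⟩) hmod
    exact adj_of_commute (by rw [Subgroup.orderOf_coe, hx]) hz Nat.prime_three (by norm_num)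
      (by norm_num) hxz.symm

omit hord in
/-- None of the orders that occur is that of a simple group. -/
theorem not_simple {H : Type*} [Group H] [Finite H] [IsSimpleGroup H] (hH : ¬ IsMulCommutative H)
    (h : Nat.card H ∈ [495, 990, 1584, 1980, 3960]) : False := by
  simp only [List.mem_cons, List.not_mem_nil, or_false] at h
  rcases h with h | h | h | h | h
  · exact ClassK.RowSieve.false_of_rowPossible (p := 11) (B := 23) hH h (by norm_num) (by norm_num)
      (by norm_num) (by decide +kernel)
  · have h2 := ClassK.not_orderCovered hH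
    rw [h] at h2
    have h3 : ClassK.orderCovered 990 = true := by decide +kernel
    rw [h3] at h2
    exact Bool.noConfusion h2
  · exact ClassK.RowSieve.false_of_rowPossible (p := 11) (B := 40) hH h (by norm_num) (by norm_num)
      (by norm_num) (by decide +kernel)
  · exact ClassK.RowSieve.false_of_rowPossible (p := 11) (B := 45) hH h (by norm_num) (by norm_num)
      (by norm_num) (by decide +kernel)
  · exact ClassK.RowSieve.false_of_rowPossible (p := 11) (B := 63) hH h (by norm_num) (by norm_num)
      (by norm_num) (by decide +kernel)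

/-- Without the small counts, a proper nontrivial normal subgroup connects the prime graph. -/
theorem adj_of_normal (hn : Nat.card (Sylow 11 G) = 45 ∨ Nat.card (Sylow 11 G) = 144)
    {H : Subgroup G} [H.Normal] (hbot : H ≠ ⊥) (htop : H ≠ ⊤)
    (hmin : ∀ M : Subgroup G, M.Normal → M ≤ H → M ≠ ⊥ → M = H) :
    (Adj G 2 3 ∧ Adj G 2 5 ∧ Adj G 2 11) ∨ (Adj G 5 2 ∧ Adj G 5 3 ∧ Adj G 5 11) := by
  have hHtop : (⊤ : Subgroup G) ≤ normalizer (H : Set G) := (normalizer_eq_top H).ge
  by_cases h : 11 ∣ Nat.card H
  · exfalso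
    have hdv := count_dvd hord h
    have hHn : Nat.card H ∈ [495, 990, 1584, 1980, 3960] := by
      have hlt : Nat.card H ≠ 7920 := fun e => htop (eq_top_of_card_eq H (e.trans hord.symm))
      have hH : Nat.card H ∣ 7920 := hord ▸ H.card_subgroup_dvd_card
      have key : ∀ d ∈ Nat.divisors 7920, (45 * 11 ∣ d ∨ 144 * 11 ∣ d) → d ≠ 7920 →
          d ∈ [495, 990, 1584, 1980, 3960] := by decide +kernel
      refine key _ (Nat.mem_divisors.2 ⟨hH, by norm_num⟩) ?_ hlt
      rcases hn with h' | h' <;> rw [h'] at hdv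
      · exact Or.inl hdv
      · exact Or.inr hdv
    obtain ⟨S⟩ := (inferInstance : Nonempty (Sylow 11 G))
    have hSH := sylow_le_of_dvd hord h S
    -- the subgroup generated by the Sylow subgroups is `H`
    have hgen : (⨆ T : Sylow 11 G, (T : Subgroup G)) = H := by
      have hnorm : (⨆ T : Sylow 11 G, (T : Subgroup G)).Normal := by
        refine ⟨fun x hx g => ?_⟩
        have hx' : g * x * g⁻¹ ∈
            (⨆ T : Sylow 11 G, (T : Subgroup G)).map (MulAut.conj g).toMonoidHom := ⟨x, hx, rfl⟩
        rw [Subgroup.map_iSup] at hx'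
        exact (iSup_le fun T => le_iSup (fun U : Sylow 11 G => (U : Subgroup G)) (g • T)) hx'
      refine hmin _ hnorm (iSup_le fun T => sylow_le_of_dvd hord h T) fun e => ?_
      have h1 : Nat.card S = 1 := Subgroup.card_eq_one.2 (le_bot_iff.1 (e ▸ le_iSup
        (fun U : Sylow 11 G => (U : Subgroup G)) S))
      rw [card_sylow hord S] at h1
      omega
    have hnc : ¬ IsMulCommutative H := by
      intro hc
      have hle : H ≤ normalizer ((S : Subgroup G) : Set G) := by
        refine le_trans ?_ (centralizer_le_normalizer' _)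
        intro a ha b hb
        exact congrArg Subtype.val (hc.is_comm.comm (⟨b, hSH hb⟩ : H) ⟨a, ha⟩)
      have h1 := card_dvd_of_le hle
      have h2 : Nat.card (normalizer ((S : Subgroup G) : Set G)) = 176 ∨
          Nat.card (normalizer ((S : Subgroup G) : Set G)) = 55 := by
        have := count_mul hord S
        rcases hn with h' | h' <;> rw [h'] at this <;> omega
      have h3 := Nat.le_of_dvd Nat.card_pos h1
      simp only [List.mem_cons, List.not_mem_nil, or_false] at hHn
      omega
    have : Nontrivial H := (nontrivial_iff_ne_bot H).2 hbot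
    have : IsSimpleGroup H := by
      refine ⟨fun L hL => ?_⟩
      set L' : Subgroup G := L.map H.subtype with hL'
      have hL'H : L' ≤ H := map_subtype_le L
      have hHL : H ≤ normalizer (L' : Set G) := by
        refine (normal_subgroupOf_iff_le_normalizer hL'H).1 ?_
        rwa [hL', subgroupOf, comap_map_eq_self_of_injective H.subtype_injective]
      by_cases hL11 : 11 ∣ Nat.card L'
      · refine Or.inr ?_
        obtain ⟨c, hc⟩ := exists_prime_orderOf_dvd_card' 11 hL11
        rw [← Subgroup.orderOf_coe] at hc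
        obtain ⟨U, hU⟩ := exists_conj hord hc
        have hUL : (U : Subgroup G) ≤ L' := by rw [hU, zpowers_le]; exact c.2
        have hall : ∀ T : Sylow 11 G, (T : Subgroup G) ≤ L' := by
          intro T
          obtain ⟨g, hg⟩ := MulAction.exists_smul_eq H (U.subtype (hUL.trans hL'H))
            (T.subtype (sylow_le_of_dvd hord h T))
          intro x hx
          have hxH : x ∈ H := sylow_le_of_dvd hord h T hx
          have h4 : (⟨x, hxH⟩ : H) ∈ ((T.subtype (sylow_le_of_dvd hord h T) : Sylow 11 H) : Subgroup H) := by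
            simpa [mem_subgroupOf] using hx
          rw [← hg, Sylow.coe_subgroup_smul, mem_pointwise_smul_iff_inv_smul_mem] at h4
          have h5 : ((g : G))⁻¹ * x * g ∈ L' := hUL (by simpa [mem_subgroupOf] using h4)
          have h6 := (mem_normalizer_iff.1 (hHL g.2) _).1 h5
          simpa [mul_assoc] using h6
        have hle : H ≤ L' := hgen ▸ iSup_le hall
        exact map_injective H.subtype_injective
          (by rw [← hL', le_antisymm hL'H hle, ← MonoidHom.range_eq_map, range_subtype])
      · refine Or.inl ?_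
        have hLc : L' ≤ H ⊓ centralizer (H : Set G) := by
          refine le_inf hL'H fun x hx => ?_
          have hle : H ≤ centralizer ({x} : Set G) := by
            rw [← hgen]
            refine iSup_le fun T => ?_
            intro a ha
            rw [mem_centralizer_singleton_iff]
            rcases eq_or_ne a 1 with rfl | ha1
            · simp
            have ho : orderOf a = 11 := by
              refine orderOf_eq_prime ?_ ha1
              have := pow_card_eq_one' (x := (⟨a, ha⟩ : (T : Subgroup G)))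
              rw [card_sylow hord T] at this
              exact congrArg Subtype.val this
            exact (commute_of_normalized hord hL'H hHL h hL11 hn
              (sylow_le_of_dvd hord h T ha) ho hx).eq
          exact fun a ha => mem_centralizer_singleton_iff.1 (hle ha)
        by_contra hne
        have : (H ⊓ centralizer (H : Set G)).Normal := inferInstance
        have heq := hmin _ this inf_le_left fun e => hne <| by
          rw [e, le_bot_iff] at hLc
          exact (map_eq_bot_iff_of_injective L H.subtype_injective).1 hLc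
        have hHC : H ≤ centralizer (H : Set G) := heq.ge.trans inf_le_right
        exact hnc ⟨⟨fun a b => Subtype.ext (hHC b.2 a a.2)⟩⟩
    exact not_simple hnc hHn
  · have hdv := card_dvd_of_normalized hord (le_top : H ≤ ⊤) hHtop
      (by rw [card_top, hord]; norm_num) h
    obtain ⟨S⟩ := (inferInstance : Nonempty (Sylow 11 G))
    set C : Subgroup G := centralizer (H : Set G) with hC
    have hC11 : 11 ∣ Nat.card C := by
      obtain ⟨z, hz⟩ := exists_prime_orderOf_dvd_card' (G := G) 11 (by rw [hord]; norm_num)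
      have hzC : z ∈ C := fun x hx => (commute_of_normalized hord (le_top : H ≤ ⊤) hHtop
        (by rw [card_top, hord]; norm_num) h hn (mem_top z) hz hx).eq.symm
      rw [← hz]
      exact orderOf_dvd_natCard C hzC
    have hnC := count_dvd hord hC11
    have hH1 : Nat.card H ≠ 1 := fun e => hbot (card_eq_one.1 e)
    have adj : ∀ p q : ℕ, p.Prime → q.Prime → p ≠ q → p ∣ Nat.card H → q ∣ Nat.card C →
        Adj G p q := fun p q hp hq hpq => adj_of_centralize le_rfl hp hq hpq
    have hH : Nat.card H ∣ 7920 := hord ▸ H.card_subgroup_dvd_card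
    rcases hn with h' | h' <;> rw [h'] at hdv hnC
    · have key : ∀ d ∈ Nat.divisors 7920, d * (11 * 45) ∣ 7920 → d ≠ 1 → 2 ∣ d := by
        decide +kernel
      have h2 := key _ (Nat.mem_divisors.2 ⟨hH, by norm_num⟩) hdv hH1
      exact Or.inl ⟨adj 2 3 Nat.prime_two Nat.prime_three (by norm_num) h2
          ((by norm_num : 3 ∣ 45 * 11).trans hnC),
        adj 2 5 Nat.prime_two (by norm_num) (by norm_num) h2
          ((by norm_num : 5 ∣ 45 * 11).trans hnC),
        adj 2 11 Nat.prime_two h11.out (by norm_num) h2 hC11⟩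
    · have key : ∀ d ∈ Nat.divisors 7920, d * (11 * 144) ∣ 7920 → d ≠ 1 → 5 ∣ d := by
        decide +kernel
      have h5 := key _ (Nat.mem_divisors.2 ⟨hH, by norm_num⟩) hdv hH1
      exact Or.inr ⟨adj 5 2 (by norm_num) Nat.prime_two (by norm_num) h5
          ((by norm_num : 2 ∣ 144 * 11).trans hnC),
        adj 5 3 (by norm_num) Nat.prime_three (by norm_num) h5
          ((by norm_num : 3 ∣ 144 * 11).trans hnC),
        adj 5 11 (by norm_num) h11.out (by norm_num) h5 hC11⟩

/-- A group of order 7920 with disconnected prime graph is simple. -/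
theorem isSimpleGroup
    (hdisc : (∃ A : Set ℕ, (∃ a ∈ A, a.Prime ∧ a ∣ Nat.card G) ∧
      (∃ b ∉ A, b.Prime ∧ b ∣ Nat.card G) ∧
      ∀ a ∈ A, ∀ b ∉ A, a.Prime → b.Prime → a ∣ Nat.card G → b ∣ Nat.card G →
        ¬ ∃ g : G, orderOf g = a * b)) :
    IsSimpleGroup G := by
  classical
  obtain ⟨A, ⟨a, haA, ha, haG⟩, ⟨b, hbA, hb, hbG⟩, hno⟩ := hdisc
  have hsame : ∀ {p q : ℕ}, p ∈ [2, 3, 5, 11] → q ∈ [2, 3, 5, 11] → Adj G p q →
      (p ∈ A ↔ q ∈ A) := by
    intro p q hp hq hadj
    have key : ∀ r ∈ [2, 3, 5, 11], Nat.Prime r ∧ r ∣ Nat.card G := by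
      intro r hr
      simp only [List.mem_cons, List.not_mem_nil, or_false] at hr
      rcases hr with rfl | rfl | rfl | rfl <;> exact ⟨by norm_num, by rw [hord]; norm_num⟩
    by_cases hp' : p ∈ A <;> by_cases hq' : q ∈ A
    · simp [hp', hq']
    · exact absurd hadj (hno p hp' q hq' (key p hp).1 (key q hq).1 (key p hp).2 (key q hq).2)
    · exact absurd hadj.symm (hno q hq' p hp' (key q hq).1 (key p hp).1 (key q hq).2 (key p hp).2)
    · simp [hp', hq']
  have hdiv : ∀ r : ℕ, r.Prime → r ∣ Nat.card G → r ∈ [2, 3, 5, 11] := by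
    intro r hr hrG
    rw [hord, show (7920 : ℕ) = 2 ^ 4 * 3 ^ 2 * 5 * 11 by norm_num] at hrG
    simp only [List.mem_cons, List.not_mem_nil, or_false]
    rcases hr.dvd_mul.1 hrG with h | h
    · rcases hr.dvd_mul.1 h with h | h
      · rcases hr.dvd_mul.1 h with h | h
        · exact Or.inl ((Nat.prime_dvd_prime_iff_eq hr Nat.prime_two).1 (hr.dvd_of_dvd_pow h))
        · exact Or.inr (Or.inl
            ((Nat.prime_dvd_prime_iff_eq hr Nat.prime_three).1 (hr.dvd_of_dvd_pow h)))
      · exact Or.inr (Or.inr (Or.inl ((Nat.prime_dvd_prime_iff_eq hr (by norm_num)).1 h)))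
    · exact Or.inr (Or.inr (Or.inr ((Nat.prime_dvd_prime_iff_eq hr (by norm_num)).1 h)))
  have hcon : ¬ ((2 ∈ A ↔ 11 ∈ A) ∧ (3 ∈ A ↔ 11 ∈ A) ∧ (5 ∈ A ↔ 11 ∈ A)) := by
    rintro ⟨h2, h3, h5⟩
    have hall : ∀ r ∈ [2, 3, 5, 11], (r ∈ A ↔ 11 ∈ A) := by
      intro r hr
      simp only [List.mem_cons, List.not_mem_nil, or_false] at hr
      rcases hr with rfl | rfl | rfl | rfl
      exacts [h2, h3, h5, Iff.rfl]
    exact hbA ((hall b (hdiv b hb hbG)).2 ((hall a (hdiv a ha haG)).1 haA))
  have : Nontrivial G := Finite.one_lt_card_iff_nontrivial.1 (by rw [hord]; norm_num)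
  refine ⟨fun H₀ hH₀ => ?_⟩
  by_contra hcontra
  rw [not_or] at hcontra
  obtain ⟨H, ⟨hHn, hbot, htop⟩, hmin⟩ :
      ∃ H, Minimal (fun M : Subgroup G => M.Normal ∧ M ≠ ⊥ ∧ M ≠ ⊤) H :=
    exists_minimal_of_wellFoundedLT (fun M : Subgroup G => M.Normal ∧ M ≠ ⊥ ∧ M ≠ ⊤)
      ⟨H₀, hH₀, hcontra.1, hcontra.2⟩
  have hm := count_mem hord
  simp only [List.mem_cons, List.not_mem_nil, or_false] at hm
  rcases hm with h | h | h | h
  iterate 2
    obtain ⟨h2, h3, h5⟩ := adj_of_small hord (by omega)
    refine hcon ⟨hsame (by simp) (by simp) h2, hsame (by simp) (by simp) h3, ?_⟩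
    rcases h5 with h5 | h5
    · exact hsame (by simp) (by simp) h5
    · exact (hsame (by simp) (by simp) h5).symm.trans (hsame (by simp) (by simp) h3)
  all_goals
    have hres := adj_of_normal hord (by omega) hbot htop fun M hM hle hne =>
      le_antisymm hle (hmin ⟨hM, hne, fun e => htop (top_le_iff.1 (e ▸ hle))⟩ hle)
    rcases hres with ⟨h1, h2, h3⟩ | ⟨h1, h2, h3⟩
    · have i1 := hsame (by simp) (by simp) h1
      have i2 := hsame (by simp) (by simp) h2
      have i3 := hsame (by simp) (by simp) h3
      exact hcon ⟨i3, i1.symm.trans i3, i2.symm.trans i3⟩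
    · have i1 := hsame (by simp) (by simp) h1
      have i2 := hsame (by simp) (by simp) h2
      have i3 := hsame (by simp) (by simp) h3
      exact hcon ⟨i1.symm.trans i3, i2.symm.trans i3, i3⟩

end CfsgLib.KnownB.Order7920
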