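import Cfsg.Agent.Lib.KnownB.AltOre
import Cfsg.Agent.Lib.Clifford.AltSchur

/-!
In a perfect double cover of an alternating group every element is a commutator.
-/

set_option autoImplicit false

namespace CfsgLib.KnownB.AltCoverOre

open Equiv Equiv.Perm CfsgLib.Clifford.AltSchur
open scoped commutatorElement

universe u

variable {n : ℕ}

/-- A double transposition. -/
def IsDT (p : Perm (Fin n)) : Prop := p * p = 1 ∧ p.support.card = 4

theorem isDT_swap {w x y v : Fin n} (h1 : w ≠ x) (h2 : w ≠ y) (h3 : w ≠ v) (h4 : x ≠ y)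
    (h5 : x ≠ v) (h6 : y ≠ v) : IsDT (swap w x * swap y v) := by
  have hd : Perm.Disjoint (swap w x) (swap y v) := fun t => by
    by_cases ht : t = w ∨ t = x
    · refine Or.inr (swap_apply_of_ne_of_ne ?_ ?_) <;> rcases ht with rfl | rfl <;> assumption
    · push Not at ht
      exact Or.inl (swap_apply_of_ne_of_ne ht.1 ht.2)
  refine ⟨?_, by rw [hd.card_support_mul, card_support_swap h1, card_support_swap h6]⟩
  calc swap w x * swap y v * (swap w x * swap y v)
      = swap w x * swap w x * (swap y v * swap y v) := by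
        rw [mul_assoc, ← mul_assoc (swap y v), ← hd.commute.eq, mul_assoc, ← mul_assoc (swap w x)]
    _ = 1 := by rw [swap_mul_self, swap_mul_self, one_mul]

theorem IsDT.sign_eq {p : Perm (Fin n)} (h : IsDT p) : sign p = 1 := by
  rw [AltOre.sign_of_sq h.1 (k := 2) h.2]; rfl

theorem IsDT.exists_conj {p q : Perm (Fin n)} (hp : IsDT p) (hq : IsDT q) :
    ∃ g : Perm (Fin n), sign g = 1 ∧ g * p * g⁻¹ = q := by
  obtain ⟨k, hk, -, hk2⟩ := AltOre.cycleType_of_sq hp.1
  obtain ⟨l, hl, -, hl2⟩ := AltOre.cycleType_of_sq hq.1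
  rw [hp.2] at hk2
  rw [hq.2] at hl2
  obtain ⟨g, hg⟩ := isConj_iff.1
    (isConj_iff_cycleType_eq.2 (show p.cycleType = q.cycleType by rw [hk, hl, show k = l by omega]))
  rcases Int.units_eq_one_or (sign g) with h | h
  · exact ⟨g, h, hg⟩
  · obtain ⟨x, hx⟩ : p.support.Nonempty := Finset.card_pos.1 (by rw [hp.2]; norm_num)
    have hx' : p x ≠ x := mem_support.1 hx
    refine ⟨g * swap x (p x), ?_, ?_⟩
    · rw [map_mul, h, sign_swap (Ne.symm hx')]; rfl
    · have hc : swap x (p x) * p * (swap x (p x))⁻¹ = p := by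
        rw [mul_inv_eq_iff_eq_mul, Equiv.mul_swap_eq_swap_mul, AltOre.apply_apply hp.1,
          Equiv.swap_comm]
      calc g * swap x (p x) * p * (g * swap x (p x))⁻¹
          = g * (swap x (p x) * p * (swap x (p x))⁻¹) * g⁻¹ := by group
        _ = q := by rw [hc, hg]

theorem c3_mul_c3 {a b i j : Fin n} (hab : a ≠ b) (hai : a ≠ i) (haj : a ≠ j) (hbi : b ≠ i)
    (hbj : b ≠ j) (hij : i ≠ j) : c3 a b i * c3 a b j = swap a i * swap b j := by
  refine Equiv.ext fun w => ?_
  rw [Perm.mul_apply, Perm.mul_apply]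
  by_cases w1 : w = a
  · subst w1
    rw [c3_fst hab haj, c3_snd hai hbi, swap_apply_of_ne_of_ne hab haj, swap_apply_left]
  by_cases w2 : w = b
  · subst w2
    rw [c3_snd haj hbj, c3_other haj.symm hbj.symm hij.symm, swap_apply_left,
      swap_apply_of_ne_of_ne haj.symm hij.symm]
  by_cases w3 : w = i
  · subst w3
    rw [c3_other hai.symm hbi.symm hij, c3_thd, swap_apply_of_ne_of_ne hbi.symm hij,
      swap_apply_right]
  by_cases w4 : w = j
  · subst w4
    rw [c3_thd, c3_fst hab hai, swap_apply_right, swap_apply_of_ne_of_ne hab.symm hbi]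
  rw [c3_other w1 w2 w4, c3_other w1 w2 w3, swap_apply_of_ne_of_ne w2 w4,
    swap_apply_of_ne_of_ne w1 w3]

/-- A perfect central extension of an alternating group by a group of order two. -/
structure Data (Γ : Type u) [Group Γ] (n : ℕ) where
  σ : Γ →* Perm (Fin n)
  z : Γ
  range_eq : σ.range = alternatingGroup (Fin n)
  z_ne : z ≠ 1
  σ_z : σ z = 1
  ker_cases : ∀ k, σ k = 1 → k = 1 ∨ k = z
  comm_z : ∀ g, g * z = z * g
  perfect : commutator Γ = ⊤

variable {Γ : Type u} [Group Γ] (d : Data Γ n)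

theorem z_sq : d.z * d.z = 1 := by
  rcases d.ker_cases (d.z * d.z) (by rw [map_mul, d.σ_z, one_mul]) with h | h
  · exact h
  · exact absurd (mul_eq_left.1 h) d.z_ne

theorem exists_lift {p : Perm (Fin n)} (hp : sign p = 1) : ∃ g, d.σ g = p := by
  have h : p ∈ d.σ.range := by rw [d.range_eq, mem_alternatingGroup]; exact hp
  exact h

theorem eq_or_of_σ {g h : Γ} (e : d.σ g = d.σ h) : g = h ∨ g = d.z * h := by
  rcases d.ker_cases (g * h⁻¹) (by rw [map_mul, map_inv, e, mul_inv_cancel]) with k | k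
  · exact Or.inl (mul_inv_eq_one.1 k)
  · exact Or.inr (mul_inv_eq_iff_eq_mul.1 k)

theorem exists_cube_lift {p : Perm (Fin n)} (hp : sign p = 1) (h3 : p ^ 3 = 1) :
    ∃ g, d.σ g = p ∧ g ^ 3 = 1 := by
  obtain ⟨g, hg⟩ := exists_lift d hp
  rcases d.ker_cases (g ^ 3) (by rw [map_pow, hg, h3]) with h | h
  · exact ⟨g, hg, h⟩
  · refine ⟨d.z * g, by rw [map_mul, d.σ_z, one_mul, hg], ?_⟩
    rw [(show Commute d.z g from (d.comm_z g).symm).mul_pow, h, pow_succ, pow_two, z_sq, one_mul,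
      z_sq]

theorem cube_lift_unique {g h : Γ} (e : d.σ g = d.σ h) (hg : g ^ 3 = 1) (hh : h ^ 3 = 1) :
    g = h := by
  rcases eq_or_of_σ d e with k | k
  · exact k
  · rw [k, (show Commute d.z h from (d.comm_z h).symm).mul_pow, hh, mul_one, pow_succ, pow_two,
      z_sq, one_mul] at hg
    exact absurd hg d.z_ne

theorem conj_z_mul (g h : Γ) : g * (d.z * h) * g⁻¹ = d.z * (g * h * g⁻¹) := by
  rw [← mul_assoc g, d.comm_z g]; group

/-- Lifts of double transpositions square to the central involution. -/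
theorem dt_lift_sq [Finite Γ] (hn : 5 ≤ n) {D : Γ} (hD : IsDT (d.σ D)) : D * D = d.z := by
  classical
  by_contra hne
  obtain ⟨m, rfl⟩ : ∃ m, n = m + 2 := ⟨n - 2, by omega⟩
  have hD1 : D * D = 1 := (d.ker_cases _ (by rw [map_mul, hD.1])).resolve_right hne
  have hall : ∀ E : Γ, IsDT (d.σ E) → E * E = 1 := by
    intro E hE
    obtain ⟨g, hg, hgc⟩ := hD.exists_conj hE
    obtain ⟨G, rfl⟩ := exists_lift d hg
    have hsq : G * D * G⁻¹ * (G * D * G⁻¹) = 1 := by
      calc G * D * G⁻¹ * (G * D * G⁻¹) = G * (D * D) * G⁻¹ := by group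
        _ = 1 := by rw [hD1, mul_one, mul_inv_cancel]
    rcases eq_or_of_σ d (g := E) (h := G * D * G⁻¹)
        (by rw [map_mul, map_mul, map_inv, hgc]) with k | k
    · rw [k, hsq]
    · rw [k, mul_assoc, ← mul_assoc _ d.z, d.comm_z (G * D * G⁻¹), mul_assoc, hsq, mul_one, z_sq]
  let a : Fin (m + 2) := ⟨0, by omega⟩
  let b : Fin (m + 2) := ⟨1, by omega⟩
  let ι : Fin m → Fin (m + 2) := fun i => ⟨i.1 + 2, by omega⟩
  have hab : a ≠ b := by simp [a, b]
  have hai : ∀ i, a ≠ ι i := fun i => by simp [a, ι, Fin.ext_iff]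
  have hbi : ∀ i, b ≠ ι i := fun i => by simp [b, ι, Fin.ext_iff]
  choose L hL hL3 using fun i => exists_cube_lift d
    (mem_alternatingGroup.1 (c3_mem hab (hbi i))) (c3_cube hab (hai i) (hbi i))
  have h2 : ∀ i j, i ≠ j → (L i * L j) * (L i * L j) = 1 := by
    intro i j hij
    have hne : ι i ≠ ι j := fun e => hij (Fin.ext (by simpa [ι, Fin.ext_iff] using e))
    refine hall _ ?_
    rw [map_mul, hL, hL, c3_mul_c3 hab (hai i) (hai j) (hbi i) (hbi j) hne]
    exact isDT_swap (hai i) hab (hai j) (hbi i).symm hne (hbi j)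
  have hK := carmichael_bound m L hL3 h2
  set K := Subgroup.closure (Set.range L) with hKdef
  have hmap : ∀ g : Γ, ∃ k ∈ K, g = k ∨ g = d.z * k := by
    intro g
    have hmem : d.σ g ∈ K.map d.σ := by
      refine three_cycle_mem_of_gens hab (fun i hia hib => ?_) (d.range_eq ▸ ⟨g, rfl⟩)
      have h2 : 2 ≤ i.1 := by
        by_contra h
        rcases (show i.1 = 0 ∨ i.1 = 1 by omega) with h' | h'
        · exact hia (Fin.ext h')
        · exact hib (Fin.ext h')
      have hlt : i.1 - 2 < m := by omega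
      refine ⟨L ⟨i.1 - 2, hlt⟩, Subgroup.subset_closure ⟨_, rfl⟩, ?_⟩
      rw [hL]
      congr 1
      exact Fin.ext (by simp [ι]; omega)
    obtain ⟨k, hk, e⟩ := hmem
    exact ⟨k, hk, eq_or_of_σ d e.symm⟩
  have hcomm : commutator Γ ≤ K := by
    rw [commutator_eq_closure, Subgroup.closure_le]
    rintro _ ⟨g, h, rfl⟩
    have key : ∀ g h : Γ, ⁅d.z * g, h⁆ = ⁅g, h⁆ ∧ ⁅g, d.z * h⁆ = ⁅g, h⁆ := fun g h => by
      simp only [commutatorElement_def, mul_inv_rev]
      have hz : ∀ x : Γ, d.z * x * d.z⁻¹ = x := fun x => by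
        rw [← d.comm_z, mul_inv_cancel_right]
      constructor
      · calc d.z * g * h * (g⁻¹ * d.z⁻¹) * h⁻¹ = d.z * (g * h * g⁻¹) * d.z⁻¹ * h⁻¹ := by group
          _ = _ := by rw [hz]
      · calc g * (d.z * h) * g⁻¹ * (h⁻¹ * d.z⁻¹) = d.z * (g * h * g⁻¹ * h⁻¹) * d.z⁻¹ := by
              rw [conj_z_mul]; group
          _ = _ := hz _
    obtain ⟨k, hk, hkg⟩ := hmap g
    obtain ⟨l, hl, hlh⟩ := hmap h
    have : ⁅g, h⁆ = ⁅k, l⁆ := by
      rcases hkg with rfl | rfl <;> rcases hlh with rfl | rfl <;>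
        simp only [(key _ _).1, (key _ _).2]
    rw [this, commutatorElement_def]
    exact mul_mem (mul_mem (mul_mem hk hl) (inv_mem hk)) (inv_mem hl)
  rw [d.perfect, top_le_iff] at hcomm
  rw [hcomm, Subgroup.card_top] at hK
  have hA : 2 * Nat.card (alternatingGroup (Fin (m + 2))) = (m + 2).factorial := by
    haveI : Nontrivial (Fin (m + 2)) := Fin.nontrivial_iff_two_le.mpr (by omega)
    rw [two_mul_nat_card_alternatingGroup, Nat.card_perm, Nat.card_fin]
  have hΓ : Nat.card Γ = Nat.card (alternatingGroup (Fin (m + 2))) * Nat.card d.σ.ker := by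
    rw [← d.range_eq, ← Subgroup.index_ker, mul_comm, Subgroup.card_mul_index]
  have hk : 2 ≤ Nat.card d.σ.ker := by
    rw [Nat.succ_le_iff, Finite.one_lt_card_iff_nontrivial]
    exact ⟨⟨⟨d.z, d.σ_z⟩, 1, fun e => d.z_ne (congrArg Subtype.val e)⟩⟩
  have hpos : 0 < Nat.card (alternatingGroup (Fin (m + 2))) := Nat.card_pos
  rw [hΓ] at hK
  nlinarith

/-- Lifts of Klein partners anticommute. -/
theorem klein_anticomm [Finite Γ] (hn : 5 ≤ n) {w x y v : Fin n} (h1 : w ≠ x) (h2 : w ≠ y)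
    (h3 : w ≠ v) (h4 : x ≠ y) (h5 : x ≠ v) (h6 : y ≠ v) {D U : Γ}
    (hD : d.σ D = swap w x * swap y v) (hU : d.σ U = swap w y * swap x v) :
    U * D * U⁻¹ = d.z * D := by
  have eD : D * D = d.z := dt_lift_sq d hn (hD ▸ isDT_swap h1 h2 h3 h4 h5 h6)
  have eU : U * U = d.z := dt_lift_sq d hn (hU ▸ isDT_swap h2 h1 h3 h4.symm h6 h5)
  have eP : d.σ (D * U) = swap w v * swap x y := by
    rw [map_mul, hD, hU]
    refine Equiv.ext fun t => ?_
    simp only [Perm.mul_apply]
    by_cases t1 : t = w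
    · subst t1
      rw [swap_apply_of_ne_of_ne h1 h3, swap_apply_left, swap_apply_left,
        swap_apply_of_ne_of_ne h1 h2, swap_apply_left, swap_apply_of_ne_of_ne h3.symm h5.symm]
    by_cases t2 : t = x
    · subst t2
      rw [swap_apply_left, swap_apply_of_ne_of_ne h3.symm h6.symm, swap_apply_right,
        swap_apply_of_ne_of_ne h2.symm h4.symm, swap_apply_left,
        swap_apply_of_ne_of_ne h2.symm h6]
    by_cases t3 : t = y
    · subst t3
      rw [swap_apply_of_ne_of_ne h4.symm h6, swap_apply_right, swap_apply_of_ne_of_ne h2 h3,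
        swap_apply_left, swap_apply_right, swap_apply_of_ne_of_ne h1.symm h5]
    by_cases t4 : t = v
    · subst t4
      rw [swap_apply_right, swap_apply_of_ne_of_ne h1.symm h4, swap_apply_of_ne_of_ne h4 h5,
        swap_apply_right, swap_apply_of_ne_of_ne h5.symm h6.symm, swap_apply_right]
    rw [swap_apply_of_ne_of_ne t2 t4, swap_apply_of_ne_of_ne t1 t3, swap_apply_of_ne_of_ne t3 t4,
      swap_apply_of_ne_of_ne t1 t2, swap_apply_of_ne_of_ne t2 t3, swap_apply_of_ne_of_ne t1 t4]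
  have eDU : D * U * (D * U) = d.z := dt_lift_sq d hn (eP ▸ isDT_swap h3 h1 h2 h5.symm h6.symm h4)
  have e : D * U * D = U := by
    calc D * U * D = D * U * (D * U) * U⁻¹ := by group
      _ = U * U * U⁻¹ := by rw [eDU, eU]
      _ = U := by group
  calc U * D * U⁻¹ = D * U * D * D * U⁻¹ := by rw [e]
    _ = D * U * (D * D) * U⁻¹ := by group
    _ = D * (U * (d.z * 1) * U⁻¹) := by rw [eD]; group
    _ = d.z * D := by rw [conj_z_mul, mul_one, mul_inv_cancel, mul_one, d.comm_z]

/-- Even permutations away from the moved points of `U` lift to elements commuting with `U`. -/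
theorem commute_of_fix {U R : Γ} (S : Finset (Fin n)) (hU : ∀ t ∉ S, d.σ U t = t)
    (hR : ∀ t ∈ S, d.σ R t = t) : U * R * U⁻¹ = R := by
  classical
  set W := (Subgroup.centralizer ({U} : Set Γ)).map d.σ with hW
  suffices h : d.σ R ∈ W by
    obtain ⟨h', hh, e⟩ := h
    have hh' : h' * U = U * h' := Subgroup.mem_centralizer_singleton_iff.mp hh
    have : U * h' * U⁻¹ = h' := by rw [← hh', mul_inv_cancel_right]
    rcases eq_or_of_σ d e.symm with k | k
    · rw [k, this]
    · rw [k, conj_z_mul, this]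
  let P : Fin n → Prop := fun w => w ∉ S
  set q := d.σ R with hq
  have hqA : q ∈ alternatingGroup (Fin n) := d.range_eq ▸ ⟨R, rfl⟩
  have hq2 : ∀ w, P (q w) ↔ P w := by
    intro w
    refine not_iff_not.mpr ⟨fun h => ?_, fun h => (hR w h).symm ▸ h⟩
    rwa [q.injective (hR (q w) h)] at h
  have hsup : ∀ w, q w ≠ w → P w := fun w hw hmem => hw (hR w hmem)
  have e : ofSubtype (q.subtypePerm hq2) = q := ofSubtype_subtypePerm hq2 hsup
  have hmem : q.subtypePerm hq2 ∈ alternatingGroup {w // P w} := by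
    rw [mem_alternatingGroup, ← sign_ofSubtype, e]; exact hqA
  rw [← closure_three_cycles_eq_alternating] at hmem
  rw [← e]
  suffices Subgroup.closure {r : Perm {w // P w} | r.IsThreeCycle} ≤ W.comap ofSubtype from
    this hmem
  rw [Subgroup.closure_le]
  intro r hr
  have hr' : (ofSubtype r).IsThreeCycle := by
    rw [IsThreeCycle, cycleType_ofSubtype]; exact hr
  obtain ⟨Y, hY, hY3⟩ := exists_cube_lift d hr'.sign (hr'.orderOf ▸ pow_orderOf_eq_one _)
  refine ⟨Y, ?_, hY⟩
  have hdis : Commute (d.σ U) (d.σ Y) := by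
    refine Perm.Disjoint.commute fun t => ?_
    by_cases ht : t ∈ S
    · exact Or.inr (hY ▸ ofSubtype_apply_of_not_mem r fun h => h ht)
    · exact Or.inl (hU t ht)
  have hUY : U * Y * U⁻¹ = Y := by
    refine cube_lift_unique d ?_ (by rw [conj_pow, hY3, mul_one, mul_inv_cancel]) hY3
    rw [map_mul, map_mul, map_inv, hdis.eq, mul_inv_cancel_right]
  rw [SetLike.mem_coe, Subgroup.mem_centralizer_singleton_iff]
  exact (mul_inv_eq_iff_eq_mul.1 hUY).symm

/-- A lift of a permutation with two transpositions among its cycles is conjugate to its other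
lift. -/
theorem fused [Finite Γ] (hn : 5 ≤ n) {A : Γ} (hA : AltOre.HasDT (d.σ A)) :
    ∃ U, U * A * U⁻¹ = d.z * A := by
  classical
  obtain ⟨w, y, h1, h2, h3, h4, h5, h6⟩ := hA
  set a := d.σ A with ha
  have hwy' : w ≠ a y := fun e => h6 (by rw [e, h4])
  have hxv : a w ≠ a y := fun e => h5 (a.injective e).symm
  have hD := isDT_swap (Ne.symm h1) (Ne.symm h5) hwy' (Ne.symm h6) hxv (Ne.symm h3)
  have hU := isDT_swap (Ne.symm h5) (Ne.symm h1) hwy' h6 (Ne.symm h3) hxv
  obtain ⟨D, eD⟩ := exists_lift d hD.sign_eq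
  obtain ⟨U, eU⟩ := exists_lift d hU.sign_eq
  have hk := klein_anticomm d hn (Ne.symm h1) (Ne.symm h5) hwy' (Ne.symm h6) hxv (Ne.symm h3) eD eU
  let S : Finset (Fin n) := {w, a w, y, a y}
  have hfix : U * (D * A) * U⁻¹ = D * A := by
    refine commute_of_fix d S (fun t ht => ?_) (fun t ht => ?_)
    · simp only [S, Finset.mem_insert, Finset.mem_singleton, not_or] at ht
      rw [eU, Perm.mul_apply, swap_apply_of_ne_of_ne ht.2.1 ht.2.2.2,
        swap_apply_of_ne_of_ne ht.1 ht.2.2.1]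
    · simp only [S, Finset.mem_insert, Finset.mem_singleton] at ht
      rw [map_mul, eD, ← ha]
      rcases ht with rfl | rfl | rfl | rfl
      · rw [Perm.mul_apply, Perm.mul_apply, swap_apply_of_ne_of_ne (Ne.symm h6) hxv,
          swap_apply_right]
      · rw [Perm.mul_apply, Perm.mul_apply, h2, swap_apply_of_ne_of_ne (Ne.symm h5) hwy',
          swap_apply_left]
      · rw [Perm.mul_apply, Perm.mul_apply, swap_apply_right, swap_apply_of_ne_of_ne h5 h6]
      · rw [Perm.mul_apply, Perm.mul_apply, h4, swap_apply_left,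
          swap_apply_of_ne_of_ne hwy'.symm hxv.symm]
  refine ⟨U, ?_⟩
  calc U * A * U⁻¹ = (U * D * U⁻¹)⁻¹ * (U * (D * A) * U⁻¹) := by group
    _ = D⁻¹ * d.z⁻¹ * (D * A) := by rw [hk, hfix]; group
    _ = d.z⁻¹ * A := by
        rw [(show Commute D d.z from d.comm_z D).inv_left.inv_right.eq]; group
    _ = d.z * A := by rw [inv_eq_of_mul_eq_one_right (z_sq d)]

include d in
theorem exists_commutator [Finite Γ] (hn : 5 ≤ n) (g : Γ) :
    ∃ x y : Γ, x * y * x⁻¹ * y⁻¹ = g := by
  have hg : sign (d.σ g) = 1 :=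
    mem_alternatingGroup.1 (d.range_eq ▸ ⟨g, rfl⟩ : d.σ g ∈ alternatingGroup (Fin n))
  obtain ⟨a, b, ha, hb, hab, hdt⟩ := AltOre.good_of_even_perm hn _ hg
  obtain ⟨A, rfl⟩ := exists_lift d ha
  obtain ⟨B, rfl⟩ := exists_lift d hb
  rcases eq_or_of_σ d (g := B * A * B⁻¹ * A⁻¹) (h := g)
      (by rw [map_mul, map_inv, map_mul, map_inv, map_mul, hab, mul_inv_cancel_right]) with k | k
  · exact ⟨B, A, k⟩
  · obtain ⟨U, hU⟩ := fused d hn hdt
    refine ⟨B * U, A, ?_⟩
    calc B * U * A * (B * U)⁻¹ * A⁻¹ = B * (U * A * U⁻¹) * B⁻¹ * A⁻¹ := by group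
      _ = d.z * (B * A * B⁻¹ * A⁻¹) := by rw [hU, conj_z_mul]; group
      _ = g := by rw [k, ← mul_assoc, z_sq, one_mul]

theorem of_quotient {G : Type u} [Group G] [Finite G] (hperf : commutator G = ⊤) (hn : 5 ≤ n)
    (hZ : Nat.card (Subgroup.center G) = 2) (e : G ⧸ Subgroup.center G ≃* alternatingGroup (Fin n))
    (g : G) : ∃ a b : G, a * b * a⁻¹ * b⁻¹ = g := by
  haveI : Nontrivial (Subgroup.center G) := Finite.one_lt_card_iff_nontrivial.1 (by omega)
  obtain ⟨⟨z, hz⟩, hz1⟩ := exists_ne (1 : Subgroup.center G)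
  have hz1' : z ≠ 1 := fun h => hz1 (Subtype.ext h)
  let σ : G →* Perm (Fin n) :=
    (alternatingGroup (Fin n)).subtype.comp (e.toMonoidHom.comp (QuotientGroup.mk' _))
  have hker : ∀ k, σ k = 1 ↔ k ∈ Subgroup.center G := fun k => by
    rw [← QuotientGroup.eq_one_iff (N := Subgroup.center G)]
    simp only [σ, MonoidHom.coe_comp, Function.comp_apply, Subgroup.coe_subtype,
      OneMemClass.coe_eq_one, MulEquiv.coe_toMonoidHom, EmbeddingLike.map_eq_one_iff,
      QuotientGroup.mk'_apply]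
  refine exists_commutator ⟨σ, z, ?_, hz1', (hker z).2 hz, fun k hk => ?_, fun g => ?_, hperf⟩ hn g
  · refine le_antisymm ?_ ?_
    · rintro _ ⟨x, rfl⟩
      exact (e _).2
    · intro p hp
      obtain ⟨x, hx⟩ := QuotientGroup.mk'_surjective (Subgroup.center G) (e.symm ⟨p, hp⟩)
      exact ⟨x, show (e (QuotientGroup.mk' _ x) : Perm (Fin n)) = p by rw [hx, e.apply_symm_apply]⟩
  · by_contra h
    push Not at h
    obtain ⟨a, b, hab, hall⟩ := Nat.card_eq_two_iff.1 hZ
    have hm : ∀ c : Subgroup.center G, c = a ∨ c = b := fun c => by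
      simpa using (Set.eq_univ_iff_forall.1 hall c)
    rcases hm 1 with e1 | e1 <;> rcases hm ⟨z, hz⟩ with e2 | e2 <;>
      rcases hm ⟨k, (hker k).1 hk⟩ with e3 | e3 <;>
        first
        | exact h.1 (congrArg Subtype.val (e3.trans e1.symm))
        | exact h.2 (congrArg Subtype.val (e3.trans e2.symm))
        | exact hz1 (e2.trans e1.symm)
  · exact Subgroup.mem_center_iff.1 hz g

end CfsgLib.KnownB.AltCoverOre
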