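import Cfsg.Agent.Lib.KnownB.AltOreBlock

/-!
Every even permutation of at least five points is `b a b⁻¹ a⁻¹` with `a, b` even and `a` having two
cycles of length two.
-/

set_option autoImplicit false

namespace CfsgLib.KnownB.AltOre

open Equiv Equiv.Perm

/-! ### The eight exceptional cycle types -/

theorem good_7 : Good (α := Fin 7) (blockPerm [7]) :=
  ⟨(⟨(![3, 5, 4, 6, 2, 1, 0] : Fin 7 → Fin 7), (![6, 5, 4, 0, 2, 1, 3] : Fin 7 → Fin 7), by decide, by decide⟩ : Perm (Fin 7)),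
    (⟨(![0, 6, 2, 4, 5, 1, 3] : Fin 7 → Fin 7), (![0, 5, 2, 6, 3, 4, 1] : Fin 7 → Fin 7), by decide, by decide⟩ : Perm (Fin 7)),
    by decide +kernel, by decide +kernel, by decide +kernel,
    (1 : Fin 7), (2 : Fin 7), by decide +kernel⟩

theorem good_1_7 : Good (α := Fin 8) (blockPerm [1, 7]) :=
  ⟨(⟨(![2, 7, 0, 1, 6, 5, 4, 3] : Fin 8 → Fin 8), (![2, 3, 0, 7, 6, 5, 4, 1] : Fin 8 → Fin 8), by decide, by decide⟩ : Perm (Fin 8)),
    (⟨(![7, 0, 4, 2, 5, 1, 6, 3] : Fin 8 → Fin 8), (![1, 5, 3, 7, 2, 4, 6, 0] : Fin 8 → Fin 8), by decide, by decide⟩ : Perm (Fin 8)),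
    by decide +kernel, by decide +kernel, by decide +kernel,
    (0 : Fin 8), (4 : Fin 8), by decide +kernel⟩

theorem good_3_5 : Good (α := Fin 8) (blockPerm [3, 5]) :=
  ⟨(⟨(![7, 6, 4, 2, 3, 5, 1, 0] : Fin 8 → Fin 8), (![7, 6, 3, 4, 2, 5, 1, 0] : Fin 8 → Fin 8), by decide, by decide⟩ : Perm (Fin 8)),
    (⟨(![3, 1, 2, 6, 5, 4, 7, 0] : Fin 8 → Fin 8), (![7, 1, 2, 0, 5, 4, 3, 6] : Fin 8 → Fin 8), by decide, by decide⟩ : Perm (Fin 8)),
    by decide +kernel, by decide +kernel, by decide +kernel,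
    (0 : Fin 8), (1 : Fin 8), by decide +kernel⟩

theorem good_2_6 : Good (α := Fin 8) (blockPerm [2, 6]) :=
  ⟨(⟨(![3, 7, 2, 0, 1, 6, 5, 4] : Fin 8 → Fin 8), (![3, 4, 2, 0, 7, 6, 5, 1] : Fin 8 → Fin 8), by decide, by decide⟩ : Perm (Fin 8)),
    (⟨(![4, 1, 6, 0, 3, 5, 7, 2] : Fin 8 → Fin 8), (![3, 1, 7, 4, 0, 5, 2, 6] : Fin 8 → Fin 8), by decide, by decide⟩ : Perm (Fin 8)),
    by decide +kernel, by decide +kernel, by decide +kernel,
    (0 : Fin 8), (5 : Fin 8), by decide +kernel⟩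

theorem good_1_3_5 : Good (α := Fin 9) (blockPerm [1, 3, 5]) :=
  ⟨(⟨(![4, 6, 5, 7, 0, 1, 8, 3, 2] : Fin 9 → Fin 9), (![4, 5, 8, 7, 0, 2, 1, 3, 6] : Fin 9 → Fin 9), by decide, by decide⟩ : Perm (Fin 9)),
    (⟨(![1, 0, 6, 3, 7, 4, 5, 8, 2] : Fin 9 → Fin 9), (![1, 0, 8, 3, 5, 6, 2, 4, 7] : Fin 9 → Fin 9), by decide, by decide⟩ : Perm (Fin 9)),
    by decide +kernel, by decide +kernel, by decide +kernel,
    (0 : Fin 9), (3 : Fin 9), by decide +kernel⟩

theorem good_1_2_6 : Good (α := Fin 9) (blockPerm [1, 2, 6]) :=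
  ⟨(⟨(![1, 0, 2, 3, 8, 7, 5, 6, 4] : Fin 9 → Fin 9), (![1, 0, 2, 3, 8, 6, 7, 5, 4] : Fin 9 → Fin 9), by decide, by decide⟩ : Perm (Fin 9)),
    (⟨(![4, 3, 6, 7, 5, 0, 1, 2, 8] : Fin 9 → Fin 9), (![5, 6, 7, 1, 0, 4, 2, 3, 8] : Fin 9 → Fin 9), by decide, by decide⟩ : Perm (Fin 9)),
    by decide +kernel, by decide +kernel, by decide +kernel,
    (0 : Fin 9), (4 : Fin 9), by decide +kernel⟩

theorem good_2_3_4 : Good (α := Fin 9) (blockPerm [2, 3, 4]) :=
  ⟨(⟨(![8, 6, 5, 4, 7, 2, 1, 0, 3] : Fin 9 → Fin 9), (![7, 6, 5, 8, 3, 2, 1, 4, 0] : Fin 9 → Fin 9), by decide, by decide⟩ : Perm (Fin 9)),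
    (⟨(![0, 7, 4, 3, 2, 8, 1, 6, 5] : Fin 9 → Fin 9), (![0, 6, 4, 3, 2, 8, 7, 1, 5] : Fin 9 → Fin 9), by decide, by decide⟩ : Perm (Fin 9)),
    by decide +kernel, by decide +kernel, by decide +kernel,
    (1 : Fin 9), (2 : Fin 9), by decide +kernel⟩

theorem good_1_2_3_4 : Good (α := Fin 10) (blockPerm [1, 2, 3, 4]) :=
  ⟨(⟨(![2, 3, 0, 9, 4, 1, 5, 8, 7, 6] : Fin 10 → Fin 10), (![2, 5, 0, 1, 4, 6, 9, 8, 7, 3] : Fin 10 → Fin 10), by decide, by decide⟩ : Perm (Fin 10)),
    (⟨(![3, 0, 6, 1, 8, 2, 5, 7, 9, 4] : Fin 10 → Fin 10), (![1, 3, 5, 0, 9, 6, 2, 7, 4, 8] : Fin 10 → Fin 10), by decide, by decide⟩ : Perm (Fin 10)),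
    by decide +kernel, by decide +kernel, by decide +kernel,
    (0 : Fin 10), (7 : Fin 10), by decide +kernel⟩
/-! ### The general case -/

theorem length_mul_succ_le : ∀ s : Finset ℕ, (∀ m ∈ s, 1 ≤ m) →
    s.card * (s.card + 1) ≤ 2 * ∑ m ∈ s, m := by
  intro s
  induction s using Finset.induction_on_max with
  | empty => simp
  | insert a s ha ih =>
    intro h
    have hns : a ∉ s := fun h' => lt_irrefl a (ha a h')
    have ih' := ih fun m hm => h m (Finset.mem_insert_of_mem hm)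
    have hc : s.card ≤ a - 1 := by
      have h1 := Finset.card_le_card (s := s) (t := Finset.Ico 1 a) fun m hm =>
        Finset.mem_Ico.2 ⟨h m (Finset.mem_insert_of_mem hm), ha m hm⟩
      rwa [Nat.card_Ico] at h1
    have ha1 := h a (Finset.mem_insert_self _ _)
    rw [Finset.card_insert_of_notMem hns, Finset.sum_insert hns]
    ring_nf at ih' ⊢
    omega

theorem sign_cfg {α : Type*} [Fintype α] [DecidableEq α] {π : Perm α} {f g : ℕ} (h : Cfg π f g)
    (hπ : sign π = 1) (hd : f = g + 2) : False := by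
  obtain ⟨s, hs, ht, h1, h2⟩ := h
  obtain ⟨k, -, hk, hks⟩ := cycleType_of_sq hs
  obtain ⟨l, -, hl, hls⟩ := cycleType_of_sq ht
  have h3 : sign π = sign (π * s) * sign s := by
    rw [← map_mul, mul_assoc, hs, mul_one]
  rw [hπ, sign_of_sq hs hks, sign_of_sq ht hls, show l = k + 1 by omega, pow_succ] at h3
  rw [mul_assoc, mul_comm (-1 : ℤˣ), ← mul_assoc, Int.units_mul_self] at h3
  exact absurd h3 (by decide)

theorem eq_one_of_cfg {α : Type*} [Fintype α] [DecidableEq α] {π : Perm α}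
    (h : Cfg π (Fintype.card α) (Fintype.card α)) : π = 1 := by
  obtain ⟨s, hs, ht, h1, h2⟩ := h
  obtain ⟨k, hk, hk', -⟩ := cycleType_of_sq hs
  obtain ⟨l, hl, hl', -⟩ := cycleType_of_sq ht
  obtain rfl : k = 0 := by omega
  obtain rfl : l = 0 := by omega
  rw [Multiset.replicate_zero, cycleType_eq_zero] at hk hl
  rwa [hk, mul_one] at hl

theorem good_one {n : ℕ} (hn : 5 ≤ n) : Good (1 : Perm (Fin n)) := by
  let w : Fin n := ⟨0, by omega⟩
  let x : Fin n := ⟨1, by omega⟩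
  let y : Fin n := ⟨2, by omega⟩
  let z : Fin n := ⟨3, by omega⟩
  have e : ∀ i j : ℕ, ∀ (hi : i < n) (hj : j < n), i ≠ j → (⟨i, hi⟩ : Fin n) ≠ ⟨j, hj⟩ :=
    fun i j _ _ h h' => h (congrArg Fin.val h')
  have h1 : w ≠ x := e _ _ _ _ (by norm_num)
  have h2 : w ≠ y := e _ _ _ _ (by norm_num)
  have h3 : w ≠ z := e _ _ _ _ (by norm_num)
  have h4 : x ≠ y := e _ _ _ _ (by norm_num)
  have h5 : x ≠ z := e _ _ _ _ (by norm_num)
  have h6 : y ≠ z := e _ _ _ _ (by norm_num)
  have aw : (swap w x * swap y z) w = x := by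
    rw [Perm.mul_apply, swap_apply_of_ne_of_ne h2 h3, swap_apply_left]
  have ax : (swap w x * swap y z) x = w := by
    rw [Perm.mul_apply, swap_apply_of_ne_of_ne h4 h5, swap_apply_right]
  have ay : (swap w x * swap y z) y = z := by
    rw [Perm.mul_apply, swap_apply_left, swap_apply_of_ne_of_ne h3.symm h5.symm]
  have az : (swap w x * swap y z) z = y := by
    rw [Perm.mul_apply, swap_apply_right, swap_apply_of_ne_of_ne h2.symm h4.symm]
  refine ⟨swap w x * swap y z, 1, ?_, map_one _, by simp,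
    w, y, ?_, ?_, ?_, ?_, h2.symm, ?_⟩
  · rw [map_mul, sign_swap h1, sign_swap h6]; rfl
  · rw [aw]; exact h1.symm
  · rw [aw, ax]
  · rw [ay]; exact h6.symm
  · rw [ay, az]
  · rw [aw]; exact h4.symm

theorem good_block {L : List ℕ} (hL : ∀ m ∈ L, 1 ≤ m) (h5 : 5 ≤ L.sum)
    (hs : sign (blockPerm L) = 1) : Good (blockPerm L) := by
  have hev : Even (evens L) := by
    rw [← Nat.not_odd_iff_even]
    intro ho
    refine sign_cfg ((cfg_list L hL).2 ho).1 hs ?_
    obtain ⟨c, hc⟩ := ho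
    have : evens L ≤ L.length := List.countP_le_length
    omega
  by_cases h1 : blockPerm L = 1
  · rw [h1]; exact good_one h5
  have hc := (cfg_list L hL).1 hev
  obtain ⟨K, hK⟩ : ∃ K, L.length + 2 * K = L.sum := by
    obtain ⟨s, hs', -, hf, -⟩ := id hc
    obtain ⟨k, -, hk, -⟩ := cycleType_of_sq hs'
    exact ⟨k, by rw [hf, Fintype.card_fin] at hk; exact hk⟩
  have hK0 : K ≠ 0 := by
    rintro rfl
    refine h1 (eq_one_of_cfg ?_)
    rw [Fintype.card_fin]
    rwa [show L.length = L.sum by omega] at hc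
  rcases Nat.even_or_odd K with hKe | hKo
  · refine good_of_even hc (by rw [Fintype.card_fin]; exact hK) hKe ?_
    obtain ⟨c, rfl⟩ := hKe; omega
  by_cases hnd : L.Nodup
  swap
  · obtain ⟨m, L', hp⟩ : ∃ m L', L.Perm (m :: m :: L') := by
      obtain ⟨m, hm⟩ := List.exists_duplicate_iff_not_nodup.2 hnd
      have hm1 : m ∈ L := hm.mem
      have hm2 : m ∈ L.erase m := by
        rw [← List.count_pos_iff, List.count_erase_self]
        have := List.duplicate_iff_two_le_count.1 hm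
        omega
      exact ⟨m, (L.erase m).erase m,
        (List.perm_cons_erase hm1).trans ((List.perm_cons_erase hm2).cons m)⟩
    have hm : 1 ≤ m := hL m (hp.mem_iff.2 (by simp))
    have hL' : ∀ k ∈ L', 1 ≤ k := fun k hk => hL k (hp.mem_iff.2 (by simp [hk]))
    have hev' : Even (evens L') := by
      have h := hp.countP_eq (fun m => decide (m % 2 = 0))
      have h' : evens L = evens (m :: m :: L') := h
      rw [h'] at hev
      simp only [evens, List.countP_cons] at hev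
      rcases Nat.mod_two_eq_zero_or_one m with h2 | h2 <;> simp [h2, parity_simps] at hev <;>
        exact hev
    have hc' : Cfg (blockPerm (m :: m :: L')) L'.length L'.length := by
      have h := ((cfg_double hm).sum ((cfg_list L' hL').1 hev')).relab
        (σ := blockPerm (m :: m :: L')) ?_
      · simpa using h
      · refine Relab.trans ⟨Equiv.sumAssoc _ _ _, fun x => ?_⟩
          (((Relab.refl (finRotate m)).sum (relab_cons m L')).trans (relab_cons m _))
        rcases x with (x | x) | x <;> simp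
    have hlen : L.length = L'.length + 2 := by rw [hp.length_eq]; simp
    refine Good.relab ?_ (relab_perm hp).symm
    refine good_of_even hc' (K := K + 1) ?_ hKo.add_one (by omega)
    rw [Fintype.card_fin, ← hp.sum_eq]
    omega
  have hbound : L.length * (L.length + 1) ≤ 2 * L.sum := by
    have h := length_mul_succ_le L.toFinset fun m hm => hL m (List.mem_toFinset.1 hm)
    rwa [List.card_toFinset, List.dedup_eq_self.2 hnd, List.sum_toFinset _ hnd, List.map_id'] at h
  by_cases hK5 : 5 ≤ K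
  · refine good_of_odd hc (by rw [Fintype.card_fin]; exact hK) hKo hK5 ?_
    by_contra hf
    have : L.length * 7 ≤ L.length * L.length := Nat.mul_le_mul_left _ (by omega)
    have hexp : L.length * (L.length + 1) = L.length * L.length + L.length := by ring
    omega
  have hK13 : K = 1 ∨ K = 3 := by obtain ⟨c, rfl⟩ := hKo; omega
  have hlen4 : L.length ≤ 4 := by
    by_contra h
    have : L.length * 6 ≤ L.length * (L.length + 1) := Nat.mul_le_mul_left _ (by omega)
    omega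
  have hmem : ∀ m ∈ L, m ∈ List.range' 1 10 := fun m hm => by
    have h := hL m hm
    have := List.le_sum_of_mem hm
    rw [List.mem_range'_1]
    omega
  let l := (List.range' 1 10).filter fun m => decide (m ∈ L)
  have hperm : L.Perm l := by
    refine (List.perm_ext_iff_of_nodup hnd ((List.nodup_range' ..).filter _)).2 fun m => ?_
    simp only [List.mem_filter, decide_eq_true_eq]
    exact ⟨fun h => ⟨hmem m h, h⟩, fun h => h.2⟩
  have key : ∀ l ∈ (List.range' 1 10).sublists, 5 ≤ l.sum → evens l % 2 = 0 →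
      (l.length + 2 = l.sum ∨ l.length + 6 = l.sum) →
      l ∈ [[7], [1, 7], [3, 5], [2, 6], [1, 3, 5], [1, 2, 6], [2, 3, 4], [1, 2, 3, 4]] := by
    decide +kernel
  have htab := key l (List.mem_sublists.2 List.filter_sublist) (hperm.sum_eq ▸ h5)
    (by rw [← Nat.even_iff]; exact (show evens L = evens l from hperm.countP_eq _) ▸ hev)
    (by rw [← hperm.length_eq, ← hperm.sum_eq]; omega)
  refine Good.relab ?_ (relab_perm hperm).symm
  generalize l = l' at htab ⊢
  simp only [List.mem_cons, List.not_mem_nil, or_false] at htab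
  rcases htab with rfl | rfl | rfl | rfl | rfl | rfl | rfl | rfl
  exacts [good_7, good_1_7, good_3_5, good_2_6, good_1_3_5, good_1_2_6, good_2_3_4, good_1_2_3_4]

/-- Ore's factorisation with a double transposition inside. -/
theorem good_of_even_perm {n : ℕ} (hn : 5 ≤ n) (π : Perm (Fin n)) (hπ : sign π = 1) : Good π := by
  obtain ⟨L, hL1, hL2, hr⟩ := exists_relab n π (Fintype.card_fin n)
  obtain ⟨e, he⟩ := hr.eq_permCongr
  exact (good_block hL1 (hL2 ▸ hn) (by rw [he, sign_permCongr, hπ])).relab hr.symm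

end CfsgLib.KnownB.AltOre
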