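import Cfsg.Agent.Lib.KnownB.AltOreConj

/-!
Permutations as sums of rotations, and inverting involutions for them.
-/

set_option autoImplicit false

namespace CfsgLib.KnownB.AltOre

open Equiv Equiv.Perm

/-- The sum of rotations of the given lengths. -/
def blockPerm : (L : List ℕ) → Perm (Fin L.sum)
  | [] => 1
  | m :: L => finSumFinEquiv.permCongr (Equiv.sumCongr (finRotate m) (blockPerm L))

/-- Two permutations differ by relabelling. -/
def Relab {α β : Type*} (π : Perm α) (σ : Perm β) : Prop := ∃ e : α ≃ β, ∀ x, e (π x) = σ (e x)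

theorem Relab.refl {α : Type*} (π : Perm α) : Relab π π := ⟨Equiv.refl α, fun _ => rfl⟩

theorem Relab.symm {α β : Type*} {π : Perm α} {σ : Perm β} (h : Relab π σ) : Relab σ π := by
  obtain ⟨e, he⟩ := h
  exact ⟨e.symm, fun y => e.injective (by simp [he])⟩

theorem Relab.trans {α β γ : Type*} {π : Perm α} {σ : Perm β} {τ : Perm γ} (h : Relab π σ)
    (h' : Relab σ τ) : Relab π τ := by
  obtain ⟨e, he⟩ := h
  obtain ⟨e', he'⟩ := h'
  exact ⟨e.trans e', fun x => by simp [he, he']⟩

theorem Relab.sum {α β γ δ : Type*} {π : Perm α} {π' : Perm β} {σ : Perm γ} {σ' : Perm δ}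
    (h : Relab π π') (h' : Relab σ σ') : Relab (Equiv.sumCongr π σ) (Equiv.sumCongr π' σ') := by
  obtain ⟨e, he⟩ := h
  obtain ⟨e', he'⟩ := h'
  exact ⟨e.sumCongr e', fun x => by rcases x with x | x <;> simp [he, he']⟩

theorem Relab.eq_permCongr {α β : Type*} {π : Perm α} {σ : Perm β} (h : Relab π σ) :
    ∃ e : α ≃ β, σ = e.permCongr π := by
  obtain ⟨e, he⟩ := h
  exact ⟨e, Equiv.ext fun y => by rw [Equiv.permCongr_apply, he, e.apply_symm_apply]⟩

theorem relab_cons (m : ℕ) (L : List ℕ) :
    Relab (Equiv.sumCongr (finRotate m) (blockPerm L)) (blockPerm (m :: L)) :=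
  ⟨finSumFinEquiv, fun x => by
    have h := Equiv.permCongr_apply finSumFinEquiv
      (Equiv.sumCongr (finRotate m) (blockPerm L)) (finSumFinEquiv x)
    rw [Equiv.symm_apply_apply] at h
    exact h.symm⟩

theorem relab_perm {L L' : List ℕ} (h : L.Perm L') : Relab (blockPerm L) (blockPerm L') := by
  induction h with
  | nil => exact Relab.refl _
  | cons m _ ih =>
    exact (relab_cons _ _).symm.trans (((Relab.refl _).sum ih).trans (relab_cons _ _))
  | swap a b l =>
    refine (relab_cons b _).symm.trans (((Relab.refl _).sum (relab_cons a l).symm).trans ?_)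
    refine Relab.trans ?_ (((Relab.refl (finRotate a)).sum (relab_cons b l)).trans (relab_cons a _))
    refine ⟨(Equiv.sumAssoc _ _ _).symm.trans
      (((Equiv.sumComm _ _).sumCongr (Equiv.refl _)).trans (Equiv.sumAssoc _ _ _)), fun x => ?_⟩
    rcases x with x | x | x <;> simp
  | trans _ _ ih1 ih2 => exact ih1.trans ih2

/-! ### Cycle decomposition -/

theorem val_rot {M : ℕ} (i : Fin M) : ((finRotate M i : Fin M) : ℕ) = ((i : ℕ) + 1) % M := by
  cases M with
  | zero => exact i.elim0
  | succ k => simp [Fin.val_add]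

theorem exists_relab : ∀ (N : ℕ) {α : Type} [Fintype α] (π : Perm α), Fintype.card α = N →
    ∃ L : List ℕ, (∀ m ∈ L, 1 ≤ m) ∧ L.sum = N ∧ Relab π (blockPerm L) := by
  classical
  intro N
  induction N using Nat.strong_induction_on with
  | _ N ih =>
    intro α _ π hN
    rcases Nat.eq_zero_or_pos N with rfl | hpos
    · have := Fintype.card_eq_zero_iff.1 hN
      haveI : IsEmpty (Fin ([] : List ℕ).sum) := (inferInstanceAs (IsEmpty (Fin 0)))
      exact ⟨[], by simp, rfl, ⟨Equiv.equivOfIsEmpty _ _, fun x => isEmptyElim x⟩⟩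
    obtain ⟨x⟩ : Nonempty α := Fintype.card_pos_iff.1 (by omega)
    set m := Function.minimalPeriod π x with hm
    have hper : Function.IsPeriodicPt π (orderOf π) x := by
      show (⇑π)^[orderOf π] x = x
      rw [← Perm.coe_pow, pow_orderOf_eq_one]; rfl
    have hm0 : 0 < m := hper.minimalPeriod_pos (orderOf_pos π)
    let p : α → Prop := fun y => ∃ i : Fin m, (π ^ (i : ℕ)) x = y
    have hmod : ∀ k : ℕ, (π ^ k) x = (π ^ (k % m)) x := fun k => by
      rw [Perm.coe_pow, Perm.coe_pow]
      exact (Function.iterate_mod_minimalPeriod_eq).symm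
    have hp : ∀ y, p (π y) ↔ p y := by
      intro y
      constructor
      · rintro ⟨i, hi⟩
        refine ⟨⟨((i : ℕ) + (m - 1)) % m, Nat.mod_lt _ hm0⟩, ?_⟩
        show (π ^ (((i : ℕ) + (m - 1)) % m)) x = y
        rw [← hmod]
        refine π.injective ?_
        rw [← hi, ← Perm.mul_apply, ← pow_succ', show (i : ℕ) + (m - 1) + 1 = i + m by omega,
          hmod, Nat.add_mod_right, ← hmod]
      · rintro ⟨i, rfl⟩
        refine ⟨⟨((i : ℕ) + 1) % m, Nat.mod_lt _ hm0⟩, ?_⟩
        show (π ^ (((i : ℕ) + 1) % m)) x = _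
        rw [← hmod, pow_succ', Perm.mul_apply]
    haveI : DecidablePred p := Classical.decPred _
    let f : Fin m → {y // p y} := fun i => ⟨_, i, rfl⟩
    have hf : Function.Bijective f := by
      refine ⟨fun i j hij => Fin.ext ?_, fun ⟨y, i, hi⟩ => ⟨i, Subtype.ext hi⟩⟩
      have h1 := congrArg Subtype.val hij
      simp only [f, Perm.coe_pow] at h1
      exact Function.iterate_injOn_Iio_minimalPeriod i.2 j.2 h1
    have hrot : Relab (finRotate m) (π.subtypePerm hp) := by
      refine ⟨Equiv.ofBijective f hf, fun i => Subtype.ext ?_⟩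
      show (π ^ ((finRotate m i : Fin m) : ℕ)) x = π ((π ^ (i : ℕ)) x)
      rw [val_rot, ← hmod, pow_succ', Perm.mul_apply]
    have hp' : ∀ y, ¬ p (π y) ↔ ¬ p y := fun y => not_congr (hp y)
    have hcard : Fintype.card {y // p y} = m := by
      rw [← Fintype.card_congr (Equiv.ofBijective f hf), Fintype.card_fin]
    obtain ⟨L, hL1, hL2, hL3⟩ := ih (N - m) (by omega) (π.subtypePerm hp')
      (by rw [Fintype.card_subtype_compl p, hcard, hN])
    refine ⟨m :: L, ?_, ?_, ?_⟩
    · intro k hk
      rcases List.mem_cons.1 hk with rfl | hk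
      · exact hm0
      · exact hL1 k hk
    · have : m ≤ N := hcard ▸ hN ▸ Fintype.card_subtype_le _
      rw [List.sum_cons, hL2]; omega
    · refine Relab.trans ?_ ((hrot.symm.sum hL3).trans (relab_cons _ _))
      refine ⟨(Equiv.sumCompl p).symm, fun y => ?_⟩
      by_cases hy : p y
      · rw [Equiv.sumCompl_symm_apply_of_pos hy, Equiv.sumCompl_symm_apply_of_pos ((hp y).2 hy)]
        rfl
      · rw [Equiv.sumCompl_symm_apply_of_neg hy, Equiv.sumCompl_symm_apply_of_neg ((hp' y).2 hy)]
        rfl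

/-! ### One cycle -/

theorem Cfg.relab {α β : Type*} {π : Perm α} {σ : Perm β} {f g : ℕ} (h : Cfg π f g)
    (hr : Relab π σ) : Cfg σ f g := by
  obtain ⟨e, rfl⟩ := hr.eq_permCongr
  exact h.transport e

theorem Good.relab {α β : Type*} [Fintype α] [DecidableEq α] [Fintype β] [DecidableEq β]
    {π : Perm α} {σ : Perm β} (h : Good π) (hr : Relab π σ) : Good σ := by
  obtain ⟨e, rfl⟩ := hr.eq_permCongr
  exact h.transport e

/-- The reflections of a cycle. -/
theorem cfg_rotate {m : ℕ} (hm : 1 ≤ m) :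
    (Odd m → Cfg (finRotate m) 1 1) ∧ (Even m → Cfg (finRotate m) 2 0 ∧ Cfg (finRotate m) 0 2) := by
  obtain ⟨k, rfl⟩ : ∃ k, m = k + 1 := ⟨m - 1, by omega⟩
  let s : Fin (k + 1) → Perm (Fin (k + 1)) := fun c => Equiv.subLeft c
  have hsq : ∀ c, s c * s c = 1 := fun c => Equiv.ext fun i => by simp [s]
  have hrot : ∀ c, finRotate (k + 1) * s c = s (c + 1) := fun c => Equiv.ext fun i => by
    show finRotate (k + 1) (c - i) = c + 1 - i
    rw [finRotate_apply]; abel
  have hfix : ∀ c, fixCard (s c) = (Finset.univ.filter fun i : Fin (k + 1) => i + i = c).card := by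
    intro c
    rw [fixCard, Nat.card_eq_fintype_card, Fintype.card_subtype]
    congr 1
    ext i
    simp only [Finset.mem_filter, Finset.mem_univ, true_and]
    show c - i = i ↔ _
    rw [sub_eq_iff_eq_add, eq_comm]
  have mk : ∀ c f g, fixCard (s c) = f → fixCard (s (c + 1)) = g → Cfg (finRotate (k + 1)) f g :=
    fun c f g h1 h2 => ⟨s c, hsq c, by rw [hrot, hsq], h1, by rw [hrot, h2]⟩
  have hval : ∀ i : Fin (k + 1), (((i + i : Fin (k + 1))) : ℕ) = ((i : ℕ) + i) % (k + 1) :=
    fun i => Fin.val_add i i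
  have hzero : ∀ i : Fin (k + 1), i + i = 0 ↔ ((i : ℕ) = 0 ∨ (i : ℕ) + i = k + 1) := fun i => by
    rw [Fin.ext_iff, hval, Fin.val_zero]
    have := i.2
    constructor
    · intro h
      rcases Nat.lt_or_ge ((i : ℕ) + i) (k + 1) with h' | h'
      · rw [Nat.mod_eq_of_lt h'] at h; omega
      · rw [Nat.mod_eq_sub_mod h', Nat.mod_eq_of_lt (by omega)] at h; omega
    · rintro (h | h)
      · rw [h]; simp
      · rw [h, Nat.mod_self]
  refine ⟨fun ho => ?_, fun he => ?_⟩
  · have hbij : Function.Bijective (fun i : Fin (k + 1) => i + i) := by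
      refine Finite.injective_iff_bijective.1 fun i j hij => Fin.ext ?_
      have h := congrArg Fin.val hij
      simp only [hval] at h
      obtain ⟨l, hl⟩ := ho
      have := i.2
      have := j.2
      rcases Nat.lt_or_ge ((i : ℕ) + i) (k + 1) with a | a <;>
        rcases Nat.lt_or_ge ((j : ℕ) + j) (k + 1) with b | b
      · rw [Nat.mod_eq_of_lt a, Nat.mod_eq_of_lt b] at h; omega
      · rw [Nat.mod_eq_of_lt a, Nat.mod_eq_sub_mod b, Nat.mod_eq_of_lt (a := _ - _) (by omega)] at h
        omega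
      · rw [Nat.mod_eq_sub_mod a, Nat.mod_eq_of_lt (a := _ - _) (by omega), Nat.mod_eq_of_lt b] at h
        omega
      · rw [Nat.mod_eq_sub_mod a, Nat.mod_eq_of_lt (a := _ - _) (by omega), Nat.mod_eq_sub_mod b,
          Nat.mod_eq_of_lt (a := _ - _) (by omega)] at h
        omega
    have h1 : ∀ c, fixCard (s c) = 1 := fun c => by
      obtain ⟨i, hi⟩ := hbij.2 c
      rw [hfix, Finset.card_eq_one]
      exact ⟨i, by ext j; simp only [Finset.mem_filter, Finset.mem_univ, true_and, Finset.mem_singleton]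
                   exact ⟨fun h => hbij.1 (h.trans hi.symm), fun h => h ▸ hi⟩⟩
    exact mk 0 1 1 (h1 _) (h1 _)
  · obtain ⟨l, hl⟩ := he
    have hev : ∀ i : Fin (k + 1), Even (((i + i : Fin (k + 1))) : ℕ) := fun i => by
      rw [hval, Nat.even_iff, Nat.mod_mod_of_dvd _ ⟨l, by omega⟩]
      omega
    have h0 : fixCard (s 0) = 2 := by
      rw [hfix, Finset.card_eq_two]
      refine ⟨0, ⟨l, by omega⟩, fun h => by simp [Fin.ext_iff] at h; omega, ?_⟩
      ext i
      simp only [Finset.mem_filter, Finset.mem_univ, true_and, hzero, Finset.mem_insert,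
        Finset.mem_singleton, Fin.ext_iff, Fin.val_zero]
      omega
    have hodd : ∀ c : Fin (k + 1), ¬ Even (c : ℕ) → fixCard (s c) = 0 := fun c hc => by
      rw [hfix, Finset.card_eq_zero, Finset.filter_eq_empty_iff]
      exact fun i _ h => hc (h ▸ hev i)
    refine ⟨mk 0 2 0 h0 (hodd _ ?_), mk (-1) 0 2 (hodd _ ?_) (by rw [neg_add_cancel, h0])⟩
    · rw [zero_add, Fin.val_one', Nat.mod_eq_of_lt (by omega)]
      simp
    · have : ((-1 : Fin (k + 1)) : ℕ) = k := by exact Fin.coe_neg_one
      rw [this, Nat.even_iff]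
      omega

/-- Two cycles of the same length can be exchanged by an inverting involution without fixed points. -/
theorem cfg_double {m : ℕ} (hm : 1 ≤ m) :
    Cfg (Equiv.sumCongr (finRotate m) (finRotate m)) 0 0 := by
  obtain ⟨k, rfl⟩ : ∃ k, m = k + 1 := ⟨m - 1, by omega⟩
  refine ⟨(Equiv.sumComm _ _).trans ((Equiv.neg _).sumCongr (Equiv.neg _)), ?_, ?_, ?_, ?_⟩
  · ext (i | i) <;> simp
  · ext (i | i) <;> simp
  · rw [fixCard, Nat.card_eq_zero]
    exact Or.inl ⟨fun ⟨x, hx⟩ => by rcases x with i | i <;> simp at hx⟩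
  · rw [fixCard, Nat.card_eq_zero]
    exact Or.inl ⟨fun ⟨x, hx⟩ => by rcases x with i | i <;> simp at hx⟩

/-! ### Lists -/

/-- Number of even entries. -/
def evens (L : List ℕ) : ℕ := L.countP fun m => m % 2 = 0

theorem cfg_list : ∀ L : List ℕ, (∀ m ∈ L, 1 ≤ m) →
    (Even (evens L) → Cfg (blockPerm L) L.length L.length) ∧
    (Odd (evens L) → Cfg (blockPerm L) (L.length + 1) (L.length - 1) ∧
      Cfg (blockPerm L) (L.length - 1) (L.length + 1)) := by
  intro L
  induction L with
  | nil =>
    intro _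
    refine ⟨fun _ => ⟨1, one_mul 1, ?_, ?_, ?_⟩, fun h => ?_⟩
    · exact Equiv.ext fun x => Fin.elim0 x
    · show Nat.card _ = 0
      rw [Nat.card_eq_zero]; exact Or.inl ⟨fun x => Fin.elim0 x.1⟩
    · show Nat.card _ = 0
      rw [Nat.card_eq_zero]; exact Or.inl ⟨fun x => Fin.elim0 x.1⟩
    · simp [evens] at h
  | cons m L ih =>
    intro hL
    obtain ⟨ihe, iho⟩ := ih fun k hk => hL k (List.mem_cons_of_mem _ hk)
    obtain ⟨ho, he⟩ := cfg_rotate (hL m (by simp))
    have hc : evens (m :: L) = evens L + if m % 2 = 0 then 1 else 0 := by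
      simp [evens, List.countP_cons]
    have mk : ∀ {f g f' g' F G : ℕ}, Cfg (finRotate m) f g → Cfg (blockPerm L) f' g' →
        f + f' = F → g + g' = G → Cfg (blockPerm (m :: L)) F G := by
      rintro f g f' g' F G h h' rfl rfl
      exact (h.sum h').relab (relab_cons _ _)
    have hlen : (m :: L).length = L.length + 1 := rfl
    rcases Nat.even_or_odd m with hm | hm
    · rw [hc, if_pos (Nat.even_iff.1 hm)]
      refine ⟨fun h => ?_, fun h => ?_⟩
      · have hLo : Odd (evens L) := by rwa [Nat.even_add_one, Nat.not_even_iff_odd] at h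
        have hne : 1 ≤ L.length := by
          obtain ⟨c, hc'⟩ := hLo
          have : evens L ≤ L.length := List.countP_le_length
          omega
        exact mk (he hm).1 (iho hLo).2 (by omega) (by omega)
      · have hLe : Even (evens L) := by rwa [Nat.odd_add_one, Nat.not_odd_iff_even] at h
        exact ⟨mk (he hm).1 (ihe hLe) (by omega) (by omega),
          mk (he hm).2 (ihe hLe) (by omega) (by omega)⟩
    · rw [hc, if_neg (by rw [Nat.odd_iff.1 hm]; simp), add_zero]
      refine ⟨fun h => mk (ho hm) (ihe h) (by omega) (by omega), fun h => ?_⟩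
      have hne : 1 ≤ L.length := by
        obtain ⟨c, hc'⟩ := h
        have : evens L ≤ L.length := List.countP_le_length
        omega
      exact ⟨mk (ho hm) (iho h).1 (by omega) (by omega), mk (ho hm) (iho h).2 (by omega) (by omega)⟩

end CfsgLib.KnownB.AltOre
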