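import Mathlib

/-!
Every nontrivial even permutation `π` of at least five points is `b a b⁻¹ a⁻¹` with `a, b` even and
`a` having two cycles of length two.

This file: involutions with given numbers of fixed points, and the two general constructions.
-/

set_option autoImplicit false

namespace CfsgLib.KnownB.AltOre

open Equiv Equiv.Perm

variable {α β : Type*}

/-- Number of fixed points. -/
noncomputable def fixCard (s : Perm α) : ℕ := Nat.card {x // s x = x}

/-- An involution `s` inverting `π`, with `f` fixed points, `π s` having `g`. -/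
def Cfg (π : Perm α) (f g : ℕ) : Prop :=
  ∃ s : Perm α, s * s = 1 ∧ (π * s) * (π * s) = 1 ∧ fixCard s = f ∧ fixCard (π * s) = g

/-- Two disjoint transpositions are cycles of `a`. -/
def HasDT (a : Perm α) : Prop :=
  ∃ x y, a x ≠ x ∧ a (a x) = x ∧ a y ≠ y ∧ a (a y) = y ∧ y ≠ x ∧ y ≠ a x

/-- The permutation is a commutator of the wanted kind. -/
def Good [Fintype α] [DecidableEq α] (π : Perm α) : Prop :=
  ∃ a b : Perm α, sign a = 1 ∧ sign b = 1 ∧ b * a * b⁻¹ = π * a ∧ HasDT a

theorem fixCard_permCongr (e : α ≃ β) (s : Perm α) : fixCard (e.permCongr s) = fixCard s :=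
  Nat.card_congr (e.symm.subtypeEquiv fun x => by
    rw [Equiv.permCongr_apply]
    exact ⟨fun h => e.injective (by rw [h, e.apply_symm_apply]),
      fun h => by rw [h, e.apply_symm_apply]⟩)

theorem Cfg.transport (e : α ≃ β) {π : Perm α} {f g : ℕ} (h : Cfg π f g) :
    Cfg (e.permCongr π) f g := by
  obtain ⟨s, h1, h2, h3, h4⟩ := h
  refine ⟨e.permCongrHom s, ?_, ?_, by rw [← h3]; exact fixCard_permCongr e s, ?_⟩
  · rw [← map_mul, h1, map_one]
  · show (e.permCongrHom π * _) * (e.permCongrHom π * _) = 1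
    rw [← map_mul, ← map_mul, h2, map_one]
  · show fixCard (e.permCongrHom π * _) = g
    rw [← map_mul, ← h4]
    exact fixCard_permCongr e _

theorem HasDT.transport (e : α ≃ β) {a : Perm α} (h : HasDT a) : HasDT (e.permCongr a) := by
  obtain ⟨x, y, h1, h2, h3, h4, h5, h6⟩ := h
  refine ⟨e x, e y, ?_, ?_, ?_, ?_, ?_, ?_⟩ <;> simp [h1, h2, h3, h4, h5, h6]

theorem Good.transport [Fintype α] [DecidableEq α] [Fintype β] [DecidableEq β] (e : α ≃ β)
    {π : Perm α} (h : Good π) : Good (e.permCongr π) := by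
  obtain ⟨a, b, h1, h2, h3, h4⟩ := h
  refine ⟨e.permCongrHom a, e.permCongrHom b, ?_, ?_, ?_, h4.transport e⟩
  · rw [← h1]; exact sign_permCongr e a
  · rw [← h2]; exact sign_permCongr e b
  · rw [← map_mul, ← map_inv, ← map_mul, h3, map_mul]
    rfl

theorem Cfg.sum {π : Perm α} {σ : Perm β} {f g f' g' : ℕ} [Finite α] [Finite β] (h : Cfg π f g)
    (h' : Cfg σ f' g') : Cfg (Equiv.sumCongr π σ) (f + f') (g + g') := by
  obtain ⟨s, h1, h2, h3, h4⟩ := h
  obtain ⟨t, k1, k2, k3, k4⟩ := h'
  have hfix : ∀ (u : Perm α) (v : Perm β),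
      fixCard (Equiv.sumCongr u v) = fixCard u + fixCard v := fun u v => by
    rw [fixCard, fixCard, fixCard, Nat.card_congr Equiv.subtypeSum, Nat.card_sum]
    congr 1 <;> exact Nat.card_congr (Equiv.subtypeEquivRight fun x => by simp)
  refine ⟨Equiv.sumCongr s t, ?_, ?_, by rw [hfix, h3, k3], ?_⟩
  · rw [sumCongr_mul, h1, k1, sumCongr_one]
  · rw [sumCongr_mul, sumCongr_mul, h2, k2, sumCongr_one]
  · rw [sumCongr_mul, hfix, h4, k4]

variable [Fintype α] [DecidableEq α]

theorem cycleType_of_sq {s : Perm α} (h : s * s = 1) :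
    ∃ k, s.cycleType = Multiset.replicate k 2 ∧ fixCard s + 2 * k = Fintype.card α ∧
      s.support.card = 2 * k := by
  have h2 : ∀ m ∈ s.cycleType, m = 2 := fun m hm => by
    have hd := (dvd_of_mem_cycleType hm).trans (orderOf_dvd_of_pow_eq_one (by rw [sq, h]))
    have := two_le_of_mem_cycleType hm
    have := Nat.le_of_dvd two_pos hd
    omega
  have hk := Multiset.eq_replicate_card.2 h2
  refine ⟨_, hk, ?_, ?_⟩
  · have hsum := sum_cycleType s
    rw [hk, Multiset.sum_replicate, smul_eq_mul] at hsum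
    have hfix : fixCard s = s.supportᶜ.card := by
      rw [fixCard, Nat.card_eq_fintype_card, Fintype.card_subtype]
      congr 1
      ext x
      simp
    rw [hfix, Finset.card_compl]
    have := s.support.card_le_univ
    omega
  · have hsum := sum_cycleType s
    rw [hk, Multiset.sum_replicate, smul_eq_mul] at hsum
    omega

theorem isConj_of_fixCard {s t : Perm α} (hs : s * s = 1) (ht : t * t = 1)
    (h : fixCard s = fixCard t) : ∃ b : Perm α, b * s * b⁻¹ = t := by
  obtain ⟨k, hk, hk', -⟩ := cycleType_of_sq hs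
  obtain ⟨l, hl, hl', -⟩ := cycleType_of_sq ht
  refine isConj_iff.1 (isConj_iff_cycleType_eq.2 ?_)
  rw [hk, hl, show k = l by omega]

theorem sign_of_sq {s : Perm α} (hs : s * s = 1) {k : ℕ} (hk : s.support.card = 2 * k) :
    sign s = (-1) ^ k := by
  obtain ⟨l, hl, -, hl'⟩ := cycleType_of_sq hs
  obtain rfl : l = k := by omega
  rw [sign_of_cycleType, hl, Multiset.sum_replicate, Multiset.card_replicate, smul_eq_mul,
    pow_add, pow_mul', Int.units_sq, one_pow, one_mul]

theorem apply_apply {s : Perm α} (hs : s * s = 1) (x : α) : s (s x) = x := by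
  rw [← Perm.mul_apply, hs, Perm.one_apply]

/-- A conjugating element can be chosen even in the presence of a transposition cycle. -/
theorem exists_even {a π b : Perm α} (hb : b * a * b⁻¹ = π * a) (ha : sign a = 1) (hd : HasDT a) :
    Good π := by
  rcases Int.units_eq_one_or (sign b) with h | h
  · exact ⟨a, b, ha, h, hb, hd⟩
  · obtain ⟨x, y, h1, h2, -⟩ := id hd
    refine ⟨a, b * swap x (a x), ha, ?_, ?_, hd⟩
    · rw [map_mul, h, sign_swap (Ne.symm h1)]; rfl
    · have hc : swap x (a x) * a * (swap x (a x))⁻¹ = a := by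
        rw [mul_inv_eq_iff_eq_mul, Equiv.mul_swap_eq_swap_mul, h2, Equiv.swap_comm]
      calc b * swap x (a x) * a * (b * swap x (a x))⁻¹
          = b * (swap x (a x) * a * (swap x (a x))⁻¹) * b⁻¹ := by group
        _ = π * a := by rw [hc, hb]

/-- An even number, at least two, of transpositions. -/
theorem good_of_even {π : Perm α} {f K : ℕ} (h : Cfg π f f) (hK : f + 2 * K = Fintype.card α)
    (h2 : Even K) (hK2 : 2 ≤ K) : Good π := by
  obtain ⟨s, h1, hp, h3, h4⟩ := h
  obtain ⟨b, hb⟩ := isConj_of_fixCard h1 hp (h3.trans h4.symm)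
  obtain ⟨k, -, hk, hsupp⟩ := cycleType_of_sq h1
  obtain rfl : k = K := by omega
  have hd : HasDT s := by
    obtain ⟨x, hx⟩ : s.support.Nonempty := Finset.card_pos.1 (by omega)
    obtain ⟨y, hy, hy'⟩ := Finset.exists_mem_notMem_of_card_lt_card
      (show ({x, s x} : Finset α).card < s.support.card by
        have := Finset.card_le_two (a := x) (b := s x)
        omega)
    simp only [Finset.mem_insert, Finset.mem_singleton, not_or] at hy'
    exact ⟨x, y, mem_support.1 hx, apply_apply h1 x, mem_support.1 hy, apply_apply h1 y, hy'.1, hy'.2⟩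
  exact exists_even hb (by rw [sign_of_sq h1 hsupp, h2.neg_one_pow]) hd

/-- An element commuting with an involution `t` moving a moved point `x` to a moved point `u`. -/
theorem exists_mover {t : Perm α} (ht : t * t = 1) {x u : α} (hx : t x ≠ x) (hu : t u ≠ u) :
    ∃ c : Perm α, c * t * c⁻¹ = t ∧ c x = u ∧
      ∀ z, z ≠ x → z ≠ t x → z ≠ u → z ≠ t u → c z = z := by
  have htt := apply_apply ht
  by_cases h1 : x = u
  · exact ⟨1, by simp, by simpa using h1, fun z _ _ _ _ => rfl⟩
  by_cases h2 : x = t u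
  · refine ⟨swap u (t u), ?_, by rw [h2, swap_apply_right],
      fun z _ _ h h' => swap_apply_of_ne_of_ne h h'⟩
    rw [mul_inv_eq_iff_eq_mul, Equiv.mul_swap_eq_swap_mul, htt, Equiv.swap_comm]
  have h3 : t x ≠ u := fun e => h2 (by rw [← e, htt])
  have h4 : t x ≠ t u := fun e => h1 (t.injective e)
  refine ⟨swap x u * swap (t x) (t u), ?_, ?_, fun z a b c d => ?_⟩
  · rw [mul_inv_eq_iff_eq_mul, ← mul_assoc t, Equiv.mul_swap_eq_swap_mul t x u,
      mul_assoc (swap (t x) (t u)) t, Equiv.mul_swap_eq_swap_mul t (t x) (t u), htt, htt,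
      ← mul_assoc (swap (t x) (t u))]
    have hc : Commute (swap x u) (swap (t x) (t u)) := by
      refine (Perm.Disjoint.commute fun z => ?_)
      by_cases hz : z = x ∨ z = u
      · refine Or.inr (swap_apply_of_ne_of_ne ?_ ?_)
        · rcases hz with rfl | rfl
          · exact Ne.symm hx
          · exact Ne.symm h3
        · rcases hz with rfl | rfl
          · exact h2
          · exact Ne.symm hu
      · push Not at hz
        exact Or.inl (swap_apply_of_ne_of_ne hz.1 hz.2)
    rw [hc.eq]
  · rw [Perm.mul_apply, swap_apply_of_ne_of_ne (Ne.symm hx) h2, swap_apply_left]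
  · rw [Perm.mul_apply, swap_apply_of_ne_of_ne b d, swap_apply_of_ne_of_ne a c]

/-- An odd number, at least five, of transpositions and enough common moved points. -/
theorem good_of_odd {π : Perm α} {f K : ℕ} (h : Cfg π f f) (hK : f + 2 * K = Fintype.card α)
    (h2 : Odd K) (hK5 : 5 ≤ K) (hf : f + 4 ≤ 2 * K) : Good π := by
  obtain ⟨s, hs, ht, h3, h4⟩ := h
  set t := π * s with htdef
  obtain ⟨k, -, hk, hsupp⟩ := cycleType_of_sq hs
  obtain rfl : k = K := by omega
  obtain ⟨l, -, hl, hlsupp⟩ := cycleType_of_sq ht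
  obtain rfl : l = k := by omega
  have hinter : 4 ≤ (s.support ∩ t.support).card := by
    have h5 := Finset.card_union_add_card_inter s.support t.support
    have := (s.support ∪ t.support).card_le_univ
    omega
  obtain ⟨u, hu⟩ : (s.support ∩ t.support).Nonempty := Finset.card_pos.1 (by omega)
  obtain ⟨v, hv, hv'⟩ := Finset.exists_mem_notMem_of_card_lt_card
    (show ({u, s u, t u} : Finset α).card < (s.support ∩ t.support).card by
      have := Finset.card_le_three (a := u) (b := s u) (c := t u)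
      omega)
  simp only [Finset.mem_inter, mem_support] at hu hv
  simp only [Finset.mem_insert, Finset.mem_singleton, not_or] at hv'
  obtain ⟨hvu, hvsu, hvtu⟩ := hv'
  obtain ⟨b, hb⟩ := isConj_of_fixCard hs ht (h3.trans h4.symm)
  have hbs : ∀ {b : Perm α}, b * s * b⁻¹ = t → ∀ z, t (b z) = b (s z) := fun {b} h z => by
    rw [← h]; simp
  obtain ⟨c, hc, hcu, -⟩ := exists_mover ht (x := b u) (u := u)
    (fun e => hu.1 (b.injective (by rw [← hbs hb, e]))) hu.2
  set b₁ := c * b with hb₁
  have hb1 : b₁ * s * b₁⁻¹ = t := by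
    calc c * b * s * (c * b)⁻¹ = c * (b * s * b⁻¹) * c⁻¹ := by group
      _ = t := by rw [hb, hc]
  have hb1u : b₁ u = u := hcu
  have hb1tu : b₁ (s u) = t u := by rw [← hbs hb1, hb1u]
  obtain ⟨d, hd, hdv, hdfix⟩ := exists_mover ht (x := b₁ v) (u := v)
    (fun e => hv.1 (b₁.injective (by rw [← hbs hb1, e]))) hv.2
  set b₂ := d * b₁ with hb₂
  have hb2 : b₂ * s * b₂⁻¹ = t := by
    calc d * b₁ * s * (d * b₁)⁻¹ = d * (b₁ * s * b₁⁻¹) * d⁻¹ := by group
      _ = t := by rw [hb1, hd]
  have hb2u : b₂ u = u := by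
    rw [hb₂, Perm.mul_apply, hb1u]
    refine hdfix u (fun e => hvu (b₁.injective (by rw [← e, hb1u]))) ?_ (Ne.symm hvu) ?_
    · intro e
      apply hvsu
      apply b₁.injective
      rw [hb1tu, e, apply_apply ht]
    · intro e
      apply hvtu
      rw [e, apply_apply ht]
  have hb2v : b₂ v = v := hdv
  set a := s * swap u v with hadef
  have ha : b₂ * a * b₂⁻¹ = π * a := by
    calc b₂ * (s * swap u v) * b₂⁻¹ = (b₂ * s * b₂⁻¹) * (b₂ * swap u v * b₂⁻¹) := by group
      _ = t * swap (b₂ u) (b₂ v) := by rw [hb2, ← swap_apply_apply]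
      _ = π * a := by rw [hb2u, hb2v, htdef, hadef, mul_assoc]
  have hsign : sign a = 1 := by
    rw [hadef, map_mul, sign_of_sq hs hsupp, h2.neg_one_pow, sign_swap (Ne.symm hvu)]; rfl
  refine exists_even ha hsign ?_
  -- two untouched pairs
  let S : Finset α := s.support \ {u, v, s u, s v}
  have hS : ∀ z ∈ S, a z ≠ z ∧ a (a z) = z ∧ s z = a z := by
    intro z hz
    simp only [S, Finset.mem_sdiff, mem_support, Finset.mem_insert, Finset.mem_singleton, not_or] at hz
    obtain ⟨hzs, h1, h5, h6, h7⟩ := hz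
    have e1 : a z = s z := by rw [hadef, Perm.mul_apply, swap_apply_of_ne_of_ne h1 h5]
    refine ⟨e1 ▸ hzs, ?_, e1.symm⟩
    rw [e1, hadef, Perm.mul_apply, swap_apply_of_ne_of_ne (fun e => h6 (by rw [← e, apply_apply hs]))
      (fun e => h7 (by rw [← e, apply_apply hs])), apply_apply hs]
  have hScard : 2 < S.card := by
    have h5 := Finset.le_card_sdiff ({u, v, s u, s v} : Finset α) s.support
    have := Finset.card_le_four (a := u) (b := v) (c := s u) (d := s v)
    show 2 < (s.support \ {u, v, s u, s v}).card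
    omega
  obtain ⟨x, hx⟩ : S.Nonempty := Finset.card_pos.1 (by omega)
  obtain ⟨y, hy, hy'⟩ := Finset.exists_mem_notMem_of_card_lt_card
    (show ({x, a x} : Finset α).card < S.card by
      have := Finset.card_le_two (a := x) (b := a x)
      omega)
  simp only [Finset.mem_insert, Finset.mem_singleton, not_or] at hy'
  exact ⟨x, y, (hS x hx).1, (hS x hx).2.1, (hS y hy).1, (hS y hy).2.1, hy'.1, hy'.2⟩

end CfsgLib.KnownB.AltOre
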