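import Cfsg.Agent.Lib.KnownB.AltPairThree

/-!
Pairs of `p`-elements of alternating groups generating a non-solvable group: the general case.
-/

set_option autoImplicit false

namespace CfsgLib.KnownB.AltPair

open Equiv Equiv.Perm CfsgLib.KnownB.AltOre CfsgLib.Clifford.AltSchur

theorem relab_append : ∀ A B : List ℕ,
    Relab (Equiv.sumCongr (blockPerm A) (blockPerm B)) (blockPerm (A ++ B)) := by
  intro A B
  induction A with
  | nil =>
    haveI : IsEmpty (Fin ([] : List ℕ).sum) := (inferInstanceAs (IsEmpty (Fin 0)))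
    refine ⟨(Equiv.emptySum (Fin ([] : List ℕ).sum) (Fin B.sum)), fun x => ?_⟩
    rcases x with x | x
    · exact isEmptyElim x
    · rfl
  | cons m A ih =>
    refine ((relab_cons m A).symm.sum (Relab.refl _)).trans (Relab.trans ?_
      (((Relab.refl _).sum ih).trans (relab_cons m _)))
    exact ⟨Equiv.sumAssoc _ _ _, fun x => by rcases x with (x | x) | x <;> simp⟩

theorem relab_cast {a b : ℕ} (h : a = b) (σ : Perm (Fin a)) :
    Relab σ ((finCongr h).permCongr σ) := ⟨finCongr h, fun x => by simp⟩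

theorem relab_rotate_of_eq {a b : ℕ} (h : a = b) : Relab (finRotate a) (finRotate b) := by
  subst h; exact Relab.refl _

theorem relab_single (m : ℕ) : Relab (finRotate m) (blockPerm [m]) := by
  refine Relab.trans ?_ (relab_cons m [])
  haveI : IsEmpty (Fin ([] : List ℕ).sum) := (inferInstanceAs (IsEmpty (Fin 0)))
  exact ⟨(Equiv.sumEmpty _ _).symm, fun x => rfl⟩

theorem relab_pow {α β : Type*} {π : Perm α} {σ : Perm β} (h : Relab π σ) {N : ℕ} (hN : π ^ N = 1) :
    σ ^ N = 1 := by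
  obtain ⟨e, rfl⟩ := h.eq_permCongr
  show (e.permCongrHom π) ^ N = 1
  rw [← map_pow, hN, map_one]

theorem relab_ne_one {α β : Type*} {π : Perm α} {σ : Perm β} (h : Relab π σ) (hπ : π ≠ 1) :
    σ ≠ 1 := fun e => hπ (by simpa using relab_pow h.symm (N := 1) (by simpa using e))

theorem orderOf_finRotate' {m : ℕ} (hm : 1 ≤ m) : orderOf (finRotate m) = m := by
  rcases Nat.lt_or_ge m 2 with h | h
  · obtain rfl : m = 1 := by omega
    rw [Subsingleton.elim (finRotate 1) 1, orderOf_one]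
  · obtain ⟨l, rfl⟩ : ∃ l, m = l + 2 := ⟨m - 2, by omega⟩
    rw [isCycle_finRotate.orderOf, support_finRotate, Finset.card_univ, Fintype.card_fin]

theorem block_pow_iff : ∀ L : List ℕ, (∀ m ∈ L, 1 ≤ m) → ∀ N : ℕ,
    (blockPerm L ^ N = 1 ↔ ∀ m ∈ L, m ∣ N) := by
  intro L
  induction L with
  | nil => intro _ N; exact ⟨fun _ => by simp, fun _ => Equiv.ext fun x => x.elim0⟩
  | cons m L ih =>
    intro h N
    have ih' := ih (fun k hk => h k (List.mem_cons_of_mem _ hk)) N
    have e : blockPerm (m :: L) ^ N = 1 ↔ finRotate m ^ N = 1 ∧ blockPerm L ^ N = 1 := by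
      show (finSumFinEquiv.permCongrHom (sumCongrHom _ _ (finRotate m, blockPerm L))) ^ N = 1 ↔ _
      rw [← map_pow, ← map_pow, map_eq_one_iff _ (MulEquiv.injective _),
        map_eq_one_iff _ sumCongrHom_injective, Prod.pow_mk, Prod.mk_eq_one]
    rw [e, ih', ← orderOf_dvd_iff_pow_eq_one, orderOf_finRotate' (h m (by simp))]
    simp [List.forall_mem_cons]

theorem block_ne_one {L : List ℕ} (h : ∀ m ∈ L, 1 ≤ m) (hne : blockPerm L ≠ 1) :
    ∃ m ∈ L, 1 < m := by
  by_contra hc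
  push Not at hc
  refine hne ?_
  have := (block_pow_iff L h 1).2 fun m hm => by
    rw [show m = 1 by have := h m hm; have := hc m hm; omega]
  rwa [pow_one] at this

theorem split_sorted : ∀ (l : List ℕ) (M : ℕ), l.Pairwise (fun a b => b ∣ a) → (∀ x ∈ l, x ∣ M) →
    M ≤ l.sum → ∃ A B, l = A ++ B ∧ A.sum = M := by
  intro l
  induction l with
  | nil => intro M _ _ h; exact ⟨[], [], rfl, by simp at h ⊢; omega⟩
  | cons x l ih =>
    intro M hp hd hs
    rcases Nat.eq_zero_or_pos M with rfl | hM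
    · exact ⟨[], x :: l, rfl, rfl⟩
    have hx : x ≤ M := Nat.le_of_dvd hM (hd x (by simp))
    obtain ⟨hp1, hp2⟩ := List.pairwise_cons.1 hp
    obtain ⟨A, B, rfl, hA⟩ := ih (M - x) hp2 (fun y hy =>
      Nat.dvd_sub (hd y (List.mem_cons_of_mem _ hy)) (hp1 y hy))
      (by rw [List.sum_cons] at hs; omega)
    exact ⟨x :: A, B, rfl, by rw [List.sum_cons, hA]; omega⟩

theorem exists_prefix {p a : ℕ} {L : List ℕ} (hL : ∀ m ∈ L, ∃ i, i ≤ a ∧ m = p ^ i) (hp : 2 ≤ p)
    (hs : p ^ a ≤ L.sum) (hbig : ∃ m ∈ L, 1 < m) :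
    ∃ x A B, L.Perm ((x :: A) ++ B) ∧ (x :: A).sum = p ^ a ∧ 1 < x ∧ ∀ m ∈ A, m ≤ x := by
  let l := L.insertionSort (· ≥ ·)
  have hperm : l.Perm L := List.perm_insertionSort _ L
  have hsort : l.Pairwise (· ≥ ·) := List.pairwise_insertionSort _ L
  have hmem : ∀ m ∈ l, ∃ i, i ≤ a ∧ m = p ^ i := fun m hm => hL m (hperm.mem_iff.1 hm)
  have hdvd : l.Pairwise (fun x y => y ∣ x) := by
    refine hsort.imp_of_mem ?_
    intro x y hx hy hxy
    obtain ⟨i, -, rfl⟩ := hmem x hx
    obtain ⟨j, -, rfl⟩ := hmem y hy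
    exact pow_dvd_pow _ ((Nat.pow_le_pow_iff_right hp).1 hxy)
  obtain ⟨A, B, hAB, hA⟩ := split_sorted l (p ^ a) hdvd (fun m hm => by
    obtain ⟨i, hi, rfl⟩ := hmem m hm
    exact pow_dvd_pow _ hi) (hperm.sum_eq.symm ▸ hs)
  obtain ⟨x, A, rfl⟩ : ∃ x A', A = x :: A' := by
    rcases A with _ | ⟨x, A⟩
    · have := Nat.one_le_pow a p (by omega)
      simp at hA; omega
    · exact ⟨x, A, rfl⟩
  have hhead : ∀ m ∈ l, m ≤ x := by
    rw [hAB, List.cons_append] at hsort ⊢
    intro m hm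
    rcases List.mem_cons.1 hm with rfl | hm
    · exact le_rfl
    · exact (List.pairwise_cons.1 hsort).1 m hm
  refine ⟨x, A, B, hAB ▸ hperm.symm, hA, ?_, fun m hm => hhead m (by rw [hAB]; simp [hm])⟩
  obtain ⟨m, hm, hm1⟩ := hbig
  exact lt_of_lt_of_le hm1 (hhead m (hperm.mem_iff.2 hm))

theorem odd_cent {L : List ℕ} (hd : ¬ L.Nodup) (hodd : ∀ m ∈ L, Odd m) :
    ∃ c : Perm (Fin L.sum), sign c = -1 ∧ c * blockPerm L = blockPerm L * c := by
  obtain ⟨m, hm⟩ := List.exists_duplicate_iff_not_nodup.2 hd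
  have hm2 : m ∈ L.erase m := by
    rw [← List.count_pos_iff, List.count_erase_self]
    have := List.duplicate_iff_two_le_count.1 hm
    omega
  set L' := (L.erase m).erase m
  have hp : L.Perm (m :: m :: L') :=
    (List.perm_cons_erase hm.mem).trans ((List.perm_cons_erase hm2).cons m)
  have hr : Relab (Equiv.sumCongr (Equiv.sumCongr (finRotate m) (finRotate m)) (blockPerm L'))
      (blockPerm L) := by
    refine Relab.trans (Relab.trans ⟨Equiv.sumAssoc _ _ _, fun x => ?_⟩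
      (((Relab.refl (finRotate m)).sum (relab_cons m L')).trans (relab_cons m _))) (relab_perm hp).symm
    rcases x with (x | x) | x <;> simp
  obtain ⟨e, he⟩ := hr.eq_permCongr
  let s : Perm (Fin m ⊕ Fin m) := Equiv.sumComm _ _
  have hs2 : s * s = 1 := Equiv.ext fun x => by rcases x with x | x <;> rfl
  have hsupp : s.support.card = 2 * m := by
    rw [show s.support = Finset.univ from Finset.eq_univ_iff_forall.2 fun x => by
      rcases x with x | x <;> simp [s], Finset.card_univ, Fintype.card_sum, Fintype.card_fin]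
    omega
  refine ⟨e.permCongr (Equiv.sumCongr s 1), ?_, ?_⟩
  · rw [sign_permCongr, sign_sumCongr, map_one, mul_one, sign_of_sq hs2 hsupp,
      (hodd m hm.mem).neg_one_pow]
  · rw [he]
    show e.permCongrHom _ * e.permCongrHom _ = e.permCongrHom _ * e.permCongrHom _
    rw [← map_mul, ← map_mul]
    congr 1
    exact Equiv.ext fun x => by rcases x with (x | x) | x <;> simp [s]

theorem cycleType_permCongr {α β : Type*} [Fintype α] [DecidableEq α] [Fintype β] [DecidableEq β]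
    (e : α ≃ β) (g : Perm α) : (e.permCongr g).cycleType = g.cycleType := by
  have h : g.extendDomain (e.trans (Equiv.subtypeUnivEquiv fun _ : β => trivial).symm) =
      e.permCongr g := by
    refine Equiv.ext fun x => ?_
    rw [extendDomain_apply_subtype _ _ trivial]
    simp [Equiv.subtypeUnivEquiv]
  rw [← h, cycleType_extendDomain]

/-- A full cycle against a list of cycle lengths. -/
theorem mot_base {p a x : ℕ} {A : List ℕ} (hp : p.Prime) (hp3 : 3 ≤ p)
    (hA : ∀ m ∈ x :: A, ∃ i, m = p ^ i) (hsum : (x :: A).sum = p ^ a) (hM : 5 ≤ p ^ a) (hx : 1 < x)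
    (hmax : ∀ m ∈ A, m ≤ x) : Mot p (finRotate (x :: A).sum) (blockPerm (x :: A)) := by
  have hpo : Odd p := hp.odd_of_ne_two (by omega)
  have hodd : ∀ m ∈ x :: A, Odd m := fun m hm => by
    obtain ⟨i, rfl⟩ := hA m hm
    exact hpo.pow
  rcases eq_or_ne A [] with rfl | hne
  · have h := mot_cycle hp hp3 (M := [x].sum) hsum.symm (by rw [hsum]; exact hM)
    exact h.relab (Relab.refl _)
      ((relab_rotate_of_eq (show [x].sum = x by simp)).trans (relab_single x))
  -- more than one cycle, so one length repeats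
  have hnd : ¬ (x :: A).Nodup := by
    intro hnd
    have hlt : ∀ m ∈ x :: A, ∃ i, i < a ∧ m = p ^ i := fun m hm => by
      obtain ⟨i, rfl⟩ := hA m hm
      refine ⟨i, (Nat.pow_lt_pow_iff_right (by omega : 1 < p)).1 ?_, rfl⟩
      rw [← hsum]
      obtain ⟨y, A', rfl⟩ := List.exists_cons_of_ne_nil hne
      have hy : 1 ≤ y := (hodd y (by simp)).pos
      have hxle : p ^ i ≤ x := by
        rcases List.mem_cons.1 hm with e | e
        · rw [e]
        · exact hmax _ e
      simp only [List.sum_cons]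
      omega
    have h1 : ∑ m ∈ (x :: A).toFinset, m ≤ ∑ m ∈ (Finset.range a).image (p ^ ·), m := by
      refine Finset.sum_le_sum_of_subset fun m hm => ?_
      obtain ⟨i, hi, rfl⟩ := hlt m (List.mem_toFinset.1 hm)
      exact Finset.mem_image.2 ⟨i, Finset.mem_range.2 hi, rfl⟩
    rw [Finset.sum_image fun i _ j _ h => Nat.pow_right_injective hp.two_le h,
      List.sum_toFinset _ hnd, List.map_id', hsum] at h1
    have := Nat.geomSum_lt (s := Finset.range a) hp.two_le fun k hk => Finset.mem_range.1 hk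
    omega
  obtain ⟨c, hc, hcB⟩ := odd_cent hnd hodd
  obtain ⟨i, hi⟩ := hA x (by simp)
  rcases (show 5 ≤ x ∨ x = 3 by
    have hxo := hodd x (by simp)
    obtain ⟨l, hl⟩ := hxo
    omega) with h5 | h3
  · obtain ⟨g, hg⟩ := q_block hpo h5 hne hodd (by rw [hsum]; exact hpo.pow)
    have hm : Mot p (finRotate (x :: A).sum) (blockPerm (x :: A))⁻¹ :=
      Mot.of_odd hg hc (by
        rw [mul_inv_eq_iff_eq_mul.2]
        rw [mul_assoc, hcB, ← mul_assoc, inv_mul_cancel, one_mul])
    exact hm.relab (Relab.refl _) (relab_inv _).symm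
  subst h3
  obtain rfl : p = 3 := by
    have : p ∣ 3 := by
      rw [hi]
      refine dvd_pow_self p fun h0 => ?_
      rw [h0, pow_zero] at hi
      omega
    exact (Nat.prime_dvd_prime_iff_eq hp Nat.prime_three).1 this
  obtain ⟨b, rfl⟩ : ∃ b, a = b + 2 := ⟨a - 2, by
    rcases a with _ | _ | a
    · simp at hM
    · simp at hM
    · omega⟩
  set W := blockPerm (3 :: A) with hW
  have hW3 : W ^ 3 = 1 := (block_pow_iff _ (fun m hm => (hodd m hm).pos) 3).2 fun m hm => by
    obtain ⟨j, rfl⟩ := hA m hm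
    have h3' : 3 ^ j ≤ 3 ^ 1 := by
      rcases List.mem_cons.1 hm with e | e
      · rw [e]; norm_num
      · simpa using hmax _ e
    simpa using pow_dvd_pow 3 ((Nat.pow_le_pow_iff_right (by norm_num)).1 h3')
  have hcy := cycleType_of_cube hW3
  have hne1 : W ≠ 1 := fun e => by
    have := (block_pow_iff _ (fun m hm => (hodd m hm).pos) 1).1 (by rw [pow_one]; exact e) 3 (by simp)
    omega
  have hsup : 1 ≤ W.support.card / 3 := by
    by_contra h
    refine hne1 (cycleType_eq_zero.1 ?_)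
    rw [hcy, show W.support.card / 3 = 0 by omega, Multiset.replicate_zero]
  have hM9 : 9 * 3 ^ b = (3 :: A).sum := by rw [hsum, pow_add]; ring
  have hsup' : W.support.card / 3 ≤ 3 * 3 ^ b := by
    have := W.support.card_le_univ
    rw [Fintype.card_fin] at this
    omega
  obtain ⟨w, hw, hQ⟩ := q_three (Nat.one_le_pow b 3 (by norm_num)) hsup hsup'
  have hu : Relab (classRot (3 ^ b)) (finRotate (3 :: A).sum) :=
    (classRot_relab _).trans (relab_rotate_of_eq hM9)
  obtain ⟨e, he⟩ := hu.eq_permCongr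
  have hwW : Relab (e.permCongr w) W := relab_of_cycleType (by rw [cycleType_permCongr, hw, hcy])
  obtain ⟨g, hg⟩ : ∃ g : Perm (Fin (3 :: A).sum), g * W * g⁻¹ = e.permCongr w :=
    isConj_iff.1 (isConj_iff_cycleType_eq.2 (by rw [cycleType_permCongr, hw, hcy]))
  have hQ' : Q 3 (finRotate (3 :: A).sum) (g * W * g⁻¹) := by
    rw [hg, he]
    exact Q.of_injective e.permCongrHom.toMonoidHom e.permCongrHom.injective hQ.1 hQ.2
  exact Mot.of_odd hQ' hc hcB

theorem mot_oriented {p a : ℕ} {L K : List ℕ} (hp : p.Prime) (hp3 : 3 ≤ p)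
    (hK : ∀ m ∈ K, ∃ i, i ≤ a ∧ m = p ^ i) (hM : p ^ a ∈ L) (hM5 : 5 ≤ p ^ a) (hsum : L.sum = K.sum)
    (hne : ∃ m ∈ K, 1 < m) :
    Mot p (blockPerm L) ((finCongr hsum.symm).permCongr (blockPerm K)) := by
  obtain ⟨x, A, B, hperm, hA, hx, hmax⟩ :=
    exists_prefix hK hp.two_le (hsum ▸ List.le_sum_of_mem hM) hne
  have hmem : ∀ m ∈ x :: A, ∃ i, m = p ^ i := fun m hm => by
    obtain ⟨i, -, e⟩ := hK m (hperm.mem_iff.2 (List.mem_append_left _ hm))
    exact ⟨i, e⟩
  have hL := List.perm_cons_erase hM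
  set L' := L.erase (p ^ a)
  have hB : L'.sum = B.sum := by
    have h1 := hL.sum_eq
    have h2 := hperm.sum_eq
    simp only [List.sum_append, List.sum_cons] at h1 h2 hA
    omega
  have hb := (mot_base hp hp3 hmem hA hM5 hx hmax).sum
    ((finCongr hB).permCongr (blockPerm L')) (blockPerm B)
  refine hb.relab ?_
    (((relab_append _ _).trans (relab_perm hperm).symm).trans (relab_cast _ _))
  refine ((relab_rotate_of_eq hA).sum ?_).trans ((relab_cons _ L').trans (relab_perm hL).symm)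
  exact (relab_cast hB _).symm

theorem mot_of_lists {p : ℕ} {L K : List ℕ} (hp : p.Prime) (hp3 : 3 ≤ p)
    (hL : ∀ m ∈ L, ∃ i, m = p ^ i) (hK : ∀ m ∈ K, ∃ i, m = p ^ i) (hn : 5 ≤ L.sum)
    (hsum : L.sum = K.sum) (hLne : ∃ m ∈ L, 1 < m) (hKne : ∃ m ∈ K, 1 < m) :
    Mot p (blockPerm L) ((finCongr hsum.symm).permCongr (blockPerm K)) := by
  obtain ⟨M, hMem, hmax⟩ : ∃ M ∈ L ++ K, ∀ m ∈ L ++ K, m ≤ M := by
    obtain ⟨m₀, hm₀, -⟩ := hLne
    obtain ⟨M, hM, hmax⟩ := (L ++ K).toFinset.exists_max_image id ⟨m₀, by simp [hm₀]⟩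
    exact ⟨M, List.mem_toFinset.1 hM, fun m hm => hmax m (List.mem_toFinset.2 hm)⟩
  obtain ⟨a, rfl⟩ : ∃ i, M = p ^ i := by
    rcases List.mem_append.1 hMem with h | h
    exacts [hL _ h, hK _ h]
  have hle : ∀ {N : List ℕ}, (∀ m ∈ N, ∃ i, m = p ^ i) → (∀ m ∈ N, m ∈ L ++ K) →
      ∀ m ∈ N, ∃ i, i ≤ a ∧ m = p ^ i := fun {N} hN hsub m hm => by
    obtain ⟨i, rfl⟩ := hN m hm
    exact ⟨i, (Nat.pow_le_pow_iff_right hp.two_le).1 (hmax _ (hsub _ hm)), rfl⟩
  by_cases h5 : 5 ≤ p ^ a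
  · rcases List.mem_append.1 hMem with h | h
    · exact mot_oriented hp hp3 (hle hK fun m hm => List.mem_append_right _ hm) h h5 hsum hKne
    · exact (mot_oriented hp hp3 (hle hL fun m hm => List.mem_append_left _ hm) h h5 hsum.symm hLne).symm.relab
        (relab_cast hsum _).symm (relab_cast hsum.symm _)
  -- only triangles
  have hpM : p ≤ p ^ a := by
    obtain ⟨m, hm, hm1⟩ := hLne
    obtain ⟨i, rfl⟩ := hL m hm
    refine le_trans (Nat.le_self_pow ?_ p) (hmax _ (List.mem_append_left _ hm))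
    rintro rfl
    simp at hm1
  obtain rfl : p = 3 := by
    have : p ≤ 4 := by omega
    have : p ≠ 4 := fun e => by rw [e] at hp; norm_num at hp
    omega
  have hrep : ∀ N : List ℕ, (∀ m ∈ N, m ∈ L ++ K) → (∀ m ∈ N, ∃ i, m = 3 ^ i) →
      ∃ c d, N.Perm (List.replicate c 3 ++ List.replicate d 1) := by
    intro N hsub hN
    refine ⟨N.count 3, N.count 1, List.perm_iff_count.2 fun v => ?_⟩
    by_cases h3 : v = 3
    · subst h3; simp [List.count_replicate]
    by_cases h1 : v = 1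
    · subst h1; simp [List.count_replicate]
    rw [List.count_eq_zero.2 fun hv => ?_]
    · simp [List.count_replicate, Ne.symm h3, Ne.symm h1]
    · obtain ⟨i, rfl⟩ := hN v hv
      have hle := hmax _ (hsub _ hv)
      rcases i with _ | _ | i
      · simp at h1
      · simp at h3
      · have : 9 ≤ 3 ^ (i + 1 + 1) := by
          calc 9 = 3 ^ 2 := rfl
            _ ≤ _ := Nat.pow_le_pow_right (by norm_num) (by omega)
        omega
  have hc : ∀ {N : List ℕ} {c d : ℕ}, (∃ m ∈ N, 1 < m) →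
      N.Perm (List.replicate c 3 ++ List.replicate d 1) → 1 ≤ c ∧ N.sum = 3 * c + d := by
    rintro N c d ⟨m, hm, hm1⟩ hN
    refine ⟨?_, by rw [hN.sum_eq]; simp; ring⟩
    have h := hN.mem_iff.1 hm
    simp [List.mem_replicate] at h
    omega
  obtain ⟨c, d, hLp⟩ := hrep L (fun m hm => List.mem_append_left _ hm) hL
  obtain ⟨c', d', hKp⟩ := hrep K (fun m hm => List.mem_append_right _ hm) hK
  obtain ⟨hc1, hLs⟩ := hc hLne hLp
  obtain ⟨hc1', hKs⟩ := hc hKne hKp
  have mk : ∀ (P S R T : List ℕ) (h : R.sum = P.sum),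
      Mot 3 (blockPerm P) ((finCongr h).permCongr (blockPerm R)) →
      L.Perm (P ++ S) → K.Perm (R ++ T) → ∀ hST : T.sum = S.sum,
      Mot 3 (blockPerm L) ((finCongr hsum.symm).permCongr (blockPerm K)) :=
    fun P S R T h hm hP hR hST =>
      (hm.sum (blockPerm S) ((finCongr hST).permCongr (blockPerm T))).relab
        ((relab_append _ _).trans (relab_perm hP).symm)
        (((((relab_cast h _).symm.sum (relab_cast hST _).symm).trans (relab_append _ _)).trans
          (relab_perm hR).symm).trans (relab_cast _ _))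
  have two : ∀ {e f : ℕ}, 2 ≤ e →
      (List.replicate e 3 ++ List.replicate f 1).Perm ([3, 3] ++ (List.replicate (e - 2) 3 ++ List.replicate f 1)) := by
    intro e f he
    obtain ⟨e, rfl⟩ : ∃ e', e = e' + 2 := ⟨e - 2, by omega⟩
    simp [List.replicate_succ]
  have one3 : ∀ {f : ℕ}, 3 ≤ f →
      (List.replicate 1 3 ++ List.replicate f 1).Perm ([3, 1, 1, 1] ++ List.replicate (f - 3) 1) := by
    intro f hf
    obtain ⟨f, rfl⟩ : ∃ f', f = f' + 3 := ⟨f - 3, by omega⟩
    simp [List.replicate_succ]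
  have one2 : ∀ {f : ℕ}, 2 ≤ f →
      (List.replicate 1 3 ++ List.replicate f 1).Perm ([3, 1, 1] ++ List.replicate (f - 2) 1) := by
    intro f hf
    obtain ⟨f, rfl⟩ : ∃ f', f = f' + 2 := ⟨f - 2, by omega⟩
    simp [List.replicate_succ]
  rcases Nat.lt_or_ge c 2 with h | h <;> rcases Nat.lt_or_ge c' 2 with h' | h'
  · obtain rfl : c = 1 := by omega
    obtain rfl : c' = 1 := by omega
    exact mk _ _ _ _ rfl (mot_311.relab (Relab.refl _) (relab_cast rfl _)) (hLp.trans (one2 (by omega))) (hKp.trans (one2 (by omega))) (by simp; omega)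
  · obtain rfl : c = 1 := by omega
    exact mk [3, 1, 1, 1] (List.replicate (d - 3) 1) [3, 3] (List.replicate (c' - 2) 3 ++ List.replicate d' 1) rfl (mot_3111_33.relab (Relab.refl _) (relab_cast rfl _)) (hLp.trans (one3 (by omega))) (hKp.trans (two h')) (by simp; omega)
  · obtain rfl : c' = 1 := by omega
    exact mk [3, 3] (List.replicate (c - 2) 3 ++ List.replicate d 1) [3, 1, 1, 1] (List.replicate (d' - 3) 1) rfl (mot_3111_33.symm.relab (Relab.refl _) (relab_cast rfl _)) (hLp.trans (two h)) (hKp.trans (one3 (by omega))) (by simp; omega)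
  · exact mk _ _ _ _ rfl (mot_33.relab (Relab.refl _) (relab_cast rfl _)) (hLp.trans (two h)) (hKp.trans (two h')) (by simp; omega)

/-- Two `p`-elements of an alternating group. -/
theorem mot {n p k l : ℕ} (hn : 5 ≤ n) (hp : p.Prime) (hp3 : 3 ≤ p) {u w : Perm (Fin n)}
    (hu : u ≠ 1) (hw : w ≠ 1) (hu' : u ^ (p ^ k) = 1) (hw' : w ^ (p ^ l) = 1) : Mot p u w := by
  obtain ⟨L, hL1, hLs, hLr⟩ := exists_relab n u (Fintype.card_fin n)
  obtain ⟨K, hK1, hKs, hKr⟩ := exists_relab n w (Fintype.card_fin n)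
  have hL : ∀ m ∈ L, ∃ i, m = p ^ i := fun m hm => by
    obtain ⟨i, -, e⟩ := (Nat.dvd_prime_pow hp).1 ((block_pow_iff L hL1 _).1 (relab_pow hLr hu') m hm)
    exact ⟨i, e⟩
  have hK : ∀ m ∈ K, ∃ i, m = p ^ i := fun m hm => by
    obtain ⟨i, -, e⟩ := (Nat.dvd_prime_pow hp).1 ((block_pow_iff K hK1 _).1 (relab_pow hKr hw') m hm)
    exact ⟨i, e⟩
  exact (mot_of_lists hp hp3 hL hK (by omega) (by omega) (block_ne_one hL1 (relab_ne_one hLr hu))
    (block_ne_one hK1 (relab_ne_one hKr hw))).relab hLr.symm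
    ((relab_cast (hKs.trans hLs.symm) _).symm.trans hKr.symm)

/-- The statement inside the alternating group. -/
theorem alternating_pair {n p : ℕ} (hn : 5 ≤ n) (hp : p.Prime) (hp3 : 3 ≤ p)
    (u w : alternatingGroup (Fin n)) (hu : u ≠ 1) (hw : w ≠ 1)
    (hu' : ∃ k : ℕ, orderOf u = p ^ k) (hw' : ∃ k : ℕ, orderOf w = p ^ k) :
    ∃ g : alternatingGroup (Fin n), (¬ ∃ k : ℕ, orderOf (u * (g * w * g⁻¹)) = p ^ k) ∧
      ¬ Group.IsSolvable ↥(Subgroup.closure ({u, g * w * g⁻¹} : Set (alternatingGroup (Fin n)))) := by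
  obtain ⟨k, hk⟩ := hu'
  obtain ⟨l, hl⟩ := hw'
  have hu2 : (u : Perm (Fin n)) ^ (p ^ k) = 1 := by
    rw [← SubgroupClass.coe_pow, ← hk, pow_orderOf_eq_one]; rfl
  have hw2 : (w : Perm (Fin n)) ^ (p ^ l) = 1 := by
    rw [← SubgroupClass.coe_pow, ← hl, pow_orderOf_eq_one]; rfl
  obtain ⟨g, hg, hQ⟩ := mot hn hp hp3 (fun e => hu (Subtype.ext e)) (fun e => hw (Subtype.ext e))
    hu2 hw2 1
  let g' : alternatingGroup (Fin n) := ⟨g, mem_alternatingGroup.2 hg⟩
  obtain ⟨h1, h2⟩ := hQ.map (alternatingGroup (Fin n)).subtype u (g' * w * g'⁻¹) rfl rfl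
  exact ⟨g', fun ⟨m, hm⟩ => h1 m (hm ▸ pow_orderOf_eq_one _), h2⟩

end CfsgLib.KnownB.AltPair
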