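import Cfsg.Agent.Lib.KnownB.AltOre
import Cfsg.Agent.Lib.Clifford.AltSchur

/-!
Pairs of `p`-elements of alternating groups generating a non-solvable group: definitions, criteria
and small cases.
-/

set_option autoImplicit false

namespace CfsgLib.KnownB.AltPair

open Equiv Equiv.Perm CfsgLib.KnownB.AltOre CfsgLib.Clifford.AltSchur

variable {α β : Type*}

/-- The product is no `p`-element and the pair generates a non-solvable group. -/
def Q (p : ℕ) (u w : Perm α) : Prop :=
  (∀ k : ℕ, (u * w) ^ (p ^ k) ≠ 1) ∧ ¬ Group.IsSolvable (Subgroup.closure ({u, w} : Set (Perm α)))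

/-- Conjugators of both parities give `Q`. -/
def Mot [Fintype α] [DecidableEq α] (p : ℕ) (u w : Perm α) : Prop :=
  ∀ ε : ℤˣ, ∃ g : Perm α, sign g = ε ∧ Q p u (g * w * g⁻¹)

/-! ### Solvability along homomorphisms -/

theorem not_solvable_map {G H : Type*} [Group G] [Group H] (f : G →* H) (K : Subgroup G)
    (h : ¬ Group.IsSolvable (K.map f)) : ¬ Group.IsSolvable K := fun hK =>
  h (Group.isSolvable_of_surjective (f.subgroupMap_surjective K))

theorem not_solvable_injective_map {G H : Type*} [Group G] [Group H] (f : G →* H)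
    (hf : Function.Injective f) (K : Subgroup G) (h : ¬ Group.IsSolvable K) :
    ¬ Group.IsSolvable (K.map f) := fun hK =>
  h (Group.isSolvable_of_isSolvable_injective (f := (K.equivMapOfInjective f hf).toMonoidHom)
    (MulEquiv.injective _))

theorem Q.map {G : Type*} [Group G] {p : ℕ} {u w : Perm α} (f : G →* Perm α) (a b : G)
    (ha : f a = u) (hb : f b = w) (h : Q p u w) :
    (∀ k : ℕ, (a * b) ^ (p ^ k) ≠ 1) ∧ ¬ Group.IsSolvable (Subgroup.closure ({a, b} : Set G)) := by
  refine ⟨fun k hk => h.1 k ?_, not_solvable_map f _ ?_⟩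
  · rw [← ha, ← hb, ← map_mul, ← map_pow, hk, map_one]
  · rw [MonoidHom.map_closure, Set.image_pair, ha, hb]
    exact h.2

theorem Q.of_injective {G : Type*} [Group G] {p : ℕ} (f : G →* Perm α) (hf : Function.Injective f)
    {a b : G} (h1 : ∀ k : ℕ, (a * b) ^ (p ^ k) ≠ 1)
    (h2 : ¬ Group.IsSolvable (Subgroup.closure ({a, b} : Set G))) : Q p (f a) (f b) := by
  refine ⟨fun k hk => h1 k (hf (by rw [map_pow, map_mul, hk, map_one])), ?_⟩
  have h := not_solvable_injective_map f hf _ h2
  rwa [MonoidHom.map_closure, Set.image_pair] at h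

theorem Q.conj {p : ℕ} {u w : Perm α} (h : Q p u w) (g : Perm α) :
    Q p (g * u * g⁻¹) (g * w * g⁻¹) :=
  Q.of_injective (MulAut.conj g).toMonoidHom (MulEquiv.injective _) h.1 h.2

theorem Q.symm {p : ℕ} {u w : Perm α} (h : Q p u w) : Q p w u := by
  refine ⟨fun k hk => h.1 k ?_, by rw [Set.pair_comm]; exact h.2⟩
  have e : u * w = w⁻¹ * (w * u) * w⁻¹⁻¹ := by group
  rw [e, conj_pow, hk]
  group

/-! ### Transport -/

variable [Fintype α] [DecidableEq α]

theorem Mot.symm {p : ℕ} {u w : Perm α} (h : Mot p u w) : Mot p w u := by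
  intro ε
  obtain ⟨g, hg, hQ⟩ := h ε
  refine ⟨g⁻¹, by rw [map_inv, hg, Int.units_inv_eq_self], ?_⟩
  have h' := (hQ.conj g⁻¹).symm
  rwa [show g⁻¹ * (g * w * g⁻¹) * g⁻¹⁻¹ = w by group] at h'

theorem Mot.relab [Fintype β] [DecidableEq β] {p : ℕ} {u w : Perm α} {u' w' : Perm β}
    (h : Mot p u w) (hu : Relab u u') (hw : Relab w w') : Mot p u' w' := by
  intro ε
  obtain ⟨e, rfl⟩ := hu.eq_permCongr
  obtain ⟨e', rfl⟩ := hw.eq_permCongr
  let c : Perm β := e'.symm.trans e
  obtain ⟨g, hg, hQ⟩ := h (ε * sign c)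
  refine ⟨e.permCongr g * c, ?_, ?_⟩
  · rw [map_mul, sign_permCongr, hg, mul_assoc, Int.units_mul_self, mul_one]
  · have key : e.permCongr g * c * e'.permCongr w * (e.permCongr g * c)⁻¹ =
        e.permCongrHom (g * w * g⁻¹) := by
      rw [mul_inv_eq_iff_eq_mul]
      refine Equiv.ext fun x => ?_
      simp [c, Equiv.permCongrHom, Perm.mul_def, Equiv.permCongr_def]
    rw [key]
    exact Q.of_injective e.permCongrHom.toMonoidHom e.permCongrHom.injective hQ.1 hQ.2

theorem Mot.sum [Fintype β] [DecidableEq β] {p : ℕ} {u w : Perm α} (h : Mot p u w)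
    (u' w' : Perm β) : Mot p (Equiv.sumCongr u u') (Equiv.sumCongr w w') := by
  intro ε
  obtain ⟨g, hg, hQ⟩ := h ε
  refine ⟨Equiv.sumCongr g 1, by rw [sign_sumCongr, hg, map_one, mul_one], ?_⟩
  have e : Equiv.sumCongr g (1 : Perm β) * Equiv.sumCongr w w' * (Equiv.sumCongr g 1)⁻¹ =
      sumCongrHom α β (g * w * g⁻¹, w') := by
    rw [sumCongr_inv, sumCongr_mul, sumCongr_mul, inv_one, one_mul, mul_one]
    rfl
  rw [e]
  have h' := hQ.map (MonoidHom.fst (Perm α) (Perm β)) (u, u') (g * w * g⁻¹, w') rfl rfl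
  exact Q.of_injective (sumCongrHom α β) sumCongrHom_injective h'.1 h'.2

/-- An odd element centralizing `w` makes parity irrelevant. -/
theorem Mot.of_odd {p : ℕ} {u w g : Perm α} (h : Q p u (g * w * g⁻¹)) {c : Perm α}
    (hc : sign c = -1) (hcw : c * w = w * c) : Mot p u w := by
  intro ε
  by_cases hg : sign g = ε
  · exact ⟨g, hg, h⟩
  · refine ⟨g * c, ?_, ?_⟩
    · rw [map_mul, hc]
      rcases Int.units_eq_one_or ε with rfl | rfl <;>
        rcases Int.units_eq_one_or (sign g) with h' | h' <;> rw [h'] at hg ⊢ <;>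
          first | rfl | exact absurd rfl hg
    · rwa [show g * c * w * (g * c)⁻¹ = g * w * g⁻¹ by
        rw [mul_assoc g, hcw]; group]

/-! ### A criterion through the abelianisation -/

theorem eq_one_of_coprime_pow {G : Type*} [Group G] {x : G} {a N : ℕ} (h : Nat.Coprime a N)
    (ha : x ^ a = 1) (hN : x ^ N = 1) : x = 1 := by
  simpa [h.gcd_eq_one] using pow_gcd_eq_one.2 ⟨ha, hN⟩

theorem Q.of_crit {p a b N i j : ℕ} {u w : Perm α} (hp : p.Prime) (hN : ¬ p ∣ N)
    (hij : ¬ p ∣ ((i : ℤ) - j).natAbs) (hu : u ^ (p ^ a) = 1) (hw : w ^ (p ^ b) = 1)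
    (hne : u * w ≠ 1) (hx : (u * w) ^ N = 1) (hy : (u ^ i * w ^ j) ^ N = 1) : Q p u w := by
  have hcop : ∀ k, Nat.Coprime (p ^ k) N := fun k => Nat.Coprime.pow_left _ (hp.coprime_iff_not_dvd.2 hN)
  refine ⟨fun k hk => hne (eq_one_of_coprime_pow (hcop k) hk hx), fun hs => ?_⟩
  set H := Subgroup.closure ({u, w} : Set (Perm α)) with hH
  have huH : u ∈ H := Subgroup.subset_closure (by simp)
  have hwH : w ∈ H := Subgroup.subset_closure (by simp)
  let A : H →* Abelianization H := Abelianization.of
  set U := A ⟨u, huH⟩ with hU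
  set W := A ⟨w, hwH⟩ with hW
  have hUp : ∀ k, a ≤ k → U ^ (p ^ k) = 1 := fun k hk => by
    rw [hU, ← map_pow, show (⟨u, huH⟩ : H) ^ (p ^ k) = 1 from Subtype.ext (by
      rw [SubgroupClass.coe_pow, ← Nat.add_sub_cancel' hk, pow_add, pow_mul, hu, one_pow]; rfl),
      map_one]
  have hWp : ∀ k, b ≤ k → W ^ (p ^ k) = 1 := fun k hk => by
    rw [hW, ← map_pow, show (⟨w, hwH⟩ : H) ^ (p ^ k) = 1 from Subtype.ext (by
      rw [SubgroupClass.coe_pow, ← Nat.add_sub_cancel' hk, pow_add, pow_mul, hw, one_pow]; rfl),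
      map_one]
  have hUW : U * W = 1 := by
    refine eq_one_of_coprime_pow (hcop (a + b)) ?_ ?_
    · rw [mul_pow, hUp _ (by omega), hWp _ (by omega), one_mul]
    · rw [hU, hW, ← map_mul, ← map_pow, show ((⟨u, huH⟩ : H) * ⟨w, hwH⟩) ^ N = 1 from
        Subtype.ext (by simpa using hx), map_one]
  have hW' : W = U⁻¹ := eq_inv_of_mul_eq_one_right hUW
  have h2 : U ^ ((i : ℤ) - j) = 1 := by
    have h : U ^ i * W ^ j = 1 := by
      refine eq_one_of_coprime_pow (hcop (a + b)) ?_ ?_
      · rw [mul_pow, ← pow_mul, ← pow_mul, mul_comm i, mul_comm j, pow_mul, pow_mul,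
          hUp _ (by omega), hWp _ (by omega), one_pow, one_pow, one_mul]
      · rw [hU, hW, ← map_pow, ← map_pow, ← map_mul, ← map_pow,
          show ((⟨u, huH⟩ : H) ^ i * ⟨w, hwH⟩ ^ j) ^ N = 1 from Subtype.ext (by simpa using hy),
          map_one]
    rwa [hW', inv_pow, ← zpow_natCast, ← zpow_natCast, ← zpow_neg, ← zpow_add, ← sub_eq_add_neg] at h
  have hU1 : U = 1 := by
    rw [← pow_natAbs_eq_one] at h2
    exact eq_one_of_coprime_pow (Nat.Coprime.pow_left _ (hp.coprime_iff_not_dvd.2 hij))
      (hUp a le_rfl) h2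
  have hW1 : W = 1 := by rw [hW', hU1, inv_one]
  have htop : commutator H = ⊤ := by
    rw [← Abelianization.ker_of, eq_top_iff]
    rintro ⟨x, hx'⟩ -
    rw [MonoidHom.mem_ker]
    induction hx' using Subgroup.closure_induction with
    | mem y hy =>
      rcases hy with rfl | rfl
      · exact hU1
      · exact hW1
    | one => exact map_one _
    | mul y z hy hz iy iz =>
      show A (⟨y, hy⟩ * ⟨z, hz⟩) = 1
      rw [map_mul, iy, iz, mul_one]
    | inv y hy iy =>
      show A (⟨y, hy⟩)⁻¹ = 1
      rw [map_inv, iy, inv_one]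
  haveI : Nontrivial H := ⟨⟨⟨u * w, mul_mem huH hwH⟩, 1, fun e => hne (congrArg Subtype.val e)⟩⟩
  haveI : Group.IsSolvable H := hs
  exact absurd htop (Group.IsSolvable.commutator_lt_top_of_nontrivial H).ne

/-! ### Groups containing enough three cycles -/

theorem alternating_not_solvable {M : ℕ} (hM : 5 ≤ M) :
    ¬ Group.IsSolvable (alternatingGroup (Fin M)) := fun h => by
  haveI := h
  haveI : Group.IsSolvable ℤˣ := inferInstance
  exact Equiv.Perm.not_isSolvable (Fin M) (by simpa using hM)
    (Group.isSolvable_of_ker_le_range (alternatingGroup (Fin M)).subtype (Perm.sign (α := Fin M))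
      (by rw [Subgroup.range_subtype]; exact le_of_eq rfl))

theorem not_solvable_of_consecutive {M : ℕ} (hM : 5 ≤ M) {H : Subgroup (Perm (Fin M))} (f : ℕ → Fin M)
    (hf : ∀ i j, i < M → j < M → f i = f j → i = j)
    (hc : ∀ k, k + 3 ≤ M → c3 (f k) (f (k + 1)) (f (k + 2)) ∈ H) : ¬ Group.IsSolvable H := by
  have hne : ∀ {i j}, i < M → j < M → i ≠ j → f i ≠ f j := fun hi hj h e => h (hf _ _ hi hj e)
  have step : ∀ k, 2 ≤ k → k < M → c3 (f 0) (f 1) (f k) ∈ H := by
    intro k hk
    induction k, hk using Nat.le_induction with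
    | base => intro h; exact hc 0 (by omega)
    | succ k hk ih =>
      intro hk1
      have h1 := ih (by omega)
      obtain ⟨x, hx, e0, e1, ek⟩ : ∃ x ∈ H, x (f 0) = f 0 ∧ x (f 1) = f 1 ∧ x (f k) = f (k + 1) := by
        rcases Nat.lt_or_ge k 3 with h | h
        · obtain rfl : k = 2 := by omega
          refine ⟨_, hc 2 (by omega), ?_, ?_, ?_⟩
          · exact c3_other (hne (by omega) (by omega) (by omega)) (hne (by omega) (by omega) (by omega))
              (hne (by omega) (by omega) (by omega))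
          · exact c3_other (hne (by omega) (by omega) (by omega)) (hne (by omega) (by omega) (by omega))
              (hne (by omega) (by omega) (by omega))
          · exact c3_fst (hne (by omega) (by omega) (by omega)) (hne (by omega) (by omega) (by omega))
        · obtain ⟨l, rfl⟩ : ∃ l, k = l + 1 := ⟨k - 1, by omega⟩
          refine ⟨_, hc l (by omega), ?_, ?_, ?_⟩
          · exact c3_other (hne (by omega) (by omega) (by omega)) (hne (by omega) (by omega) (by omega))
              (hne (by omega) (by omega) (by omega))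
          · exact c3_other (hne (by omega) (by omega) (by omega)) (hne (by omega) (by omega) (by omega))
              (hne (by omega) (by omega) (by omega))
          · exact c3_snd (hne (by omega) (by omega) (by omega)) (hne (by omega) (by omega) (by omega))
      have h2 := mul_mem (mul_mem hx h1) (inv_mem hx)
      rwa [c3_conj, e0, e1, ek] at h2
  have hsurj : ∀ i : Fin M, ∃ k, k < M ∧ f k = i := by
    intro i
    obtain ⟨k, hk⟩ := (Finite.injective_iff_surjective (f := fun k : Fin M => f k)).1
      (fun a b e => Fin.ext (hf _ _ a.2 b.2 e)) i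
    exact ⟨k, k.2, hk⟩
  have hle : alternatingGroup (Fin M) ≤ H := by
    refine three_cycle_mem_of_gens (hne (i := 0) (j := 1) (by omega) (by omega) (by omega))
      fun i h0 h1 => ?_
    obtain ⟨k, hk, rfl⟩ := hsurj i
    refine step k ?_ hk
    by_contra h
    rcases (show k = 0 ∨ k = 1 by omega) with rfl | rfl
    exacts [h0 rfl, h1 rfl]
  intro hs
  haveI := hs
  exact alternating_not_solvable hM
    (Group.isSolvable_of_isSolvable_injective (Subgroup.inclusion_injective hle))

open Fin.NatCast in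
/-- A rotation and a three cycle with gaps two, in odd degree. -/
theorem not_solvable_of_gap {M : ℕ} [NeZero M] (hM : 5 ≤ M) (hodd : Odd M)
    {H : Subgroup (Perm (Fin M))} (hu : finRotate M ∈ H) (a : Fin M)
    (h : c3 a (a + 2) (a + 4) ∈ H) : ¬ Group.IsSolvable H := by
  have hrot : ∀ (j : ℕ) (x : Fin M), (finRotate M ^ j) x = x + (j : Fin M) := by
    intro j
    induction j with
    | zero => simp
    | succ j ih =>
      intro x
      rw [pow_succ', Perm.mul_apply, ih, finRotate_apply]
      push_cast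
      abel
  refine not_solvable_of_consecutive hM (fun k => a + ((2 * k : ℕ) : Fin M)) ?_ ?_
  · intro i j hi hj e
    have e' := congrArg Fin.val (add_left_cancel e)
    rw [Fin.val_natCast, Fin.val_natCast] at e'
    have h2 : i ≡ j [MOD M] := Nat.ModEq.cancel_left_of_coprime
      (Nat.coprime_two_right.2 hodd) e'
    exact Nat.ModEq.eq_of_lt_of_lt h2 hi hj
  · intro k _
    have h2 := mul_mem (mul_mem (pow_mem hu (2 * k)) h) (inv_mem (pow_mem hu (2 * k)))
    rw [c3_conj, hrot, hrot, hrot] at h2
    rw [show 2 * (k + 1) = 2 * k + 2 by ring, show 2 * (k + 2) = 2 * k + 4 by ring]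
    convert h2 using 2 <;> simp [Nat.cast_add, add_assoc, add_comm, add_left_comm]

/-! ### Small cases -/

theorem mot_5 : Mot 5 (finRotate 5) (finRotate 5) := by
  intro ε
  rcases Int.units_eq_one_or ε with rfl | rfl
  · exact ⟨swap 1 2 * swap 3 4, by decide +kernel,
      Q.of_crit (a := 1) (b := 1) (N := 6) (i := 1) (j := 2) Nat.prime_five (by decide) (by decide)
        (by decide +kernel) (by decide +kernel) (by decide +kernel) (by decide +kernel)
        (by decide +kernel)⟩
  · exact ⟨swap 3 4, by decide +kernel,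
      Q.of_crit (a := 1) (b := 1) (N := 6) (i := 1) (j := 3) Nat.prime_five (by decide) (by decide)
        (by decide +kernel) (by decide +kernel) (by decide +kernel) (by decide +kernel)
        (by decide +kernel)⟩

theorem mot_7 : Mot 7 (finRotate 7) (finRotate 7) := by
  intro ε
  rcases Int.units_eq_one_or ε with rfl | rfl
  · exact ⟨swap 3 4 * swap 5 6, by decide +kernel,
      Q.of_crit (a := 1) (b := 1) (N := 15) (i := 1) (j := 4) (by norm_num) (by decide) (by decide)
        (by decide +kernel) (by decide +kernel) (by decide +kernel) (by decide +kernel)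
        (by decide +kernel)⟩
  · exact ⟨swap 5 6, by decide +kernel,
      Q.of_crit (a := 1) (b := 1) (N := 6) (i := 1) (j := 2) (by norm_num) (by decide) (by decide)
        (by decide +kernel) (by decide +kernel) (by decide +kernel) (by decide +kernel)
        (by decide +kernel)⟩

theorem mot_311 : Mot (α := Fin 5) 3 (blockPerm [3, 1, 1]) (blockPerm [3, 1, 1]) :=
  Mot.of_odd (g := (swap 1 3 * swap 2 4 : Perm (Fin 5))) (c := (swap 3 4 : Perm (Fin 5)))
    (Q.of_crit (a := 1) (b := 1) (N := 5) (i := 1) (j := 2) Nat.prime_three (by decide) (by decide)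
      (by decide +kernel) (by decide +kernel) (by decide +kernel) (by decide +kernel)
      (by decide +kernel))
    (by decide +kernel) (by decide +kernel)

theorem mot_3111_33 : Mot (α := Fin 6) 3 (blockPerm [3, 1, 1, 1]) (blockPerm [3, 3]) :=
  Mot.of_odd (g := (swap 2 3 : Perm (Fin 6)))
    (c := (swap 0 3 * swap 1 4 * swap 2 5 : Perm (Fin 6)))
    (Q.of_crit (a := 1) (b := 1) (N := 20) (i := 1) (j := 2) Nat.prime_three (by decide) (by decide)
      (by decide +kernel) (by decide +kernel) (by decide +kernel) (by decide +kernel)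
      (by decide +kernel))
    (by decide +kernel) (by decide +kernel)

theorem mot_33 : Mot (α := Fin 6) 3 (blockPerm [3, 3]) (blockPerm [3, 3]) :=
  Mot.of_odd (g := (swap 2 3 * swap 4 5 : Perm (Fin 6)))
    (c := (swap 0 3 * swap 1 4 * swap 2 5 : Perm (Fin 6)))
    (Q.of_crit (a := 1) (b := 1) (N := 5) (i := 1) (j := 2) Nat.prime_three (by decide) (by decide)
      (by decide +kernel) (by decide +kernel) (by decide +kernel) (by decide +kernel)
      (by decide +kernel))
    (by decide +kernel) (by decide +kernel)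

end CfsgLib.KnownB.AltPair
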