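import Cfsg.Agent.Lib.KnownB.AltPairBasic

/-!
Pairs of `p`-elements in alternating groups: a full cycle against a long cycle.
-/

set_option autoImplicit false

namespace CfsgLib.KnownB.AltPair

open Equiv Equiv.Perm CfsgLib.KnownB.AltOre CfsgLib.Clifford.AltSchur
open Fin.NatCast

variable {α : Type*}

theorem relab_of_conj {π σ g : Perm α} (h : g * π * g⁻¹ = σ) : Relab π σ :=
  ⟨g, fun x => by rw [← h]; simp⟩

theorem relab_of_cycleType [Fintype α] [DecidableEq α] {π σ : Perm α}
    (h : π.cycleType = σ.cycleType) : Relab π σ := by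
  obtain ⟨g, hg⟩ := isConj_iff.1 (isConj_iff_cycleType_eq.2 h)
  exact relab_of_conj hg

theorem relab_inv [Fintype α] [DecidableEq α] (π : Perm α) : Relab π π⁻¹ :=
  relab_of_cycleType (cycleType_inv π).symm

theorem pow_ne_one_of_flip {P : Perm α} {x y : α} (hxy : x ≠ y) (h1 : P x = y) (h2 : P y = x)
    {N : ℕ} (hN : Odd N) : P ^ N ≠ 1 := by
  obtain ⟨k, rfl⟩ := hN
  have h : ∀ k : ℕ, (P ^ (2 * k)) x = x := by
    intro k
    induction k with
    | zero => simp
    | succ k ih => rw [show 2 * (k + 1) = 2 * k + 2 by ring, pow_add, Perm.mul_apply, pow_two,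
        Perm.mul_apply, h1, h2, ih]
  intro e
  have := Perm.congr_fun e x
  rw [pow_succ', Perm.mul_apply, h, h1, Perm.one_apply] at this
  exact hxy this.symm

theorem swap_comm4 [DecidableEq α] {w x y v : α} (h1 : w ≠ y) (h2 : w ≠ v) (h3 : x ≠ y) (h4 : x ≠ v) :
    swap w x * swap y v = swap y v * swap w x := by
  refine (Perm.Disjoint.commute fun t => ?_).eq
  by_cases ht : t = w ∨ t = x
  · refine Or.inr (swap_apply_of_ne_of_ne ?_ ?_) <;> rcases ht with rfl | rfl <;> assumption
  · push Not at ht
    exact Or.inl (swap_apply_of_ne_of_ne ht.1 ht.2)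

theorem dt_sq [DecidableEq α] {w x y v : α} (h1 : w ≠ y) (h2 : w ≠ v) (h3 : x ≠ y) (h4 : x ≠ v) :
    swap w x * swap y v * (swap w x * swap y v) = 1 := by
  nth_rewrite 2 [swap_comm4 h1 h2 h3 h4]
  rw [mul_assoc, ← mul_assoc (swap y v), swap_mul_self, one_mul, swap_mul_self]

variable {M : ℕ} [NeZero M]

theorem cast_ne {i j : ℕ} (hi : i < M) (hj : j < M) (h : i ≠ j) :
    (i : Fin M) ≠ (j : Fin M) := fun e => h (by
  have := congrArg Fin.val e
  rwa [Fin.val_natCast, Fin.val_natCast, Nat.mod_eq_of_lt hi, Nat.mod_eq_of_lt hj] at this)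

theorem rot_cast (i : ℕ) : finRotate M (i : Fin M) = ((i + 1 : ℕ) : Fin M) := by
  rw [finRotate_apply, Nat.cast_add, Nat.cast_one]

theorem rot_conj_swap (i j : ℕ) :
    finRotate M * swap (i : Fin M) (j : Fin M) * (finRotate M)⁻¹ =
      swap ((i + 1 : ℕ) : Fin M) ((j + 1 : ℕ) : Fin M) := by
  rw [← swap_apply_apply, rot_cast, rot_cast]

theorem not_solvable_of_gap_cast (hM : 5 ≤ M) (hodd : Odd M) {H : Subgroup (Perm (Fin M))}
    (hu : finRotate M ∈ H) (a : ℕ)
    (h : swap ((a + 4 : ℕ) : Fin M) ((a + 2 : ℕ) : Fin M) * swap ((a + 2 : ℕ) : Fin M) (a : Fin M) ∈ H) :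
    ¬ Group.IsSolvable H := by
  refine not_solvable_of_gap hM hodd hu (a : Fin M) ?_
  have h' := inv_mem h
  rw [mul_inv_rev, swap_inv, swap_inv, swap_comm, swap_comm ((a + 4 : ℕ) : Fin M)] at h'
  simpa [c3, Nat.cast_add] using h'

theorem mot_rot_inv {p a : ℕ} (hM : 9 ≤ M) (hodd : Odd M) (hp : Odd p) (hMp : p ^ a = M) :
    Mot p (finRotate M) (finRotate M)⁻¹ := by
  intro ε
  let q : ℕ → Fin M := fun i => (i : Fin M)
  have ne : ∀ {i j : ℕ}, i < 8 → j < 8 → i ≠ j → q i ≠ q j := fun hi hj h =>
    cast_ne (by omega) (by omega) h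
  set u := finRotate M with hu
  have huH : ∀ w, u ∈ Subgroup.closure ({u, w} : Set (Perm (Fin M))) := fun w =>
    Subgroup.subset_closure (by simp)
  have hPH : ∀ w, u * w ∈ Subgroup.closure ({u, w} : Set (Perm (Fin M))) := fun w =>
    mul_mem (huH w) (Subgroup.subset_closure (by simp))
  rcases Int.units_eq_one_or ε with rfl | rfl
  · let t := swap (q 0) (q 2) * swap (q 5) (q 6)
    refine ⟨t, ?_, ?_⟩
    · rw [map_mul, sign_swap (ne (by norm_num) (by norm_num) (by norm_num)),
        sign_swap (ne (by norm_num) (by norm_num) (by norm_num))]; rfl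
    set w := t * u⁻¹ * t⁻¹ with hw
    let D := swap (q 1) (q 3) * swap (q 0) (q 2)
    let T := swap (q 7) (q 6) * swap (q 6) (q 5)
    have hc1 : swap (q 5) (q 6) * swap (q 0) (q 2) = swap (q 0) (q 2) * swap (q 5) (q 6) :=
      swap_comm4 (ne (by norm_num) (by norm_num) (by norm_num)) (ne (by norm_num) (by norm_num) (by norm_num))
        (ne (by norm_num) (by norm_num) (by norm_num)) (ne (by norm_num) (by norm_num) (by norm_num))
    have hc2 : swap (q 6) (q 7) * swap (q 0) (q 2) = swap (q 0) (q 2) * swap (q 6) (q 7) :=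
      swap_comm4 (ne (by norm_num) (by norm_num) (by norm_num)) (ne (by norm_num) (by norm_num) (by norm_num))
        (ne (by norm_num) (by norm_num) (by norm_num)) (ne (by norm_num) (by norm_num) (by norm_num))
    have eP : u * w = D * T := by
      rw [hw]
      calc u * (t * u⁻¹ * t⁻¹) = (u * swap (q 0) (q 2) * u⁻¹) * (u * swap (q 5) (q 6) * u⁻¹) *
          (swap (q 5) (q 6) * swap (q 0) (q 2)) := by
            simp only [t, mul_inv_rev, swap_inv]; group
        _ = _ := by
            rw [rot_conj_swap, rot_conj_swap, hc1]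
            show swap (q 1) (q 3) * swap (q 6) (q 7) * (swap (q 0) (q 2) * swap (q 5) (q 6)) = _
            rw [mul_assoc (swap (q 1) (q 3)), ← mul_assoc (swap (q 6) (q 7)), hc2,
              swap_comm (q 6) (q 7), swap_comm (q 5) (q 6)]
            simp only [D, T, mul_assoc]
    have hD1 : D (q 1) = q 3 := by
      simp only [D, Perm.mul_apply]
      rw [swap_apply_of_ne_of_ne (ne (by norm_num) (by norm_num) (by norm_num))
        (ne (by norm_num) (by norm_num) (by norm_num)), swap_apply_left]
    have hD3 : D (q 3) = q 1 := by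
      simp only [D, Perm.mul_apply]
      rw [swap_apply_of_ne_of_ne (ne (by norm_num) (by norm_num) (by norm_num))
        (ne (by norm_num) (by norm_num) (by norm_num)), swap_apply_right]
    have hT : ∀ i, i < 5 → T (q i) = q i := fun i hi => by
      simp only [T, Perm.mul_apply]
      rw [swap_apply_of_ne_of_ne (ne (by omega) (by norm_num) (by omega))
        (ne (by omega) (by norm_num) (by omega)), swap_apply_of_ne_of_ne
        (ne (by omega) (by norm_num) (by omega)) (ne (by omega) (by norm_num) (by omega))]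
    have hDT : Commute D T := by
      have e : ∀ i j k l : ℕ, i < 8 → j < 8 → k < 8 → l < 8 → i ≠ k → i ≠ l → j ≠ k → j ≠ l →
          Commute (swap (q i) (q j)) (swap (q k) (q l)) := fun i j k l hi hj hk hl a b c d =>
        swap_comm4 (ne hi hk a) (ne hi hl b) (ne hj hk c) (ne hj hl d)
      refine Commute.mul_left (Commute.mul_right ?_ ?_) (Commute.mul_right ?_ ?_) <;>
        exact e _ _ _ _ (by norm_num) (by norm_num) (by norm_num) (by norm_num) (by norm_num)
          (by norm_num) (by norm_num) (by norm_num)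
    refine ⟨fun k => eP ▸ pow_ne_one_of_flip (ne (i := 1) (j := 3) (by norm_num) (by norm_num) (by norm_num))
      (by rw [Perm.mul_apply, hT 1 (by norm_num), hD1]) (by rw [Perm.mul_apply, hT 3 (by norm_num), hD3])
      (hp.pow), not_solvable_of_gap_cast (by omega) hodd (huH w) 0 ?_⟩
    have hD : D ∈ Subgroup.closure ({u, w} : Set (Perm (Fin M))) := by
      have e : (u * w) ^ 3 = D := by
        rw [eP, hDT.mul_pow, show T ^ 3 = 1 from c3_cube (ne (by norm_num) (by norm_num) (by norm_num))
          (ne (by norm_num) (by norm_num) (by norm_num)) (ne (by norm_num) (by norm_num) (by norm_num)),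
          mul_one, pow_succ, pow_two, dt_sq (ne (by norm_num) (by norm_num) (by norm_num))
          (ne (by norm_num) (by norm_num) (by norm_num)) (ne (by norm_num) (by norm_num) (by norm_num))
          (ne (by norm_num) (by norm_num) (by norm_num)), one_mul]
      exact e ▸ pow_mem (hPH w) 3
    have h := mul_mem (mul_mem (mul_mem (huH w) hD) (inv_mem (huH w))) hD
    convert h using 1
    calc swap (q 4) (q 2) * swap (q 2) (q 0)
        = swap (q 2) (q 4) * (swap (q 1) (q 3) * swap (q 1) (q 3)) * swap (q 0) (q 2) := by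
          rw [swap_mul_self, mul_one, swap_comm (q 4), swap_comm (q 2) (q 0)]
      _ = (u * swap (q 1) (q 3) * u⁻¹) * (u * swap (q 0) (q 2) * u⁻¹) * D := by
          rw [rot_conj_swap, rot_conj_swap]
          simp only [D, q, mul_assoc]
      _ = u * D * u⁻¹ * D := by simp only [D]; group
  · let t := swap (q 0) (q 2)
    refine ⟨t, sign_swap (ne (by norm_num) (by norm_num) (by norm_num)), ?_⟩
    set w := t * u⁻¹ * t⁻¹ with hw
    let D := swap (q 1) (q 3) * swap (q 0) (q 2)
    have eP : u * w = D := by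
      rw [hw]
      calc u * (t * u⁻¹ * t⁻¹) = (u * swap (q 0) (q 2) * u⁻¹) * swap (q 0) (q 2) := by
            simp only [t, swap_inv]; group
        _ = _ := by rw [rot_conj_swap]
    have hD1 : D (q 1) = q 3 := by
      simp only [D, Perm.mul_apply]
      rw [swap_apply_of_ne_of_ne (ne (by norm_num) (by norm_num) (by norm_num))
        (ne (by norm_num) (by norm_num) (by norm_num)), swap_apply_left]
    have hD3 : D (q 3) = q 1 := by
      simp only [D, Perm.mul_apply]
      rw [swap_apply_of_ne_of_ne (ne (by norm_num) (by norm_num) (by norm_num))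
        (ne (by norm_num) (by norm_num) (by norm_num)), swap_apply_right]
    refine ⟨fun k => eP ▸ pow_ne_one_of_flip (ne (i := 1) (j := 3) (by norm_num) (by norm_num) (by norm_num))
      hD1 hD3 hp.pow, not_solvable_of_gap_cast (by omega) hodd (huH w) 0 ?_⟩
    have hD : D ∈ Subgroup.closure ({u, w} : Set (Perm (Fin M))) := eP ▸ hPH w
    have h := mul_mem (mul_mem (mul_mem (huH w) hD) (inv_mem (huH w))) hD
    convert h using 1
    calc swap (q 4) (q 2) * swap (q 2) (q 0)
        = swap (q 2) (q 4) * (swap (q 1) (q 3) * swap (q 1) (q 3)) * swap (q 0) (q 2) := by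
          rw [swap_mul_self, mul_one, swap_comm (q 4), swap_comm (q 2) (q 0)]
      _ = (u * swap (q 1) (q 3) * u⁻¹) * (u * swap (q 0) (q 2) * u⁻¹) * D := by
          rw [rot_conj_swap, rot_conj_swap]
          simp only [D, q, mul_assoc]
      _ = u * D * u⁻¹ * D := by simp only [D]; group

theorem mot_cycle {p a M : ℕ} (hp : p.Prime) (hp3 : 3 ≤ p) (hM : p ^ a = M) (hM5 : 5 ≤ M) :
    Mot p (finRotate M) (finRotate M) := by
  have hpo : Odd p := hp.odd_of_ne_two (by omega)
  have hMo : Odd M := hM ▸ hpo.pow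
  rcases Nat.lt_or_ge M 9 with h | h
  · obtain ⟨c, rfl⟩ := hMo
    have hdvd : p ∣ 2 * c + 1 := by
      rw [← hM]
      refine dvd_pow_self p fun h0 => ?_
      rw [h0, pow_zero] at hM
      omega
    rcases (show c = 2 ∨ c = 3 by omega) with rfl | rfl
    · obtain rfl : p = 5 := (Nat.prime_dvd_prime_iff_eq hp Nat.prime_five).1 hdvd
      exact mot_5
    · obtain rfl : p = 7 := (Nat.prime_dvd_prime_iff_eq hp (by norm_num)).1 hdvd
      exact mot_7
  · haveI : NeZero M := ⟨by omega⟩
    exact (mot_rot_inv h hMo hpo hM).relab (Relab.refl _) (relab_inv _).symm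

/-! ### A long cycle among several -/

/-- Starting point of the block number `i`. -/
def pre (L : List ℕ) (i : ℕ) : ℕ := (L.take i).sum

theorem pre_zero (L : List ℕ) : pre L 0 = 0 := by simp [pre]

theorem pre_succ (m : ℕ) (L : List ℕ) (i : ℕ) : pre (m :: L) (i + 1) = m + pre L i := by simp [pre]

theorem pre_length (L : List ℕ) : pre L L.length = L.sum := by simp [pre]

theorem block_val : ∀ (L : List ℕ), (∀ m ∈ L, 1 ≤ m) → ∀ x : Fin L.sum,
    (∀ i < L.length, (x : ℕ) + 1 = pre L (i + 1) → (blockPerm L x : ℕ) = pre L i) ∧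
    ((∀ i < L.length, (x : ℕ) + 1 ≠ pre L (i + 1)) → (blockPerm L x : ℕ) = x + 1) := by
  intro L
  induction L with
  | nil => intro _ x; exact x.elim0
  | cons m L ih =>
    intro hL x
    obtain ⟨y, rfl⟩ := (finSumFinEquiv (m := m) (n := L.sum)).surjective x
    have hb : blockPerm (m :: L) (finSumFinEquiv y) =
        finSumFinEquiv (Equiv.sumCongr (finRotate m) (blockPerm L) y) := by
      show finSumFinEquiv.permCongr (Equiv.sumCongr (finRotate m) (blockPerm L)) (finSumFinEquiv y) = _
      rw [Equiv.permCongr_apply, Equiv.symm_apply_apply]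
    rcases y with k | k
    · have e1 : ((finSumFinEquiv (Sum.inl k) : Fin (m + L.sum)) : ℕ) = k := by simp
      have e2 : (blockPerm (m :: L) (finSumFinEquiv (Sum.inl k)) : ℕ) = ((k : ℕ) + 1) % m := by
        refine (congrArg Fin.val hb).trans ?_
        rw [← val_rot]; simp
      have hk := k.2
      refine ⟨fun i _ h => ?_, fun h => ?_⟩
      · rw [e1, pre_succ] at h
        refine e2.trans ?_
        rw [show (k : ℕ) + 1 = m by omega, Nat.mod_self]
        rcases i with _ | i
        · rw [pre_zero]
        · rename_i hi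
          have hi' : i < L.length := by simp at hi; omega
          have h1 : 1 ≤ pre L (i + 1) := by
            simp only [pre]
            rw [List.sum_take_succ _ _ hi']
            have := hL _ (List.mem_cons_of_mem _ (List.getElem_mem hi'))
            omega
          omega
      · refine (e2.trans (Nat.mod_eq_of_lt ?_)).trans (congrArg (· + 1) e1).symm
        rcases Nat.lt_or_ge ((k : ℕ) + 1) m with h' | h'
        · exact h'
        · exact absurd (show ((finSumFinEquiv (Sum.inl k) : Fin (m + L.sum)) : ℕ) + 1 = pre (m :: L) (0 + 1)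
            by rw [e1, pre_succ, pre_zero]; omega) (h 0 (by simp))
    · have e1 : ((finSumFinEquiv (Sum.inr k) : Fin (m + L.sum)) : ℕ) = m + k := by simp
      have e2 : (blockPerm (m :: L) (finSumFinEquiv (Sum.inr k)) : ℕ) = m + (blockPerm L k : ℕ) := by
        refine (congrArg Fin.val hb).trans ?_
        simp
      obtain ⟨ih1, ih2⟩ := ih (fun j hj => hL j (List.mem_cons_of_mem _ hj)) k
      refine ⟨fun i hi h => ?_, fun h => ?_⟩
      · rw [e1, pre_succ] at h
        rcases i with _ | i
        · rw [pre_zero] at h; omega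
        · refine e2.trans ?_
          rw [pre_succ, ih1 i (by simp at hi; omega) (by omega)]
      · refine e2.trans ?_
        rw [ih2 fun i hi hh => h (i + 1) (by simp; omega) (by rw [e1, pre_succ]; omega)]
        exact (add_assoc _ _ _).symm.trans (congrArg (· + 1) e1).symm

theorem sum_mod_two : ∀ L : List ℕ, (∀ m ∈ L, Odd m) → L.sum % 2 = L.length % 2 := by
  intro L
  induction L with
  | nil => simp
  | cons m L ih =>
    intro h
    have h1 := ih fun k hk => h k (List.mem_cons_of_mem _ hk)
    have h2 := Nat.odd_iff.1 (h m (by simp))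
    simp only [List.sum_cons, List.length_cons]
    omega

theorem q_block {p : ℕ} (hp : Odd p) {x : ℕ} {L : List ℕ} (hx : 5 ≤ x) (hL : L ≠ [])
    (hodd : ∀ m ∈ x :: L, Odd m) (hM : Odd (x :: L).sum) :
    ∃ g, Q p (finRotate (x :: L).sum) (g * (blockPerm (x :: L))⁻¹ * g⁻¹) := by
  set A := x :: L with hA
  have hpos : ∀ m ∈ A, 1 ≤ m := fun m hm => (hodd m hm).pos
  have hM6 : 6 ≤ A.sum := by
    obtain ⟨y, L', rfl⟩ := List.exists_cons_of_ne_nil hL
    have := hpos y (by simp [hA])
    simp [hA]; omega
  haveI : NeZero A.sum := ⟨by omega⟩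
  let q : ℕ → Fin A.sum := fun i => (i : Fin A.sum)
  have ne : ∀ {i j : ℕ}, i < 6 → j < 6 → i ≠ j → q i ≠ q j := fun hi hj h =>
    cast_ne (by omega) (by omega) h
  set u := finRotate A.sum with hu
  set B := blockPerm A with hB
  set z := u * B⁻¹ with hz
  let r := A.length
  have hr : Odd r := by
    rw [Nat.odd_iff, ← sum_mod_two A hodd, ← Nat.odd_iff]; exact hM
  have hstart : ∀ i, i < r → z (q (pre A i)) = q (pre A (i + 1)) := by
    intro i hi
    have hle : pre A i + 1 ≤ pre A (i + 1) := by
      simp only [pre]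
      rw [List.sum_take_succ _ _ hi]
      have := hpos _ (List.getElem_mem hi)
      omega
    have hleM : pre A (i + 1) ≤ A.sum := List.Sublist.sum_le_sum (List.take_sublist _ _) (by simp)
    let y : Fin A.sum := ⟨pre A (i + 1) - 1, by omega⟩
    have hy : B y = q (pre A i) := by
      refine Fin.ext ?_
      rw [(block_val A hpos y).1 i hi (by show pre A (i + 1) - 1 + 1 = _; omega), Fin.val_natCast,
        Nat.mod_eq_of_lt (by omega)]
    rw [hz, Perm.mul_apply, ← hy, Perm.inv_def, Equiv.symm_apply_apply, show y = q (pre A (i + 1) - 1) from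
      Fin.ext (by rw [Fin.val_natCast, Nat.mod_eq_of_lt (by omega)]), rot_cast,
      show pre A (i + 1) - 1 + 1 = pre A (i + 1) by omega]
  have hfix : ∀ y : Fin A.sum, (∀ i, i < r → (y : ℕ) ≠ pre A i) → z y = y := by
    intro y hy
    obtain ⟨x', rfl⟩ := B.surjective y
    rw [hz, Perm.mul_apply, Perm.inv_def, Equiv.symm_apply_apply]
    obtain ⟨h1, h2⟩ := block_val A hpos x'
    by_cases h : ∃ i < r, (x' : ℕ) + 1 = pre A (i + 1)
    · obtain ⟨i, hi, he⟩ := h
      exact absurd (h1 i hi he) (hy i hi)
    · push Not at h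
      refine Fin.ext ?_
      have := (blockPerm A x').2
      rw [h2 h, val_rot, Nat.mod_eq_of_lt (by rw [← h2 h]; exact this)]
  have hzr : z ^ r = 1 := by
    have hpow : ∀ j i, i < r → (z ^ j) (q (pre A i)) = q (pre A ((i + j) % r)) := by
      intro j
      induction j with
      | zero => intro i hi; simp [Nat.mod_eq_of_lt hi]
      | succ j ih =>
        intro i hi
        rw [pow_succ', Perm.mul_apply, ih i hi, hstart _ (Nat.mod_lt _ (by omega))]
        rcases Nat.lt_or_ge ((i + j) % r + 1) r with h | h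
        · rw [show (i + (j + 1)) % r = (i + j) % r + 1 by
            rw [← add_assoc, Nat.add_mod, Nat.mod_eq_of_lt (show 1 < r by omega),
              Nat.mod_eq_of_lt h]]
        · have hlt := Nat.mod_lt (i + j) (show r > 0 by omega)
          have e : (i + j) % r + 1 = r := by omega
          have e' : (i + (j + 1)) % r = 0 := by
            rw [← add_assoc, ← Nat.mod_add_div (i + j) r, add_right_comm, e, Nat.add_mul_mod_self_left,
              Nat.mod_self]
          rw [e, e', pre_zero, show pre A r = A.sum from pre_length A]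
          exact Fin.ext (by simp [q])
    refine Equiv.ext fun y => ?_
    rw [Perm.one_apply]
    by_cases h : ∃ i < r, (y : ℕ) = pre A i
    · obtain ⟨i, hi, he⟩ := h
      have hy : y = q (pre A i) := Fin.ext (by
        rw [Fin.val_natCast, Nat.mod_eq_of_lt (he ▸ y.2)]; exact he)
      rw [hy, hpow r i hi, Nat.add_mod_right, Nat.mod_eq_of_lt hi]
    · push Not at h
      exact Perm.pow_apply_eq_self_of_apply_eq_self (hfix y h) r
  have hz14 : ∀ i, 1 ≤ i → i < 5 → z (q i) = q i := by
    intro i h1 h5
    refine hfix _ fun k _ => ?_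
    rw [Fin.val_natCast, Nat.mod_eq_of_lt (by omega)]
    rcases k with _ | k
    · rw [pre_zero]; omega
    · rw [hA, pre_succ]; omega
  have hzc : ∀ i j, 1 ≤ i → i < 5 → 1 ≤ j → j < 5 → Commute z (swap (q i) (q j)) := fun i j a b c d => by
    show z * _ = _ * z
    rw [Equiv.mul_swap_eq_swap_mul, hz14 i a b, hz14 j c d]
  let t := swap (q 1) (q 3)
  let D := swap (q 2) (q 4) * swap (q 1) (q 3)
  refine ⟨t, ?_⟩
  set w := t * B⁻¹ * t⁻¹ with hw
  have huH : u ∈ Subgroup.closure ({u, w} : Set (Perm (Fin A.sum))) := Subgroup.subset_closure (by simp)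
  have eP : u * w = D * z := by
    calc u * (t * B⁻¹ * t⁻¹) = u * t * u⁻¹ * (u * B⁻¹ * t) := by simp only [t, swap_inv]; group
      _ = swap (q 2) (q 4) * (t * z) := by
          rw [rot_conj_swap, ← hz, (hzc 1 3 le_rfl (by norm_num) (by norm_num) (by norm_num)).eq]
      _ = D * z := by simp only [D, t, mul_assoc]
  have hDc : Commute D z := ((hzc 2 4 (by norm_num) (by norm_num) (by norm_num) (by norm_num)).mul_right
    (hzc 1 3 le_rfl (by norm_num) (by norm_num) (by norm_num))).symm
  have hD2 : D ^ 2 = 1 := by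
    rw [pow_two]
    exact dt_sq (ne (by norm_num) (by norm_num) (by norm_num)) (ne (by norm_num) (by norm_num) (by norm_num))
      (ne (by norm_num) (by norm_num) (by norm_num)) (ne (by norm_num) (by norm_num) (by norm_num))
  have hD1 : (u * w) (q 1) = q 3 := by
    rw [eP, Perm.mul_apply, hz14 1 le_rfl (by norm_num)]
    simp only [D, Perm.mul_apply]
    rw [swap_apply_left, swap_apply_of_ne_of_ne (ne (by norm_num) (by norm_num) (by norm_num))
      (ne (by norm_num) (by norm_num) (by norm_num))]
  have hD3 : (u * w) (q 3) = q 1 := by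
    rw [eP, Perm.mul_apply, hz14 3 (by norm_num) (by norm_num)]
    simp only [D, Perm.mul_apply]
    rw [swap_apply_right, swap_apply_of_ne_of_ne (ne (by norm_num) (by norm_num) (by norm_num))
      (ne (by norm_num) (by norm_num) (by norm_num))]
  refine ⟨fun k => pow_ne_one_of_flip (ne (i := 1) (j := 3) (by norm_num) (by norm_num) (by norm_num))
    hD1 hD3 hp.pow, not_solvable_of_gap_cast (by omega) hM huH 1 ?_⟩
  have hD : D ∈ Subgroup.closure ({u, w} : Set (Perm (Fin A.sum))) := by
    obtain ⟨c, hc⟩ := hr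
    have e : (u * w) ^ r = D := by
      rw [eP, hDc.mul_pow, hzr, mul_one, hc, pow_succ, pow_mul, hD2, one_pow, one_mul]
    exact e ▸ pow_mem (mul_mem huH (Subgroup.subset_closure (by simp))) r
  have h := mul_mem (mul_mem (mul_mem huH hD) (inv_mem huH)) hD
  convert h using 1
  calc swap (q 5) (q 3) * swap (q 3) (q 1)
      = swap (q 3) (q 5) * (swap (q 2) (q 4) * swap (q 2) (q 4)) * swap (q 1) (q 3) := by
        rw [swap_mul_self, mul_one, swap_comm (q 5), swap_comm (q 3) (q 1)]
    _ = (u * swap (q 2) (q 4) * u⁻¹) * (u * swap (q 1) (q 3) * u⁻¹) * D := by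
        rw [rot_conj_swap, rot_conj_swap]
        simp only [D, q, mul_assoc]
    _ = u * D * u⁻¹ * D := by simp only [D]; group

end CfsgLib.KnownB.AltPair
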