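import Cfsg.Agent.Lib.KnownB.AltPairCycle

/-!
A cycle of length `9 m` against triangles, through the residue classes modulo `m`.
-/

set_option autoImplicit false

namespace CfsgLib.KnownB.AltPair

open Equiv Equiv.Perm CfsgLib.KnownB.AltOre CfsgLib.Clifford.AltSchur

/-- Powers of the three standard triangles. -/
def E (v : Fin 3 × Fin 3 × Fin 3) : Perm (Fin 9) :=
  c3 0 1 2 ^ (v.1 : ℕ) * c3 3 4 5 ^ (v.2.1 : ℕ) * c3 6 7 8 ^ (v.2.2 : ℕ)

/-- Number of triangles used. -/
def wt (v : Fin 3 × Fin 3 × Fin 3) : ℕ :=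
  (if v.1 = 0 then 0 else 1) + (if v.2.1 = 0 then 0 else 1) + (if v.2.2 = 0 then 0 else 1)

/-- The admissible exponent vectors. -/
def Allowed (v : Fin 3 × Fin 3 × Fin 3) : Prop :=
  (finRotate 9 * E v) ^ 35 = 1 ∧ finRotate 9 * E v ≠ 1

instance : DecidablePred Allowed := fun v => inferInstanceAs (Decidable (_ ∧ _))

theorem E_cube : ∀ v, E v ^ 3 = 1 := by decide +kernel

theorem E_zero : E 0 = 1 := by decide +kernel

theorem wt_zero : wt 0 = 0 := by decide +kernel

theorem E_support : ∀ v, (E v).support.card = 3 * wt v := by decide +kernel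

theorem step_allowed : ∀ e, Allowed e → ∀ d : Fin 3, ∃ v, wt v = d + 1 ∧ Allowed (e + v) ∧
    E v * E e = E (e + v) := by decide +kernel

theorem allowed_pow {v : Fin 3 × Fin 3 × Fin 3} (h : Allowed v) (k : ℕ) :
    (finRotate 9 * E v) ^ (3 ^ k) ≠ 1 := fun e =>
  h.2 (eq_one_of_coprime_pow (Nat.Coprime.pow_left _ (by decide)) e h.1)

theorem base_allowed : ∀ d : Fin 3, ∃ v, wt v = d + 1 ∧ Allowed v ∧
    ¬ Group.IsSolvable (Subgroup.closure ({finRotate 9, E v} : Set (Perm (Fin 9)))) := by
  intro d
  fin_cases d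
  · refine ⟨(0, 0, 2), by decide +kernel, by decide +kernel, ?_⟩
    exact (Q.of_crit (p := 3) (a := 2) (b := 1) (N := 70) (i := 4) (j := 2) Nat.prime_three (by decide)
      (by decide) (by decide +kernel) (by decide +kernel) (by decide +kernel) (by decide +kernel)
      (by decide +kernel)).2
  · refine ⟨(0, 1, 2), by decide +kernel, by decide +kernel, ?_⟩
    exact (Q.of_crit (p := 3) (a := 2) (b := 1) (N := 7) (i := 1) (j := 2) Nat.prime_three (by decide)
      (by decide) (by decide +kernel) (by decide +kernel) (by decide +kernel) (by decide +kernel)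
      (by decide +kernel)).2
  · refine ⟨(1, 1, 2), by decide +kernel, by decide +kernel, ?_⟩
    exact (Q.of_crit (p := 3) (a := 2) (b := 1) (N := 35) (i := 1) (j := 2) Nat.prime_three (by decide)
      (by decide) (by decide +kernel) (by decide +kernel) (by decide +kernel) (by decide +kernel)
      (by decide +kernel)).2

/-- The composite of the first `j` entries. -/
def tele (f : ℕ → Perm (Fin 9)) : ℕ → Perm (Fin 9)
  | 0 => 1
  | j + 1 => f j * tele f j

theorem tele_congr {f g : ℕ → Perm (Fin 9)} : ∀ {j : ℕ}, (∀ i < j, f i = g i) → tele f j = tele g j := by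
  intro j
  induction j with
  | zero => intro _; rfl
  | succ j ih =>
    intro h
    simp only [tele]
    rw [h j (by omega), ih fun i hi => h i (by omega)]

theorem exists_vectors : ∀ m k : ℕ, 1 ≤ m → 1 ≤ k → k ≤ 3 * m →
    ∃ (v : ℕ → Fin 3 × Fin 3 × Fin 3) (e : Fin 3 × Fin 3 × Fin 3),
      (∑ i ∈ Finset.range m, wt (v i)) = k ∧ Allowed e ∧ tele (fun i => E (v i)) m = E e ∧
      ¬ Group.IsSolvable (Subgroup.closure ({finRotate 9, E (v 0)} : Set (Perm (Fin 9)))) := by
  intro m
  induction m with
  | zero => intro k h; omega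
  | succ m ih =>
    intro k _ hk hk'
    rcases Nat.eq_zero_or_pos m with rfl | hm
    · obtain ⟨v, hv, ha, hs⟩ := base_allowed ⟨k - 1, by omega⟩
      simp only at hv
      exact ⟨fun _ => v, v, by simp [hv]; omega, ha, by simp [tele], hs⟩
    by_cases h : k ≤ 3 * m
    · obtain ⟨v, e, h1, h2, h3, h4⟩ := ih k hm hk h
      refine ⟨Function.update v m 0, e, ?_, h2, ?_, ?_⟩
      · rw [Finset.sum_range_succ, Function.update_self, wt_zero, add_zero, ← h1]
        exact Finset.sum_congr rfl fun i hi => by
          rw [Function.update_of_ne (Finset.mem_range.1 hi).ne]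
      · simp only [tele, Function.update_self, E_zero, one_mul]
        rw [← h3]
        exact tele_congr fun i hi => by rw [Function.update_of_ne hi.ne]
      · rwa [Function.update_of_ne hm.ne]
    · obtain ⟨v, e, h1, h2, h3, h4⟩ := ih (3 * m) hm (by omega) le_rfl
      obtain ⟨x, hx1, hx2, hx3⟩ := step_allowed e h2 ⟨k - 3 * m - 1, by omega⟩
      refine ⟨Function.update v m x, e + x, ?_, hx2, ?_, ?_⟩
      · rw [Finset.sum_range_succ, Function.update_self, hx1,
          Finset.sum_congr rfl fun i hi => by rw [Function.update_of_ne (Finset.mem_range.1 hi).ne], h1]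
        simp only
        omega
      · simp only [tele, Function.update_self]
        rw [← hx3, ← h3]
        exact congrArg (E x * ·) (tele_congr fun i hi => by rw [Function.update_of_ne hi.ne])
      · rwa [Function.update_of_ne hm.ne]

/-- The permutation acting on each residue class separately. -/
def classHom (m : ℕ) : (Fin m → Perm (Fin 9)) →* Perm (Fin 9 × Fin m) where
  toFun f := Equiv.prodCongrLeft f
  map_one' := Equiv.ext fun ⟨i, j⟩ => rfl
  map_mul' f g := Equiv.ext fun ⟨i, j⟩ => rfl

theorem classHom_injective (m : ℕ) : Function.Injective (classHom m) := fun f g h => funext fun j =>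
  Equiv.ext fun i => congrArg Prod.fst (Perm.congr_fun h (i, j))

theorem classHom_apply {m : ℕ} (f : Fin m → Perm (Fin 9)) (i : Fin 9) (j : Fin m) :
    classHom m f (i, j) = (f j i, j) := rfl

theorem finProd_val {m : ℕ} (i : Fin 9) (j : Fin m) :
    ((finProdFinEquiv (i, j) : Fin (9 * m)) : ℕ) = (j : ℕ) + m * (i : ℕ) := rfl

/-- The rotation of `9 m` points, on residue classes. -/
def classRot (m : ℕ) : Perm (Fin 9 × Fin m) :=
  (finProdFinEquiv (m := 9) (n := m)).symm.permCongr (finRotate (9 * m))

theorem classRot_relab (m : ℕ) : Relab (classRot m) (finRotate (9 * m)) :=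
  ⟨finProdFinEquiv, fun x => by
    simp only [classRot, Equiv.permCongr_apply, Equiv.symm_symm, Equiv.apply_symm_apply]⟩

theorem classRot_lt {m : ℕ} (i : Fin 9) (j : Fin m) (h : (j : ℕ) + 1 < m) :
    classRot m (i, j) = (i, ⟨j + 1, h⟩) := by
  have hb : m * (i : ℕ) + m ≤ 9 * m := by nlinarith [i.2]
  apply (finProdFinEquiv (m := 9) (n := m)).injective
  simp only [classRot, Equiv.permCongr_apply, Equiv.symm_symm, Equiv.apply_symm_apply]
  refine Fin.ext ?_
  rw [val_rot, finProd_val, finProd_val, Nat.mod_eq_of_lt (by omega)]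
  simp only
  omega

theorem classRot_last {m : ℕ} (i : Fin 9) (j : Fin m) (h : (j : ℕ) + 1 = m) :
    classRot m (i, j) = (finRotate 9 i, ⟨0, by omega⟩) := by
  apply (finProdFinEquiv (m := 9) (n := m)).injective
  simp only [classRot, Equiv.permCongr_apply, Equiv.symm_symm, Equiv.apply_symm_apply]
  refine Fin.ext ?_
  rw [val_rot, finProd_val, finProd_val, val_rot, show (j : ℕ) + m * i + 1 = m * ((i : ℕ) + 1) by
    rw [mul_add, mul_one]; omega, mul_comm 9 m, Nat.mul_mod_mul_left]
  simp

/-- Runs along the classes. -/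
theorem pow_classHom {m : ℕ} (f : ℕ → Perm (Fin 9)) (i : Fin 9) : ∀ j : ℕ, ∀ hj : j < m,
    ((classRot m * classHom m fun k => f k) ^ j) (i, ⟨0, by omega⟩) = (tele f j i, ⟨j, hj⟩) := by
  intro j
  induction j with
  | zero => intro _; rfl
  | succ j ih =>
    intro hj
    rw [pow_succ', Perm.mul_apply, ih (by omega), Perm.mul_apply, classHom_apply,
      classRot_lt _ _ hj]
    rfl

theorem pow_m_classHom {m : ℕ} (hm : 0 < m) (f : ℕ → Perm (Fin 9)) (i : Fin 9) :
    ((classRot m * classHom m fun k => f k) ^ m) (i, ⟨0, hm⟩) =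
      ((finRotate 9 * tele f m) i, ⟨0, hm⟩) := by
  obtain ⟨l, rfl⟩ : ∃ l, m = l + 1 := ⟨m - 1, by omega⟩
  rw [pow_succ', Perm.mul_apply, pow_classHom f i l (by omega), Perm.mul_apply, classHom_apply,
    classRot_last _ _ rfl]
  rfl

theorem classRot_pow_eq {m : ℕ} (hm : 0 < m) :
    classRot m ^ m = classHom m fun _ => finRotate 9 := by
  refine Equiv.ext fun ⟨i, j⟩ => ?_
  have h0 : classRot m * classHom m (fun _ => (1 : Perm (Fin 9))) = classRot m := by
    rw [show (fun _ : Fin m => (1 : Perm (Fin 9))) = 1 from rfl, map_one, mul_one]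
  have ht : ∀ j, tele (fun _ => (1 : Perm (Fin 9))) j = 1 := by
    intro j
    induction j with
    | zero => rfl
    | succ j ih => simp [tele, ih]
  have hj : (classRot m ^ (j : ℕ)) (i, ⟨0, hm⟩) = (i, j) := by
    have h := pow_classHom (fun _ => (1 : Perm (Fin 9))) i j j.2
    rwa [h0, ht] at h
  have hj' : (classRot m ^ (j : ℕ)) (finRotate 9 i, ⟨0, hm⟩) = (finRotate 9 i, j) := by
    have h := pow_classHom (fun _ => (1 : Perm (Fin 9))) (finRotate 9 i) j j.2
    rwa [h0, ht] at h
  have hm' := pow_m_classHom hm (fun _ => (1 : Perm (Fin 9))) i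
  rw [h0, ht, mul_one] at hm'
  rw [classHom_apply, ← hj', ← hj, ← hm', ← Perm.mul_apply, ← Perm.mul_apply, ← pow_add,
    ← pow_add, add_comm]

theorem cycleType_of_cube {α : Type*} [Fintype α] [DecidableEq α] {s : Perm α} (h : s ^ 3 = 1) :
    s.cycleType = Multiset.replicate (s.support.card / 3) 3 := by
  have h2 : ∀ m ∈ s.cycleType, m = 3 := fun m hm => by
    have hd := (dvd_of_mem_cycleType hm).trans (orderOf_dvd_of_pow_eq_one h)
    have := two_le_of_mem_cycleType hm
    rcases (Nat.dvd_prime Nat.prime_three).1 hd with e | e <;> omega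
  have hk := Multiset.eq_replicate_card.2 h2
  have hsum := sum_cycleType s
  rw [hk, Multiset.sum_replicate, smul_eq_mul] at hsum
  rw [← hsum, Nat.mul_div_cancel _ (by norm_num)]
  exact hk

theorem classHom_support {m : ℕ} (f : Fin m → Perm (Fin 9)) :
    (classHom m f).support.card = ∑ j, (f j).support.card := by
  rw [← Finset.card_sigma]
  refine Finset.card_nbij' (fun x => ⟨x.2, x.1⟩) (fun y => (y.2, y.1)) ?_ ?_ ?_ ?_
  · rintro ⟨i, j⟩ h
    simpa [classHom_apply] using h
  · rintro ⟨j, i⟩ h
    simpa [classHom_apply] using h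
  · exact fun x _ => rfl
  · exact fun x _ => rfl

/-- A rotation of `9 m` points against any number of triangles. -/
theorem q_three {m k : ℕ} (hm : 1 ≤ m) (hk : 1 ≤ k) (hk' : k ≤ 3 * m) :
    ∃ w : Perm (Fin 9 × Fin m), w.cycleType = Multiset.replicate k 3 ∧ Q 3 (classRot m) w := by
  obtain ⟨v, e, h1, h2, h3, h4⟩ := exists_vectors m k hm hk hk'
  let f : ℕ → Perm (Fin 9) := fun i => E (v i)
  set W := classHom m fun j => f j with hW
  refine ⟨W, ?_, fun a ha => ?_, ?_⟩
  · have hcube : W ^ 3 = 1 := by
      rw [hW, ← map_pow, show (fun j : Fin m => f j) ^ 3 = 1 from funext fun j => E_cube _, map_one]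
    rw [cycleType_of_cube hcube, hW, classHom_support]
    simp only [f, E_support]
    rw [← Finset.mul_sum, Nat.mul_div_cancel_left _ (by norm_num),
      Fin.sum_univ_eq_sum_range (fun i => wt (v i)), h1]
  · refine allowed_pow h2 a (Equiv.ext fun i => ?_)
    rw [← h3]
    have hpow : ∀ n, (((classRot m * W) ^ m) ^ n) (i, ⟨0, hm⟩) =
        (((finRotate 9 * tele f m) ^ n) i, ⟨0, hm⟩) := by
      intro n
      induction n with
      | zero => rfl
      | succ n ih => rw [pow_succ', Perm.mul_apply, ih, hW, pow_m_classHom hm, pow_succ',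
          Perm.mul_apply (finRotate 9 * tele f m)]
    have h := hpow (3 ^ a)
    rw [← pow_mul, mul_comm, pow_mul, ha, one_pow, Perm.one_apply] at h
    exact (congrArg Prod.fst h).symm
  · intro hs
    let a : Fin m → Perm (Fin 9) := fun _ => finRotate 9
    let b : Fin m → Perm (Fin 9) := fun j => f j
    have hle : (Subgroup.closure {a, b}).map (classHom m) ≤ Subgroup.closure {classRot m, W} := by
      rw [MonoidHom.map_closure, Subgroup.closure_le, Set.image_pair, Set.insert_subset_iff,
        Set.singleton_subset_iff]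
      refine ⟨?_, Subgroup.subset_closure (by simp [hW, b])⟩
      show classHom m a ∈ _
      rw [← classRot_pow_eq hm]
      exact pow_mem (Subgroup.subset_closure (by simp)) m
    haveI := hs
    have h5 : Group.IsSolvable ((Subgroup.closure {a, b}).map (classHom m)) :=
      Group.isSolvable_of_isSolvable_injective (Subgroup.inclusion_injective hle)
    have h6 := not_solvable_map (Pi.evalMonoidHom (fun _ : Fin m => Perm (Fin 9)) ⟨0, hm⟩)
      (Subgroup.closure {a, b}) (by
        rw [MonoidHom.map_closure, Set.image_pair]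
        exact h4)
    exact not_solvable_injective_map (classHom m) (classHom_injective m) _ h6 h5

end CfsgLib.KnownB.AltPair
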