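import Cfsg.Agent.Lib.Solvable.Nilpotent
import Mathlib

/-!
# Sylow two-subgroups of the automorphism group of `A₆` meet pairwise
-/

set_option autoImplicit false

namespace CfsgLib.KnownB.AltSix

open Equiv
open scoped Pointwise

/-- The standard involution. -/
def z0 : Perm (Fin 6) := swap 0 1 * swap 2 3

/-- The identity and the involutions of `A₆` commuting with `z0`. -/
def cinv : List (Perm (Fin 6)) :=
  [1, swap 0 1 * swap 2 3, swap 0 2 * swap 1 3, swap 0 3 * swap 1 2, swap 0 1 * swap 4 5,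
    swap 2 3 * swap 4 5]

theorem card_cent : ((Finset.univ : Finset (Perm (Fin 6))).filter fun u =>
    Perm.sign u = 1 ∧ u * z0 = z0 * u).card = 8 := by decide +kernel

theorem cinv_spec : ∀ u ∈ cinv, Perm.sign u = 1 ∧ u * z0 = z0 * u := by decide +kernel

/-- Involutions far from `z0`, split by the order of the product with `z0`. -/
theorem card_far : ∀ b : Bool, ((Finset.univ : Finset (Perm (Fin 6))).filter fun t =>
    t * t = 1 ∧ t ≠ 1 ∧ Perm.sign t = 1 ∧ decide (z0 * t * (z0 * t) * (z0 * t) = 1) = b ∧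
      ∀ u ∈ cinv, t * u = u * t → u = 1).card < 32 := by decide +kernel

theorem exists_conj_z0 {y : Perm (Fin 6)} (hy : orderOf y = 2) (hs : Perm.sign y = 1) :
    ∃ g : Perm (Fin 6), g * y * g⁻¹ = z0 := by
  obtain ⟨n, hn⟩ := Perm.cycleType_prime_order (σ := y) (hy ▸ Nat.prime_two)
  rw [hy] at hn
  have hsum : y.cycleType.sum ≤ 6 := by
    rw [Perm.sum_cycleType]
    exact (Finset.card_le_univ _).trans (by simp)
  rw [hn, Multiset.sum_replicate, smul_eq_mul] at hsum
  rw [Perm.sign_of_cycleType, hn, Multiset.sum_replicate, Multiset.card_replicate] at hs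
  obtain rfl : n = 1 := by
    rcases n with _ | _ | _ | n
    · simp [Units.ext_iff] at hs
    · rfl
    · simp [Units.ext_iff] at hs
    · omega
  have hz : z0.cycleType = Multiset.replicate 2 2 := by
    decide +kernel
  obtain ⟨g, hg⟩ := isConj_iff.1 (Perm.isConj_iff_cycleType_eq.2 (hn.trans hz.symm))
  exact ⟨g, hg⟩

variable {G : Type*} [Group G] [Finite G]

theorem sylow_meet (N : Subgroup G) [N.Normal] (e : N ≃* alternatingGroup (Fin 6))
    (hidx : N.index = 4) (H : Sylow 2 G) (x : G) :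
    (H : Subgroup G) ⊓ MulAut.conj x • (H : Subgroup G) ≠ ⊥ := by
  classical
  intro hbot
  have : Fact (Nat.Prime 2) := ⟨Nat.prime_two⟩
  have hN : Nat.card N = 360 := by
    rw [Nat.card_congr e.toEquiv, nat_card_alternatingGroup, Nat.card_eq_fintype_card,
      Fintype.card_fin]
    rfl
  have hG : Nat.card G = 1440 := by rw [← N.card_mul_index, hN, hidx]
  obtain ⟨k, hk⟩ := IsPGroup.iff_card.1 H.2
  have hH : Nat.card (H : Subgroup G) = 32 := by
    have h1 := (H : Subgroup G).card_mul_index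
    have h2 := H.not_dvd_index
    rw [hk, hG] at h1
    have hk' : k ≤ 10 := by
      by_contra hc
      have : 2 ^ 11 ≤ 2 ^ k := Nat.pow_le_pow_right (by norm_num) (by omega)
      have := Nat.le_of_dvd (by norm_num) (Dvd.intro _ h1)
      omega
    rw [hk]
    interval_cases k <;> norm_num at h1 ⊢ <;> omega
  -- an involution of `N` central in `H`
  have hne : (N.subgroupOf (H : Subgroup G)) ≠ ⊥ := by
    intro hb
    have h1 : Nat.card (H : Subgroup G) ≤ Nat.card (G ⧸ N) :=
      Nat.card_le_card_of_injective (fun h : (H : Subgroup G) => ((h : G) : G ⧸ N)) fun a b e' => by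
        have hm : a⁻¹ * b ∈ N.subgroupOf (H : Subgroup G) := by
          rw [Subgroup.mem_subgroupOf]
          exact QuotientGroup.eq.1 e'
        rw [hb, Subgroup.mem_bot, inv_mul_eq_one] at hm
        exact hm
    rw [← Subgroup.index_eq_card, hidx, hH] at h1
    omega
  have := H.2.isNilpotent
  have hne' := CfsgLib.Solvable.normal_inf_center_ne_bot _ hne
  obtain ⟨z, hz⟩ : ∃ z : (N.subgroupOf (H : Subgroup G) ⊓ Subgroup.center (H : Subgroup G) :
      Subgroup (H : Subgroup G)), orderOf z = 2 := by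
    refine exists_prime_orderOf_dvd_card' 2 ?_
    obtain ⟨j, hj⟩ := IsPGroup.iff_card.1
      (H.2.to_subgroup (N.subgroupOf (H : Subgroup G) ⊓ Subgroup.center (H : Subgroup G)))
    rw [hj]
    refine dvd_pow_self 2 fun h0 => hne' (Subgroup.card_eq_one.1 ?_)
    rw [hj, h0, pow_zero]
  obtain ⟨hzN, hzC⟩ := Subgroup.mem_inf.1 z.2
  set zG : G := ((z : (H : Subgroup G)) : G) with hzG
  rw [Subgroup.mem_subgroupOf] at hzN
  have hzo : orderOf zG = 2 := by rw [hzG, Subgroup.orderOf_coe, Subgroup.orderOf_coe, hz]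
  have hHz : ∀ h ∈ (H : Subgroup G), h * zG = zG * h := fun h hh =>
    congrArg Subtype.val (Subgroup.mem_center_iff.1 hzC ⟨h, hh⟩)
  -- normalise the identification
  obtain ⟨g, hg⟩ := exists_conj_z0 (y := (e ⟨zG, hzN⟩ : Perm (Fin 6)))
    (by rw [Subgroup.orderOf_coe, MulEquiv.orderOf_eq, ← Subgroup.orderOf_coe]; exact hzo)
    (Perm.mem_alternatingGroup.1 (e ⟨zG, hzN⟩).2)
  let φ : N →* Perm (Fin 6) :=
    (MulAut.conj g).toMonoidHom.comp ((alternatingGroup (Fin 6)).subtype.comp e.toMonoidHom)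
  have hφi : Function.Injective φ := fun a b h =>
    e.injective (Subtype.ext ((MulAut.conj g).injective h))
  have hφs : ∀ a, Perm.sign (φ a) = 1 := fun a => by
    show Perm.sign (g * (e a : Perm (Fin 6)) * g⁻¹) = 1
    rw [map_mul, map_mul, Perm.mem_alternatingGroup.1 (e a).2, map_inv, mul_one, mul_inv_cancel]
  have hφz : φ ⟨zG, hzN⟩ = z0 := hg
  have hφo : ∀ u, Perm.sign u = 1 → ∃ a, φ a = u := by
    intro u hu
    refine ⟨e.symm ⟨g⁻¹ * u * g, Perm.mem_alternatingGroup.2 (by
      rw [map_mul, map_mul, hu, map_inv, mul_one, inv_mul_cancel])⟩, ?_⟩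
    show g * (e (e.symm _) : Perm (Fin 6)) * g⁻¹ = u
    rw [MulEquiv.apply_symm_apply]
    show g * (g⁻¹ * u * g) * g⁻¹ = u
    group
  -- the centraliser of `z`
  have hC : Subgroup.centralizer ({zG} : Set G) = (H : Subgroup G) := by
    refine (Subgroup.eq_of_le_of_card_ge ?_ ?_).symm
    · intro h hh
      exact Subgroup.mem_centralizer_singleton_iff.2 (hHz h hh)
    · set C := Subgroup.centralizer ({zG} : Set G)
      have h8 : Nat.card (N.subgroupOf C) ≤ 8 := by
        rw [← card_cent]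
        rw [← Fintype.card_coe, ← Nat.card_eq_fintype_card]
        refine Nat.card_le_card_of_injective
          (fun a => ⟨φ ⟨((a : C) : G), Subgroup.mem_subgroupOf.1 a.2⟩, ?_⟩) fun a b h => ?_
        · rw [Finset.mem_filter, ← hφz, ← map_mul, ← map_mul]
          exact ⟨Finset.mem_univ _, hφs _, congrArg φ (Subtype.ext
            (Subgroup.mem_centralizer_singleton_iff.1 (a : C).2))⟩
        · have := hφi (congrArg Subtype.val h)
          exact Subtype.ext (Subtype.ext (congrArg (fun n : N => (n : G)) this))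
      have h4 : Nat.card (C ⧸ N.subgroupOf C) ≤ 4 := by
        rw [← hidx, Subgroup.index_eq_card]
        refine Nat.card_le_card_of_injective
          (fun a => Quotient.liftOn' a (fun b : C => ((b : G) : G ⧸ N)) (fun a b h => by
            rw [QuotientGroup.leftRel_apply, Subgroup.mem_subgroupOf] at h
            exact QuotientGroup.eq.2 h)) fun a b => Quotient.inductionOn₂' a b fun a b h => ?_
        refine Quotient.sound' ?_
        rw [QuotientGroup.leftRel_apply, Subgroup.mem_subgroupOf]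
        exact QuotientGroup.eq.1 h
      rw [Subgroup.card_eq_card_quotient_mul_card_subgroup (N.subgroupOf C), hH]
      calc Nat.card (C ⧸ N.subgroupOf C) * Nat.card (N.subgroupOf C) ≤ 4 * 8 := Nat.mul_le_mul h4 h8
        _ = 32 := rfl
  -- the orbit of the conjugate involution
  set t := x * zG * x⁻¹ with ht
  have htN : ∀ h : G, h * t * h⁻¹ ∈ N := fun h =>
    ‹N.Normal›.conj_mem _ (‹N.Normal›.conj_mem _ hzN x) h
  have htriv : ∀ h ∈ (H : Subgroup G), ∀ u ∈ (H : Subgroup G),
      u * (h * t * h⁻¹) = h * t * h⁻¹ * u → u = 1 := by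
    intro h hh u hu hc
    have hx : x⁻¹ * (h⁻¹ * u * h) * x ∈ (H : Subgroup G) := by
      rw [← hC, Subgroup.mem_centralizer_singleton_iff]
      calc x⁻¹ * (h⁻¹ * u * h) * x * zG = x⁻¹ * h⁻¹ * (u * (h * t * h⁻¹)) * h * x := by
            rw [ht]; group
        _ = x⁻¹ * h⁻¹ * (h * t * h⁻¹ * u) * h * x := by rw [hc]
        _ = zG * (x⁻¹ * (h⁻¹ * u * h) * x) := by rw [ht]; group
    have hm : h⁻¹ * u * h ∈ (H : Subgroup G) ⊓ MulAut.conj x • (H : Subgroup G) :=
      Subgroup.mem_inf.2 ⟨mul_mem (mul_mem (inv_mem hh) hu) hh, by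
        rw [Subgroup.mem_pointwise_smul_iff_inv_smul_mem]
        simpa [mul_assoc] using hx⟩
    rw [hbot, Subgroup.mem_bot] at hm
    exact (conj_eq_one_iff (a := h⁻¹)).1 (by rw [inv_inv]; exact hm)
  set tN : N := ⟨t, by simpa using htN 1⟩
  set b := decide (z0 * φ tN * (z0 * φ tN) * (z0 * φ tN) = 1) with hb
  refine absurd (card_far b) (not_lt.2 ?_)
  rw [← hH, ← Fintype.card_coe, ← Nat.card_eq_fintype_card]
  refine Nat.card_le_card_of_injective
    (fun h : (H : Subgroup G) => ⟨φ ⟨(h : G) * t * (h : G)⁻¹, htN h⟩, ?_⟩) fun h h' he => ?_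
  · rw [Finset.mem_filter]
    have ht2 : (h : G) * t * (h : G)⁻¹ * ((h : G) * t * (h : G)⁻¹) = 1 := by
      have hz2 : zG * zG = 1 := by rw [← sq, ← hzo]; exact pow_orderOf_eq_one _
      rw [ht]
      calc _ = (h : G) * x * (zG * zG) * x⁻¹ * (h : G)⁻¹ := by group
        _ = 1 := by rw [hz2]; group
    refine ⟨Finset.mem_univ _, ?_, ?_, hφs _, ?_, ?_⟩
    · rw [← map_mul, ← map_one φ]
      exact congrArg φ (Subtype.ext ht2)
    · rw [← map_one φ]
      intro h1
      have h2 : (h : G) * t * (h : G)⁻¹ = 1 := congrArg Subtype.val (hφi h1)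
      rw [conj_eq_one_iff, ht, conj_eq_one_iff] at h2
      rw [h2, orderOf_one] at hzo
      omega
    · rw [hb]
      congr 1
      rw [← hφz, ← map_mul, ← map_mul, ← map_mul, ← map_mul φ, ← map_mul, ← map_mul, ← map_one φ,
        hφi.eq_iff, hφi.eq_iff, Subtype.ext_iff, Subtype.ext_iff]
      simp only [Subgroup.coe_mul, Subgroup.coe_one, tN]
      have hc := hHz h h.2
      rw [eq_iff_iff]
      have e1 : zG * ((h : G) * t * (h : G)⁻¹) = (h : G) * (zG * t) * (h : G)⁻¹ := by
        calc zG * ((h : G) * t * (h : G)⁻¹) = zG * h * t * (h : G)⁻¹ := by group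
          _ = h * zG * t * (h : G)⁻¹ := by rw [hc]
          _ = (h : G) * (zG * t) * (h : G)⁻¹ := by group
      rw [e1, show (h : G) * (zG * t) * (h : G)⁻¹ * ((h : G) * (zG * t) * (h : G)⁻¹) *
        ((h : G) * (zG * t) * (h : G)⁻¹) = (h : G) * (zG * t * (zG * t) * (zG * t)) * (h : G)⁻¹ by
          group, conj_eq_one_iff]
    · intro u hu huc
      obtain ⟨hus, huz⟩ := cinv_spec u hu
      obtain ⟨a, rfl⟩ := hφo u hus
      rw [← map_mul, ← map_mul] at huc
      rw [← hφz, ← map_mul, ← map_mul] at huz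
      have ha : (a : G) ∈ (H : Subgroup G) := by
        rw [← hC, Subgroup.mem_centralizer_singleton_iff]
        exact congrArg Subtype.val (hφi huz)
      have := htriv h h.2 a ha (congrArg Subtype.val (hφi huc)).symm
      rw [show a = 1 from Subtype.ext this, map_one]
  · have h1 : (h : G) * t * (h : G)⁻¹ = (h' : G) * t * (h' : G)⁻¹ :=
      congrArg Subtype.val (hφi (congrArg Subtype.val he))
    refine Subtype.ext (inv_mul_eq_one.1 (htriv 1 (one_mem _) _ (mul_mem (inv_mem h.2) h'.2) ?_))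
    calc (h : G)⁻¹ * h' * (1 * t * 1⁻¹) = (h : G)⁻¹ * ((h' : G) * t * (h' : G)⁻¹) * h' := by group
      _ = (h : G)⁻¹ * ((h : G) * t * (h : G)⁻¹) * h' := by rw [h1]
      _ = 1 * t * 1⁻¹ * ((h : G)⁻¹ * h') := by group

end CfsgLib.KnownB.AltSix
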