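import Mathlib

/-!
# An operator of prime order with one irreducible constituent

`σ` of prime order `r` on a space of dimension `2m`, `r` a primitive prime divisor of `q^(2m) - 1`:
the space is a line over a field `K` of order `q^(2m)` acting through `σ`.
-/

set_option autoImplicit false

namespace CfsgLib.KnownB.BC

universe u v

variable {F : Type u} [Field F] [Fintype F] {W : Type v} [AddCommGroup W] [Module F W]
  [Module.Finite F W]

/-- A fixed-point-free operator of prime order `r` forces `r ∣ q^d - 1`. -/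
theorem dvd_card_sub_one {r : ℕ} [Fact r.Prime] {σ : Module.End F W} (hr : σ ^ r = 1)
    (hfix : ∀ w, σ w = w → w = 0) : r ∣ Fintype.card F ^ Module.finrank F W - 1 := by
  classical
  have : Finite W := Module.finite_of_finite F
  have hinv : IsUnit σ := IsUnit.of_pow_eq_one hr (Fact.out : r.Prime).ne_zero
  obtain ⟨u, hu⟩ := hinv
  have hu' : u ^ r = 1 := Units.ext (by rw [Units.val_pow_eq_pow_val, hu, hr]; rfl)
  let G := Subgroup.zpowers u
  have hG : IsPGroup r G := by
    rintro ⟨x, i, rfl⟩
    refine ⟨1, Subtype.ext ?_⟩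
    show (u ^ i) ^ (r ^ 1) = 1
    rw [pow_one, ← zpow_natCast, ← zpow_mul, mul_comm i, zpow_mul, zpow_natCast, hu', one_zpow]
  letI : MulAction G W := MulAction.compHom W ((Units.coeHom (Module.End F W)).comp G.subtype)
  have hfp : MulAction.fixedPoints G W = {0} := by
    ext w
    constructor
    · intro h
      have : σ w = w := by rw [← hu]; exact h ⟨u, Subgroup.mem_zpowers u⟩
      exact hfix w this
    · rintro rfl g
      exact map_zero (((g : (Module.End F W)ˣ) : Module.End F W))
  have h := hG.card_modEq_card_fixedPoints W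
  rw [hfp, Module.natCard_eq_pow_finrank (K := F), Nat.card_eq_fintype_card (α := F)] at h
  simp only [Nat.card_unique] at h
  exact (Nat.modEq_iff_dvd' (Nat.one_le_pow _ _ Fintype.card_pos)).mp h.symm

/-- The field generated by the operator, with the space as a line over it. -/
theorem exists_field {r m : ℕ} [Fact r.Prime] (hm : 0 < m)
    (hprim : ∀ d : ℕ, 0 < d → r ∣ Fintype.card F ^ d - 1 → 2 * m ≤ d)
    {σ : Module.End F W} (hr : σ ^ r = 1) (hfix : ∀ w, σ w = w → w = 0)
    (hdim : Module.finrank F W = 2 * m) :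
    ∃ (K : Type u) (_ : Field K) (_ : Algebra F K) (_ : Fintype K) (φ : K →ₐ[F] Module.End F W)
      (e : K ≃ₗ[F] W) (x₀ : K),
      Fintype.card K = Fintype.card F ^ (2 * m) ∧ φ x₀ = σ ∧ x₀ ^ r = 1 ∧
      Algebra.adjoin F {x₀} = (⊤ : Subalgebra F K) ∧
      (∀ x y, e (x * y) = φ x (e y)) ∧ ∀ f : Module.End F W, Commute f σ → ∃ x, φ x = f := by
  classical
  have : Finite W := Module.finite_of_finite F
  have hW : Nontrivial W := Module.nontrivial_of_finrank_pos (R := F) (by omega)
  -- no proper non-zero invariant subspace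
  have hirr : ∀ U : Submodule F W, (∀ x ∈ U, σ x ∈ U) → U ≠ ⊥ → U = ⊤ := by
    intro U hU hne
    refine Submodule.eq_top_of_finrank_eq (le_antisymm (Submodule.finrank_le U) ?_)
    have hd : 0 < Module.finrank F U :=
      Module.finrank_pos_iff.mpr ((Submodule.nontrivial_iff_ne_bot).mpr hne)
    rw [hdim]
    refine hprim _ hd (dvd_card_sub_one (σ := σ.restrict hU) ?_ ?_)
    · rw [Module.End.pow_restrict]
      exact LinearMap.ext fun x => Subtype.ext (by simp [hr])
    · exact fun x hx => Subtype.ext (hfix x (congrArg Subtype.val hx))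
  have hint : IsIntegral F σ := Algebra.IsIntegral.isIntegral σ
  have hker : ∀ P : Polynomial F, Polynomial.aeval σ P = 0 ∨
      LinearMap.ker (Polynomial.aeval σ P) = ⊥ := by
    intro P
    by_cases h : LinearMap.ker (Polynomial.aeval σ P) = ⊥
    · exact Or.inr h
    refine Or.inl (LinearMap.ker_eq_top.mp (hirr _ (fun x hx => ?_) h))
    rw [LinearMap.mem_ker] at hx ⊢
    have hc : Polynomial.aeval σ P * σ = σ * Polynomial.aeval σ P := by
      have := congrArg (Polynomial.aeval σ) (mul_comm P Polynomial.X)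
      rwa [map_mul, map_mul, Polynomial.aeval_X] at this
    rw [← Module.End.mul_apply, hc, Module.End.mul_apply, hx, map_zero]
  obtain ⟨μ, hμ⟩ : ∃ μ : Polynomial F, μ = minpoly F σ := ⟨_, rfl⟩
  have hμ0 : μ ≠ 0 := hμ ▸ minpoly.ne_zero hint
  have hirred : Irreducible μ := by
    refine ⟨hμ ▸ minpoly.not_isUnit F σ, fun a b hab => ?_⟩
    have ha0 : a ≠ 0 := fun h => hμ0 (by rw [hab, h, zero_mul])
    have hb0 : b ≠ 0 := fun h => hμ0 (by rw [hab, h, mul_zero])
    have key : ∀ c d : Polynomial F, μ = c * d → d ≠ 0 → Polynomial.aeval σ c = 0 → IsUnit d := by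
      intro c d hcd hd0 hc
      have hc0 : c ≠ 0 := fun h => hμ0 (by rw [hcd, h, zero_mul])
      have hdeg := Polynomial.natDegree_mul hc0 hd0
      have hle := Polynomial.natDegree_le_of_dvd (hμ ▸ minpoly.dvd F σ hc) hc0
      rw [hcd, hdeg] at hle
      exact Polynomial.isUnit_iff_degree_eq_zero.mpr
        (by rw [Polynomial.degree_eq_natDegree hd0, show d.natDegree = 0 by omega]; rfl)
    have h0 : Polynomial.aeval σ a * Polynomial.aeval σ b = 0 := by
      rw [← map_mul, ← hab, hμ, minpoly.aeval]
    rcases hker a with ha | ha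
    · exact Or.inr (key a b hab hb0 ha)
    · refine Or.inl (key b a (hab.trans (mul_comm a b)) ha0 (LinearMap.ext fun w => ?_))
      have : Polynomial.aeval σ b w ∈ LinearMap.ker (Polynomial.aeval σ a) :=
        LinearMap.mem_ker.mpr (by rw [← Module.End.mul_apply, h0]; rfl)
      rw [ha, Submodule.mem_bot] at this
      simpa using this
  have : Fact (Irreducible μ) := ⟨hirred⟩
  obtain ⟨w, hw⟩ := exists_ne (0 : W)
  let K := AdjoinRoot μ
  let φ : K →ₐ[F] Module.End F W := Ideal.Quotient.liftₐ _ (Polynomial.aeval σ) (by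
    intro a ha
    obtain ⟨c, rfl⟩ := Ideal.mem_span_singleton.mp ha
    rw [map_mul, hμ, minpoly.aeval, zero_mul])
  have hφ : ∀ P : Polynomial F, φ (AdjoinRoot.mk μ P) = Polynomial.aeval σ P := fun P => rfl
  let ev : K →ₗ[F] W := (LinearMap.applyₗ w).comp φ.toLinearMap
  have hev : ∀ x, ev x = φ x w := fun x => rfl
  have hevinj : Function.Injective ev := by
    refine (injective_iff_map_eq_zero ev).mpr fun x hx => ?_
    by_contra hne
    apply hw
    have := congrArg (φ x⁻¹) hx
    rwa [hev, ← Module.End.mul_apply, ← map_mul, inv_mul_cancel₀ hne, map_one, map_zero] at this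
  have hevsurj : Function.Surjective ev := by
    rw [← LinearMap.range_eq_top]
    refine hirr _ ?_ ?_
    · rintro _ ⟨x, rfl⟩
      refine ⟨AdjoinRoot.mk μ Polynomial.X * x, ?_⟩
      rw [hev, hev, map_mul, hφ, Polynomial.aeval_X]; rfl
    · intro h
      have : ev 1 ∈ LinearMap.range ev := ⟨1, rfl⟩
      rw [h, Submodule.mem_bot, hev, map_one] at this
      exact hw this
  let e := LinearEquiv.ofBijective ev ⟨hevinj, hevsurj⟩
  have hcomm : ∀ f : Module.End F W, Commute f σ → ∀ x : K, ∀ v, f (φ x v) = φ x (f v) := by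
    intro f hf x v
    induction x using AdjoinRoot.induction_on with
    | ih P =>
      rw [hφ]
      have : Commute f (Polynomial.aeval σ P) := by
        induction P using Polynomial.induction_on with
        | C a => rw [Polynomial.aeval_C]; exact (Algebra.commutes a f).symm
        | add p q hp hq => rw [map_add]; exact hp.add_right hq
        | monomial n a _ =>
          rw [map_mul, map_pow, Polynomial.aeval_X, Polynomial.aeval_C]
          exact Commute.mul_right (Algebra.commutes a f).symm (hf.pow_right _)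
      exact LinearMap.congr_fun this.eq v
  have : Fintype W := Fintype.ofFinite W
  have : Fintype K := Fintype.ofEquiv W e.toEquiv.symm
  refine ⟨K, inferInstance, inferInstance, inferInstance, φ, e, AdjoinRoot.root μ, ?_, ?_, ?_,
    AdjoinRoot.adjoinRoot_eq_top, fun x y => ?_, fun f hf => ?_⟩
  · rw [Module.card_eq_pow_finrank (K := F) (V := K), e.finrank_eq, hdim]
  · rw [← AdjoinRoot.mk_X, hφ, Polynomial.aeval_X]
  · apply (φ : K →+* Module.End F W).injective
    show φ (AdjoinRoot.root μ ^ r) = φ 1
    rw [map_pow, map_one, ← AdjoinRoot.mk_X, hφ, Polynomial.aeval_X, hr]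
  · show ev (x * y) = φ x (ev y)
    rw [hev, hev, map_mul]; rfl
  · obtain ⟨x, hx⟩ := hevsurj (f w)
    refine ⟨x, LinearMap.ext fun v => ?_⟩
    obtain ⟨y, rfl⟩ := hevsurj v
    rw [hev, hcomm f hf y w, ← hx, hev, ← Module.End.mul_apply, ← map_mul, mul_comm, map_mul]
    rfl

section Conj

variable {K : Type u} [Field K] [Algebra F K] [Fintype K]

/-- The field automorphism of order two of a field of order `q^(2m)`. -/
theorem exists_conj {m : ℕ} (hK : Fintype.card K = Fintype.card F ^ (2 * m)) :
    ∃ ι : K →ₐ[F] K, (∀ x, ι x = x ^ Fintype.card F ^ m) ∧ ∀ x, ι (ι x) = x := by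
  refine ⟨FiniteField.frobeniusAlgHom F K ^ m, ?_, ?_⟩
  · intro x
    rw [AlgHom.coe_pow, FiniteField.coe_frobeniusAlgHom, pow_iterate]
  · intro x
    rw [AlgHom.coe_pow, FiniteField.coe_frobeniusAlgHom, pow_iterate]
    show (x ^ Fintype.card F ^ m) ^ Fintype.card F ^ m = x
    rw [← pow_mul, ← pow_add, ← two_mul, ← hK, FiniteField.pow_card]

end Conj

end CfsgLib.KnownB.BC
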