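import Mathlib

/-!
# Elements commuting with a non-trivial unipotent isometry of a 3-space
-/

set_option autoImplicit false

namespace CfsgLib.KnownB.BC

variable {F W : Type*} [Field F] [AddCommGroup W] [Module F W] [Module.Finite F W]

theorem scalar_pow_of_commute (p : ℕ) [Fact p.Prime] [CharP F p] (hp2 : p ≠ 2)
    (hdim : Module.finrank F W = 3) (B : LinearMap.BilinForm F W)
    (hsym : ∀ x y, B x y = B y x) (hsep : ∀ x, (∀ y, B x y = 0) → x = 0)
    {u s : Module.End F W} (hu : ∀ x y, B (u x) (u y) = B x y) (hup : u ^ p = 1) (hu1 : u ≠ 1)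
    (hsu : Commute s u) : ∃ a : F, s ^ p = a • (1 : Module.End F W) := by
  have h2 : (2 : F) ≠ 0 := fun h => hp2 ((Nat.prime_dvd_prime_iff_eq Fact.out Nat.prime_two).mp
    ((CharP.cast_eq_zero_iff F p 2).mp (by exact_mod_cast h)))
  have : Nontrivial W := Module.nontrivial_of_finrank_pos (R := F) (by omega)
  have : CharP (Module.End F W) p :=
    charP_of_injective_algebraMap (algebraMap F (Module.End F W)).injective p
  obtain ⟨N, hN⟩ : ∃ N, N = u - 1 := ⟨_, rfl⟩
  have hNp : N ^ p = 0 := by
    rw [hN, sub_pow_char_of_commute p (Commute.one_right u), hup, one_pow, sub_self]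
  have huN : ∀ x, u x = x + N x := fun x => by rw [hN]; simp
  have hcN : Commute s N := by rw [hN]; exact hsu.sub_right (Commute.one_right s)
  have hN3 : N ^ 3 = 0 := by
    refine LinearMap.ker_eq_top.mp (top_le_iff.mp ?_)
    rw [← LinearMap.ker_eq_top.mpr hNp]
    exact hdim ▸ Module.End.ker_pow_le_ker_pow_finrank N p
  have hN2 : N ^ 2 ≠ 0 := by
    intro h0
    have hNN : ∀ x, N (N x) = 0 := fun x => by
      rw [← Module.End.mul_apply, ← sq, h0]; rfl
    have e1 : ∀ x y, B (N x) y + B x (N y) + B (N x) (N y) = 0 := fun x y => by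
      have h := hu x y
      rw [huN, huN, map_add, map_add, LinearMap.add_apply, LinearMap.add_apply] at h
      linear_combination h
    have e2 : ∀ x y, B (N x) (N y) = 0 := fun x y => by
      have h := e1 x (N y)
      rw [hNN, map_zero, map_zero] at h
      linear_combination h
    have e3 : ∀ x, B (N x) x = 0 := fun x => by
      have h := e1 x x
      rw [e2, hsym x (N x)] at h
      exact (mul_eq_zero.mp (show (2 : F) * B (N x) x = 0 by linear_combination h)).resolve_left h2
    obtain ⟨x₀, hx₀⟩ : ∃ x, N x ≠ 0 := by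
      by_contra h
      push Not at h
      exact hu1 (LinearMap.ext fun x => by rw [huN, h, add_zero]; rfl)
    have hle : LinearMap.range N ≤ LinearMap.ker N := by
      rintro _ ⟨x, rfl⟩; exact hNN x
    have hrank : Module.finrank F (LinearMap.range N) = 1 := by
      have h := LinearMap.finrank_range_add_finrank_ker N
      have h' := Submodule.finrank_mono hle
      have h1 : 0 < Module.finrank F (LinearMap.range N) := by
        refine Module.finrank_pos_iff.mpr ((Submodule.nontrivial_iff_ne_bot).mpr fun hb => hx₀ ?_)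
        have : N x₀ ∈ LinearMap.range N := ⟨x₀, rfl⟩
        rwa [hb, Submodule.mem_bot] at this
      omega
    have hsc : ∀ x, ∃ c : F, c • N x₀ = N x := by
      intro x
      obtain ⟨c, hc⟩ := exists_smul_eq_of_finrank_eq_one hrank (x := ⟨N x₀, ⟨x₀, rfl⟩⟩)
        (fun h => hx₀ (congrArg Subtype.val h)) ⟨N x, ⟨x, rfl⟩⟩
      exact ⟨c, congrArg Subtype.val hc⟩
    have horth : ∀ x, N x ≠ 0 → B (N x₀) x = 0 := fun x hx => by
      obtain ⟨c, hc⟩ := hsc x
      have hc0 : c ≠ 0 := fun h => hx (by rw [← hc, h, zero_smul])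
      have h := e3 x
      rw [← hc, map_smul, LinearMap.smul_apply, smul_eq_mul] at h
      exact (mul_eq_zero.mp h).resolve_left hc0
    refine hx₀ (hsep _ fun x => ?_)
    by_cases hx : N x = 0
    · have h := horth (x + x₀) (by rwa [map_add, hx, zero_add])
      rwa [map_add, horth x₀ hx₀, add_zero] at h
    · exact horth x hx
  obtain ⟨e, he⟩ : ∃ e, (N ^ 2) e ≠ 0 := by
    by_contra h
    push Not at h
    exact hN2 (LinearMap.ext h)
  have h3 : ∀ x, N (N (N x)) = 0 := fun x => by
    have := LinearMap.congr_fun hN3 x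
    simpa [pow_succ] using this
  have he' : N (N e) ≠ 0 := by simpa [sq] using he
  have hli : LinearIndependent F ![e, N e, N (N e)] := by
    rw [Fintype.linearIndependent_iff]
    intro c hc
    simp only [Fin.sum_univ_three, Matrix.cons_val] at hc
    have a0 : c 0 = 0 := by
      have := congrArg (fun v => N (N v)) hc
      simp only [map_add, map_smul, h3, smul_zero, add_zero, map_zero] at this
      exact (smul_eq_zero.mp this).resolve_right he'
    rw [a0, zero_smul, zero_add] at hc
    have a1 : c 1 = 0 := by
      have := congrArg N hc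
      simp only [map_add, map_smul, h3, smul_zero, add_zero, map_zero] at this
      exact (smul_eq_zero.mp this).resolve_right he'
    rw [a1, zero_smul, zero_add] at hc
    have a2 : c 2 = 0 := (smul_eq_zero.mp hc).resolve_right he'
    intro i
    fin_cases i <;> assumption
  let b := basisOfLinearIndependentOfCardEqFinrank hli (by rw [Fintype.card_fin, hdim])
  obtain ⟨c, hc⟩ : ∃ c : Fin 3 → F, c 0 • e + c 1 • N e + c 2 • N (N e) = s e :=
    ⟨b.repr (s e), by
      have := b.sum_repr (s e)
      simpa [b, Fin.sum_univ_three] using this⟩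
  have hsT : s = c 0 • (1 : Module.End F W) + N * (c 1 • 1 + c 2 • N) := by
    refine b.ext fun i => ?_
    have hsN : ∀ x, s (N x) = N (s x) := fun x => LinearMap.congr_fun hcN.eq x
    fin_cases i <;>
      simp [b, hsN, ← hc, h3, map_add, map_smul, smul_add, add_assoc]
  refine ⟨c 0 ^ p, ?_⟩
  have hc1 : Commute (c 0 • (1 : Module.End F W)) (N * (c 1 • 1 + c 2 • N)) :=
    (Commute.one_left _).smul_left _
  have hc2 : Commute N (c 1 • (1 : Module.End F W) + c 2 • N) :=
    ((Commute.one_right N).smul_right _).add_right ((Commute.refl N).smul_right _)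
  rw [hsT, add_pow_char_of_commute p hc1, hc2.mul_pow, hNp, zero_mul, add_zero, smul_pow, one_pow]

end CfsgLib.KnownB.BC
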