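import Cfsg.Agent.Lib.KnownB.BCSpinor

/-!
# Spinor norm on a torus of order `q^m + 1`
-/

set_option autoImplicit false

namespace CfsgLib.KnownB.BC

open QuadraticMap (polar)
open CfsgLib.Geom Matrix

variable {F : Type*} [Field F] [Finite F] {ι : Type} [Fintype ι] [DecidableEq ι]

omit [Finite F] in
/-- Extension of an isometry of a summand `e : K → V` by the identity on its complement. -/
theorem exists_ext (Q : QuadraticForm F (ι → F)) (hQ : ∀ x, (∀ y, polar Q x y = 0) → x = 0)
    {K : Type*} [AddCommGroup K] [Module F K] (e : K →ₗ[F] (ι → F)) (he : Function.Injective e)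
    {W₀ : Submodule F (ι → F)} (hc : IsCompl (LinearMap.range e) W₀)
    (horth : ∀ x, ∀ w ∈ W₀, polar Q (e x) w = 0) (C : K →ₗ[F] K)
    (hC : ∀ x, Q (e (C x)) = Q (e x)) :
    ∃ R : Cfsg.isometryGroup F (⇑Q), (∀ x, isoLin R (e x) = e (C x)) ∧
      ∀ w ∈ W₀, isoLin R w = w := by
  let T : (ι → F) →ₗ[F] (ι → F) := LinearMap.ofIsCompl hc
    (e.comp (C.comp (LinearEquiv.ofInjective e he).symm.toLinearMap)) W₀.subtype
  have hTe : ∀ x, T (e x) = e (C x) := fun x => by
    have h := LinearMap.ofIsCompl_apply_left hc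
      (φ := e.comp (C.comp (LinearEquiv.ofInjective e he).symm.toLinearMap)) (ψ := W₀.subtype)
      (⟨e x, ⟨x, rfl⟩⟩ : LinearMap.range e)
    refine h.trans ?_
    have : (LinearEquiv.ofInjective e he).symm ⟨e x, ⟨x, rfl⟩⟩ = x :=
      (LinearEquiv.symm_apply_eq _).mpr (Subtype.ext rfl)
    simp [this]
  have hTw : ∀ w ∈ W₀, T w = w := fun w hw => LinearMap.ofIsCompl_apply_right hc ⟨w, hw⟩
  obtain ⟨R, hR⟩ := exists_iso Q hQ T fun v => by
    have hv : v ∈ LinearMap.range e ⊔ W₀ := by rw [hc.sup_eq_top]; exact Submodule.mem_top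
    obtain ⟨_, ⟨x, rfl⟩, w, hw, rfl⟩ := Submodule.mem_sup.mp hv
    rw [map_add, hTe, hTw w hw]
    have h1 := horth (C x) w hw
    have h2 := horth x w hw
    have h3 := hC x
    simp only [polar] at h1 h2
    linear_combination h1 - h2 + h3
  have hR' : ∀ v, isoLin R v = T v := fun v => by rw [← hR]; simp [isoLin]
  exact ⟨R, fun x => (hR' _).trans (hTe x), fun w hw => (hR' w).trans (hTw w hw)⟩

/-- The spinor norm is non-trivial on the element `ι γ / γ`, `γ` a generator of `Kˣ`. -/
theorem spinor_torus (Q : QuadraticForm F (ι → F)) (hQ : ∀ x, (∀ y, polar Q x y = 0) → x = 0)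
    (hex : (∃ t : F, t ≠ 0 ∧ t ≠ 1) ∨ Module.finrank F (ι → F) ≠ 4) (h2 : (2 : F) ≠ 0)
    {K : Type*} [Field K] [Algebra F K] [Finite K] (c : K →ₐ[F] K) (hcc : ∀ x, c (c x) = x)
    (hc1 : ∃ x, c x ≠ x) (e : K →ₗ[F] (ι → F)) (he : Function.Injective e)
    {W₀ : Submodule F (ι → F)} (hcpl : IsCompl (LinearMap.range e) W₀)
    (horth : ∀ x, ∀ w ∈ W₀, polar Q (e x) w = 0)
    (hadj : ∀ x y z, polar Q (e (x * y)) (e z) = polar Q (e y) (e (c x * z)))
    {γ : K} (hγ0 : γ ≠ 0) (hγ : ∀ x : K, x ≠ 0 → ∃ i : ℕ, γ ^ i = x)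
    {N : ℕ} (hN : 2 ≤ N) (hcN : c γ = γ ^ N) (hord : orderOf γ = (N + 1) * (N - 1)) :
    ∃ T : Cfsg.isometryGroup F (⇑Q), (∀ x, isoLin T (e x) = e (c γ * γ⁻¹ * x)) ∧
      (∀ w ∈ W₀, isoLin T w = w) ∧ spinorHom Q hQ hex T ≠ 1 := by
  classical
  have : Module.Finite F K := Module.Finite.of_finite
  have hcinj : Function.Injective c := (c : K →+* K).injective
  have hψ : ∀ x z, polar Q (e x) (e z) = polar Q (e 1) (e (c x * z)) := fun x z => by
    have := hadj x 1 z
    rwa [mul_one] at this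
  have hsym : ∀ x z, polar Q (e (c x)) (e (c z)) = polar Q (e x) (e z) := fun x z => by
    rw [QuadraticMap.polar_comm _ (e (c x)), hψ (c z), hcc, hψ x z, mul_comm z]
  have hQc : ∀ x, Q (e (c x)) = Q (e x) := fun x => by
    have h := hsym x x
    rw [polar_self_two, polar_self_two] at h
    exact mul_left_cancel₀ h2 h
  -- the maps `x ↦ y * c x` for `c y * y = 1`
  have hmul : ∀ y x, c y * y = 1 → Q (e (y * c x)) = Q (e x) := fun y x hy => by
    have h : polar Q (e (y * c x)) (e (y * c x)) = polar Q (e (c x)) (e (c x)) := by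
      rw [hadj, ← mul_assoc, hy, one_mul]
    rw [polar_self_two, polar_self_two] at h
    rw [mul_left_cancel₀ h2 h, hQc]
  let A : Submodule F K := LinearMap.ker (c.toLinearMap + LinearMap.id)
  have hA : ∀ x, x ∈ A ↔ c x = -x := fun x => by
    simp only [A, LinearMap.mem_ker, LinearMap.add_apply, AlgHom.toLinearMap_apply,
      LinearMap.id_coe, id_eq, add_eq_zero_iff_eq_neg]
  let k := Module.finrank F A
  let b : Module.Basis (Fin k) F A := Module.finBasis F A
  let G₁ : Matrix (Fin k) (Fin k) F := Matrix.of fun i j => polar Q (e (b i : K)) (e (b j : K))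
  -- the form is non-degenerate on the anti-fixed space
  have hG1 : G₁.det ≠ 0 := by
    intro h0
    obtain ⟨a, ha0, ha⟩ := Matrix.exists_mulVec_eq_zero_iff.mpr h0
    refine ha0 ?_
    obtain ⟨y, hy⟩ : ∃ y : A, y = ∑ j, a j • b j := ⟨_, rfl⟩
    have hyA : ∀ z ∈ A, polar Q (e (y : K)) (e z) = 0 := by
      intro z hz
      obtain ⟨z, rfl⟩ : ∃ z' : A, (z' : K) = z := ⟨⟨z, hz⟩, rfl⟩
      have : (Q.polarBilin (e (y : K))).comp (e.comp A.subtype) = 0 := b.ext fun i => by
        show polar Q (e (y : K)) (e (b i : K)) = 0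
        have h : (G₁ *ᵥ a) i = 0 := congrFun ha i
        rw [← h, hy]
        show Q.polarBilin (e ((∑ j, a j • b j : A) : K)) (e (b i : K)) = _
        simp only [Submodule.coe_sum, Submodule.coe_smul, map_sum, map_smul, LinearMap.sum_apply,
          LinearMap.smul_apply, QuadraticMap.polarBilin_apply_apply, smul_eq_mul, Matrix.mulVec,
          dotProduct, G₁, Matrix.of_apply]
        exact Finset.sum_congr rfl fun j _ => by rw [QuadraticMap.polar_comm, mul_comm]
      exact LinearMap.congr_fun this z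
    have hyK : ∀ z : K, polar Q (e (y : K)) (e z) = 0 := by
      intro z
      have h4 : (2 : F) * polar Q (e (y : K)) (e z) = 0 := by
        have e1 : polar Q (e (y : K)) (e (z + c z)) = 0 := by
          have h := hsym (y : K) (z + c z)
          rw [(hA _).mp y.2, map_add, hcc, add_comm (c z), map_neg, QuadraticMap.polar_neg_left] at h
          have : (2 : F) * polar Q (e (y : K)) (e (z + c z)) = 0 := by linear_combination -h
          exact (mul_eq_zero.mp this).resolve_left h2
        have e2 : polar Q (e (y : K)) (e (z - c z)) = 0 :=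
          hyA _ ((hA _).mpr (by rw [map_sub, hcc]; ring))
        rw [map_add, QuadraticMap.polar_add_right] at e1
        rw [map_sub, sub_eq_add_neg, QuadraticMap.polar_add_right, QuadraticMap.polar_neg_right] at e2
        linear_combination e1 + e2
      exact (mul_eq_zero.mp h4).resolve_left h2
    have hy0 : e (y : K) = 0 := hQ _ fun v => by
      have hv : v ∈ LinearMap.range e ⊔ W₀ := by rw [hcpl.sup_eq_top]; exact Submodule.mem_top
      obtain ⟨_, ⟨x, rfl⟩, w, hw, rfl⟩ := Submodule.mem_sup.mp hv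
      rw [QuadraticMap.polar_add_right, hyK, horth _ w hw, add_zero]
    have hy' : y = 0 := Subtype.ext (he (hy0.trans (map_zero e).symm))
    funext i
    have h' := congrArg (fun x => b.repr x i) hy'.symm
    simpa [hy, Finsupp.single_apply] using h'.symm
  -- spinor norm of the involutions `x ↦ y * c x`, `y = c δ / δ`
  have hR : ∀ δ : K, δ ≠ 0 → ∃ (R : Cfsg.isometryGroup F (⇑Q)),
      (∀ x, isoLin R (e x) = e (c δ * δ⁻¹ * c x)) ∧ (∀ w ∈ W₀, isoLin R w = w) ∧
      ∀ hd : (Matrix.of fun i j => polar Q (e (c δ * b i : K)) (e (c δ * b j : K))).det ≠ 0,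
        spinorHom Q hQ hex R = (Multiplicative.ofAdd (k : ZMod 2),
          sqClass (mul_ne_zero (pow_ne_zero k h2) hd)) := by
    intro δ hδ
    have hcδ : c δ ≠ 0 := (map_ne_zero_iff c hcinj).mpr hδ
    obtain ⟨y, hy⟩ : ∃ y, y = c δ * δ⁻¹ := ⟨_, rfl⟩
    have hy1 : c y * y = 1 := by rw [hy, map_mul, map_inv₀, hcc]; field_simp
    obtain ⟨R, hRe, hRw⟩ := exists_ext Q hQ e he hcpl horth
      ((LinearMap.mulLeft F y).comp c.toLinearMap) (fun x => hmul y x hy1)
    simp only [LinearMap.comp_apply, LinearMap.mulLeft_apply, AlgHom.toLinearMap_apply] at hRe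
    refine ⟨R, fun x => by rw [hRe, hy], hRw, fun hd => ?_⟩
    have hinv : ∀ v, isoLin R (isoLin R v) = v := fun v => by
      have hv : v ∈ LinearMap.range e ⊔ W₀ := by rw [hcpl.sup_eq_top]; exact Submodule.mem_top
      obtain ⟨_, ⟨x, rfl⟩, w, hw, rfl⟩ := Submodule.mem_sup.mp hv
      rw [map_add, hRe, hRw w hw, map_add, hRe, hRw w hw, map_mul c, hcc, ← mul_assoc, mul_comm y,
        hy1, one_mul]
    have h := spinor_involution Q hQ hex h2 R (fun i => e (c δ * b i : K)) hinv
      (fun i => by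
        rw [hRe, map_mul c, hcc, (hA _).mp (b i).2, hy, ← map_neg]
        congr 1; field_simp)
      (fun v hv => by
        have hv' : v ∈ LinearMap.range e ⊔ W₀ := by rw [hcpl.sup_eq_top]; exact Submodule.mem_top
        obtain ⟨_, ⟨x, rfl⟩, w, hw, rfl⟩ := Submodule.mem_sup.mp hv'
        rw [map_add, hRe, hRw w hw] at hv
        have h1 : e (y * c x + x) = -(w + w) := by
          rw [map_add]
          linear_combination (norm := module) hv
        have h3 : e (y * c x + x) ∈ LinearMap.range e ⊓ W₀ :=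
          ⟨⟨_, rfl⟩, h1 ▸ W₀.neg_mem (W₀.add_mem hw hw)⟩
        rw [hcpl.inf_eq_bot, Submodule.mem_bot] at h3
        rw [h3, eq_comm, neg_eq_zero, ← two_smul F] at h1
        rw [(smul_eq_zero.mp h1).resolve_left h2, add_zero]
        have hx : y * c x + x = 0 := he (h3.trans (map_zero e).symm)
        have hxA : x * (c δ)⁻¹ ∈ A := (hA _).mpr (by
          have e1 : c δ * c x = -(x * δ) := by
            rw [hy] at hx; field_simp at hx; linear_combination hx
          rw [map_mul, map_inv₀, hcc]; field_simp; linear_combination e1)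
        have hmap : (fun a : A => e (c δ * (a : K))) ⟨_, hxA⟩ = e x := by
          simp only; congr 1; field_simp
        rw [← hmap]
        let L : A →ₗ[F] (ι → F) := e.comp ((LinearMap.mulLeft F (c δ)).comp A.subtype)
        have : L ⟨_, hxA⟩ ∈ Submodule.map L ⊤ := ⟨_, trivial, rfl⟩
        rw [← b.span_eq, Submodule.map_span, ← Set.range_comp] at this
        exact this)
      hd
    rw [h]
    simp [k]
  obtain ⟨R₁, hR1e, hR1w, hR1s⟩ := hR 1 one_ne_zero
  obtain ⟨R₂, hR2e, hR2w, hR2s⟩ := hR γ hγ0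
  -- compare the two Gram matrices through multiplication by `γ * c γ`
  obtain ⟨h, hh⟩ : ∃ h, h = γ * c γ := ⟨_, rfl⟩
  have hch : c h = h := by rw [hh, map_mul, hcc, mul_comm]
  let M : A →ₗ[F] A := (LinearMap.mulLeft F h).restrict (p := A) (q := A) fun x hx => by
    rw [hA] at hx ⊢
    rw [LinearMap.mulLeft_apply, map_mul, hch, hx, mul_neg]
  let H := LinearMap.toMatrix b b M
  have hG2 : (Matrix.of fun i j => polar Q (e (c γ * b i : K)) (e (c γ * b j : K))) = G₁ * H := by
    ext i j
    rw [Matrix.of_apply, hadj, ← mul_assoc, hcc, ← hh, Matrix.mul_apply]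
    have hM : h * (b j : K) = ∑ l, H l j • (b l : K) := by
      have := congrArg Subtype.val (b.sum_repr (M (b j)))
      simp only [Submodule.coe_sum, Submodule.coe_smul] at this
      simp only [H, LinearMap.toMatrix_apply]
      rw [this]
      rfl
    show Q.polarBilin (e (b i : K)) (e (h * b j)) = _
    rw [hM]
    simp only [map_sum, map_smul, QuadraticMap.polarBilin_apply_apply, smul_eq_mul, G₁,
      Matrix.of_apply]
    exact Finset.sum_congr rfl fun l _ => mul_comm _ _
  -- `det M` is a non-square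
  have hns : ¬ IsSquare H.det := by
    rw [show H.det = LinearMap.det M from LinearMap.det_toMatrix b M]
    let L : IntermediateField F K :=
      (AlgHom.equalizer c (AlgHom.id F K)).toIntermediateField fun x hx => by
        show c x⁻¹ = x⁻¹
        rw [map_inv₀, show c x = x from hx]
    obtain ⟨ε, hε⟩ : ∃ ε : K, ε ≠ 0 ∧ c ε = -ε := by
      obtain ⟨x, hx⟩ := hc1
      exact ⟨x - c x, sub_ne_zero.mpr (Ne.symm hx), by rw [map_sub, hcc]; ring⟩
    let E : L ≃ₗ[F] A :=
      { toFun := fun l => ⟨(l : K) * ε, (hA _).mpr (by rw [map_mul, hε.2, mul_neg, show c (l : K) = l from l.2])⟩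
        map_add' := fun x y => Subtype.ext (add_mul _ _ _)
        map_smul' := fun a x => Subtype.ext (smul_mul_assoc a (x : K) ε)
        invFun := fun a => ⟨(a : K) * ε⁻¹, by
          show c ((a : K) * ε⁻¹) = _
          rw [map_mul, map_inv₀, hε.2, (hA _).mp a.2]
          show _ = (a : K) * ε⁻¹
          field_simp⟩
        left_inv := fun l => Subtype.ext (mul_inv_cancel_right₀ hε.1 _)
        right_inv := fun a => Subtype.ext (inv_mul_cancel_right₀ hε.1 _) }
    let hL : L := ⟨h, hch⟩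
    have hM : M = E.toLinearMap ∘ₗ (LinearMap.mulLeft F hL) ∘ₗ E.symm.toLinearMap := by
      refine LinearMap.ext fun a => Subtype.ext ?_
      show h * (a : K) = h * ((a : K) * ε⁻¹) * ε
      rw [mul_assoc, inv_mul_cancel_right₀ hε.1]
    rw [hM, LinearMap.det_conj, show LinearMap.det (LinearMap.mulLeft F hL) = Algebra.norm F hL from rfl]
    rintro ⟨t, ht⟩
    -- every element of `L` is then of square norm
    obtain ⟨n, hn⟩ : ∃ n : F, ¬ IsSquare n :=
      FiniteField.exists_nonsquare (fun h => h2 (by rw [← Nat.cast_two, ← h]; exact CharP.cast_eq_zero F _))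
    obtain ⟨l, hl⟩ := FiniteField.norm_surjective F L n
    have hl0 : (l : K) ≠ 0 := fun h0 => hn ⟨0, by
      rw [← hl, show l = 0 from Subtype.ext h0, Algebra.norm_zero]; ring⟩
    obtain ⟨i, hi⟩ := hγ _ hl0
    have hlc : γ ^ (N * i) = γ ^ i := by rw [pow_mul, ← hcN, ← map_pow, hi]; exact l.2
    rw [(orderOf_pos_iff.mp (by rw [hord]; exact Nat.mul_pos (by omega) (by omega))).pow_eq_pow_iff_modEq, hord, Nat.ModEq.comm, Nat.modEq_iff_dvd' (by nlinarith)] at hlc
    rw [show N * i - i = i * (N - 1) by rw [Nat.mul_sub, mul_one, mul_comm]] at hlc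
    obtain ⟨j, rfl⟩ := (Nat.mul_dvd_mul_iff_right (by omega)).mp hlc
    have hlj : l = hL ^ j := Subtype.ext (by
      rw [SubmonoidClass.coe_pow, ← hi]
      show _ = h ^ j
      rw [hh, hcN, ← pow_succ', pow_mul])
    exact hn ⟨t ^ j, by rw [← hl, hlj, map_pow, ht, mul_pow]⟩
  have hG2d : (Matrix.of fun i j => polar Q (e (c γ * b i : K)) (e (c γ * b j : K))).det =
      G₁.det * H.det := by rw [hG2, Matrix.det_mul]
  have hHd : H.det ≠ 0 := fun h0 => hns ⟨0, by rw [h0, mul_zero]⟩
  have hG1' : (Matrix.of fun i j => polar Q (e (c 1 * b i : K)) (e (c 1 * b j : K))).det ≠ 0 := by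
    simpa [G₁] using hG1
  have hG2' : (Matrix.of fun i j => polar Q (e (c γ * b i : K)) (e (c γ * b j : K))).det ≠ 0 := by
    rw [hG2d]; exact mul_ne_zero hG1 hHd
  refine ⟨R₂ * R₁, fun x => ?_, fun w hw => ?_, fun h1 => hns ?_⟩
  · rw [isoLin_mul, hR1e, hR2e, map_one c, inv_one, one_mul, one_mul, hcc]
  · rw [isoLin_mul, hR1w w hw, hR2w w hw]
  · rw [map_mul, hR2s hG2', hR1s hG1'] at h1
    have h2' := congrArg Prod.snd h1
    simp only [Prod.snd_mul, Prod.snd_one] at h2'
    rw [← sqClass_mul, sqClass_eq_one_iff] at h2'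
    obtain ⟨t, ht⟩ := h2'
    refine ⟨t / (2 ^ k * G₁.det), ?_⟩
    rw [hG2d] at ht
    simp only [map_one, one_mul] at ht
    change 2 ^ k * (G₁.det * H.det) * (2 ^ k * G₁.det) = t * t at ht
    field_simp
    linear_combination ht

end CfsgLib.KnownB.BC
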