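import Cfsg.Agent.Lib.KnownB.BCField
import Cfsg.Agent.Lib.KnownB.BCScalar
import Cfsg.Agent.Lib.KnownB.BCTorus
import Cfsg.Agent.Lib.ClassK.Zsigmondy

/-!
# `Ω(2m+3, q)` has no element of order `p (q^m + 1)`
-/

set_option autoImplicit false

namespace CfsgLib.KnownB.BC

open QuadraticMap (polar)
open CfsgLib.Geom Matrix

universe u

variable {F : Type u} [Field F] [Fintype F] {ι : Type} [Fintype ι] [DecidableEq ι]

/-- The natural representation of an isometry group. -/
noncomputable def isoEnd (Q : (ι → F) → F) :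
    Cfsg.isometryGroup F Q →* Module.End F (ι → F) where
  toFun g := isoLin g
  map_one' := LinearMap.ext fun z => isoLin_one z
  map_mul' g h := LinearMap.ext fun z => isoLin_mul g h z

theorem isoEnd_injective (Q : (ι → F) → F) : Function.Injective (isoEnd (F := F) Q) :=
  fun g h hgh => isoLin_ext fun z => LinearMap.congr_fun hgh z

theorem polar_isoEnd (Q : QuadraticForm F (ι → F)) (g : Cfsg.isometryGroup F (⇑Q)) (x y : ι → F) :
    polar Q (isoEnd (⇑Q) g x) (isoEnd (⇑Q) g y) = polar Q x y := by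
  have hr : ∀ z, Q (isoEnd (⇑Q) g z) = Q z := fun z => by
    show Q (isoLin g z) = Q z
    rw [isoLin, Matrix.toLin'_apply]
    exact g.2 z z
  simp only [polar]
  rw [← map_add, hr, hr, hr]

theorem det_isoEnd_eq_one (Q : QuadraticForm F (ι → F)) {g : Cfsg.isometryGroup F (⇑Q)}
    (hg : g ∈ Cfsg.Omega F (⇑Q)) : LinearMap.det (isoEnd (⇑Q) g) = 1 := by
  have h : Matrix.GeneralLinearGroup.det (g : GL ι F) = 1 := omega_le_special Q hg
  show LinearMap.det (isoLin g) = 1
  rw [isoLin, LinearMap.det_toLin']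
  exact congrArg Units.val h

/-- The field structure of an operator transported along iteration. -/
theorem pow_apply_mul {K : Type u} [Field K] [Algebra F K] {e : K →ₗ[F] (ι → F)}
    {A : Module.End F (ι → F)} {x : K} (h : ∀ y, A (e y) = e (x * y)) (n : ℕ) (y : K) :
    (A ^ n) (e y) = e (x ^ n * y) := by
  induction n generalizing y with
  | zero => simp
  | succ n ih => rw [pow_succ, Module.End.mul_apply, h, ih, pow_succ, mul_assoc]

theorem no_elem (p : ℕ) [Fact p.Prime] [CharP F p] (hp2 : p ≠ 2) {m : ℕ} (hm : 2 ≤ m)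
    (Q : QuadraticForm F (ι → F)) (hQ : ∀ x, (∀ y, polar Q x y = 0) → x = 0)
    (hcard : Fintype.card ι = 2 * m + 3) {g : Cfsg.isometryGroup F (⇑Q)}
    (hg : g ∈ Cfsg.Omega F (⇑Q)) : orderOf g ≠ p * (Fintype.card F ^ m + 1) := by
  classical
  intro hord
  have hp : p.Prime := Fact.out
  have h2 : (2 : F) ≠ 0 := fun h => hp2 ((Nat.prime_dvd_prime_iff_eq hp Nat.prime_two).mp
    ((CharP.cast_eq_zero_iff F p 2).mp (by exact_mod_cast h)))
  have hex := exGen_of_odd (ι := ι) h2
  obtain ⟨f, -, hq⟩ := FiniteField.card F p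
  obtain ⟨q, hqd⟩ : ∃ q, q = Fintype.card F := ⟨_, rfl⟩
  rw [← hqd] at hord hq
  have hq2 : 2 ≤ q := by rw [hqd]; exact Fintype.one_lt_card
  obtain ⟨Q0, hQ0⟩ : ∃ Q0, Q0 = q ^ m := ⟨_, rfl⟩
  rw [← hQ0] at hord
  have hQ2 : 2 ≤ Q0 := hQ0 ▸ le_trans hq2 (Nat.le_self_pow (by omega) q)
  have hQp : p ∣ Q0 := by rw [hQ0, hq, ← pow_mul]; exact dvd_pow_self p (by positivity)
  have hsq : Q0 * Q0 = q ^ (2 * m) := by rw [hQ0, ← pow_add, two_mul]
  have hfac : q ^ (2 * m) - 1 = (Q0 + 1) * (Q0 - 1) := by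
    rw [← hsq]; exact (Nat.mul_self_sub_mul_self_eq Q0 1)
  -- the primitive prime
  obtain ⟨r, hr, hrd, hrprim⟩ := CfsgLib.ClassK.zsigmondy (a := p) (n := (f : ℕ) * (2 * m))
    hp.one_lt (by have := f.pos; nlinarith)
    (fun h => hp2 h.1) (fun h => by have := f.pos; nlinarith [h.1])
  have hrd' : r ∣ q ^ (2 * m) - 1 := by rw [hq, ← pow_mul]; exact hrd
  have hrprim' : ∀ d, 0 < d → d < 2 * m → ¬ r ∣ q ^ d - 1 := fun d hd hd' h => by
    rw [hq, ← pow_mul] at h
    exact hrprim _ (Nat.mul_pos f.pos hd) (Nat.mul_lt_mul_of_pos_left hd' f.pos) h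
  have hrN : r ∣ Q0 + 1 := by
    rw [hfac] at hrd'
    exact (hr.dvd_mul.mp hrd').resolve_right (hQ0 ▸ hrprim' m (by omega) (by omega))
  have : Fact r.Prime := ⟨hr⟩
  have hcop : Nat.Coprime p (Q0 + 1) := by
    refine (Nat.Prime.coprime_iff_not_dvd hp).mpr fun h => ?_
    exact hp.not_dvd_one ((Nat.dvd_add_right hQp).mp h)
  have hNpos : 0 < Q0 + 1 := Nat.succ_pos _
  have hQeven : 2 ∣ Q0 + 1 := by
    have hodd : Odd Q0 := by
      rw [hQ0, hq, ← pow_mul]
      exact (hp.odd_of_ne_two hp2).pow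
    exact even_iff_two_dvd.mp hodd.add_one
  -- the operators
  let π := isoEnd (F := F) (⇑Q)
  have hpow_ne : ∀ k, 0 < k → k < p * (Q0 + 1) → π (g ^ k) ≠ 1 := fun k hk hk' h => by
    have : g ^ k = 1 := isoEnd_injective _ (h.trans (map_one _).symm)
    have := orderOf_le_of_pow_eq_one hk this
    omega
  have hgN : g ^ (p * (Q0 + 1)) = 1 := by rw [← hord]; exact pow_orderOf_eq_one g
  obtain ⟨s, hs⟩ : ∃ s, s = π (g ^ p) := ⟨_, rfl⟩
  obtain ⟨u, hu⟩ : ∃ u, u = π (g ^ (Q0 + 1)) := ⟨_, rfl⟩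
  obtain ⟨σ, hσ⟩ : ∃ σ, σ = π (g ^ (p * ((Q0 + 1) / r))) := ⟨_, rfl⟩
  have hσr : σ ^ r = 1 := by
    rw [hσ, ← map_pow, ← pow_mul, mul_assoc, Nat.div_mul_cancel hrN, hgN, map_one]
  have hσ1 : σ ≠ 1 := hσ ▸ hpow_ne _ (Nat.mul_pos hp.pos (Nat.div_pos (Nat.le_of_dvd hNpos hrN) hr.pos))
    (Nat.mul_lt_mul_of_pos_left (Nat.div_lt_self hNpos hr.one_lt) hp.pos)
  have hsN : s ^ (Q0 + 1) = 1 := by rw [hs, ← map_pow, ← pow_mul, hgN, map_one]
  have hup : u ^ p = 1 := by rw [hu, ← map_pow, ← pow_mul, mul_comm, hgN, map_one]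
  have hu1 : u ≠ 1 := hu ▸ hpow_ne _ hNpos (by nlinarith [hp.two_le])
  have hcomm : ∀ a b : ℕ, Commute (π (g ^ a)) (π (g ^ b)) := fun a b =>
    ((Commute.refl g).pow_pow a b).map π
  have hsσ : Commute s σ := by rw [hs, hσ]; exact hcomm _ _
  have huσ : Commute u σ := by rw [hu, hσ]; exact hcomm _ _
  have hsu : Commute s u := by rw [hs, hu]; exact hcomm _ _
  have hσp : ∀ x y, polar Q (σ x) (σ y) = polar Q x y := fun x y => by
    rw [hσ]; exact polar_isoEnd Q _ x y
  have hsp : ∀ x y, polar Q (s x) (s y) = polar Q x y := fun x y => by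
    rw [hs]; exact polar_isoEnd Q _ x y
  have hupol : ∀ x y, polar Q (u x) (u y) = polar Q x y := fun x y => by
    rw [hu]; exact polar_isoEnd Q _ x y
  -- decomposition
  obtain ⟨W0, hW0⟩ : ∃ W0, W0 = LinearMap.ker (σ - 1) := ⟨_, rfl⟩
  obtain ⟨W1, hW1⟩ : ∃ W1, W1 = LinearMap.range (σ - 1) := ⟨_, rfl⟩
  have hm0 : ∀ v, v ∈ W0 ↔ σ v = v := fun v => by
    simp [hW0, LinearMap.mem_ker, sub_eq_zero]
  have hm1 : ∀ v, v ∈ W1 ↔ ∃ w, σ w - w = v := fun v => by
    simp [hW1, LinearMap.mem_range]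
  have hrF : (r : F) ≠ 0 := fun h => by
    have := (Nat.prime_dvd_prime_iff_eq hp hr).mp ((CharP.cast_eq_zero_iff F p r).mp h)
    subst this
    exact hp.not_dvd_one ((Nat.dvd_add_right hQp).mp hrN)
  have hdisj : Disjoint W1 W0 := by
    rw [Submodule.disjoint_def]
    intro v hv1 hv0
    rw [hm0] at hv0
    obtain ⟨w, hw⟩ := (hm1 v).mp hv1
    have hi : ∀ i : ℕ, (σ ^ i) w = w + (i : F) • v := by
      intro i
      induction i with
      | zero => simp
      | succ i ih =>
        rw [pow_succ', Module.End.mul_apply, ih, map_add, map_smul, hv0, Nat.cast_succ, add_smul,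
          one_smul, ← hw]
        abel
    have := hi r
    rw [hσr, Module.End.one_apply, eq_comm, add_eq_left] at this
    exact (smul_eq_zero.mp this).resolve_left hrF
  have hsum : Module.finrank F W1 + Module.finrank F W0 = 2 * m + 3 := by
    rw [hW0, hW1, LinearMap.finrank_range_add_finrank_ker, Module.finrank_fintype_fun_eq_card, hcard]
  have hcpl : IsCompl W1 W0 := by
    refine ⟨hdisj, codisjoint_iff.mpr (Submodule.eq_top_of_finrank_eq ?_)⟩
    have h := Submodule.finrank_sup_add_finrank_inf_eq W1 W0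
    rw [hdisj.eq_bot, finrank_bot, add_zero] at h
    rw [h, hsum, Module.finrank_fintype_fun_eq_card, hcard]
  have horth : ∀ a ∈ W1, ∀ b ∈ W0, polar Q a b = 0 := by
    intro a ha b hb
    obtain ⟨w, rfl⟩ := (hm1 a).mp ha
    rw [hm0] at hb
    have h := hσp w b
    rw [hb] at h
    rw [sub_eq_add_neg, QuadraticMap.polar_add_left, QuadraticMap.polar_neg_left, h, add_neg_cancel]
  have hpres1 : ∀ A : Module.End F (ι → F), Commute A σ → ∀ v ∈ W1, A v ∈ W1 := fun A hA v hv => by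
    obtain ⟨w, rfl⟩ := (hm1 v).mp hv
    refine (hm1 _).mpr ⟨A w, ?_⟩
    rw [map_sub, ← Module.End.mul_apply, ← hA.eq, Module.End.mul_apply]
  have hpres0 : ∀ A : Module.End F (ι → F), Commute A σ → ∀ v ∈ W0, A v ∈ W0 := fun A hA v hv => by
    rw [hm0] at hv ⊢
    rw [← Module.End.mul_apply, ← hA.eq, Module.End.mul_apply, hv]
  have hdec : ∀ v, ∃ a ∈ W1, ∃ b ∈ W0, a + b = v := fun v =>
    Submodule.mem_sup.mp (hcpl.sup_eq_top ▸ Submodule.mem_top)
  -- the dimension of the moving part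
  obtain ⟨σ1, hσ1d⟩ : ∃ σ1 : Module.End F W1, σ1 = σ.restrict (hpres1 σ (Commute.refl σ)) := ⟨_, rfl⟩
  have hσ1r : σ1 ^ r = 1 := by
    rw [hσ1d, Module.End.pow_restrict]
    exact LinearMap.ext fun x => Subtype.ext (by simp [hσr])
  have hfix : ∀ w, σ1 w = w → w = 0 := fun w hw => by
    have h0 : (w : ι → F) ∈ W0 := (hm0 _).mpr (by
      have := congrArg Subtype.val hw
      rwa [hσ1d] at this)
    exact Subtype.ext (Submodule.disjoint_def.mp hdisj _ w.2 h0)
  have hprim2 : ∀ d : ℕ, 0 < d → r ∣ Fintype.card F ^ d - 1 → 2 * m ≤ d := fun d hd h => by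
    by_contra hlt
    exact hrprim' d hd (by omega) (hqd ▸ h)
  have hd1 : Module.finrank F W1 = 2 * m := by
    have hd := dvd_card_sub_one hσ1r hfix
    rw [← hqd] at hd
    have hpos : 0 < Module.finrank F W1 := by
      refine Nat.pos_of_ne_zero fun h0 => hσ1 (LinearMap.ext fun v => ?_)
      obtain ⟨a, ha, b, hb, rfl⟩ := hdec v
      have : a = 0 := by
        rw [Submodule.finrank_eq_zero.mp h0] at ha
        exact (Submodule.mem_bot F).mp ha
      rw [this, zero_add, (hm0 b).mp hb]; rfl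
    have hge := hprim2 _ hpos (hqd ▸ hd)
    by_contra hne
    have hd' : r ∣ q ^ (Module.finrank F W1 - 2 * m) - 1 := by
      have e : q ^ Module.finrank F W1 - 1 =
          (q ^ (Module.finrank F W1 - 2 * m) - 1) + q ^ (Module.finrank F W1 - 2 * m) * (q ^ (2 * m) - 1) := by
        have h1 := Nat.one_le_pow (Module.finrank F W1 - 2 * m) q (by omega)
        have h3 := Nat.le_mul_of_pos_right (q ^ (Module.finrank F W1 - 2 * m))
          (Nat.pow_pos (a := q) (n := 2 * m) (by omega))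
        rw [Nat.mul_sub, mul_one]
        have h4 : q ^ Module.finrank F W1 =
            q ^ (Module.finrank F W1 - 2 * m) * q ^ (2 * m) := by
          rw [← pow_add]; congr 1; omega
        omega
      rw [e] at hd
      exact (Nat.dvd_add_left (hrd'.mul_left _)).mp hd
    exact hrprim' _ (by omega) (by omega) hd'
  have hd0 : Module.finrank F W0 = 3 := by omega
  -- the field
  obtain ⟨K, _, _, _, φ, e, x₀, hKcard, hφ0, hx0r, hgen, heφ, hcen⟩ :=
    exists_field (r := r) (m := m) (by omega) hprim2 hσ1r hfix hd1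
  obtain ⟨c, hc, hcc⟩ := exists_conj (F := F) (K := K) hKcard
  rw [← hqd, ← hsq] at hKcard
  have hcQ : ∀ x, c x = x ^ Q0 := fun x => by rw [hc, ← hqd, ← hQ0]
  obtain ⟨E, hE⟩ : ∃ E : K →ₗ[F] (ι → F), ∀ x, E x = (e x : ι → F) :=
    ⟨W1.subtype.comp e.toLinearMap, fun x => rfl⟩
  have hEinj : Function.Injective E := fun a b h => e.injective (Subtype.ext (by rwa [← hE, ← hE]))
  have hErange : LinearMap.range E = W1 := by
    ext v
    constructor
    · rintro ⟨x, rfl⟩; rw [hE]; exact (e x).2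
    · intro hv; exact ⟨e.symm ⟨v, hv⟩, by rw [hE, e.apply_symm_apply]⟩
  have hlift : ∀ A : Module.End F (ι → F), Commute A σ → ∃ x, ∀ y, A (E y) = E (x * y) := by
    intro A hA
    obtain ⟨x, hx⟩ := hcen (A.restrict (hpres1 A hA)) (LinearMap.ext fun w => Subtype.ext (by
      rw [hσ1d]
      exact LinearMap.congr_fun hA.eq w))
    refine ⟨x, fun y => ?_⟩
    rw [hE, hE, heφ, hx]; rfl
  have hσE : ∀ y, σ (E y) = E (x₀ * y) := fun y => by
    rw [hE, hE, heφ, hφ0, hσ1d]; rfl
  have hadj : ∀ x y z, polar Q (E (x * y)) (E z) = polar Q (E y) (E (c x * z)) := by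
    intro x
    have hx : x ∈ Algebra.adjoin F {x₀} := hgen ▸ Algebra.mem_top
    induction hx using Algebra.adjoin_induction with
    | mem x hx =>
      rw [Set.mem_singleton_iff] at hx
      rw [hx]
      intro y z
      have hone : x₀ * c x₀ = 1 := by
        obtain ⟨t, ht⟩ := hrN
        rw [hcQ, ← pow_succ', ht, pow_mul, hx0r, one_pow]
      rw [← hσE, show E z = σ (E (c x₀ * z)) by rw [hσE, ← mul_assoc, hone, one_mul], hσp]
    | algebraMap a =>
      intro y z
      rw [AlgHom.commutes, ← Algebra.smul_def, ← Algebra.smul_def, map_smul, map_smul,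
        QuadraticMap.polar_smul_left, QuadraticMap.polar_smul_right]
    | add a b _ _ iha ihb =>
      intro y z
      rw [add_mul, map_add E, QuadraticMap.polar_add_left, iha, ihb, map_add c, add_mul, map_add E,
        QuadraticMap.polar_add_right]
    | mul a b _ _ iha ihb =>
      intro y z
      rw [mul_assoc, iha, ihb, map_mul c, mul_comm (c a) (c b), mul_assoc]
  -- the unipotent part is trivial on the moving part
  obtain ⟨xu, hxu⟩ := hlift u huσ
  have : CharP K p := charP_of_injective_algebraMap (algebraMap F K).injective p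
  have hxu1 : xu = 1 := by
    have h := pow_apply_mul hxu p 1
    rw [hup, Module.End.one_apply, mul_one] at h
    have h' : (xu - 1) ^ p = 0 := by rw [sub_pow_char, one_pow, ← hEinj h, sub_self]
    exact sub_eq_zero.mp (pow_eq_zero_iff hp.ne_zero |>.mp h')
  -- the semisimple part is a sign on the fixed part
  obtain ⟨B0, hB0⟩ : ∃ B0 : LinearMap.BilinForm F W0, ∀ a b, B0 a b = polar Q (a : ι → F) b :=
    ⟨LinearMap.BilinForm.restrict Q.polarBilin W0, fun a b => rfl⟩
  have hsep0 : ∀ x : W0, (∀ y, B0 x y = 0) → x = 0 := fun x hx => Subtype.ext (hQ _ fun v => by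
    obtain ⟨a, ha, b, hb, rfl⟩ := hdec v
    rw [QuadraticMap.polar_add_right, QuadraticMap.polar_comm _ (x : ι → F) a, horth a ha _ x.2,
      ← hB0 x ⟨b, hb⟩, hx, add_zero])
  obtain ⟨a, ha⟩ := scalar_pow_of_commute p hp2 hd0 B0
    (fun x y => by rw [hB0, hB0, QuadraticMap.polar_comm]) hsep0
    (u := u.restrict (hpres0 u huσ)) (s := s.restrict (hpres0 s hsσ))
    (fun x y => by rw [hB0, hB0]; exact hupol _ _)
    (by rw [Module.End.pow_restrict]; exact LinearMap.ext fun x => Subtype.ext (by simp [hup]))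
    (fun h => hu1 (LinearMap.ext fun v => by
      obtain ⟨a, ha, b, hb, rfl⟩ := hdec v
      obtain ⟨y, rfl⟩ : ∃ y, E y = a := hErange.ge ha
      rw [map_add, hxu, hxu1, one_mul]
      exact congrArg (E y + ·) (congrArg Subtype.val (LinearMap.congr_fun h ⟨b, hb⟩))))
    (LinearMap.ext fun x => Subtype.ext (LinearMap.congr_fun hsu.eq x))
  have hs0 : ∀ b ∈ W0, (s ^ p) b = a • b := fun b hb => by
    have := congrArg Subtype.val (LinearMap.congr_fun ha ⟨b, hb⟩)
    rw [Module.End.pow_restrict] at this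
    simpa using this
  obtain ⟨k, hk⟩ := exists_pow_eq_self_of_coprime (x := s) (n := p)
    (Nat.Coprime.coprime_dvd_right (orderOf_dvd_of_pow_eq_one hsN) hcop)
  obtain ⟨α, hα⟩ : ∃ α, ∀ b ∈ W0, s b = α • b := ⟨a ^ k, fun b hb => by
    conv_lhs => rw [← hk]
    clear hk
    induction k with
    | zero => simp
    | succ k ih => rw [pow_succ, Module.End.mul_apply, hs0 b hb, map_smul, ih, smul_smul, pow_succ']⟩
  have hα2 : α * α = 1 := by
    have hW0ne : ∃ b : W0, b ≠ 0 := by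
      have : Nontrivial W0 := Module.nontrivial_of_finrank_pos (R := F) (by omega)
      exact exists_ne 0
    obtain ⟨b, hb⟩ := hW0ne
    obtain ⟨b', hb'⟩ : ∃ b', B0 b b' ≠ 0 := by
      by_contra h
      push Not at h
      exact hb (hsep0 b h)
    have h := hsp b b'
    rw [hα _ b.2, hα _ b'.2, QuadraticMap.polar_smul_left, QuadraticMap.polar_smul_right, smul_eq_mul,
      smul_eq_mul, ← mul_assoc, ← hB0] at h
    exact (mul_left_eq_self₀.mp h).resolve_right hb'
  -- the semisimple part on the moving part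
  obtain ⟨xs, hxs⟩ := hlift s hsσ
  have hxs1 : c xs * xs = 1 := by
    have key : ∀ z, polar Q (E 1) (E ((c xs * xs - 1) * z)) = 0 := fun z => by
      rw [sub_mul, one_mul, map_sub, mul_assoc, sub_eq_add_neg,
        QuadraticMap.polar_add_right, QuadraticMap.polar_neg_right, ← hadj, ← hxs, ← hxs, hsp,
        add_neg_cancel]
    by_contra hne
    have hne' := sub_ne_zero.mpr hne
    have h0 : E 1 = 0 := hQ _ fun v => by
      obtain ⟨a', ha', b, hb, rfl⟩ := hdec v
      obtain ⟨y, rfl⟩ : ∃ y, E y = a' := hErange.ge ha'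
      have := key ((c xs * xs - 1)⁻¹ * y)
      rw [mul_inv_cancel_left₀ hne'] at this
      rw [QuadraticMap.polar_add_right, this, horth _ (hErange.le ⟨1, rfl⟩) b hb, add_zero]
    exact one_ne_zero (hEinj (h0.trans (map_zero E).symm))
  -- a generator of `Kˣ`
  obtain ⟨γu, hγu⟩ := IsCyclic.exists_monoid_generator (α := Kˣ)
  obtain ⟨γ, hγd⟩ : ∃ γ : K, γ = (γu : K) := ⟨_, rfl⟩
  have hγ0 : γ ≠ 0 := hγd ▸ Units.ne_zero γu
  have hγ : ∀ x : K, x ≠ 0 → ∃ i : ℕ, γ ^ i = x := fun x hx => by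
    obtain ⟨i, hi⟩ := hγu (Units.mk0 x hx)
    exact ⟨i, by rw [hγd]; exact congrArg Units.val hi⟩
  have hγord : orderOf γ = (Q0 + 1) * (Q0 - 1) := by
    rw [hγd, orderOf_units, ← hfac, ← hsq, ← hKcard]
    rw [orderOf_eq_card_of_forall_mem_zpowers fun x => ?_, Nat.card_units, Nat.card_eq_fintype_card]
    obtain ⟨i, hi⟩ := hγu x
    exact ⟨(i : ℤ), by simpa using hi⟩
  obtain ⟨f0, hf0⟩ : ∃ f0, f0 = c γ * γ⁻¹ := ⟨_, rfl⟩
  have hf0' : f0 = γ ^ (Q0 - 1) := by
    rw [hf0, hcQ, pow_sub₀ γ hγ0 (by omega), pow_one]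
  have hxs0 : xs ≠ 0 := right_ne_zero_of_mul_eq_one hxs1
  obtain ⟨j, hj⟩ : ∃ j, f0 ^ j = xs := by
    obtain ⟨i, hi⟩ := hγ xs hxs0
    have : γ ^ (i * (Q0 + 1)) = 1 := by rw [pow_mul, hi, pow_succ, ← hcQ, hxs1]
    have hd := orderOf_dvd_of_pow_eq_one this
    rw [hγord, mul_comm] at hd
    obtain ⟨j, rfl⟩ := (Nat.mul_dvd_mul_iff_right hNpos).mp hd
    exact ⟨j, by rw [hf0', ← pow_mul, hi]⟩
  -- determinant
  let cE : K ≃ₗ[F] K := LinearEquiv.ofBijective c.toLinearMap (Function.Involutive.bijective hcc)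
  have hnormc : Algebra.norm F (c γ) = Algebra.norm F γ := by
    show LinearMap.det (LinearMap.mulLeft F (c γ)) = LinearMap.det (LinearMap.mulLeft F γ)
    rw [← LinearMap.det_conj (LinearMap.mulLeft F γ) cE]
    congr 1
    refine LinearMap.ext fun z => ?_
    obtain ⟨z, rfl⟩ := cE.surjective z
    simp only [LinearMap.comp_apply, LinearEquiv.coe_coe, cE.symm_apply_apply, LinearMap.mulLeft_apply]
    exact (map_mul c γ z).symm
  have hnorm : Algebra.norm F xs = 1 := by
    rw [← hj, map_pow, hf0, map_mul, hnormc, ← map_mul, mul_inv_cancel₀ hγ0, map_one, one_pow]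
  have hα1 : α = 1 := by
    let D : (K × W0) ≃ₗ[F] (ι → F) :=
      (LinearEquiv.prodCongr e (LinearEquiv.refl F W0)).trans (Submodule.prodEquivOfIsCompl W1 W0 hcpl)
    have hD : ∀ y (b : W0), D (y, b) = E y + b := fun y b => by rw [hE]; rfl
    have hsD : s = D.toLinearMap ∘ₗ (LinearMap.mulLeft F xs).prodMap (α • LinearMap.id) ∘ₗ
        D.symm.toLinearMap := by
      refine LinearMap.ext fun v => ?_
      obtain ⟨⟨y, b⟩, rfl⟩ := D.surjective v
      simp only [LinearMap.comp_apply, LinearEquiv.coe_coe, D.symm_apply_apply,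
        LinearMap.prodMap_apply, LinearMap.mulLeft_apply, LinearMap.smul_apply, LinearMap.id_apply]
      rw [hD, hD, map_add, hxs, hα _ b.2]
      rfl
    have hdet : LinearMap.det s = 1 := by rw [hs]; exact det_isoEnd_eq_one Q (Subgroup.pow_mem _ hg p)
    rw [hsD, LinearMap.det_conj, LinearMap.det_prodMap, LinearMap.det_smul, LinearMap.det_id, hd0,
      mul_one] at hdet
    change Algebra.norm F xs * α ^ 3 = 1 at hdet
    rw [hnorm, one_mul, pow_succ, sq, hα2, one_mul] at hdet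
    exact hdet
  -- the semisimple part is a torus element whose spinor norm is non-trivial
  have hjodd : Odd j := by
    rw [← Nat.not_even_iff_odd]
    rintro ⟨i, rfl⟩
    have hhalf : xs ^ ((Q0 + 1) / 2) = 1 := by
      rw [← hj, ← pow_mul, hf0', ← pow_mul]
      have : (i + i) * ((Q0 + 1) / 2) = (Q0 + 1) * i := by
        rw [← two_mul, mul_comm 2 i, mul_assoc, Nat.mul_div_cancel' hQeven, mul_comm]
      rw [this, ← mul_assoc, pow_mul, mul_comm (Q0 - 1), ← hγord, pow_orderOf_eq_one, one_pow]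
    refine hpow_ne (p * ((Q0 + 1) / 2)) (Nat.mul_pos hp.pos (by omega))
      (Nat.mul_lt_mul_of_pos_left (by omega) hp.pos) ?_
    rw [pow_mul, map_pow, ← hs]
    refine LinearMap.ext fun v => ?_
    obtain ⟨a', ha', b, hb, rfl⟩ := hdec v
    obtain ⟨y, rfl⟩ : ∃ y, E y = a' := hErange.ge ha'
    rw [map_add, pow_apply_mul hxs, hhalf, one_mul]
    have hb' : ∀ n : ℕ, (s ^ n) b = b := fun n => by
      induction n with
      | zero => simp
      | succ n ih => rw [pow_succ, Module.End.mul_apply, hα b hb, hα1, one_smul, ih]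
    rw [hb']
    rfl
  obtain ⟨T, hTe, hTw, hT1⟩ := spinor_torus Q hQ hex h2 c hcc ⟨γ, fun h => by
      rw [hcQ] at h
      have := orderOf_dvd_of_pow_eq_one (x := γ) (n := Q0 - 1)
        (by rw [pow_sub₀ γ hγ0 (by omega), h, pow_one, mul_inv_cancel₀ hγ0])
      rw [hγord] at this
      have := Nat.le_of_dvd (by omega) this
      nlinarith [Nat.sub_pos_of_lt (show 1 < Q0 by omega)]⟩
    E hEinj (W₀ := W0) (hErange ▸ hcpl) (fun x w hw => horth _ (hErange.le ⟨x, rfl⟩) w hw) hadj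
    hγ0 hγ hQ2 (hcQ γ) hγord
  have hTj : g ^ p = T ^ j := by
    refine isoEnd_injective _ (LinearMap.ext fun v => ?_)
    show π (g ^ p) v = π (T ^ j) v
    rw [← hs, map_pow]
    obtain ⟨a', ha', b, hb, rfl⟩ := hdec v
    obtain ⟨y, rfl⟩ : ∃ y, E y = a' := hErange.ge ha'
    have hT' : ∀ y, π T (E y) = E (f0 * y) := fun y => by rw [hf0]; exact hTe y
    have hTb : ∀ n : ℕ, (π T ^ n) b = b := fun n => by
      induction n with
      | zero => simp
      | succ n ih =>
        rw [pow_succ, Module.End.mul_apply, show π T b = b from hTw b hb, ih]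
    rw [map_add, map_add, hxs, hα b hb, hα1, one_smul, pow_apply_mul hT', hj, hTb]
  apply hT1
  have h1 : spinorHom Q hQ hex (T ^ j) = 1 := by
    rw [← hTj, ← MonoidHom.mem_ker, ← omega_eq_ker_spinorHom Q hQ hex]
    exact Subgroup.pow_mem _ hg p
  have hsq1 : ∀ x : Multiplicative (ZMod 2) × SqClass F, x * x = 1 := fun x =>
    Prod.ext ((show ∀ y : Multiplicative (ZMod 2), y * y = 1 by decide) x.1) (sqClass_mul_self x.2)
  obtain ⟨i, rfl⟩ := hjodd
  rwa [map_pow, pow_succ, pow_mul, sq, hsq1, one_pow, one_mul] at h1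

end CfsgLib.KnownB.BC
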