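import Cfsg.Agent.Lib.Geom.OddInvol

/-!
# Spinor norm of an involution from a basis of its `-1`-space
-/

set_option autoImplicit false

namespace CfsgLib.KnownB.BC

open QuadraticMap (polar)
open CfsgLib.Geom Matrix

variable {F : Type*} [Field F] {ι : Type} [Fintype ι] [DecidableEq ι]

omit [Fintype ι] [DecidableEq ι] in
theorem reflWord_cons_apply (Q : QuadraticForm F (ι → F)) (v : {v : ι → F // Q v ≠ 0})
    (L : List {v : ι → F // Q v ≠ 0}) (x : ι → F) :
    reflWord Q (v :: L) x = reflEquiv Q v.1 v.2 (reflWord Q L x) := by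
  simp [reflWord]

/-- A word in reflections fixes what is orthogonal to all its vectors. -/
theorem reflWord_fix (Q : QuadraticForm F (ι → F)) (L : List {v : ι → F // Q v ≠ 0}) {x : ι → F}
    (h : ∀ v ∈ L, polar Q v.1 x = 0) : reflWord Q L x = x := by
  induction L with
  | nil => simp [reflWord]
  | cons v L ih =>
    rw [reflWord_cons_apply, ih fun w hw => h w (List.mem_cons_of_mem _ hw),
      reflEquiv_fix _ _ _ (h v List.mem_cons_self)]

/-- An isometry of a form from a linear map preserving it. -/
theorem exists_iso (Q : QuadraticForm F (ι → F)) (hQ : ∀ x, (∀ y, polar Q x y = 0) → x = 0)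
    (T : (ι → F) →ₗ[F] (ι → F)) (hT : ∀ v, Q (T v) = Q v) :
    ∃ g : Cfsg.isometryGroup F (⇑Q), ∀ v, ((g : GL ι F) : Matrix ι ι F) *ᵥ v = T v := by
  have hTp : ∀ u w, polar Q (T u) (T w) = polar Q u w := fun u w => by
    simp only [polar]; rw [← map_add, hT, hT, hT]
  have hinj : Function.Injective T := by
    refine (injective_iff_map_eq_zero T).mpr fun u hu => hQ u fun w => ?_
    rw [← hTp, hu]
    simp [polar]
  have hu : IsUnit (LinearMap.toMatrix' T) := by
    refine Matrix.mulVec_injective_iff_isUnit.mp fun a b hab => hinj ?_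
    have := hab
    simp only [LinearMap.toMatrix'_mulVec] at this
    exact this
  obtain ⟨g, hg⟩ := hu
  refine ⟨⟨g, fun u _ => ?_⟩, fun v => ?_⟩
  · show Q ((g : Matrix ι ι F) *ᵥ u) = Q u
    rw [hg, LinearMap.toMatrix'_mulVec, hT]
  · show (g : Matrix ι ι F) *ᵥ v = T v
    rw [hg, LinearMap.toMatrix'_mulVec]

/-- The spinor norm of an involution is the discriminant of its `-1`-space. -/
theorem spinor_involution (Q : QuadraticForm F (ι → F)) (hQ : ∀ x, (∀ y, polar Q x y = 0) → x = 0)
    (hex : (∃ t : F, t ≠ 0 ∧ t ≠ 1) ∨ Module.finrank F (ι → F) ≠ 4) (h2 : (2 : F) ≠ 0)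
    (R : Cfsg.isometryGroup F (⇑Q)) {κ : Type*} [Fintype κ] [DecidableEq κ] (c : κ → ι → F)
    (hinv : ∀ v, isoLin R (isoLin R v) = v) (hneg : ∀ i, isoLin R (c i) = -c i)
    (hspan : ∀ v, isoLin R v = -v → v ∈ Submodule.span F (Set.range c))
    (hdet : (Matrix.of fun i j => polar Q (c i) (c j)).det ≠ 0) :
    spinorHom Q hQ hex R = (Multiplicative.ofAdd (Fintype.card κ : ZMod 2),
      sqClass (mul_ne_zero (pow_ne_zero (Fintype.card κ) h2) hdet)) := by
  classical
  have hRp : ∀ u w, polar Q (isoLin R u) (isoLin R w) = polar Q u w := fun u w => by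
    simp only [polar]; rw [← map_add]
    simp only [isoLin, Matrix.toLin'_apply]
    have hr : ∀ x, Q (((R : GL ι F) : Matrix ι ι F) *ᵥ x) = Q x := fun x => R.2 x x
    rw [hr, hr, hr]
  -- the family is a basis of its span
  have hli : LinearIndependent F c := by
    rw [Fintype.linearIndependent_iff]
    intro a ha
    have h : (Matrix.of fun i j => polar Q (c i) (c j)) *ᵥ a = 0 := by
      funext i
      show ∑ j, polar Q (c i) (c j) * a j = 0
      have : Q.polarBilin (c i) (∑ j, a j • c j) = 0 := by rw [ha, map_zero]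
      rw [map_sum] at this
      rw [← this]
      exact Finset.sum_congr rfl fun j _ => by
        rw [map_smul, QuadraticMap.polarBilin_apply_apply, smul_eq_mul, mul_comm]
    intro i
    exact congrFun (Matrix.eq_zero_of_mulVec_eq_zero hdet h) i
  let S := Submodule.span F (Set.range c)
  let bc : Module.Basis κ F S := Module.Basis.span hli
  let BS : LinearMap.BilinForm F S := LinearMap.BilinForm.restrict Q.polarBilin S
  have hBS : LinearMap.BilinForm.toMatrix bc BS = Matrix.of fun i j => polar Q (c i) (c j) := by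
    ext i j
    rw [LinearMap.BilinForm.toMatrix_apply]
    show polar Q (bc i : ι → F) (bc j : ι → F) = _
    rw [Matrix.of_apply, Module.Basis.span_apply, Module.Basis.span_apply]
  have : Invertible (2 : F) := invertibleOfNonzero h2
  obtain ⟨b, hb⟩ := LinearMap.BilinForm.exists_orthogonal_basis (B := BS)
    ⟨fun x y => QuadraticMap.polar_comm Q x.1 y.1⟩
  obtain ⟨eb⟩ : Nonempty (Fin (Module.finrank F S) ≃ κ) :=
    ⟨(Fintype.equivFinOfCardEq (Module.finrank_eq_card_basis bc).symm).symm⟩
  let b' := b.reindex eb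
  have hb' : ∀ i j, i ≠ j → polar Q (b' i : ι → F) (b' j : ι → F) = 0 := fun i j hij => by
    rw [Module.Basis.reindex_apply, Module.Basis.reindex_apply]
    exact hb fun h => hij (eb.symm.injective h)
  have hbd : LinearMap.BilinForm.toMatrix b' BS = Matrix.diagonal fun i => 2 * Q (b' i : ι → F) := by
    ext i j
    rw [LinearMap.BilinForm.toMatrix_apply]
    show polar Q (b' i : ι → F) (b' j : ι → F) = _
    by_cases hij : i = j
    · subst hij; rw [Matrix.diagonal_apply_eq, polar_self_two]
    · rw [Matrix.diagonal_apply_ne _ hij, hb' i j hij]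
  have hM := LinearMap.BilinForm.toMatrix_mul_basis_toMatrix (b := b') bc BS
  rw [hBS, hbd] at hM
  have hMdet := congrArg Matrix.det hM
  rw [Matrix.det_mul, Matrix.det_mul, Matrix.det_transpose, Matrix.det_diagonal,
    Finset.prod_mul_distrib, Finset.prod_const, Finset.card_univ] at hMdet
  have hprod : (∏ i, Q (b' i : ι → F)) ≠ 0 := fun h0 => hdet (by
    rw [← hMdet, h0]; ring)
  have hbQ : ∀ i, Q (b' i : ι → F) ≠ 0 := fun i => (Finset.prod_ne_zero_iff.mp hprod) i (Finset.mem_univ i)
  -- the word of reflections at the orthogonal basis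
  obtain ⟨L, hL⟩ : ∃ L : List {v : ι → F // Q v ≠ 0},
      L = Finset.univ.toList.map fun i => ⟨(b' i : ι → F), hbQ i⟩ := ⟨_, rfl⟩
  have hLb : ∀ j, reflWord Q L (b' j : ι → F) = -(b' j : ι → F) := fun j => by
    rw [hL, reflWord_orth_apply Q (fun i => (b' i : ι → F)) hbQ hb' _ (Finset.nodup_toList _),
      if_pos (Finset.mem_toList.mpr (Finset.mem_univ j))]
  have hS : ∀ v : S, reflWord Q L (v : ι → F) = -(v : ι → F) := by
    intro v
    have : (reflWord Q L).toLinearMap.comp S.subtype = -S.subtype := b'.ext fun j => hLb j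
    exact LinearMap.congr_fun this v
  have hRS : ∀ v ∈ S, isoLin R v = -v := fun v hv => by
    induction hv using Submodule.span_induction with
    | mem x hx => obtain ⟨i, rfl⟩ := hx; exact hneg i
    | zero => simp
    | add x y _ _ hx hy => rw [map_add, hx, hy]; abel
    | smul a x _ hx => rw [map_smul, hx, smul_neg]
  have hall : ∀ v, ((R : GL ι F) : Matrix ι ι F) *ᵥ v = reflWord Q L v := by
    intro v
    have hv1 : v - isoLin R v ∈ S := hspan _ (by rw [map_sub, hinv]; abel)
    have hv2 : isoLin R (v + isoLin R v) = v + isoLin R v := by rw [map_add, hinv, add_comm]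
    have hperp : ∀ w ∈ S, polar Q w (v + isoLin R v) = 0 := fun w hw => by
      have h1 := hRp w (v + isoLin R v)
      rw [hv2, hRS w hw, QuadraticMap.polar_neg_left] at h1
      have : 2 * polar Q w (v + isoLin R v) = 0 := by linear_combination -h1
      exact (mul_eq_zero.mp this).resolve_left h2
    have e2 : reflWord Q L (v + isoLin R v) = v + isoLin R v := reflWord_fix Q L fun u hu => by
      rw [hL, List.mem_map] at hu
      obtain ⟨i, -, rfl⟩ := hu
      exact hperp _ (b' i).2
    have e1 : reflWord Q L (v - isoLin R v) = -(v - isoLin R v) := hS ⟨_, hv1⟩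
    have e3 : (2 : F) • reflWord Q L v = (2 : F) • isoLin R v := by
      rw [two_smul, two_smul]
      calc reflWord Q L v + reflWord Q L v
          = reflWord Q L (v + isoLin R v) + reflWord Q L (v - isoLin R v) := by
            rw [map_add, map_sub]; abel
        _ = _ := by rw [e1, e2]; abel
    rw [smul_right_injective _ h2 e3]
    simp [isoLin]
  have hp : (L.map fun v => Q v.1).prod = ∏ i, Q (b' i : ι → F) := by
    rw [hL, List.map_map, ← Finset.prod_map_toList]
    rfl
  have hp0 : (L.map fun v => Q v.1).prod ≠ 0 := hp ▸ hprod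
  rw [spinorHom_prod_list Q hQ hex L R hall, wordVal_eq Q L hp0]
  refine Prod.ext ?_ ?_
  · simp [hL]
  · refine (sqClass_eq_iff hp0 _).mpr ⟨(2 ^ Fintype.card κ * (b'.toMatrix bc).det)⁻¹, ?_, ?_⟩
    · refine inv_ne_zero (mul_ne_zero (pow_ne_zero _ h2) fun h => hdet ?_)
      rw [← hMdet, h]; ring
    · rw [hp, ← hMdet]
      have h3 : (b'.toMatrix bc).det ≠ 0 := fun h => hdet (by rw [← hMdet, h]; ring)
      field_simp

end CfsgLib.KnownB.BC
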