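import Cfsg.Agent.Lib.Binary.Basic

/-!
Binary coset actions: change of the subgroup in its class, factorisation in terms of conjugates, and a
counting obstruction for subgroups lying in a larger subgroup of large index.
-/

set_option autoImplicit false

namespace CfsgLib.KnownB.BinaryCoset

open CfsgLib.Binary

variable {G : Type*} [Group G]

theorem congr_equiv {Ω Ω' : Type*} [MulAction G Ω] [MulAction G Ω'] (e : Ω ≃ Ω')
    (he : ∀ (g : G) (x : Ω), e (g • x) = g • e x) (h : IsBinary G Ω) : IsBinary G Ω' := by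
  intro n I J hn hp
  have he' : ∀ (g : G) (x : Ω'), e.symm (g • x) = g • e.symm x := fun g x => by
    apply e.injective
    rw [he, Equiv.apply_symm_apply, Equiv.apply_symm_apply]
  obtain ⟨g, hg⟩ := h n (fun i => e.symm (I i)) (fun i => e.symm (J i)) hn fun i j hij => by
    obtain ⟨g, h1, h2⟩ := hp i j hij
    exact ⟨g, by rw [← he', h1], by rw [← he', h2]⟩
  exact ⟨g, fun i => e.symm.injective (by rw [he', hg i])⟩

theorem map_conj_mem (H : Subgroup G) (c z : G) :
    z ∈ H.map (MulAut.conj c).toMonoidHom ↔ c⁻¹ * z * c ∈ H := by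
  constructor
  · rintro ⟨y, hy, rfl⟩
    simpa [mul_assoc] using hy
  · exact fun h => ⟨_, h, by simp [mul_assoc]⟩

/-- The cosets of conjugate subgroups. -/
def conjQuotEquiv (H : Subgroup G) (c : G) : G ⧸ H ≃ G ⧸ H.map (MulAut.conj c).toMonoidHom where
  toFun := Quotient.map' (fun x => x * c⁻¹) fun x y h => by
    rw [QuotientGroup.leftRel_apply] at h ⊢
    rw [map_conj_mem]
    simpa [mul_assoc] using h
  invFun := Quotient.map' (fun x => x * c) fun x y h => by
    rw [QuotientGroup.leftRel_apply] at h ⊢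
    rw [map_conj_mem] at h
    simpa [mul_assoc] using h
  left_inv := fun x => by
    induction x using Quotient.inductionOn' with
    | h x => exact congrArg (QuotientGroup.mk (s := H)) (inv_mul_cancel_right x c)
  right_inv := fun x => by
    induction x using Quotient.inductionOn' with
    | h x => exact congrArg (QuotientGroup.mk) (mul_inv_cancel_right x c)

theorem conj_iff (H : Subgroup G) (c : G) :
    IsBinary G (G ⧸ H.map (MulAut.conj c).toMonoidHom) ↔ IsBinary G (G ⧸ H) := by
  have he : ∀ (g : G) (x : G ⧸ H), conjQuotEquiv H c (g • x) = g • conjQuotEquiv H c x := fun g x => by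
    induction x using Quotient.inductionOn' with
    | h x => exact congrArg QuotientGroup.mk (mul_assoc g x c⁻¹)
  refine ⟨fun h => congr_equiv (conjQuotEquiv H c).symm (fun g x => ?_) h, congr_equiv _ he⟩
  apply (conjQuotEquiv H c).injective
  rw [he, Equiv.apply_symm_apply, Equiv.apply_symm_apply]

theorem factor_conj [Finite G] {H : Subgroup G} (hb : IsBinary G (G ⧸ H)) {h k l u v : G}
    (hh : h ∈ H) (hk : u⁻¹ * k * u ∈ H) (hl : v⁻¹ * l * v ∈ H) (e : h = k * l) :
    ∃ g ∈ H, u⁻¹ * g * u ∈ H ∧ v⁻¹ * (g⁻¹ * h) * v ∈ H := by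
  have hfix : ∀ z w : G, z ∈ fixingSubgroup G ({((w : G) : G ⧸ H)} : Set (G ⧸ H)) ↔
      w⁻¹ * z * w ∈ H := fun z w => by
    rw [mem_fixingSubgroup_iff]
    simp only [Set.mem_singleton_iff, forall_eq, smul_coe_eq_iff]
  obtain ⟨g, hg, hgh⟩ := hb.factor {((1 : G) : G ⧸ H)} {((u : G) : G ⧸ H)} {((v : G) : G ⧸ H)}
    ((mem_fix_one_iff H h).2 hh) ((hfix k u).2 hk) ((hfix l v).2 hl) e
  rw [fixingSubgroup_union] at hg
  exact ⟨g, (mem_fix_one_iff H g).1 hg.1, (hfix g u).1 hg.2, (hfix _ v).1 hgh⟩

/-- A subgroup inside `B` whose two-point stabilisers over distinct cosets of `B` are small. -/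
theorem not_isBinary_of_fibred [Finite G] {H B : Subgroup G} (hHB : H ≤ B)
    (hst : ∀ s : G, s ∉ B →
      Nat.card (H ⊓ H.map (MulAut.conj s).toMonoidHom : Subgroup G) * (B.index - 1) ≤ Nat.card H)
    (hbig : Nat.card B < (B.index - 1) * (B.index - 2)) : ¬ IsBinary G (G ⧸ H) := by
  classical
  intro hb
  have := Fintype.ofFinite G
  have := Fintype.ofFinite (G ⧸ H)
  have := Fintype.ofFinite (G ⧸ B)
  let M := B ⧸ H.subgroupOf B
  have := Fintype.ofFinite M
  let π : G ⧸ H → G ⧸ B := Subgroup.quotientMapOfLE hHB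
  let e : G ⧸ H ≃ (G ⧸ B) × M := Subgroup.quotientEquivProdOfLE hHB
  have hπe : ∀ a, (e a).1 = π a := fun a => by
    induction a using Quotient.inductionOn' with
    | h a => rfl
  have hπs : ∀ (g : G) a, π (g • a) = g • π a := fun g a => by
    induction a using Quotient.inductionOn' with
    | h a => rfl
  let r : (G ⧸ H) × (G ⧸ H) → Quotient (MulAction.orbitRel G ((G ⧸ H) × (G ⧸ H))) :=
    Quotient.mk _
  set mm := Nat.card M with hmm
  have hB : Nat.card B = mm * Nat.card H := by
    rw [hmm, Subgroup.card_eq_card_quotient_mul_card_subgroup (H.subgroupOf B),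
      Nat.card_congr (Subgroup.subgroupOfEquivOfLe hHB).toEquiv]
  have hG : Nat.card G = B.index * Nat.card B := by rw [mul_comm, Subgroup.card_mul_index]
  -- pairs over distinct cosets
  let P : Finset ((G ⧸ H) × (G ⧸ H)) := Finset.univ.filter fun p => π p.1 ≠ π p.2
  have hP : P.card = B.index * (B.index - 1) * mm ^ 2 := by
    have e1 : {p : (G ⧸ H) × (G ⧸ H) // π p.1 ≠ π p.2} ≃
        {p : (G ⧸ B) × (G ⧸ B) // p.1 ≠ p.2} × (M × M) :=
      { toFun := fun p => (⟨((e p.1.1).1, (e p.1.2).1), by rw [hπe, hπe]; exact p.2⟩,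
          ((e p.1.1).2, (e p.1.2).2))
        invFun := fun x => ⟨(e.symm (x.1.1.1, x.2.1), e.symm (x.1.1.2, x.2.2)), by
          rw [← hπe, ← hπe, Equiv.apply_symm_apply, Equiv.apply_symm_apply]; exact x.1.2⟩
        left_inv := fun p => Subtype.ext (by simp)
        right_inv := fun x => by simp }
    rw [show P.card = Nat.card {p : (G ⧸ H) × (G ⧸ H) // π p.1 ≠ π p.2} by
      rw [Nat.card_eq_fintype_card, Fintype.card_subtype], Nat.card_congr e1, Nat.card_prod,
      Nat.card_prod, ← hmm, Nat.card_eq_fintype_card, Fintype.card_subtype,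
      show (Finset.univ.filter fun p : (G ⧸ B) × (G ⧸ B) => p.1 ≠ p.2) =
        (Finset.univ : Finset (G ⧸ B)).offDiag by ext; simp,
      Finset.offDiag_card, Finset.card_univ, ← Nat.card_eq_fintype_card]
    show (B.index * B.index - B.index) * (mm * mm) = _
    rw [Nat.mul_sub_one]
    ring
  have hk : (P.image r).card ≤ mm := by
    have key : ∀ x ∈ P.image r, Nat.card G * (B.index - 1) ≤
        (P.filter fun p => r p = x).card * Nat.card H := by
      intro x hx
      obtain ⟨p, hp, rfl⟩ := Finset.mem_image.1 hx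
      rw [← Nat.card_congr (MulAction.orbitProdStabilizerEquivGroup G p), Nat.card_prod, mul_assoc]
      refine Nat.mul_le_mul ?_ ?_
      · have hmem : ∀ q : MulAction.orbit G p, q.1 ∈ P.filter fun p' => r p' = r p := by
          rintro ⟨q, g, rfl⟩
          simp only [P, Finset.mem_filter, Finset.mem_univ, true_and] at hp ⊢
          exact ⟨fun e' => hp (MulAction.injective g (by simpa [← hπs] using e')),
            Quotient.sound ⟨g, rfl⟩⟩
        rw [Nat.card_eq_fintype_card, ← Fintype.card_coe]
        exact Fintype.card_le_of_injective (fun q => ⟨_, hmem q⟩)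
          fun a b h => Subtype.ext (congrArg Subtype.val h :)
      · obtain ⟨a, b⟩ := p
        obtain ⟨g1, rfl⟩ := QuotientGroup.mk_surjective a
        obtain ⟨g2, rfl⟩ := QuotientGroup.mk_surjective b
        simp only [P, Finset.mem_filter, Finset.mem_univ, true_and] at hp
        have hs : g1⁻¹ * g2 ∉ B := fun hs => hp (by
          show (g1 : G ⧸ B) = (g2 : G ⧸ B)
          exact QuotientGroup.eq.2 hs)
        refine le_trans (Nat.mul_le_mul_right _ ?_) (hst _ hs)
        refine Nat.card_le_card_of_injective (fun z => ⟨g1⁻¹ * z.1 * g1, ?_⟩) fun z z' h => ?_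
        · obtain ⟨h1, h2⟩ := Prod.ext_iff.1 (MulAction.mem_stabilizer_iff.1 z.2)
          have h1' := (smul_coe_eq_iff H z.1 g1).1 h1
          refine ⟨h1', (map_conj_mem H _ _).2 ?_⟩
          have h2' := (smul_coe_eq_iff H z.1 g2).1 h2
          simpa [mul_assoc] using h2'
        · exact Subtype.ext (by simpa using congrArg Subtype.val h)
    have h1 := Finset.card_nsmul_le_sum _ _ _ key
    rw [smul_eq_mul, ← Finset.sum_mul, ← Finset.card_eq_sum_card_image, hP, hG, hB] at h1
    have h0 : 0 < B.index * mm * Nat.card H * (B.index - 1) := by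
      have h2 : 0 < B.index := Nat.pos_of_ne_zero B.index_ne_zero_of_finite
      have h3 : 0 < B.index - 1 := Nat.pos_of_ne_zero fun h => by simp [h] at hbig
      have h4 : 0 < mm := Nat.card_pos
      have h5 : 0 < Nat.card H := Nat.card_pos
      positivity
    exact Nat.le_of_mul_le_mul_right (by linarith) h0
  -- triples over distinct cosets
  let T : Finset (Fin 3 → G ⧸ H) := Finset.univ.filter fun f => Function.Injective (π ∘ f)
  have hT : T.card = B.index * (B.index - 1) * (B.index - 2) * mm ^ 3 := by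
    have e1 : {f : Fin 3 → G ⧸ H // Function.Injective (π ∘ f)} ≃
        (Fin 3 ↪ G ⧸ B) × (Fin 3 → M) :=
      { toFun := fun f => (⟨fun i => (e (f.1 i)).1, fun i j h => f.2 (by simpa [hπe] using h)⟩,
          fun i => (e (f.1 i)).2)
        invFun := fun x => ⟨fun i => e.symm (x.1 i, x.2 i), fun i j h => x.1.injective (by
          simpa [← hπe] using h)⟩
        left_inv := fun f => Subtype.ext (funext fun i => e.symm_apply_apply (f.1 i))
        right_inv := fun x => Prod.ext (Function.Embedding.ext fun i => by simp)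
          (funext fun i => by simp) }
    rw [show T.card = Nat.card {f : Fin 3 → G ⧸ H // Function.Injective (π ∘ f)} by
      rw [Nat.card_eq_fintype_card, Fintype.card_subtype], Nat.card_congr e1, Nat.card_prod,
      Nat.card_eq_fintype_card, Fintype.card_embedding_eq, Nat.card_fun, ← hmm, Fintype.card_fin,
      Nat.card_eq_fintype_card, Fintype.card_fin, ← Nat.card_eq_fintype_card]
    show B.index.descFactorial 3 * _ = _
    simp only [Nat.descFactorial_succ, Nat.descFactorial_zero, Nat.sub_zero]
    ring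
  let f3 : (Fin 3 → G ⧸ H) → _ := fun f => (r (f 0, f 1), r (f 0, f 2), r (f 1, f 2))
  have hfib : ∀ x ∈ T.image f3, (T.filter fun f => f3 f = x).card ≤ Nat.card G := by
    intro x hx
    obtain ⟨I, -, rfl⟩ := Finset.mem_image.1 hx
    rw [Nat.card_eq_fintype_card, ← Finset.card_univ]
    refine le_trans (Finset.card_le_card fun J hJ => ?_)
      (Finset.card_image_le (f := fun g : G => g • I))
    rw [Finset.mem_filter] at hJ
    obtain ⟨h01, h02, h12⟩ : r (J 0, J 1) = r (I 0, I 1) ∧ r (J 0, J 2) = r (I 0, I 2) ∧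
        r (J 1, J 2) = r (I 1, I 2) := by simpa [f3] using hJ.2
    obtain ⟨a, ha⟩ := Quotient.exact h01
    obtain ⟨b, hb'⟩ := Quotient.exact h02
    obtain ⟨c, hc⟩ := Quotient.exact h12
    obtain ⟨a0, a1⟩ := Prod.ext_iff.1 ha
    obtain ⟨b0, b2⟩ := Prod.ext_iff.1 hb'
    obtain ⟨c1, c2⟩ := Prod.ext_iff.1 hc
    obtain ⟨g, hg⟩ := hb.exists_map I J fun i j => by
      fin_cases i <;> fin_cases j <;>
        first
          | exact ⟨a, a0, a1⟩ | exact ⟨a, a1, a0⟩ | exact ⟨b, b0, b2⟩ | exact ⟨b, b2, b0⟩
          | exact ⟨c, c1, c2⟩ | exact ⟨c, c2, c1⟩ | exact ⟨a, a0, a0⟩ | exact ⟨a, a1, a1⟩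
          | exact ⟨b, b2, b2⟩
    exact Finset.mem_image.2 ⟨g, Finset.mem_univ _, funext hg⟩
  have h1 := Finset.card_le_mul_card_image T (Nat.card G) hfib
  have h2 : (T.image f3).card ≤ mm ^ 3 := by
    refine le_trans (Finset.card_le_card (t := P.image r ×ˢ (P.image r ×ˢ P.image r)) fun x hx => ?_) ?_
    · obtain ⟨f, hf, rfl⟩ := Finset.mem_image.1 hx
      simp only [T, Finset.mem_filter, Finset.mem_univ, true_and] at hf
      have hne : ∀ i j, i ≠ j → (f i, f j) ∈ P := fun i j hij => by
        simp only [P, Finset.mem_filter, Finset.mem_univ, true_and]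
        exact fun h => hij (hf h)
      simp only [Finset.mem_product, f3]
      exact ⟨Finset.mem_image_of_mem _ (hne 0 1 (by decide)),
        Finset.mem_image_of_mem _ (hne 0 2 (by decide)),
        Finset.mem_image_of_mem _ (hne 1 2 (by decide))⟩
    · rw [Finset.card_product, Finset.card_product, pow_succ', sq]
      gcongr
  rw [hT, hG] at h1
  have h3 : 0 < B.index * mm ^ 3 := by
    have h2 : 0 < B.index := Nat.pos_of_ne_zero B.index_ne_zero_of_finite
    have h4 : 0 < mm := Nat.card_pos
    positivity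
  refine absurd (Nat.le_of_mul_le_mul_right ?_ h3) (not_le.2 hbig)
  calc (B.index - 1) * (B.index - 2) * (B.index * mm ^ 3)
      = B.index * (B.index - 1) * (B.index - 2) * mm ^ 3 := by ring
    _ ≤ B.index * Nat.card B * (T.image f3).card := h1
    _ ≤ B.index * Nat.card B * mm ^ 3 := Nat.mul_le_mul_left _ h2
    _ = Nat.card B * (B.index * mm ^ 3) := by ring

end CfsgLib.KnownB.BinaryCoset
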