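import Cfsg.Agent.Lib.KnownB.BinaryCoset

/-!
Transport of binary coset actions and of centres of Sylow subgroups along an isomorphism.
-/

set_option autoImplicit false

namespace CfsgLib.KnownB.BinaryCoset

open CfsgLib.Binary

variable {G G' : Type*} [Group G] [Group G']

theorem congr_mulEquiv (e : G ≃* G') {H : Subgroup G} {H' : Subgroup G'}
    (hmap : H.map e.toMonoidHom = H') : IsBinary G (G ⧸ H) ↔ IsBinary G' (G' ⧸ H') := by
  subst hmap
  have hmem : ∀ z, z ∈ H.map e.toMonoidHom ↔ e.symm z ∈ H := fun z => Subgroup.mem_map_equiv
  let f : G ⧸ H ≃ G' ⧸ H.map e.toMonoidHom :=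
    { toFun := Quotient.map' e fun x y h => by
        rw [QuotientGroup.leftRel_apply] at h ⊢
        rw [hmem]
        simpa using h
      invFun := Quotient.map' e.symm fun x y h => by
        rw [QuotientGroup.leftRel_apply] at h ⊢
        rw [hmem] at h
        simpa using h
      left_inv := fun x => by
        induction x using Quotient.inductionOn' with
        | h x => exact congrArg QuotientGroup.mk (e.symm_apply_apply x)
      right_inv := fun x => by
        induction x using Quotient.inductionOn' with
        | h x => exact congrArg QuotientGroup.mk (e.apply_symm_apply x) }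
  have hf : ∀ (g : G) (x : G ⧸ H), f (g • x) = e g • f x := fun g x => by
    induction x using Quotient.inductionOn' with
    | h x => exact congrArg QuotientGroup.mk (map_mul e g x)
  constructor
  · intro h n I J hn hp
    obtain ⟨g, hg⟩ := h n (fun i => f.symm (I i)) (fun i => f.symm (J i)) hn fun i j hij => by
      obtain ⟨g, h1, h2⟩ := hp i j hij
      refine ⟨e.symm g, f.injective ?_, f.injective ?_⟩ <;>
        simp only [hf, Equiv.apply_symm_apply, MulEquiv.apply_symm_apply, h1, h2]
    exact ⟨e g, fun i => by
      have := congrArg f (hg i)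
      rwa [hf, Equiv.apply_symm_apply, Equiv.apply_symm_apply] at this⟩
  · intro h n I J hn hp
    obtain ⟨g, hg⟩ := h n (fun i => f (I i)) (fun i => f (J i)) hn fun i j hij => by
      obtain ⟨g, h1, h2⟩ := hp i j hij
      exact ⟨e g, by rw [← hf, h1], by rw [← hf, h2]⟩
    refine ⟨e.symm g, fun i => f.injective ?_⟩
    rw [hf, MulEquiv.apply_symm_apply, hg i]

theorem map_center_map (e : G ≃* G') (P : Subgroup G) (Q : Subgroup G')
    (hQ : P.map e.toMonoidHom = Q) :
    ((Subgroup.center P).map P.subtype).map e.toMonoidHom = (Subgroup.center Q).map Q.subtype := by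
  subst hQ
  let eP := P.equivMapOfInjective e.toMonoidHom e.injective
  have hc : (Subgroup.center P).map eP.toMonoidHom = Subgroup.center _ := by
    ext z
    rw [Subgroup.mem_map_equiv, Subgroup.mem_center_iff, Subgroup.mem_center_iff]
    exact ⟨fun h g => eP.symm.injective (by rw [map_mul, map_mul]; exact h (eP.symm g)),
      fun h g => eP.injective (by rw [map_mul, map_mul, eP.apply_symm_apply]; exact h (eP g))⟩
  rw [← hc, Subgroup.map_map, Subgroup.map_map]
  rfl

theorem exists_center_map (e : G ≃* G') {p : ℕ} [Fact p.Prime] [Finite G] {H : Subgroup G}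
    {H' : Subgroup G'} (hmap : H.map e.toMonoidHom = H') :
    (∃ P : Sylow p G, H = (Subgroup.center (P : Subgroup G)).map (P : Subgroup G).subtype) →
      ∃ P : Sylow p G', H' = (Subgroup.center (P : Subgroup G')).map (P : Subgroup G').subtype := by
  rintro ⟨P, rfl⟩
  exact ⟨P.mapSurjective (f := e.toMonoidHom) e.surjective, by
    rw [← hmap]; exact map_center_map e _ _ (Sylow.coe_mapSurjective _ P).symm⟩

end CfsgLib.KnownB.BinaryCoset
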