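import Mathlib
import Cfsg.Agent.Lib.KnownB.ChevCells

/-!
The Steinberg character on an element of a parabolic subgroup `P_K` which lies in no conjugate of a
smaller parabolic subgroup: `St(x) = (-1)^|K| ·` (number of fixed points of `x` on `P_K/L_K`).
-/

set_option autoImplicit false

namespace CfsgLib.Chev

open Cfsg.Lie Matrix

variable {D : ChevalleyDatum} {F : Type*} [Field F]

/-- The unipotent radical inside the group. -/
abbrev radIn (D : ChevalleyDatum) (F : Type*) [Field F] (K : Finset ℕ) :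
    Subgroup ↥(D.group F) :=
  (D.unipotentRadical F (K : Set ℕ)).subgroupOf (D.group F)

/-- The Levi subgroup inside the group. -/
abbrev levIn (D : ChevalleyDatum) (F : Type*) [Field F] (K : Finset ℕ) :
    Subgroup ↥(D.group F) :=
  (D.leviSubgroup F (K : Set ℕ)).subgroupOf (D.group F)

namespace Good

variable (g : Good D)
include g

/-- The fundamental ascents of `w`. -/
noncomputable def asc (w : Equiv.Perm (Fin D.nroots)) : Finset ℕ :=
  (Finset.range D.rank).filter fun j => ∃ h : j < D.rank, half D ≤ (w (g.sroot ⟨j, h⟩)).val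

/-- The fundamental roots sent to fundamental roots in `K`. -/
noncomputable def preK (K : Finset ℕ) (w : Equiv.Perm (Fin D.nroots)) : Finset ℕ :=
  open Classical in (Finset.range D.rank).filter fun j => ∃ h : j < D.rank, ∃ q : Fin D.rank,
    (q : ℕ) ∈ K ∧ w (g.sroot ⟨j, h⟩) = g.sroot q

lemma mem_asc {w : Equiv.Perm (Fin D.nroots)} {j : Fin D.rank} :
    (j : ℕ) ∈ g.asc w ↔ half D ≤ (w (g.sroot j)).val := by
  simp [asc, j.2]

lemma mem_preK {K : Finset ℕ} {w : Equiv.Perm (Fin D.nroots)} {j : Fin D.rank} :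
    (j : ℕ) ∈ g.preK K w ↔ ∃ q : Fin D.rank, (q : ℕ) ∈ K ∧ w (g.sroot j) = g.sroot q := by
  simp [preK, j.2]

lemma asc_subset_range (w : Equiv.Perm (Fin D.nroots)) : g.asc w ⊆ Finset.range D.rank :=
  Finset.filter_subset _ _

lemma preK_subset_range (K : Finset ℕ) (w : Equiv.Perm (Fin D.nroots)) :
    g.preK K w ⊆ Finset.range D.rank := by
  classical exact Finset.filter_subset _ _

lemma minL_iff_subset_asc {J : Finset ℕ} (hJ : J ⊆ Finset.range D.rank)
    (w : Equiv.Perm (Fin D.nroots)) : g.MinL (J : Set ℕ) w ↔ J ⊆ g.asc w := by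
  constructor
  · intro h j hj
    exact (g.mem_asc (j := ⟨j, Finset.mem_range.1 (hJ hj)⟩)).2 (h _ hj)
  · intro h q hq
    exact g.mem_asc.1 (h hq)

lemma preK_subset_asc (K : Finset ℕ) (w : Equiv.Perm (Fin D.nroots)) :
    g.preK K w ⊆ g.asc w := by
  intro j hj
  obtain ⟨q, -, he⟩ := (g.mem_preK (j := ⟨j, Finset.mem_range.1 (g.preK_subset_range K w hj)⟩)).1 hj
  refine (g.mem_asc (j := ⟨j, Finset.mem_range.1 (g.preK_subset_range K w hj)⟩)).2 ?_
  rw [he]
  exact g.sroot_pos q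

/-- The opposite element of `K` has ascents exactly the preimages of `K`. -/
lemma opp_preK {K : Finset ℕ} {w : Equiv.Perm (Fin D.nroots)} (hw : w ∈ g.weyl)
    (h : g.IsOpp (K : Set ℕ) w) : g.preK K w = g.asc w := by
  refine Finset.Subset.antisymm (g.preK_subset_asc K w) fun j hj => ?_
  have hjr := Finset.mem_range.1 (g.asc_subset_range w hj)
  have hpos := (g.mem_asc (j := ⟨j, hjr⟩)).1 hj
  set a := w (g.sroot ⟨j, hjr⟩) with ha
  have hwa : w⁻¹ a = g.sroot ⟨j, hjr⟩ := Equiv.symm_apply_apply _ _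
  have hs := g.opp_pos_supp h hpos (by rw [hwa]; exact g.sroot_pos _)
  obtain ⟨q, hq, he⟩ := g.eq_sroot_of_image (inv_mem hw) (g.opp_minL_inv h) hpos hs hwa
  exact (g.mem_preK (j := ⟨j, hjr⟩)).2 ⟨q, hq, he⟩

lemma opp_card {K : Finset ℕ} (hK : K ⊆ Finset.range D.rank) {w : Equiv.Perm (Fin D.nroots)}
    (hw : w ∈ g.weyl) (h : g.IsOpp (K : Set ℕ) w) : (g.preK K w).card = K.card := by
  classical
  refine Finset.card_bij
    (fun j hj => ((g.mem_preK (j := ⟨j, Finset.mem_range.1 (g.preK_subset_range K w hj)⟩)).1 hj).choose.1)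
    (fun j hj => ?_) (fun i hi j hj he => ?_) fun k hk => ?_
  · exact ((g.mem_preK (j := ⟨j, Finset.mem_range.1 (g.preK_subset_range K w hj)⟩)).1 hj).choose_spec.1
  · have h1 := ((g.mem_preK (j := ⟨i, Finset.mem_range.1 (g.preK_subset_range K w hi)⟩)).1 hi).choose_spec.2
    have h2 := ((g.mem_preK (j := ⟨j, Finset.mem_range.1 (g.preK_subset_range K w hj)⟩)).1 hj).choose_spec.2
    rw [Fin.ext he] at h1
    exact congrArg Fin.val (g.sroot_injective (w.injective (h1.trans h2.symm)))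
  · obtain ⟨j, hj⟩ := g.opp_meet hw h (q := ⟨k, Finset.mem_range.1 (hK hk)⟩) hk
    have hjm : (j : ℕ) ∈ g.preK K w := g.mem_preK.2 ⟨_, hk, hj⟩
    refine ⟨j, hjm, ?_⟩
    have h1 := ((g.mem_preK (j := ⟨(j : ℕ), Finset.mem_range.1 (g.preK_subset_range K w hjm)⟩)).1 hjm).choose_spec.2
    exact congrArg Fin.val (g.sroot_injective (h1.symm.trans hj))

lemma radIn_eq_cellU (hse : SuppEq D) {K : Finset ℕ} {w : Equiv.Perm (Fin D.nroots)}
    (h : g.IsOpp (K : Set ℕ) w) : radIn D F K = g.cellU F w := by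
  rw [radIn, cellU, g.unipotentRadical_eq hse]
  congr 2
  ext r
  exact ⟨fun ⟨hr, hp, hn⟩ => ⟨hr, hp, (h ⟨r, hr⟩ hp).2 hn⟩,
    fun ⟨hr, hp, hn⟩ => ⟨hr, hp, (h ⟨r, hr⟩ hp).1 hn⟩⟩

lemma radIn_le_borelIn (hse : SuppEq D) (K : Finset ℕ) : radIn D F K ≤ borelIn D F := by
  intro x hx
  refine Subgroup.mem_subgroupOf.2 (Subgroup.mem_sup_left ?_)
  have h := Subgroup.mem_subgroupOf.1 hx
  rw [g.unipotentRadical_eq hse] at h
  rw [g.posUnipotent_eq]
  exact g.rootGen_mono (fun r hr _ => hr.2.1) h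

lemma radIn_le_parabolicIn (hse : SuppEq D) (K : Finset ℕ) :
    radIn D F K ≤ D.parabolicIn F K :=
  (g.radIn_le_borelIn hse K).trans (borelIn_le_parabolicIn K)

lemma levIn_le_parabolicIn (hse : SuppEq D) (K : Finset ℕ) :
    levIn D F K ≤ D.parabolicIn F K := fun x hx => by
  refine Subgroup.mem_subgroupOf.2 ?_
  rw [← g.radical_sup_levi hse]
  exact Subgroup.mem_sup_right (Subgroup.mem_subgroupOf.1 hx)

lemma radIn_inf_levIn (hse : SuppEq D) (K : Finset ℕ) {x : ↥(D.group F)}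
    (h : x ∈ radIn D F K) (h' : x ∈ levIn D F K) : x = 1 := by
  have h1 : (x : GL D.Idx F) ∈ D.unipotentRadical F (K : Set ℕ) ⊓ D.leviSubgroup F (K : Set ℕ) :=
    ⟨Subgroup.mem_subgroupOf.1 h, Subgroup.mem_subgroupOf.1 h'⟩
  rw [g.radical_inf_levi hse, Subgroup.mem_bot] at h1
  exact Subtype.ext h1

lemma radIn_conj (hc : HasComm D) (hse : SuppEq D) {K : Finset ℕ} {p v : ↥(D.group F)}
    (hp : p ∈ D.parabolicIn F K) (hv : v ∈ radIn D F K) : p * v * p⁻¹ ∈ radIn D F K :=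
  Subgroup.mem_subgroupOf.2 ((Subgroup.mem_normalizer_iff.1
    (g.parabolic_le_normalizer_radical hc hse (K : Set ℕ) (Subgroup.mem_subgroupOf.1 hp)) _).1
      (Subgroup.mem_subgroupOf.1 hv))

/-- `P_K = V_K L_K`. -/
lemma exists_rad_levi (hc : HasComm D) (hse : SuppEq D) {K : Finset ℕ} {x : ↥(D.group F)}
    (hx : x ∈ D.parabolicIn F K) :
    ∃ v ∈ radIn D F K, ∃ l ∈ levIn D F K, x = v * l := by
  have h1 := Subgroup.mem_subgroupOf.1 hx
  rw [← g.radical_sup_levi hse] at h1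
  have hle : D.leviSubgroup F (K : Set ℕ) ≤
      Subgroup.normalizer (D.unipotentRadical F (K : Set ℕ) : Set (GL D.Idx F)) := by
    refine le_trans ?_ (g.parabolic_le_normalizer_radical hc hse _)
    rw [← g.radical_sup_levi hse]
    exact le_sup_right
  have h2 := SetLike.mem_coe.2 h1
  rw [Subgroup.coe_mul_of_right_le_normalizer_left _ _ hle] at h2
  obtain ⟨v, hv, l, hl, he⟩ := Set.mem_mul.1 h2
  have hvG : v ∈ D.group F := by
    rw [SetLike.mem_coe, g.unipotentRadical_eq hse] at hv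
    refine g.posUnipotent_le_group ?_
    rw [g.posUnipotent_eq]
    exact g.rootGen_mono (fun r hr _ => hr.2.1) hv
  have hlG : l ∈ D.group F := by
    have := mul_mem (inv_mem hvG) x.2
    rwa [← he, inv_mul_cancel_left] at this
  exact ⟨⟨v, hvG⟩, Subgroup.mem_subgroupOf.2 hv, ⟨l, hlG⟩, Subgroup.mem_subgroupOf.2 hl,
    Subtype.ext he.symm⟩

/-- `n_w⁻¹ L_K n_w ⊆ P_M` when `w` maps `M` onto `K`. -/
lemma conj_levIn (hse : SuppEq D) {K M : Finset ℕ} (hK : K ⊆ Finset.range D.rank)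
    {w : Equiv.Perm (Fin D.nroots)} (hw : w ∈ g.weyl)
    (hM : ∀ q : Fin D.rank, (q : ℕ) ∈ K →
      ∃ j : Fin D.rank, (j : ℕ) ∈ M ∧ w (g.sroot j) = g.sroot q)
    {l : ↥(D.group F)} (hl : l ∈ levIn D F K) :
    (g.nW F w)⁻¹ * l * g.nW F w ∈ D.parabolicIn F M := by
  have hsupp : ∀ a : Fin D.nroots, g.SuppIn (K : Set ℕ) a → g.SuppIn (M : Set ℕ) (w⁻¹ a) := by
    intro a ha p hp hpM
    obtain ⟨m, hm⟩ := g.exists_wperm (inv_mem hw)
    rw [← hm, g.co_wperm m a hp]
    refine Finset.sum_eq_zero fun q _ => ?_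
    by_cases hq : (q : ℕ) ∈ K
    · obtain ⟨j, hj, he⟩ := hM q hq
      have e : w⁻¹ (g.sroot q) = g.sroot j := by
        rw [← he]; exact Equiv.symm_apply_apply _ _
      rw [hm, e, show g.co (g.sroot j) p = if (j : ℕ) = p then 1 else 0 from g.co_simple j.2 hp,
        if_neg fun e' : (j : ℕ) = p => hpM (by rw [← e']; exact hj), mul_zero]
    · rw [ha q q.2 hq, zero_mul]
  have hle : D.leviSubgroup F (K : Set ℕ) ≤ (D.parabolicSubgroup F (M : Set ℕ)).comap
      (MulAut.conj (g.nW F w : GL D.Idx F)⁻¹).toMonoidHom := by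
    refine sup_le (fun h hh => ?_) ((Subgroup.closure_le _).2 ?_)
    · refine Subgroup.mem_comap.2 (Subgroup.mem_sup_left (Subgroup.mem_sup_right ?_))
      exact g.diag_conj (inv_mem (g.nW_mem_monomial hw)) hh
    · rintro x ⟨r, t, hr, hx⟩
      obtain ⟨hlt, hs⟩ := (g.inRootSub_iff hse _ r).1 hr
      obtain ⟨c, hc'⟩ := g.acts_inv (g.acts_nW (F := F) hw) ⟨r, hlt⟩
      rw [g.eq_xG hx, SetLike.mem_coe, Subgroup.mem_comap]
      show (g.nW F w : GL D.Idx F)⁻¹ * g.xG r t * (g.nW F w : GL D.Idx F)⁻¹⁻¹ ∈ _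
      rw [show (g.nW F w : GL D.Idx F)⁻¹ * g.xG r t * (g.nW F w : GL D.Idx F)⁻¹⁻¹ =
        g.xG (w⁻¹ ⟨r, hlt⟩) ((c : F) * t) from hc' t]
      exact g.xG_mem_parabolic hse
        (Or.inr ((g.inRootSub_iff hse _ _).2 ⟨Fin.isLt _, hsupp ⟨r, hlt⟩ hs⟩)) _
  have h := hle (Subgroup.mem_subgroupOf.1 hl)
  refine Subgroup.mem_subgroupOf.2 ?_
  simpa [MulAut.conj_apply] using h

/-- The shortest elements whose double coset in `W_K \ W / W_J` has no smaller meet. -/
def IsFull (K : Finset ℕ) (w : Equiv.Perm (Fin D.nroots)) : Prop :=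
  g.MinL (K : Set ℕ) w⁻¹ ∧
    ∀ q : Fin D.rank, (q : ℕ) ∈ K → ∃ j : Fin D.rank, w (g.sroot j) = g.sroot q

/-- `x` lies in no conjugate within `P_K` of a smaller standard parabolic subgroup. -/
def IsEllip (_g : Good D) (K : Finset ℕ) (x : ↥(D.group F)) : Prop :=
  ∀ K', K' ⊂ K → ∀ p ∈ D.parabolicIn F K, p⁻¹ * x * p ∉ D.parabolicIn F K'

lemma conj_mem_wJ {K J : Set ℕ} {w : Equiv.Perm (Fin D.nroots)} (hw : w ∈ g.weyl)
    (h : ∀ q : Fin D.rank, (q : ℕ) ∈ K →
      ∃ j : Fin D.rank, (j : ℕ) ∈ J ∧ w (g.sroot j) = g.sroot q)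
    {v : Equiv.Perm (Fin D.nroots)} (hv : v ∈ g.wJ K) : w⁻¹ * v * w ∈ g.wJ J := by
  induction hv using Subgroup.closure_induction with
  | mem s hs =>
    obtain ⟨q, hq, rfl⟩ := hs
    obtain ⟨j, hj, hjq⟩ := h q hq
    obtain ⟨l, rfl⟩ := g.exists_wperm hw
    rw [mul_assoc, ← g.wperm_conj hjq, inv_mul_cancel_left]
    exact Subgroup.subset_closure ⟨j, hj, rfl⟩
  | one => simp
  | mul s t _ _ hs ht =>
    have := mul_mem hs ht
    simpa [mul_assoc] using this
  | inv s _ hs =>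
    have := inv_mem hs
    simpa [mul_assoc] using this

lemma fixed_imp_full (hc : HasComm D) {J K : Finset ℕ}
    (hK : K ⊆ Finset.range D.rank) {x : ↥(D.group F)} (hx : x ∈ D.parabolicIn F K)
    (hell : g.IsEllip K x) {w : Equiv.Perm (Fin D.nroots)} (hw : w ∈ g.weyl)
    (hm : g.MinL (J : Set ℕ) w) {c : ↥(D.group F) ⧸ borelIn D F} (hcw : c ∈ g.cellQ F w)
    (hfix : x • projQ J c = projQ J c) : g.IsFull K w ∧ g.preK K w ⊆ J := by
  classical
  obtain ⟨a, ha, rfl⟩ := hcw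
  obtain ⟨x0, hx0, hD, a1, ha1, b1, hb1, he⟩ := g.exists_minD (K : Set ℕ) (J : Set ℕ) hw
  obtain ⟨a', ha', he'⟩ := g.minL_eq_left hx0 hD.1 hm ha1 hb1 he
  obtain ⟨b, hb, e, hee, hae⟩ := ha
  set n := g.nW F x0
  set p := b * g.nW F a' with hp_def
  have hp : p ∈ D.parabolicIn F K :=
    mul_mem (borelIn_le_parabolicIn K hb) (g.nW_mem_parabolicIn ha')
  set e' := (g.nW F a' * n)⁻¹ * g.nW F w * e with he'_def
  have he'B : e' ∈ borelIn D F := by
    have h1 := inv_mem (g.nW_mul (F := F) (g.weyl_le_wJ ha') hx0)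
    rw [← he', _root_.mul_inv_rev, inv_inv] at h1
    exact mul_mem h1 hee
  have hape : a = p * n * e' := by rw [hae, hp_def, he'_def]; group
  have hy : a⁻¹ * x * a ∈ D.parabolicIn F J := by
    rw [projQ_mk, MulAction.Quotient.smul_coe, smul_eq_mul] at hfix
    have := inv_mem (QuotientGroup.eq.1 hfix)
    simpa [mul_assoc] using this
  set z := p⁻¹ * x * p with hz_def
  have hz : z ∈ D.parabolicIn F K := mul_mem (mul_mem (inv_mem hp) hx) hp
  have hy' : n⁻¹ * z * n ∈ D.parabolicIn F J := by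
    have e1 : n⁻¹ * z * n = e' * (a⁻¹ * x * a) * e'⁻¹ := by rw [hape, hz_def]; group
    rw [e1]
    exact mul_mem (mul_mem (borelIn_le_parabolicIn J he'B) hy)
      (inv_mem (borelIn_le_parabolicIn J he'B))
  obtain ⟨v, hv, hzv⟩ := g.exists_cellW hc z
  obtain ⟨y, hyw, hyv⟩ := g.exists_cellW hc (n⁻¹ * z * n)
  have hvK := (g.mem_parabolicIn_iff hc hv hzv).1 hz
  have hyJ := (g.mem_parabolicIn_iff hc hyw hyv).1 hy'
  have h1 := g.cellW_mul hc hv hx0 (g.ninv_wJ_mul hx0 hD.2 hvK) hzv (g.nW_mem_cellW x0)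
  have h2 := g.cellW_mul hc hx0 hyw (g.ninv_mul_wJ hx0 hD.1 hyJ) (g.nW_mem_cellW x0) hyv
  rw [show n * (n⁻¹ * z * n) = z * n by group] at h2
  have h3 := g.cellW_unique hc (mul_mem hv hx0) (mul_mem hx0 hyw) h1 h2
  have hmeet := g.mem_meet hx0 hD hvK (by
    rw [mul_assoc, h3, inv_mul_cancel_left]; exact hyJ)
  set K' := K.filter (fun k => k ∈ g.meet (K : Set ℕ) (J : Set ℕ) x0) with hK'
  have hK'eq : (K' : Set ℕ) = g.meet (K : Set ℕ) (J : Set ℕ) x0 := by
    ext k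
    simp only [hK', Finset.coe_filter, Set.mem_ofPred_eq]
    exact ⟨fun h => h.2, fun h => ⟨h.1, h⟩⟩
  have hzK' : z ∈ D.parabolicIn F K' := by
    rw [g.mem_parabolicIn_iff hc hv hzv, hK'eq]; exact hmeet
  have hKK : K' = K := by
    by_contra hne
    exact hell K' ((Finset.filter_subset _ _).ssubset_of_ne hne) p hp hzK'
  have hall : ∀ q : Fin D.rank, (q : ℕ) ∈ K →
      ∃ j : Fin D.rank, (j : ℕ) ∈ J ∧ x0 (g.sroot j) = g.sroot q := by
    intro q hq
    rw [← hKK] at hq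
    obtain ⟨-, j, q', hq', hj, hjq⟩ := (Finset.mem_filter.1 hq).2
    rw [show q = q' from Fin.ext hq'.symm]
    exact ⟨j, hj, hjq⟩
  have hconj : x0⁻¹ * a' * x0 ∈ g.wJ (J : Set ℕ) := g.conj_mem_wJ hx0 hall ha'
  have hwx : w = x0 := g.minL_eq hx0 hD.1 hm (by rw [he', ← mul_assoc]; exact hconj)
  subst hwx
  refine ⟨⟨hD.2, fun q hq => ?_⟩, fun j hj => ?_⟩
  · obtain ⟨j, -, h⟩ := hall q hq
    exact ⟨j, h⟩
  · have hjr := Finset.mem_range.1 (g.preK_subset_range K w hj)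
    obtain ⟨q, hq, hjq⟩ := (g.mem_preK (j := ⟨j, hjr⟩)).1 hj
    obtain ⟨j', hj', hjq'⟩ := hall q hq
    have := congrArg Fin.val (g.sroot_injective (w.injective (hjq'.trans hjq.symm)))
    simp only at this
    rwa [← this]

lemma full_conj_wJ {K : Finset ℕ} {w : Equiv.Perm (Fin D.nroots)} (hw : w ∈ g.weyl)
    (hf : g.IsFull K w) {v : Equiv.Perm (Fin D.nroots)} (hv : v ∈ g.wJ (K : Set ℕ)) :
    w⁻¹ * v * w ∈ g.wJ (g.preK K w : Set ℕ) := by
  refine g.conj_mem_wJ hw (fun q hq => ?_) hv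
  obtain ⟨j, hjq⟩ := hf.2 q hq
  exact ⟨j, g.mem_preK.2 ⟨q, hq, hjq⟩, hjq⟩

lemma fixed_iff_preK (hc : HasComm D) {J K : Finset ℕ} (hJ : J ⊆ Finset.range D.rank)
    {x : ↥(D.group F)} (hx : x ∈ D.parabolicIn F K) {w : Equiv.Perm (Fin D.nroots)}
    (hw : w ∈ g.weyl) (hm : g.MinL (J : Set ℕ) w) (hf : g.IsFull K w) (hsub : g.preK K w ⊆ J)
    {c : ↥(D.group F) ⧸ borelIn D F} (hcw : c ∈ g.cellQ F w) :
    x • projQ J c = projQ J c ↔ x • projQ (g.preK K w) c = projQ (g.preK K w) c := by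
  obtain ⟨a, ha, rfl⟩ := hcw
  simp only [projQ_mk, MulAction.Quotient.smul_coe, smul_eq_mul, QuotientGroup.eq]
  constructor
  · intro h
    obtain ⟨y, hy, hyc⟩ := g.exists_cellW hc ((x * a)⁻¹ * a)
    have hyJ := (g.mem_parabolicIn_iff hc hy hyc).1 h
    have h1 := g.inv_mem_cellW hy hyc
    rw [_root_.mul_inv_rev, inv_inv] at h1
    have hmem := g.cellW_mul hc hw (inv_mem hy) (g.ninv_mul_wJ hw hm (inv_mem hyJ)) ha h1
    rw [mul_inv_cancel_left] at hmem
    obtain ⟨v, hv, hxv⟩ := g.exists_cellW hc x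
    have hvK := (g.mem_parabolicIn_iff hc hv hxv).1 hx
    have h2 := g.cellW_mul hc hv hw (g.ninv_wJ_mul hw hf.1 hvK) hxv ha
    have h3 := g.cellW_unique hc (mul_mem hw (inv_mem hy)) (mul_mem hv hw) hmem h2
    have h4 : y⁻¹ ∈ g.wJ (g.preK K w : Set ℕ) := by
      have e : y⁻¹ = w⁻¹ * v * w := by rw [mul_assoc, ← h3, inv_mul_cancel_left]
      rw [e]
      exact g.full_conj_wJ hw hf hvK
    exact (g.mem_parabolicIn_iff hc hy hyc).2 (inv_mem_iff.1 h4)
  · intro h
    obtain ⟨y, hy, hyc⟩ := g.exists_cellW hc ((x * a)⁻¹ * a)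
    exact (g.mem_parabolicIn_iff hc hy hyc).2
      (g.wJ_mono (Finset.coe_subset.2 hsub) ((g.mem_parabolicIn_iff hc hy hyc).1 h))

lemma sum_interval {M A : Finset ℕ} (h : M ⊆ A) :
    ∑ J ∈ A.powerset with M ⊆ J, (-1 : ℂ) ^ J.card = if M = A then (-1 : ℂ) ^ M.card else 0 := by
  classical
  have e : ∑ J ∈ A.powerset with M ⊆ J, (-1 : ℂ) ^ J.card =
      ∑ T ∈ (A \ M).powerset, (-1 : ℂ) ^ M.card * (-1 : ℂ) ^ T.card := by
    refine Finset.sum_bij' (fun J _ => J \ M) (fun T _ => T ∪ M) ?_ ?_ ?_ ?_ ?_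
    · intro J hJ
      simp only [Finset.mem_filter, Finset.mem_powerset] at hJ ⊢
      exact Finset.sdiff_subset_sdiff hJ.1 subset_rfl
    · intro T hT
      simp only [Finset.mem_filter, Finset.mem_powerset] at hT ⊢
      exact ⟨Finset.union_subset (hT.trans Finset.sdiff_subset) h, Finset.subset_union_right⟩
    · intro J hJ
      simp only [Finset.mem_filter, Finset.mem_powerset] at hJ
      exact Finset.sdiff_union_of_subset hJ.2
    · intro T hT
      simp only [Finset.mem_powerset] at hT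
      rw [Finset.union_sdiff_right]
      exact Finset.sdiff_eq_self_of_disjoint (Finset.disjoint_of_subset_left hT Finset.sdiff_disjoint)
    · intro J hJ
      simp only [Finset.mem_filter, Finset.mem_powerset] at hJ
      rw [← pow_add, add_comm, Finset.card_sdiff_add_card_eq_card hJ.2]
  rw [e, ← Finset.mul_sum]
  have h2 : (∑ T ∈ (A \ M).powerset, (-1 : ℂ) ^ T.card) =
      ((if A \ M = ∅ then (1 : ℤ) else 0 : ℤ) : ℂ) := by
    rw [← Finset.sum_powerset_neg_one_pow_card]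
    push_cast
    rfl
  rw [h2]
  by_cases hMA : M = A
  · subst hMA; simp
  · rw [if_neg hMA, if_neg fun h0 => hMA (Finset.Subset.antisymm h (Finset.sdiff_eq_empty_iff_subset.1 h0))]
    simp

variable [Fintype F]

/-- The Steinberg character at an element of `P_K` elliptic in `P_K`. -/
theorem steinberg_ellip (hc : HasComm D) (hse : SuppEq D) {K : Finset ℕ}
    (hK : K ⊆ Finset.range D.rank) {x : ↥(D.group F)} (hx : x ∈ D.parabolicIn F K)
    (hell : g.IsEllip K x) :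
    D.steinbergCharacter F x = (-1 : ℂ) ^ K.card *
      (Nat.card {v : ↥(D.group F) // v ∈ radIn D F K ∧ v⁻¹ * x * v ∈ levIn D F K} : ℂ) := by
  classical
  set f : Equiv.Perm (Fin D.nroots) → ℕ := fun w => Nat.card {c // c ∈ g.cellQ F w ∧
    x • projQ (g.preK K w) c = projQ (g.preK K w) c}
  have step : ∀ J ∈ (Finset.range D.rank).powerset,
      Cfsg.fixedPointCharacter (D.parabolicIn F J) x =
        ∑ w : Equiv.Perm (Fin D.nroots), if (w ∈ g.weyl ∧ g.IsFull K w) ∧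
          g.preK K w ⊆ J ∧ J ⊆ g.asc w then (f w : ℂ) else 0 := by
    intro J hJ
    rw [Finset.mem_powerset] at hJ
    have e : Cfsg.fixedPointCharacter (D.parabolicIn F J) x =
        ((Nat.card {y : ↥(D.group F) ⧸ D.parabolicIn F J // x • y = y} : ℕ) : ℂ) := rfl
    rw [e, g.card_cosets hc J (fun y => x • y = y), Nat.cast_sum, ← Finset.sum_filter]
    symm
    refine Finset.sum_subset_zero_on_sdiff ?_ ?_ ?_
    · intro w hw
      simp only [Finset.mem_filter, Finset.mem_univ, true_and] at hw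
      exact g.mem_minLs.2 ⟨hw.1.1, (g.minL_iff_subset_asc hJ w).2 hw.2.2⟩
    · intro w hw
      simp only [Finset.mem_sdiff, Finset.mem_filter, Finset.mem_univ, true_and] at hw
      obtain ⟨hw1, hw2⟩ := g.mem_minLs.1 hw.1
      have : IsEmpty {c // c ∈ g.cellQ F w ∧ x • projQ J c = projQ J c} := by
        refine ⟨fun ⟨c, hc1, hc2⟩ => hw.2 ?_⟩
        obtain ⟨h1, h2⟩ := g.fixed_imp_full hc hK hx hell hw1 hw2 hc1 hc2
        exact ⟨⟨hw1, h1⟩, h2, (g.minL_iff_subset_asc hJ w).1 hw2⟩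
      rw [Nat.card_of_isEmpty, Nat.cast_zero]
    · intro w hw
      simp only [Finset.mem_filter, Finset.mem_univ, true_and] at hw
      have hm := (g.minL_iff_subset_asc hJ w).2 hw.2.2
      simp only [f]
      exact_mod_cast (Nat.card_congr (Equiv.subtypeEquivRight fun c =>
        and_congr_right fun hcw => g.fixed_iff_preK hc hJ hx hw.1.1 hm hw.1.2 hw.2.1 hcw)).symm
  rw [ChevalleyDatum.steinbergCharacter, Finset.sum_congr rfl fun J hJ => by rw [step J hJ]]
  simp_rw [Finset.mul_sum]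
  rw [Finset.sum_comm]
  obtain ⟨w0, hw0, hopp⟩ := g.exists_opp (K : Set ℕ)
  rw [Finset.sum_eq_single w0]
  · have hfull : g.IsFull K w0 := ⟨g.opp_minL_inv hopp, fun q hq => g.opp_meet hw0 hopp hq⟩
    have hMA := g.opp_preK hw0 hopp
    have e1 : ∀ J ∈ (Finset.range D.rank).powerset,
        ((-1 : ℂ) ^ J.card * if (w0 ∈ g.weyl ∧ g.IsFull K w0) ∧
          g.preK K w0 ⊆ J ∧ J ⊆ g.asc w0 then (f w0 : ℂ) else 0) =
        if J = g.preK K w0 then (-1 : ℂ) ^ J.card * (f w0 : ℂ) else 0 := by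
      intro J _
      by_cases hJ : J = g.preK K w0
      · subst hJ
        rw [if_pos ⟨⟨hw0, hfull⟩, subset_rfl, g.preK_subset_asc K w0⟩, if_pos rfl]
      · rw [if_neg hJ, if_neg fun h => hJ (Finset.Subset.antisymm (h.2.2.trans hMA.ge) h.2.1),
          mul_zero]
    rw [Finset.sum_congr rfl e1, Finset.sum_ite_eq', if_pos (Finset.mem_powerset.2
      (g.preK_subset_range K w0)), g.opp_card hK hw0 hopp]
    congr 2
    have hm : g.MinL (g.preK K w0 : Set ℕ) w0 :=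
      (g.minL_iff_subset_asc (g.preK_subset_range K w0) w0).2 (g.preK_subset_asc K w0)
    have hbij := g.cellU_bijOn (F := F) hc hw0
    rw [← g.radIn_eq_cellU (F := F) hse hopp] at hbij
    have hiff : ∀ v ∈ radIn D F K,
        (x • projQ (g.preK K w0) ((v * g.nW F w0 : ↥(D.group F)) : ↥(D.group F) ⧸ borelIn D F) =
          projQ (g.preK K w0) ((v * g.nW F w0 : ↥(D.group F)) : ↥(D.group F) ⧸ borelIn D F) ↔
        v⁻¹ * x * v ∈ levIn D F K) := by
      intro v hv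
      have hz : v⁻¹ * x * v ∈ D.parabolicIn F K :=
        mul_mem (mul_mem (inv_mem (g.radIn_le_parabolicIn hse K hv)) hx)
          (g.radIn_le_parabolicIn hse K hv)
      have hM : ∀ q : Fin D.rank, (q : ℕ) ∈ K → ∃ j : Fin D.rank,
          (j : ℕ) ∈ g.preK K w0 ∧ w0 (g.sroot j) = g.sroot q := by
        intro q hq
        obtain ⟨j, hj⟩ := g.opp_meet hw0 hopp hq
        exact ⟨j, g.mem_preK.2 ⟨q, hq, hj⟩, hj⟩
      rw [projQ_mk, MulAction.Quotient.smul_coe, smul_eq_mul, QuotientGroup.eq, ← inv_mem_iff,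
        show ((x * (v * g.nW F w0))⁻¹ * (v * g.nW F w0))⁻¹ =
          (g.nW F w0)⁻¹ * (v⁻¹ * x * v) * g.nW F w0 by group]
      refine ⟨fun h => ?_, fun h => g.conj_levIn hse hK hw0 hM h⟩
      obtain ⟨v', hv', l, hl, he⟩ := g.exists_rad_levi hc hse hz
      have h1 : (g.nW F w0)⁻¹ * v' * g.nW F w0 ∈ D.parabolicIn F (g.preK K w0) := by
        have := mul_mem h (inv_mem (g.conj_levIn hse hK hw0 hM hl))
        rw [he] at this
        simpa [mul_assoc] using this
      have h2 : projQ (g.preK K w0)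
          ((v' * g.nW F w0 : ↥(D.group F)) : ↥(D.group F) ⧸ borelIn D F) =
          projQ (g.preK K w0) ((1 * g.nW F w0 : ↥(D.group F)) : ↥(D.group F) ⧸ borelIn D F) := by
        rw [projQ_mk, projQ_mk, eq_comm, QuotientGroup.eq]
        simpa [mul_assoc] using h1
      obtain ⟨-, h3⟩ := g.projQ_inj hc hw0 hw0 hm hm (hbij.mapsTo hv') (hbij.mapsTo (one_mem _)) h2
      have h4 : v' = 1 := hbij.injOn hv' (one_mem _) h3
      rw [he, h4, one_mul]
      exact hl
    simp only [f]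
    refine Nat.card_congr (Equiv.ofBijective
      (fun v : {v : ↥(D.group F) // v ∈ radIn D F K ∧ v⁻¹ * x * v ∈ levIn D F K} =>
        (⟨((v.1 * g.nW F w0 : ↥(D.group F)) : ↥(D.group F) ⧸ borelIn D F),
          hbij.mapsTo v.2.1, (hiff v.1 v.2.1).2 v.2.2⟩ :
          {c // c ∈ g.cellQ F w0 ∧ x • projQ (g.preK K w0) c = projQ (g.preK K w0) c})) ⟨?_, ?_⟩).symm
    · exact fun v v' h => Subtype.ext (hbij.injOn v.2.1 v'.2.1 (Subtype.ext_iff.1 h))
    · rintro ⟨c, hc1, hc2⟩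
      obtain ⟨v, hv, rfl⟩ := hbij.surjOn hc1
      exact ⟨⟨v, hv, (hiff v hv).1 hc2⟩, rfl⟩
  · intro w _ hne
    by_cases hwf : w ∈ g.weyl ∧ g.IsFull K w
    · have hne' : g.preK K w ≠ g.asc w := by
        intro heq
        refine hne (g.opp_unique hw0 hwf.1 hopp (g.isOpp_of_ascents hwf.1 hwf.2.1 fun j hj => ?_))
        have hjA := g.mem_asc.2 hj
        rw [← heq] at hjA
        obtain ⟨q, hq, he⟩ := g.mem_preK.1 hjA
        rw [he]
        exact g.suppIn_sroot q hq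
      have hA : (g.asc w).powerset.filter (fun J => g.preK K w ⊆ J) =
          (Finset.range D.rank).powerset.filter (fun J => g.preK K w ⊆ J ∧ J ⊆ g.asc w) := by
        ext J
        simp only [Finset.mem_filter, Finset.mem_powerset]
        exact ⟨fun h => ⟨h.1.trans (g.asc_subset_range w), h.2, h.1⟩, fun h => ⟨h.2.2, h.2.1⟩⟩
      have h0 := g.sum_interval (g.preK_subset_asc K w)
      rw [if_neg hne', hA, Finset.sum_filter] at h0
      have h1 := congrArg (· * (f w : ℂ)) h0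
      simp only [Finset.sum_mul, zero_mul] at h1
      refine Eq.trans (Finset.sum_congr rfl fun J _ => ?_) h1
      by_cases hJ : g.preK K w ⊆ J ∧ J ⊆ g.asc w
      · rw [if_pos ⟨hwf, hJ⟩, if_pos hJ]
      · rw [if_neg fun h => hJ h.2, if_neg hJ, mul_zero, zero_mul]
    · exact Finset.sum_eq_zero fun J _ => by rw [if_neg fun h => hwf h.1, mul_zero]
  · simp

end Good

end CfsgLib.Chev
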