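import Mathlib

/-!
A `p'`-element of a semidirect product `V L`, `V` a `p`-group, is `V`-conjugate into `L`.
-/

set_option autoImplicit false

namespace CfsgLib.KnownB.ComplementFix

open scoped Classical

variable {G : Type*} [Group G]

/-- The number of `v ∈ V` conjugating a given element of `L` into `L`. -/
theorem card_conj_mem {V L : Subgroup G} (hnorm : ∀ l ∈ L, ∀ v ∈ V, l * v * l⁻¹ ∈ V)
    (hinf : ∀ a ∈ V, a ∈ L → a = 1) {l : G} (hl : l ∈ L) :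
    Nat.card {v : G // v ∈ V ∧ v⁻¹ * l * v ∈ L} =
      Nat.card ↥(V ⊓ Subgroup.centralizer ({l} : Set G)) := by
  refine Nat.card_congr (Equiv.subtypeEquivRight fun v => ?_)
  rw [Subgroup.mem_inf, Subgroup.mem_centralizer_singleton_iff]
  refine and_congr_right fun hv => ⟨fun h => ?_, fun h => ?_⟩
  · have h1 : v⁻¹ * (l * v * l⁻¹) ∈ V := mul_mem (inv_mem hv) (hnorm l hl v hv)
    have h2 : v⁻¹ * (l * v * l⁻¹) ∈ L := by
      have := mul_mem h (inv_mem hl)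
      simpa [mul_assoc] using this
    have h3 := hinf _ h1 h2
    rw [inv_mul_eq_one] at h3
    calc v * l = l * v * l⁻¹ * l := by rw [← h3]
      _ = l * v := by group
  · rw [show v⁻¹ * l * v = v⁻¹ * (l * v) by group, ← h, inv_mul_cancel_left]
    exact hl

theorem card_conj_mem_of_eq {V L : Subgroup G} (hnorm : ∀ l ∈ L, ∀ v ∈ V, l * v * l⁻¹ ∈ V)
    (hinf : ∀ a ∈ V, a ∈ L → a = 1) {x v₁ : G} (hv₁ : v₁ ∈ V) (hl : v₁⁻¹ * x * v₁ ∈ L) :
    Nat.card {v : G // v ∈ V ∧ v⁻¹ * x * v ∈ L} =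
      Nat.card ↥(V ⊓ Subgroup.centralizer ({v₁⁻¹ * x * v₁} : Set G)) := by
  rw [← card_conj_mem hnorm hinf hl]
  refine Nat.card_congr
    { toFun := fun v => ⟨v₁⁻¹ * v.1, mul_mem (inv_mem hv₁) v.2.1, ?_⟩
      invFun := fun v => ⟨v₁ * v.1, mul_mem hv₁ v.2.1, ?_⟩
      left_inv := fun v => Subtype.ext (mul_inv_cancel_left v₁ v.1)
      right_inv := fun v => Subtype.ext (inv_mul_cancel_left v₁ v.1) }
  · have h := v.2.2
    rw [show (v₁⁻¹ * v.1)⁻¹ * (v₁⁻¹ * x * v₁) * (v₁⁻¹ * v.1) = v.1⁻¹ * x * v.1 by group]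
    exact h
  · have h := v.2.2
    rw [show (v₁ * v.1)⁻¹ * x * (v₁ * v.1) = v.1⁻¹ * (v₁⁻¹ * x * v₁) * v.1 by group]
    exact h

theorem exists_conj_mem [Finite G] {p : ℕ} [Fact p.Prime] {V L : Subgroup G}
    (hV : IsPGroup p V) (hnorm : ∀ l ∈ L, ∀ v ∈ V, l * v * l⁻¹ ∈ V)
    (hinf : ∀ a ∈ V, a ∈ L → a = 1) {x : G} (hx : ∃ v ∈ V, ∃ l ∈ L, x = v * l)
    (hord : ¬ p ∣ orderOf x) : ∃ v ∈ V, v⁻¹ * x * v ∈ L := by
  induction' hn : orderOf x using Nat.strong_induction_on with n ih generalizing x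
  by_cases h1 : n = 1
  · rw [h1, orderOf_eq_one_iff] at hn
    subst hn
    exact ⟨1, one_mem _, by simp [one_mem]⟩
  obtain ⟨r, hr, hrn⟩ := Nat.exists_prime_and_dvd h1
  have hrp : r ≠ p := fun h => hord (hn ▸ h ▸ hrn)
  obtain ⟨v0, hv0, l0, hl0, hxe⟩ := hx
  set y := x ^ r with hy_def
  have hmulVL : ∀ a b : G, (∃ v ∈ V, ∃ l ∈ L, a = v * l) → (∃ v ∈ V, ∃ l ∈ L, b = v * l) →
      ∃ v ∈ V, ∃ l ∈ L, a * b = v * l := by
    rintro a b ⟨v, hv, l, hl, rfl⟩ ⟨v', hv', l', hl', rfl⟩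
    exact ⟨v * (l * v' * l⁻¹), mul_mem hv (hnorm l hl v' hv'), l * l', mul_mem hl hl', by group⟩
  have hpowVL : ∀ k : ℕ, ∃ v ∈ V, ∃ l ∈ L, x ^ k = v * l := by
    intro k
    induction k with
    | zero => exact ⟨1, one_mem _, 1, one_mem _, by simp⟩
    | succ k ihk => rw [pow_succ x k]; exact hmulVL _ _ ihk ⟨v0, hv0, l0, hl0, hxe⟩
  have hpos : 0 < n := hn ▸ orderOf_pos x
  have hoy : orderOf y = n / r := by
    rw [hy_def, orderOf_pow, hn, Nat.gcd_eq_right hrn]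
  have hlt : orderOf y < n := by rw [hoy]; exact Nat.div_lt_self hpos hr.one_lt
  have hordy : ¬ p ∣ orderOf y := fun h => hord (h.trans (orderOf_pow_dvd r))
  obtain ⟨v1, hv1, hl1⟩ := ih _ hlt (hpowVL r) hordy rfl
  -- the translates fixed by `y`
  let T := {c : G ⧸ L // (∃ v ∈ V, c = (v : G ⧸ L)) ∧ y • c = c}
  have hfix : ∀ v : G, y • (v : G ⧸ L) = (v : G ⧸ L) ↔ v⁻¹ * y * v ∈ L := by
    intro v
    rw [MulAction.Quotient.smul_coe, smul_eq_mul, eq_comm, QuotientGroup.eq, mul_assoc]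
  have hcard : Nat.card T = Nat.card {v : G // v ∈ V ∧ v⁻¹ * y * v ∈ L} := by
    refine (Nat.card_eq_of_bijective
      (fun v : {v : G // v ∈ V ∧ v⁻¹ * y * v ∈ L} =>
        (⟨(v.1 : G ⧸ L), ⟨v.1, v.2.1, rfl⟩, (hfix v.1).2 v.2.2⟩ : T)) ⟨?_, ?_⟩).symm
    · intro v w h
      have h' := QuotientGroup.eq.1 (Subtype.ext_iff.1 h)
      exact Subtype.ext (inv_mul_eq_one.1 (hinf _ (mul_mem (inv_mem v.2.1) w.2.1) h'))
    · rintro ⟨c, ⟨v, hv, rfl⟩, hc⟩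
      exact ⟨⟨v, hv, (hfix v).1 hc⟩, rfl⟩
  rw [card_conj_mem_of_eq hnorm hinf hv1 hl1] at hcard
  obtain ⟨k, hk⟩ := (hV.to_le (inf_le_left :
    V ⊓ Subgroup.centralizer ({v1⁻¹ * y * v1} : Set G) ≤ V)).exists_card_eq
  rw [hk] at hcard
  have hmem : ∀ c : T, (∃ v ∈ V, x • (c.1) = (v : G ⧸ L)) ∧ y • (x • c.1) = x • c.1 := by
    rintro ⟨c, ⟨v, hv, rfl⟩, hc⟩
    refine ⟨⟨v0 * (l0 * v * l0⁻¹), mul_mem hv0 (hnorm l0 hl0 v hv), ?_⟩, ?_⟩
    · rw [MulAction.Quotient.smul_coe, smul_eq_mul, QuotientGroup.eq, hxe]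
      rw [show (v0 * l0 * v)⁻¹ * (v0 * (l0 * v * l0⁻¹)) = l0⁻¹ by group]
      exact inv_mem hl0
    · rw [← mul_smul, ((Commute.self_pow x r).symm).eq, mul_smul]; exact congrArg (x • ·) hc
  let σ0 : T → T := fun c => ⟨x • c.1, hmem c⟩
  have hinj : Function.Injective σ0 := fun a b h =>
    Subtype.ext (MulAction.injective x (Subtype.ext_iff.1 h))
  let σ : Equiv.Perm T := Equiv.ofBijective σ0 (Finite.injective_iff_bijective.1 hinj)
  have hσ : ∀ (k : ℕ) (c : T), ((σ ^ k) c).1 = x ^ k • c.1 := by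
    intro k
    induction k with
    | zero => intro c; simp
    | succ k ihk =>
      intro c
      rw [pow_succ' σ k, Equiv.Perm.mul_apply, pow_succ' x k, mul_smul, ← ihk]
      rfl
  have hσr : σ ^ r ^ 1 = 1 := by
    rw [pow_one]
    refine Equiv.ext fun c => Subtype.ext ?_
    rw [hσ r c]
    exact c.2.2
  have : Fact r.Prime := ⟨hr⟩
  have : Fintype T := Fintype.ofFinite T
  have hnd : ¬ r ∣ Fintype.card T := by
    rw [← Nat.card_eq_fintype_card, hcard]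
    exact fun h => hrp ((Nat.prime_dvd_prime_iff_eq hr Fact.out).1 (hr.dvd_of_dvd_pow h))
  obtain ⟨⟨c, ⟨v, hv, rfl⟩, hc⟩, hfixσ⟩ := Equiv.Perm.exists_fixed_point_of_prime hnd hσr
  refine ⟨v, hv, ?_⟩
  have h := Subtype.ext_iff.1 hfixσ
  replace h : x • (v : G ⧸ L) = (v : G ⧸ L) := h
  rw [MulAction.Quotient.smul_coe, smul_eq_mul, eq_comm, QuotientGroup.eq, ← mul_assoc] at h
  exact h

end CfsgLib.KnownB.ComplementFix
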