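import Mathlib
import Cfsg.Agent.Lib.Char.Inner
import Cfsg.Agent.Lib.Char.Induce
import Cfsg.Agent.Lib.Char.Integral
import Cfsg.Agent.Lib.KnownB.ChevEllip
import Cfsg.Agent.Lib.KnownB.ComplementFix
import Cfsg.Agent.Lib.Chev.SuppTables

/-!
The Steinberg character of a Chevalley group: degree, irreducibility, values at semisimple elements.
-/

set_option autoImplicit false

namespace CfsgLib.Chev

open Cfsg.Lie Matrix
open scoped ComplexConjugate

variable {D : ChevalleyDatum} {F : Type*} [Field F]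

namespace Good

variable (g : Good D)
include g

omit g in
lemma borelIn_eq_parabolicIn : D.parabolicIn F (∅ : Finset ℕ) = borelIn D F := by
  rw [ChevalleyDatum.parabolicIn, ChevalleyDatum.parabolicSubgroup]
  congr 1
  refine le_antisymm (sup_le le_rfl ((Subgroup.closure_le _).2 ?_)) le_sup_left
  rintro x ⟨j, hj, -⟩
  simp at hj

lemma not_suppIn_empty (a : Fin D.nroots) : ¬ g.SuppIn ((∅ : Finset ℕ) : Set ℕ) a := by
  intro h
  have h0 : g.wt a = 0 := by
    rw [g.wt_eq]
    exact Finset.sum_eq_zero fun j hj => by rw [h j (Finset.mem_range.1 hj) (by simp), zero_mul]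
  rcases Nat.lt_or_ge a.val (half D) with ha | ha
  · have h1 := g.wt_pos ((g.nroot_pos_iff a).2 ha) (g.nroot a).2
    rw [show g.wt (g.nroot a) = - g.wt a from g.wt_neg a.2, h0] at h1
    simp at h1
  · have h1 := g.wt_pos ha a.2
    omega

lemma radIn_empty (hse : SuppEq D) :
    radIn D F (∅ : Finset ℕ) = (D.posUnipotent F).subgroupOf (D.group F) := by
  rw [radIn, g.unipotentRadical_eq hse, g.posUnipotent_eq]
  congr 1
  refine le_antisymm (g.rootGen_mono fun r hr _ => hr.2.1) (g.rootGen_mono fun r hr hlt =>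
    ⟨hlt, hr, g.not_suppIn_empty ⟨r, hlt⟩⟩)

lemma levIn_empty (hse : SuppEq D) :
    levIn D F (∅ : Finset ℕ) = (D.diagonalSubgroup F).subgroupOf (D.group F) := by
  rw [levIn, ChevalleyDatum.leviSubgroup]
  congr 1
  refine le_antisymm (sup_le le_rfl ((Subgroup.closure_le _).2 ?_)) le_sup_left
  rintro x ⟨r, t, hr, -⟩
  obtain ⟨h, h'⟩ := (g.inRootSub_iff hse _ r).1 hr
  exact absurd h' (g.not_suppIn_empty ⟨r, h⟩)

lemma ellip_empty {x : ↥(D.group F)} : g.IsEllip (∅ : Finset ℕ) x := fun K' hK' => by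
  exact absurd hK' (Finset.not_ssubset_empty K')

variable [Fintype F]

/-- The restriction to `B`. -/
theorem steinberg_borel (hc : HasComm D) (hse : SuppEq D) {b : ↥(D.group F)}
    (hb : b ∈ borelIn D F) :
    D.steinbergCharacter F b = (Nat.card {v : ↥(D.group F) //
      v ∈ (D.posUnipotent F).subgroupOf (D.group F) ∧
        v⁻¹ * b * v ∈ (D.diagonalSubgroup F).subgroupOf (D.group F)} : ℂ) := by
  rw [g.steinberg_ellip hc hse (K := ∅) (Finset.empty_subset _)
    (by rwa [borelIn_eq_parabolicIn]) g.ellip_empty, g.radIn_empty hse, g.levIn_empty hse]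
  simp

lemma card_posIn (hc : HasComm D) :
    Nat.card ↥((D.posUnipotent F).subgroupOf (D.group F)) =
      Fintype.card F ^ (D.nroots / 2) := by
  rw [← g.card_posUnipotent (F := F) hc]
  exact Nat.card_congr (Subgroup.subgroupOfEquivOfLe g.posUnipotent_le_group).toEquiv

/-- The degree. -/
theorem steinberg_one (hc : HasComm D) (hse : SuppEq D) :
    D.steinbergCharacter F 1 = (Fintype.card F : ℂ) ^ (D.nroots / 2) := by
  rw [g.steinberg_borel hc hse (one_mem _), ← Nat.cast_pow, ← g.card_posIn (F := F) hc]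
  congr 1
  exact Nat.card_congr (Equiv.subtypeEquivRight fun v => by simp [one_mem])

/-- Every element is elliptic in some parabolic subgroup, up to conjugation. -/
lemma exists_ellip (hc : HasComm D) (x : ↥(D.group F)) :
    ∃ K, K ⊆ Finset.range D.rank ∧ ∃ y : ↥(D.group F),
      y⁻¹ * x * y ∈ D.parabolicIn F K ∧ g.IsEllip K (y⁻¹ * x * y) := by
  classical
  have htop : x ∈ D.parabolicIn F (Finset.range D.rank) := by
    obtain ⟨w, hw, hxw⟩ := g.exists_cellW hc x
    rw [g.mem_parabolicIn_iff hc hw hxw]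
    have e : ((Finset.range D.rank : Finset ℕ) : Set ℕ) = {i | i < D.rank} := by
      ext i; simp
    rw [e, ← g.weyl_eq_wJ]
    exact hw
  obtain ⟨K, hK, hmin⟩ := Finset.exists_min_image
    ((Finset.range D.rank).powerset.filter fun K => ∃ y : ↥(D.group F),
      y⁻¹ * x * y ∈ D.parabolicIn F K) Finset.card
    ⟨_, Finset.mem_filter.2 ⟨Finset.mem_powerset.2 subset_rfl, 1, by simpa using htop⟩⟩
  obtain ⟨hKr, y, hy⟩ := Finset.mem_filter.1 hK
  rw [Finset.mem_powerset] at hKr
  refine ⟨K, hKr, y, hy, fun K' hK' p _ hmem => ?_⟩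
  have := hmin K' (Finset.mem_filter.2 ⟨Finset.mem_powerset.2 (hK'.1.trans hKr), y * p, by
    simpa [mul_assoc] using hmem⟩)
  have := Finset.card_lt_card hK'
  omega

lemma steinberg_generalized :
    Cfsg.IsGeneralizedCharacter ↥(D.group F) (D.steinbergCharacter F) := by
  classical
  have := Fintype.ofFinite ↥(D.group F)
  have e : D.steinbergCharacter F = ∑ J ∈ (Finset.range D.rank).powerset,
      (((-1 : ℤ) ^ J.card : ℤ) : ℂ) •
        Cfsg.indFun (D.parabolicIn F J) (fun _ => (1 : ℂ)) := by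
    funext x
    rw [Finset.sum_apply]
    refine Finset.sum_congr rfl fun J _ => ?_
    rw [Pi.smul_apply, smul_eq_mul]
    push_cast
    congr 1
    have h := CfsgLib.Char.natCard_fixedBy_eq_indFun (↥(D.group F) ⧸ D.parabolicIn F J)
      ((1 : ↥(D.group F)) : ↥(D.group F) ⧸ D.parabolicIn F J) x
    rwa [MulAction.stabilizer_quotient] at h
  rw [e]
  exact CfsgLib.Char.isGeneralized_sum _ fun J _ => CfsgLib.Char.isGeneralized_zsmul
    (CfsgLib.Char.isGeneralized_indFun _ (CfsgLib.Char.isGeneralized_of_isCharacter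
      (CfsgLib.Char.irr_isCharacter (CfsgLib.Char.isIrrCharacter_linear 1)))) _

open Classical in
/-- The orbits of `P_K` on `G/P_J`. -/
lemma card_orbits (hc : HasComm D) (J K : Finset ℕ) :
    Nat.card (MulAction.orbitRel.Quotient ↥(D.parabolicIn F K)
        (↥(D.group F) ⧸ D.parabolicIn F J)) =
      (Finset.univ.filter fun w : Equiv.Perm (Fin D.nroots) =>
        w ∈ g.weyl ∧ g.MinD (K : Set ℕ) (J : Set ℕ) w).card := by
  rw [← Fintype.card_coe, ← Nat.card_eq_fintype_card]
  refine (Nat.card_eq_of_bijective (fun w => Quotient.mk''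
    ((g.nW F w.1 : ↥(D.group F)) : ↥(D.group F) ⧸ D.parabolicIn F J)) ⟨?_, ?_⟩).symm
  · rintro ⟨v, hv⟩ ⟨w, hw⟩ h
    simp only [Finset.mem_filter, Finset.mem_univ, true_and] at hv hw
    obtain ⟨⟨p, hp⟩, he⟩ := Quotient.eq''.1 h
    replace he : ((p * g.nW F w : ↥(D.group F)) : ↥(D.group F) ⧸ D.parabolicIn F J) =
        (g.nW F v : ↥(D.group F) ⧸ D.parabolicIn F J) := he
    obtain ⟨u, hu, hpu⟩ := g.exists_cellW hc p
    have huK := (g.mem_parabolicIn_iff hc hu hpu).1 hp
    have h1 := g.cellW_mul hc hu hw.1 (g.ninv_wJ_mul hw.1 hw.2.2 huK) hpu (g.nW_mem_cellW w)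
    obtain ⟨h2, -⟩ := g.projQ_eq hc hv.1 (mul_mem hu hw.1) (g.nW_mem_cellW v) h1 hv.2.1 he.symm
    refine Subtype.ext (g.minD_unique hw.1 hv.1 hw.2 hv.2 huK (inv_mem h2) ?_)
    group
  · intro q
    induction q using Quotient.inductionOn' with
    | _ c =>
      induction c using QuotientGroup.induction_on with
      | _ a =>
        obtain ⟨w, hw, hwa⟩ := g.exists_cellW hc a
        obtain ⟨x0, hx0, hD, a1, ha1, b1, hb1, rfl⟩ := g.exists_minD (K : Set ℕ) (J : Set ℕ) hw
        refine ⟨⟨x0, by simp [hx0, hD]⟩, Quotient.eq''.2 ?_⟩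
        obtain ⟨b, hb, e, he, rfl⟩ := hwa
        set p := b * g.nW F a1
        have hp : p ∈ D.parabolicIn F K :=
          mul_mem (borelIn_le_parabolicIn K hb) (g.nW_mem_parabolicIn ha1)
        refine ⟨⟨p⁻¹, inv_mem hp⟩, ?_⟩
        show ((p⁻¹ * (b * g.nW F (a1 * x0 * b1) * e) : ↥(D.group F)) :
          ↥(D.group F) ⧸ D.parabolicIn F J) = (g.nW F x0 : ↥(D.group F) ⧸ D.parabolicIn F J)
        rw [eq_comm, QuotientGroup.eq]
        have h1 := borelIn_le_parabolicIn J
          (inv_mem (g.nW_mul (F := F) (mul_mem (g.weyl_le_wJ ha1) hx0) (g.weyl_le_wJ hb1)))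
        have h2 := g.nW_mul (F := F) (g.weyl_le_wJ ha1) hx0
        have e1 : (g.nW F x0)⁻¹ * (p⁻¹ * (b * g.nW F (a1 * x0 * b1) * e)) =
            ((g.nW F (a1 * x0))⁻¹ * (g.nW F a1 * g.nW F x0))⁻¹ * g.nW F b1 *
              ((g.nW F (a1 * x0 * b1))⁻¹ * (g.nW F (a1 * x0) * g.nW F b1))⁻¹ * e := by
          simp only [p]; group
        rw [e1]
        exact mul_mem (mul_mem (mul_mem (inv_mem (borelIn_le_parabolicIn J h2))
          (g.nW_mem_parabolicIn hb1)) h1) (borelIn_le_parabolicIn J he)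

lemma inner_perm [Fintype ↥(D.group F)] (hc : HasComm D) (J K : Finset ℕ) :
    Cfsg.classInner (Cfsg.fixedPointCharacter (D.parabolicIn F K))
        (Cfsg.fixedPointCharacter (D.parabolicIn F J)) =
      ((open Classical in (Finset.univ.filter fun w : Equiv.Perm (Fin D.nroots) =>
        w ∈ g.weyl ∧ g.MinD (K : Set ℕ) (J : Set ℕ) w).card : ℕ) : ℂ) := by
  classical
  have e : Cfsg.fixedPointCharacter (D.parabolicIn F K) =
      Cfsg.indFun (D.parabolicIn F K) (fun _ => (1 : ℂ)) := by
    funext x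
    have h := CfsgLib.Char.natCard_fixedBy_eq_indFun (↥(D.group F) ⧸ D.parabolicIn F K)
      ((1 : ↥(D.group F)) : ↥(D.group F) ⧸ D.parabolicIn F K) x
    rwa [MulAction.stabilizer_quotient] at h
  have hcl : Cfsg.IsClassFunction ↥(D.group F) (Cfsg.fixedPointCharacter (D.parabolicIn F J)) := by
    intro a b
    show ((Nat.card _ : ℕ) : ℂ) = ((Nat.card _ : ℕ) : ℂ)
    congr 1
    refine Nat.card_congr (Equiv.subtypeEquiv (MulAction.toPerm b⁻¹) fun c => ?_)
    simp only [MulAction.toPerm_apply, MulAction.mem_fixedBy, smul_smul]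
    rw [eq_inv_smul_iff, smul_smul]
    simp [mul_assoc]
  rw [← g.card_orbits (F := F) hc J K, e, CfsgLib.Char.frobenius_reciprocity _ _ _ hcl,
    CfsgLib.Char.classInner_def]
  have hb := MulAction.sum_card_fixedBy_eq_card_orbits_mul_card_group ↥(D.parabolicIn F K)
    (↥(D.group F) ⧸ D.parabolicIn F J)
  simp only [← Nat.card_eq_fintype_card] at hb
  have hterm : ∀ h : ↥(D.parabolicIn F K),
      (1 : ℂ) * conj (Cfsg.fixedPointCharacter (D.parabolicIn F J) (h : ↥(D.group F))) =
        ((Nat.card (MulAction.fixedBy (↥(D.group F) ⧸ D.parabolicIn F J) h) : ℕ) : ℂ) := by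
    intro h
    rw [one_mul]
    show conj ((Nat.card _ : ℕ) : ℂ) = _
    rw [Complex.conj_natCast]
    rfl
  rw [Finset.sum_congr rfl fun h _ => hterm h, ← Nat.cast_sum, hb, Nat.cast_mul, mul_comm,
    mul_assoc, mul_inv_cancel₀ (by exact_mod_cast Nat.card_pos.ne'), mul_one]

lemma opp_empty_asc {w : Equiv.Perm (Fin D.nroots)}
    (h : g.IsOpp ((∅ : Finset ℕ) : Set ℕ) w) : g.asc w = ∅ ∧ g.asc w⁻¹ = ∅ := by
  constructor
  all_goals
    refine Finset.eq_empty_of_forall_notMem fun j hj => ?_
    have hjr : j < D.rank := Finset.mem_range.1 (g.asc_subset_range _ hj)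
    have hpos := (g.mem_asc (j := ⟨j, hjr⟩)).1 hj
  · have h1 := g.opp_pos_supp h hpos (by
      rw [show w⁻¹ (w (g.sroot ⟨j, hjr⟩)) = g.sroot ⟨j, hjr⟩ from Equiv.symm_apply_apply _ _]
      exact g.sroot_pos _)
    exact g.not_suppIn_empty _ h1
  · exact g.not_suppIn_empty _ (g.opp_pos_supp h (g.sroot_pos ⟨j, hjr⟩) hpos)

theorem steinberg_norm [Fintype ↥(D.group F)] (hc : HasComm D) :
    Cfsg.classInner (D.steinbergCharacter F) (D.steinbergCharacter F) = 1 := by
  classical
  set R := (Finset.range D.rank).powerset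
  have h1 : Cfsg.classInner (D.steinbergCharacter F) (D.steinbergCharacter F) =
      ∑ K ∈ R, ∑ J ∈ R, ((-1 : ℂ) ^ K.card * (-1 : ℂ) ^ J.card) *
        Cfsg.classInner (Cfsg.fixedPointCharacter (D.parabolicIn F K))
          (Cfsg.fixedPointCharacter (D.parabolicIn F J)) := by
    simp only [CfsgLib.Char.classInner_def, Finset.mul_sum]
    rw [Finset.sum_congr rfl fun x _ => show (Nat.card ↥(D.group F) : ℂ)⁻¹ *
        (D.steinbergCharacter F x * conj (D.steinbergCharacter F x)) =
        ∑ K ∈ R, ∑ J ∈ R, (-1 : ℂ) ^ K.card * (-1 : ℂ) ^ J.card *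
          ((Nat.card ↥(D.group F) : ℂ)⁻¹ * (Cfsg.fixedPointCharacter (D.parabolicIn F K) x *
            conj (Cfsg.fixedPointCharacter (D.parabolicIn F J) x))) by
      simp only [ChevalleyDatum.steinbergCharacter, map_sum, map_mul, map_pow, map_neg, map_one]
      rw [Finset.sum_mul_sum, Finset.mul_sum]
      refine Finset.sum_congr rfl fun K _ => ?_
      rw [Finset.mul_sum]
      exact Finset.sum_congr rfl fun J _ => by ring, Finset.sum_comm]
    exact Finset.sum_congr rfl fun K _ => Finset.sum_comm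
  have h2 : ∀ K ∈ R, ∀ J ∈ R, ((-1 : ℂ) ^ K.card * (-1 : ℂ) ^ J.card) *
      Cfsg.classInner (Cfsg.fixedPointCharacter (D.parabolicIn F K))
          (Cfsg.fixedPointCharacter (D.parabolicIn F J)) =
      ∑ w : Equiv.Perm (Fin D.nroots), (if w ∈ g.weyl then
        (if K ⊆ g.asc w⁻¹ then (-1 : ℂ) ^ K.card else 0) *
          (if J ⊆ g.asc w then (-1 : ℂ) ^ J.card else 0) else 0) := by
    intro K hK J hJ
    simp only [R, Finset.mem_powerset] at hK hJ
    rw [g.inner_perm hc, Finset.card_filter, Nat.cast_sum, Finset.mul_sum]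
    refine Finset.sum_congr rfl fun w _ => ?_
    simp only [MinD, g.minL_iff_subset_asc hK, g.minL_iff_subset_asc hJ]
    by_cases ha : w ∈ g.weyl <;> by_cases hb : J ⊆ g.asc w <;>
      by_cases hd : K ⊆ g.asc w⁻¹ <;> simp [ha, hb, hd]
  rw [h1, Finset.sum_congr rfl fun K hK => Finset.sum_congr rfl fun J hJ => h2 K hK J hJ]
  rw [Finset.sum_congr rfl fun K _ => Finset.sum_comm, Finset.sum_comm]
  have h3 : ∀ w : Equiv.Perm (Fin D.nroots), ∀ A : Finset ℕ, A ⊆ Finset.range D.rank →
      ∑ J ∈ R, (if J ⊆ A then (-1 : ℂ) ^ J.card else 0) = if A = ∅ then 1 else 0 := by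
    intro _ A hA
    rw [← Finset.sum_filter, show R.filter (fun J => J ⊆ A) = A.powerset by
      ext J
      simp only [R, Finset.mem_filter, Finset.mem_powerset]
      exact ⟨fun h => h.2, fun h => ⟨h.trans hA, h⟩⟩]
    have := g.sum_interval (Finset.empty_subset A)
    simp only [Finset.empty_subset, Finset.filter_true, Finset.card_empty, pow_zero] at this
    rw [this]
    by_cases hA0 : A = ∅
    · simp [hA0]
    · rw [if_neg (Ne.symm hA0), if_neg hA0]
  obtain ⟨w0, hw0, hopp⟩ := g.exists_opp ((∅ : Finset ℕ) : Set ℕ)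
  rw [Finset.sum_eq_single w0]
  · simp only [hw0, if_true]
    rw [← Finset.sum_mul_sum, h3 w0 _ (g.asc_subset_range _), h3 w0 _ (g.asc_subset_range _),
      (g.opp_empty_asc hopp).1, (g.opp_empty_asc hopp).2]
    simp
  · intro w _ hne
    by_cases hw : w ∈ g.weyl
    · simp only [hw, if_true]
      rw [← Finset.sum_mul_sum, h3 w _ (g.asc_subset_range _), h3 w _ (g.asc_subset_range _)]
      have : g.asc w ≠ ∅ := fun hA => hne (g.opp_unique hw0 hw hopp
        (g.isOpp_of_ascents hw (fun q hq => by simp at hq) fun j hj => by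
          have := g.mem_asc.2 hj
          rw [hA] at this
          simp at this))
      rw [if_neg this, mul_zero]
    · simp [hw]
  · simp

/-- The Steinberg character is irreducible. -/
theorem steinberg_irr (hc : HasComm D) (hse : SuppEq D) :
    Cfsg.IsIrrCharacter ↥(D.group F) (D.steinbergCharacter F) := by
  classical
  have := Fintype.ofFinite ↥(D.group F)
  rcases CfsgLib.Char.isGeneralized_norm_one (g.steinberg_generalized (F := F))
    (g.steinberg_norm hc) with h | h
  · exact h
  · exfalso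
    obtain ⟨n, ρ, -, hρ⟩ := h
    have h1 : ρ.character 1 = -(D.steinbergCharacter F 1) := by rw [hρ]; rfl
    rw [g.steinberg_one hc hse] at h1
    simp only [Representation.char_one, Module.finrank_fin_fun] at h1
    have h2 : ((n + Fintype.card F ^ (D.nroots / 2) : ℕ) : ℂ) = ((0 : ℕ) : ℂ) := by
      push_cast; linear_combination h1
    have := Nat.cast_inj.1 h2
    have := pow_pos (Fintype.card_pos (α := F)) (D.nroots / 2)
    omega

omit g in
lemma card_field_pow (p : ℕ) [Fact p.Prime] [CharP F p] : ∃ n : ℕ+, Fintype.card F = p ^ (n : ℕ) :=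
  let ⟨n, _, h⟩ := FiniteField.card F p
  ⟨n, h⟩

lemma not_dvd_card_diagonal (p : ℕ) [Fact p.Prime] [CharP F p] :
    ¬ p ∣ Nat.card (D.diagonalSubgroup F) := by
  classical
  intro h
  rw [g.diagonal_eq_range] at h
  have h1 := h.trans (Subgroup.card_range_dvd (torHom D F))
  rw [Nat.card_pi, Finset.prod_const, Nat.card_units, Nat.card_eq_fintype_card] at h1
  have h2 := (Fact.out : p.Prime).dvd_of_dvd_pow h1
  obtain ⟨n, hn⟩ := card_field_pow (F := F) p
  have h3 : p ∣ Fintype.card F := hn ▸ dvd_pow_self p n.ne_zero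
  have h4 := Nat.dvd_sub h3 h2
  have := Fintype.card_pos (α := F)
  rw [show Fintype.card F - (Fintype.card F - 1) = 1 by omega] at h4
  exact (Fact.out : p.Prime).not_dvd_one h4

/-- The `p`-part of the order of the group. -/
theorem card_p_part (hc : HasComm D) (p : ℕ) [Fact p.Prime] [CharP F p] :
    p ^ (Nat.card ↥(D.group F)).factorization p = Fintype.card F ^ (D.nroots / 2) := by
  classical
  have hp : p.Prime := Fact.out
  obtain ⟨n, hn⟩ := card_field_pow (F := F) p
  have hcard := g.card_group (F := F) hc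
  rw [g.card_borel hc, mul_assoc] at hcard
  set H := Nat.card (D.diagonalSubgroup F)
  set W := g.weylSum {i | i < D.rank} (Fintype.card F)
  have hW : ¬ p ∣ W := by
    intro h
    have h1 : ((W : ℕ) : ZMod p) = 0 := (ZMod.natCast_eq_zero_iff _ _).2 h
    simp only [W, weylSum, Nat.cast_sum, Nat.cast_pow] at h1
    have hq : ((Fintype.card F : ℕ) : ZMod p) = 0 := by
      rw [hn, Nat.cast_pow, ZMod.natCast_self, zero_pow n.ne_zero]
    rw [Finset.sum_eq_single (1 : Equiv.Perm (Fin D.nroots))] at h1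
    · rw [g.ninv_one, pow_zero] at h1
      exact one_ne_zero h1
    · intro w hw hne
      simp only [Finset.mem_filter, Finset.mem_univ, true_and] at hw
      rw [hq, zero_pow fun h0 => hne (g.eq_one_of_ninv (g.weyl_le_wJ hw) h0)]
    · simp [one_mem]
  have hHW : ¬ p ∣ H * W := fun h =>
    (hp.dvd_mul.1 h).elim (g.not_dvd_card_diagonal (F := F) p) hW
  have hne : H * W ≠ 0 := fun h => hHW (h ▸ dvd_zero p)
  rw [hcard, Nat.factorization_mul (pow_ne_zero _ (Fintype.card_pos.ne')) hne, Finsupp.add_apply,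
    Nat.factorization_eq_zero_of_not_dvd hHW, add_zero, hn, ← pow_mul,
    hp.factorization_pow, Finsupp.single_eq_same]

lemma isPGroup_radIn (hc : HasComm D) (hse : SuppEq D) (p : ℕ) [Fact p.Prime] [CharP F p]
    (K : Finset ℕ) : IsPGroup p (radIn D F K) := by
  obtain ⟨n, hn⟩ := card_field_pow (F := F) p
  have hU : IsPGroup p ((D.posUnipotent F).subgroupOf (D.group F)) :=
    IsPGroup.of_card (n := n * (D.nroots / 2)) (by rw [g.card_posIn hc, hn, ← pow_mul])
  refine hU.to_le fun x hx => Subgroup.mem_subgroupOf.2 ?_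
  have h := Subgroup.mem_subgroupOf.1 hx
  rw [g.unipotentRadical_eq hse] at h
  rw [g.posUnipotent_eq]
  exact g.rootGen_mono (fun r hr _ => hr.2.1) h

/-- Values at semisimple elements. -/
theorem steinberg_semisimple (hc : HasComm D) (hse : SuppEq D) (p : ℕ) [Fact p.Prime] [CharP F p]
    (x : ↥(D.group F)) (hx : ¬ p ∣ orderOf x) :
    D.steinbergCharacter F x =
        ((p ^ (Nat.card ↥(Subgroup.centralizer ({x} : Set ↥(D.group F)))).factorization p : ℕ) : ℂ) ∨
      D.steinbergCharacter F x =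
        -((p ^ (Nat.card ↥(Subgroup.centralizer ({x} : Set ↥(D.group F)))).factorization p : ℕ) : ℂ) := by
  classical
  have hp : p.Prime := Fact.out
  have hcl := CfsgLib.Char.isGeneralized_isClassFunction (g.steinberg_generalized (F := F))
  obtain ⟨K, hK, y, hy, hell⟩ := g.exists_ellip hc x
  set x' := y⁻¹ * x * y with hx'
  have hval : D.steinbergCharacter F x = D.steinbergCharacter F x' := by
    have := hcl x y⁻¹
    rw [inv_inv] at this
    exact this.symm
  have hord : ¬ p ∣ orderOf x' := by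
    have e : orderOf x' = orderOf x := by
      have := MulEquiv.orderOf_eq (MulAut.conj y⁻¹) x
      simpa [hx'] using this
    rwa [e]
  have hnorm : ∀ l ∈ levIn D F K, ∀ v ∈ radIn D F K, l * v * l⁻¹ ∈ radIn D F K :=
    fun l hl v hv => g.radIn_conj hc hse (g.levIn_le_parabolicIn hse K hl) hv
  have hinf : ∀ a ∈ radIn D F K, a ∈ levIn D F K → a = 1 := fun a => g.radIn_inf_levIn hse K
  have hV := g.isPGroup_radIn (F := F) hc hse p K
  obtain ⟨v1, hv1, hl⟩ := CfsgLib.KnownB.ComplementFix.exists_conj_mem hV hnorm hinf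
    (g.exists_rad_levi hc hse hy) hord
  set l := v1⁻¹ * x' * v1 with hl_def
  set Q := radIn D F K ⊓ Subgroup.centralizer ({l} : Set ↥(D.group F)) with hQ
  have hSt : D.steinbergCharacter F x = (-1 : ℂ) ^ K.card * (Nat.card Q : ℂ) := by
    rw [hval, g.steinberg_ellip hc hse hK hy hell,
      CfsgLib.KnownB.ComplementFix.card_conj_mem_of_eq hnorm hinf hv1 hl]
  obtain ⟨k, hk⟩ := (hV.to_le (inf_le_left : Q ≤ radIn D F K)).exists_card_eq
  set c := y * v1 with hc_def
  have hlc : l = c⁻¹ * x * c := by rw [hl_def, hx', hc_def]; group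
  set C := Subgroup.centralizer ({x} : Set ↥(D.group F))
  have hCl : Nat.card ↥(Subgroup.centralizer ({l} : Set ↥(D.group F))) = Nat.card C := by
    refine Nat.card_congr (Equiv.subtypeEquiv (MulAut.conj c).toEquiv fun z => ?_)
    show z ∈ Subgroup.centralizer ({l} : Set ↥(D.group F)) ↔ c * z * c⁻¹ ∈ C
    rw [Subgroup.mem_centralizer_singleton_iff, Subgroup.mem_centralizer_singleton_iff, hlc]
    constructor
    · intro h
      calc c * z * c⁻¹ * x = c * (z * (c⁻¹ * x * c)) * c⁻¹ := by group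
        _ = x * (c * z * c⁻¹) := by rw [h]; group
    · intro h
      calc z * (c⁻¹ * x * c) = c⁻¹ * (c * z * c⁻¹ * x) * c := by group
        _ = c⁻¹ * x * c * z := by rw [h]; group
  have hdvd1 : p ^ k ∣ Nat.card C := by
    rw [← hk, ← hCl]
    exact Subgroup.card_dvd_of_le (inf_le_right)
  have hk1 : k ≤ (Nat.card C).factorization p :=
    (hp.pow_dvd_iff_le_factorization Nat.card_pos.ne').1 hdvd1
  have hk2 : (Nat.card C).factorization p ≤ k := by
    obtain ⟨d, ρ, hirr, hρ⟩ := g.steinberg_irr (F := F) hc hse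
    have hint := CfsgLib.Char.centralChar_isIntegral ρ x
    rw [hρ, hSt, hk] at hint
    have hd : ((Module.finrank ℂ (Fin d → ℂ) : ℕ) : ℂ) =
        ((Fintype.card F ^ (D.nroots / 2) : ℕ) : ℂ) := by
      rw [← Representation.char_one ρ, hρ, g.steinberg_one hc hse, Nat.cast_pow]
    rw [hd, ← g.card_p_part (F := F) hc p] at hint
    set e := (Nat.card ↥(D.group F)).factorization p
    have hint2 : IsIntegral ℤ (((C.index * p ^ k : ℕ) : ℂ) / ((p ^ e : ℕ) : ℂ)) := by
      rcases neg_one_pow_eq_or ℂ K.card with h | h <;> rw [h] at hint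
      · simpa [C] using hint
      · have := hint.neg
        simpa [C, neg_div] using this
    have h1 := CfsgLib.Char.dvd_of_isIntegral_div (pow_pos hp.pos e) hint2
    have h2 : C.index ≠ 0 := Subgroup.index_ne_zero_of_finite
    have h3 := (hp.pow_dvd_iff_le_factorization
      (mul_ne_zero h2 (pow_ne_zero _ hp.ne_zero))).1 h1
    rw [Nat.factorization_mul h2 (pow_ne_zero _ hp.ne_zero), Finsupp.add_apply,
      hp.factorization_pow, Finsupp.single_eq_same] at h3
    have h4 : e = (Nat.card C).factorization p + C.index.factorization p := by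
      simp only [e]
      rw [← C.card_mul_index, Nat.factorization_mul Nat.card_pos.ne' h2, Finsupp.add_apply]
    omega
  rw [hSt, hk, le_antisymm hk2 hk1]
  rcases neg_one_pow_eq_or ℂ K.card with h | h <;> rw [h]
  · left; simp
  · right; simp

end Good

end CfsgLib.Chev
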