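import Mathlib
import Cfsg.Agent.Lib.Block.Omega
import Cfsg.Agent.Lib.BlockB.PModular
import Cfsg.Agent.Lib.BlockB.ClassMul

/-!
A character of defect zero gives, over a field of characteristic `p`, a central idempotent which is
a relative trace. Hence invariant vectors for a subgroup in the left ideal it generates are
detected by sums of the character over the subgroup, and every submodule of that ideal is a direct
summand.
-/

set_option autoImplicit false
set_option linter.unusedSectionVars false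

namespace CfsgLib.KnownB.DZero

open Cfsg MonoidAlgebra CfsgLib.Block
open scoped ComplexConjugate

universe u v

section Generic

variable {G : Type u} [Group G] {k : Type v} [CommRing k]

/-- A group element in the group algebra. -/
noncomputable def dlt (k : Type v) [CommRing k] (x : G) : MonoidAlgebra k G := single x 1

lemma dlt_mul (x y : G) : dlt k x * dlt k y = dlt k (x * y) := by
  simp [dlt, single_mul_single]

lemma dlt_mul_mul (x y : G) (a : MonoidAlgebra k G) :
    dlt k x * (dlt k y * a) = dlt k (x * y) * a := by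
  rw [← mul_assoc, dlt_mul]

lemma dlt_one : dlt k (1 : G) = 1 := rfl

lemma coeff_dlt_mul (x g : G) (a : MonoidAlgebra k G) :
    (dlt k x * a).coeff g = a.coeff (x⁻¹ * g) := by
  simp [dlt, coeff_single_mul_apply]

/-- Fixed by a subgroup. -/
def Fx (K : Subgroup G) (v : MonoidAlgebra k G) : Prop := ∀ x ∈ K, dlt k x * v = v

/-- The sum of the elements of a subgroup. -/
noncomputable def sumK (k : Type v) [CommRing k] (K : Subgroup G) [Fintype K] :
    MonoidAlgebra k G := ∑ x : K, dlt k (x : G)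

lemma dlt_mul_sumK (K : Subgroup G) [Fintype K] {x : G} (hx : x ∈ K) :
    dlt k x * sumK k K = sumK k K := by
  simp only [sumK, Finset.mul_sum, dlt_mul]
  exact Fintype.sum_equiv (Equiv.mulLeft (⟨x, hx⟩ : K)) _ _ fun y => rfl

lemma sumK_mul_dlt (K : Subgroup G) [Fintype K] {x : G} (hx : x ∈ K) :
    sumK k K * dlt k x = sumK k K := by
  simp only [sumK, Finset.sum_mul, dlt_mul]
  exact Fintype.sum_equiv (Equiv.mulRight (⟨x, hx⟩ : K)) _ _ fun y => rfl

lemma sumK_mul_sumK (K : Subgroup G) [Fintype K] :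
    sumK k K * sumK k K = Fintype.card K • sumK k K := by
  conv_lhs => enter [1]; rw [sumK]
  rw [Finset.sum_mul, Finset.sum_congr rfl fun x _ => dlt_mul_sumK K x.2, Finset.sum_const,
    Finset.card_univ]

lemma conj_sumK (K : Subgroup G) [Fintype K] {b : G} (hb : ∀ x, x ∈ K ↔ b * x * b⁻¹ ∈ K) :
    dlt k b * sumK k K = sumK k K * dlt k b := by
  simp only [sumK, Finset.mul_sum, Finset.sum_mul, dlt_mul]
  let e : K ≃ K :=
    { toFun := fun x => ⟨b * x * b⁻¹, (hb x).1 x.2⟩
      invFun := fun x => ⟨b⁻¹ * x * b, (hb _).2 (by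
        simpa [mul_assoc] using x.2)⟩
      left_inv := fun x => Subtype.ext (by simp [mul_assoc])
      right_inv := fun x => Subtype.ext (by simp [mul_assoc]) }
  exact Fintype.sum_equiv e _ _ fun x => by simp [e, mul_assoc]

/-- A sum over a group, taken coset by coset. -/
lemma sum_cosets {H : Type*} [Group H] [Fintype H] (K : Subgroup H) [Fintype K]
    [Fintype (H ⧸ K)] {N : Type*} [AddCommMonoid N] (f : H → N) :
    ∑ h, f h = ∑ d : H ⧸ K, ∑ x : K, f (d.out * x) := by
  let e : (H ⧸ K) × K ≃ H := Equiv.ofBijective (fun q => q.1.out * (q.2 : H)) ⟨by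
    rintro ⟨d, x⟩ ⟨d', x'⟩ h
    have h1 : d = d' := by
      have h2 := congrArg (fun z : H => (z : H ⧸ K)) h
      simpa [QuotientGroup.mk_mul_of_mem _ x.2, QuotientGroup.mk_mul_of_mem _ x'.2] using h2
    subst h1
    exact Prod.ext rfl (Subtype.ext (mul_left_cancel h)), fun h =>
      ⟨((h : H ⧸ K), ⟨((h : H ⧸ K).out)⁻¹ * h, QuotientGroup.eq.1 (QuotientGroup.out_eq' _)⟩),
        mul_inv_cancel_left _ _⟩⟩
  rw [← e.sum_comp, Fintype.sum_prod_type]
  rfl

/-- A sum over a group, constant on left cosets of a subgroup. -/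
lemma sum_eq_card_nsmul {H : Type*} [Group H] [Fintype H] (K : Subgroup H) [Fintype K]
    [Fintype (H ⧸ K)] {N : Type*} [AddCommMonoid N] (f : H → N)
    (hf : ∀ h, ∀ x ∈ K, f (h * x) = f h) :
    ∑ h, f h = Fintype.card K • ∑ d : H ⧸ K, f d.out := by
  rw [sum_cosets K f, Finset.smul_sum]
  refine Finset.sum_congr rfl fun d _ => ?_
  rw [Finset.sum_congr rfl fun (x : K) _ => hf d.out _ x.2, Finset.sum_const, Finset.card_univ]

end Generic

section Modular

variable {G : Type u} [Group G] [Fintype G] {k : Type v} [Field k] {p : ℕ} [Fact p.Prime]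
  [CharP k p]

/-- An orbit with a nontrivial stabiliser in a `p`-group sums to zero. -/
lemma sumK_mul_dlt_mul_eq_zero (U : Subgroup G) [Fintype U] (s : U) (hs : orderOf s = p) (g : G)
    {w : MonoidAlgebra k G} (hfix : dlt k (g⁻¹ * (s : G) * g) * w = w) :
    sumK k U * (dlt k g * w) = 0 := by
  classical
  simp only [sumK, Finset.sum_mul, dlt_mul_mul]
  rw [sum_eq_card_nsmul (Subgroup.zpowers s) fun u : U => dlt k ((u : G) * g) * w]
  · rw [Fintype.card_zpowers, hs, char_nsmul_eq_zero]
  · intro h x hx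
    obtain ⟨n, rfl⟩ := (mem_powers_iff_mem_zpowers.2 hx)
    clear hx
    induction n with
    | zero => simp
    | succ n ih =>
      rw [← ih]
      simp only [pow_succ, Subgroup.coe_mul]
      conv_rhs => rw [← hfix, dlt_mul_mul]
      congr 2
      group

/-- The central idempotent data of a character of defect zero. -/
structure Data (k : Type v) [Field k] (G : Type u) [Group G] [Fintype G] where
  /-- the idempotent -/
  e : MonoidAlgebra k G
  /-- its preimage under the relative trace -/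
  x₀ : MonoidAlgebra k G
  comm : ∀ a : MonoidAlgebra k G, a * e = e * a
  idem : e * e = e
  trace : ∑ g : G, dlt k g * x₀ * dlt k g⁻¹ = e

namespace Data

variable (Δ : Data k G)

/-- Invariant vectors in the ideal. -/
def fixSpace (U : Subgroup G) : Submodule k (MonoidAlgebra k G) where
  carrier := {v | Δ.e * v = v ∧ Fx U v}
  zero_mem' := ⟨mul_zero _, fun _ _ => mul_zero _⟩
  add_mem' := fun {a b} ha hb => ⟨by rw [mul_add, ha.1, hb.1],
    fun x hx => by rw [mul_add, ha.2 x hx, hb.2 x hx]⟩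
  smul_mem' := fun c a ha => ⟨by rw [mul_smul_comm, ha.1],
    fun x hx => by rw [mul_smul_comm, ha.2 x hx]⟩

lemma mem_fixSpace {U : Subgroup G} {v : MonoidAlgebra k G} :
    v ∈ Δ.fixSpace U ↔ Δ.e * v = v ∧ Fx U v := Iff.rfl

lemma mul_sumK_mem (K : Subgroup G) [Fintype K] : Δ.e * sumK k K ∈ Δ.fixSpace K :=
  ⟨by rw [← mul_assoc, Δ.idem], fun x hx => by
    rw [← mul_assoc, Δ.comm, mul_assoc, dlt_mul_sumK K hx]⟩

/-- An invariant vector whose orbit sums all vanish is zero: submodules of the ideal are direct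
summands and hence free enough over the subgroup. -/
theorem eq_zero_of_orbit_sums (U : Subgroup G) [Fintype U] {v : MonoidAlgebra k G}
    (hv : v ∈ Δ.fixSpace U) (h : ∀ g : G, sumK k U * (dlt k g * v) = 0) : v = 0 := by
  classical
  obtain ⟨hev, hfix⟩ := hv
  set W := LinearMap.range (LinearMap.mulRight k v)
  have hW : ∀ a, a * v ∈ W := fun a => ⟨a, rfl⟩
  obtain ⟨π, hπ⟩ := W.subtype.exists_leftInverse_of_injective W.ker_subtype
  have hπ' : ∀ a, ((π (a * v) : W) : MonoidAlgebra k G) = a * v := fun a =>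
    congrArg Subtype.val (LinearMap.congr_fun hπ ⟨a * v, hW a⟩)
  set P : MonoidAlgebra k G → MonoidAlgebra k G := fun m =>
    ∑ g : G, dlt k g * Δ.x₀ * (π (dlt k g⁻¹ * m) : MonoidAlgebra k G)
  have hPW : ∀ m, sumK k U * P m = 0 := by
    intro m
    have h1 : ∀ a : MonoidAlgebra k G, sumK k U * (a * v) = 0 := by
      intro a
      induction a using MonoidAlgebra.induction_linear with
      | zero => simp
      | add x y hx hy => rw [add_mul, mul_add, hx, hy, add_zero]
      | single g r =>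
        rw [show (single g r : MonoidAlgebra k G) = r • dlt k g by simp [dlt], smul_mul_assoc,
          mul_smul_comm, h g, smul_zero]
    simp only [P, Finset.mul_sum]
    refine Finset.sum_eq_zero fun g _ => ?_
    obtain ⟨a, ha⟩ := (π (dlt k g⁻¹ * m)).2
    rw [← ha, LinearMap.mulRight_apply, ← mul_assoc (dlt k g * Δ.x₀) a v, h1]
  have hPv : P v = v := by
    simp only [P, hπ', ← mul_assoc, ← Finset.sum_mul, Δ.trace, hev]
  have hPadd : ∀ (s : Finset U) (f : MonoidAlgebra k G),
      P ((∑ u ∈ s, dlt k (u : G)) * f) = ∑ u ∈ s, P (dlt k (u : G) * f) := by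
    intro s f
    simp only [P, Finset.sum_mul, Finset.mul_sum, map_sum, Submodule.coe_sum]
    exact Finset.sum_comm
  have hPeq : ∀ (b : G) (f : MonoidAlgebra k G), P (dlt k b * f) = dlt k b * P f := by
    intro b f
    simp only [P, Finset.mul_sum]
    refine (Fintype.sum_equiv (Equiv.mulLeft b) _ _ fun g => ?_).symm
    simp only [Equiv.coe_mulLeft, _root_.mul_inv_rev, dlt_mul_mul, ← mul_assoc, dlt_mul,
      inv_mul_cancel_right]
  set r : G → G := fun x => ((x⁻¹ : G) : G ⧸ U).out⁻¹
  have hr : ∀ x, x * (r x)⁻¹ ∈ U := by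
    intro x
    have := QuotientGroup.eq.1 (QuotientGroup.out_eq' ((x⁻¹ : G) : G ⧸ U))
    simp only [r, inv_inv]
    simpa using U.inv_mem this
  have hrc : ∀ u ∈ U, ∀ x, r (u * x) = r x := by
    intro u hu x
    simp only [r, _root_.mul_inv_rev]
    rw [QuotientGroup.mk_mul_of_mem _ (U.inv_mem hu)]
  set f : MonoidAlgebra k G := mkGA fun x => if r x = x then v.coeff x else 0
  have hvf : v = sumK k U * f := by
    ext g
    simp only [sumK, Finset.sum_mul, coeff_sum, Finset.sum_apply', coeff_dlt_mul, f, coeff_mkGA]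
    rw [Finset.sum_eq_single (⟨g * (r g)⁻¹, hr g⟩ : U)]
    · simp only [_root_.mul_inv_rev, inv_inv, inv_mul_cancel_right]
      have h2 : r (r g) = r g := by
        have := hrc _ (U.inv_mem (hr g)) g
        rwa [show (g * (r g)⁻¹)⁻¹ * g = r g by group] at this
      rw [if_pos h2]
      have h3 := congrArg (fun a : MonoidAlgebra k G => a.coeff g) (hfix _ (hr g))
      simp only [coeff_dlt_mul] at h3
      rw [← h3]
      congr 1
      group
    · intro u _ hu
      rw [if_neg]
      intro h2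
      rw [hrc _ (U.inv_mem u.2)] at h2
      apply hu
      apply Subtype.ext
      show (u : G) = g * (r g)⁻¹
      rw [h2]
      group
    · simp
  have : P v = sumK k U * P f := by
    rw [hvf, sumK, hPadd, Finset.sum_mul]
    exact Finset.sum_congr rfl fun u _ => hPeq _ _
  rwa [hPv, hPW] at this

end Data

end Modular

section Reduction

variable {G : Type u} [Group G] [Fintype G]

lemma omegaC_single (χ : G → ℂ) (g : G) : omegaC χ (single g 1) = χ g / χ 1 := by
  classical
  rw [omegaC_eq]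
  congr 1
  rw [Finset.sum_eq_single g]
  · simp
  · intro b _ hb
    simp [hb]
  · simp

/-- The reduction of a character of defect zero. -/
theorem exists_data {p : ℕ} [Fact p.Prime] (χ : Cfsg.IrrCharacter G)
    (hdz : p ^ (Nat.card G).factorization p ∣ Cfsg.charDegree (χ : G → ℂ)) :
    ∃ (k : Type) (_ : Field k) (_ : CharP k p) (Δ : Data k G),
      ∀ (K : Subgroup G) [Fintype K],
        Δ.e * sumK k K = 0 ↔ ∑ x : K, (χ : G → ℂ) x = 0 := by
  classical
  obtain ⟨M, hM⟩ := CfsgLib.BlockB.exists_isPModular (Fact.out : p.Prime)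
  have := isPrime_of_pmodular hM
  have hχ := χ.2
  set d := Cfsg.charDegree (χ : G → ℂ)
  have hd : (d : ℂ) = (χ : G → ℂ) 1 := CfsgLib.BlockB.irr_degree_cast χ
  have hd0 : (d : ℂ) ≠ 0 := hd ▸ CfsgLib.Char.irr_apply_one_ne_zero hχ
  set c : ℂ := (Nat.card G : ℂ)⁻¹ * d
  have hG0 : (Nat.card G : ℂ) ≠ 0 := CfsgLib.Char.natCard_ne_zero
  have hc0 : c ≠ 0 := mul_ne_zero (inv_ne_zero hG0) hd0
  have hc : MemLocalRing M c := by
    obtain ⟨m', hm'⟩ := hdz
    set a := (Nat.card G).factorization p
    set m := Nat.card G / p ^ a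
    have hGm : Nat.card G = p ^ a * m := (Nat.ordProj_mul_ordCompl_eq_self _ p).symm
    have hpm : ¬ p ∣ m := Nat.not_dvd_ordCompl Fact.out Nat.card_pos.ne'
    have e : c = (m' : ℂ) * (m : ℂ)⁻¹ := by
      have hp0 : (p : ℂ) ^ a ≠ 0 := pow_ne_zero _ (Nat.cast_ne_zero.2 (Fact.out : p.Prime).ne_zero)
      simp only [c, hm', hGm]
      push_cast
      field_simp
    rw [e]
    exact memLocalRing_mul (memLocalRing_natCast _) (memLocalRing_inv_natCast hM hpm)
  have hint : ∀ g, MemLocalRing M ((χ : G → ℂ) g) := fun g =>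
    memLocalRing_of_isIntegral (irr_apply_isIntegral (CfsgLib.Char.irr_isCharacter hχ) g)
  set e := idemC (χ : G → ℂ)
  have hec : ∀ g, e.coeff g = c * (χ : G → ℂ) g⁻¹ := fun g => by
    simp only [e, idemC, coeff_mkGA, irr_conj_eq hχ, ← hd, c]
    ring
  have hecl : IsClassCoeff e := idemC_isClassCoeff (CfsgLib.Char.irr_isClassFunction hχ)
  have hecomm : ∀ a, a * e = e * a := Subalgebra.mem_center_iff.1
    (isClassCoeff_iff_mem_center.1 hecl)
  have hidem : e * e = e := by
    refine eq_of_omegaC_eq (isClassCoeff_iff_mem_center.2 (Subalgebra.mul_mem _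
      (isClassCoeff_iff_mem_center.1 hecl) (isClassCoeff_iff_mem_center.1 hecl))) hecl fun ψ => ?_
    rw [omegaC_mul ψ.2 hecl, omegaC_idemC ψ.2 hχ]
    split <;> simp
  -- a value which is a unit
  obtain ⟨h, hh⟩ : ∃ h, ¬ MemLocalIdeal M ((χ : G → ℂ) h) := by
    by_contra hall
    push Not at hall
    refine not_memLocalIdeal_one (M := M) ?_
    have h1 := memLocalIdeal_omegaC hχ hecl fun g => by
      rw [hec]
      exact memLocalIdeal_mul_left hc (hall _)
    rwa [omegaC_idemC hχ hχ, if_pos rfl] at h1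
  set S : MonoidAlgebra ℂ G := ∑ g : G, dlt ℂ (g * h * g⁻¹)
  have hS : IsClassCoeff S := by
    refine isClassCoeff_iff_mem_center.2 (Subalgebra.mem_center_iff.2 fun b => ?_)
    induction b using MonoidAlgebra.induction_linear with
    | zero => simp
    | add x y hx hy => rw [add_mul, mul_add, hx, hy]
    | single x r =>
      rw [show (single x r : MonoidAlgebra ℂ G) = r • dlt ℂ x by simp [dlt], smul_mul_assoc,
        mul_smul_comm]
      congr 1
      simp only [S, Finset.mul_sum, Finset.sum_mul, dlt_mul]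
      exact Fintype.sum_equiv (Equiv.mulLeft x) _ _ fun g => by simp [mul_assoc]
  have hS' : ∑ g : G, dlt ℂ g * (e * dlt ℂ h) * dlt ℂ g⁻¹ =
      ((χ : G → ℂ) h / c) • e := by
    have e1 : ∑ g : G, dlt ℂ g * (e * dlt ℂ h) * dlt ℂ g⁻¹ = e * S := by
      simp only [S, Finset.mul_sum]
      refine Finset.sum_congr rfl fun g _ => ?_
      rw [← mul_assoc (dlt ℂ g) e, hecomm, mul_assoc e, mul_assoc e, dlt_mul, dlt_mul]
    rw [e1]
    refine eq_of_omegaC_eq (isClassCoeff_iff_mem_center.2 (Subalgebra.mul_mem _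
      (isClassCoeff_iff_mem_center.1 hecl) (isClassCoeff_iff_mem_center.1 hS)))
      (fun a b => by simp [hecl a b]) fun ψ => ?_
    rw [omegaC_mul ψ.2 hecl, omegaC_smul, omegaC_idemC ψ.2 hχ]
    split
    · next hψ =>
      simp only [S, omegaC_sum, hψ, dlt, omegaC_single, CfsgLib.Char.irr_isClassFunction hχ h,
        Finset.sum_const, Finset.card_univ, nsmul_eq_mul, ← hd, c, one_mul, mul_one]
      rw [Nat.card_eq_fintype_card]
      field_simp
    · simp
  -- over the local ring
  set L := lring M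
  let ι := mapRingHom G L.subtype
  have hιc : ∀ (a : MonoidAlgebra L G) g, (ι a).coeff g = ((a.coeff g : L) : ℂ) := fun a g => by
    simp [ι, coeff_mapRingHom]
  have hι : Function.Injective ι := fun a b hab => by
    ext g
    rw [← hιc, hab, hιc]
  have hιd : ∀ g, ι (dlt L g) = dlt ℂ g := fun g => by simp [ι, dlt]
  let eL : MonoidAlgebra L G := mkGA fun g => ⟨e.coeff g, by
    rw [hec]; exact memLocalRing_mul hc (hint _)⟩
  have hιe : ι eL = e := by
    ext g
    simp [hιc, eL]
  have hh0 : (χ : G → ℂ) h ≠ 0 := fun h0 => hh (h0 ▸ memLocalIdeal_zero)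
  let cL : L := ⟨c * ((χ : G → ℂ) h)⁻¹, memLocalRing_mul hc (inv_memLocalRing (hint h) hh)⟩
  let xL : MonoidAlgebra L G := cL • (eL * dlt L h)
  have hιx : ι xL = (c * ((χ : G → ℂ) h)⁻¹) • (e * dlt ℂ h) := by
    have e2 : ι (eL * dlt L h) = e * dlt ℂ h := by rw [map_mul, hιe, hιd]
    ext g
    simp only [hιc, xL, coeff_smul, Finsupp.smul_apply, smul_eq_mul, ← e2]
    rfl
  let rd := mapRingHom G (red M)
  have hrdd : ∀ g, rd (dlt L g) = dlt (kres M) g := fun g => by simp [rd, dlt]
  have htr : ∑ g : G, dlt L g * xL * dlt L g⁻¹ = eL := hι <| by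
    simp only [map_sum, map_mul, hιd, hιx, hιe, mul_smul_comm, smul_mul_assoc, ← Finset.smul_sum,
      hS', smul_smul]
    rw [show c * ((χ : G → ℂ) h)⁻¹ * ((χ : G → ℂ) h / c) = 1 by field_simp, one_smul]
  have hcm : ∀ a, a * eL = eL * a := fun a => hι (by rw [map_mul, map_mul, hιe, hecomm])
  have := charP_kres hM
  refine ⟨kres M, inferInstance, inferInstance, ⟨rd eL, rd xL, ?_, ?_, ?_⟩, ?_⟩
  · intro a
    induction a using MonoidAlgebra.induction_linear with
    | zero => simp
    | add x y hx hy => rw [add_mul, mul_add, hx, hy]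
    | single x r =>
      obtain ⟨r, rfl⟩ := red_surjective r
      rw [show single x (red M r) = rd (single x r) by simp [rd], ← map_mul, ← map_mul, hcm]
  · rw [← map_mul]
    congr 1
    exact hι (by rw [map_mul, hιe, hidem])
  · simp only [← hrdd, ← map_mul, ← map_sum, htr]
  intro K _
  set yL := eL * sumK L K with hyL
  set y := e * sumK ℂ K with hy
  have hιy : ι yL = y := by
    simp only [hyL, hy, sumK, map_mul, map_sum, hιe, hιd]
  have hrdy : rd yL = rd eL * sumK (kres M) K := by
    simp only [hyL, sumK, map_mul, map_sum, hrdd]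
  have hyg : ∀ g, y.coeff g = ∑ x : K, c * (χ : G → ℂ) ((x : G) * g⁻¹) := fun g => by
    simp only [hy, sumK, Finset.mul_sum, coeff_sum, Finset.sum_apply', dlt,
      coeff_mul_single_apply, mul_one, hec]
    refine Finset.sum_congr rfl fun x _ => ?_
    simp
  have hy1 : y.coeff 1 = c * ∑ x : K, (χ : G → ℂ) x := by
    rw [hyg, Finset.mul_sum]
    simp
  constructor
  · intro h0
    -- the idempotent matrix vanishes modulo the ideal
    change rd eL * sumK (kres M) K = 0 at h0
    rw [← hrdy] at h0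
    have hred : ∀ g, red M (yL.coeff g) = 0 := fun g => by
      have := congrArg (fun a : MonoidAlgebra (kres M) G => a.coeff g) h0
      simpa [rd, coeff_mapRingHom] using this
    have hl : ∀ x ∈ K, ∀ g, yL.coeff (x * g) = yL.coeff g := fun x hx g => by
      have h1 : dlt L x⁻¹ * yL = yL := by
        rw [hyL, ← mul_assoc, hcm, mul_assoc, dlt_mul_sumK K (inv_mem hx)]
      conv_rhs => rw [← h1]
      rw [coeff_dlt_mul, inv_inv]
    have hr : ∀ x ∈ K, ∀ g, yL.coeff (g * x) = yL.coeff g := fun x hx g => by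
      have h1 : yL * dlt L x⁻¹ = yL := by
        rw [hyL, mul_assoc, sumK_mul_dlt K (inv_mem hx)]
      conv_rhs => rw [← h1]
      rw [dlt, coeff_mul_single_apply, inv_inv, mul_one]
    have hsq : yL * yL = Fintype.card K • yL := by
      have he2 : eL * eL = eL := hι (by rw [map_mul, hιe, hidem])
      rw [hyL, mul_assoc, ← mul_assoc (sumK L K), hcm, mul_assoc eL, ← mul_assoc, he2,
        sumK_mul_sumK, mul_smul_comm]
    let E : Matrix (G ⧸ K) (G ⧸ K) L := Matrix.of fun a b => yL.coeff (a.out⁻¹ * b.out)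
    have hEE : E * E = E := by
      ext a b
      have h1 : (yL * yL).coeff (a.out⁻¹ * b.out) =
          ∑ g : G, yL.coeff (a.out⁻¹ * g) * yL.coeff (g⁻¹ * b.out) := by
        rw [coeff_mul_eq]
        exact (Fintype.sum_equiv (Equiv.mulLeft a.out⁻¹) _ _ fun g => by simp [mul_assoc]).symm
      rw [sum_eq_card_nsmul K, hsq, coeff_smul, Finsupp.smul_apply] at h1
      · have hK : ((Fintype.card K : ℕ) : ℂ) ≠ 0 := Nat.cast_ne_zero.2 Fintype.card_ne_zero
        have h2 := congrArg (fun z : L => (z : ℂ)) h1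
        simp only [nsmul_eq_mul, Subring.coe_mul, SubringClass.coe_natCast] at h2
        refine congrArg Subtype.val ?_
        apply Subtype.ext
        exact (mul_left_cancel₀ hK h2).symm
      · intro g x hx
        rw [← mul_assoc, hr x hx, _root_.mul_inv_rev, mul_assoc, hl _ (inv_mem hx)]
    have hdet : IsUnit (1 - E) := by
      rw [Matrix.isUnit_iff_isUnit_det, isUnit_lring_iff]
      intro hmem
      have h1 : red M (1 - E).det = 0 := Ideal.Quotient.eq_zero_iff_mem.2 hmem
      rw [RingHom.map_det] at h1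
      have h2 : (red M).mapMatrix (1 - E) = 1 := by
        rw [map_sub, map_one, sub_eq_self]
        ext a b
        simp [E, hred]
      rw [h2, Matrix.det_one] at h1
      exact one_ne_zero h1
    have hE0 : E = 0 := hdet.mul_left_cancel (by rw [sub_mul, one_mul, hEE, sub_self, mul_zero])
    have h3 : yL.coeff 1 = 0 := by
      have := congrFun (congrFun hE0 ((1 : G) : G ⧸ K)) ((1 : G) : G ⧸ K)
      simpa [E] using this
    have h4 : y.coeff 1 = 0 := by rw [← hιy, hιc, h3]; rfl
    rw [hy1] at h4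
    exact (mul_eq_zero.1 h4).resolve_left hc0
  · intro h0
    change rd eL * sumK (kres M) K = 0
    rw [← hrdy]
    suffices hy0 : y = 0 by rw [hι (show ι yL = ι 0 by rw [hιy, map_zero, hy0]), map_zero]
    have hsq : y * y = Fintype.card K • y := by
      rw [hy, mul_assoc, ← mul_assoc (sumK ℂ K), hecomm, mul_assoc e, ← mul_assoc, hidem,
        sumK_mul_sumK, mul_smul_comm]
    have hconj : ∀ g, conj (y.coeff g) = y.coeff g⁻¹ := by
      intro g
      have hcr : conj c = c := by simp [c]
      simp only [hyg, map_sum, map_mul, hcr, irr_conj_eq hχ]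
      refine Fintype.sum_equiv (Equiv.inv K) _ _ fun x => ?_
      simp only [Equiv.inv_apply, InvMemClass.coe_inv, _root_.mul_inv_rev, inv_inv]
      congr 1
      rw [← CfsgLib.Char.irr_isClassFunction hχ ((x : G)⁻¹ * g) g]
      group
    have hnorm : ((∑ g, Complex.normSq (y.coeff g) : ℝ) : ℂ) = 0 := by
      push_cast
      simp only [Complex.normSq_eq_conj_mul_self, hconj]
      have h1 : (y * y).coeff 1 = ∑ g, y.coeff g⁻¹ * y.coeff g := by
        rw [coeff_mul_eq]
        exact Fintype.sum_equiv (Equiv.inv G) _ _ fun g => by simp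
      rw [← h1, hsq, coeff_smul, Finsupp.smul_apply, hy1, h0, mul_zero, nsmul_zero]
    ext g
    exact Complex.normSq_eq_zero.1 ((Finset.sum_eq_zero_iff_of_nonneg fun x _ =>
      Complex.normSq_nonneg _).1 (Complex.ofReal_eq_zero.1 hnorm) g (Finset.mem_univ g))

end Reduction

section RankOne

variable {G : Type u} [Group G] [Fintype G] {k : Type v} [Field k] {p : ℕ} [Fact p.Prime]
  [CharP k p] (Δ : Data k G) {F : Type*} [Field F] [Fintype F]

/-- The quadratic relation of a rank one operator. -/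
theorem torus_quad [Fintype Fˣ] {X Y : F → G} {H : Fˣ →* G} {N : G}
    (hXadd : ∀ s t, X (s + t) = X s * X t)
    (hH : ∀ (c : Fˣ) (t : F), H c * X t * (H c)⁻¹ = X ((c : F) * c * t))
    (hNconj : ∀ t : F, N * X t * N⁻¹ = Y (-t)) (hNN : N * N = H (-1))
    (hbig : ∀ t : Fˣ, X (t : F) * Y (-((t⁻¹ : Fˣ) : F)) * X (t : F) = H t * N)
    (hNH : ∀ t : Fˣ, N * H t = H t⁻¹ * N)
    (hcardF : (Fintype.card F : k) = 0) {w : MonoidAlgebra k G}
    (hXw : ∀ t, dlt k (X t) * w = w) :
    ∑ t : F, dlt k (X t * N) * ∑ t' : F, dlt k (X t' * N) * w =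
      (∑ c : Fˣ, dlt k (H c)) * ∑ t' : F, dlt k (X t' * N) * w := by
  classical
  have hX0 : X 0 = 1 := by
    have h := hXadd 0 0
    rw [add_zero] at h
    exact mul_eq_left.1 h.symm
  conv_rhs => rw [Finset.sum_mul]
  simp only [Finset.mul_sum, dlt_mul_mul]
  rw [Finset.sum_comm]
  rw [← Finset.sum_erase_add (a := (0 : F)) _ _ (Finset.mem_univ _)]
  have h0 : ∑ x : F, dlt k (X x * N * (X 0 * N)) * w = 0 := by
    have e : ∀ x : F, dlt k (X x * N * (X 0 * N)) * w = dlt k (H (-1)) * w := by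
      intro x
      rw [hX0, one_mul, mul_assoc, hNN]
      have hcm : X x * H (-1) = H (-1) * X x := by
        have := hH (-1) x
        rw [show (((-1 : Fˣ) : F) * ((-1 : Fˣ) : F) * x) = x by simp, mul_inv_eq_iff_eq_mul]
          at this
        exact this.symm
      rw [hcm, ← dlt_mul_mul, hXw]
    simp only [e, Finset.sum_const, Finset.card_univ]
    rw [← Nat.cast_smul_eq_nsmul k, hcardF, zero_smul]
  rw [h0, add_zero]
  refine Finset.sum_bij' (i := fun t ht => -(Units.mk0 t (Finset.ne_of_mem_erase ht))⁻¹)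
    (j := fun (c : Fˣ) _ => (((-c)⁻¹ : Fˣ) : F)) (by simp) (by intro c _; simp)
    (by intro t ht; simp) (by intro c _; ext; simp) fun t' ht' => ?_
  set a : Fˣ := (Units.mk0 t' (Finset.ne_of_mem_erase ht'))⁻¹
  have hY : Y (-t') = X (-(a : F)) * (H a * N) * X (-(a : F)) := by
    rw [← hbig a, show (-((a⁻¹ : Fˣ) : F)) = -t' by simp [a]]
    have e1 : X (-(a : F)) * X (a : F) = 1 := by rw [← hXadd, neg_add_cancel, hX0]
    have e2 : X (a : F) * X (-(a : F)) = 1 := by rw [← hXadd, add_neg_cancel, hX0]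
    simp only [← mul_assoc, e1, one_mul]
    rw [mul_assoc, e2, mul_one]
  have hterm : ∀ t, X t * N * (X t' * N) =
      H (-a) * (X (((a⁻¹ : Fˣ) : F) * ((a⁻¹ : Fˣ) : F) * (t - (a : F))) * N) *
        X (-(a : F)) := by
    intro t
    have h1 : X t * N * (X t' * N) = X t * Y (-t') * (N * N) := by
      rw [← hNconj]; group
    have hcm : X (-(a : F)) * H (-1) = H (-1) * X (-(a : F)) := by
      have := hH (-1) (-(a : F))
      rw [show (((-1 : Fˣ) : F) * ((-1 : Fˣ) : F) * (-(a : F))) = -(a : F) by simp,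
        mul_inv_eq_iff_eq_mul] at this
      exact this.symm
    have h2 : N * H (-1) = H (-1) * N := by rw [hNH]; simp
    have h3 : X (t - (a : F)) * H (-a) =
        H (-a) * X (((a⁻¹ : Fˣ) : F) * ((a⁻¹ : Fˣ) : F) * (t - (a : F))) := by
      have := hH (-a) (((a⁻¹ : Fˣ) : F) * ((a⁻¹ : Fˣ) : F) * (t - (a : F)))
      rw [mul_inv_eq_iff_eq_mul] at this
      rw [this]
      congr 2
      rw [Units.val_neg, show -(a : F) * -(a : F) * (((a⁻¹ : Fˣ) : F) * ((a⁻¹ : Fˣ) : F) *
          (t - (a : F))) = ((a : F) * ((a⁻¹ : Fˣ) : F)) * ((a : F) * ((a⁻¹ : Fˣ) : F)) *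
            (t - (a : F)) by ring, Units.mul_inv, one_mul, one_mul]
    rw [h1, hY, hNN]
    calc X t * (X (-(a : F)) * (H a * N) * X (-(a : F))) * H (-1)
        = (X t * X (-(a : F))) * H a * (N * (X (-(a : F)) * H (-1))) := by simp only [mul_assoc]
      _ = X (t - (a : F)) * H a * (H (-1) * N) * X (-(a : F)) := by
          rw [hcm, ← hXadd, ← sub_eq_add_neg, ← mul_assoc N, h2]
          simp only [mul_assoc]
      _ = X (t - (a : F)) * H (-a) * N * X (-(a : F)) := by
          rw [show H (-a) = H a * H (-1) by rw [← map_mul, mul_neg_one]]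
          simp only [mul_assoc]
      _ = _ := by rw [h3]; simp only [mul_assoc]
  simp only [hterm, ← dlt_mul, mul_assoc, hXw]
  refine Fintype.sum_bijective (fun t => ((a⁻¹ : Fˣ) : F) * ((a⁻¹ : Fˣ) : F) * (t - (a : F)))
    ⟨fun x y hxy => by simpa using hxy,
      fun y => ⟨(a : F) * (a : F) * y + (a : F), by
        simp only [add_sub_cancel_right]
        rw [show ((a⁻¹ : Fˣ) : F) * ((a⁻¹ : Fˣ) : F) * ((a : F) * (a : F) * y) =
          (((a⁻¹ : Fˣ) : F) * (a : F)) * (((a⁻¹ : Fˣ) : F) * (a : F)) * y by ring,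
          Units.inv_mul, one_mul, one_mul]⟩⟩ _ _ fun t => by simp only [mul_assoc]

/-- The rank one argument: the torus fixes invariant vectors. -/
theorem torus_fix {X Y : F → G} {H : Fˣ →* G} {N : G}
    (hXadd : ∀ s t, X (s + t) = X s * X t)
    (hH : ∀ (c : Fˣ) (t : F), H c * X t * (H c)⁻¹ = X ((c : F) * c * t))
    (hNconj : ∀ t : F, N * X t * N⁻¹ = Y (-t)) (hNN : N * N = H (-1))
    (hbig : ∀ t : Fˣ, X (t : F) * Y (-((t⁻¹ : Fˣ) : F)) * X (t : F) = H t * N)
    (hNH : ∀ t : Fˣ, N * H t = H t⁻¹ * N)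
    (hcardF : (Fintype.card F : k) = 0)
    {U : Subgroup G} (hXU : ∀ t, X t ∈ U) (hHU : ∀ c, ∀ u ∈ U, H c * u * (H c)⁻¹ ∈ U)
    (hU : ∀ u ∈ U, ∃ a : F, ∀ t : F, ∃ u' ∈ U, u * (X t * N) = X (a + t) * N * u')
    (hinj : ∀ v ∈ Δ.fixSpace U, ∑ t : F, dlt k (X t * N) * v = 0 → v = 0)
    {v : MonoidAlgebra k G} (hv : v ∈ Δ.fixSpace U) (c : Fˣ) : dlt k (H c) * v = v := by
  classical
  set T : MonoidAlgebra k G →ₗ[k] MonoidAlgebra k G :=
    LinearMap.mulLeft k (∑ t : F, dlt k (X t * N))
  have hTap : ∀ w, T w = ∑ t : F, dlt k (X t * N) * w := fun w => Finset.sum_mul _ _ _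
  have hTS : ∀ w ∈ Δ.fixSpace U, T w ∈ Δ.fixSpace U := by
    rintro w ⟨hew, hfw⟩
    refine ⟨?_, fun u hu => ?_⟩
    · rw [hTap, Finset.mul_sum]
      refine Finset.sum_congr rfl fun t _ => ?_
      rw [← mul_assoc, ← Δ.comm, mul_assoc, hew]
    · obtain ⟨a, ha⟩ := hU u hu
      rw [hTap, Finset.mul_sum]
      refine Fintype.sum_equiv (Equiv.addLeft a) _ _ fun t => ?_
      obtain ⟨u', hu', he⟩ := ha t
      rw [dlt_mul_mul, he, ← dlt_mul_mul, hfw u' hu']
      rfl
  set τ : MonoidAlgebra k G := ∑ c : Fˣ, dlt k (H c)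
  -- the quadratic relation
  have hquad : ∀ w ∈ Δ.fixSpace U, T (T w) = τ * T w := by
    rintro w ⟨-, hfw⟩
    simp only [hTap]
    exact torus_quad hXadd hH hNconj hNN hbig hNH hcardF fun t => hfw _ (hXU t)
  -- `T` is bijective
  set T' : Δ.fixSpace U →ₗ[k] Δ.fixSpace U := T.restrict hTS
  have : Module.Finite k (MonoidAlgebra k G) := inferInstance
  have hinj' : Function.Injective T' := (injective_iff_map_eq_zero T').2 fun w hw =>
    Subtype.ext (hinj w w.2 (by rw [← hTap]; exact congrArg Subtype.val hw))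
  have hsur := LinearMap.surjective_of_injective hinj'
  have hτT : ∀ w ∈ Δ.fixSpace U, τ * w = T w := by
    intro w hw
    obtain ⟨z, hz⟩ := hsur ⟨w, hw⟩
    have hz' : T z.1 = w := congrArg Subtype.val hz
    rw [← hz', hquad z.1 z.2]
  have hττ : τ * τ = -τ := by
    simp only [τ, Finset.sum_mul, Finset.mul_sum, dlt_mul, ← map_mul]
    rw [show ∑ x : Fˣ, ∑ y : Fˣ, dlt k (H (y * x)) = ∑ _x : Fˣ, ∑ y : Fˣ, dlt k (H y) from
      Finset.sum_congr rfl fun x _ => Fintype.sum_equiv (Equiv.mulRight x) _ _ fun y => rfl,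
      Finset.sum_const, Finset.card_univ,
      ← Nat.cast_smul_eq_nsmul k, Fintype.card_units,
      Nat.cast_sub Fintype.card_pos, hcardF]
    simp
  set w := τ * v + v
  have hw : w ∈ Δ.fixSpace U := by
    refine (Δ.fixSpace U).add_mem ?_ hv
    rw [hτT v hv]
    exact hTS v hv
  have hw0 : w = 0 := hinj w hw (by
    rw [← hTap, ← hτT w hw, mul_add, ← mul_assoc, hττ, neg_mul, neg_add_cancel])
  have hv' : v = -(τ * v) := eq_neg_of_add_eq_zero_right hw0
  rw [hv', mul_neg, ← mul_assoc]
  congr 2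
  simp only [τ, Finset.mul_sum, dlt_mul, ← map_mul]
  exact Fintype.sum_equiv (Equiv.mulLeft c) _ _ fun y => rfl

end RankOne

end CfsgLib.KnownB.DZero
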