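import Mathlib
import Cfsg.Agent.Lib.KnownB.ChevRadCent
import Cfsg.Agent.Lib.Block.Blocks
import Cfsg.Agent.Lib.Block.LamZero
import Cfsg.Agent.Lib.Block.ResidueSpan

/-!
The blocks of a Chevalley group with trivial centralizers of radicals: the principal block and the
block of the Steinberg character.
-/

set_option autoImplicit false
set_option linter.unusedSectionVars false

namespace CfsgLib.KnownB.DZero

open Cfsg MonoidAlgebra CfsgLib.Block

universe u v

variable {G : Type u} [Group G] [Fintype G] {k : Type v} [Field k] {p : ℕ} [Fact p.Prime]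
  [hkp : CharP k p]
include hkp

/-- A class sum multiplies an invariant function by the class size where a large `p`-subgroup
is carried into `U`. -/
theorem classSum_mul_coeff (U Q : Subgroup G) (hQ : IsPGroup p Q)
    (hCQ : ∀ x, (∀ q ∈ Q, q * x = x * q) → x ∈ U) (c : G) {w : MonoidAlgebra k G}
    (hl : ∀ u ∈ U, ∀ g, w.coeff (u * g) = w.coeff g)
    (hr : ∀ u ∈ U, ∀ g, w.coeff (g * u) = w.coeff g) (hQU : Q ≤ U) {g : G}
    (hg : ∀ q ∈ Q, g⁻¹ * q * g ∈ U) :
    (classSum k c * w).coeff g = (Nat.card (ConjClasses.mk c).carrier : k) * w.coeff g := by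
  classical
  let _ : MulAction Q G :=
    { smul := fun q x => (q : G) * x * (q : G)⁻¹
      one_smul := fun x => by change (1 : G) * x * (1 : G)⁻¹ = x; simp
      mul_smul := fun q r x => by
        change ((q * r : Q) : G) * x * ((q * r : Q) : G)⁻¹ =
          (q : G) * ((r : G) * x * (r : G)⁻¹) * (q : G)⁻¹
        push_cast
        group }
  have hk : ∀ v : k, p • v = 0 := fun v => by rw [nsmul_eq_mul, CharP.cast_eq_zero, zero_mul]
  have hiff : ∀ (q : Q) (x : G), IsConj c ((q : G) * x * (q : G)⁻¹) ↔ IsConj c x := fun q x =>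
    ⟨fun h => h.trans (isConj_iff.2 ⟨(q : G)⁻¹, by group⟩),
      fun h => h.trans (isConj_iff.2 ⟨q, rfl⟩)⟩
  have hcount : (Nat.card (ConjClasses.mk c).carrier : k) =
      ∑ x, (if IsConj c x then 1 else 0 : k) := by
    rw [Finset.sum_boole, Nat.card_eq_fintype_card, Fintype.card_of_subtype]
    intro x
    simp only [Finset.mem_filter, Finset.mem_univ, true_and, ConjClasses.mem_carrier_iff_mk_eq,
      ConjClasses.mk_eq_mk_iff_isConj]
    exact isConj_comm
  rw [coeff_mul_eq, sum_eq_sum_fixed hQ hk, hcount, sum_eq_sum_fixed hQ hk, Finset.sum_mul]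
  · refine Finset.sum_congr rfl fun x hx => ?_
    rw [coeff_classSum]
    have hxU : x ∈ U := hCQ x fun q hq => by
      have h : q * x * q⁻¹ = x := (Finset.mem_filter.1 hx).2 ⟨q, hq⟩
      exact mul_inv_eq_iff_eq_mul.1 h
    rw [hl _ (U.inv_mem hxU)]
  · intro q x
    show (if IsConj c ((q : G) * x * (q : G)⁻¹) then 1 else 0 : k) = _
    simp only [hiff]
  · intro q x
    show (classSum k c).coeff ((q : G) * x * (q : G)⁻¹) *
      w.coeff (((q : G) * x * (q : G)⁻¹)⁻¹ * g) = _
    rw [coeff_classSum, coeff_classSum]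
    simp only [hiff]
    congr 1
    rw [show ((q : G) * x * (q : G)⁻¹)⁻¹ * g =
      (q : G) * (x⁻¹ * g) * (g⁻¹ * (q : G) * g)⁻¹ by group,
      hr _ (U.inv_mem (hg q q.2)), hl _ (hQU q.2)]

end CfsgLib.KnownB.DZero

namespace CfsgLib.Chev

open Cfsg.Lie Matrix MonoidAlgebra CfsgLib.KnownB CfsgLib.Block
open Cfsg (blockOf)

variable {D : ChevalleyDatum} {F : Type*} [Field F]

namespace Good

variable (g : Good D)
include g

lemma hS_mem (i : Fin D.rank) (c : Fˣ) :
    g.hS i c ∈ (D.diagonalSubgroup F).subgroupOf (D.group F) :=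
  Subgroup.mem_subgroupOf.2 (g.hG_mem (g.simple_lt i.2) c)

/-- A predicate closed under products and true on the coroot images holds on `H`. -/
lemma diag_induction {P : ↥(D.group F) → Prop} (h1 : P 1)
    (hm : ∀ (x : ↥(D.group F)) (i : Fin D.rank) (c : Fˣ), P x → P (g.hS i c * x))
    {x : ↥(D.group F)} (hx : (x : GL D.Idx F) ∈ D.diagonalSubgroup F) : P x := by
  rw [g.diagonal_eq_range] at hx
  obtain ⟨c, hc⟩ := hx
  suffices h : ∀ S : Finset (Fin D.rank), ∀ y : ↥(D.group F),
      (y : GL D.Idx F) = torHom D F (∏ i ∈ S, Pi.mulSingle i (c i)) → P y by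
    exact h Finset.univ x (by rw [Finset.univ_prod_mulSingle, hc])
  classical
  intro S
  induction S using Finset.induction with
  | empty =>
    intro y hy
    rw [Finset.prod_empty, map_one] at hy
    rwa [show y = 1 from Subtype.ext hy]
  | insert i S hi ih =>
    intro y hy
    rw [Finset.prod_insert hi, map_mul, g.torHom_single] at hy
    have h2 := hm _ i (c i) (ih ⟨_, g.diagonal_le_group (g.torHom_mem _)⟩ rfl)
    rwa [show y = g.hS i (c i) * (⟨torHom D F (∏ j ∈ S, Pi.mulSingle j (c j)),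
      g.diagonal_le_group (g.torHom_mem _)⟩ : ↥(D.group F)) from Subtype.ext hy]

variable [Fintype F]

section

variable [Fintype ↥(D.group F)] {k : Type} [Field k] {p : ℕ} [Fact p.Prime]
  [hkp : CharP k p] [hFp : CharP F p]

open Classical in
/-- The sum over a cell. -/
noncomputable def cellSum (k : Type) [Field k] (w : Equiv.Perm (Fin D.nroots)) :
    MonoidAlgebra k ↥(D.group F) :=
  ∑ a : ↥(g.cellU F w), DZero.dlt k ((a : ↥(D.group F)) * g.nW F w)

/-- The rank one sum. -/
noncomputable def stepSum (k : Type) [Field k] (i : Fin D.rank) : MonoidAlgebra k ↥(D.group F) :=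
  ∑ t : F, DZero.dlt k (g.xS i t * g.nS i)

include hkp hFp

/-- `U` permutes the terms of a cell. -/
lemma cellSum_fixed (hc : HasComm D) {w : Equiv.Perm (Fin D.nroots)} (hw : w ∈ g.weyl)
    {v : MonoidAlgebra k ↥(D.group F)} (hfix : DZero.Fx (posIn D F) v) :
    DZero.Fx (posIn D F) (g.cellSum k w * v) := by
  classical
  intro u hu
  have key : ∀ a : ↥(g.cellU F w), ∃ a' : ↥(g.cellU F w), ∃ u' ∈ posIn D F,
      u * ((a : ↥(D.group F)) * g.nW F w) = (a' : ↥(D.group F)) * g.nW F w * u' := by
    intro a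
    have hua : ((u * (a : ↥(D.group F)))⁻¹ : ↥(D.group F)).1 ∈ D.posUnipotent F :=
      inv_mem (mul_mem (Subgroup.mem_subgroupOf.1 hu)
        (g.minus_le_pos _ (Subgroup.mem_subgroupOf.1 a.2)))
    obtain ⟨P, hP, m, hm, he⟩ := g.pos_split hc w⁻¹ hua
    have h1 := g.conj_plus_le (g.acts_inv (g.acts_nW (F := F) hw)) (inv_mem hP)
    rw [inv_inv] at h1
    refine ⟨⟨⟨m⁻¹, g.posUnipotent_le_group (g.minus_le_pos _ (inv_mem hm))⟩,
        Subgroup.mem_subgroupOf.2 (inv_mem hm)⟩, ⟨_, g.posUnipotent_le_group h1⟩,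
      Subgroup.mem_subgroupOf.2 h1, Subtype.ext ?_⟩
    have he' : (u : GL D.Idx F) * ((a : ↥(D.group F)) : GL D.Idx F) = m⁻¹ * P⁻¹ := by
      rw [← _root_.mul_inv_rev, ← he]
      simp
    show (u : GL D.Idx F) * (((a : ↥(D.group F)) : GL D.Idx F) * (g.nW F w : GL D.Idx F)) =
      m⁻¹ * (g.nW F w : GL D.Idx F) *
        ((g.nW F w : GL D.Idx F)⁻¹ * P⁻¹ * (g.nW F w : GL D.Idx F))
    rw [← mul_assoc, he']
    group
  choose f u' hu' hf using key
  have hinj : Function.Injective f := by
    intro a b hab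
    refine Subtype.ext ((g.cellU_bijOn (F := F) hc hw).injOn a.2 b.2 (QuotientGroup.eq.2 ?_))
    have e : ((a : ↥(D.group F)) * g.nW F w)⁻¹ * ((b : ↥(D.group F)) * g.nW F w) =
        (u' a)⁻¹ * u' b := by
      rw [show (a : ↥(D.group F)) * g.nW F w = u⁻¹ * ((f a : ↥(D.group F)) * g.nW F w * u' a) by
          rw [← hf a, inv_mul_cancel_left],
        show (b : ↥(D.group F)) * g.nW F w = u⁻¹ * ((f b : ↥(D.group F)) * g.nW F w * u' b) by
          rw [← hf b, inv_mul_cancel_left], hab]
      group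
    rw [e]
    exact posIn_le_borelIn ((posIn D F).mul_mem ((posIn D F).inv_mem (hu' a)) (hu' b))
  simp only [cellSum, Finset.sum_mul, Finset.mul_sum, DZero.dlt_mul_mul]
  refine Fintype.sum_bijective f (Finite.injective_iff_bijective.1 hinj) _ _ fun a => ?_
  rw [hf a, ← DZero.dlt_mul_mul, hfix _ (hu' a)]

/-- Lengths add: one step times a cell is the longer cell, explicitly. -/
lemma step_mul_cellSum_eq (hc : HasComm D) (i : Fin D.rank) {w : Equiv.Perm (Fin D.nroots)}
    (hw : w ∈ g.weyl) (hpos : half D ≤ (w⁻¹ (g.sroot i)).val) :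
    ((((g.nW F (g.rperm i * w))⁻¹ * (g.nS i * g.nW F w) : ↥(D.group F))) : GL D.Idx F) ∈
        D.diagonalSubgroup F ∧
      g.stepSum k i * g.cellSum k w = g.cellSum k (g.rperm i * w) *
        DZero.dlt k ((g.nW F (g.rperm i * w))⁻¹ * (g.nS i * g.nW F w)) := by
  classical
  set z := g.rperm i * w with hzdef
  have hs : g.rperm i ∈ g.weyl := Subgroup.subset_closure ⟨i, rfl⟩
  have hz : z ∈ g.weyl := mul_mem hs hw
  set h := (g.nW F z)⁻¹ * (g.nS i * g.nW F w)
  have hh : (h : GL D.Idx F) ∈ D.diagonalSubgroup F :=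
    g.acts_diag (g.nW_mem_monomial hz) (mul_mem (g.nI_mem i) (g.nW_mem_monomial hw))
      (g.acts_nW hz) (g.acts_mul (g.acts_nS i) (g.acts_nW hw))
  refine ⟨hh, ?_⟩
  have hzinv : ∀ a, z⁻¹ a = w⁻¹ (g.rperm i a) := fun a => by
    rw [hzdef, _root_.mul_inv_rev, g.rperm_inv]; rfl
  have hneg : (w⁻¹ (g.nroot (g.sroot i))).val < half D := by
    rw [g.weyl_nroot (inv_mem hw)]
    by_contra hcon
    exact absurd ((g.nroot_pos_iff _).1 (Nat.not_lt.1 hcon)) (Nat.not_lt.2 hpos)
  have hxmem : ∀ t : F, g.xS i t ∈ g.cellU F z := by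
    intro t
    refine Subgroup.mem_subgroupOf.2 (g.mem_rootGen (g.sroot i).2
      (show ∃ h : (g.sroot i).val < D.nroots, _ from ⟨(g.sroot i).2, g.sroot_pos i, ?_⟩) t)
    show (z⁻¹ (g.sroot i)).val < half D
    rw [hzinv, g.rperm_sroot]
    exact hneg
  have hamem : ∀ a ∈ g.cellU F w, g.nS i * a * (g.nS i)⁻¹ ∈ g.cellU F z := by
    intro a ha
    refine Subgroup.mem_subgroupOf.2 (g.conj_rootGen (g.acts_nS (F := F) i)
      (S := minusSet w⁻¹) (fun s hsS => ?_) (Subgroup.mem_map_of_mem _
        (Subgroup.mem_subgroupOf.1 ha)))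
    obtain ⟨hlt, hp, hm⟩ := hsS
    refine ⟨(g.rperm i s).2, g.rperm_pos i hp fun he => ?_, ?_⟩
    · subst he
      exact absurd hm (Nat.not_lt.2 hpos)
    · show (z⁻¹ (g.rperm i s)).val < half D
      rw [hzinv, g.rperm_rperm]
      exact hm
  let Φ : F × ↥(g.cellU F w) → ↥(g.cellU F z) := fun q =>
    ⟨g.xS i q.1 * (g.nS i * (q.2 : ↥(D.group F)) * (g.nS i)⁻¹),
      mul_mem (hxmem q.1) (hamem _ q.2.2)⟩
  have R := g.sl2Rel_simple (F := F) i.2
  have hΦ : Function.Injective Φ := by
    rintro ⟨t, a⟩ ⟨t', a'⟩ h'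
    have h1 : g.xS i t * (g.nS i * (a : ↥(D.group F)) * (g.nS i)⁻¹) =
        g.xS i t' * (g.nS i * (a' : ↥(D.group F)) * (g.nS i)⁻¹) := Subtype.ext_iff.1 h'
    have ht : t = t' := by
      have h2 : (g.nS i)⁻¹ * ((g.xS i t')⁻¹ * g.xS i t) * g.nS i =
          (a' : ↥(D.group F)) * (a : ↥(D.group F))⁻¹ := by
        rw [show (g.xS i t')⁻¹ * g.xS i t = (g.xS i t')⁻¹ * (g.xS i t *
          (g.nS i * (a : ↥(D.group F)) * (g.nS i)⁻¹)) *
            (g.nS i * (a : ↥(D.group F))⁻¹ * (g.nS i)⁻¹) by group, h1]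
        group
      have h3 : (g.xS i t')⁻¹ * g.xS i t = g.xS i (t - t') := by
        refine Subtype.ext ?_
        show (g.xG (g.sroot i : ℕ) t')⁻¹ * g.xG (g.sroot i : ℕ) t = g.xG (g.sroot i : ℕ) (t - t')
        rw [g.xG_inv, g.xG_add, show -t' + t = t - t' by ring]
      obtain ⟨e, he⟩ := g.acts_inv (g.acts_nS (F := F) i) (g.sroot i)
      have h4 := congrArg Subtype.val h2
      rw [h3] at h4
      have h5 : g.xG (((g.rperm i)⁻¹ (g.sroot i)) : ℕ) ((e : F) * (t - t')) ∈
          D.borelSubgroup F ⊓ D.negUnipotent F := by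
        rw [← he]
        refine ⟨?_, ?_⟩
        · show ((g.nS i : ↥(D.group F)) : GL D.Idx F)⁻¹ * g.xG _ _ *
            ((g.nS i : ↥(D.group F)) : GL D.Idx F)⁻¹⁻¹ ∈ _
          rw [inv_inv]
          have h6 : ((a' : ↥(D.group F)) * (a : ↥(D.group F))⁻¹).1 ∈ D.borelSubgroup F :=
            Subgroup.mem_sup_left (g.minus_le_pos _ (Subgroup.mem_subgroupOf.1
              (mul_mem a'.2 (inv_mem a.2))))
          rwa [← h4] at h6
        · rw [he]
          refine g.xG_mem_negUnipotent ((g.isNegRoot_iff _).2 ?_) _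
          rw [g.rperm_inv, g.rperm_sroot]
          exact g.nroot_sroot_neg i
      rw [g.borel_inf_neg, Subgroup.mem_bot] at h5
      have h7 := (g.x_eq_one_iff (((g.rperm i)⁻¹ (g.sroot i))).2 _).1 (congrArg Units.val h5)
      exact sub_eq_zero.1 ((mul_eq_zero.1 h7).resolve_left e.ne_zero)
    subst ht
    have h8 : (a : ↥(D.group F)) = a' := mul_left_cancel (mul_right_cancel (mul_left_cancel h1))
    exact Prod.ext rfl (Subtype.ext h8)
  have hΦb : Function.Bijective Φ := by
    refine (Nat.bijective_iff_injective_and_card Φ).2 ⟨hΦ, ?_⟩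
    rw [Nat.card_prod, g.card_cellU hc hz, g.card_cellU hc hw, Nat.card_eq_fintype_card,
      (g.ninv_rperm_mul i w (g.weyl_nroot hw)).2 hpos, pow_succ, mul_comm]
  simp only [stepSum, cellSum, Finset.sum_mul, Finset.mul_sum, DZero.dlt_mul]
  rw [Finset.sum_comm, ← Finset.sum_product', Finset.univ_product_univ]
  refine Fintype.sum_bijective Φ hΦb _ _ fun q => ?_
  congr 1
  simp only [Φ, h]
  group

/-- Lengths add: one step times a cell is the longer cell. -/
lemma step_mul_cellSum (hc : HasComm D) (i : Fin D.rank) {w : Equiv.Perm (Fin D.nroots)}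
    (hw : w ∈ g.weyl) (hpos : half D ≤ (w⁻¹ (g.sroot i)).val) :
    ∃ h : ↥(D.group F), (h : GL D.Idx F) ∈ D.diagonalSubgroup F ∧
      g.stepSum k i * g.cellSum k w = g.cellSum k (g.rperm i * w) * DZero.dlt k h :=
  ⟨_, g.step_mul_cellSum_eq (p := p) hc i hw hpos⟩

/-- A simultaneous eigenvector of the fundamental tori. -/
lemma exists_torus_eigen [IsAlgClosed k] {S : Submodule k (MonoidAlgebra k ↥(D.group F))}
    (hS : S ≠ ⊥) (hstab : ∀ (i : Fin D.rank) (c : Fˣ), ∀ v ∈ S, DZero.dlt k (g.hS i c) * v ∈ S) :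
    ∃ v ∈ S, v ≠ 0 ∧ ∀ h : ↥(D.group F), (h : GL D.Idx F) ∈ D.diagonalSubgroup F →
      ∃ a : k, DZero.dlt k h * v = a • v := by
  classical
  obtain ⟨γ, hγ⟩ := IsCyclic.exists_generator (α := Fˣ)
  suffices key : ∀ T : Finset (Fin D.rank), ∃ V : Submodule k (MonoidAlgebra k ↥(D.group F)),
      V ≠ ⊥ ∧ V ≤ S ∧ (∀ (i : Fin D.rank) (c : Fˣ), ∀ v ∈ V, DZero.dlt k (g.hS i c) * v ∈ V) ∧
        ∀ i ∈ T, ∃ a : k, ∀ v ∈ V, DZero.dlt k (g.hS i γ) * v = a • v by
    obtain ⟨V, hV, hVS, -, hT⟩ := key Finset.univ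
    obtain ⟨v, hv, hv0⟩ := Submodule.exists_mem_ne_zero_of_ne_bot hV
    refine ⟨v, hVS hv, hv0, fun h hh => ?_⟩
    refine g.diag_induction (P := fun h => ∃ a : k, DZero.dlt k h * v = a • v)
      ⟨1, by simp [DZero.dlt_one]⟩ (fun x i c => ?_) hh
    rintro ⟨a, ha⟩
    obtain ⟨b, hb⟩ := hT i (Finset.mem_univ i)
    obtain ⟨n, rfl⟩ := mem_powers_iff_mem_zpowers.2 (hγ c)
    refine ⟨a * b ^ n, ?_⟩
    have hn : ∀ n : ℕ, DZero.dlt k (g.hS i (γ ^ n)) * v = b ^ n • v := by
      intro n
      induction n with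
      | zero => simp [DZero.dlt_one]
      | succ n ih =>
        rw [pow_succ', map_mul, ← DZero.dlt_mul_mul, ih, mul_smul_comm, hb v hv, smul_smul,
          pow_succ]
    rw [← DZero.dlt_mul_mul, ha, mul_smul_comm, hn, smul_smul]
  intro T
  induction T using Finset.induction with
  | empty => exact ⟨S, hS, le_rfl, hstab, fun i hi => absurd hi (Finset.notMem_empty i)⟩
  | insert j T hj ih =>
    obtain ⟨V, hV, hVS, hVst, hVT⟩ := ih
    have : Nontrivial V := Submodule.nontrivial_iff_ne_bot.2 hV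
    let f : Module.End k V :=
      (LinearMap.mulLeft k (DZero.dlt k (g.hS j γ))).restrict (fun v hv => hVst j γ v hv)
    obtain ⟨a, ha⟩ := Module.End.exists_eigenvalue f
    obtain ⟨w, hw, hw0⟩ := ha.exists_hasEigenvector
    let V' : Submodule k (MonoidAlgebra k ↥(D.group F)) :=
      V ⊓ LinearMap.ker (LinearMap.mulLeft k (DZero.dlt k (g.hS j γ)) - a • LinearMap.id)
    have hmem : ∀ v, v ∈ V' ↔ v ∈ V ∧ DZero.dlt k (g.hS j γ) * v = a • v := fun v => by
      simp [V', sub_eq_zero]
    refine ⟨V', ?_, fun v hv => hVS ((hmem v).1 hv).1, fun i c v hv => ?_, fun i hi => ?_⟩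
    · rw [Submodule.ne_bot_iff]
      exact ⟨w, (hmem w).2 ⟨w.2, congrArg Subtype.val (Module.End.mem_eigenspace_iff.1 hw)⟩,
        fun h => hw0 (Subtype.ext h)⟩
    · obtain ⟨hv1, hv2⟩ := (hmem v).1 hv
      refine (hmem _).2 ⟨hVst i c v hv1, ?_⟩
      have hcm : g.hS j γ * g.hS i c = g.hS i c * g.hS j γ := Subtype.ext
        (g.diagonal_comm (g.hG_mem (g.simple_lt j.2) γ) (g.hG_mem (g.simple_lt i.2) c))
      rw [DZero.dlt_mul_mul, hcm, ← DZero.dlt_mul_mul, hv2, mul_smul_comm]
    · rcases Finset.mem_insert.1 hi with rfl | hi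
      · exact ⟨a, fun v hv => ((hmem v).1 hv).2⟩
      · obtain ⟨b, hb⟩ := hVT i hi
        exact ⟨b, fun v hv => hb v ((hmem v).1 hv).1⟩

variable [Fintype ↥(posIn D F)]

/-- The central character of a block whose idempotent has a nonzero invariant eigenvector. -/
lemma big_cell_count (hc : HasComm D) {w₀ : Equiv.Perm (Fin D.nroots)} (hw₀ : w₀ ∈ g.weyl)
    (hlong : ∀ a : Fin D.nroots, half D ≤ a.val → (w₀ a).val < half D)
    [DecidablePred (· ∈ g.cellW F w₀)] {v : MonoidAlgebra k ↥(D.group F)}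
    (hfix : DZero.Fx (borelIn D F) v) (x : ↥(D.group F)) :
    DZero.sumK k (posIn D F) * (DZero.dlt k x * v) =
      if x ∈ g.cellW F w₀ then DZero.sumK k (posIn D F) * (DZero.dlt k (g.nW F w₀) * v)
      else 0 := by
  split
  · next hx =>
    obtain ⟨b, hb, c, hc', rfl⟩ := hx
    rw [← DZero.dlt_mul_mul, hfix c hc', ← DZero.dlt_mul_mul, ← mul_assoc,
      ← DZero.conj_sumK (posIn D F) (g.borelIn_conj_posIn hb), mul_assoc]
    -- a torus element is moved through the big cell
    obtain ⟨u, hu, d, hd, hud⟩ := g.mem_borel.1 (Subgroup.mem_subgroupOf.1 hb)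
    set n := g.nW F w₀
    set uI : ↥(D.group F) := ⟨u, g.posUnipotent_le_group hu⟩
    set dI : ↥(D.group F) := ⟨d, g.diagonal_le_group hd⟩
    have hbe : b = uI * dI := Subtype.ext hud.symm
    have hd' : n⁻¹ * dI * n ∈ borelIn D F := Subgroup.mem_subgroupOf.2 (Subgroup.mem_sup_right (by
      have := g.diag_conj (inv_mem (g.nW_mem_monomial (F := F) hw₀)) hd
      rwa [inv_inv] at this))
    have hdB : dI ∈ borelIn D F := Subgroup.mem_subgroupOf.2 (Subgroup.mem_sup_right hd)
    have hd1 : DZero.dlt k dI * (DZero.sumK k (posIn D F) * (DZero.dlt k n * v)) =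
        DZero.sumK k (posIn D F) * (DZero.dlt k n * v) := by
      rw [← mul_assoc, DZero.conj_sumK (posIn D F) (g.borelIn_conj_posIn hdB), mul_assoc,
        DZero.dlt_mul_mul, show dI * n = n * (n⁻¹ * dI * n) by group, ← DZero.dlt_mul_mul,
        hfix _ hd']
    rw [hbe, ← DZero.dlt_mul_mul, hd1, ← mul_assoc,
      DZero.dlt_mul_sumK _ (Subgroup.mem_subgroupOf.2 hu)]
  · next hx =>
    obtain ⟨w, hw, hxw⟩ := g.exists_cellW hc x
    by_cases hpos : ∃ a : Fin D.nroots, half D ≤ a.val ∧ half D ≤ (w⁻¹ a).val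
    · obtain ⟨a, ha, ha'⟩ := hpos
      exact g.orbit_zero_small (p := p) hw ha ha' hxw fun u hu => hfix u (posIn_le_borelIn hu)
    · push Not at hpos
      refine absurd ?_ hx
      suffices h : w₀ * w⁻¹ = 1 by rwa [mul_inv_eq_one.1 h]
      refine g.eq_one_of_pos (mul_mem hw₀ (inv_mem hw)) fun a ha => ?_
      have h1 := hpos a ha
      have h2 := hlong (g.nroot (w⁻¹ a)) ((g.nroot_pos_iff _).2 h1)
      rw [g.weyl_nroot hw₀] at h2
      rw [Equiv.Perm.mul_apply]
      by_contra hcon
      exact absurd ((g.nroot_pos_iff _).2 (Nat.not_le.1 hcon)) (Nat.not_le.2 h2)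

/-- Either the idempotent is nonzero on a proper parabolic subgroup, or an invariant vector
survives the longest operator. -/
theorem dichotomy [IsAlgClosed k] (hc : HasComm D) {e : MonoidAlgebra k ↥(D.group F)}
    (hec : ∀ a, a * e = e * a) (hee : e * e = e) (he0 : e ≠ 0) :
    (∃ s < D.rank, ∃ x ∈ D.parabolicIn F ((Finset.range D.rank).erase s),
        (e * DZero.sumK k (posIn D F)).coeff x ≠ 0) ∨
      (∀ w₀ ∈ g.weyl, (∀ a : Fin D.nroots, half D ≤ a.val → (w₀ a).val < half D) →
        ∃ v, e * v = v ∧ DZero.Fx (borelIn D F) v ∧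
          DZero.sumK k (posIn D F) * (DZero.dlt k (g.nW F w₀) * v) ≠ 0) := by
  classical
  have hU : IsPGroup p ↥(posIn D F) := by
    obtain ⟨n, hn⟩ := card_field_pow (F := F) p
    exact IsPGroup.of_card (n := n * (D.nroots / 2)) (by rw [g.card_posIn hc, hn, ← pow_mul])
  have hcardF : (Fintype.card F : k) = 0 := by
    obtain ⟨n, hn⟩ := card_field_pow (F := F) p
    rw [hn, Nat.cast_pow, CharP.cast_eq_zero, zero_pow n.ne_zero]
  have hecm : ∀ x : ↥(D.group F), ∀ v, e * (DZero.dlt k x * v) = DZero.dlt k x * (e * v) :=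
    fun x v => by rw [← mul_assoc, ← hec, mul_assoc]
  -- invariant vectors exist
  let S : Submodule k (MonoidAlgebra k ↥(D.group F)) :=
    { carrier := {v | e * v = v ∧ DZero.Fx (posIn D F) v}
      zero_mem' := ⟨mul_zero _, fun _ _ => mul_zero _⟩
      add_mem' := fun {a b} ha hb => ⟨by rw [mul_add, ha.1, hb.1],
        fun x hx => by rw [mul_add, ha.2 x hx, hb.2 x hx]⟩
      smul_mem' := fun c a ha => ⟨by rw [mul_smul_comm, ha.1],
        fun x hx => by rw [mul_smul_comm, ha.2 x hx]⟩ }
  have hS : S ≠ ⊥ := by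
    let A : AddSubgroup (MonoidAlgebra k ↥(D.group F)) :=
      AddSubgroup.closure (Set.range fun u : ↥(posIn D F) => DZero.dlt k (u : ↥(D.group F)) * e)
    have hAp : ∀ w : A, p • w = 0 := fun w => Subtype.ext (char_nsmul_eq_zero w.1)
    have : Finite A := by
      have : AddGroup.FG A := (AddGroup.fg_iff_addSubgroup_fg _).2
        ⟨(Set.finite_range _).toFinset, by rw [Set.Finite.coe_toFinset]⟩
      exact AddCommGroup.finite_of_fg_isAddTorsion _ fun w =>
        isOfFinAddOrder_iff_nsmul_eq_zero.2 ⟨p, (Fact.out : p.Prime).pos, hAp w⟩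
    have hclosed : ∀ (u : ↥(posIn D F)), ∀ w ∈ A, DZero.dlt k (u : ↥(D.group F)) * w ∈ A := by
      intro u w hw
      induction hw using AddSubgroup.closure_induction with
      | mem x hx =>
        obtain ⟨u', rfl⟩ := hx
        exact AddSubgroup.subset_closure ⟨u * u', by
          simp only [DZero.dlt_mul_mul, Subgroup.coe_mul]⟩
      | zero => rw [mul_zero]; exact zero_mem _
      | add x y _ _ hx hy => rw [mul_add]; exact add_mem hx hy
      | neg x _ hx => rw [mul_neg]; exact neg_mem hx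
    let _ : MulAction ↥(posIn D F) A :=
      { smul := fun u w => ⟨DZero.dlt k (u : ↥(D.group F)) * w.1, hclosed u _ w.2⟩
        one_smul := fun w => Subtype.ext (by
          change DZero.dlt k ((1 : ↥(posIn D F)) : ↥(D.group F)) * w.1 = w.1
          rw [OneMemClass.coe_one, DZero.dlt_one, one_mul])
        mul_smul := fun u u' w => Subtype.ext (by
          change DZero.dlt k ((u * u' : ↥(posIn D F)) : ↥(D.group F)) * w.1 = _
          rw [Subgroup.coe_mul, ← DZero.dlt_mul_mul]
          rfl) }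
    have heA : e ∈ A := AddSubgroup.subset_closure ⟨1, by simp [DZero.dlt_one]⟩
    have hdvd : p ∣ Nat.card A := by
      have hord := addOrderOf_eq_prime (hAp ⟨e, heA⟩) (fun h => he0 (congrArg Subtype.val h))
      exact (Eq.symm hord).dvd.trans (addOrderOf_dvd_natCard _)
    have hfix := (hU.card_modEq_card_fixedPoints A).symm.trans (Nat.modEq_zero_iff_dvd.2 hdvd)
    rw [Nat.modEq_zero_iff_dvd] at hfix
    have hzero : (0 : A) ∈ MulAction.fixedPoints ↥(posIn D F) A := fun u =>
      Subtype.ext (mul_zero _)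
    obtain ⟨⟨w, hw⟩, hw0⟩ : ∃ w : MulAction.fixedPoints ↥(posIn D F) A, w ≠ ⟨0, hzero⟩ := by
      have hpos : 0 < Nat.card (MulAction.fixedPoints ↥(posIn D F) A) :=
        Nat.card_pos_iff.2 ⟨⟨⟨0, hzero⟩⟩, inferInstance⟩
      have : 1 < Nat.card (MulAction.fixedPoints ↥(posIn D F) A) :=
        lt_of_lt_of_le (Fact.out (p := p.Prime)).one_lt (Nat.le_of_dvd hpos hfix)
      have := Finite.one_lt_card_iff_nontrivial.1 this
      exact exists_ne _
    rw [Submodule.ne_bot_iff]
    refine ⟨w.1, ⟨?_, fun x hx => congrArg Subtype.val (hw ⟨x, hx⟩)⟩,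
      fun h => hw0 (Subtype.ext (Subtype.ext h))⟩
    have : ∀ z ∈ A, e * z = z := by
      intro z hz
      induction hz using AddSubgroup.closure_induction with
      | mem x hx => obtain ⟨u', rfl⟩ := hx; rw [hecm, hee]
      | zero => exact mul_zero _
      | add x y _ _ hx hy => rw [mul_add, hx, hy]
      | neg x _ hx => rw [mul_neg, hx]
    exact this _ w.2
  have hstab : ∀ (i : Fin D.rank) (c : Fˣ), ∀ v ∈ S, DZero.dlt k (g.hS i c) * v ∈ S := by
    rintro i c v ⟨h1, h2⟩
    have hb : g.hS i c ∈ borelIn D F :=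
      Subgroup.mem_subgroupOf.2 (Subgroup.mem_sup_right (g.hG_mem (g.simple_lt i.2) c))
    refine ⟨by rw [hecm, h1], fun x hx => ?_⟩
    have hx' := (g.borelIn_conj_posIn (inv_mem hb) x).1 hx
    rw [inv_inv] at hx'
    rw [DZero.dlt_mul_mul, show x * g.hS i c = g.hS i c * ((g.hS i c)⁻¹ * x * g.hS i c) by group,
      ← DZero.dlt_mul_mul, h2 _ hx']
  obtain ⟨u, ⟨heu, hfu⟩, hu0, heig⟩ := g.exists_torus_eigen (p := p) hS hstab
  choose! lam hlam using heig
  have hlam0 : ∀ {v : MonoidAlgebra k ↥(D.group F)}, v ≠ 0 → ∀ {a : k} {h : ↥(D.group F)},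
      DZero.dlt k h * v = a • v → a ≠ 0 := by
    intro v hv a h hh ha
    rw [ha, zero_smul] at hh
    apply hv
    rw [← one_mul v, ← DZero.dlt_one, ← inv_mul_cancel h, ← DZero.dlt_mul_mul, hh, mul_zero]
  -- a longest surviving cell
  set W := Finset.univ.filter fun w : Equiv.Perm (Fin D.nroots) =>
    w ∈ g.weyl ∧ g.cellSum k w * u ≠ 0
  have hd1 : (g.nW F 1 : GL D.Idx F) ∈ D.diagonalSubgroup F := by
    have := g.acts_diag (F := F) (one_mem _) (g.nW_mem_monomial (one_mem _)) g.acts_one
      (g.acts_nW (one_mem _))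
    simpa using this
  have hone : ∀ {v : MonoidAlgebra k ↥(D.group F)} {a : k},
      DZero.dlt k (g.nW F 1) * v = a • v → g.cellSum k 1 * v = a • v := by
    intro v a ha
    have hcard : Fintype.card ↥(g.cellU F 1) = 1 := by
      rw [← Nat.card_eq_fintype_card, g.card_cellU hc (one_mem _), g.ninv_one, pow_zero]
    obtain ⟨a0, hsub⟩ := Fintype.card_eq_one_iff.1 hcard
    simp only [cellSum, Finset.sum_mul]
    rw [Fintype.sum_eq_single (1 : ↥(g.cellU F 1))
      (fun x hx => absurd ((hsub x).trans (hsub 1).symm) hx), OneMemClass.coe_one, one_mul, ha]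
  have hW : W.Nonempty := ⟨1, Finset.mem_filter.2 ⟨Finset.mem_univ _, one_mem _, by
    rw [hone (hlam _ hd1)]
    exact smul_ne_zero (hlam0 hu0 (hlam _ hd1)) hu0⟩⟩
  obtain ⟨w, hwW, hmax⟩ := Finset.exists_max_image W (fun w => ninv D w) hW
  obtain ⟨-, hw, hv0⟩ := Finset.mem_filter.1 hwW
  set v := g.cellSum k w * u
  have hv : e * v = v := by
    simp only [v, cellSum, Finset.sum_mul, Finset.mul_sum]
    exact Finset.sum_congr rfl fun a _ => by rw [hecm, heu]
  have hvU : DZero.Fx (posIn D F) v := g.cellSum_fixed (p := p) hc hw hfu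
  have hvH : ∀ h : ↥(D.group F), (h : GL D.Idx F) ∈ D.diagonalSubgroup F →
      ∃ a : k, DZero.dlt k h * v = a • v := by
    intro h hh
    set n := g.nW F w
    have hh' : ((n⁻¹ * h * n : ↥(D.group F)) : GL D.Idx F) ∈ D.diagonalSubgroup F := by
      have := g.diag_conj (inv_mem (g.nW_mem_monomial (F := F) hw)) hh
      rwa [inv_inv] at this
    refine ⟨lam (n⁻¹ * h * n), ?_⟩
    have hnorm : ∀ x, x ∈ g.cellU F w ↔ h * x * h⁻¹ ∈ g.cellU F w := fun x =>
      Subgroup.mem_normalizer_iff.1 (g.diagonal_le_normalizer_rootGen _ hh) x.1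
    simp only [v, cellSum, Finset.sum_mul, Finset.mul_sum, Finset.smul_sum, DZero.dlt_mul_mul]
    let σ : ↥(g.cellU F w) → ↥(g.cellU F w) := fun a => ⟨h * a * h⁻¹, (hnorm _).1 a.2⟩
    have hσ : Function.Injective σ := fun a b hab => Subtype.ext
      (mul_left_cancel (mul_right_cancel (Subtype.ext_iff.1 hab)))
    refine Fintype.sum_bijective σ (Finite.injective_iff_bijective.1 hσ) _ _ fun a => ?_
    rw [show h * ((a : ↥(D.group F)) * n) = h * a * h⁻¹ * n * (n⁻¹ * h * n) by group,
      ← DZero.dlt_mul_mul, hlam _ hh', mul_smul_comm]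
  -- the rank one operators act by scalars
  have hstep : ∀ i : Fin D.rank, ∃ a : k, g.stepSum k i * v = a • v ∧
      (a ≠ 0 → ∀ c : Fˣ, DZero.dlt k (g.hS i c) * v = v) := by
    intro i
    by_cases hpos : half D ≤ (w⁻¹ (g.sroot i)).val
    · refine ⟨0, ?_, fun h => absurd rfl h⟩
      obtain ⟨h, hh, he⟩ := g.step_mul_cellSum (F := F) (p := p) (k := k) hc i hw hpos
      rw [zero_smul, ← mul_assoc, he, mul_assoc, hlam _ hh, mul_smul_comm]
      have : g.cellSum k (g.rperm i * w) * u = 0 := by
        by_contra hne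
        have := hmax _ (Finset.mem_filter.2 ⟨Finset.mem_univ _,
          mul_mem (Subgroup.subset_closure ⟨i, rfl⟩) hw, hne⟩)
        rw [(g.ninv_rperm_mul i w (g.weyl_nroot hw)).2 hpos] at this
        omega
      rw [this, smul_zero]
    · set y := g.rperm i * w with hy
      have hyw : y ∈ g.weyl := mul_mem (Subgroup.subset_closure ⟨i, rfl⟩) hw
      have hry : g.rperm i * y = w := by rw [hy, ← mul_assoc, g.rperm_mul_self, one_mul]
      have hpos' : half D ≤ (y⁻¹ (g.sroot i)).val := by
        rw [hy, _root_.mul_inv_rev, g.rperm_inv, Equiv.Perm.mul_apply, g.rperm_sroot,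
          g.weyl_nroot (inv_mem hw), g.nroot_pos_iff]
        exact Nat.not_le.1 hpos
      obtain ⟨h, hh, he⟩ := g.step_mul_cellSum (F := F) (p := p) (k := k) hc i hyw hpos'
      rw [hry] at he
      have hμ := hlam0 hu0 (hlam _ hh)
      set v' := g.cellSum k y * u
      have hv' : g.stepSum k i * v' = lam h • v := by
        rw [← mul_assoc, he, mul_assoc, hlam _ hh, mul_smul_comm]
      have hX : ∀ t : F, DZero.dlt k (g.xS i t) * v' = v' := fun t =>
        g.cellSum_fixed (p := p) hc hyw hfu _ (g.xIn_mem_posIn (g.sroot_pos i) t)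
      have R := g.sl2Rel_simple (F := F) i.2
      have hq := DZero.torus_quad (k := k) (X := g.xS i) (Y := g.yS i) (H := g.hS i) (N := g.nS i)
        (fun s t => Subtype.ext (R.X_add s t)) (fun c t => Subtype.ext (R.H_conj c t))
        (fun t => Subtype.ext (R.N_conj t)) (Subtype.ext R.N_sq)
        (fun t => Subtype.ext (R.big t)) (fun t => Subtype.ext (R.N_H t)) hcardF hX
      simp only [← Finset.sum_mul] at hq
      rw [show (∑ t : F, DZero.dlt k (g.xS i t * g.nS i)) = g.stepSum k i from rfl, hv',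
        mul_smul_comm, mul_smul_comm] at hq
      have hTv := smul_right_injective _ hμ hq
      have hli : ∀ c : Fˣ, ∃ a : k, DZero.dlt k (g.hS i c) * v = a • v := fun c =>
        hvH _ (g.hG_mem (g.simple_lt i.2) c)
      choose l hl using hli
      refine ⟨∑ c : Fˣ, l c, ?_, fun hne c => ?_⟩
      · rw [hTv, Finset.sum_mul, Finset.sum_smul]
        exact Finset.sum_congr rfl fun c _ => hl c
      · have e1 : DZero.dlt k (g.hS i c) * ((∑ c : Fˣ, DZero.dlt k (g.hS i c)) * v) =
            (∑ c : Fˣ, DZero.dlt k (g.hS i c)) * v := by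
          rw [← mul_assoc]
          refine congrArg (· * v) ?_
          simp only [Finset.mul_sum, DZero.dlt_mul, ← map_mul]
          exact Fintype.sum_equiv (Equiv.mulLeft c) _ _ fun x => rfl
        have e2 : (∑ c : Fˣ, DZero.dlt k (g.hS i c)) * v = (∑ c : Fˣ, l c) • v := by
          rw [Finset.sum_mul, Finset.sum_smul]
          exact Finset.sum_congr rfl fun c _ => hl c
        rw [e2, mul_smul_comm] at e1
        exact smul_right_injective _ hne e1
  choose cs hcs hcsH using hstep
  have hword : ∀ l : List (Fin D.rank), ninv D (g.wperm l) = l.length →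
      ∃ a : k, g.cellSum k (g.wperm l) * v = a • v ∧ (a = 0 ↔ ∃ i ∈ l, cs i = 0) := by
    intro l
    induction l with
    | nil =>
      intro _
      obtain ⟨a, ha⟩ := hvH _ hd1
      exact ⟨a, hone ha, by simp [hlam0 hv0 ha]⟩
    | cons i l ih =>
      intro hl
      rw [g.wperm_cons, List.length_cons] at hl
      have hwl := g.wperm_mem l
      have h1 := g.ninv_rperm_mul i _ (g.weyl_nroot hwl)
      have h2 := g.ninv_le_length l
      obtain ⟨a, ha, hiff⟩ := ih (by omega)
      have hpos : half D ≤ ((g.wperm l)⁻¹ (g.sroot i)).val := by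
        by_contra hneg
        have hz : g.rperm i * g.wperm l ∈ g.weyl :=
          mul_mem (Subgroup.subset_closure ⟨i, rfl⟩) hwl
        have h3 := (g.ninv_rperm_mul i _ (g.weyl_nroot hz)).2 (by
          show half D ≤ ((g.rperm i * g.wperm l)⁻¹ (g.sroot i)).val
          rw [_root_.mul_inv_rev, g.rperm_inv, Equiv.Perm.mul_apply, g.rperm_sroot,
            g.weyl_nroot (inv_mem hwl), g.nroot_pos_iff]
          exact Nat.not_le.1 hneg)
        rw [← mul_assoc, g.rperm_mul_self, one_mul] at h3
        omega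
      obtain ⟨h, hh, he⟩ := g.step_mul_cellSum (F := F) (p := p) (k := k) hc i hwl hpos
      obtain ⟨b, hb⟩ := hvH h hh
      have hb0 := hlam0 hv0 hb
      refine ⟨b⁻¹ * (cs i * a), ?_, ?_⟩
      · have h4 := congrArg (fun z => z * v) he
        simp only [mul_assoc] at h4
        rw [ha, hb, mul_smul_comm, mul_smul_comm, hcs, smul_smul, ← g.wperm_cons] at h4
        rw [mul_comm (cs i), ← smul_smul, h4, inv_smul_smul₀ hb0]
      · simp [mul_eq_zero, hb0, hiff]
  by_cases hzero : ∃ i, cs i = 0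
  · left
    obtain ⟨i, hi⟩ := hzero
    refine ⟨i, i.2, ?_⟩
    set J := (Finset.range D.rank).erase (i : ℕ)
    by_contra hnone
    push Not at hnone
    apply hv0
    -- expand `e` along cosets of `B`
    have hlb : ∀ b : ↥(borelIn D F), ∃ a : k, DZero.dlt k (b : ↥(D.group F)) * v = a • v := by
      intro b
      obtain ⟨x, hx, d, hd, hxd⟩ := g.mem_borel.1 (Subgroup.mem_subgroupOf.1 b.2)
      obtain ⟨a, ha⟩ := hvH ⟨d, g.diagonal_le_group hd⟩ hd
      refine ⟨a, ?_⟩
      rw [show (b : ↥(D.group F)) = (⟨x, g.posUnipotent_le_group hx⟩ : ↥(D.group F)) *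
        ⟨d, g.diagonal_le_group hd⟩ from Subtype.ext hxd.symm, ← DZero.dlt_mul_mul, ha,
        mul_smul_comm, hvU _ (Subgroup.mem_subgroupOf.2 hx)]
    choose lb hlbs using hlb
    set y : ↥(D.group F) → k := fun x =>
      ∑ b : ↥(borelIn D F), e.coeff (x * (b : ↥(D.group F))) * lb b
    have hlbU : ∀ (b : ↥(borelIn D F)) (x : ↥(D.group F)) (hx : x ∈ posIn D F),
        lb (b * ⟨x, posIn_le_borelIn hx⟩) = lb b := by
      intro b x hx
      refine smul_left_injective k hv0 ?_
      show lb _ • v = lb b • v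
      rw [← hlbs, ← hlbs, Subgroup.coe_mul, ← DZero.dlt_mul_mul, hvU x hx]
    have heclass : IsClassCoeff e := isClassCoeff_iff_mem_center.2
      (Subalgebra.mem_center_iff.2 hec)
    have hyl : ∀ x ∈ posIn D F, ∀ z, y (x * z) = y z := by
      intro x hx z
      refine Fintype.sum_equiv (Equiv.mulRight (⟨x, posIn_le_borelIn hx⟩ : ↥(borelIn D F))) _ _
        fun b => ?_
      simp only [Equiv.coe_mulRight, Subgroup.coe_mul, hlbU b x hx]
      congr 1
      rw [← heclass (z * ((b : ↥(D.group F)) * x)) x]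
      congr 1
      group
    have hyP : ∀ x ∈ D.parabolicIn F J, y x = 0 := by
      intro x hx
      set U' := (posIn D F).subgroupOf (borelIn D F)
      simp only [y]
      rw [DZero.sum_cosets U']
      refine Finset.sum_eq_zero fun d _ => ?_
      let eU : ↥U' ≃ ↥(posIn D F) := (Subgroup.subgroupOfEquivOfLe posIn_le_borelIn).toEquiv
      rw [← eU.symm.sum_comp]
      have h3 : ∀ z : ↥(posIn D F), e.coeff (x * ((d.out * (eU.symm z : ↥(borelIn D F)) :
          ↥(borelIn D F)) : ↥(D.group F))) * lb (d.out * (eU.symm z : ↥(borelIn D F))) =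
            e.coeff (x * (d.out : ↥(D.group F)) * (z : ↥(D.group F))) * lb d.out := by
        intro z
        rw [show (eU.symm z : ↥(borelIn D F)) = ⟨z.1, posIn_le_borelIn z.2⟩ from Subtype.ext rfl,
          hlbU _ _ z.2, Subgroup.coe_mul, mul_assoc]
      simp only [h3, ← Finset.sum_mul]
      have h4 : (e * DZero.sumK k (posIn D F)).coeff (x * (d.out : ↥(D.group F))) =
          ∑ z : ↥(posIn D F), e.coeff (x * (d.out : ↥(D.group F)) * (z : ↥(D.group F))) := by
        simp only [DZero.sumK, Finset.mul_sum, coeff_sum, Finset.sum_apply', DZero.dlt,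
          coeff_mul_single_apply, mul_one]
        exact Fintype.sum_equiv (Equiv.inv _) _ _ fun z => by simp
      rw [← h4, hnone _ (mul_mem hx (borelIn_le_parabolicIn J (d.out : ↥(borelIn D F)).2)),
        zero_mul]
    rw [← hv]
    conv_lhs => rw [show e = ∑ x : ↥(D.group F), e.coeff x • DZero.dlt k x by
      ext z
      simp [DZero.dlt]]
    rw [Finset.sum_mul, DZero.sum_cosets (borelIn D F)]
    have h5 : ∀ d : ↥(D.group F) ⧸ borelIn D F, ∑ b : ↥(borelIn D F),
        (e.coeff (d.out * (b : ↥(D.group F))) •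
          DZero.dlt k (d.out * (b : ↥(D.group F)))) * v =
          y d.out • (DZero.dlt k d.out * v) := by
      intro d
      simp only [smul_mul_assoc, ← DZero.dlt_mul_mul, hlbs, mul_smul_comm, smul_smul, y,
        Finset.sum_smul]
    simp only [h5]
    have hcov : ∀ d : ↥(D.group F) ⧸ borelIn D F, ∃ z : {z // z ∈ g.weyl},
        d ∈ g.cellQ F z.1 := fun d => by
      obtain ⟨z, hz, hzc⟩ := g.exists_cellW hc d.out
      exact ⟨⟨z, hz⟩, by
        have := g.mk_mem_cellQ.2 hzc
        rwa [QuotientGroup.out_eq'] at this⟩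
    choose cz hcz using hcov
    rw [← Finset.sum_fiberwise Finset.univ cz]
    refine Finset.sum_eq_zero fun z _ => ?_
    obtain ⟨z, hz⟩ := z
    -- parametrise the cell
    let P : ↥(g.cellU F z) → ↥(D.group F) ⧸ borelIn D F := fun a =>
      (((a : ↥(D.group F)) * g.nW F z : ↥(D.group F)) : ↥(D.group F) ⧸ borelIn D F)
    have hbij := g.cellU_bijOn (F := F) hc hz
    rw [← Finset.sum_nbij (i := P) (s := Finset.univ)
      (f := fun a : ↥(g.cellU F z) =>
        y (g.nW F z) • (DZero.dlt k ((a : ↥(D.group F)) * g.nW F z) * v))]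
    · rw [← Finset.smul_sum, ← Finset.sum_mul]
      show y (g.nW F z) • (g.cellSum k z * v) = 0
      by_cases hzJ : z ∈ g.wJ (J : Set ℕ)
      · rw [hyP _ (g.nW_mem_parabolicIn hzJ), zero_smul]
      · obtain ⟨l, hlz, hlen⟩ := g.exists_red hz
        obtain ⟨a, ha, hiff⟩ := hword l (by rw [hlz, hlen])
        rw [hlz] at ha
        have hil : i ∈ l := by
          by_contra hnil
          refine hzJ (hlz ▸ g.wperm_mem_wJ fun j hj => ?_)
          refine Finset.mem_coe.2 (Finset.mem_erase.2 ⟨fun h => hnil ?_, Finset.mem_range.2 j.2⟩)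
          rwa [show i = j from (Fin.ext h).symm]
        rw [ha, hiff.2 ⟨i, hil, hi⟩, zero_smul, smul_zero]
    · intro a _
      simp only [Finset.mem_filter, Finset.mem_univ, true_and]
      refine Subtype.ext ?_
      have h1 := hcz (P a)
      obtain ⟨x1, hx1⟩ := QuotientGroup.mk_surjective (P a)
      rw [← hx1] at h1 ⊢
      have h2 := hbij.mapsTo a.2
      rw [show ((((a : ↥(D.group F)) * g.nW F z : ↥(D.group F))) :
        ↥(D.group F) ⧸ borelIn D F) = P a from rfl, ← hx1] at h2
      exact g.cellW_unique hc (cz _).2 hz (g.mk_mem_cellQ.1 h1) (g.mk_mem_cellQ.1 h2)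
    · intro a _ b _ hab
      exact Subtype.ext (hbij.injOn a.2 b.2 hab)
    · intro d hd
      simp only [Finset.coe_filter, Finset.mem_univ, true_and, Set.mem_ofPred_eq] at hd
      have h1 := hcz d
      rw [hd] at h1
      obtain ⟨a, ha, had⟩ := hbij.surjOn h1
      exact ⟨⟨a, ha⟩, Finset.mem_univ _, had⟩
    · intro a _
      obtain ⟨b, hb, hout⟩ : ∃ b ∈ borelIn D F,
          (P a).out = ((a : ↥(D.group F)) * g.nW F z) * b := by
        refine ⟨((a : ↥(D.group F)) * g.nW F z)⁻¹ * (P a).out, ?_, by group⟩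
        exact QuotientGroup.eq.1 (QuotientGroup.out_eq' (P a)).symm
      rw [hout]
      have hya : y ((a : ↥(D.group F)) * g.nW F z * b) * lb ⟨b, hb⟩ = y (g.nW F z) := by
        rw [mul_assoc (a : ↥(D.group F)), hyl _ (Subgroup.mem_subgroupOf.2 (g.minus_le_pos _
          (Subgroup.mem_subgroupOf.1 a.2)))]
        simp only [y]
        rw [Finset.sum_mul]
        refine Fintype.sum_equiv (Equiv.mulLeft (⟨b, hb⟩ : ↥(borelIn D F))) _ _ fun x => ?_
        simp only [Equiv.coe_mulLeft, Subgroup.coe_mul]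
        rw [mul_assoc (g.nW F z), mul_assoc]
        congr 1
        refine smul_left_injective k hv0 ?_
        show (lb x * lb ⟨b, hb⟩) • v = lb (⟨b, hb⟩ * x) • v
        rw [← hlbs, Subgroup.coe_mul, ← DZero.dlt_mul_mul, hlbs, mul_smul_comm, hlbs, smul_smul]
      rw [← DZero.dlt_mul_mul (a := v) ((a : ↥(D.group F)) * g.nW F z) b, hlbs ⟨b, hb⟩,
        mul_smul_comm, smul_smul, hya]
  · right
    intro w₀ hw₀ hlong
    push Not at hzero
    have hB : DZero.Fx (borelIn D F) v := by
      intro b hb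
      obtain ⟨x, hx, d, hd, hxd⟩ := g.mem_borel.1 (Subgroup.mem_subgroupOf.1 hb)
      rw [show b = (⟨x, g.posUnipotent_le_group hx⟩ : ↥(D.group F)) *
        ⟨d, g.diagonal_le_group hd⟩ from Subtype.ext hxd.symm, ← DZero.dlt_mul_mul]
      have h1 : DZero.dlt k (⟨d, g.diagonal_le_group hd⟩ : ↥(D.group F)) * v = v :=
        g.diag_induction (P := fun h => DZero.dlt k h * v = v) (by simp [DZero.dlt_one])
          (fun y i c hy => by rw [← DZero.dlt_mul_mul, hy, hcsH i (hzero i) c]) hd
      rw [h1, hvU _ (Subgroup.mem_subgroupOf.2 hx)]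
    refine ⟨v, hv, hB, ?_⟩
    obtain ⟨l, hlz, hlen⟩ := g.exists_red hw₀
    obtain ⟨a, ha, hiff⟩ := hword l (by rw [hlz, hlen])
    have ha0 : a ≠ 0 := fun h => by
      obtain ⟨i, -, hi⟩ := hiff.1 h
      exact hzero i hi
    rw [hlz] at ha
    have hcell : g.cellSum k w₀ * v =
        DZero.sumK k (posIn D F) * (DZero.dlt k (g.nW F w₀) * v) := by
      have hle : g.cellU F w₀ = posIn D F := by
        unfold cellU
        congr 1
        rw [g.posUnipotent_eq]
        refine le_antisymm (g.rootGen_mono fun r hr _ => hr.2.1) (g.rootGen_mono fun r hr hlt => ?_)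
        refine ⟨hlt, hr, ?_⟩
        by_contra hcon
        have h2 := hlong (w₀⁻¹ ⟨r, hlt⟩) (Nat.not_lt.1 hcon)
        rw [show w₀ (w₀⁻¹ ⟨r, hlt⟩) = ⟨r, hlt⟩ from Equiv.apply_symm_apply _ _] at h2
        exact absurd (show half D ≤ r from hr) (Nat.not_le.2 h2)
      simp only [cellSum, DZero.sumK, Finset.sum_mul, DZero.dlt_mul_mul]
      exact Fintype.sum_equiv (MulEquiv.subgroupCongr hle).toEquiv _ _ fun x => rfl
    rw [← hcell, ha]
    exact smul_ne_zero ha0 hv0

end

set_option maxHeartbeats 1000000 in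
/-- There are exactly two blocks. -/
theorem card_blocks (hc : HasComm D) (hse : SuppEq D) (hlk : RadLink D) (hrank : 0 < D.rank)
    (p : ℕ) [Fact p.Prime] [CharP F p] (M : Ideal Cfsg.AlgInt) (hM : Cfsg.IsPModular p M) :
    Nat.card {B : Set (Cfsg.IrrCharacter ↥(D.group F)) // Cfsg.IsPBlock M B} = 2 := by
  classical
  have := isPrime_of_pmodular hM
  have := charP_kres (M := M) hM
  have := isAlgClosed_kres (M := M)
  have := Fintype.ofFinite ↥(D.group F)
  obtain ⟨l0, hlong⟩ := g.exists_longest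
  set w₀ := g.wperm l0
  have hw₀ : w₀ ∈ g.weyl := g.wperm_mem l0
  let tr : Cfsg.IrrCharacter ↥(D.group F) := ⟨fun _ => 1, CfsgLib.Char.isIrrCharacter_one⟩
  let St : Cfsg.IrrCharacter ↥(D.group F) :=
    ⟨D.steinbergCharacter F, g.steinberg_irr hc hse⟩
  have : Finite (ConjClasses ↥(D.group F)) :=
    Finite.of_surjective ConjClasses.mk ConjClasses.mk_surjective
  have := Fintype.ofFinite (ConjClasses ↥(D.group F))
  have heq : ∀ {χ ψ : Cfsg.IrrCharacter ↥(D.group F)},
      (∀ x : ↥(D.group F), lam M χ (classSumZ (kres M) x) = lam M ψ (classSumZ (kres M) x)) →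
        blockOf M (χ : ↥(D.group F) → ℂ) = blockOf M (ψ : ↥(D.group F) → ℂ) := by
    intro χ ψ h
    refine (blockOf_eq_of_mem (sameBlock_of_lam_eq ?_)).symm
    ext z
    rw [algHom_eq_sum_classes (lam M χ), algHom_eq_sum_classes (lam M ψ)]
    exact Finset.sum_congr rfl fun C _ => by rw [h]
  have htr : ∀ x : ↥(D.group F), lam M tr (classSumZ (kres M) x) =
      (Nat.card (ConjClasses.mk x).carrier : kres M) := by
    intro x
    rw [lam_classSumZ, ← redC_natCast, CfsgLib.Char.natCard_carrier_eq_index]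
    congr 1
    simp [Cfsg.centralChar, tr]
  -- the two cases
  have hcase : ∀ χ : Cfsg.IrrCharacter ↥(D.group F),
      (∀ x, lam M χ (classSumZ (kres M) x) = lam M tr (classSumZ (kres M) x)) ∨
      (∀ x, lam M χ (classSumZ (kres M) x) =
        ((Finset.univ.filter fun y : ↥(D.group F) =>
          IsConj x y ∧ g.nW F w₀ * y ∈ g.cellW F w₀).card : kres M)) := by
    intro χ
    set B := blockOf M (χ : ↥(D.group F) → ℂ)
    have hB : Cfsg.IsPBlock M B := isPBlock_blockOf χ
    have hχB : χ ∈ B := mem_blockOf_self χ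
    set e : MonoidAlgebra (kres M) ↥(D.group F) :=
      (blkIdem M B : MonoidAlgebra (kres M) ↥(D.group F))
    have hec : ∀ a, a * e = e * a := Subalgebra.mem_center_iff.1 (blkIdem M B).2
    have hee : e * e = e := congrArg Subtype.val (blkIdem_idem hM hB)
    have he0 : e ≠ 0 := fun h => by
      have h1 := lam_blkIdem hM hB χ
      rw [if_pos hχB, show blkIdem M B = 0 from Subtype.ext h, map_zero] at h1
      exact zero_ne_one h1
    -- powers of `z - λ z` kill the block
    have hnil : ∀ x : ↥(D.group F), ∃ n : ℕ,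
        (classSum (kres M) x - lam M χ (classSumZ (kres M) x) • 1) ^ n * e = 0 := by
      intro x
      obtain ⟨n, hn⟩ := isNilpotent_sub_lam_mul_blkIdem hM hB hχB (classSumZ (kres M) x)
      refine ⟨n + 1, ?_⟩
      have h1 := congrArg Subtype.val hn
      simp only [SubmonoidClass.coe_pow, MulMemClass.coe_mul, AddSubgroupClass.coe_sub,
        ZeroMemClass.coe_zero, classSumZ, SetLike.val_smul,
        Subalgebra.coe_one, Algebra.algebraMap_eq_smul_one] at h1
      set A := classSum (kres M) x - lam M χ (classSumZ (kres M) x) • 1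
      replace h1 : (A * e) ^ n = 0 := h1
      have h2 : ∀ m : ℕ, (A * e) ^ (m + 1) = A ^ (m + 1) * e := by
        intro m
        induction m with
        | zero => simp
        | succ m ih =>
          rw [pow_succ, ih, mul_assoc, ← mul_assoc e, ← hec, mul_assoc A, hee, ← mul_assoc,
            ← pow_succ]
      rw [← h2, pow_succ, h1, zero_mul]
    rcases g.dichotomy (p := p) hc hec hee he0 with ⟨s, hs, x0, hx0, hne⟩ | h
    · left
      intro c
      set J := (Finset.range D.rank).erase s
      set x := e * DZero.sumK (kres M) (posIn D F)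
      set m := lam M χ (classSumZ (kres M) c)
      set cl := (Nat.card (ConjClasses.mk c).carrier : kres M)
      rw [htr]
      by_contra hmc
      obtain ⟨n, hn⟩ := hnil c
      have hradN : ∀ g0 ∈ D.parabolicIn F J, ∀ q ∈ radIn D F J,
          g0⁻¹ * q * g0 ∈ radIn D F J := by
        intro g0 hg0 q hq
        refine Subgroup.mem_subgroupOf.2 ?_
        have hP : (g0 : GL D.Idx F)⁻¹ ∈ D.parabolicSubgroup F (J : Set ℕ) :=
          inv_mem (Subgroup.mem_subgroupOf.1 hg0)
        have h1 := (Subgroup.mem_normalizer_iff.1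
          (g.parabolic_le_normalizer_radical hc hse _ hP) _).1 (Subgroup.mem_subgroupOf.1 hq)
        rwa [inv_inv] at h1
      have hQU : radIn D F J ≤ posIn D F := by
        intro q hq
        have h := Subgroup.mem_subgroupOf.1 hq
        rw [g.unipotentRadical_eq hse] at h
        refine Subgroup.mem_subgroupOf.2 ?_
        rw [g.posUnipotent_eq]
        exact g.rootGen_mono (fun r hr _ => hr.2.1) h
      have hCQ : ∀ y, (∀ q ∈ radIn D F J, q * y = y * q) → y ∈ posIn D F := fun y hy =>
        Subgroup.mem_subgroupOf.2 (g.centralizer_radIn_le hc hse hlk hs fun q hq => (hy q hq).symm)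
      have key : ∀ j : ℕ, ∀ z ∈ D.parabolicIn F J,
          ((classSum (kres M) c - m • 1) ^ j * x).coeff z = (cl - m) ^ j * x.coeff z ∧
            (∀ u ∈ posIn D F, DZero.dlt (kres M) u * ((classSum (kres M) c - m • 1) ^ j * x) =
              (classSum (kres M) c - m • 1) ^ j * x) ∧
            (∀ u ∈ posIn D F, ((classSum (kres M) c - m • 1) ^ j * x) * DZero.dlt (kres M) u =
              (classSum (kres M) c - m • 1) ^ j * x) := by
        intro j
        induction j with
        | zero =>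
          intro z _
          refine ⟨by simp, fun u hu => ?_, fun u hu => ?_⟩
          · rw [pow_zero, one_mul, ← mul_assoc, hec, mul_assoc, DZero.dlt_mul_sumK _ hu]
          · rw [pow_zero, one_mul, mul_assoc, DZero.sumK_mul_dlt _ hu]
        | succ j ih =>
          intro z hz
          obtain ⟨h1, h2, h3⟩ := ih z hz
          rw [pow_succ', mul_assoc]
          set w := (classSum (kres M) c - m • 1) ^ j * x
          have hl : ∀ u ∈ posIn D F, ∀ y, w.coeff (u * y) = w.coeff y := fun u hu y => by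
            conv_lhs => rw [← h2 u hu]
            rw [DZero.coeff_dlt_mul, inv_mul_cancel_left]
          have hr : ∀ u ∈ posIn D F, ∀ y, w.coeff (y * u) = w.coeff y := fun u hu y => by
            conv_lhs => rw [← h3 u hu]
            rw [DZero.dlt, coeff_mul_single_apply, mul_inv_cancel_right, mul_one]
          refine ⟨?_, fun u hu => ?_, fun u hu => ?_⟩
          · rw [sub_mul, coeff_sub, Finsupp.sub_apply, smul_mul_assoc, one_mul, coeff_smul,
              Finsupp.smul_apply, smul_eq_mul,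
              DZero.classSum_mul_coeff (p := p) (posIn D F) (radIn D F J)
                (g.isPGroup_radIn hc hse p J) hCQ c hl hr hQU (fun q hq => hQU (hradN z hz q hq)),
              h1, pow_succ']
            ring
          · rw [← mul_assoc, Subalgebra.mem_center_iff.1 (Subalgebra.sub_mem _
              (classSum_mem_center c) (Subalgebra.smul_mem _ (Subalgebra.one_mem _) m))
              (DZero.dlt (kres M) u), mul_assoc, h2 u hu]
          · rw [mul_assoc, h3 u hu]
      have h0 := (key n x0 hx0).1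
      rw [show x = e * DZero.sumK (kres M) (posIn D F) from rfl, ← mul_assoc, hn, zero_mul,
        coeff_zero, Finsupp.zero_apply] at h0
      rcases mul_eq_zero.1 h0.symm with h1 | h1
      · exact hmc (sub_eq_zero.1 (eq_zero_of_pow_eq_zero h1)).symm
      · exact hne h1
    · right
      intro c
      obtain ⟨v, hev, hfix, hT⟩ := h w₀ hw₀ hlong
      set T := DZero.sumK (kres M) (posIn D F) * (DZero.dlt (kres M) (g.nW F w₀) * v)
      set m := lam M χ (classSumZ (kres M) c)
      set N : kres M := ((Finset.univ.filter fun y : ↥(D.group F) =>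
          IsConj c y ∧ g.nW F w₀ * y ∈ g.cellW F w₀).card : kres M)
      have hK : classSum (kres M) c * T = N • T := by
        have hcen := Subalgebra.mem_center_iff.1 (classSum_mem_center (k := kres M) c)
        have e1 : classSum (kres M) c * T = DZero.sumK (kres M) (posIn D F) *
            (DZero.dlt (kres M) (g.nW F w₀) * (classSum (kres M) c * v)) := by
          simp only [T, ← mul_assoc, hcen]
        have e2 : classSum (kres M) c = ∑ y : ↥(D.group F),
            (if IsConj c y then (1 : kres M) else 0) • DZero.dlt (kres M) y := by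
          have hw : ∀ w : MonoidAlgebra (kres M) ↥(D.group F),
              w = ∑ y, w.coeff y • DZero.dlt (kres M) y := fun w => by
            ext z
            simp [DZero.dlt]
          refine (hw _).trans (Finset.sum_congr rfl fun y _ => ?_)
          rw [coeff_classSum]
        rw [e1, e2]
        simp only [Finset.sum_mul, Finset.mul_sum, smul_mul_assoc, mul_smul_comm,
          DZero.dlt_mul_mul]
        simp only [N, Finset.card_filter, Nat.cast_sum, Finset.sum_smul]
        refine Finset.sum_congr rfl fun y _ => ?_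
        rw [g.big_cell_count (p := p) hc hw₀ hlong hfix (g.nW F w₀ * y)]
        by_cases h1 : IsConj c y <;> by_cases h2 : g.nW F w₀ * y ∈ g.cellW F w₀ <;>
          simp only [h1, h2, T, if_true, if_false, and_self, and_true, and_false,
            smul_zero, zero_smul, one_smul, Nat.cast_one, Nat.cast_zero]
      obtain ⟨n, hn⟩ := hnil c
      have hpow : ∀ j : ℕ, (classSum (kres M) c - m • 1) ^ j * T = (N - m) ^ j • T := by
        intro j
        induction j with
        | zero => simp
        | succ j ih =>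
          rw [pow_succ, mul_assoc, sub_mul, smul_mul_assoc, one_mul, hK, ← sub_smul,
            mul_smul_comm, ih, smul_smul, ← pow_succ']
      have heT : e * T = T := by
        simp only [T]
        rw [← mul_assoc, ← hec, mul_assoc, ← mul_assoc e, ← hec, mul_assoc, hev]
      have h0 := hpow n
      rw [← heT, ← mul_assoc, hn, zero_mul] at h0
      rw [heT] at h0
      by_contra hmc
      exact hT ((smul_eq_zero.1 h0.symm).resolve_left
        (pow_ne_zero n (sub_ne_zero.2 (Ne.symm hmc))))
  -- Steinberg is not principal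
  have hne : blockOf M (St : ↥(D.group F) → ℂ) ≠ blockOf M (tr : ↥(D.group F) → ℂ) := by
    intro h
    have hsame : Cfsg.SameBlock M (St : ↥(D.group F) → ℂ) (tr : ↥(D.group F) → ℂ) := by
      have := mem_blockOf_self (M := M) tr
      rw [← h] at this
      exact this
    have hint : ∀ x, Cfsg.MemLocalRing M (Cfsg.blockCoeff ({St} : Set _) x) := by
      intro x
      have := Fintype.ofFinite (Cfsg.IrrCharacter ↥(D.group F))
      rw [blockCoeff_eq_sum, Finset.sum_eq_single St, if_pos (Set.mem_singleton St)]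
      · simp only [idemC, coeff_mkGA, irr_conj_eq St.2]
        show Cfsg.MemLocalRing M (_ * (D.steinbergCharacter F 1 * D.steinbergCharacter F x⁻¹))
        rw [g.steinberg_one hc hse, ← mul_assoc, ← Nat.cast_pow, ← g.card_p_part hc p]
        refine memLocalRing_mul ?_ (memLocalRing_of_isIntegral
          (irr_apply_isIntegral (CfsgLib.Char.irr_isCharacter St.2) _))
        set a := (Nat.card ↥(D.group F)).factorization p
        set m := Nat.card ↥(D.group F) / p ^ a
        have hGm : Nat.card ↥(D.group F) = p ^ a * m := (Nat.ordProj_mul_ordCompl_eq_self _ p).symm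
        have hpm : ¬ p ∣ m := Nat.not_dvd_ordCompl Fact.out Nat.card_pos.ne'
        have hp0 : (p : ℂ) ^ a ≠ 0 :=
          pow_ne_zero _ (Nat.cast_ne_zero.2 (Fact.out : p.Prime).ne_zero)
        convert memLocalRing_inv_natCast hM hpm using 1
        rw [hGm]
        push_cast
        field_simp
      · intro ψ _ hψ; rw [if_neg (by simpa using hψ)]
      · simp
    have h1 : (tr : ↥(D.group F) → ℂ) = (St : ↥(D.group F) → ℂ) :=
      congrArg Subtype.val (show tr = St from
        mem_of_integral_blockSum hint (Set.mem_singleton St) hsame)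
    have h2 : (1 : ℂ) = D.steinbergCharacter F 1 := congrFun h1 1
    rw [g.steinberg_one hc hse, ← Nat.cast_pow] at h2
    have h3 : Fintype.card F ^ (D.nroots / 2) = 1 := by exact_mod_cast h2.symm
    have h4 : D.nroots / 2 ≠ 0 := by
      have h1 := g.simple_pos hrank
      have h2 := g.simple_lt hrank
      have h3 := g.nroots_eq
      omega
    rcases Nat.pow_eq_one.1 h3 with h5 | h5
    · exact (Fintype.one_lt_card (α := F)).ne' h5
    · exact h4 h5
  rw [Nat.card_eq_two_iff]
  refine ⟨⟨_, isPBlock_blockOf St⟩, ⟨_, isPBlock_blockOf tr⟩,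
    fun h => hne (congrArg Subtype.val h), Set.eq_univ_of_forall fun ⟨B, hB⟩ => ?_⟩
  obtain ⟨χ, rfl⟩ := hB
  rcases hcase χ with h | h
  · exact Or.inr (Subtype.ext (heq h))
  · rcases hcase St with h' | h'
    · exact absurd (heq h') hne
    · exact Or.inl (Subtype.ext (heq fun x => (h x).trans (h' x).symm))

end Good

end CfsgLib.Chev
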