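import Mathlib
import Cfsg.Prelude.Def_Characters
import Cfsg.Agent.Lib.Char.Inner
import Cfsg.Agent.Lib.Char.Induce

/-!
The centre of the commutant of a permutation representation has dimension the number of distinct
irreducible constituents of the permutation character.
-/

set_option autoImplicit false

namespace CfsgLib.KnownB.PermComm

open scoped ComplexConjugate
open Matrix

variable {G : Type*} [Group G] {X : Type*} [MulAction G X]

/-- Invariant matrices. -/
def Inv (G : Type*) [Group G] [MulAction G X] (M : Matrix X X ℂ) : Prop :=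
  ∀ (g : G) (a b : X), M (g • a) (g • b) = M a b

variable [Fintype X] [DecidableEq X]

/-- The centre of the commutant. -/
def commCenter (G : Type*) [Group G] (X : Type*) [MulAction G X] [Fintype X] [DecidableEq X] :
    Submodule ℂ (Matrix X X ℂ) where
  carrier := {M | Inv G M ∧ ∀ N, Inv G N → M * N = N * M}
  add_mem' {A B} hA hB := ⟨fun g a b => by simp [hA.1 g a b, hB.1 g a b],
    fun N hN => by rw [add_mul, mul_add, hA.2 N hN, hB.2 N hN]⟩
  zero_mem' := ⟨fun _ _ _ => rfl, fun N _ => by simp⟩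
  smul_mem' k A hA := ⟨fun g a b => by simp [hA.1 g a b],
    fun N hN => by rw [smul_mul_assoc, mul_smul_comm, hA.2 N hN]⟩

omit [DecidableEq X] in
lemma inv_mul {A B : Matrix X X ℂ} (hA : Inv G A) (hB : Inv G B) : Inv G (A * B) := by
  intro g a b
  simp only [Matrix.mul_apply]
  rw [← Equiv.sum_comp (MulAction.toPerm g) fun c => A (g • a) c * B c (g • b)]
  exact Finset.sum_congr rfl fun c _ => by simp [hA g, hB g]

/-- The permutation matrix. -/
def pmat (g : G) : Matrix X X ℂ := Matrix.of fun a b => if g • b = a then 1 else 0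

lemma inv_iff_comm (M : Matrix X X ℂ) : Inv G M ↔ ∀ g : G, pmat g * M = M * pmat g := by
  have e1 : ∀ (g : G) (a b : X), ((pmat g : Matrix X X ℂ) * M) a b = M (g⁻¹ • a) b := fun g a b => by
    simp [Matrix.mul_apply, pmat, ← eq_inv_smul_iff]
  have e2 : ∀ (g : G) (a b : X), (M * (pmat g : Matrix X X ℂ)) a b = M a (g • b) := fun g a b => by
    simp [Matrix.mul_apply, pmat]
  constructor
  · intro h g
    ext a b
    rw [e1, e2, ← h g (g⁻¹ • a) b, smul_inv_smul]
  · intro h g a b
    have := congrFun (congrFun (h g) (g • a)) b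
    rw [e1, e2, inv_smul_smul] at this
    exact this.symm

variable [Fintype G]

/-- The class sum operator. -/
def psi (z : G → ℂ) : Matrix X X ℂ := ∑ h, z h • pmat h

lemma psi_mem {z : G → ℂ} (hz : Cfsg.IsClassFunction G z) :
    (psi z : Matrix X X ℂ) ∈ commCenter G X := by
  refine ⟨fun g a b => ?_, fun N hN => ?_⟩
  · simp only [psi, Matrix.sum_apply, Matrix.smul_apply, pmat, Matrix.of_apply, smul_eq_mul]
    refine Fintype.sum_equiv (MulAut.conj g⁻¹).toEquiv _ _ fun h => ?_
    simp only [MulEquiv.toEquiv_eq_coe, MulEquiv.coe_toEquiv, MulAut.conj_apply, hz h g⁻¹]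
    congr 1
    refine if_congr ?_ rfl rfl
    rw [inv_inv, mul_smul, mul_smul, inv_smul_eq_iff]
  · simp only [psi, Finset.sum_mul, Finset.mul_sum, smul_mul_assoc, mul_smul_comm,
      (inv_iff_comm N).1 hN]

/-- The orbit matrix of a pair. -/
def orbMat (G : Type*) [Group G] [MulAction G X] [Fintype G] (c e : X) : Matrix X X ℂ :=
  Matrix.of fun a b => ∑ g : G, if g • c = a ∧ g • e = b then 1 else 0

lemma inv_orbMat (c e : X) : Inv G (orbMat G c e) := by
  intro k a b
  simp only [orbMat, Matrix.of_apply]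
  refine Fintype.sum_equiv (Equiv.mulLeft k⁻¹) _ _ fun g => ?_
  simp only [Equiv.coe_mulLeft, mul_smul, inv_smul_eq_iff]

omit [Fintype X] in
lemma orbMat_transpose (c e : X) : (orbMat G c e)ᵀ = orbMat G e c := by
  ext a b
  simp [orbMat, and_comm]

/-- The trace twisted by a group element. -/
def twTrace (M : Matrix X X ℂ) (h : G) : ℂ := ∑ c, M (h • c) c

omit [DecidableEq X] [Fintype G] in
lemma twTrace_class {M : Matrix X X ℂ} (hM : Inv G M) : Cfsg.IsClassFunction G (twTrace M) := by
  intro h k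
  simp only [twTrace]
  rw [← Equiv.sum_comp (MulAction.toPerm k)]
  refine Finset.sum_congr rfl fun c _ => ?_
  simp only [MulAction.toPerm_apply, mul_smul, inv_smul_smul]
  exact hM k (h • c) c

lemma orbMat_eq (c e : X) :
    orbMat G c e = ∑ g : G, Matrix.single (g • c) (g • e) (1 : ℂ) := by
  ext a b
  simp [orbMat, Matrix.sum_apply, Matrix.single_apply]

lemma pmat_eq (g k : G) :
    (pmat (g * k⁻¹) : Matrix X X ℂ) = ∑ c, Matrix.single (g • c) (k • c) (1 : ℂ) := by
  ext a b
  simp only [pmat, Matrix.of_apply, Matrix.sum_apply, Matrix.single_apply]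
  rw [Finset.sum_eq_single (k⁻¹ • b)]
  · simp [mul_smul]
  · intro c _ hc
    rw [if_neg fun h => hc (eq_inv_smul_iff.2 h.2)]
  · simp

lemma sum_orbMat {M : Matrix X X ℂ} (hM : Inv G M) :
    ∑ c, ∑ e, orbMat G c e * M * orbMat G e c =
      (Nat.card G : ℂ) • psi (twTrace (G := G) M) := by
  have h1 : ∀ c e, orbMat G c e * M * orbMat G e c =
      ∑ g : G, ∑ k : G, M (g • e) (k • e) • Matrix.single (g • c) (k • c) (1 : ℂ) := by
    intro c e
    rw [orbMat_eq, orbMat_eq, Finset.sum_mul, Finset.sum_mul]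
    refine Finset.sum_congr rfl fun g _ => ?_
    rw [Finset.mul_sum]
    refine Finset.sum_congr rfl fun k _ => ?_
    ext a b
    simp [Matrix.single_apply, Matrix.mul_apply, ite_and, eq_comm]
    split_ifs <;> rfl
  have h2 : ∀ c, ∑ e, orbMat G c e * M * orbMat G e c =
      ∑ g : G, ∑ k : G, twTrace (G := G) M (g * k⁻¹) •
        Matrix.single (g • c) (k • c) (1 : ℂ) := by
    intro c
    simp only [h1]
    rw [Finset.sum_comm]
    refine Finset.sum_congr rfl fun g _ => ?_
    rw [Finset.sum_comm]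
    refine Finset.sum_congr rfl fun k _ => ?_
    rw [← Finset.sum_smul]
    congr 1
    simp only [twTrace]
    refine Fintype.sum_equiv (MulAction.toPerm k) _ _ fun e => ?_
    simp [mul_smul]
  simp only [h2]
  rw [Finset.sum_comm]
  have h3 : ∀ g : G, (∑ c : X, ∑ k : G, twTrace (G := G) M (g * k⁻¹) •
      Matrix.single (g • c) (k • c) (1 : ℂ)) = psi (twTrace (G := G) M) := by
    intro g
    rw [Finset.sum_comm]
    simp only [← Finset.smul_sum, ← pmat_eq, psi]
    exact Fintype.sum_equiv ((Equiv.inv G).trans (Equiv.mulLeft g)) _ _ fun k => rfl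
  refine (Finset.sum_congr rfl fun g _ => h3 g).trans ?_
  simp only [Finset.sum_const, Finset.card_univ, Nat.card_eq_fintype_card]
  exact (Nat.cast_smul_eq_nsmul ℂ _ _).symm

/-- Every central element of the commutant is a class sum. -/
theorem exists_psi {M : Matrix X X ℂ} (hM : M ∈ commCenter G X) :
    ∃ z : G → ℂ, Cfsg.IsClassFunction G z ∧ M = psi z := by
  set C : Matrix X X ℂ := ∑ c, ∑ e, orbMat G c e * 1 * orbMat G e c with hC
  have hone : Inv G (1 : Matrix X X ℂ) := fun g a b => by simp [Matrix.one_apply]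
  have hCmem : C ∈ commCenter G X := by
    rw [hC, sum_orbMat hone]
    exact Submodule.smul_mem _ _ (psi_mem (twTrace_class hone))
  have hinj : ∀ v : X → ℂ, C *ᵥ v = 0 → v = 0 := by
    intro v hv
    have h1 : ∑ c, ∑ e, ∑ a, ((orbMat G e c *ᵥ v) a) * conj ((orbMat G e c *ᵥ v) a) = 0 := by
      have h2 : ∀ c e, ∑ a, (orbMat G e c *ᵥ v) a * conj ((orbMat G e c *ᵥ v) a) =
          ∑ a, conj (v a) * (((orbMat G c e * 1 * orbMat G e c) *ᵥ v) a) := by
        intro c e
        have hreal : ∀ i j, conj (orbMat G e c i j) = orbMat G e c i j := by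
          intro i j
          simp [orbMat, apply_ite]
        rw [mul_one, ← Matrix.mulVec_mulVec, ← orbMat_transpose e c]
        set w := orbMat G e c *ᵥ v with hw
        simp only [Matrix.mulVec, dotProduct, Matrix.transpose_apply, Finset.mul_sum]
        rw [Finset.sum_comm]
        refine Finset.sum_congr rfl fun a _ => ?_
        rw [show conj (w a) = ∑ j, orbMat G e c a j * conj (v j) by
          simp [hw, Matrix.mulVec, dotProduct, map_sum, hreal], Finset.mul_sum]
        exact Finset.sum_congr rfl fun j _ => by ring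
      simp only [h2]
      rw [Finset.sum_congr rfl fun c _ => Finset.sum_comm, Finset.sum_comm]
      refine Finset.sum_eq_zero fun a _ => ?_
      simp only [← Finset.mul_sum]
      have e5 : ∑ c, ∑ e, ((orbMat G c e * 1 * orbMat G e c) *ᵥ v) a = (C *ᵥ v) a := by
        simp [hC, Matrix.sum_mulVec, Finset.sum_apply]
      rw [e5, hv]
      simp
    funext a
    have hnn : ∀ c e x, 0 ≤ Complex.normSq ((orbMat G e c *ᵥ v) x) := fun _ _ _ =>
      Complex.normSq_nonneg _
    have h3 : ∑ c, ∑ e, ∑ x, Complex.normSq ((orbMat G e c *ᵥ v) x) = 0 := by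
      have h4 : ((∑ c, ∑ e, ∑ x, Complex.normSq ((orbMat G e c *ᵥ v) x) : ℝ) : ℂ) = 0 := by
        push_cast
        rw [← h1]
        simp only [Complex.mul_conj]
      exact_mod_cast h4
    have h5 := (Finset.sum_eq_zero_iff_of_nonneg fun c _ => Finset.sum_nonneg fun e _ =>
      Finset.sum_nonneg fun x _ => hnn c e x).1 h3 a (Finset.mem_univ _)
    have h6 := (Finset.sum_eq_zero_iff_of_nonneg fun e _ => Finset.sum_nonneg fun x _ =>
      hnn a e x).1 h5 a (Finset.mem_univ _)
    have h7 := (Finset.sum_eq_zero_iff_of_nonneg fun x _ => hnn a a x).1 h6 a (Finset.mem_univ _)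
    rw [Complex.normSq_eq_zero] at h7
    have h8 : (orbMat G a a *ᵥ v) a =
        ((Finset.univ.filter fun g : G => g • a = a).card : ℂ) * v a := by
      simp only [Matrix.mulVec, dotProduct, orbMat, Matrix.of_apply]
      rw [Finset.sum_eq_single a]
      · simp [Finset.sum_boole]
      · intro x _ hx
        rw [Finset.sum_eq_zero fun g _ => if_neg fun h : g • a = a ∧ g • a = x =>
          hx (h.2.symm.trans h.1), zero_mul]
      · simp
    rw [h8, mul_eq_zero, Nat.cast_eq_zero, Finset.card_eq_zero] at h7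
    refine h7.resolve_left fun h => ?_
    have : (1 : G) ∈ Finset.univ.filter fun g : G => g • a = a := by simp
    rw [h] at this
    simp at this
  have hdet : IsUnit C.det := by
    rw [← Matrix.isUnit_iff_isUnit_det, ← Matrix.mulVec_injective_iff_isUnit]
    intro u v huv
    exact sub_eq_zero.1 (hinj (u - v) (by rw [Matrix.mulVec_sub]; exact sub_eq_zero.2 huv))
  have hcommI : ∀ N, Inv G N → C⁻¹ * N = N * C⁻¹ := by
    intro N hN
    calc C⁻¹ * N = C⁻¹ * (N * C) * C⁻¹ := by
          rw [mul_assoc, mul_assoc N, Matrix.mul_nonsing_inv _ hdet, mul_one]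
      _ = N * C⁻¹ := by
          rw [← hCmem.2 N hN, ← mul_assoc C⁻¹, Matrix.nonsing_inv_mul _ hdet, one_mul]
  have hIinv : Inv G C⁻¹ := by
    rw [inv_iff_comm]
    intro g
    have h1 := (inv_iff_comm C).1 hCmem.1 g
    calc pmat g * C⁻¹ = C⁻¹ * (C * pmat g) * C⁻¹ := by
          rw [← mul_assoc C⁻¹, Matrix.nonsing_inv_mul _ hdet, one_mul]
      _ = C⁻¹ * pmat g := by
          rw [← h1, mul_assoc, mul_assoc, Matrix.mul_nonsing_inv _ hdet, mul_one]
  set A := C⁻¹ * M with hA
  have hAinv : Inv G A := inv_mul hIinv hM.1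
  have hAc : ∀ N, Inv G N → A * N = N * A := fun N hN => by
    rw [hA, mul_assoc, hM.2 N hN, ← mul_assoc, hcommI N hN, mul_assoc]
  refine ⟨fun h => (Nat.card G : ℂ) * twTrace A h,
    fun h k => by simp only [twTrace_class hAinv h k], ?_⟩
  have h1 : M = C * A := by
    rw [hA, ← mul_assoc, Matrix.mul_nonsing_inv _ hdet, one_mul]
  rw [h1, hC]
  simp only [Finset.sum_mul, mul_one]
  rw [show psi (fun h => (Nat.card G : ℂ) * twTrace A h) =
    (Nat.card G : ℂ) • (psi (twTrace (G := G) A) : Matrix X X ℂ) by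
      simp [psi, Finset.smul_sum, smul_smul], ← sum_orbMat hAinv]
  refine Finset.sum_congr rfl fun c _ => Finset.sum_congr rfl fun e _ => ?_
  rw [mul_assoc, ← hAc _ (inv_orbMat e c), ← mul_assoc]

/-- The permutation character. -/
noncomputable def pchar (G : Type*) [Group G] (X : Type*) [MulAction G X] : G → ℂ :=
  fun g => (Nat.card (MulAction.fixedBy X g) : ℂ)

lemma trace_pmat (g : G) : (pmat g : Matrix X X ℂ).trace = pchar G X g := by
  simp [Matrix.trace, pmat, pchar, Nat.card_eq_fintype_card, Fintype.card_subtype,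
    MulAction.mem_fixedBy, Finset.sum_boole]

omit [Fintype G] in
lemma pmat_mul (g h : G) : (pmat g : Matrix X X ℂ) * pmat h = pmat (g * h) := by
  ext a b
  simp [Matrix.mul_apply, pmat, mul_smul, eq_comm]

lemma trace_psi (χ : Cfsg.IrrCharacter G) (hch : Cfsg.IsCharacter G (pchar G X)) (g : G) :
    ((psi (χ : G → ℂ) : Matrix X X ℂ) * pmat g).trace =
      Cfsg.classInner (pchar G X) (χ : G → ℂ) * (Nat.card G : ℂ) / (χ : G → ℂ) 1 *
        (χ : G → ℂ) g⁻¹ := by
  classical
  have := Fintype.ofFinite (Cfsg.IrrCharacter G)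
  set m := fun ψ : Cfsg.IrrCharacter G => Cfsg.classInner (pchar G X) (ψ : G → ℂ)
  have hreal : ∀ x : G, pchar G X x = ∑ ψ : Cfsg.IrrCharacter G, m ψ * conj ((ψ : G → ℂ) x) := by
    intro x
    have h1 := congrArg conj (CfsgLib.Char.classFunction_apply_eq_sum
      (CfsgLib.Char.isCharacter_isClassFunction hch) x)
    rw [map_sum] at h1
    refine (Complex.conj_natCast _).symm.trans (h1.trans (Finset.sum_congr rfl fun ψ _ => ?_))
    rw [map_mul]
    congr 1
    obtain ⟨k, hk⟩ := CfsgLib.Char.classInner_isCharacter_nat hch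
      (CfsgLib.Char.irr_isCharacter ψ.2)
    simp only [m, hk, Complex.conj_natCast]
  have h2 : ((psi (χ : G → ℂ) : Matrix X X ℂ) * pmat g).trace =
      ∑ h, (χ : G → ℂ) h * pchar G X (h * g) := by
    simp [psi, Finset.sum_mul, Matrix.trace_sum, pmat_mul, trace_pmat]
  rw [h2]
  simp only [hreal, Finset.mul_sum]
  rw [Finset.sum_comm]
  have h3 : ∀ ψ : Cfsg.IrrCharacter G, ∑ h, (χ : G → ℂ) h * conj ((ψ : G → ℂ) (h * g)) =
      if ψ = χ then (Nat.card G : ℂ) / (χ : G → ℂ) 1 * (χ : G → ℂ) g⁻¹ else 0 := by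
    rintro ⟨ψ, n, ρ, hρ, rfl⟩
    have h := congrArg (fun f => LinearMap.trace ℂ (Fin n → ℂ) (ρ g⁻¹ * f))
      (CfsgLib.Char.classOp_eq_scalar (CfsgLib.Char.irr_isClassFunction χ.2) ρ)
    simp only [CfsgLib.Char.classOp, Finset.mul_sum, map_sum, mul_smul_comm, map_smul, ← map_mul,
      smul_eq_mul, ← Module.End.one_eq_id, mul_one] at h
    have e : ∀ h : G, LinearMap.trace ℂ (Fin n → ℂ) (ρ (g⁻¹ * h⁻¹)) =
        conj (ρ.character (h * g)) := by
      intro h
      rw [← CfsgLib.Char.char_inv_eq_conj, _root_.mul_inv_rev]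
      rfl
    simp only [e] at h
    show ∑ h, (χ : G → ℂ) h * conj (ρ.character (h * g)) = _
    rw [h, CfsgLib.Char.irr_classInner χ.2 ⟨n, ρ, hρ, rfl⟩, ← Representation.char_one ρ]
    by_cases hcase : (⟨ρ.character, n, ρ, hρ, rfl⟩ : Cfsg.IrrCharacter G) = χ
    · rw [if_pos hcase, if_pos (congrArg Subtype.val hcase).symm]
      rw [← hcase, mul_one]
      rfl
    · rw [if_neg hcase, if_neg fun he => hcase (Subtype.ext he.symm)]
      simp
  rw [Finset.sum_eq_single χ]
  · rw [Finset.sum_congr rfl fun h _ => mul_left_comm _ _ _, ← Finset.mul_sum, h3 χ, if_pos rfl]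
    simp only [m]
    ring
  · intro ψ _ hne
    rw [Finset.sum_congr rfl fun h _ => mul_left_comm _ _ _, ← Finset.mul_sum, h3 ψ, if_neg hne,
      mul_zero]
  · simp

lemma psi_eq_zero (χ : Cfsg.IrrCharacter G) (hch : Cfsg.IsCharacter G (pchar G X))
    (h : Cfsg.classInner (pchar G X) (χ : G → ℂ) = 0) :
    (psi (χ : G → ℂ) : Matrix X X ℂ) = 0 := by
  set P : Matrix X X ℂ := psi (χ : G → ℂ)
  have h1 : ∑ a, ∑ b, P a b * conj (P a b) = 0 := by
    have hstep : ∀ a b, P a b * conj (P a b) =
        ∑ k, conj ((χ : G → ℂ) k) * (P a b * pmat k⁻¹ b a) := by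
      intro a b
      conv_lhs => arg 2; simp only [P, psi, Matrix.sum_apply, Matrix.smul_apply, smul_eq_mul]
      rw [map_sum, Finset.mul_sum]
      refine Finset.sum_congr rfl fun k _ => ?_
      simp only [pmat, Matrix.of_apply, map_mul, inv_smul_eq_iff]
      by_cases hk : k • b = a
      · rw [if_pos hk, if_pos hk.symm, map_one]; ring
      · rw [if_neg hk, if_neg fun h' => hk h'.symm, map_zero]; ring
    simp only [hstep]
    rw [Finset.sum_congr rfl fun a _ => Finset.sum_comm, Finset.sum_comm]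
    refine Finset.sum_eq_zero fun k _ => ?_
    simp only [← Finset.mul_sum]
    have : ∑ a, ∑ b, P a b * pmat k⁻¹ b a = (P * pmat k⁻¹).trace := by
      simp [Matrix.trace, Matrix.mul_apply]
    rw [this, trace_psi χ hch, h]
    simp
  ext a b
  have h2 : ∑ a, ∑ b, Complex.normSq (P a b) = 0 := by
    have h4 : ((∑ a, ∑ b, Complex.normSq (P a b) : ℝ) : ℂ) = 0 := by
      push_cast
      rw [← h1]
      simp only [Complex.mul_conj]
    exact_mod_cast h4
  have h3 := (Finset.sum_eq_zero_iff_of_nonneg fun x _ => Finset.sum_nonneg fun y _ =>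
    Complex.normSq_nonneg _).1 h2 a (Finset.mem_univ _)
  exact Complex.normSq_eq_zero.1 ((Finset.sum_eq_zero_iff_of_nonneg fun y _ =>
    Complex.normSq_nonneg _).1 h3 b (Finset.mem_univ _))

/-- The dimension of the centre of the commutant. -/
theorem finrank_commCenter (hch : Cfsg.IsCharacter G (pchar G X)) :
    Module.finrank ℂ (commCenter G X) =
      Nat.card {χ : Cfsg.IrrCharacter G //
        ∃ φ : G → ℂ, Cfsg.IsCharacter G φ ∧ pchar G X = (χ : G → ℂ) + φ} := by
  classical
  have := Fintype.ofFinite (Cfsg.IrrCharacter G)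
  let S := {χ : Cfsg.IrrCharacter G // Cfsg.classInner (pchar G X) (χ : G → ℂ) ≠ 0}
  have hS : Nat.card S = Nat.card {χ : Cfsg.IrrCharacter G //
      ∃ φ : G → ℂ, Cfsg.IsCharacter G φ ∧ pchar G X = (χ : G → ℂ) + φ} := by
    refine Nat.card_congr (Equiv.subtypeEquivRight fun χ => ⟨fun h => ?_, ?_⟩)
    · refine ⟨pchar G X - (χ : G → ℂ), CfsgLib.Char.isCharacter_of_nat ?_ fun ψ hψ => ?_, by simp⟩
      · intro a b
        simp only [Pi.sub_apply, CfsgLib.Char.isCharacter_isClassFunction hch a b,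
          CfsgLib.Char.irr_isClassFunction χ.2 a b]
      · obtain ⟨k, hk⟩ := CfsgLib.Char.classInner_isCharacter_nat hch
          (CfsgLib.Char.irr_isCharacter hψ)
        rw [CfsgLib.Char.classInner_sub_left, hk, CfsgLib.Char.irr_classInner χ.2 hψ]
        by_cases he : (χ : G → ℂ) = ψ
        · rw [if_pos he]
          have hk0 : k ≠ 0 := fun h0 => h (by rw [he, hk, h0, Nat.cast_zero])
          exact ⟨k - 1, by rw [Nat.cast_sub (Nat.pos_of_ne_zero hk0)]; simp⟩
        · rw [if_neg he]
          exact ⟨k, sub_zero _⟩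
    · rintro ⟨φ, hφ, he⟩
      obtain ⟨k, hk⟩ := CfsgLib.Char.classInner_isCharacter_nat hφ
        (CfsgLib.Char.irr_isCharacter χ.2)
      rw [he, CfsgLib.Char.classInner_add_left, CfsgLib.Char.irr_classInner_self χ.2, hk]
      intro h0
      have : ((1 + k : ℕ) : ℂ) = ((0 : ℕ) : ℂ) := by push_cast; exact h0
      have := Nat.cast_inj.1 this
      omega
  rw [← hS, Nat.card_eq_fintype_card]
  let f : S → commCenter G X := fun χ =>
    ⟨psi (χ.1 : G → ℂ), psi_mem (CfsgLib.Char.irr_isClassFunction χ.1.2)⟩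
  have hli : LinearIndependent ℂ f := by
    rw [Fintype.linearIndependent_iff]
    intro a ha χ0
    have hA : (∑ χ : S, a χ • (psi (χ.1 : G → ℂ) : Matrix X X ℂ)) = 0 := by
      have := congrArg Subtype.val ha
      simpa [f] using this
    have h1 : (fun g : G => ∑ χ : S, (a χ * (Cfsg.classInner (pchar G X) (χ.1 : G → ℂ) *
        (Nat.card G : ℂ) / (χ.1 : G → ℂ) 1)) * (χ.1 : G → ℂ) g) = 0 := by
      funext g
      have h2 := congrArg (fun A => (A * pmat g⁻¹).trace) hA
      simp only [Finset.sum_mul, smul_mul_assoc, Matrix.trace_sum, Matrix.trace_smul,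
        trace_psi _ hch, inv_inv, zero_mul, Matrix.trace_zero, smul_eq_mul] at h2
      simp only [Pi.zero_apply]
      exact Eq.trans (Finset.sum_congr rfl fun χ _ => by ring) h2
    have h3 := congrArg (fun φ => Cfsg.classInner φ (χ0.1 : G → ℂ)) h1
    rw [CfsgLib.Char.classInner_zero_left] at h3
    have h4 : ∀ c : S → ℂ, Cfsg.classInner (fun g => ∑ χ : S, c χ * (χ.1 : G → ℂ) g)
        (χ0.1 : G → ℂ) = c χ0 := by
      intro c
      rw [show (fun g => ∑ χ : S, c χ * (χ.1 : G → ℂ) g) = ∑ χ : S, c χ • (χ.1 : G → ℂ) by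
        funext g; simp, CfsgLib.Char.classInner_sum_left, Finset.sum_eq_single χ0]
      · rw [CfsgLib.Char.classInner_smul_left, CfsgLib.Char.irr_classInner_self χ0.1.2, mul_one]
      · intro χ _ hne
        rw [CfsgLib.Char.classInner_smul_left, CfsgLib.Char.irr_classInner_ne χ.1.2 χ0.1.2
          (fun h => hne (Subtype.ext (Subtype.ext h))), mul_zero]
      · simp
    rw [h4] at h3
    refine (mul_eq_zero.1 h3).resolve_right (div_ne_zero (mul_ne_zero χ0.2
      (CfsgLib.Char.natCard_ne_zero)) (CfsgLib.Char.irr_apply_one_ne_zero χ0.1.2))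
  have hspan : ⊤ ≤ Submodule.span ℂ (Set.range f) := by
    rintro ⟨M, hM⟩ -
    obtain ⟨z, hz, rfl⟩ := exists_psi hM
    have hsum : (psi z : Matrix X X ℂ) = ∑ χ : Cfsg.IrrCharacter G,
        Cfsg.classInner z (χ : G → ℂ) • psi (χ : G → ℂ) := by
      simp only [psi, Finset.smul_sum, smul_smul]
      rw [Finset.sum_comm]
      refine Finset.sum_congr rfl fun h _ => ?_
      rw [← Finset.sum_smul, ← CfsgLib.Char.classFunction_apply_eq_sum hz h]
    have : (⟨psi z, hM⟩ : commCenter G X) = ∑ χ : S, Cfsg.classInner z (χ.1 : G → ℂ) • f χ := by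
      refine Subtype.ext ?_
      show (psi z : Matrix X X ℂ) = _
      simp only [Submodule.coe_sum, Submodule.coe_smul, f]
      rw [hsum]
      symm
      refine Eq.trans (Finset.sum_subtype (Finset.univ.filter fun χ : Cfsg.IrrCharacter G =>
        Cfsg.classInner (pchar G X) (χ : G → ℂ) ≠ 0) (fun χ => by simp)
        (fun χ => Cfsg.classInner z (χ : G → ℂ) • (psi (χ : G → ℂ) : Matrix X X ℂ))).symm ?_
      refine Finset.sum_filter_of_ne fun χ _ hne hm => hne ?_
      rw [psi_eq_zero χ hch hm, smul_zero]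
    rw [this]
    exact Submodule.sum_mem _ fun χ _ => Submodule.smul_mem _ _ (Submodule.subset_span ⟨χ, rfl⟩)
  rw [← Module.finrank_eq_card_basis (Module.Basis.mk hli hspan)]

end CfsgLib.KnownB.PermComm
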