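import Mathlib

/-!
The dimension of the centre of an algebra with nondegenerate trace form, given by structure
constants, is the trace of the Casimir map; so it is constant in polynomial families.
-/

set_option autoImplicit false

namespace CfsgLib.KnownB.TraceForm

open Matrix Polynomial

variable {ι : Type*} [Fintype ι] [DecidableEq ι]

/-- Left multiplication matrices of a unital associative algebra on the basis `ι`. -/
structure IsStruct {R : Type*} [CommRing R] (M : ι → Matrix ι ι R) (e : ι) : Prop where
  mul : ∀ x y, M x * M y = ∑ z, M x z y • M z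
  one : M e = 1
  col : ∀ x z, M x z e = if z = x then 1 else 0

/-- The trace form. -/
def gram {R : Type*} [CommRing R] (M : ι → Matrix ι ι R) : Matrix ι ι R :=
  Matrix.of fun i j => (M i * M j).trace

/-- The matrix of an algebra element. -/
def act {R : Type*} [CommRing R] (M : ι → Matrix ι ι R) (a : ι → R) : Matrix ι ι R :=
  ∑ x, a x • M x

/-- The Casimir map with the coefficients `c`. -/
def casimir {R : Type*} [CommRing R] (M : ι → Matrix ι ι R) (e : ι) (c : Matrix ι ι R) :
    Matrix ι ι R :=
  Matrix.of fun z x => ∑ i, ∑ j, c i j * (M i * M x * M j) z e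

/-- The centre. -/
def center (M : ι → Matrix ι ι ℂ) : Submodule ℂ (ι → ℂ) where
  carrier := {a | ∀ y, act M a * M y = M y * act M a}
  add_mem' {a b} ha hb y := by
    simp only [act, Pi.add_apply, add_smul, Finset.sum_add_distrib] at ha hb ⊢
    rw [add_mul, mul_add, ha y, hb y]
  zero_mem' y := by simp [act]
  smul_mem' k a ha y := by
    simp only [act, Pi.smul_apply, smul_eq_mul, mul_smul, ← Finset.smul_sum] at ha ⊢
    rw [smul_mul_assoc, mul_smul_comm, ha y]

lemma mem_center {M : ι → Matrix ι ι ℂ} {a : ι → ℂ} :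
    a ∈ center M ↔ ∀ y, act M a * M y = M y * act M a := Iff.rfl

variable {M : ι → Matrix ι ι ℂ} {e : ι}

lemma act_col (h : IsStruct M e) (a : ι → ℂ) (z : ι) : act M a z e = a z := by
  simp [act, Matrix.sum_apply, h.col]

lemma act_inj (h : IsStruct M e) {a b : ι → ℂ} (he : act M a = act M b) : a = b :=
  funext fun z => by rw [← act_col h a z, he, act_col h b z]

lemma exists_act_mul (h : IsStruct M e) (a b : ι → ℂ) :
    ∃ c, act M a * act M b = act M c := by
  refine ⟨fun z => ∑ x, ∑ y, a x * b y * M x z y, ?_⟩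
  simp only [act, Finset.sum_mul, Finset.mul_sum, smul_mul_assoc, mul_smul_comm, smul_smul, h.mul,
    Finset.smul_sum, Finset.sum_smul]
  rw [Finset.sum_comm]
  conv_rhs => rw [Finset.sum_comm]
  refine Finset.sum_congr rfl fun x _ => ?_
  rw [Finset.sum_comm]
  refine Finset.sum_congr rfl fun y _ => Finset.sum_congr rfl fun z _ => ?_
  congr 1
  ring

lemma act_single (x : ι) : act M (Pi.single x 1) = M x := by
  rw [act, Finset.sum_eq_single x]
  · simp
  · intro y _ hy
    simp [hy]
  · simp

omit [DecidableEq ι] in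
lemma gram_symm (i j : ι) : gram M i j = gram M j i := Matrix.trace_mul_comm _ _

/-- The right multiplication matrix. -/
def rmat (M : ι → Matrix ι ι ℂ) (y : ι) : Matrix ι ι ℂ := Matrix.of fun k j => M j k y

lemma gram_mul_left (h : IsStruct M e) (y : ι) :
    gram M * M y = (rmat M y)ᵀ * gram M := by
  ext j i
  have h1 : (gram M * M y) j i = (M j * (M y * M i)).trace := by
    simp [Matrix.mul_apply, gram, h.mul y i, Finset.mul_sum, Matrix.trace_sum, mul_comm]
  have h2 : ((rmat M y)ᵀ * gram M) j i = (M j * M y * M i).trace := by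
    simp [Matrix.mul_apply, gram, rmat, h.mul j y, Finset.sum_mul, Matrix.trace_sum]
  rw [h1, h2, mul_assoc]

variable (hdet : IsUnit (gram M).det)
include hdet

lemma left_eq_right (h : IsStruct M e) (y : ι) :
    M y * (gram M)⁻¹ = (gram M)⁻¹ * (rmat M y)ᵀ := by
  calc M y * (gram M)⁻¹ = (gram M)⁻¹ * (gram M * M y) * (gram M)⁻¹ := by
        rw [← mul_assoc ((gram M)⁻¹), Matrix.nonsing_inv_mul _ hdet, one_mul]
    _ = (gram M)⁻¹ * (rmat M y)ᵀ * (gram M * (gram M)⁻¹) := by
        rw [gram_mul_left h y]; simp only [mul_assoc]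
    _ = _ := by rw [Matrix.mul_nonsing_inv _ hdet, mul_one]

lemma casimir_comm (h : IsStruct M e) (y : ι) (A : Matrix ι ι ℂ) :
    M y * (∑ i, ∑ j, (gram M)⁻¹ i j • (M i * A * M j)) =
      (∑ i, ∑ j, (gram M)⁻¹ i j • (M i * A * M j)) * M y := by
  have hL : M y * (∑ i, ∑ j, (gram M)⁻¹ i j • (M i * A * M j)) =
      ∑ k, ∑ j, (M y * (gram M)⁻¹) k j • (M k * A * M j) := by
    simp only [Finset.mul_sum, mul_smul_comm, ← mul_assoc, h.mul y, Finset.sum_mul,
      smul_mul_assoc, Finset.smul_sum, smul_smul, Matrix.mul_apply, Finset.sum_smul]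
    rw [Finset.sum_comm]
    conv_rhs => rw [Finset.sum_comm]
    refine Finset.sum_congr rfl fun j _ => ?_
    rw [Finset.sum_comm]
    exact Finset.sum_congr rfl fun k _ => Finset.sum_congr rfl fun i _ => by rw [mul_comm]
  have hR : (∑ i, ∑ j, (gram M)⁻¹ i j • (M i * A * M j)) * M y =
      ∑ i, ∑ k, ((gram M)⁻¹ * (rmat M y)ᵀ) i k • (M i * A * M k) := by
    simp only [Finset.sum_mul, smul_mul_assoc, mul_assoc, h.mul _ y, Finset.mul_sum,
      mul_smul_comm, Finset.smul_sum, smul_smul, Matrix.mul_apply, Finset.sum_smul, rmat,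
      Matrix.transpose_apply, Matrix.of_apply]
    exact Finset.sum_congr rfl fun i _ => Finset.sum_comm
  rw [hL, hR, left_eq_right hdet h]

lemma casimir_one (h : IsStruct M e) :
    ∑ i, ∑ j, (gram M)⁻¹ i j • (M i * M j) = 1 := by
  set Gi := (gram M)⁻¹
  have htr : ∀ z, (M z).trace = (rmat M z).trace := by
    intro z
    have e1 : M z = Gi * ((rmat M z)ᵀ * gram M) := by
      rw [← gram_mul_left h z, ← mul_assoc, Matrix.nonsing_inv_mul _ hdet, one_mul]
    conv_lhs => rw [e1]
    rw [Matrix.trace_mul_comm, mul_assoc, Matrix.mul_nonsing_inv _ hdet, mul_one,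
      Matrix.trace_transpose]
  set u : ι → ℂ := fun k => ∑ i, ∑ j, Gi i j * M i k j
  have hu : ∑ i, ∑ j, Gi i j • (M i * M j) = act M u := by
    simp only [act, u, h.mul, Finset.smul_sum, smul_smul, Finset.sum_smul]
    conv_rhs => rw [Finset.sum_comm]
    exact Finset.sum_congr rfl fun i _ => Finset.sum_comm
  have hkey : ∀ z, ((∑ i, ∑ j, Gi i j • (M i * M j)) * M z).trace = (M z).trace := by
    intro z
    rw [htr z]
    have e2 : ((∑ i, ∑ j, Gi i j • (M i * M j)) * M z).trace =
        ∑ i, ∑ j, Gi i j * ∑ k, rmat M z k j * gram M i k := by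
      simp only [Finset.sum_mul, smul_mul_assoc, mul_assoc, h.mul _ z, Finset.mul_sum,
        mul_smul_comm, Matrix.trace_sum, Matrix.trace_smul, smul_eq_mul, rmat, gram,
        Matrix.of_apply]
    rw [e2]
    simp only [Finset.mul_sum]
    rw [Finset.sum_comm]
    have e3 : ∀ j, ∑ i, ∑ k, Gi i j * (rmat M z k j * gram M i k) = rmat M z j j := by
      intro j
      rw [Finset.sum_comm]
      have : ∀ k, ∑ i, Gi i j * (rmat M z k j * gram M i k) =
          rmat M z k j * (gram M * Gi) k j := by
        intro k
        rw [Matrix.mul_apply, Finset.mul_sum]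
        exact Finset.sum_congr rfl fun i _ => by rw [gram_symm i k]; ring
      simp only [this, Gi, Matrix.mul_nonsing_inv _ hdet, Matrix.one_apply, mul_ite, mul_one,
        mul_zero]
      simp
    simp only [e3]
    rfl
  rw [hu] at hkey ⊢
  have h1 : ∀ z, ((gram M)ᵀ *ᵥ (u - Pi.single e 1)) z = 0 := by
    intro z
    have e4 : ∀ a : ι → ℂ, ((gram M)ᵀ *ᵥ a) z = (act M a * M z).trace := by
      intro a
      simp [Matrix.mulVec, dotProduct, gram, act, Finset.sum_mul, Matrix.trace_sum, mul_comm]
    rw [Matrix.mulVec_sub, Pi.sub_apply, e4, e4, hkey, act_single, h.one, one_mul, sub_self]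
  have h2 : u - Pi.single e 1 = 0 := by
    have hu' : IsUnit (gram M)ᵀ.det := by rwa [Matrix.det_transpose]
    have := congrArg ((gram M)ᵀ⁻¹ *ᵥ ·) (funext h1 : _ = (0 : ι → ℂ))
    simpa [Matrix.mulVec_mulVec, Matrix.nonsing_inv_mul _ hu'] using this
  rw [sub_eq_zero.1 h2, act_single, h.one]

/-- The dimension of the centre. -/
theorem finrank_center (h : IsStruct M e) :
    ((Module.finrank ℂ (center M) : ℕ) : ℂ) = (casimir M e (gram M)⁻¹).trace := by
  set T := casimir M e (gram M)⁻¹
  have hT : ∀ a, act M (T *ᵥ a) = ∑ i, ∑ j, (gram M)⁻¹ i j • (M i * act M a * M j) := by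
    intro a
    obtain ⟨c, hc⟩ : ∃ c, (∑ i, ∑ j, (gram M)⁻¹ i j • (M i * act M a * M j)) = act M c := by
      have : ∀ i j, ∃ c, M i * act M a * M j = act M c := by
        intro i j
        obtain ⟨c1, hc1⟩ := exists_act_mul h (Pi.single i 1) a
        rw [act_single] at hc1
        obtain ⟨c2, hc2⟩ := exists_act_mul h c1 (Pi.single j 1)
        rw [act_single, ← hc1] at hc2
        exact ⟨c2, hc2⟩
      choose c hc using this
      refine ⟨fun z => ∑ i, ∑ j, (gram M)⁻¹ i j * c i j z, ?_⟩
      rw [Finset.sum_congr rfl fun i _ => Finset.sum_congr rfl fun j _ => by rw [hc i j]]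
      simp only [act, Finset.smul_sum, smul_smul, Finset.sum_smul]
      conv_rhs => rw [Finset.sum_comm]
      exact Finset.sum_congr rfl fun i _ => Finset.sum_comm
    rw [hc]
    congr 1
    funext z
    rw [← act_col h c z, ← hc]
    simp only [T, casimir, Matrix.mulVec, dotProduct, Matrix.of_apply, act, Matrix.sum_apply,
      Matrix.smul_apply, smul_eq_mul, Finset.mul_sum, Finset.sum_mul, mul_smul_comm, smul_mul_assoc]
    rw [Finset.sum_comm]
    refine Finset.sum_congr rfl fun i _ => ?_
    rw [Finset.sum_comm]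
    exact Finset.sum_congr rfl fun j _ => Finset.sum_congr rfl fun x _ => by ring
  have hproj : LinearMap.IsProj (center M) (Matrix.toLin' T) := by
    constructor
    · intro a
      rw [Matrix.toLin'_apply, mem_center]
      intro y
      rw [hT, casimir_comm hdet h y]
    · intro a ha
      rw [Matrix.toLin'_apply]
      refine act_inj h ?_
      rw [hT]
      calc ∑ i, ∑ j, (gram M)⁻¹ i j • (M i * act M a * M j)
          = act M a * ∑ i, ∑ j, (gram M)⁻¹ i j • (M i * M j) := by
            simp only [Finset.mul_sum, mul_smul_comm]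
            refine Finset.sum_congr rfl fun i _ => Finset.sum_congr rfl fun j _ => ?_
            rw [← mem_center.1 ha i, mul_assoc]
        _ = act M a := by rw [casimir_one hdet h, mul_one]
  rw [← hproj.trace, Matrix.trace_toLin'_eq]

omit hdet

/-- Specialisation of a polynomial family. -/
noncomputable def special (P : ι → Matrix ι ι ℂ[X]) (t : ℂ) : ι → Matrix ι ι ℂ :=
  fun x => (P x).map (evalRingHom t)

lemma special_struct {P : ι → Matrix ι ι ℂ[X]} (h : IsStruct P e) (t : ℂ) :
    IsStruct (special P t) e := by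
  refine ⟨fun x y => ?_, ?_, fun x z => ?_⟩
  · have h1 := congrArg (evalRingHom t).mapMatrix (h.mul x y)
    simp only [map_mul, map_sum, RingHom.mapMatrix_apply] at h1
    refine h1.trans (Finset.sum_congr rfl fun z _ => ?_)
    ext a b
    simp [special]
  · simp [special, h.one]
  · simp [special, h.col, apply_ite]

/-- The centre has the same dimension at all points with nondegenerate trace form. -/
theorem finrank_center_const {P : ι → Matrix ι ι ℂ[X]} (h : IsStruct P e) {t₁ t₂ : ℂ}
    (h₁ : (gram (special P t₁)).det ≠ 0) (h₂ : (gram (special P t₂)).det ≠ 0) :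
    Module.finrank ℂ (center (special P t₁)) = Module.finrank ℂ (center (special P t₂)) := by
  set Δ := (gram P).det
  set Q := (casimir P e (gram P).adjugate).trace
  have hgram : ∀ t, gram (special P t) = (evalRingHom t).mapMatrix (gram P) := by
    intro t
    ext i j
    simp [gram, special, Matrix.trace, Matrix.mul_apply, eval_finsetSum]
  have hdetE : ∀ t, (gram (special P t)).det = Δ.eval t := by
    intro t
    rw [hgram, ← RingHom.map_det]
    rfl
  have hkey : ∀ t, Δ.eval t ≠ 0 →
      Q.eval t = Δ.eval t * (Module.finrank ℂ (center (special P t)) : ℂ) := by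
    intro t ht
    have hu : IsUnit (gram (special P t)).det := isUnit_iff_ne_zero.2 (by rwa [hdetE])
    have hdiag : ∀ i j x, ((P i * P x * P j) x e).eval t =
        (special P t i * special P t x * special P t j) x e := by
      intro i j x
      have h1 := congrArg (fun A : Matrix ι ι ℂ => A x e)
        (show (evalRingHom t).mapMatrix (P i * P x * P j) =
          special P t i * special P t x * special P t j by
            simp only [map_mul, RingHom.mapMatrix_apply]; rfl)
      simpa using h1
    have hadj : ∀ i j, ((gram P).adjugate i j).eval t = (gram (special P t)).adjugate i j := by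
      intro i j
      rw [hgram, ← RingHom.map_adjugate]
      rfl
    rw [finrank_center hu (special_struct h t), Matrix.inv_def, Ring.inverse_eq_inv']
    simp only [Q, casimir, Matrix.trace, Matrix.diag, Matrix.of_apply, eval_finsetSum, eval_mul,
      hdiag, hadj, Matrix.smul_apply, smul_eq_mul, Finset.mul_sum, hdetE]
    refine Finset.sum_congr rfl fun x _ => Finset.sum_congr rfl fun i _ =>
      Finset.sum_congr rfl fun j _ => ?_
    field_simp
  have hΔ : Δ ≠ 0 := fun h0 => h₁ (by rw [hdetE, h0, eval_zero])
  have hprod : ∏ k ∈ Finset.range (Fintype.card ι + 1), (Q - (k : ℂ[X]) * Δ) = 0 := by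
    refine Polynomial.eq_zero_of_infinite_isRoot _ (Set.Infinite.mono (fun t ht => ?_)
      (Set.Infinite.sdiff Set.infinite_univ (Polynomial.finite_setOf_isRoot hΔ)))
    obtain ⟨-, ht⟩ := ht
    simp only [Set.mem_ofPred_eq, IsRoot.def] at ht ⊢
    rw [eval_prod]
    refine Finset.prod_eq_zero (i := Module.finrank ℂ (center (special P t))) ?_ ?_
    · rw [Finset.mem_range]
      have := Submodule.finrank_le (center (special P t))
      rw [Module.finrank_pi] at this
      omega
    · rw [eval_sub, eval_mul, eval_natCast, hkey t ht]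
      ring
  obtain ⟨k, -, hk⟩ := Finset.prod_eq_zero_iff.1 hprod
  have hval : ∀ t, Δ.eval t ≠ 0 → Module.finrank ℂ (center (special P t)) = k := by
    intro t ht
    have h3 := congrArg (Polynomial.eval t) hk
    rw [eval_sub, eval_mul, eval_natCast, eval_zero, hkey t ht, mul_comm (k : ℂ), ← mul_sub,
      mul_eq_zero] at h3
    exact_mod_cast sub_eq_zero.1 (h3.resolve_left ht)
  rw [hval t₁ (hdetE t₁ ▸ h₁), hval t₂ (hdetE t₂ ▸ h₂)]

end CfsgLib.KnownB.TraceForm
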