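import Mathlib
import Cfsg.Agent.Lib.KnownB.ChevCells
import Cfsg.Agent.Lib.KnownB.TraceFormCenter
import Cfsg.Agent.Lib.KnownB.PermCommutant

/-!
The Hecke algebra of a Chevalley group with respect to its Borel subgroup, and the number of
irreducible constituents of the permutation character on the cosets of `B`.
-/

set_option autoImplicit false
set_option linter.unusedSectionVars false

namespace CfsgLib.Chev

open Cfsg.Lie Matrix Polynomial CfsgLib.KnownB
open scoped ComplexConjugate

variable {D : ChevalleyDatum} {F : Type*} [Field F]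

namespace Good

variable (g : Good D)
include g

open Classical in
/-- Incidence matrix of a Bruhat cell on `G/B`. -/
noncomputable def hmat (F : Type*) [Field F] (w : ↥g.weyl) :
    Matrix (↥(D.group F) ⧸ borelIn D F) (↥(D.group F) ⧸ borelIn D F) ℂ :=
  Matrix.of fun c d => if c.out⁻¹ * d.out ∈ g.cellW F w.1 then 1 else 0

lemma rel_iff {w : Equiv.Perm (Fin D.nroots)} (a b : ↥(D.group F)) :
    ((a : ↥(D.group F) ⧸ borelIn D F).out)⁻¹ * (b : ↥(D.group F) ⧸ borelIn D F).out ∈
      g.cellW F w ↔ a⁻¹ * b ∈ g.cellW F w := by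
  have ha := QuotientGroup.eq.1 (QuotientGroup.out_eq' (a : ↥(D.group F) ⧸ borelIn D F))
  have hb := QuotientGroup.eq.1 (QuotientGroup.out_eq' (b : ↥(D.group F) ⧸ borelIn D F))
  constructor
  · intro h
    have := g.mul_mem_cellW (inv_mem ha) hb h
    simpa [mul_assoc] using this
  · intro h
    have := g.mul_mem_cellW ha (inv_mem hb) h
    simpa [mul_assoc] using this

open Classical in
lemma hmat_mk (w : ↥g.weyl) (a b : ↥(D.group F)) :
    g.hmat F w (a : ↥(D.group F) ⧸ borelIn D F) (b : ↥(D.group F) ⧸ borelIn D F) =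
      if a⁻¹ * b ∈ g.cellW F w.1 then 1 else 0 := by
  simp only [hmat, Matrix.of_apply, g.rel_iff]

open Classical in
lemma hmat_at (hc : HasComm D) (w z : ↥g.weyl) :
    g.hmat F w ((1 : ↥(D.group F)) : ↥(D.group F) ⧸ borelIn D F)
      (g.nW F z.1 : ↥(D.group F) ⧸ borelIn D F) = if w = z then 1 else 0 := by
  rw [g.hmat_mk, inv_one, one_mul]
  exact if_congr ⟨fun h => Subtype.ext (g.cellW_unique hc w.2 z.2 h (g.nW_mem_cellW (F := F) z.1)),
    fun h => h ▸ g.nW_mem_cellW (F := F) z.1⟩ rfl rfl

lemma hmat_inv (w : ↥g.weyl) : PermComm.Inv ↥(D.group F) (g.hmat F w) := by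
  intro x c d
  induction c using QuotientGroup.induction_on with
  | _ a =>
    induction d using QuotientGroup.induction_on with
    | _ b =>
      simp only [MulAction.Quotient.smul_coe, smul_eq_mul, g.hmat_mk]
      rw [show (x * a)⁻¹ * (x * b) = a⁻¹ * b by group]

lemma hmat_transpose (w : ↥g.weyl) : (g.hmat F w)ᵀ = g.hmat F w⁻¹ := by
  classical
  ext c d
  induction c using QuotientGroup.induction_on with
  | _ a =>
    induction d using QuotientGroup.induction_on with
    | _ b =>
      rw [Matrix.transpose_apply, g.hmat_mk, g.hmat_mk]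
      refine if_congr ⟨fun h => ?_, fun h => ?_⟩ rfl rfl
      · have := g.inv_mem_cellW w.2 h
        simpa [mul_assoc] using this
      · have := g.inv_mem_cellW w⁻¹.2 h
        simpa [mul_assoc] using this

variable [Fintype F] [DecidableEq (↥(D.group F) ⧸ borelIn D F)]
  [Fintype (↥(D.group F) ⧸ borelIn D F)] [Fintype ↥g.weyl]

omit [DecidableEq (↥(D.group F) ⧸ borelIn D F)] in
/-- An invariant matrix is a combination of cells. -/
lemma inv_expand (hc : HasComm D)
    {M : Matrix (↥(D.group F) ⧸ borelIn D F) (↥(D.group F) ⧸ borelIn D F) ℂ}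
    (hM : PermComm.Inv ↥(D.group F) M) :
    M = ∑ w : ↥g.weyl, M ((1 : ↥(D.group F)) : ↥(D.group F) ⧸ borelIn D F)
      (g.nW F w.1 : ↥(D.group F) ⧸ borelIn D F) • g.hmat F w := by
  classical
  ext c d
  induction c using QuotientGroup.induction_on with
  | _ a =>
    induction d using QuotientGroup.induction_on with
    | _ b =>
      obtain ⟨w, hw, p, hp, r, hr, he⟩ := g.exists_cellW hc (a⁻¹ * b)
      rw [Matrix.sum_apply, Finset.sum_eq_single (⟨w, hw⟩ : ↥g.weyl)]
      · rw [Matrix.smul_apply, g.hmat_mk, if_pos ⟨p, hp, r, hr, he⟩, smul_eq_mul, mul_one,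
          ← hM (a * p) ((1 : ↥(D.group F)) : ↥(D.group F) ⧸ borelIn D F)]
        simp only [MulAction.Quotient.smul_coe, smul_eq_mul, mul_one]
        congr 1
        · rw [QuotientGroup.eq]
          simpa using hp
        · rw [QuotientGroup.eq]
          have hb : b = a * (p * g.nW F w * r) := by rw [← he]; group
          rw [hb]
          have : (a * (p * g.nW F w * r))⁻¹ * (a * p * g.nW F w) = r⁻¹ := by group
          rw [this]
          exact inv_mem hr
      · intro z _ hne
        rw [Matrix.smul_apply, g.hmat_mk, if_neg, smul_zero]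
        exact fun h => hne (Subtype.ext (g.cellW_unique hc z.2 hw h ⟨p, hp, r, hr, he⟩))
      · simp

/-- The algebra element of a coefficient vector. -/
noncomputable def hsum (F : Type*) [Field F] (v : ↥g.weyl → ℂ) :
    Matrix (↥(D.group F) ⧸ borelIn D F) (↥(D.group F) ⧸ borelIn D F) ℂ :=
  ∑ z, v z • g.hmat F z

omit [Fintype F] [DecidableEq (↥(D.group F) ⧸ borelIn D F)]
  [Fintype (↥(D.group F) ⧸ borelIn D F)] in
lemma hsum_at (hc : HasComm D) (v : ↥g.weyl → ℂ) (z : ↥g.weyl) :
    g.hsum F v ((1 : ↥(D.group F)) : ↥(D.group F) ⧸ borelIn D F)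
      (g.nW F z.1 : ↥(D.group F) ⧸ borelIn D F) = v z := by
  classical
  simp [hsum, Matrix.sum_apply, g.hmat_at hc]

omit [Fintype F] [DecidableEq (↥(D.group F) ⧸ borelIn D F)]
  [Fintype (↥(D.group F) ⧸ borelIn D F)] in
lemma hsum_inj (hc : HasComm D) {u v : ↥g.weyl → ℂ} (h : g.hsum F u = g.hsum F v) : u = v :=
  funext fun z => by rw [← g.hsum_at (F := F) hc u z, h, g.hsum_at hc]

omit [DecidableEq (↥(D.group F) ⧸ borelIn D F)] [Fintype ↥g.weyl] in
lemma hmat_row (hc : HasComm D) (w : ↥g.weyl) (c : ↥(D.group F) ⧸ borelIn D F) :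
    ∑ d, g.hmat F w c d = (Fintype.card F : ℂ) ^ ninv D w.1 := by
  classical
  induction c using QuotientGroup.induction_on with
  | _ a =>
    rw [← Equiv.sum_comp (MulAction.toPerm a)]
    have e : ∀ d : ↥(D.group F) ⧸ borelIn D F,
        g.hmat F w (a : ↥(D.group F) ⧸ borelIn D F) (MulAction.toPerm a d) =
        if d ∈ g.cellQ F w.1 then 1 else 0 := by
      intro d
      induction d using QuotientGroup.induction_on with
      | _ b =>
        simp only [MulAction.toPerm_apply, MulAction.Quotient.smul_coe, smul_eq_mul, g.hmat_mk,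
          inv_mul_cancel_left, g.mk_mem_cellQ]
    simp only [e, Finset.sum_boole]
    rw [← Nat.cast_pow, ← g.card_cellQ (F := F) hc w.2, Nat.card_eq_fintype_card,
      Fintype.card_subtype]

omit [Fintype ↥g.weyl] in
lemma hmat_one (hc : HasComm D) : g.hmat F 1 = 1 := by
  classical
  ext c d
  induction c using QuotientGroup.induction_on with
  | _ a =>
    induction d using QuotientGroup.induction_on with
    | _ b =>
      rw [g.hmat_mk, Matrix.one_apply]
      refine if_congr ⟨fun h => QuotientGroup.eq.2 ?_, fun h => ?_⟩ rfl rfl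
      · exact (g.mem_borelIn_iff hc (one_mem _) h).2 rfl
      · obtain ⟨w, hw, hwc⟩ := g.exists_cellW hc (a⁻¹ * b)
        have h1 := (g.mem_borelIn_iff hc hw hwc).1 (QuotientGroup.eq.1 h)
        subst h1
        exact hwc

omit [DecidableEq (↥(D.group F) ⧸ borelIn D F)] [Fintype ↥g.weyl] [Fintype F] in
lemma hmat_mul_support {x y z : ↥g.weyl}
    (h : (g.hmat F x * g.hmat F y) ((1 : ↥(D.group F)) : ↥(D.group F) ⧸ borelIn D F)
      (g.nW F z.1 : ↥(D.group F) ⧸ borelIn D F) ≠ 0) :
    ∃ a ∈ g.cellW F x.1, ∃ b ∈ g.cellW F y.1, a * b = g.nW F z.1 := by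
  classical
  rw [Matrix.mul_apply] at h
  obtain ⟨c, -, hne⟩ := Finset.exists_ne_zero_of_sum_ne_zero h
  induction c using QuotientGroup.induction_on with
  | _ a =>
    simp only [g.hmat_mk, inv_one, one_mul, ne_eq, mul_eq_zero, ite_eq_right_iff,
      one_ne_zero, imp_false, not_or, not_not] at hne
    exact ⟨a, hne.1, _, hne.2, mul_inv_cancel_left a _⟩

omit [Fintype ↥g.weyl] in
lemma row_sum_mul (hc : HasComm D) (x y : ↥g.weyl) (c : ↥(D.group F) ⧸ borelIn D F) :
    ∑ d, (g.hmat F x * g.hmat F y) c d = (Fintype.card F : ℂ) ^ (ninv D x.1 + ninv D y.1) := by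
  simp only [Matrix.mul_apply]
  rw [Finset.sum_comm]
  simp only [← Finset.mul_sum, g.hmat_row hc, ← Finset.sum_mul]
  rw [pow_add]

/-- Cells multiply in the Hecke algebra when lengths add. -/
lemma hmat_mul (hc : HasComm D) {x y : ↥g.weyl}
    (hl : ninv D (x.1 * y.1) = ninv D x.1 + ninv D y.1) :
    g.hmat F x * g.hmat F y = g.hmat F (x * y) := by
  classical
  set M := g.hmat F x * g.hmat F y
  set o := ((1 : ↥(D.group F)) : ↥(D.group F) ⧸ borelIn D F)
  have hM : M = M o (g.nW F (x * y).1 : ↥(D.group F) ⧸ borelIn D F) • g.hmat F (x * y) := by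
    conv_lhs => rw [g.inv_expand hc (M := M) (PermComm.inv_mul (g.hmat_inv x) (g.hmat_inv y))]
    refine Finset.sum_eq_single (x * y) (fun z _ hne => ?_) (by simp)
    by_contra h0
    obtain ⟨a, ha, b, hb, he⟩ := g.hmat_mul_support (x := x) (y := y) (z := z) fun h => h0 (by
      show M o _ • _ = 0
      rw [show M o (g.nW F z.1 : ↥(D.group F) ⧸ borelIn D F) = 0 from h, zero_smul])
    refine hne (Subtype.ext (g.cellW_unique hc z.2 (x * y).2 (g.nW_mem_cellW (F := F) z.1) ?_))
    rw [← he]
    exact g.cellW_mul hc x.2 y.2 hl ha hb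
  have hrow : ∑ d, M o d = _ := g.row_sum_mul hc x y o
  have h2 : ∑ d, M o d =
      M o (g.nW F (x * y).1 : ↥(D.group F) ⧸ borelIn D F) *
        (Fintype.card F : ℂ) ^ ninv D (x * y).1 := by
    conv_lhs => rw [hM]
    simp only [Matrix.smul_apply, smul_eq_mul, ← Finset.mul_sum, g.hmat_row hc]
  rw [h2, Subgroup.coe_mul, hl] at hrow
  have hq : (Fintype.card F : ℂ) ^ (ninv D x.1 + ninv D y.1) ≠ 0 :=
    pow_ne_zero _ (Nat.cast_ne_zero.2 Fintype.card_ne_zero)
  conv_lhs => rw [hM]
  rw [Subgroup.coe_mul, mul_eq_right₀ hq |>.1 hrow, one_smul]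

omit [Fintype F] [DecidableEq (↥(D.group F) ⧸ borelIn D F)]
  [Fintype (↥(D.group F) ⧸ borelIn D F)] [Fintype ↥g.weyl] in
lemma ninv_rperm (i : Fin D.rank) : ninv D (g.rperm i) = 1 := by
  have h := (g.ninv_rperm_mul i 1 (fun a => by simp)).2 (by show half D ≤ ((1 : Equiv.Perm (Fin D.nroots))⁻¹ (g.sroot i)).val; rw [inv_one]; exact g.sroot_pos i)
  rwa [mul_one, g.ninv_one] at h

/-- The quadratic relation. -/
lemma hmat_sq (hc : HasComm D) (i : Fin D.rank) :
    g.hmat F (g.wS i) * g.hmat F (g.wS i) =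
      (Fintype.card F : ℂ) • (1 : Matrix (↥(D.group F) ⧸ borelIn D F) _ ℂ) +
        ((Fintype.card F : ℂ) - 1) • g.hmat F (g.wS i) := by
  classical
  set s := g.wS i
  have hs1 : s.1 = g.rperm i := rfl
  have hne : (1 : ↥g.weyl) ≠ s := fun h => by
    have h1 := g.ninv_rperm i
    rw [← hs1, ← h, Subgroup.coe_one, g.ninv_one] at h1
    omega
  set M := g.hmat F s * g.hmat F s
  set o := ((1 : ↥(D.group F)) : ↥(D.group F) ⧸ borelIn D F)
  set m := fun z : ↥g.weyl => M o (g.nW F z.1 : ↥(D.group F) ⧸ borelIn D F)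
  have hM : M = m 1 • g.hmat F 1 + m s • g.hmat F s := by
    conv_lhs => rw [g.inv_expand hc (M := M) (PermComm.inv_mul (g.hmat_inv s) (g.hmat_inv s))]
    rw [← Finset.sum_subset (Finset.subset_univ {1, s}), Finset.sum_pair hne]
    intro z _ hz
    simp only [Finset.mem_insert, Finset.mem_singleton, not_or] at hz
    by_contra h0
    obtain ⟨a, ha, b, hb, he⟩ := g.hmat_mul_support (x := s) (y := s) (z := z) fun h => h0 (by
      show m z • _ = 0
      rw [show m z = 0 from h, zero_smul])
    have hsJ : s.1 ∈ g.wJ (({(i : ℕ)} : Finset ℕ) : Set ℕ) :=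
      Subgroup.subset_closure ⟨i, by simp, rfl⟩
    have haP := (g.mem_parabolicIn_iff hc s.2 ha).2 hsJ
    have hbP := (g.mem_parabolicIn_iff hc s.2 hb).2 hsJ
    have hzJ := (g.mem_parabolicIn_iff hc z.2 (g.nW_mem_cellW z.1)).1 (he ▸ mul_mem haP hbP)
    obtain ⟨l, hl, hle⟩ := g.exists_wperm_J hzJ
    have h01 : ∀ l : List (Fin D.rank), (∀ j ∈ l, (j : ℕ) ∈ (({(i : ℕ)} : Finset ℕ) : Set ℕ)) →
        g.wperm l = 1 ∨ g.wperm l = g.rperm i := by
      intro l
      induction l with
      | nil => exact fun _ => Or.inl rfl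
      | cons j l ih =>
        intro h
        have hj : j = i := Fin.ext (by simpa using h j (by simp))
        rw [g.wperm_cons, hj]
        rcases ih fun k hk => h k (List.mem_cons_of_mem _ hk) with e | e <;> rw [e]
        · right; rw [mul_one]
        · left; rw [g.rperm_mul_self]
    rcases h01 l hl with e | e
    · exact hz.1 (Subtype.ext (hle.symm.trans e))
    · exact hz.2 (Subtype.ext (hle.symm.trans e))
  have hsinv : s⁻¹ = s := Subtype.ext (g.rperm_inv i)
  have hoo : (g.nW F (1 : ↥g.weyl).1 : ↥(D.group F) ⧸ borelIn D F) = o :=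
    (QuotientGroup.eq.2 (by simpa using inv_mem (g.nW_one (F := F))))
  have hm1 : m 1 = (Fintype.card F : ℂ) := by
    simp only [m, hoo, M, Matrix.mul_apply]
    have hT : ∀ e, g.hmat F s e o = g.hmat F s o e := fun e => by
      conv_rhs => rw [← hsinv, ← g.hmat_transpose]
      rfl
    simp only [hT]
    rw [show (Fintype.card F : ℂ) = ∑ e, g.hmat F s o e by
      rw [g.hmat_row hc, hs1, g.ninv_rperm, pow_one]]
    refine Finset.sum_congr rfl fun e _ => ?_
    simp only [hmat, Matrix.of_apply]
    split <;> simp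
  have hrow : ∑ d, M o d = _ := g.row_sum_mul hc s s o
  rw [hM] at hrow
  simp only [Matrix.add_apply, Matrix.smul_apply, smul_eq_mul, Finset.sum_add_distrib,
    ← Finset.mul_sum, g.hmat_row hc, Subgroup.coe_one, g.ninv_one, pow_zero, hs1, g.ninv_rperm,
    pow_one, hm1] at hrow
  have hms : m s = (Fintype.card F : ℂ) - 1 := by
    have hq : (Fintype.card F : ℂ) ≠ 0 := Nat.cast_ne_zero.2 Fintype.card_ne_zero
    refine mul_right_cancel₀ hq ?_
    linear_combination hrow
  rw [hM, g.hmat_one hc, hm1, hms]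

omit [Fintype F] [DecidableEq (↥(D.group F) ⧸ borelIn D F)]
  [Fintype (↥(D.group F) ⧸ borelIn D F)] [Fintype ↥g.weyl] in
/-- The length goes up or down. -/
lemma ninv_rperm_cases (i : Fin D.rank) {y : Equiv.Perm (Fin D.nroots)} (hy : y ∈ g.weyl) :
    ninv D (g.rperm i * y) = ninv D y + 1 ∨ ninv D y = ninv D (g.rperm i * y) + 1 := by
  by_cases h : half D ≤ (y⁻¹ (g.sroot i)).val
  · exact Or.inl ((g.ninv_rperm_mul i y (g.weyl_nroot hy)).2 h)
  · right
    have hz : g.rperm i * y ∈ g.weyl := mul_mem (Subgroup.subset_closure ⟨i, rfl⟩) hy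
    have h2 := (g.ninv_rperm_mul i _ (g.weyl_nroot hz)).2 (by
      show half D ≤ ((g.rperm i * y)⁻¹ (g.sroot i)).val
      rw [_root_.mul_inv_rev, g.rperm_inv, Equiv.Perm.mul_apply, g.rperm_sroot,
        g.weyl_nroot (inv_mem hy), g.nroot_pos_iff]
      exact Nat.not_le.1 h)
    rwa [← mul_assoc, g.rperm_mul_self, one_mul] at h2

open Classical in
/-- Left multiplication by a generator, generic parameter. -/
noncomputable def hgen (i : Fin D.rank) : Matrix ↥g.weyl ↥g.weyl ℂ[X] :=
  Matrix.of fun z y =>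
    if ninv D (g.rperm i * y.1) = ninv D y.1 + 1 then (if z = g.wS i * y then 1 else 0)
    else Polynomial.X * (if z = g.wS i * y then 1 else 0) +
      (Polynomial.X - 1) * (if z = y then 1 else 0)

/-- A reduced word. -/
noncomputable def redWord (w : ↥g.weyl) : List (Fin D.rank) := (g.exists_red w.2).choose

omit [Fintype F] [DecidableEq (↥(D.group F) ⧸ borelIn D F)]
  [Fintype (↥(D.group F) ⧸ borelIn D F)] [Fintype ↥g.weyl] in
lemma redWord_spec (w : ↥g.weyl) :
    g.wperm (g.redWord w) = w.1 ∧ (g.redWord w).length = ninv D w.1 :=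
  (g.exists_red w.2).choose_spec

/-- Left multiplication on the generic algebra. -/
noncomputable def hpoly [DecidableEq ↥g.weyl] (x : ↥g.weyl) : Matrix ↥g.weyl ↥g.weyl ℂ[X] :=
  ((g.redWord x).map g.hgen).prod

variable [DecidableEq ↥g.weyl]

lemma hmat_gen_mul (hc : HasComm D) (i : Fin D.rank) (y : ↥g.weyl) :
    g.hmat F (g.wS i) * g.hmat F y =
      g.hsum F fun z => (g.hgen i z y).eval (Fintype.card F : ℂ) := by
  classical
  have hv : (g.wS i).1 = g.rperm i := rfl
  rcases g.ninv_rperm_cases i y.2 with h | h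
  · rw [g.hmat_mul hc (by rw [hv, h, g.ninv_rperm]; omega)]
    simp only [hsum, hgen, Matrix.of_apply, if_pos h]
    simp [apply_ite (Polynomial.eval _), ite_smul]
  · have hs : g.wS i * g.wS i = 1 := Subtype.ext (g.rperm_mul_self i)
    set y' := g.wS i * y with hy'
    have hyy : g.wS i * y' = y := by rw [hy', ← mul_assoc, hs, one_mul]
    have hl : ninv D ((g.wS i).1 * y'.1) = ninv D (g.wS i).1 + ninv D y'.1 := by
      rw [hy', Subgroup.coe_mul, hv, ← mul_assoc, g.rperm_mul_self, one_mul, g.ninv_rperm, h]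
      omega
    have h1 := g.hmat_mul (F := F) hc hl
    rw [hyy] at h1
    have hne : ¬ ninv D (g.rperm i * y.1) = ninv D y.1 + 1 := by omega
    rw [← h1, ← mul_assoc, g.hmat_sq hc, add_mul, smul_mul_assoc, one_mul, smul_mul_assoc, h1]
    have e : (fun z => (g.hgen i z y).eval (Fintype.card F : ℂ)) = fun z =>
        (Fintype.card F : ℂ) * (if z = y' then 1 else 0) +
          ((Fintype.card F : ℂ) - 1) * (if z = y then 1 else 0) := by
      funext z
      simp only [hgen, Matrix.of_apply, if_neg hne, ← hy', eval_add, eval_mul, eval_sub, eval_X,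
        eval_one, apply_ite (Polynomial.eval (Fintype.card F : ℂ)), eval_zero]
    rw [e]
    simp only [hsum, add_smul, mul_smul, Finset.sum_add_distrib, ← Finset.smul_sum, ite_smul,
      one_smul, zero_smul, Finset.sum_ite_eq', Finset.mem_univ, if_true]

lemma hsum_mulVec (hc : HasComm D) (i : Fin D.rank) (v : ↥g.weyl → ℂ) :
    g.hmat F (g.wS i) * g.hsum F v =
      g.hsum F ((g.hgen i).map (evalRingHom (Fintype.card F : ℂ)) *ᵥ v) := by
  simp only [hsum, Finset.mul_sum, mul_smul_comm, g.hmat_gen_mul hc, Finset.smul_sum, smul_smul,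
    Matrix.mulVec, dotProduct, Finset.sum_smul, Matrix.map_apply, coe_evalRingHom]
  rw [Finset.sum_comm]
  exact Finset.sum_congr rfl fun z _ => Finset.sum_congr rfl fun y _ => by rw [mul_comm]

/-- The structure constants of the group. -/
lemma hmat_mul_hsum (hc : HasComm D) (x : ↥g.weyl) (v : ↥g.weyl → ℂ) :
    g.hmat F x * g.hsum F v =
      g.hsum F (TraceForm.special g.hpoly (Fintype.card F : ℂ) x *ᵥ v) := by
  obtain ⟨h1, h2⟩ := g.redWord_spec x
  have key : ∀ l : List (Fin D.rank), ninv D (g.wperm l) = l.length →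
      g.hmat F ⟨g.wperm l, g.wperm_mem l⟩ * g.hsum F v =
        g.hsum F (((l.map g.hgen).prod).map (evalRingHom (Fintype.card F : ℂ)) *ᵥ v) := by
    intro l
    induction l with
    | nil =>
      intro _
      rw [show (⟨g.wperm [], g.wperm_mem []⟩ : ↥g.weyl) = 1 from Subtype.ext rfl, g.hmat_one hc]
      simp
    | cons i l ih =>
      intro hl
      have hle := g.ninv_le_length l
      rw [g.wperm_cons, List.length_cons] at hl
      have hl' : ninv D (g.wperm l) = l.length := by
        rcases g.ninv_rperm_cases i (g.wperm_mem l) with e | e <;> omega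
      have hx : (⟨g.wperm (i :: l), g.wperm_mem _⟩ : ↥g.weyl) =
          g.wS i * ⟨g.wperm l, g.wperm_mem l⟩ := Subtype.ext (g.wperm_cons i l)
      have hadd : ninv D ((g.wS i).1 * g.wperm l) = ninv D (g.wS i).1 + ninv D (g.wperm l) := by
        rw [show (g.wS i).1 = g.rperm i from rfl, hl, hl', g.ninv_rperm]; omega
      rw [hx, ← g.hmat_mul hc (x := g.wS i) (y := ⟨g.wperm l, g.wperm_mem l⟩) hadd,
        mul_assoc, ih hl', g.hsum_mulVec hc, Matrix.mulVec_mulVec]
      congr 2
      rw [List.map_cons, List.prod_cons, Matrix.map_mul]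
  have := key (g.redWord x) (by rw [h1, h2])
  rw [show (⟨g.wperm (g.redWord x), g.wperm_mem _⟩ : ↥g.weyl) = x from Subtype.ext h1] at this
  exact this

lemma hsum_single (y : ↥g.weyl) : g.hsum F (Pi.single y (1 : ℂ)) = g.hmat F y := by
  rw [hsum, Finset.sum_eq_single y]
  · simp
  · intro z _ hz
    simp [hz]
  · simp

/-- The structure constants at `q`. -/
lemma hpoly_struct_at (hc : HasComm D) :
    TraceForm.IsStruct (TraceForm.special g.hpoly (Fintype.card F : ℂ)) (1 : ↥g.weyl) := by
  classical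
  set M := TraceForm.special g.hpoly (Fintype.card F : ℂ)
  have hxy : ∀ x y, g.hmat F x * g.hmat F y = g.hsum F fun z => M x z y := by
    intro x y
    rw [← g.hsum_single y, g.hmat_mul_hsum hc]
    congr 1
    simp only [Matrix.mulVec_single, MulOpposite.op_one, one_smul]
    rfl
  refine ⟨fun x y => ?_, ?_, fun x z => ?_⟩
  · refine Matrix.ext_of_mulVec_single fun w => g.hsum_inj (F := F) hc ?_
    rw [← Matrix.mulVec_mulVec, ← g.hmat_mul_hsum hc, ← g.hmat_mul_hsum hc, ← mul_assoc, hxy x y,
      Matrix.sum_mulVec]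
    simp only [hsum, Finset.sum_mul, smul_mul_assoc]
    have e : ∀ z, g.hmat F z * ∑ u, (Pi.single w (1 : ℂ) : ↥g.weyl → ℂ) u • g.hmat F u =
        ∑ u, (M z *ᵥ Pi.single w 1) u • g.hmat F u := fun z => g.hmat_mul_hsum hc z _
    simp only [e, Matrix.smul_mulVec, Finset.sum_apply, Pi.smul_apply, smul_eq_mul,
      Finset.sum_smul, Finset.smul_sum, smul_smul]
    exact Finset.sum_comm
  · refine Matrix.ext_of_mulVec_single fun w => g.hsum_inj (F := F) hc ?_
    rw [← g.hmat_mul_hsum hc, g.hmat_one hc, one_mul, Matrix.one_mulVec]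
  · have h := hxy x 1
    rw [g.hmat_one hc, mul_one, ← g.hsum_single x] at h
    have := congrFun (g.hsum_inj hc h) z
    rw [← this, Pi.single_apply]

/-- The centre of the structure algebra at `q` is the centre of the commutant. -/
lemma center_equiv (hc : HasComm D) [Fintype ↥(D.group F)] :
    Module.finrank ℂ (TraceForm.center (TraceForm.special g.hpoly (Fintype.card F : ℂ))) =
      Module.finrank ℂ
        (PermComm.commCenter ↥(D.group F) (↥(D.group F) ⧸ borelIn D F)) := by
  classical
  set M := TraceForm.special g.hpoly (Fintype.card F : ℂ)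
  have hhom : ∀ v u, g.hsum F v * g.hsum F u = g.hsum F (TraceForm.act M v *ᵥ u) := by
    intro v u
    conv_lhs => rw [show g.hsum F v = ∑ x, v x • g.hmat F x from rfl]
    simp only [Finset.sum_mul, smul_mul_assoc, g.hmat_mul_hsum hc]
    simp only [TraceForm.act, M, Matrix.sum_mulVec, Matrix.smul_mulVec, hsum, Finset.sum_apply,
      Pi.smul_apply, smul_eq_mul, Finset.sum_smul, Finset.smul_sum, smul_smul]
    exact Finset.sum_comm
  have hcen : ∀ v, v ∈ TraceForm.center M ↔
      g.hsum F v ∈ PermComm.commCenter ↥(D.group F) (↥(D.group F) ⧸ borelIn D F) := by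
    intro v
    have hinv : PermComm.Inv ↥(D.group F) (g.hsum F v) := by
      intro x a b
      simp only [hsum, Matrix.sum_apply, Matrix.smul_apply, g.hmat_inv _ x a b]
    constructor
    · intro hv
      refine ⟨hinv, fun N hN => ?_⟩
      rw [g.inv_expand hc hN]
      simp only [Finset.mul_sum, Finset.sum_mul, mul_smul_comm, smul_mul_assoc]
      refine Finset.sum_congr rfl fun y _ => ?_
      congr 1
      rw [← g.hsum_single y, hhom, g.hsum_single, g.hmat_mul_hsum hc]
      congr 1
      have h := congrArg (fun A => A *ᵥ Pi.single (1 : ↥g.weyl) (1 : ℂ))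
        (TraceForm.mem_center.1 hv y)
      simp only [← Matrix.mulVec_mulVec] at h
      have hstr := g.hpoly_struct_at (F := F) hc
      have e1 : ∀ A : ↥g.weyl → ℂ, TraceForm.act M A *ᵥ Pi.single (1 : ↥g.weyl) 1 = A := by
        intro A
        funext z
        rw [Matrix.mulVec_single]
        simpa using TraceForm.act_col hstr A z
      rw [e1, ← TraceForm.act_single (M := M) y, e1] at h
      rw [h, TraceForm.act_single]
    · rintro ⟨-, hv⟩
      rw [TraceForm.mem_center]
      intro y
      refine Matrix.ext_of_mulVec_single fun w => g.hsum_inj (F := F) hc ?_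
      rw [← Matrix.mulVec_mulVec, ← Matrix.mulVec_mulVec, ← hhom, ← g.hmat_mul_hsum hc,
        ← g.hmat_mul_hsum hc, ← hhom, ← mul_assoc, ← mul_assoc, hv _ (g.hmat_inv y)]
  let f : ↥(TraceForm.center M) →ₗ[ℂ]
      ↥(PermComm.commCenter ↥(D.group F) (↥(D.group F) ⧸ borelIn D F)) :=
    { toFun := fun v => ⟨g.hsum F v.1, (hcen v.1).1 v.2⟩
      map_add' := fun u v => Subtype.ext (by simp [hsum, add_smul, Finset.sum_add_distrib])
      map_smul' := fun k v => Subtype.ext (by simp [hsum, Finset.smul_sum, smul_smul]) }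
  refine (LinearEquiv.ofBijective f ⟨fun u v h => ?_, fun N => ?_⟩).finrank_eq
  · exact Subtype.ext (g.hsum_inj hc (Subtype.ext_iff.1 h))
  · have e : g.hsum F (fun z => N.1 ((1 : ↥(D.group F)) : ↥(D.group F) ⧸ borelIn D F)
        (g.nW F z.1 : ↥(D.group F) ⧸ borelIn D F)) = N.1 := (g.inv_expand hc N.2.1).symm
    exact ⟨⟨_, (hcen _).2 (by rw [e]; exact N.2)⟩, Subtype.ext e⟩

/-- The trace form at `q` is nondegenerate. -/
lemma gram_det_ne (hc : HasComm D) :
    (TraceForm.gram (TraceForm.special g.hpoly (Fintype.card F : ℂ))).det ≠ 0 := by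
  classical
  set M := TraceForm.special g.hpoly (Fintype.card F : ℂ)
  rw [← isUnit_iff_ne_zero, ← Matrix.isUnit_iff_isUnit_det, ← Matrix.mulVec_injective_iff_isUnit]
  intro u u' huu
  suffices key : ∀ v, TraceForm.gram M *ᵥ v = 0 → v = 0 by
    exact sub_eq_zero.1 (key (u - u') (by rw [Matrix.mulVec_sub]; exact sub_eq_zero.2 huu))
  intro v hv
  set w : ↥g.weyl → ℂ := fun z => conj (v z⁻¹)
  have hstar : (g.hsum F v)ᴴ = g.hsum F w := by
    ext a b
    simp only [hsum, Matrix.conjTranspose_apply, Matrix.sum_apply, Matrix.smul_apply, smul_eq_mul,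
      star_sum, star_mul', RCLike.star_def, w]
    refine Fintype.sum_equiv (Equiv.inv ↥g.weyl) _ _ fun z => ?_
    simp only [Equiv.inv_apply, inv_inv]
    congr 1
    rw [← g.hmat_transpose, Matrix.transpose_apply]
    simp [hmat, apply_ite]
  have h0 : (TraceForm.act M w * TraceForm.act M v).trace = 0 := by
    have h1 : (TraceForm.act M w * TraceForm.act M v).trace =
        ∑ i, w i * (TraceForm.gram M *ᵥ v) i := by
      simp only [TraceForm.act, Finset.sum_mul, Finset.mul_sum, smul_mul_assoc, mul_smul_comm,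
        Matrix.trace_sum, Matrix.trace_smul, smul_eq_mul, Matrix.mulVec, dotProduct,
        TraceForm.gram, Matrix.of_apply]
      rw [Finset.sum_comm]
      exact Finset.sum_congr rfl fun i _ => Finset.sum_congr rfl fun j _ => by ring
    rw [h1, hv]
    simp
  have hhom : ∀ v u, g.hsum F v * g.hsum F u = g.hsum F (TraceForm.act M v *ᵥ u) := by
    intro v u
    conv_lhs => rw [show g.hsum F v = ∑ x, v x • g.hmat F x from rfl]
    simp only [Finset.sum_mul, smul_mul_assoc, g.hmat_mul_hsum hc]
    simp only [TraceForm.act, M, Matrix.sum_mulVec, Matrix.smul_mulVec, hsum, Finset.sum_apply,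
      Pi.smul_apply, smul_eq_mul, Finset.sum_smul, Finset.smul_sum, smul_smul]
    exact Finset.sum_comm
  set P := g.hsum F v
  set n := (Fintype.card (↥(D.group F) ⧸ borelIn D F) : ℂ)
  have hpair : ∀ (x : ↥g.weyl) (t : ↥g.weyl → ℂ), ((g.hmat F x)ᵀ * g.hsum F t).trace =
      t x * (n * (Fintype.card F : ℂ) ^ ninv D x.1) := by
    intro x t
    simp only [hsum, Finset.mul_sum, mul_smul_comm, Matrix.trace_sum, Matrix.trace_smul,
      smul_eq_mul]
    rw [Finset.sum_eq_single x]
    · congr 1
      simp only [Matrix.trace, Matrix.diag, Matrix.mul_apply, Matrix.transpose_apply]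
      rw [Finset.sum_comm]
      have : ∀ c d, g.hmat F x c d * g.hmat F x c d = g.hmat F x c d := fun c d => by
        simp [hmat]
      simp only [this, g.hmat_row hc, Finset.sum_const, Finset.card_univ, nsmul_eq_mul, n]
    · intro z _ hne
      rw [Matrix.trace, Finset.sum_eq_zero, mul_zero]
      intro d _
      simp only [Matrix.diag, Matrix.mul_apply, Matrix.transpose_apply]
      refine Finset.sum_eq_zero fun c _ => ?_
      simp only [hmat, Matrix.of_apply]
      split_ifs with h1 h2
      · exact absurd (Subtype.ext (g.cellW_unique hc z.2 x.2 h2 h1)) hne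
      all_goals simp
    · simp
  have hterm : ∀ x : ↥g.weyl, (TraceForm.act M w * TraceForm.act M v) x x *
      (n * (Fintype.card F : ℂ) ^ ninv D x.1) =
      ((∑ a, ∑ b, Complex.normSq ((P * g.hmat F x) b a) : ℝ) : ℂ) := by
    intro x
    have e1 : (P * g.hmat F x)ᴴ * (P * g.hmat F x) =
        (g.hmat F x)ᵀ * g.hsum F (TraceForm.act M w *ᵥ (TraceForm.act M v *ᵥ Pi.single x 1)) := by
      rw [← hhom, ← hhom, g.hsum_single, Matrix.conjTranspose_mul, hstar, mul_assoc]
      congr 1
      ext a b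
      simp [hmat, apply_ite]
    have e2 := congrArg Matrix.trace e1
    rw [hpair, Matrix.mulVec_mulVec, Matrix.mulVec_single] at e2
    simp only [MulOpposite.op_one, one_smul, Matrix.col_apply] at e2
    rw [← e2]
    push_cast
    simp only [Matrix.trace, Matrix.diag, Matrix.mul_apply, Matrix.conjTranspose_apply,
      RCLike.star_def, ← Complex.normSq_eq_conj_mul_self]
  have hn : n ≠ 0 := Nat.cast_ne_zero.2 Fintype.card_ne_zero
  set r : ↥g.weyl → ℝ := fun x => (∑ a, ∑ b, Complex.normSq ((P * g.hmat F x) b a)) /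
    ((Fintype.card (↥(D.group F) ⧸ borelIn D F) : ℝ) * (Fintype.card F : ℝ) ^ ninv D x.1)
  have hr : ∀ x, (TraceForm.act M w * TraceForm.act M v) x x = (r x : ℂ) := by
    intro x
    simp only [r]
    push_cast
    rw [eq_div_iff (mul_ne_zero hn (pow_ne_zero _ (Nat.cast_ne_zero.2 Fintype.card_ne_zero)))]
    have := hterm x
    push_cast at this
    exact this
  have hsum0 : ∑ x, r x = 0 := by
    have h3 : ((∑ x, r x : ℝ) : ℂ) = 0 := by
      push_cast
      rw [← h0]
      simp only [Matrix.trace, Matrix.diag, hr]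
    exact_mod_cast h3
  have hnn : ∀ x, 0 ≤ r x := fun x => div_nonneg
    (Finset.sum_nonneg fun a _ => Finset.sum_nonneg fun b _ => Complex.normSq_nonneg _)
    (by positivity)
  have h1 := (Finset.sum_eq_zero_iff_of_nonneg fun x _ => hnn x).1 hsum0 1 (Finset.mem_univ _)
  simp only [r, g.hmat_one hc, mul_one, Subgroup.coe_one, g.ninv_one, pow_zero] at h1
  rw [div_eq_zero_iff] at h1
  have h2 := h1.resolve_right (Nat.cast_ne_zero.2 Fintype.card_ne_zero)
  refine g.hsum_inj (F := F) hc (show P = g.hsum F 0 from ?_)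
  rw [show g.hsum F (0 : ↥g.weyl → ℂ) = 0 by simp [hsum]]
  ext b a
  have h3 := (Finset.sum_eq_zero_iff_of_nonneg fun x _ => Finset.sum_nonneg fun y _ =>
    Complex.normSq_nonneg _).1 h2 a (Finset.mem_univ _)
  exact Complex.normSq_eq_zero.1 ((Finset.sum_eq_zero_iff_of_nonneg fun y _ =>
    Complex.normSq_nonneg _).1 h3 b (Finset.mem_univ _))

omit [Fintype F] [DecidableEq (↥(D.group F) ⧸ borelIn D F)]
  [Fintype (↥(D.group F) ⧸ borelIn D F)] in
/-- The generic algebra is associative: it is so at every prime. -/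
theorem hpoly_struct (hc : HasComm D) : TraceForm.IsStruct g.hpoly (1 : ↥g.weyl) := by
  classical
  have hev : ∀ (p : ℕ), p.Prime →
      TraceForm.IsStruct (TraceForm.special g.hpoly (p : ℂ)) (1 : ↥g.weyl) := by
    intro p hp
    have : Fact p.Prime := ⟨hp⟩
    have := Fintype.ofFinite (↥(D.group (ZMod p)) ⧸ borelIn D (ZMod p))
    have h := g.hpoly_struct_at (F := ZMod p) hc
    rwa [ZMod.card] at h
  have hpoly : ∀ P Q : ℂ[X], (∀ p : ℕ, p.Prime → P.eval (p : ℂ) = Q.eval (p : ℂ)) → P = Q := by
    intro P Q h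
    refine Polynomial.eq_of_infinite_eval_eq P Q (Set.Infinite.mono ?_
      (Nat.infinite_setOfPred_prime.image (f := fun p : ℕ => (p : ℂ)) Nat.cast_injective.injOn))
    rintro _ ⟨p, hp, rfl⟩
    exact h p hp
  refine ⟨fun x y => ?_, ?_, fun x z => ?_⟩
  · refine Matrix.ext fun a b => hpoly _ _ fun p hp => ?_
    have h := congrFun (congrFun ((hev p hp).mul x y) a) b
    simp only [TraceForm.special, Matrix.mul_apply, Matrix.sum_apply, Matrix.smul_apply,
      Matrix.map_apply, coe_evalRingHom, smul_eq_mul] at h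
    simpa [Matrix.mul_apply, Matrix.sum_apply, eval_finsetSum] using h
  · refine Matrix.ext fun a b => hpoly _ _ fun p hp => ?_
    have h := congrFun (congrFun (hev p hp).one a) b
    simp only [TraceForm.special, Matrix.map_apply, coe_evalRingHom] at h
    rw [h]
    simp [Matrix.one_apply, apply_ite (Polynomial.eval _)]
  · refine hpoly _ _ fun p hp => ?_
    have h := (hev p hp).col x z
    simp only [TraceForm.special, Matrix.map_apply, coe_evalRingHom] at h
    rw [h]
    simp [apply_ite (Polynomial.eval _)]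

omit [Fintype F] [DecidableEq (↥(D.group F) ⧸ borelIn D F)]
  [Fintype (↥(D.group F) ⧸ borelIn D F)] in
lemma special_one (x : ↥g.weyl) :
    TraceForm.special g.hpoly 1 x = Matrix.of fun z y => if z = x * y then 1 else 0 := by
  classical
  have key : ∀ l : List (Fin D.rank), ((l.map g.hgen).prod).map (evalRingHom (1 : ℂ)) =
      Matrix.of fun z y => if z = (⟨g.wperm l, g.wperm_mem l⟩ : ↥g.weyl) * y then 1 else 0 := by
    intro l
    induction l with
    | nil =>
      ext z y
      rw [show (⟨g.wperm [], g.wperm_mem []⟩ : ↥g.weyl) = 1 from Subtype.ext rfl]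
      simp [Matrix.one_apply, apply_ite (Polynomial.eval _)]
    | cons i l ih =>
      have e : (g.hgen i).map (evalRingHom (1 : ℂ)) =
          Matrix.of fun z y => if z = g.wS i * y then 1 else 0 := by
        ext z y
        simp only [hgen, Matrix.map_apply, Matrix.of_apply]
        split_ifs <;> simp
      rw [List.map_cons, List.prod_cons, Matrix.map_mul, ih, e]
      ext z y
      simp only [Matrix.mul_apply, Matrix.of_apply]
      rw [Finset.sum_eq_single ((⟨g.wperm l, g.wperm_mem l⟩ : ↥g.weyl) * y)]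
      · rw [if_pos rfl, mul_one, show (⟨g.wperm (i :: l), g.wperm_mem _⟩ : ↥g.weyl) =
          g.wS i * ⟨g.wperm l, g.wperm_mem l⟩ from Subtype.ext (g.wperm_cons i l), mul_assoc]
      · intro c _ hne
        rw [if_neg hne, mul_zero]
      · simp
  rw [show TraceForm.special g.hpoly 1 x =
    (((g.redWord x).map g.hgen).prod).map (evalRingHom (1 : ℂ)) from rfl, key,
    show (⟨g.wperm (g.redWord x), g.wperm_mem _⟩ : ↥g.weyl) = x from
      Subtype.ext (g.redWord_spec x).1]

omit [Fintype F] [DecidableEq (↥(D.group F) ⧸ borelIn D F)]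
  [Fintype (↥(D.group F) ⧸ borelIn D F)] in
lemma gram_one_det : (TraceForm.gram (TraceForm.special g.hpoly (1 : ℂ))).det ≠ 0 := by
  classical
  rw [← isUnit_iff_ne_zero, ← Matrix.isUnit_iff_isUnit_det, ← Matrix.mulVec_injective_iff_isUnit]
  have hG : ∀ i j, TraceForm.gram (TraceForm.special g.hpoly (1 : ℂ)) i j =
      if j = i⁻¹ then (Fintype.card ↥g.weyl : ℂ) else 0 := by
    intro i j
    simp only [TraceForm.gram, Matrix.of_apply, Matrix.trace, Matrix.diag, Matrix.mul_apply,
      g.special_one, mul_ite, mul_one, mul_zero, Finset.sum_ite_eq', Finset.mem_univ, if_true]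
    have : ∀ y : ↥g.weyl, (y = i * (j * y)) ↔ j = i⁻¹ := fun y => by
      rw [← mul_assoc, eq_comm, mul_eq_right, mul_eq_one_iff_eq_inv', eq_comm]
    simp only [this]
    split_ifs <;> simp
  intro u v huv
  funext z
  have h := congrFun huv z⁻¹
  simp only [Matrix.mulVec, dotProduct, hG, inv_inv, ite_mul, zero_mul, Finset.sum_ite_eq',
    Finset.mem_univ, if_true] at h
  exact mul_left_cancel₀ (Nat.cast_ne_zero.2 Fintype.card_ne_zero) h

omit [Fintype F] [DecidableEq (↥(D.group F) ⧸ borelIn D F)]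
  [Fintype (↥(D.group F) ⧸ borelIn D F)] in
lemma center_one :
    Module.finrank ℂ (TraceForm.center (TraceForm.special g.hpoly (1 : ℂ))) =
      Nat.card (ConjClasses ↥g.weyl) := by
  classical
  set M := TraceForm.special g.hpoly (1 : ℂ)
  have hact : ∀ (a : ↥g.weyl → ℂ) z y, TraceForm.act M a z y = a (z * y⁻¹) := by
    intro a z y
    simp only [TraceForm.act, Matrix.sum_apply, Matrix.smul_apply, M, g.special_one,
      Matrix.of_apply, smul_eq_mul, mul_ite, mul_one, mul_zero]
    rw [Finset.sum_eq_single (z * y⁻¹)]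
    · simp
    · intro x _ hx
      rw [if_neg fun h => hx (by rw [h, mul_inv_cancel_right])]
    · simp
  have hcomm : ∀ a, a ∈ TraceForm.center M ↔ ∀ u k : ↥g.weyl, a (k * u * k⁻¹) = a u := by
    intro a
    rw [TraceForm.mem_center]
    have el : ∀ y z x, (TraceForm.act M a * M y) z x = a (z * (y * x)⁻¹) := fun y z x => by
      simp only [Matrix.mul_apply, hact, M, g.special_one, Matrix.of_apply, mul_ite, mul_one,
        mul_zero, Finset.sum_ite_eq', Finset.mem_univ, if_true]
    have er : ∀ y z x, (M y * TraceForm.act M a) z x = a (y⁻¹ * z * x⁻¹) := fun y z x => by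
      simp only [Matrix.mul_apply, hact, M, g.special_one, Matrix.of_apply, ite_mul, one_mul,
        zero_mul]
      rw [Finset.sum_eq_single (y⁻¹ * z)]
      · rw [if_pos (mul_inv_cancel_left y z).symm]
      · intro c _ hne
        rw [if_neg fun h => hne (by rw [h, inv_mul_cancel_left])]
      · simp
    constructor
    · intro h u k
      have h1 := congrFun (congrFun (h k) (k * u)) 1
      rw [el, er] at h1
      simpa using h1
    · intro h y
      ext z x
      rw [el, er]
      have := h (y⁻¹ * z * x⁻¹) y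
      rw [← this]
      congr 1
      group
  let f : (ConjClasses ↥g.weyl → ℂ) →ₗ[ℂ] ↥(TraceForm.center M) :=
    { toFun := fun c => ⟨fun u => c (ConjClasses.mk u), (hcomm _).2 fun u k => by
        rw [show ConjClasses.mk (k * u * k⁻¹) = ConjClasses.mk u from
          ConjClasses.mk_eq_mk_iff_isConj.2 (isConj_iff.2 ⟨k⁻¹, by group⟩)]⟩
      map_add' := fun _ _ => rfl
      map_smul' := fun _ _ => rfl }
  rw [← (LinearEquiv.ofBijective f ⟨fun c d h => ?_, fun a => ?_⟩).finrank_eq,
    Module.finrank_pi, Nat.card_eq_fintype_card]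
  · funext q
    obtain ⟨u, rfl⟩ := ConjClasses.mk_surjective q
    exact congrFun (Subtype.ext_iff.1 h) u
  · refine ⟨fun q => Quotient.liftOn q a.1 fun u v huv => ?_, Subtype.ext (funext fun u => rfl)⟩
    obtain ⟨k, rfl⟩ := isConj_iff.1 huv
    exact ((hcomm a.1).1 a.2 u k).symm

omit [DecidableEq (↥(D.group F) ⧸ borelIn D F)] [Fintype (↥(D.group F) ⧸ borelIn D F)]
  [Fintype ↥g.weyl] [DecidableEq ↥g.weyl] in
/-- The constituents of `1_B^G` are as many as the conjugacy classes of `W`. -/
theorem card_constituents (hc : HasComm D) :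
    Nat.card {χ : Cfsg.IrrCharacter ↥(D.group F) //
      ∃ φ : ↥(D.group F) → ℂ, Cfsg.IsCharacter ↥(D.group F) φ ∧
        Cfsg.fixedPointCharacter (borelIn D F) = (χ : ↥(D.group F) → ℂ) + φ} =
      Nat.card (ConjClasses ↥g.weyl) := by
  classical
  have := Fintype.ofFinite ↥(D.group F)
  have := Fintype.ofFinite (↥(D.group F) ⧸ borelIn D F)
  have := Fintype.ofFinite ↥g.weyl
  have hch : Cfsg.IsCharacter ↥(D.group F)
      (PermComm.pchar ↥(D.group F) (↥(D.group F) ⧸ borelIn D F)) := by
    have e : PermComm.pchar ↥(D.group F) (↥(D.group F) ⧸ borelIn D F) =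
        Cfsg.indFun (borelIn D F) (fun _ => (1 : ℂ)) := by
      funext x
      have h := CfsgLib.Char.natCard_fixedBy_eq_indFun (↥(D.group F) ⧸ borelIn D F)
        ((1 : ↥(D.group F)) : ↥(D.group F) ⧸ borelIn D F) x
      rwa [MulAction.stabilizer_quotient] at h
    rw [e]
    exact CfsgLib.Char.isCharacter_indFun _
      (CfsgLib.Char.irr_isCharacter (CfsgLib.Char.isIrrCharacter_linear 1))
  rw [show Cfsg.fixedPointCharacter (borelIn D F) =
    PermComm.pchar ↥(D.group F) (↥(D.group F) ⧸ borelIn D F) from rfl,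
    ← PermComm.finrank_commCenter hch, ← g.center_equiv (F := F) hc,
    TraceForm.finrank_center_const (g.hpoly_struct hc) (g.gram_det_ne (F := F) hc)
      g.gram_one_det, g.center_one]

end Good

end CfsgLib.Chev
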