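import Cfsg.Agent.Lib.Chev.Bruhat
import Cfsg.Agent.Lib.Chev.TorusH
import Cfsg.Agent.Lib.Chev.SL2Hom

/-!
The centraliser of a regular element of the split torus is the torus.
-/

set_option autoImplicit false

namespace CfsgLib.KnownB.ChevRegular

open Cfsg.Lie CfsgLib.Chev

universe u

variable {D : ChevalleyDatum} (g : Good D) {F : Type u} [Field F]

include g

theorem acts_torHom (c : Fin D.rank → Fˣ) : g.Acts (torHom D F c) 1 :=
  g.acts_diagonal (g.torHom_mem c)

/-- An element of the group commuting with a torus element `h` lies in the torus, when no root is trivial at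
`h` and no nontrivial Weyl element fixes all the root values of `h`. -/
theorem mem_diagonal_of_commute (hc : HasComm D) (c : Fin D.rank → Fˣ)
    (hne1 : ∀ s : Fin D.nroots, (∏ i : Fin D.rank, c i ^ D.cartan i s) ≠ 1)
    (hfix : ∀ π ∈ g.weyl, (∀ s : Fin D.nroots,
      (∏ i : Fin D.rank, c i ^ D.cartan i (π s)) = ∏ i : Fin D.rank, c i ^ D.cartan i s) → π = 1)
    {x : GL D.Idx F} (hx : x ∈ D.group F) (hcomm : x * torHom D F c = torHom D F c * x) :
    x ∈ D.diagonalSubgroup F := by
  set h := torHom D F c with hh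
  have hH : h ∈ D.diagonalSubgroup F := g.torHom_mem c
  obtain ⟨b, hb, n, hn, π, hπw, hπ, u, hu, rfl⟩ := g.exists_canonical hc hx
  obtain ⟨v, hv, t, ht, rfl⟩ := g.mem_borel.1 hb
  -- conjugate by `h`
  have hv' : h * v * h⁻¹ ∈ D.posUnipotent F :=
    (Subgroup.mem_normalizer_iff.1 (g.diagonal_le_normalizer_pos hH) v).1 hv
  have hu' : h * u * h⁻¹ ∈ rootGen D F (minusSet π) :=
    (Subgroup.mem_normalizer_iff.1 (g.diagonal_le_normalizer_rootGen (minusSet π) hH) u).1 hu
  set k := n * h⁻¹ * n⁻¹ with hk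
  have hkH : k ∈ D.diagonalSubgroup F := g.diag_conj hn (inv_mem hH)
  have e : v * t * n * u = (h * v * h⁻¹ * (h * t * k)) * n * (h * u * h⁻¹) := by
    calc v * t * n * u = h * (v * t * n * u) * h⁻¹ := by rw [← hcomm, mul_inv_cancel_right]
      _ = _ := by rw [hk]; group
  obtain ⟨e1, e2⟩ := g.canonical_unique (g.mem_borel.2 ⟨v, hv, t, ht, rfl⟩)
    (g.mem_borel.2 ⟨_, hv', _, mul_mem (mul_mem hH ht) hkH, rfl⟩) hπ hu hu' e
  have hvv : v⁻¹ * (h * v * h⁻¹) ∈ D.posUnipotent F ⊓ D.diagonalSubgroup F := by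
    refine Subgroup.mem_inf.2 ⟨mul_mem (inv_mem hv) hv', ?_⟩
    have : v⁻¹ * (h * v * h⁻¹) = t * (h * t * k)⁻¹ := by
      rw [eq_mul_inv_iff_mul_eq, mul_assoc v⁻¹, inv_mul_eq_iff_eq_mul]
      exact e1.symm
    rw [this]
    exact mul_mem ht (inv_mem (mul_mem (mul_mem hH ht) hkH))
  rw [g.pos_inf_diagonal, Subgroup.mem_bot, inv_mul_eq_one] at hvv
  -- the Weyl element fixes the character, hence is trivial
  have hnh : n * h * n⁻¹ = h := by
    rw [← hvv] at e1
    have e3 : t = h * t * k := mul_left_cancel e1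
    rw [g.diagonal_comm hH ht, mul_assoc, left_eq_mul, hk] at e3
    calc n * h * n⁻¹ = (n * h⁻¹ * n⁻¹)⁻¹ := by group
      _ = h := by rw [← mul_eq_one_iff_eq_inv.1 e3]
  have hπ1 : π = 1 := by
    refine hfix π hπw fun s => ?_
    show (∏ i : Fin D.rank, c i ^ D.cartan i (π s) : Fˣ) = ∏ i : Fin D.rank, c i ^ D.cartan i s
    obtain ⟨d, hd⟩ := hπ s
    have h1 : ∀ r : Fin D.nroots, ∀ y : F, h * g.xG r y * h⁻¹ =
        g.xG r (((∏ i : Fin D.rank, c i ^ D.cartan i r : Fˣ) : F) * y) := fun r y =>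
      g.torHom_conj_xG c r.2 y
    have h2 : g.xG (π s) (((∏ i : Fin D.rank, c i ^ D.cartan i (π s) : Fˣ) : F) * (d : F)) =
        g.xG (π s) ((d : F) * ((∏ i : Fin D.rank, c i ^ D.cartan i s : Fˣ) : F)) := by
      calc _ = h * (n * g.xG s 1 * n⁻¹) * h⁻¹ := by rw [hd, mul_one, h1]
        _ = n * (h * g.xG s 1 * h⁻¹) * n⁻¹ := by
          conv_lhs => rw [← hnh]
          group
        _ = _ := by rw [h1, mul_one, hd]
    by_contra hne
    have h3 : g.xG (π s) (((∏ i : Fin D.rank, c i ^ D.cartan i (π s) : Fˣ) : F) * (d : F) +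
        -((d : F) * ((∏ i : Fin D.rank, c i ^ D.cartan i s : Fˣ) : F))) = 1 := by
      rw [← g.xG_add, h2, g.xG_add, add_neg_cancel, g.xG_zero]
    have h4 := (g.x_eq_one_iff (π s).2 _).1 (congrArg Units.val h3)
    rw [← sub_eq_add_neg, sub_eq_zero, mul_comm (d : F)] at h4
    exact hne (Units.ext (mul_right_cancel₀ d.ne_zero h4))
  subst hπ1
  have hu1 : u = 1 := by
    have : rootGen D F (minusSet (1 : Equiv.Perm (Fin D.nroots))) ≤ ⊥ := g.rootGen_le fun r hr _ t => by
      obtain ⟨h1, h2, h3⟩ := hr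
      simp only [Equiv.Perm.one_apply] at h3
      omega
    exact Subgroup.mem_bot.1 (this hu)
  have hnH : n ∈ D.diagonalSubgroup F := by
    have h1 : (⟨n, hn⟩ : ↥(D.monomialSubgroup F)) ∈ (g.rootAct (F := F)).ker :=
      Subtype.ext (g.rootAct_eq (x := ⟨n, hn⟩) hπ)
    rw [g.rootAct_ker] at h1
    exact h1
  -- the unipotent part is fixed by `h`
  have hv1 : v = 1 := by
    rw [g.posUnipotent_eq] at hv
    obtain ⟨f, rfl⟩ := g.exists_xProd hc le_rfl hv
    let χ : ℕ → F := fun r => if hr : r < D.nroots then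
      ((∏ i : Fin D.rank, c i ^ D.cartan i r : Fˣ) : F) else 1
    have hconj : h * g.xProd f (half D) * h⁻¹ = g.xProd (fun r => χ r * f r) (half D) := by
      rw [← MulAut.conj_apply, Good.xProd, Good.xProd, map_list_prod, List.map_map]
      refine congrArg List.prod (List.map_congr_left fun r hr => ?_)
      rw [List.mem_range'_1] at hr
      have hr' : r < D.nroots := by omega
      simp only [Function.comp_apply, MulAut.conj_apply, χ, dif_pos hr']
      exact g.torHom_conj_xG c hr' (f r)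
    rw [← hvv] at hconj
    have hzero : ∀ r, half D ≤ r → r < D.nroots → f r = 0 := by
      intro r hr hr'
      have h1 := g.xProd_inj le_rfl hconj hr hr'
      simp only [χ, dif_pos hr'] at h1
      by_contra h0
      have h2 : ((∏ i : Fin D.rank, c i ^ D.cartan i r : Fˣ) : F) = 1 :=
        (mul_left_eq_self₀.1 h1.symm).resolve_right h0
      exact hne1 ⟨r, hr'⟩ (Units.ext h2)
    have hone : g.xProd f (half D) = g.xProd (fun _ => (0 : F)) (half D) := by
      rw [Good.xProd, Good.xProd]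
      refine congrArg List.prod (List.map_congr_left fun r hr => ?_)
      rw [List.mem_range'_1] at hr
      rw [hzero r hr.1 (by omega)]
    rw [hone, Good.xProd]
    exact List.prod_eq_one fun y hy => by
      obtain ⟨r, -, rfl⟩ := List.mem_map.1 hy
      exact g.xG_zero r
  subst hu1 hv1
  simp only [one_mul, mul_one]
  exact mul_mem ht hnH


/-- An element of the group commuting with a torus element separating the roots lies in the torus. -/
theorem mem_diagonal_of_commute_regular (hc : HasComm D) (c : Fin D.rank → Fˣ)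
    (hreg : Function.Injective fun s : Fin D.nroots => ∏ i : Fin D.rank, c i ^ D.cartan i s)
    {x : GL D.Idx F} (hx : x ∈ D.group F) (hcomm : x * torHom D F c = torHom D F c * x) :
    x ∈ D.diagonalSubgroup F := by
  refine mem_diagonal_of_commute g hc c (fun s h => ?_) (fun π _ h => Equiv.ext fun s => hreg (h s)) hx hcomm
  have hn := g.neg_lt s.2
  have hval : (∏ i : Fin D.rank, c i ^ D.cartan i (D.neg s) : Fˣ) = 1 := by
    have : ∀ i : Fin D.rank, D.cartan i (D.neg s) = - D.cartan i s := fun i => g.cartan_neg i.2 s.2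
    simp only [this, _root_.zpow_neg, Finset.prod_inv_distrib, h, inv_one]
  exact g.neg_ne s.2 (congrArg Fin.val (hreg (a₁ := s) (a₂ := ⟨D.neg s, hn⟩) (h.trans hval.symm))).symm

end CfsgLib.KnownB.ChevRegular
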