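import Mathlib
import Cfsg.Agent.Lib.KnownB.ChevBlocks

/-!
Weights of the group algebra of a Chevalley group in the defining characteristic: a vector fixed by
`U`, an eigenvector of the fundamental tori and of the rank one operators. A cyclic module generated
by such a vector is spanned by its translates under the opposite unipotent group.
-/

set_option autoImplicit false
set_option linter.unusedSectionVars false

namespace CfsgLib.Chev

open Cfsg.Lie Matrix MonoidAlgebra CfsgLib.KnownB CfsgLib.Block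

variable {D : ChevalleyDatum} {F : Type*} [Field F]

/-- The negative maximal unipotent subgroup inside the group. -/
abbrev negIn (D : ChevalleyDatum) (F : Type*) [Field F] : Subgroup ↥(D.group F) :=
  (D.negUnipotent F).subgroupOf (D.group F)

namespace Good

variable (g : Good D)
include g

/-! ### Rank one -/

lemma sl2_S (i : Fin D.rank) :
    (∀ s t : F, g.xS i (s + t) = g.xS i s * g.xS i t) ∧
    (∀ (c : Fˣ) (t : F), g.hS i c * g.xS i t * (g.hS i c)⁻¹ = g.xS i ((c : F) * c * t)) ∧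
    (∀ t : F, g.nS i * g.xS i t * (g.nS i)⁻¹ = g.yS i (-t)) ∧
    g.nS (F := F) i * g.nS i = g.hS i (-1) ∧
    (∀ t : Fˣ, g.xS i (t : F) * g.yS i (-((t⁻¹ : Fˣ) : F)) * g.xS i (t : F) = g.hS i t * g.nS i) ∧
    (∀ t : Fˣ, g.nS i * g.hS i t = g.hS i t⁻¹ * g.nS i) := by
  have R := g.sl2Rel_simple (F := F) i.2
  exact ⟨fun s t => Subtype.ext (R.X_add s t), fun c t => Subtype.ext (R.H_conj c t),
    fun t => Subtype.ext (R.N_conj t), Subtype.ext R.N_sq,
    fun t => Subtype.ext (R.big t), fun t => Subtype.ext (R.N_H t)⟩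

lemma xS_zero (i : Fin D.rank) : g.xS i (0 : F) = 1 := Subtype.ext (g.xG_zero _)

lemma yS_zero (i : Fin D.rank) : g.yS i (0 : F) = 1 := Subtype.ext (g.xG_zero _)

lemma yS_add (i : Fin D.rank) (s t : F) : g.yS i (s + t) = g.yS i s * g.yS i t :=
  Subtype.ext (g.xG_add _ s t).symm

lemma yS_mem_negIn (i : Fin D.rank) (t : F) : g.yS i t ∈ negIn D F := by
  refine Subgroup.mem_subgroupOf.2 ?_
  rw [g.negUnipotent_eq]
  exact g.mem_rootGen (g.nroot (g.sroot i)).2 (g.nroot_sroot_neg i) t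

lemma xS_mem_posIn (i : Fin D.rank) (t : F) : g.xS i t ∈ posIn D F :=
  g.xIn_mem_posIn (g.sroot_pos i) t

lemma nS_yS (i : Fin D.rank) (s : F) : g.nS i * g.yS i s = g.xS i (-s) * g.nS i := by
  have R := g.sl2Rel_simple (F := F) i.2
  exact Subtype.ext (mul_inv_eq_iff_eq_mul.1 (R.N_Y s))

/-- A nontrivial root element times `n_i`, rewritten from the other side. -/
lemma xS_nS (i : Fin D.rank) {t : F} (ht : t ≠ 0) :
    g.xS i t * g.nS i =
      g.yS i t⁻¹ * (g.hS i (Units.mk0 t ht) * (g.xS i (-t⁻¹) * g.hS i (-1))) := by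
  obtain ⟨-, -, hN, hNN, hbig, hNH⟩ := g.sl2_S (F := F) i
  set a : Fˣ := (Units.mk0 t ht)⁻¹ with ha
  have haF : (a : F) = t⁻¹ := by simp [ha]
  have hainv : ((a⁻¹ : Fˣ) : F) = t := by simp [ha]
  have h1 := congrArg (fun z => g.nS i * z * (g.nS i)⁻¹) (hbig (-a))
  have hX : g.nS i * g.yS i (((a⁻¹ : Fˣ) : F)) * (g.nS i)⁻¹ = g.xS i (-t) := by
    rw [g.nS_yS, hainv, mul_inv_cancel_right]
  have hY : g.nS i * g.xS i (((-a : Fˣ) : F)) * (g.nS i)⁻¹ = g.yS i t⁻¹ := by
    rw [hN, Units.val_neg, _root_.neg_neg, haF]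
  have h2 : g.yS i t⁻¹ * g.xS i (-t) * g.yS i t⁻¹ = g.hS i (-a⁻¹) * g.nS i := by
    have e : g.nS i * (g.xS i ((-a : Fˣ) : F) * g.yS i (-(((-a)⁻¹ : Fˣ) : F)) *
        g.xS i ((-a : Fˣ) : F)) * (g.nS i)⁻¹ =
        g.hS i ((-a)⁻¹) * g.nS i := by
      rw [hbig (-a), ← mul_assoc, hNH, mul_inv_cancel_right]
    rw [inv_neg, Units.val_neg (a⁻¹), _root_.neg_neg] at e
    rw [← e, ← hY, ← hX]
    group
  have hXinv : g.xS i t = g.yS i t⁻¹ * (g.nS i)⁻¹ * (g.hS i (-a⁻¹))⁻¹ * g.yS i t⁻¹ := by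
    have e : g.xS i (-t) = (g.yS i t⁻¹)⁻¹ * (g.hS i (-a⁻¹) * g.nS i) * (g.yS i t⁻¹)⁻¹ := by
      rw [← h2]; group
    have e2 : g.xS i t = (g.xS i (-t))⁻¹ :=
      eq_inv_of_mul_eq_one_left (by
        rw [← (g.sl2_S (F := F) i).1, add_neg_cancel, g.xS_zero])
    rw [e2, e]; group
  have hninv : (g.nS (F := F) i)⁻¹ = g.nS i * (g.hS i (-1))⁻¹ := by
    rw [← hNN]; group
  have hYn : g.yS i t⁻¹ * g.nS i = g.nS i * g.xS i (-t⁻¹) := by
    rw [← _root_.neg_neg t⁻¹, ← hN, _root_.neg_neg, inv_mul_cancel_right]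
  rw [hXinv, hninv, mul_assoc _ _ (g.yS i t⁻¹ : ↥(D.group F))]
  simp only [mul_assoc]
  rw [hYn]
  congr 1
  rw [← map_inv, ← map_inv, show ((-1 : Fˣ))⁻¹ = -1 by simp, inv_neg, inv_inv,
    show g.nS i * (g.hS i (-1) * (g.hS i (-a) * (g.nS i * g.xS i (-t⁻¹)))) =
      g.nS i * g.hS i ((-1) * (-a)) * g.nS i * g.xS i (-t⁻¹) by rw [map_mul]; simp only [mul_assoc],
    hNH, mul_assoc (g.hS i _), hNN, ha]
  simp only [neg_mul_neg, one_mul, inv_inv]
  rw [mul_assoc]
  congr 1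
  have := (g.sl2_S (F := F) i).2.1 (-1) (-t⁻¹)
  rw [show (((-1 : Fˣ) : F) * ((-1 : Fˣ) : F) * (-t⁻¹)) = -t⁻¹ by simp, mul_inv_eq_iff_eq_mul]
    at this
  exact this

/-- The opposite unipotent group is a root subgroup times a part normalised by `n_i`. -/
lemma neg_split (hc : HasComm D) (i : Fin D.rank) {y : ↥(D.group F)} (hy : y ∈ negIn D F) :
    ∃ s : F, ∃ y' ∈ negIn D F, g.nS i * y' * (g.nS i)⁻¹ ∈ negIn D F ∧ y = y' * g.yS i s := by
  obtain ⟨l, hl⟩ := g.exists_longest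
  set n := g.wordN (F := F) l with hn
  have hn' := g.acts_wordN (F := F) l
  have hpos : ∀ r : Fin D.nroots, (g.wperm l r).val < half D → half D ≤ r.val := by
    intro r hr
    by_contra hcon
    have h1 := hl _ ((g.nroot_pos_iff r).2 (Nat.not_le.1 hcon))
    rw [g.wperm_nroot] at h1
    have := (g.nroot_pos_iff _).2 hr
    omega
  have hx : n⁻¹ * (y : GL D.Idx F)⁻¹ * n ∈ D.posUnipotent F := by
    have h1 := g.conj_rootGen (g.acts_inv hn') (S := Set.Iio (half D)) (T := Set.Ici (half D))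
      (fun r hr => hpos _ (by rw [show g.wperm l ((g.wperm l)⁻¹ r) = r from
        (g.wperm l).apply_symm_apply r]; exact hr))
      (Subgroup.mem_map_of_mem _ (inv_mem (g.negUnipotent_eq (F := F) ▸
        Subgroup.mem_subgroupOf.1 hy : (y : GL D.Idx F) ∈ rootGen D F (Set.Iio (half D)))))
    rw [g.posUnipotent_eq]
    simpa using h1
  obtain ⟨a, ha, b, hb, hab⟩ := g.pos_split hc (g.rperm i * g.wperm l) hx
  have hY : n * a⁻¹ * n⁻¹ ∈ D.rootSubgroup F (D.neg (D.simple i)) := by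
    have h1 : n * a⁻¹ * n⁻¹ ∈ rootGen D F {r | r = (g.nroot (g.sroot i)).val} := by
      refine g.conj_rootGen hn' (S := plusSet (g.rperm i * g.wperm l)) (fun r hr => ?_)
        (Subgroup.mem_map_of_mem _ (inv_mem ha))
      obtain ⟨hlt, hp, hπ⟩ := hr
      show (g.wperm l ⟨r, hlt⟩).val = _
      by_contra hne
      have h2 : g.wperm l ⟨r, hlt⟩ ≠ g.nroot (g.sroot i) := fun h => hne (congrArg Fin.val h)
      have h3 := g.rperm_neg i (hl ⟨r, hlt⟩ hp) h2
      rw [Equiv.Perm.mul_apply] at hπ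
      omega
    refine g.rootGen_le (fun r hr hrn t => ?_) h1
    obtain rfl : r = D.neg (D.simple i) := hr
    exact g.mem_rootSubgroup.2 ⟨t, rfl⟩
  obtain ⟨s, hs⟩ := g.mem_rootSubgroup.1 hY
  have hb1 : n * b⁻¹ * n⁻¹ ∈ D.negUnipotent F := by
    rw [g.negUnipotent_eq]
    refine g.conj_rootGen hn' (S := minusSet (g.rperm i * g.wperm l)) (fun r hr => ?_)
      (Subgroup.mem_map_of_mem _ (inv_mem hb))
    obtain ⟨hlt, hp, hπ⟩ := hr
    exact hl ⟨r, hlt⟩ hp
  have hb2 : (g.nI i : GL D.Idx F) * (n * b⁻¹ * n⁻¹) * (g.nI i)⁻¹ ∈ D.negUnipotent F := by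
    rw [g.negUnipotent_eq, show (g.nI i : GL D.Idx F) * (n * b⁻¹ * n⁻¹) * (g.nI i)⁻¹ =
      (g.nI i * n) * b⁻¹ * (g.nI i * n)⁻¹ by group]
    refine g.conj_rootGen (g.acts_mul (g.acts_nI i) hn') (S := minusSet (g.rperm i * g.wperm l))
      (fun r hr => ?_) (Subgroup.mem_map_of_mem _ (inv_mem hb))
    obtain ⟨hlt, hp, hπ⟩ := hr
    exact hπ
  refine ⟨s, ⟨n * b⁻¹ * n⁻¹, g.negUnipotent_le_group hb1⟩, Subgroup.mem_subgroupOf.2 hb1,
    Subgroup.mem_subgroupOf.2 hb2, Subtype.ext ?_⟩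
  show (y : GL D.Idx F) = n * b⁻¹ * n⁻¹ * g.xG (D.neg (D.simple i)) s
  rw [← hs]
  have : (y : GL D.Idx F) = n * (a * b)⁻¹ * n⁻¹ := by rw [← hab]; group
  rw [this]
  group

/-- The monomial subgroup, as a subgroup of the group, lies in what `H` and the `n_i` generate. -/
lemma monomial_sub {X : Subgroup ↥(D.group F)}
    (hH : ∀ h : ↥(D.group F), (h : GL D.Idx F) ∈ D.diagonalSubgroup F → h ∈ X)
    (hN : ∀ i : Fin D.rank, g.nS i ∈ X) {x : ↥(D.group F)}
    (hx : (x : GL D.Idx F) ∈ D.monomialSubgroup F) : x ∈ X := by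
  suffices h : (x : GL D.Idx F) ∈ X.map (D.group F).subtype by
    obtain ⟨z, hz, hze⟩ := h
    rwa [← show z = x from Subtype.ext hze]
  refine g.monomial_induction (P := fun z => z ∈ X.map (D.group F).subtype)
    (fun h hh => ⟨⟨h, g.diagonal_le_group hh⟩, hH _ hh, rfl⟩)
    (fun i hi => ⟨g.nS ⟨i, hi⟩, hN _, rfl⟩) ?_ (fun a b _ _ => mul_mem) hx
  intro i hi
  exact ⟨(g.nS ⟨i, hi⟩)⁻¹, inv_mem (hN _), rfl⟩

/-- The group is generated by `U^-`, `H` and the `n_i`. -/
lemma group_sub {X : Subgroup ↥(D.group F)} (hU : negIn D F ≤ X)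
    (hH : ∀ h : ↥(D.group F), (h : GL D.Idx F) ∈ D.diagonalSubgroup F → h ∈ X)
    (hN : ∀ i : Fin D.rank, g.nS i ∈ X) (x : ↥(D.group F)) : x ∈ X := by
  obtain ⟨n, hn, hmap⟩ := g.exists_map_pos_eq_neg (F := F)
  suffices h : D.group F ≤ X.map (D.group F).subtype by
    obtain ⟨z, hz, hze⟩ := h x.2
    rwa [← show z = x from Subtype.ext hze]
  have hneg : D.negUnipotent F ≤ X.map (D.group F).subtype := fun y hy =>
    ⟨⟨y, g.negUnipotent_le_group hy⟩, hU (Subgroup.mem_subgroupOf.2 hy), rfl⟩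
  conv_lhs => rw [← g.posUnipotent_sup_neg]
  refine sup_le (fun u hu => ?_) hneg
  have hnu : n * u * n⁻¹ ∈ D.negUnipotent F := by
    rw [← hmap]; exact ⟨u, hu, by simp⟩
  have hn' : n ∈ X.map (D.group F).subtype :=
    ⟨⟨n, g.monomial_le_group hn⟩, g.monomial_sub hH hN hn, rfl⟩
  rw [show u = n⁻¹ * (n * u * n⁻¹) * n by group]
  exact mul_mem (mul_mem (inv_mem hn') (hneg hnu)) hn'

/-! ### Weights -/

section

variable [Fintype F] [Fintype ↥(D.group F)] {k : Type} [Field k] {p : ℕ} [Fact p.Prime]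
  [hkp : CharP k p] [hFp : CharP F p]

/-- A weight vector of the group algebra. -/
structure IsWt (ψ : Fin D.rank → Fˣ →* kˣ) (cs : Fin D.rank → k)
    (v : MonoidAlgebra k ↥(D.group F)) : Prop where
  ne : v ≠ 0
  fix : DZero.Fx (posIn D F) v
  eig : ∀ (i : Fin D.rank) (c : Fˣ), DZero.dlt k (g.hS i c) * v = (ψ i c : k) • v
  op : ∀ i : Fin D.rank, g.stepSum k i * v = cs i • v

/-- The span of the opposite unipotent group. -/
noncomputable def negSpan (_g : Good D) (k : Type) [Field k] : Submodule k (MonoidAlgebra k ↥(D.group F)) :=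
  Submodule.span k (Set.range fun y : ↥(negIn D F) => DZero.dlt k (y : ↥(D.group F)))

lemma dlt_mem_negSpan {y : ↥(D.group F)} (hy : y ∈ negIn D F) :
    DZero.dlt k y ∈ g.negSpan k (F := F) := Submodule.subset_span ⟨⟨y, hy⟩, rfl⟩

lemma dlt_mul_negSpan {y : ↥(D.group F)} (hy : y ∈ negIn D F) {z : MonoidAlgebra k ↥(D.group F)}
    (hz : z ∈ g.negSpan k) : DZero.dlt k y * z ∈ g.negSpan k := by
  induction hz using Submodule.span_induction with
  | mem x hx =>
    obtain ⟨y', rfl⟩ := hx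
    simp only [DZero.dlt_mul]
    exact g.dlt_mem_negSpan (mul_mem hy y'.2)
  | zero => rw [mul_zero]; exact zero_mem _
  | add x x' _ _ hx hx' => rw [mul_add]; exact add_mem hx hx'
  | smul a x _ hx => rw [mul_smul_comm]; exact Submodule.smul_mem _ a hx

include hkp hFp

lemma IsWt.diag {ψ : Fin D.rank → Fˣ →* kˣ} {cs : Fin D.rank → k} {h : ↥(D.group F)}
    (hh : (h : GL D.Idx F) ∈ D.diagonalSubgroup F) :
    ∃ a : k, ∀ v, g.IsWt ψ cs v → DZero.dlt k h * v = a • v := by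
  refine g.diag_induction (P := fun h => ∃ a : k, ∀ v, g.IsWt ψ cs v → DZero.dlt k h * v = a • v)
    ⟨1, fun v _ => by rw [DZero.dlt_one, one_mul, one_smul]⟩ (fun x i c => ?_) hh
  rintro ⟨a, ha⟩
  refine ⟨a * (ψ i c : k), fun v hv => ?_⟩
  rw [← DZero.dlt_mul_mul, ha v hv, mul_smul_comm, hv.eig, smul_smul]

/-- Any element acts on all vectors of a weight as an element of the span of `U^-`. -/
theorem exists_negSpan (hc : HasComm D) (ψ : Fin D.rank → Fˣ →* kˣ) (cs : Fin D.rank → k)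
    (a : MonoidAlgebra k ↥(D.group F)) :
    ∃ z ∈ g.negSpan k, ∀ v, g.IsWt ψ cs v → a * v = z * v := by
  classical
  let R : Submodule k (MonoidAlgebra k ↥(D.group F)) :=
    { carrier := {a | ∃ z ∈ g.negSpan k, ∀ v, g.IsWt ψ cs v → a * v = z * v}
      zero_mem' := ⟨0, zero_mem _, fun _ _ => rfl⟩
      add_mem' := by
        rintro a b ⟨z, hz, hza⟩ ⟨z', hz', hzb⟩
        exact ⟨z + z', add_mem hz hz', fun v hv => by rw [add_mul, add_mul, hza v hv, hzb v hv]⟩
      smul_mem' := by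
        rintro r a ⟨z, hz, hza⟩
        exact ⟨r • z, Submodule.smul_mem _ r hz,
          fun v hv => by rw [smul_mul_assoc, smul_mul_assoc, hza v hv]⟩ }
  have hclosed : ∀ x : ↥(D.group F), (∀ y ∈ negIn D F, DZero.dlt k x * DZero.dlt k y ∈ R) →
      ∀ b ∈ R, DZero.dlt k x * b ∈ R := by
    rintro x hx b ⟨z, hz, hzb⟩
    suffices h : DZero.dlt k x * z ∈ R by
      obtain ⟨z', hz', hzz⟩ := h
      exact ⟨z', hz', fun v hv => by rw [mul_assoc, hzb v hv, ← mul_assoc, hzz v hv]⟩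
    clear hzb
    induction hz using Submodule.span_induction with
    | mem w hw => obtain ⟨y, rfl⟩ := hw; exact hx y y.2
    | zero => rw [mul_zero]; exact R.zero_mem
    | add w w' _ _ h h' => rw [mul_add]; exact R.add_mem h h'
    | smul r w _ h => rw [mul_smul_comm]; exact R.smul_mem r h
  have hneg : ∀ y ∈ negIn D F, ∀ b ∈ R, DZero.dlt k y * b ∈ R := fun y hy =>
    hclosed y fun y' hy' => ⟨_, g.dlt_mul_negSpan hy (g.dlt_mem_negSpan hy'), fun _ _ => rfl⟩
  have hdiag : ∀ h : ↥(D.group F), (h : GL D.Idx F) ∈ D.diagonalSubgroup F →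
      ∀ b ∈ R, DZero.dlt k h * b ∈ R := by
    intro h hh
    refine hclosed h fun y hy => ?_
    obtain ⟨r, hr⟩ := IsWt.diag g (ψ := ψ) (cs := cs) hh
    have hy' : h * y * h⁻¹ ∈ negIn D F := by
      refine Subgroup.mem_subgroupOf.2 ?_
      rw [g.negUnipotent_eq]
      exact (Subgroup.mem_normalizer_iff.1 (g.diagonal_le_normalizer_rootGen _ hh) _).1
        (g.negUnipotent_eq (F := F) ▸ Subgroup.mem_subgroupOf.1 hy)
    refine ⟨r • DZero.dlt k (h * y * h⁻¹), Submodule.smul_mem _ r (g.dlt_mem_negSpan hy'),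
      fun v hv => ?_⟩
    rw [smul_mul_assoc, ← mul_smul_comm, ← hr v hv, DZero.dlt_mul_mul, DZero.dlt_mul]
    congr 2
    group
  have hnS : ∀ i : Fin D.rank, ∀ b ∈ R, DZero.dlt k (g.nS i) * b ∈ R := by
    intro i
    refine hclosed _ fun y hy => ?_
    obtain ⟨s, y', hy', hny, rfl⟩ := g.neg_split hc i hy
    have hterm : ∀ t : F, t ≠ 0 → ∃ r : k, ∀ v, g.IsWt ψ cs v →
        DZero.dlt k (g.xS i t * g.nS i) * v = r • (DZero.dlt k (g.yS i t⁻¹) * v) := by
      intro t ht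
      refine ⟨(ψ i (-1) : k) * (ψ i (Units.mk0 t ht) : k), fun v hv => ?_⟩
      simp only [g.xS_nS i ht, ← DZero.dlt_mul_mul, hv.eig, mul_smul_comm,
        hv.fix _ (g.xS_mem_posIn i _), smul_smul]
    have hmain : DZero.dlt k (g.nS i * g.yS i s) ∈ R := by
      rcases eq_or_ne s 0 with rfl | hs
      · rw [g.yS_zero, mul_one]
        choose! r hr using hterm
        refine ⟨cs i • 1 - ∑ t ∈ Finset.univ.erase (0 : F), r t • DZero.dlt k (g.yS i t⁻¹),
          sub_mem (Submodule.smul_mem _ _ ?_) (sum_mem fun t _ =>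
            Submodule.smul_mem _ _ (g.dlt_mem_negSpan (g.yS_mem_negIn i _))), fun v hv => ?_⟩
        · rw [← DZero.dlt_one]; exact g.dlt_mem_negSpan (one_mem _)
        rw [sub_mul, smul_mul_assoc, one_mul, ← hv.op i, stepSum, Finset.sum_mul, Finset.sum_mul,
          ← Finset.add_sum_erase _ _ (Finset.mem_univ (0 : F)), g.xS_zero, one_mul]
        refine eq_sub_of_add_eq (congrArg (_ + ·) (Finset.sum_congr rfl fun t ht => ?_))
        rw [smul_mul_assoc, hr t (Finset.ne_of_mem_erase ht) v hv]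
      · rw [g.nS_yS]
        obtain ⟨r, hr⟩ := hterm (-s) (neg_ne_zero.2 hs)
        exact ⟨r • DZero.dlt k (g.yS i (-s)⁻¹),
          Submodule.smul_mem _ _ (g.dlt_mem_negSpan (g.yS_mem_negIn i _)),
          fun v hv => by rw [smul_mul_assoc, hr v hv]⟩
    have := hneg _ hny _ hmain
    rw [DZero.dlt_mul] at this ⊢
    convert this using 2
    group
  let X : Submonoid ↥(D.group F) :=
    { carrier := {x | ∀ b ∈ R, DZero.dlt k x * b ∈ R}
      one_mem' := fun b hb => by rw [DZero.dlt_one, one_mul]; exact hb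
      mul_mem' := fun {x y} hx hy b hb => by
        rw [← DZero.dlt_mul_mul]; exact hx _ (hy b hb) }
  let X' : Subgroup ↥(D.group F) :=
    { X with
      inv_mem' := fun {x} hx => by
        rw [inv_eq_of_mul_eq_one_left (a := x ^ (orderOf x - 1)) (b := x) (by
          rw [← pow_succ, Nat.sub_add_cancel (orderOf_pos x), pow_orderOf_eq_one])]
        exact X.pow_mem hx _ }
  have hall : ∀ x, x ∈ X' := g.group_sub hneg hdiag hnS
  have h1 : (1 : MonoidAlgebra k ↥(D.group F)) ∈ R :=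
    ⟨1, DZero.dlt_one (G := ↥(D.group F)) (k := k) ▸ g.dlt_mem_negSpan (one_mem _), fun _ _ => rfl⟩
  show a ∈ R
  rw [show a = ∑ x : ↥(D.group F), a.coeff x • DZero.dlt k x by ext z; simp [DZero.dlt]]
  refine R.sum_mem fun x _ => R.smul_mem _ ?_
  have := hall x 1 h1
  rwa [mul_one] at this

/-- A functional invariant under `U^-` reads off the weight. -/
lemma weight_of_invariant (hc : HasComm D) {N : Submodule k (MonoidAlgebra k ↥(D.group F))}
    {v : MonoidAlgebra k ↥(D.group F)} {ψ : Fin D.rank → Fˣ →* kˣ} {cs : Fin D.rank → k}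
    (hv : g.IsWt ψ cs v) (hvN : v ∈ N) (hNl : ∀ a : MonoidAlgebra k ↥(D.group F), ∀ z ∈ N, a * z ∈ N)
    (hgen : ∀ z ∈ N, ∃ a, a * v = z) (φ : MonoidAlgebra k ↥(D.group F) →ₗ[k] k)
    (hφ : ∀ y ∈ negIn D F, ∀ z ∈ N, φ (DZero.dlt k y * z) = φ z) {z : MonoidAlgebra k ↥(D.group F)}
    (hz : z ∈ N) :
    (∀ i c, φ (DZero.dlt k (g.hS i c) * z) = (ψ i c : k) * φ z) ∧
      ∀ i, φ (g.stepSum k i * z) = cs i * φ z := by
  classical
  obtain ⟨a, rfl⟩ := hgen z hz
  obtain ⟨b, hb, hab⟩ := g.exists_negSpan hc ψ cs a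
  rw [hab v hv]
  clear hab hz a
  induction hb using Submodule.span_induction with
  | zero => simp
  | add x x' _ _ h h' =>
    refine ⟨fun i c => ?_, fun i => ?_⟩
    · rw [add_mul, mul_add, map_add, map_add, h.1, h'.1, mul_add]
    · rw [add_mul, mul_add, map_add, map_add, h.2, h'.2, mul_add]
  | smul r x _ h =>
    refine ⟨fun i c => ?_, fun i => ?_⟩
    · rw [smul_mul_assoc, mul_smul_comm, map_smul, map_smul, h.1, smul_eq_mul, smul_eq_mul]; ring
    · rw [smul_mul_assoc, mul_smul_comm, map_smul, map_smul, h.2, smul_eq_mul, smul_eq_mul]; ring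
  | mem x hx =>
    obtain ⟨⟨y, hy⟩, rfl⟩ := hx
    refine ⟨fun i c => ?_, fun i => ?_⟩ <;> dsimp only
    · have hy' : g.hS i c * y * (g.hS i c)⁻¹ ∈ negIn D F := by
        refine Subgroup.mem_subgroupOf.2 ?_
        rw [g.negUnipotent_eq]
        exact (Subgroup.mem_normalizer_iff.1
          (g.diagonal_le_normalizer_rootGen _ (g.hG_mem (g.simple_lt i.2) c)) _).1
          (g.negUnipotent_eq (F := F) ▸ Subgroup.mem_subgroupOf.1 hy)
      rw [DZero.dlt_mul_mul, show g.hS i c * y = g.hS i c * y * (g.hS i c)⁻¹ * g.hS i c by group,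
        ← DZero.dlt_mul_mul, hv.eig, hφ _ hy' _ (N.smul_mem _ hvN), map_smul,
        smul_eq_mul, hφ _ hy _ hvN]
    · have hT : g.stepSum k i = ∑ s : F, DZero.dlt k (g.nS i * g.yS i s) := by
        rw [stepSum]
        exact Fintype.sum_equiv (Equiv.neg F) _ _ fun t => by
          rw [g.nS_yS, Equiv.neg_apply, _root_.neg_neg]
      have hsplit : ∀ t : F, ∃ s : F, ∃ y' ∈ negIn D F,
          g.nS i * y' * (g.nS i)⁻¹ ∈ negIn D F ∧ g.yS i t * y = y' * g.yS i s := fun t =>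
        g.neg_split hc i (mul_mem (g.yS_mem_negIn i t) hy)
      choose σ y' hy'1 hy'2 he using hsplit
      have hσ : Function.Injective σ := by
        intro t t' htt
        by_contra hne
        have h1 : g.yS i (t - t') = y' t * (y' t')⁻¹ := by
          have h3 : g.yS i t * (g.yS i t')⁻¹ = y' t * (y' t')⁻¹ := by
            calc g.yS i t * (g.yS i t')⁻¹ = (g.yS i t * y) * (g.yS i t' * y)⁻¹ := by group
              _ = _ := by rw [he, he, htt]; group
          rw [← h3, eq_mul_inv_iff_mul_eq, ← g.yS_add, sub_add_cancel]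
        have h2 : g.xS i (-(t - t')) ∈ negIn D F := by
          have := mul_mem (hy'2 t) (inv_mem (hy'2 t'))
          rw [show g.nS i * y' t * (g.nS i)⁻¹ * (g.nS i * y' t' * (g.nS i)⁻¹)⁻¹ =
            g.nS i * (y' t * (y' t')⁻¹) * (g.nS i)⁻¹ by group, ← h1, g.nS_yS,
            mul_inv_cancel_right] at this
          exact this
        have h3 : ((g.xS i (-(t - t')) : ↥(D.group F)) : GL D.Idx F) ∈
            D.borelSubgroup F ⊓ D.negUnipotent F :=
          ⟨Subgroup.mem_sup_left (Subgroup.mem_subgroupOf.1 (g.xS_mem_posIn i _)),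
            Subgroup.mem_subgroupOf.1 h2⟩
        rw [g.borel_inf_neg, Subgroup.mem_bot] at h3
        exact hne (sub_eq_zero.1 (neg_eq_zero.1
          ((g.x_eq_one_iff (g.sroot i).2 _).1 (congrArg Units.val h3))))
      rw [hφ _ hy _ hvN, ← smul_eq_mul (cs i), ← map_smul, ← hv.op i, hT,
        Finset.sum_mul, Finset.sum_mul, map_sum, map_sum]
      refine Fintype.sum_bijective σ (Finite.injective_iff_bijective.1 hσ) _ _ fun t => ?_
      rw [DZero.dlt_mul_mul, mul_assoc, he t, ← mul_assoc,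
        show g.nS i * y' t * g.yS i (σ t) =
          g.nS i * y' t * (g.nS i)⁻¹ * (g.nS i * g.yS i (σ t)) by group,
        ← DZero.dlt_mul_mul, hφ _ (hy'2 t) _ (hNl _ _ hvN)]

end

end Good

end CfsgLib.Chev
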