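import Mathlib
import Cfsg.Agent.Lib.KnownB.ChevWeights
import Cfsg.Agent.Lib.Chev.StBruhat

/-!
Every weight occurs in the group algebra of a Chevalley group whose torus is split of full order.
-/

set_option autoImplicit false
set_option linter.unusedSectionVars false

namespace CfsgLib.Chev

open Cfsg.Lie Matrix MonoidAlgebra CfsgLib.KnownB CfsgLib.Block

variable {D : ChevalleyDatum} {F : Type*} [Field F]

namespace Good

variable (g : Good D)
include g

/-- The element of the group of a word in the `n_i`. -/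
noncomputable def wordS (F : Type*) [Field F] (l : List (Fin D.rank)) : ↥(D.group F) :=
  (l.map g.nS).prod

lemma wordS_nil : g.wordS F [] = 1 := rfl

lemma wordS_cons (i : Fin D.rank) (l : List (Fin D.rank)) :
    g.wordS F (i :: l) = g.nS i * g.wordS F l := by simp [wordS]

lemma wordS_append (l m : List (Fin D.rank)) :
    g.wordS F (l ++ m) = g.wordS F l * g.wordS F m := by simp [wordS]

lemma coe_wordS (l : List (Fin D.rank)) :
    ((g.wordS F l : ↥(D.group F)) : GL D.Idx F) = g.wordN l := by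
  induction l with
  | nil => rfl
  | cons i l ih =>
    rw [wordS_cons, Subgroup.coe_mul, ih, g.wordN_cons]
    rfl

lemma wordS_mem_monomial (l : List (Fin D.rank)) :
    ((g.wordS F l : ↥(D.group F)) : GL D.Idx F) ∈ D.monomialSubgroup F :=
  g.coe_wordS (F := F) l ▸ g.wordN_mem l

/-- A torus element moves `n_i` by a fundamental coroot element. -/
lemma diag_conj_nS {h : ↥(D.group F)} (hh : (h : GL D.Idx F) ∈ D.diagonalSubgroup F)
    (i : Fin D.rank) : ∃ c : Fˣ, h * g.nS i * h⁻¹ = g.hS i c * g.nS i := by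
  rw [g.diagonal_eq_range] at hh
  obtain ⟨d, hd⟩ := hh
  have hp := g.simple_lt i.2
  set c : Fˣ := ∏ j : Fin D.rank, d j ^ D.cartan j (D.simple i) with hc
  have hc' : (∏ j : Fin D.rank, d j ^ D.cartan j (D.neg (D.simple i)) : Fˣ) = c⁻¹ := by
    rw [hc, ← Finset.prod_inv_distrib]
    exact Finset.prod_congr rfl fun j _ => by rw [g.cartan_neg' j.2 hp, _root_.zpow_neg]
  refine ⟨c, Subtype.ext ?_⟩
  show (h : GL D.Idx F) * g.nI i * (h : GL D.Idx F)⁻¹ = g.hG (D.simple i) c * g.nI i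
  rw [← hd, nI, ← g.nG_eq_hG_mul hp]
  show torHom D F d * (g.xG (D.simple i) ((1 : Fˣ) : F) *
      g.xG (D.neg (D.simple i)) (-(((1 : Fˣ)⁻¹ : Fˣ) : F)) * g.xG (D.simple i) ((1 : Fˣ) : F)) *
        (torHom D F d)⁻¹ =
    g.xG (D.simple i) (c : F) * g.xG (D.neg (D.simple i)) (-((c⁻¹ : Fˣ) : F)) *
      g.xG (D.simple i) (c : F)
  calc _ = (torHom D F d * g.xG (D.simple i) ((1 : Fˣ) : F) * (torHom D F d)⁻¹) *
        (torHom D F d * g.xG (D.neg (D.simple i)) (-(((1 : Fˣ)⁻¹ : Fˣ) : F)) * (torHom D F d)⁻¹) *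
        (torHom D F d * g.xG (D.simple i) ((1 : Fˣ) : F) * (torHom D F d)⁻¹) := by group
    _ = _ := by
      rw [g.torHom_conj_xG d hp, g.torHom_conj_xG d (g.neg_lt hp), hc', ← hc]
      simp

/-! ### Characters of the torus -/

section

variable (hinj : Function.Injective (torHom D F))
include hinj

/-- The torus as a product of multiplicative groups. -/
noncomputable def torEquiv : (Fin D.rank → Fˣ) ≃* ↥(D.diagonalSubgroup F) :=
  MulEquiv.ofBijective ((torHom D F).codRestrict (D.diagonalSubgroup F) g.torHom_mem)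
    ⟨fun a b h => hinj (Subtype.ext_iff.1 h), fun x => by
      obtain ⟨c, hc⟩ := (SetLike.ext_iff.1 g.diagonal_eq_range (x : GL D.Idx F)).1 x.2
      exact ⟨c, Subtype.ext hc⟩⟩

variable {k : Type} [Field k] (ψ : Fin D.rank → Fˣ →* kˣ)

/-- The character of the torus with given restrictions to the fundamental coroots. -/
noncomputable def chiT : ↥(D.diagonalSubgroup F) →* kˣ :=
  (∏ i, (ψ i).comp (Pi.evalMonoidHom (fun _ : Fin D.rank => Fˣ) i)).comp
    (g.torEquiv hinj).symm.toMonoidHom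

open Classical in
/-- The character, as a function on the group. -/
noncomputable def lamT (h : ↥(D.group F)) : k :=
  if hh : (h : GL D.Idx F) ∈ D.diagonalSubgroup F then ((g.chiT hinj ψ ⟨h, hh⟩ : kˣ) : k) else 0

lemma lamT_mul {a b : ↥(D.group F)} (ha : (a : GL D.Idx F) ∈ D.diagonalSubgroup F)
    (hb : (b : GL D.Idx F) ∈ D.diagonalSubgroup F) :
    g.lamT hinj ψ (a * b) = g.lamT hinj ψ a * g.lamT hinj ψ b := by
  rw [lamT, lamT, lamT, dif_pos ha, dif_pos hb,
    dif_pos (show ((a * b : ↥(D.group F)) : GL D.Idx F) ∈ D.diagonalSubgroup F from mul_mem ha hb),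
    ← Units.val_mul, ← map_mul]
  rfl

lemma lamT_one : g.lamT hinj ψ 1 = 1 := by
  rw [lamT, dif_pos (show ((1 : ↥(D.group F)) : GL D.Idx F) ∈ D.diagonalSubgroup F from one_mem _)]
  exact (congrArg Units.val (map_one (g.chiT hinj ψ)))

lemma lamT_ne_zero {a : ↥(D.group F)} (ha : (a : GL D.Idx F) ∈ D.diagonalSubgroup F) :
    g.lamT hinj ψ a ≠ 0 := by
  rw [lamT, dif_pos ha]
  exact Units.ne_zero _

lemma lamT_inv {a : ↥(D.group F)} (ha : (a : GL D.Idx F) ∈ D.diagonalSubgroup F) :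
    g.lamT hinj ψ a⁻¹ = (g.lamT hinj ψ a)⁻¹ := by
  refine (inv_eq_of_mul_eq_one_left ?_).symm
  rw [← g.lamT_mul hinj ψ (show ((a⁻¹ : ↥(D.group F)) : GL D.Idx F) ∈ D.diagonalSubgroup F from
    inv_mem ha) ha, inv_mul_cancel, g.lamT_one]

lemma lamT_hS (i : Fin D.rank) (c : Fˣ) : g.lamT hinj ψ (g.hS i c) = (ψ i c : k) := by
  classical
  have hh : ((g.hS i c : ↥(D.group F)) : GL D.Idx F) ∈ D.diagonalSubgroup F :=
    g.hG_mem (g.simple_lt i.2) c
  rw [lamT, dif_pos hh]
  congr 1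
  have he : (g.torEquiv hinj).symm ⟨_, hh⟩ = Pi.mulSingle i c := by
    rw [MulEquiv.symm_apply_eq]
    exact Subtype.ext (g.torHom_single i c).symm
  show (∏ j, (ψ j).comp (Pi.evalMonoidHom (fun _ : Fin D.rank => Fˣ) j))
    ((g.torEquiv hinj).symm ⟨_, hh⟩) = ψ i c
  rw [he, MonoidHom.finsetProd_apply, Finset.prod_eq_single i (fun j _ hj => by simp [hj]) (by simp)]
  simp

variable (K : Finset (Fin D.rank)) (hK : ∀ i ∈ K, ψ i = 1)
include hK

lemma lamT_conj_word {l : List (Fin D.rank)} (hl : ∀ i ∈ l, i ∈ K) {h : ↥(D.group F)}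
    (hh : (h : GL D.Idx F) ∈ D.diagonalSubgroup F) :
    g.lamT hinj ψ (g.wordS F l * h * (g.wordS F l)⁻¹) = g.lamT hinj ψ h := by
  induction l with
  | nil => simp [wordS_nil]
  | cons i l ih =>
    have hh' : ((g.wordS F l * h * (g.wordS F l)⁻¹ : ↥(D.group F)) : GL D.Idx F) ∈
        D.diagonalSubgroup F := g.diag_conj (g.wordS_mem_monomial l) hh
    set h' := g.wordS F l * h * (g.wordS F l)⁻¹ with hh'def
    obtain ⟨c, hc⟩ := g.diag_conj_nS (show ((h'⁻¹ : ↥(D.group F)) : GL D.Idx F) ∈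
      D.diagonalSubgroup F from inv_mem hh') i
    have hcd : ((g.hS i c : ↥(D.group F)) : GL D.Idx F) ∈ D.diagonalSubgroup F :=
      g.hG_mem (g.simple_lt i.2) c
    have e : g.nS i * h' * (g.nS i)⁻¹ = h' * g.hS i c := by
      rw [show g.nS i * h' * (g.nS i)⁻¹ = h' * (h'⁻¹ * g.nS i * h'⁻¹⁻¹) * (g.nS i)⁻¹ by group,
        hc]
      group
    rw [wordS_cons, show g.nS i * g.wordS F l * h * (g.nS i * g.wordS F l)⁻¹ =
      g.nS i * h' * (g.nS i)⁻¹ by rw [hh'def]; group, e, g.lamT_mul hinj ψ hh' hcd, g.lamT_hS,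
      hK i (hl i (by simp)), ih fun j hj => hl j (List.mem_cons_of_mem _ hj)]
    simp

lemma lamT_conj_word_inv {l : List (Fin D.rank)} (hl : ∀ i ∈ l, i ∈ K) {h : ↥(D.group F)}
    (hh : (h : GL D.Idx F) ∈ D.diagonalSubgroup F) :
    g.lamT hinj ψ ((g.wordS F l)⁻¹ * h * g.wordS F l) = g.lamT hinj ψ h := by
  have hh' : (((g.wordS F l)⁻¹ * h * g.wordS F l : ↥(D.group F)) : GL D.Idx F) ∈
      D.diagonalSubgroup F := by
    have := g.diag_conj (inv_mem (g.wordS_mem_monomial (F := F) l)) hh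
    rwa [inv_inv] at this
  rw [← g.lamT_conj_word hinj ψ K hK hl hh']
  congr 1
  group

/-- Words in `K` of the identity are killed. -/
theorem lamT_word_ker {l : List (Fin D.rank)} (hl : ∀ i ∈ l, i ∈ K) (h : g.wperm l = 1) :
    g.lamT hinj ψ (g.wordS F l) = 1 := by
  induction' hn : l.length using Nat.strong_induction_on with n ih generalizing l
  rcases l with _ | ⟨a, l0⟩
  · rw [wordS_nil, g.lamT_one]
  have hnred : ¬ IsRed g.wS (a :: l0) := fun hr => by
    have := g.isRed_iff_ninv.1 hr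
    rw [h, g.ninv_one] at this
    simp at this
  obtain ⟨p, i, m, hspl, hm, him⟩ : ∃ p i m, a :: l0 = p ++ i :: m ∧ IsRed g.wS m ∧
      ¬ IsRed g.wS (i :: m) := by
    clear hn h ih hl
    revert hnred
    generalize a :: l0 = w
    intro hw
    induction w with
    | nil => exact absurd (fun _ _ => Nat.zero_le _) hw
    | cons b w ihw =>
      by_cases hwr : IsRed g.wS w
      · exact ⟨[], b, w, rfl, hwr, hw⟩
      · obtain ⟨p, i, m, e, h1, h2⟩ := ihw hwr
        exact ⟨b :: p, i, m, by rw [e]; rfl, h1, h2⟩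
  have hneg : ((g.wperm m).symm (g.sroot i)).val < half D := by
    by_contra hc
    apply him
    rw [g.isRed_iff_ninv, wperm_cons, (g.ninv_rperm_mul i _ (g.wperm_nroot m)).2 (by omega),
      g.isRed_iff_ninv.1 hm]
    rfl
  obtain ⟨j, hj, hroot, he⟩ := g.exists_exchange hneg
  obtain ⟨e, hee⟩ := g.wordN_conj_nG (F := F) (m.take j) (g.sroot (getElem m j hj))
  have h1' := hee 1
  rw [hroot, mul_one, show g.nG (g.sroot (getElem m j hj)) (1 : Fˣ) = g.nI (getElem m j hj) from rfl,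
    show g.nG (g.sroot i) e = g.hG (D.simple i) e * g.nI i from g.nG_eq_hG_mul (g.simple_lt i.2) e]
    at h1'
  have h1 : g.wordS F (m.take j) * g.nS ((getElem m j hj)) * (g.wordS F (m.take j))⁻¹ = g.hS i e * g.nS i := by
    refine Subtype.ext ?_
    rw [Subgroup.coe_mul, Subgroup.coe_mul, Subgroup.coe_inv, g.coe_wordS]
    exact h1'
  set T := g.wordS F (m.take j)
  set R := g.wordS F (m.drop (j + 1))
  have hm' : g.wordS F m = g.hS i e * g.nS i * T * R := by
    conv_lhs => rw [← List.take_append_drop (j + 1) m, List.take_succ_eq_append_getElem hj]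
    rw [wordS_append, wordS_append, wordS_cons, wordS_nil, mul_one, ← h1, inv_mul_cancel_right]
  set l' := p ++ (m.take j ++ m.drop (j + 1)) with hl'
  have hl'1 : g.wperm l' = 1 := by
    rw [← h, hspl, hl', g.wperm_append p, g.wperm_append p, wperm_cons,
      g.wperm_eraseIdx hj he]
  have hlen : l'.length < n := by
    rw [← hn, hspl, hl']
    simp only [List.length_append, List.length_cons, List.length_take, List.length_drop]
    omega
  have hmem : ∀ q ∈ p ++ i :: m, q ∈ K := fun q hq => hl q (hspl ▸ hq)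
  have hlK : ∀ q ∈ l', q ∈ K := by
    intro q hq
    refine hmem q ?_
    rw [hl', List.mem_append, List.mem_append] at hq
    rw [List.mem_append]
    rcases hq with hq | hq | hq
    · exact Or.inl hq
    · exact Or.inr (List.mem_cons_of_mem _ (List.mem_of_mem_take hq))
    · exact Or.inr (List.mem_cons_of_mem _ (List.mem_of_mem_drop hq))
  have hpK : ∀ q ∈ p, q ∈ K := fun q hq => hmem q (List.mem_append_left _ hq)
  have hiK : i ∈ K := hmem i (by simp)
  have hrec := ih l'.length hlen hlK hl'1 rfl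
  have hid : g.wordS F (p ++ i :: m) =
      (g.wordS F p * (g.nS i * g.hS i e * g.nS i) * (g.wordS F p)⁻¹) * g.wordS F l' := by
    rw [wordS_append, wordS_cons, hm', hl', wordS_append, wordS_append]
    simp only [mul_assoc, inv_mul_cancel_left, T, R]
  have hinner : g.nS i * g.hS i e * g.nS i = g.hS i (e⁻¹ * (-1)) := by
    obtain ⟨-, -, -, hNN, -, hNH⟩ := g.sl2_S (F := F) i
    rw [hNH, mul_assoc, hNN, map_mul]
  have hid' : ((g.hS i (e⁻¹ * (-1)) : ↥(D.group F)) : GL D.Idx F) ∈ D.diagonalSubgroup F :=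
    g.hG_mem (g.simple_lt i.2) _
  have hl'd : ((g.wordS F l' : ↥(D.group F)) : GL D.Idx F) ∈ D.diagonalSubgroup F :=
    g.coe_wordS (F := F) l' ▸ g.wordN_mem_diagonal hl'1
  rw [hspl, hid, hinner,
    g.lamT_mul hinj ψ (show ((g.wordS F p * g.hS i (e⁻¹ * (-1)) * (g.wordS F p)⁻¹ :
      ↥(D.group F)) : GL D.Idx F) ∈ D.diagonalSubgroup F from
        g.diag_conj (g.wordS_mem_monomial p) hid') hl'd,
    hrec, mul_one, g.lamT_conj_word hinj ψ K hK hpK hid', g.lamT_hS, hK i hiK]
  simp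

/-- Two words in `K` of the same permutation differ by a killed torus element. -/
lemma lamT_ratio {l l' : List (Fin D.rank)} (hl : ∀ i ∈ l, i ∈ K) (hl' : ∀ i ∈ l', i ∈ K)
    (h : g.wperm l = g.wperm l') :
    (((g.wordS F l')⁻¹ * g.wordS F l : ↥(D.group F)) : GL D.Idx F) ∈ D.diagonalSubgroup F ∧
      g.lamT hinj ψ ((g.wordS F l')⁻¹ * g.wordS F l) = 1 := by
  set q := l'.reverse
  have hq : ∀ i ∈ q, i ∈ K := fun i hi => hl' i (List.mem_reverse.1 hi)
  have e1 : g.wperm (l ++ q) = 1 := by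
    rw [g.wperm_append, g.wperm_reverse, h, mul_inv_cancel]
  have e2 : g.wperm (l' ++ q) = 1 := by
    rw [g.wperm_append, g.wperm_reverse, mul_inv_cancel]
  set a := g.wordS F (l ++ q) with ha
  set b := g.wordS F (l' ++ q) with hb
  have had : (a : GL D.Idx F) ∈ D.diagonalSubgroup F :=
    ha ▸ g.coe_wordS (F := F) (l ++ q) ▸ g.wordN_mem_diagonal e1
  have hbd : ((b⁻¹ : ↥(D.group F)) : GL D.Idx F) ∈ D.diagonalSubgroup F :=
    inv_mem (show (b : GL D.Idx F) ∈ D.diagonalSubgroup F from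
      hb ▸ g.coe_wordS (F := F) (l' ++ q) ▸ g.wordN_mem_diagonal e2)
  have habd : ((a * b⁻¹ : ↥(D.group F)) : GL D.Idx F) ∈ D.diagonalSubgroup F := mul_mem had hbd
  have e : (g.wordS F l')⁻¹ * g.wordS F l = (g.wordS F l')⁻¹ * (a * b⁻¹) * g.wordS F l' := by
    rw [ha, hb, wordS_append, wordS_append]; group
  refine ⟨?_, ?_⟩
  · rw [e]
    have := g.diag_conj (inv_mem (g.wordS_mem_monomial (F := F) l')) habd
    rwa [inv_inv] at this
  · rw [e, g.lamT_conj_word_inv hinj ψ K hK hl' habd, g.lamT_mul hinj ψ had hbd,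
      g.lamT_inv hinj ψ (show (b : GL D.Idx F) ∈ D.diagonalSubgroup F from
        hb ▸ g.coe_wordS (F := F) (l' ++ q) ▸ g.wordN_mem_diagonal e2), ha, hb,
      g.lamT_word_ker hinj ψ K hK (fun i hi => (List.mem_append.1 hi).elim (hl i) (hq i)) e1,
      g.lamT_word_ker hinj ψ K hK (fun i hi => (List.mem_append.1 hi).elim (hl' i) (hq i)) e2,
      inv_one, mul_one]

end

/-! ### Cells -/

section

variable [Fintype F] [Fintype ↥(D.group F)] {k : Type} [Field k] {p : ℕ} [Fact p.Prime]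
  [hkp : CharP k p] [hFp : CharP F p]
include hkp hFp

/-- A torus element moved through a cell. -/
lemma dlt_mul_cellSum {w : Equiv.Perm (Fin D.nroots)} {h : ↥(D.group F)}
    (hh : (h : GL D.Idx F) ∈ D.diagonalSubgroup F) :
    DZero.dlt k h * g.cellSum k w =
      g.cellSum k w * DZero.dlt k ((g.nW F w)⁻¹ * h * g.nW F w) := by
  classical
  have hnorm : ∀ x, x ∈ g.cellU F w ↔ h * x * h⁻¹ ∈ g.cellU F w := fun x =>
    Subgroup.mem_normalizer_iff.1 (g.diagonal_le_normalizer_rootGen _ hh) x.1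
  simp only [cellSum, Finset.sum_mul, Finset.mul_sum, DZero.dlt_mul]
  let σ : ↥(g.cellU F w) → ↥(g.cellU F w) := fun a => ⟨h * a * h⁻¹, (hnorm _).1 a.2⟩
  have hσ : Function.Injective σ := fun a b hab => Subtype.ext
    (mul_left_cancel (mul_right_cancel (Subtype.ext_iff.1 hab)))
  refine Fintype.sum_bijective σ (Finite.injective_iff_bijective.1 hσ) _ _ fun a => ?_
  congr 1
  show h * ((a : ↥(D.group F)) * g.nW F w) =
    h * a * h⁻¹ * g.nW F w * ((g.nW F w)⁻¹ * h * g.nW F w)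
  group

open Classical in
/-- A rank one operator at a descent acts through the fundamental torus. -/
lemma step_descent (hc : HasComm D) (i : Fin D.rank) {z : Equiv.Perm (Fin D.nroots)}
    (hz : z ∈ g.weyl) (hdesc : (z⁻¹ (g.sroot i)).val < half D)
    {u : MonoidAlgebra k ↥(D.group F)} (hu : DZero.Fx (posIn D F) u)
    (heig : ∀ h : ↥(D.group F), (h : GL D.Idx F) ∈ D.diagonalSubgroup F →
      ∃ a : k, a ≠ 0 ∧ DZero.dlt k h * u = a • u) :
    g.stepSum k i * (g.cellSum k z * u) =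
      (∑ c : Fˣ, DZero.dlt k (g.hS i c)) * (g.cellSum k z * u) := by
  classical
  set y := g.rperm i * z with hy
  have hyw : y ∈ g.weyl := mul_mem (Subgroup.subset_closure ⟨i, rfl⟩) hz
  have hry : g.rperm i * y = z := by rw [hy, ← mul_assoc, g.rperm_mul_self, one_mul]
  have hpos : half D ≤ (y⁻¹ (g.sroot i)).val := by
    rw [hy, _root_.mul_inv_rev, g.rperm_inv, Equiv.Perm.mul_apply, g.rperm_sroot,
      g.weyl_nroot (inv_mem hz), g.nroot_pos_iff]
    exact hdesc
  obtain ⟨h, hh, he⟩ := g.step_mul_cellSum (F := F) (p := p) (k := k) hc i hyw hpos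
  rw [hry] at he
  obtain ⟨a, ha0, ha⟩ := heig h hh
  have hT : g.stepSum k i * (g.cellSum k y * u) = a • (g.cellSum k z * u) := by
    rw [← mul_assoc, he, mul_assoc, ha, mul_smul_comm]
  obtain ⟨hXadd, hH, hN, hNN, hbig, hNH⟩ := g.sl2_S (F := F) i
  have hcardF : (Fintype.card F : k) = 0 := by
    obtain ⟨n, hn⟩ := card_field_pow (F := F) p
    rw [hn, Nat.cast_pow, CharP.cast_eq_zero, zero_pow n.ne_zero]
  have hq := DZero.torus_quad (k := k) hXadd hH hN hNN hbig hNH hcardF
    (w := g.cellSum k y * u)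
    (fun t => g.cellSum_fixed (p := p) hc hyw hu _ (g.xS_mem_posIn i t))
  simp only [← Finset.sum_mul] at hq
  rw [show (∑ t : F, DZero.dlt k (g.xS i t * g.nS i)) = g.stepSum k i from rfl, hT,
    mul_smul_comm, mul_smul_comm] at hq
  exact smul_right_injective _ ha0 hq

/-- Every weight occurs in the group algebra. -/
theorem exists_wt (hc : HasComm D) (hinj : Function.Injective (torHom D F))
    (ψ : Fin D.rank → Fˣ →* kˣ) (K : Finset (Fin D.rank)) (hK : ∀ i ∈ K, ψ i = 1)
    [DecidableEq (Fˣ →* kˣ)] :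
    ∃ v, g.IsWt ψ (fun i => if ψ i = 1 ∧ i ∉ K then -1 else 0) v := by
  classical
  have : Fintype ↥(posIn D F) := Fintype.ofFinite _
  obtain ⟨l0, hlong⟩ := g.exists_longest
  set w0 := g.wperm l0 with hw0def
  have hw0 : w0 ∈ g.weyl := g.wperm_mem l0
  have hw0i : ∀ a : Fin D.nroots, half D ≤ (w0⁻¹ a).val ↔ a.val < half D := by
    intro a
    refine ⟨fun h => ?_, fun h => ?_⟩
    · have := hlong _ h
      rwa [show w0 (w0⁻¹ a) = a from w0.apply_symm_apply a] at this
    · by_contra hcon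
      have := hlong _ ((g.nroot_pos_iff _).2 (Nat.not_le.1 hcon))
      rw [g.wperm_nroot, show w0 (w0⁻¹ a) = a from w0.apply_symm_apply a] at this
      exact absurd ((g.nroot_pos_iff _).2 h) (Nat.not_le.2 this)
  set n0 := g.nW F w0 with hn0
  have hn0N : (n0 : GL D.Idx F) ∈ D.monomialSubgroup F := g.nW_mem_monomial hw0
  have hconj0 : ∀ h : ↥(D.group F), (h : GL D.Idx F) ∈ D.diagonalSubgroup F →
      ((n0 * h * n0⁻¹ : ↥(D.group F)) : GL D.Idx F) ∈ D.diagonalSubgroup F := fun h hh =>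
    g.diag_conj hn0N hh
  -- the character on the other side
  let lam' : ↥(D.group F) → k := fun h => g.lamT hinj ψ (n0 * h * n0⁻¹)
  have hlam'mul : ∀ a b : ↥(D.group F), (a : GL D.Idx F) ∈ D.diagonalSubgroup F →
      (b : GL D.Idx F) ∈ D.diagonalSubgroup F → lam' (a * b) = lam' a * lam' b := fun a b ha hb => by
    show g.lamT hinj ψ _ = _
    rw [show n0 * (a * b) * n0⁻¹ = (n0 * a * n0⁻¹) * (n0 * b * n0⁻¹) by group,
      g.lamT_mul hinj ψ (hconj0 a ha) (hconj0 b hb)]
  set Hin := (D.diagonalSubgroup F).subgroupOf (D.group F)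
  have hHin : ∀ h : ↥Hin, ((h : ↥(D.group F)) : GL D.Idx F) ∈ D.diagonalSubgroup F := fun h =>
    Subgroup.mem_subgroupOf.1 h.2
  set σ : MonoidAlgebra k ↥(D.group F) :=
    (∑ h : ↥Hin, lam' (h : ↥(D.group F))⁻¹ • DZero.dlt k (h : ↥(D.group F))) *
      DZero.sumK k (posIn D F) with hσdef
  have hσU : DZero.Fx (posIn D F) σ := by
    intro u hu
    rw [hσdef, ← mul_assoc, Finset.mul_sum]
    simp only [mul_smul_comm, DZero.dlt_mul]
    rw [Finset.sum_mul, Finset.sum_mul]
    refine Finset.sum_congr rfl fun h _ => ?_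
    have hb : (h : ↥(D.group F)) ∈ borelIn D F :=
      Subgroup.mem_subgroupOf.2 (Subgroup.mem_sup_right (hHin h))
    have hu' : (h : ↥(D.group F))⁻¹ * u * h ∈ posIn D F := by
      have := (g.borelIn_conj_posIn (inv_mem hb) u).1 hu
      rwa [inv_inv] at this
    rw [smul_mul_assoc, smul_mul_assoc,
      show u * (h : ↥(D.group F)) = h * ((h : ↥(D.group F))⁻¹ * u * h) by group,
      ← DZero.dlt_mul, mul_assoc, DZero.dlt_mul_sumK _ hu']
  have hσH : ∀ h0 : ↥(D.group F), (h0 : GL D.Idx F) ∈ D.diagonalSubgroup F →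
      DZero.dlt k h0 * σ = lam' h0 • σ := by
    intro h0 hh0
    rw [hσdef, ← mul_assoc, ← smul_mul_assoc, Finset.mul_sum, Finset.smul_sum]
    congr 1
    refine Fintype.sum_equiv (Equiv.mulLeft (⟨h0, Subgroup.mem_subgroupOf.2 hh0⟩ : ↥Hin)) _ _
      fun h => ?_
    simp only [Equiv.coe_mulLeft, mul_smul_comm, DZero.dlt_mul, Subgroup.coe_mul, smul_smul]
    congr 1
    have hd : (((h0 * (h : ↥(D.group F)))⁻¹ : ↥(D.group F)) : GL D.Idx F) ∈ D.diagonalSubgroup F :=
      inv_mem (mul_mem hh0 (hHin h))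
    rw [← hlam'mul _ _ hh0 hd, _root_.mul_inv_rev]
    congr 1
    refine Subtype.ext ?_
    show ((h : ↥(D.group F)) : GL D.Idx F)⁻¹ = (h0 : GL D.Idx F) *
      (((h : ↥(D.group F)) : GL D.Idx F)⁻¹ * (h0 : GL D.Idx F)⁻¹)
    rw [g.diagonal_comm (inv_mem (hHin h)) (inv_mem hh0), mul_inv_cancel_left]
  have hσne : ∀ h0 : ↥(D.group F), (h0 : GL D.Idx F) ∈ D.diagonalSubgroup F →
      ∃ a : k, a ≠ 0 ∧ DZero.dlt k h0 * σ = a • σ := fun h0 hh0 =>
    ⟨_, g.lamT_ne_zero hinj ψ (hconj0 h0 hh0), hσH h0 hh0⟩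
  have hsumKcoeff : ∀ y : ↥(D.group F),
      (DZero.sumK k (posIn D F)).coeff y = if y ∈ posIn D F then 1 else 0 := by
    intro y
    simp only [DZero.sumK, DZero.dlt, MonoidAlgebra.coeff_sum, Finset.sum_apply',
      MonoidAlgebra.coeff_single, Finsupp.single_apply]
    split
    · next hy =>
      rw [Finset.sum_eq_single (⟨y, hy⟩ : ↥(posIn D F))
        (fun b _ hb => if_neg fun h => hb (Subtype.ext h)) (by simp), if_pos rfl]
    · next hy =>
      exact Finset.sum_eq_zero fun b _ => if_neg fun h : (b : ↥(D.group F)) = y => hy (h ▸ b.2)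
  have hσcoeff : ∀ y : ↥(D.group F), σ.coeff y = ∑ h : ↥Hin, lam' (h : ↥(D.group F))⁻¹ *
      if (h : ↥(D.group F))⁻¹ * y ∈ posIn D F then 1 else 0 := by
    intro y
    rw [hσdef, Finset.sum_mul, MonoidAlgebra.coeff_sum, Finset.sum_apply']
    refine Finset.sum_congr rfl fun h _ => ?_
    rw [smul_mul_assoc, MonoidAlgebra.coeff_smul, Finsupp.smul_apply, DZero.coeff_dlt_mul,
      hsumKcoeff, smul_eq_mul]
  have hσB : ∀ y, y ∉ borelIn D F → σ.coeff y = 0 := by
    intro y hy
    rw [hσcoeff]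
    refine Finset.sum_eq_zero fun h _ => ?_
    rw [if_neg, mul_zero]
    intro hin
    apply hy
    have := mul_mem (Subgroup.mem_subgroupOf.2 (Subgroup.mem_sup_right (hHin h)) :
      (h : ↥(D.group F)) ∈ borelIn D F) (posIn_le_borelIn hin)
    rwa [mul_inv_cancel_left] at this
  have hlam'one : lam' 1 = 1 := by
    show g.lamT hinj ψ _ = 1
    rw [mul_one, mul_inv_cancel, g.lamT_one]
  have hσ1 : σ.coeff 1 = 1 := by
    rw [hσcoeff, Finset.sum_eq_single (1 : ↥Hin)]
    · rw [OneMemClass.coe_one, inv_one, one_mul, if_pos (one_mem _), mul_one, hlam'one]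
    · intro h _ hne
      rw [if_neg, mul_zero]
      intro hin
      rw [mul_one] at hin
      apply hne
      have h1 : ((h : ↥(D.group F)) : GL D.Idx F) ∈
          D.posUnipotent F ⊓ D.diagonalSubgroup F := by
        refine ⟨?_, hHin h⟩
        have := inv_mem (Subgroup.mem_subgroupOf.1 hin)
        simpa using this
      rw [g.pos_inf_diagonal, Subgroup.mem_bot] at h1
      exact Subtype.ext (Subtype.ext h1)
    · simp
  -- the finite group `W_K`
  set J : Set ℕ := {j | ∃ i ∈ K, (i : ℕ) = j} with hJdef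
  have hJ : ∀ i : Fin D.rank, (i : ℕ) ∈ J ↔ i ∈ K := fun i =>
    ⟨fun ⟨j, hj, he⟩ => Fin.ext he ▸ hj, fun h => ⟨i, h, rfl⟩⟩
  set WK := Finset.univ.filter fun x : Equiv.Perm (Fin D.nroots) => x ∈ g.wJ J with hWK
  have hword : ∀ x ∈ WK, ∃ l : List (Fin D.rank), (∀ i ∈ l, i ∈ K) ∧ g.wperm l = x := by
    intro x hx
    obtain ⟨l, hl, he⟩ := g.exists_wperm_J (Finset.mem_filter.1 hx).2
    exact ⟨l, fun i hi => (hJ i).1 (hl i hi), he⟩
  choose! lw hlwK hlw using hword
  have hWKw : ∀ x ∈ WK, x ∈ g.weyl := fun x hx => g.weyl_le_wJ (Finset.mem_filter.1 hx).2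
  have hWKmul : ∀ i ∈ K, ∀ x ∈ WK, g.rperm i * x ∈ WK := fun i hi x hx =>
    Finset.mem_filter.2 ⟨Finset.mem_univ _,
      mul_mem (Subgroup.subset_closure ⟨i, (hJ i).2 hi, rfl⟩) (Finset.mem_filter.1 hx).2⟩
  let dd : Equiv.Perm (Fin D.nroots) → ↥(D.group F) := fun x =>
    (g.nW F (x * w0))⁻¹ * (g.wordS F (lw x) * n0)
  have hdd : ∀ x ∈ WK, ((dd x : ↥(D.group F)) : GL D.Idx F) ∈ D.diagonalSubgroup F := by
    intro x hx
    refine g.acts_diag (g.nW_mem_monomial (mul_mem (hWKw x hx) hw0))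
      (mul_mem (g.wordS_mem_monomial _) hn0N) (g.acts_nW (mul_mem (hWKw x hx) hw0)) ?_
    have := g.acts_mul (g.acts_wordN (F := F) (lw x)) (g.acts_nW (F := F) hw0)
    rw [hlw x hx, ← g.coe_wordS] at this
    exact this
  let f : Equiv.Perm (Fin D.nroots) → MonoidAlgebra k ↥(D.group F) := fun x =>
    g.cellSum k (x * w0) * (DZero.dlt k (dd x) * σ)
  have hfix : ∀ x ∈ WK, DZero.Fx (posIn D F) (f x) := fun x hx => by
    refine g.cellSum_fixed (p := p) hc (mul_mem (hWKw x hx) hw0) ?_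
    rw [hσH _ (hdd x hx)]
    intro u hu
    rw [mul_smul_comm, hσU u hu]
  have hH : ∀ x ∈ WK, ∀ h : ↥(D.group F), (h : GL D.Idx F) ∈ D.diagonalSubgroup F →
      DZero.dlt k h * f x = g.lamT hinj ψ h • f x := by
    intro x hx h hh
    have hz := mul_mem (hWKw x hx) hw0
    set n := g.nW F (x * w0)
    set M := g.wordS F (lw x)
    have hh' : ((n⁻¹ * h * n : ↥(D.group F)) : GL D.Idx F) ∈ D.diagonalSubgroup F := by
      have := g.diag_conj (inv_mem (g.nW_mem_monomial (F := F) hz)) hh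
      rwa [inv_inv] at this
    simp only [f]
    rw [← mul_assoc, g.dlt_mul_cellSum (p := p) hh, mul_assoc, DZero.dlt_mul_mul,
      show n⁻¹ * h * n * dd x = dd x * (n⁻¹ * h * n) from
        Subtype.ext (g.diagonal_comm hh' (hdd x hx)), ← DZero.dlt_mul_mul, hσH _ hh',
      mul_smul_comm, mul_smul_comm]
    congr 1
    have hMd : ((M⁻¹ * h * M : ↥(D.group F)) : GL D.Idx F) ∈ D.diagonalSubgroup F := by
      have := g.diag_conj (inv_mem (g.wordS_mem_monomial (F := F) (lw x))) hh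
      rwa [inv_inv] at this
    have e : n0 * (n⁻¹ * h * n) * n0⁻¹ =
        (n0 * dd x * n0⁻¹) * (M⁻¹ * h * M) * (n0 * dd x * n0⁻¹)⁻¹ := by
      simp only [dd, n, M]; group
    show g.lamT hinj ψ (n0 * (n⁻¹ * h * n) * n0⁻¹) = g.lamT hinj ψ h
    rw [e, show (n0 * dd x * n0⁻¹) * (M⁻¹ * h * M) * (n0 * dd x * n0⁻¹)⁻¹ = M⁻¹ * h * M by
      rw [show (n0 * dd x * n0⁻¹) * (M⁻¹ * h * M) = (M⁻¹ * h * M) * (n0 * dd x * n0⁻¹) from
        Subtype.ext (g.diagonal_comm (hconj0 _ (hdd x hx)) hMd), mul_inv_cancel_right],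
      g.lamT_conj_word_inv hinj ψ K hK (hlwK x hx) hh]
  have hTdown : ∀ i : Fin D.rank, ∀ x ∈ WK, ((x * w0)⁻¹ (g.sroot i)).val < half D →
      g.stepSum k i * f x = (∑ c : Fˣ, (ψ i c : k)) • f x := by
    intro i x hx hdesc
    have hz := mul_mem (hWKw x hx) hw0
    have h1 := g.step_descent (p := p) hc i hz hdesc (u := DZero.dlt k (dd x) * σ)
      (by rw [hσH _ (hdd x hx)]; intro u hu; rw [mul_smul_comm, hσU u hu])
      (fun h hh => by
        obtain ⟨a, ha0, ha⟩ := hσne h hh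
        exact ⟨a, ha0, by rw [hσH _ (hdd x hx), mul_smul_comm, ha, smul_comm]⟩)
    simp only [f]
    rw [h1, Finset.sum_mul, Finset.sum_smul]
    refine Finset.sum_congr rfl fun c _ => ?_
    have := hH x hx (g.hS i c) (g.hG_mem (g.simple_lt i.2) c)
    rw [g.lamT_hS] at this
    exact this
  have hTup : ∀ i ∈ K, ∀ x ∈ WK, half D ≤ ((x * w0)⁻¹ (g.sroot i)).val →
      g.stepSum k i * f x = f (g.rperm i * x) := by
    intro i hi x hx hpos
    obtain ⟨hh, he⟩ := g.step_mul_cellSum_eq (F := F) (p := p) (k := k) hc i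
      (mul_mem (hWKw x hx) hw0) hpos
    have hx' := hWKmul i hi x hx
    set x' := g.rperm i * x
    set n' := g.nW F (x' * w0)
    set M' := g.wordS F (lw x')
    simp only [f]
    rw [← mul_assoc, he, mul_assoc, DZero.dlt_mul_mul, ← mul_assoc (g.rperm i) x w0]
    congr 1
    obtain ⟨hYd, hY⟩ := g.lamT_ratio hinj ψ K hK (F := F)
      (l := i :: lw x) (l' := lw x')
      (by rintro j (_ | ⟨_, hj⟩); exacts [hi, hlwK x hx j hj]) (hlwK x' hx')
      (by rw [g.wperm_cons, hlw x hx, hlw x' hx'])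
    set Y := M'⁻¹ * g.wordS F (i :: lw x) with hYdef
    have hY' : ((n0⁻¹ * Y * n0 : ↥(D.group F)) : GL D.Idx F) ∈ D.diagonalSubgroup F := by
      have := g.diag_conj (inv_mem hn0N) hYd
      rwa [inv_inv] at this
    have e : (g.nW F (x' * w0))⁻¹ * (g.nS i * g.nW F (x * w0)) * dd x =
        dd x' * (n0⁻¹ * Y * n0) := by
      simp only [dd, hYdef, wordS_cons, M']; group
    rw [e, ← DZero.dlt_mul_mul, hσH _ hY',
      show lam' (n0⁻¹ * Y * n0) = 1 from by
        show g.lamT hinj ψ _ = 1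
        rw [show n0 * (n0⁻¹ * Y * n0) * n0⁻¹ = Y by group, hY], one_smul]
  set v := ∑ x ∈ WK, f x with hvdef
  have hone : (1 : Equiv.Perm (Fin D.nroots)) ∈ WK :=
    Finset.mem_filter.2 ⟨Finset.mem_univ _, one_mem _⟩
  have hSsum : ∀ i : Fin D.rank, (∑ c : Fˣ, (ψ i c : k)) = if ψ i = 1 then -1 else 0 := by
    intro i
    split
    · next h =>
      obtain ⟨n, hn⟩ := card_field_pow (F := F) p
      simp only [h, MonoidHom.one_apply, Units.val_one, Finset.sum_const, Finset.card_univ,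
        nsmul_one, Fintype.card_units]
      rw [Nat.cast_sub Fintype.card_pos, hn, Nat.cast_pow, CharP.cast_eq_zero,
        zero_pow n.ne_zero]
      simp
    · next h =>
      obtain ⟨c0, hc0⟩ : ∃ c0, ψ i c0 ≠ 1 := by
        by_contra hcon
        push Not at hcon
        exact h (MonoidHom.ext hcon)
      have e : (ψ i c0 : k) * ∑ c : Fˣ, (ψ i c : k) = ∑ c : Fˣ, (ψ i c : k) := by
        rw [Finset.mul_sum]
        exact Fintype.sum_equiv (Equiv.mulLeft c0) _ _ fun c => by simp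
      have h1 : ((ψ i c0 : k) - 1) * ∑ c : Fˣ, (ψ i c : k) = 0 := by
        rw [sub_mul, one_mul, e, sub_self]
      exact (mul_eq_zero.1 h1).resolve_left
        (sub_ne_zero.2 fun h2 => hc0 (Units.ext h2))
  have hdir : ∀ (i : Fin D.rank) (x : Equiv.Perm (Fin D.nroots)),
      half D ≤ ((x * w0)⁻¹ (g.sroot i)).val ↔ (x⁻¹ (g.sroot i)).val < half D := fun i x => by
    rw [_root_.mul_inv_rev, Equiv.Perm.mul_apply]; exact hw0i _
  refine ⟨v, ⟨?_, ?_, ?_, ?_⟩⟩
  · -- the coefficient at `n0`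
    intro hv0
    have h := congrArg (fun z => z.coeff n0) hv0
    simp only [hvdef, MonoidAlgebra.coeff_sum, Finset.sum_apply', MonoidAlgebra.coeff_zero,
      Finsupp.zero_apply] at h
    have hB : ∀ x ∈ WK, ∀ y, y ∉ borelIn D F → (DZero.dlt k (dd x) * σ).coeff y = 0 := by
      intro x hx y hy
      rw [DZero.coeff_dlt_mul]
      refine hσB _ fun hin => hy ?_
      have := mul_mem (Subgroup.mem_subgroupOf.2 (Subgroup.mem_sup_right (hdd x hx)) :
        dd x ∈ borelIn D F) hin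
      rwa [mul_inv_cancel_left] at this
    rw [Finset.sum_eq_single 1 (fun x hx hne => ?_) (fun h1 => absurd hone h1)] at h
    · simp only [f, cellSum, Finset.sum_mul, MonoidAlgebra.coeff_sum, Finset.sum_apply',
        DZero.coeff_dlt_mul] at h
      rw [one_mul, Finset.sum_eq_single (1 : ↥(g.cellU F w0))] at h
      · have h1 : dd 1 = n0⁻¹ * g.wordS F (lw 1) * n0 := by simp only [dd, one_mul, hn0]; group
        have hd1 : ((g.wordS F (lw 1) : ↥(D.group F)) : GL D.Idx F) ∈ D.diagonalSubgroup F :=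
          g.coe_wordS (F := F) (lw 1) ▸ g.wordN_mem_diagonal (hlw 1 hone)
        have h2 : lam' (dd 1) = 1 := by
          show g.lamT hinj ψ _ = 1
          rw [h1, show n0 * (n0⁻¹ * g.wordS F (lw 1) * n0) * n0⁻¹ = g.wordS F (lw 1) by group,
            g.lamT_word_ker hinj ψ K hK (hlwK 1 hone) (hlw 1 hone)]
        have h3 : σ.coeff ((dd 1)⁻¹ * (((1 : ↥(g.cellU F w0)) : ↥(D.group F)) * n0)⁻¹ * n0) = 1 := by
          have h4 := hσH _ (hdd 1 hone)
          rw [h2, one_smul] at h4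
          have h5 := congrArg (fun z => z.coeff 1) h4
          simp only [DZero.coeff_dlt_mul, hσ1, mul_one] at h5
          rw [show (dd 1)⁻¹ * (((1 : ↥(g.cellU F w0)) : ↥(D.group F)) * n0)⁻¹ * n0 = (dd 1)⁻¹ by
            rw [OneMemClass.coe_one, one_mul, mul_assoc, inv_mul_cancel, mul_one]]
          exact h5
        rw [← mul_assoc] at h
        exact one_ne_zero (h3.symm.trans h)
      · intro a _ hne
        rw [← DZero.coeff_dlt_mul (dd 1)]
        refine hB 1 hone _ fun hin => hne (Subtype.ext ?_)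
        refine (g.cellU_bijOn (F := F) hc hw0).injOn a.2 (one_mem _) ?_
        refine QuotientGroup.eq.2 ?_
        rw [OneMemClass.coe_one, one_mul]
        exact hin
      · simp
    · simp only [f, cellSum, Finset.sum_mul, MonoidAlgebra.coeff_sum, Finset.sum_apply',
        DZero.coeff_dlt_mul]
      refine Finset.sum_eq_zero fun a _ => ?_
      rw [← DZero.coeff_dlt_mul (dd x)]
      refine hB x hx _ fun hin => hne ?_
      have h1 : n0 ∈ g.cellW F (x * w0) :=
        ⟨a, Subgroup.mem_subgroupOf.2 (Subgroup.mem_sup_left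
          (g.minus_le_pos _ (Subgroup.mem_subgroupOf.1 a.2))), _, hin, by group⟩
      have h2 := g.cellW_unique hc hw0 (mul_mem (hWKw x hx) hw0) (g.nW_mem_cellW w0) h1
      exact mul_eq_right.1 h2.symm
  · intro u hu
    rw [hvdef, Finset.mul_sum]
    exact Finset.sum_congr rfl fun x hx => hfix x hx u hu
  · intro i c
    rw [hvdef, Finset.mul_sum, Finset.smul_sum]
    refine Finset.sum_congr rfl fun x hx => ?_
    rw [hH x hx _ (g.hG_mem (g.simple_lt i.2) c), g.lamT_hS]
  · intro i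
    rw [hvdef, Finset.mul_sum, Finset.smul_sum]
    by_cases hi : i ∈ K
    · rw [if_neg (fun h => h.2 hi)]
      simp only [zero_smul, Finset.sum_const_zero]
      rw [← Finset.sum_filter_add_sum_filter_not WK
        (fun x => half D ≤ ((x * w0)⁻¹ (g.sroot i)).val)]
      have e2 : ∀ x ∈ WK.filter (fun x => ¬ half D ≤ ((x * w0)⁻¹ (g.sroot i)).val),
          g.stepSum k i * f x = - f x := fun x hx => by
        obtain ⟨hx1, hx2⟩ := Finset.mem_filter.1 hx
        rw [hTdown i x hx1 (Nat.not_le.1 hx2), hSsum, if_pos (hK i hi), neg_one_smul]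
      rw [Finset.sum_congr rfl fun x hx =>
          hTup i hi x (Finset.mem_filter.1 hx).1 (Finset.mem_filter.1 hx).2,
        Finset.sum_congr rfl e2, Finset.sum_neg_distrib, ← sub_eq_add_neg, sub_eq_zero]
      have hflip : ∀ x ∈ WK, (half D ≤ (((g.rperm i * x) * w0)⁻¹ (g.sroot i)).val ↔
          ¬ half D ≤ ((x * w0)⁻¹ (g.sroot i)).val) := fun x hx => by
        rw [hdir, hdir, _root_.mul_inv_rev, g.rperm_inv, Equiv.Perm.mul_apply, g.rperm_sroot,
          g.weyl_nroot (inv_mem (hWKw x hx))]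
        rw [Nat.not_lt, ← not_iff_not, Nat.not_lt, g.nroot_pos_iff, Nat.not_le]
      refine Finset.sum_nbij' (fun x => g.rperm i * x) (fun x => g.rperm i * x) ?_ ?_ ?_ ?_ ?_
      · intro x hx
        obtain ⟨hx1, hx2⟩ := Finset.mem_filter.1 hx
        exact Finset.mem_filter.2 ⟨hWKmul i hi x hx1, fun h => (hflip x hx1).1 h hx2⟩
      · intro x hx
        obtain ⟨hx1, hx2⟩ := Finset.mem_filter.1 hx
        exact Finset.mem_filter.2 ⟨hWKmul i hi x hx1, (hflip x hx1).2 hx2⟩
      · intro x _; show g.rperm i * (g.rperm i * x) = x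
        rw [← mul_assoc, g.rperm_mul_self, one_mul]
      · intro x _; show g.rperm i * (g.rperm i * x) = x
        rw [← mul_assoc, g.rperm_mul_self, one_mul]
      · intro x _; rfl
    · refine Finset.sum_congr rfl fun x hx => ?_
      have hnsupp : ¬ g.SuppIn J (g.sroot i) := fun h => by
        have h1 := h i i.2 (fun hiJ => hi ((hJ i).1 hiJ))
        rw [show ((g.sroot i : Fin D.nroots) : ℕ) = D.simple i from rfl, g.co_simple i.2 i.2,
          if_pos rfl] at h1
        exact one_ne_zero h1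
      have hdesc : ((x * w0)⁻¹ (g.sroot i)).val < half D := Nat.not_le.1 fun h =>
        absurd ((hdir i x).1 h) (Nat.not_lt.2
          (g.pos_of_not_supp (inv_mem (Finset.mem_filter.1 hx).2) (g.sroot_pos i) hnsupp))
      rw [hTdown i x hx hdesc, hSsum]
      simp [hi]

end

end Good

end CfsgLib.Chev
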