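import Mathlib
import Cfsg.Agent.Lib.Block.GroupAlg

/-!
Brauer's count: over an algebraically closed field of characteristic `p`, the group algebra maps
onto a product of as many matrix algebras as there are `p`-regular classes, with nilpotent kernel.
-/

set_option autoImplicit false
set_option linter.unusedSectionVars false

namespace CfsgLib.KnownB.SCount

open MonoidAlgebra CfsgLib.Block

universe u v

variable {G : Type u} [Group G] {k : Type v} [Field k]

/-- The linear functional of a function on the group. -/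
noncomputable def lin [Fintype G] (δ : G → k) : MonoidAlgebra k G →ₗ[k] k where
  toFun x := ∑ g, x.coeff g * δ g
  map_add' x y := by simp [add_mul, Finset.sum_add_distrib]
  map_smul' c x := by simp [mul_assoc, Finset.mul_sum]

lemma lin_single [Fintype G] (δ : G → k) (g : G) (c : k) :
    lin δ (single g c) = c * δ g := by
  classical
  show ∑ x, (single g c).coeff x * δ x = _
  rw [Finset.sum_eq_single g (fun x _ hx => by simp [Ne.symm hx]) (by simp)]
  simp

lemma eq_sum_single [Fintype G] (x : MonoidAlgebra k G) : x = ∑ g, single g (x.coeff g) := by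
  classical
  ext g
  simp

/-- Powers, expanded. -/
lemma pow_eq_sum [Fintype G] (x : MonoidAlgebra k G) (n : ℕ) :
    x ^ n = ∑ f : Fin n → G, single (List.ofFn f).prod (∏ i, x.coeff (f i)) := by
  classical
  induction n with
  | zero =>
    rw [pow_zero, Fintype.sum_unique]
    simp [MonoidAlgebra.one_def]
  | succ n ih =>
    rw [pow_succ', ih]
    conv_lhs => arg 1; rw [eq_sum_single x]
    rw [Finset.sum_mul_sum, ← Finset.sum_product', Finset.univ_product_univ]
    refine Fintype.sum_equiv (Fin.consEquiv fun _ : Fin (n + 1) => G) _ _ fun q => ?_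
    simp [single_mul_single, Fin.consEquiv, Fin.prod_univ_succ, List.ofFn_succ]

section

variable [Fintype G] {p : ℕ} [Fact p.Prime] [hkp : CharP k p]
include hkp

/-- A class functional turns a `p`-th power into sums over the diagonal. -/
lemma lin_pow_char {δ : G → k} (hδ : ∀ a b, δ (a * b) = δ (b * a)) (x : MonoidAlgebra k G) :
    lin δ (x ^ p) = ∑ g, x.coeff g ^ p * δ (g ^ p) := by
  classical
  obtain ⟨n, rfl⟩ : ∃ n, p = n + 2 :=
    ⟨p - 2, by have := (Fact.out : p.Prime).two_le; omega⟩
  set σ : Equiv.Perm (Fin (n + 2)) := finRotate (n + 2)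
  let Q := Subgroup.zpowers σ
  let _ : MulAction Q (Fin (n + 2) → G) :=
    { smul := fun q f => f ∘ ⇑((q : Equiv.Perm (Fin (n + 2)))⁻¹)
      one_smul := fun f => by
        change f ∘ ⇑((1 : Equiv.Perm (Fin (n + 2)))⁻¹) = f
        simp
      mul_smul := fun q r f => by
        change f ∘ ⇑(((q * r : Q) : Equiv.Perm (Fin (n + 2)))⁻¹) =
          (f ∘ ⇑((r : Equiv.Perm (Fin (n + 2)))⁻¹)) ∘ ⇑((q : Equiv.Perm (Fin (n + 2)))⁻¹)
        rw [Subgroup.coe_mul, mul_inv_rev]
        rfl }
  have hQ : IsPGroup (n + 2) Q := by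
    refine IsPGroup.of_card (n := 1) ?_
    rw [Nat.card_zpowers, pow_one, (isCycle_finRotate).orderOf, support_finRotate,
      Finset.card_univ, Fintype.card_fin]
  set φ : (Fin (n + 2) → G) → k := fun f => (∏ i, x.coeff (f i)) * δ (List.ofFn f).prod
  have hrot : ∀ f : Fin (n + 2) → G, φ (f ∘ ⇑σ) = φ f := by
    intro f
    simp only [φ, Function.comp_apply]
    rw [Equiv.prod_comp σ fun i => x.coeff (f i)]
    congr 1
    have h1 : List.ofFn (fun i => f (σ i)) =
        List.ofFn (fun i : Fin (n + 1) => f i.succ) ++ [f 0] := by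
      rw [List.ofFn_succ' (f := fun i => f (σ i)), List.concat_eq_append]
      congr 1
      · refine congrArg List.ofFn (funext fun i => ?_)
        simp [σ, finRotate_apply, Fin.coeSucc_eq_succ]
      · simp [σ, finRotate_apply]
    rw [show (f ∘ ⇑σ) = fun i => f (σ i) from rfl, h1, List.prod_append, List.prod_singleton, hδ,
      List.ofFn_succ (f := f), List.prod_cons]
  have hzp : ∀ (m : ℕ) (f : Fin (n + 2) → G), φ (f ∘ ⇑(σ ^ m)) = φ f := by
    intro m
    induction m with
    | zero => intro f; simp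
    | succ m ih =>
      intro f
      rw [pow_succ, Equiv.Perm.coe_mul, ← Function.comp_assoc, hrot, ih]
  have hinv : ∀ (q : Q) (f : Fin (n + 2) → G), φ (q • f) = φ f := by
    intro q f
    show φ (f ∘ ⇑((q : Equiv.Perm (Fin (n + 2)))⁻¹)) = φ f
    obtain ⟨m, hm⟩ := (isOfFinOrder_of_finite σ).mem_powers_iff_mem_zpowers.2
      (inv_mem q.2 : (q : Equiv.Perm (Fin (n + 2)))⁻¹ ∈ Q)
    rw [show (q : Equiv.Perm (Fin (n + 2)))⁻¹ = σ ^ m from hm.symm]
    exact hzp m f
  have hk : ∀ v : k, (n + 2) • v = 0 := fun v => by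
    rw [nsmul_eq_mul, CharP.cast_eq_zero, zero_mul]
  rw [pow_eq_sum, map_sum]
  simp only [lin_single]
  rw [show (∑ f : Fin (n + 2) → G, (∏ i, x.coeff (f i)) * δ (List.ofFn f).prod) = ∑ f, φ f from rfl,
    sum_eq_sum_fixed hQ hk φ hinv]
  refine (Finset.sum_nbij' (fun g => fun _ => g) (fun f => f 0) ?_ ?_ ?_ ?_ ?_).symm
  · intro g _
    refine Finset.mem_filter.2 ⟨Finset.mem_univ _, fun q => ?_⟩
    rfl
  · intro f _; exact Finset.mem_univ _
  · intro g _; rfl
  · intro f hf
    have hf' := (Finset.mem_filter.1 hf).2 (⟨σ, Subgroup.mem_zpowers σ⟩⁻¹ : Q)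
    have hf1 : ∀ i, f (σ i) = f i := fun i => by
      have h := congrFun hf' i
      change f ((((⟨σ, Subgroup.mem_zpowers σ⟩ : Q)⁻¹ : Q) : Equiv.Perm (Fin (n + 2)))⁻¹ i) = f i at h
      simpa using h
    funext i
    induction i using Fin.induction with
    | zero => rfl
    | succ i ih =>
      have h := hf1 i.castSucc
      rw [finRotate_apply, Fin.coeSucc_eq_succ] at h
      rw [h]; exact ih
  · intro g _
    simp [φ, List.ofFn_const, List.prod_replicate]
    exact Or.inl (by rw [← pow_succ', ← pow_succ'])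

/-- Nilpotent elements are killed by class functions constant on sections. -/
lemma lin_nilpotent {x : MonoidAlgebra k G} (hx : IsNilpotent x) {δ : G → k} (b : ℕ) (hb : 0 < b)
    (hδ : ∀ a c, δ (a * c) = δ (c * a)) (hδb : ∀ g, δ (g ^ p ^ b) = δ g)
    (hδp : ∀ g, δ g ^ p = δ g) : lin δ x = 0 := by
  have key : ∀ (j : ℕ) (δ : G → k), (∀ a c, δ (a * c) = δ (c * a)) → (∀ g, δ g ^ p = δ g) →
      lin δ (x ^ p ^ j) = (lin (fun g => δ (g ^ p ^ j)) x) ^ p ^ j := by
    intro j
    induction j with
    | zero => intro δ _ _; simp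
    | succ j ih =>
      intro δ h1 h2
      have h3 : ∀ a c : G, δ ((a * c) ^ p) = δ ((c * a) ^ p) := by
        intro a c
        rw [show (c * a) ^ p = a⁻¹ * (a * c) ^ p * a by
          rw [show (c * a) = a⁻¹ * (a * c) * a⁻¹⁻¹ by group, conj_pow, inv_inv]]
        conv_rhs => rw [h1, ← mul_assoc, mul_inv_cancel, one_mul]
      rw [pow_succ, pow_mul, lin_pow_char h1]
      have h4 : ∀ g, δ (g ^ p) = δ (g ^ p) ^ p := fun g => (h2 _).symm
      simp only [fun g => show (x ^ p ^ j).coeff g ^ p * δ (g ^ p) =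
        ((x ^ p ^ j).coeff g * δ (g ^ p)) ^ p by rw [mul_pow, ← h4]]
      rw [← sum_pow_char, pow_mul _ (p ^ j) p]
      congr 1
      refine (ih (fun g => δ (g ^ p)) h3 fun g => h2 _).trans ?_
      simp only [← pow_mul]
  have hbig : ∀ m : ℕ, ∀ g, δ (g ^ p ^ (b * m)) = δ g := by
    intro m
    induction m with
    | zero => simp
    | succ m ih =>
      intro g
      rw [Nat.mul_succ, pow_add, pow_mul, hδb, ih]
  obtain ⟨N, hN⟩ := hx
  have h0 := key (b * N) δ hδ hδp
  have hle : N ≤ p ^ (b * N) := (Nat.le_mul_of_pos_left N hb).trans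
    (Nat.lt_pow_self (Fact.out : p.Prime).one_lt).le
  rw [pow_eq_zero_of_le hle hN, map_zero] at h0
  have h1 := eq_zero_of_pow_eq_zero h0.symm
  simpa [hbig] using h1

end

/-- The exponent cutting out `p`-regular parts. -/
lemma exists_section_exponent (G : Type u) [Group G] [Finite G] (p : ℕ) [Fact p.Prime] :
    ∃ b : ℕ, 0 < b ∧ (∀ g : G, (g ^ p ^ b) ^ p ^ b = g ^ p ^ b) ∧
      (∀ g : G, (orderOf (g ^ p ^ b)).Coprime p) ∧
      (∀ g : G, (orderOf g).Coprime p → g ^ p ^ b = g) ∧
      ∀ g : G, ((g ^ p ^ b)⁻¹ * g) ^ p ^ b = 1 := by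
  have hp : p.Prime := Fact.out
  set a := (Nat.card G).factorization p
  set m := Nat.card G / p ^ a
  have hG : p ^ a * m = Nat.card G := Nat.ordProj_mul_ordCompl_eq_self _ p
  have hpm : Nat.Coprime p m := hp.coprime_iff_not_dvd.2
    (Nat.not_dvd_ordCompl hp Nat.card_pos.ne')
  have hm0 : 0 < Nat.totient m := Nat.totient_pos.2 (by
    rcases Nat.eq_zero_or_pos m with h | h
    · rw [h, mul_zero] at hG; exact absurd hG.symm Nat.card_pos.ne'
    · exact h)
  refine ⟨(a + 1) * Nat.totient m, Nat.mul_pos (Nat.succ_pos _) hm0, ?_⟩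
  set b := (a + 1) * Nat.totient m
  have hab : a ≤ b := le_trans (Nat.le_succ a) (Nat.le_mul_of_pos_right _ hm0)
  have hone : p ^ b ≡ 1 [MOD m] := by
    have := (Nat.ModEq.pow_totient hpm).pow (a + 1)
    rwa [one_pow, ← pow_mul, mul_comm] at this
  have hidem : ∀ g : G, (g ^ p ^ b) ^ p ^ b = g ^ p ^ b := by
    intro g
    rw [← pow_mul]
    apply pow_eq_pow_iff_modEq.2
    refine Nat.ModEq.of_dvd ((orderOf_dvd_natCard g).trans hG.symm.dvd) ?_
    refine (Nat.modEq_and_modEq_iff_modEq_mul (Nat.Coprime.pow_left a hpm)).1 ⟨?_, ?_⟩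
    · exact ((Nat.modEq_zero_iff_dvd).2 (Dvd.dvd.mul_right (pow_dvd_pow p hab) _)).trans
        ((Nat.modEq_zero_iff_dvd).2 (pow_dvd_pow p hab)).symm
    · simpa using hone.mul_left (p ^ b)
  have hcop : ∀ g : G, (orderOf (g ^ p ^ b)).Coprime p := by
    intro g
    refine Nat.Coprime.coprime_dvd_left (orderOf_dvd_of_pow_eq_one ?_) hpm.symm
    rw [← pow_mul, ← orderOf_dvd_iff_pow_eq_one]
    exact (orderOf_dvd_natCard g).trans (hG ▸ Nat.mul_dvd_mul_right (pow_dvd_pow p hab) m)
  refine ⟨hidem, hcop, fun g hg => ?_, fun g => ?_⟩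
  · conv_rhs => rw [← pow_one g]
    apply pow_eq_pow_iff_modEq.2
    refine hone.of_dvd ?_
    exact (Nat.Coprime.pow_right a hg).dvd_of_dvd_mul_left (hG.symm ▸ orderOf_dvd_natCard g)
  · rw [(((Commute.refl g).pow_left (p ^ b)).inv_left).mul_pow, inv_pow, hidem, inv_mul_cancel]

variable (G k) in
/-- Brauer's theorem: as many simple modules as `p`-regular classes. -/
theorem exists_split_count [Finite G] [IsAlgClosed k] (p : ℕ) [Fact p.Prime] [CharP k p] :
    ∃ (n : ℕ) (d : Fin n → ℕ)
      (π : MonoidAlgebra k G →ₐ[k] Π i, Matrix (Fin (d i)) (Fin (d i)) k),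
      (∀ i, NeZero (d i)) ∧ Function.Surjective π ∧ (∀ x, π x = 0 → IsNilpotent x) ∧
      n = Nat.card {c : ConjClasses G // ∃ g, ConjClasses.mk g = c ∧ (orderOf g).Coprime p} := by
  classical
  have := Fintype.ofFinite G
  have : Module.Finite k (MonoidAlgebra k G) :=
    Module.Finite.of_surjective (Fintype.linearCombination k fun g : G => single g (1 : k))
      fun x => ⟨fun g => x.coeff g, by
        conv_rhs => rw [eq_sum_single x]
        simp [Fintype.linearCombination_apply]⟩
  have : IsArtinianRing (MonoidAlgebra k G) := IsArtinianRing.of_finite k _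
  set J := Ring.jacobson (MonoidAlgebra k G) with hJ
  have : IsSemisimpleRing (MonoidAlgebra k G ⧸ J) := IsSemiprimaryRing.isSemisimpleRing
  have : Module.Finite k (MonoidAlgebra k G ⧸ J) :=
    Module.Finite.of_surjective (Ideal.Quotient.mkₐ k J).toLinearMap
      (Ideal.Quotient.mkₐ_surjective k J)
  obtain ⟨n, d, hd, ⟨e⟩⟩ :=
    IsSemisimpleRing.exists_algEquiv_pi_matrix_of_isAlgClosed k (MonoidAlgebra k G ⧸ J)
  set π := e.toAlgHom.comp (Ideal.Quotient.mkₐ k J)
  have hπ : Function.Surjective π := e.surjective.comp (Ideal.Quotient.mkₐ_surjective k J)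
  have hnil : ∀ x, π x = 0 → IsNilpotent x := by
    intro x hx
    have hxJ : x ∈ J := Ideal.Quotient.eq_zero_iff_mem.1
      (e.injective (hx.trans (map_zero e).symm))
    obtain ⟨N, hN⟩ := IsSemiprimaryRing.isNilpotent (R := MonoidAlgebra k G)
    refine ⟨N, ?_⟩
    have := Ideal.pow_mem_pow hxJ N
    rwa [hJ, hN, Submodule.zero_eq_bot, Ideal.mem_bot] at this
  refine ⟨n, d, π, hd, hπ, hnil, ?_⟩
  obtain ⟨b, hb, hidem, hcop, hreg, hpart⟩ := exists_section_exponent G p
  set C := {c : ConjClasses G // ∃ g, ConjClasses.mk g = c ∧ (orderOf g).Coprime p}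
  let τ : Fin n → MonoidAlgebra k G →ₗ[k] k := fun i =>
    (Matrix.traceLinearMap (Fin (d i)) k k) ∘ₗ (LinearMap.proj i) ∘ₗ π.toLinearMap
  have hτ : ∀ i x, τ i x = Matrix.trace (π x i) := fun i x => rfl
  have hτcomm : ∀ i x y, τ i (x * y) = τ i (y * x) := fun i x y => by
    rw [hτ, hτ, map_mul, map_mul, Pi.mul_apply, Pi.mul_apply, Matrix.trace_mul_comm]
  have hτsec : ∀ i (g : G), τ i (single g 1) = τ i (single (g ^ p ^ b) 1) := by
    intro i g
    set A := π (single (g ^ p ^ b) 1) i
    set U := π (single ((g ^ p ^ b)⁻¹ * g) (1 : k)) i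
    have hAU : π (single g 1) i = A * U := by
      rw [show A * U = (π (single (g ^ p ^ b) 1) * π (single ((g ^ p ^ b)⁻¹ * g) 1)) i from rfl,
        ← map_mul, single_mul_single, one_mul, mul_inv_cancel_left]
    have hcomm : Commute A U := by
      rw [Commute, SemiconjBy,
        show A * U = (π (single (g ^ p ^ b) 1) * π (single ((g ^ p ^ b)⁻¹ * g) 1)) i from rfl,
        show U * A = (π (single ((g ^ p ^ b)⁻¹ * g) 1) * π (single (g ^ p ^ b) 1)) i from rfl,
        ← map_mul, ← map_mul, single_mul_single, single_mul_single]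
      group
    have hU : IsNilpotent (U - 1) := by
      have : NeZero (d i) := hd i
      refine ⟨p ^ b, ?_⟩
      rw [sub_pow_char_pow_of_commute _ _ (Commute.one_right U), one_pow,
        show U ^ p ^ b = (π (single ((g ^ p ^ b)⁻¹ * g) 1) ^ p ^ b) i from rfl, ← map_pow,
        single_pow, one_pow, hpart, ← MonoidAlgebra.one_def, map_one, Pi.one_apply, sub_self]
    have h0 : Matrix.trace (A * (U - 1)) = 0 :=
      (Matrix.isNilpotent_trace_of_isNilpotent
        (((hcomm.sub_right (Commute.one_right A))).isNilpotent_mul_left hU)).eq_zero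
    rw [mul_sub, mul_one, Matrix.trace_sub, sub_eq_zero] at h0
    rw [hτ, hτ, hAU, h0]
  let rep : C → G := fun c => c.2.choose
  have hrep : ∀ c : C, ConjClasses.mk (rep c) = c.1 ∧ (orderOf (rep c)).Coprime p := fun c =>
    c.2.choose_spec
  let cls : G → C := fun g => ⟨ConjClasses.mk (g ^ p ^ b), _, rfl, hcop g⟩
  have hrepcls : ∀ c : C, cls (rep c) = c := fun c => Subtype.ext (by
    show ConjClasses.mk (rep c ^ p ^ b) = c.1
    rw [hreg _ (hrep c).2, (hrep c).1])
  have hτcls : ∀ i (g : G), τ i (single g 1) = τ i (single (rep (cls g)) 1) := by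
    intro i g
    rw [hτsec i g]
    obtain ⟨c, hc⟩ := isConj_iff.1 (ConjClasses.mk_eq_mk_iff_isConj.1 (hrep (cls g)).1.symm)
    rw [← hc, show single (c * g ^ p ^ b * c⁻¹) (1 : k) =
      single (c * g ^ p ^ b) 1 * single c⁻¹ 1 by rw [single_mul_single, one_mul],
      hτcomm, single_mul_single, one_mul, inv_mul_cancel_left]
  let Λ : (Fin n → k) →ₗ[k] (C → k) :=
    { toFun := fun a c => ∑ i, a i * τ i (single (rep c) 1)
      map_add' := fun a a' => by funext c; simp [add_mul, Finset.sum_add_distrib]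
      map_smul' := fun r a => by funext c; simp [mul_assoc, Finset.mul_sum] }
  have hΛ : ∀ a c, Λ a c = ∑ i, a i * τ i (single (rep c) 1) := fun a c => rfl
  have hext : ∀ a : Fin n → k, Λ a = 0 → ∀ x, ∑ i, a i * τ i x = 0 := by
    intro a ha x
    rw [eq_sum_single x]
    simp only [map_sum, Finset.mul_sum]
    rw [Finset.sum_comm]
    refine Finset.sum_eq_zero fun g _ => ?_
    have h1 := congrFun ha (cls g)
    rw [hΛ, Pi.zero_apply] at h1
    rw [Finset.sum_congr rfl fun i _ => show a i * τ i (single g (x.coeff g)) =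
      x.coeff g * (a i * τ i (single (rep (cls g)) 1)) by
        rw [show single g (x.coeff g) = x.coeff g • single g (1 : k) by simp, map_smul,
          smul_eq_mul, hτcls i g]
        ring, ← Finset.mul_sum, h1, mul_zero]
  have hinj : Function.Injective Λ := by
    rw [← LinearMap.ker_eq_bot, LinearMap.ker_eq_bot']
    intro a ha
    funext i
    have : NeZero (d i) := hd i
    obtain ⟨x, hx⟩ := hπ (Pi.single i (Matrix.single 0 0 (1 : k)))
    have h1 := hext a ha x
    rw [Finset.sum_eq_single i (fun j _ hj => by rw [hτ, hx, Pi.single_eq_of_ne hj]; simp)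
      (by simp), hτ, hx, Pi.single_eq_same, Matrix.trace_single_eq_same, mul_one] at h1
    exact h1
  have hsurj : ∀ c : C, ∃ a, Λ a = Pi.single c 1 := by
    intro c
    let δ : G → k := fun g => if cls g = c then 1 else 0
    have hδc : ∀ u v : G, δ (u * v) = δ (v * u) := by
      intro u v
      have : cls (u * v) = cls (v * u) := Subtype.ext (ConjClasses.mk_eq_mk_iff_isConj.2
        (isConj_iff.2 ⟨u⁻¹, by rw [← conj_pow]; group⟩))
      simp only [δ, this]
    have hδb : ∀ g, δ (g ^ p ^ b) = δ g := fun g => by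
      have : cls (g ^ p ^ b) = cls g := Subtype.ext (congrArg ConjClasses.mk (hidem g))
      simp only [δ, this]
    have hδp : ∀ g, δ g ^ p = δ g := fun g => by
      simp only [δ]; split <;> simp [(Fact.out : p.Prime).ne_zero]
    choose s hs using hπ
    let φ : (Π i, Matrix (Fin (d i)) (Fin (d i)) k) → k := fun y => lin δ (s y)
    have hlift : ∀ x, lin δ x = φ (π x) := fun x => by
      have h := lin_nilpotent (hnil (x - s (π x)) (by rw [map_sub, hs, sub_self])) b hb hδc hδb hδp
      rw [map_sub, sub_eq_zero] at h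
      exact h
    have htr : ∀ x y, lin δ (x * y) = lin δ (y * x) := by
      intro x y
      rw [eq_sum_single x, eq_sum_single y]
      simp only [Finset.sum_mul, Finset.mul_sum, map_sum, single_mul_single, lin_single]
      rw [Finset.sum_comm]
      exact Finset.sum_congr rfl fun u _ => Finset.sum_congr rfl fun v _ => by rw [hδc, mul_comm (x.coeff _)]
    let φl : (Π i, Matrix (Fin (d i)) (Fin (d i)) k) →ₗ[k] k :=
      { toFun := φ
        map_add' := fun y y' => by
          conv_lhs => rw [← hs y, ← hs y', ← map_add, ← hlift]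
          rw [map_add]
        map_smul' := fun r y => by
          conv_lhs => rw [← hs y, ← map_smul, ← hlift]
          rw [map_smul]; rfl }
    have hφtr : ∀ y y', φl (y * y') = φl (y' * y) := by
      intro y y'
      show φ (y * y') = φ (y' * y)
      rw [← hs y, ← hs y', ← map_mul, ← map_mul, ← hlift, ← hlift, htr]
    let a : Fin n → k := fun i =>
      haveI := hd i
      φl (Pi.single i (Matrix.single 0 0 1))
    have hdiag : ∀ i (j l : Fin (d i)) (r : k),
        φl (Pi.single i (Matrix.single j l r)) = a i * (if j = l then r else 0) := by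
      intro i j l r
      have : NeZero (d i) := hd i
      have h := hφtr (Pi.single i (Matrix.single j 0 r)) (Pi.single i (Matrix.single 0 l (1 : k)))
      simp only [← Pi.single_mul, Matrix.single_mul_single_same, mul_one] at h
      by_cases hjl : j = l
      · subst hjl
        rw [h, Matrix.single_mul_single_same, one_mul, if_pos rfl,
          show Matrix.single (0 : Fin (d i)) (0 : Fin (d i)) r =
            r • Matrix.single (0 : Fin (d i)) (0 : Fin (d i)) (1 : k) by simp,
          Pi.single_smul, map_smul, smul_eq_mul, mul_comm]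
      · rw [h, Matrix.single_mul_single_of_ne _ _ _ _ (Ne.symm hjl), Pi.single_zero, map_zero,
          if_neg hjl, mul_zero]
    have hφ : ∀ y, φl y = ∑ i, a i * Matrix.trace (y i) := by
      intro y
      conv_lhs => rw [← Finset.univ_sum_single y]
      rw [map_sum]
      refine Finset.sum_congr rfl fun i _ => ?_
      conv_lhs => rw [Matrix.matrix_eq_sum_single (y i)]
      rw [← LinearMap.coe_single (R := k), map_sum, map_sum]
      simp only [map_sum, LinearMap.coe_single, hdiag, Matrix.trace, Matrix.diag,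
        Finset.mul_sum, mul_ite, mul_zero, Finset.sum_ite_eq, Finset.mem_univ, if_true]
    refine ⟨a, funext fun c' => ?_⟩
    have h1 : lin δ (single (rep c') 1) = φl (π (single (rep c') 1)) := hlift _
    rw [hφ, lin_single, one_mul] at h1
    rw [hΛ]
    simp only [hτ]
    rw [← h1]
    simp only [δ, hrepcls, Pi.single_apply]
  have hsurj' : Function.Surjective Λ := fun f => by
    choose a ha using hsurj
    refine ⟨∑ c, f c • a c, ?_⟩
    rw [map_sum]
    funext c'
    simp only [map_smul, ha, Finset.sum_apply, Pi.smul_apply, Pi.single_apply, smul_eq_mul,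
      mul_ite, mul_one, mul_zero]
    rw [Finset.sum_eq_single c' (fun x _ hx => if_neg (Ne.symm hx)) (by simp), if_pos rfl]
  have := (LinearEquiv.ofBijective Λ ⟨hinj, hsurj'⟩).finrank_eq
  rw [Module.finrank_fintype_fun_eq_card, Module.finrank_fintype_fun_eq_card, Fintype.card_fin,
    ← Nat.card_eq_fintype_card] at this
  exact this

end CfsgLib.KnownB.SCount
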