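import Mathlib
import Cfsg.Agent.Lib.KnownB.SimpleCount
import Cfsg.Agent.Lib.KnownB.ChevWeightExist

/-!
Steinberg's count: a Chevalley group whose torus has full order `(q - 1)^l` has exactly `q^l` classes
of `p`-regular elements.
-/

set_option autoImplicit false
set_option linter.unusedSectionVars false

namespace CfsgLib.KnownB.SCount

universe u v w

/-- A `p`-group acting linearly in characteristic `p` fixes a nonzero vector. -/
lemma exists_fixed_of_pgroup {Q : Type u} [Group Q] [Finite Q] {p : ℕ} [Fact p.Prime]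
    (hQ : IsPGroup p Q) {k : Type v} [Field k] [CharP k p] {W : Type w} [AddCommGroup W]
    [Module k W] (ρ : Q →* Module.End k W) {w0 : W} (hw0 : w0 ≠ 0) :
    ∃ w : W, w ≠ 0 ∧ ∀ q, ρ q w = w := by
  classical
  let A : AddSubgroup W := AddSubgroup.closure (Set.range fun q : Q => ρ q w0)
  have hp' : ∀ w : W, p • w = 0 := fun w => by
    rw [← Nat.cast_smul_eq_nsmul k, CharP.cast_eq_zero, zero_smul]
  have hAp : ∀ w : A, p • w = 0 := fun w => Subtype.ext (hp' w.1)
  have : Finite A := by
    have : AddGroup.FG A := (AddGroup.fg_iff_addSubgroup_fg _).2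
      ⟨(Set.finite_range _).toFinset, by rw [Set.Finite.coe_toFinset]⟩
    exact AddCommGroup.finite_of_fg_isAddTorsion _ fun w =>
      isOfFinAddOrder_iff_nsmul_eq_zero.2 ⟨p, (Fact.out : p.Prime).pos, hAp w⟩
  have hclosed : ∀ (q : Q), ∀ w ∈ A, ρ q w ∈ A := by
    intro q w hw
    induction hw using AddSubgroup.closure_induction with
    | mem x hx =>
      obtain ⟨q', rfl⟩ := hx
      exact AddSubgroup.subset_closure ⟨q * q', by simp only [map_mul, Module.End.mul_apply]⟩
    | zero => rw [map_zero]; exact zero_mem _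
    | add x y _ _ hx hy => rw [map_add]; exact add_mem hx hy
    | neg x _ hx => rw [map_neg]; exact neg_mem hx
  let _ : MulAction Q A :=
    { smul := fun q w => ⟨ρ q w.1, hclosed q _ w.2⟩
      one_smul := fun w => Subtype.ext (by change ρ 1 w.1 = w.1; rw [map_one]; rfl)
      mul_smul := fun q q' w => Subtype.ext (by
        change ρ (q * q') w.1 = ρ q (ρ q' w.1); rw [map_mul]; rfl) }
  have heA : w0 ∈ A := AddSubgroup.subset_closure ⟨1, by simp only [map_one, Module.End.one_apply]⟩
  have hdvd : p ∣ Nat.card A := by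
    have hord := addOrderOf_eq_prime (hAp ⟨w0, heA⟩) (fun h => hw0 (congrArg Subtype.val h))
    exact (Eq.symm hord).dvd.trans (addOrderOf_dvd_natCard _)
  have hfix := (hQ.card_modEq_card_fixedPoints A).symm.trans (Nat.modEq_zero_iff_dvd.2 hdvd)
  rw [Nat.modEq_zero_iff_dvd] at hfix
  have hzero : (0 : A) ∈ MulAction.fixedPoints Q A := fun q => Subtype.ext (map_zero _)
  obtain ⟨⟨w, hw⟩, hwne⟩ : ∃ w : MulAction.fixedPoints Q A, w ≠ ⟨0, hzero⟩ := by
    have hpos : 0 < Nat.card (MulAction.fixedPoints Q A) :=
      Nat.card_pos_iff.2 ⟨⟨⟨0, hzero⟩⟩, inferInstance⟩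
    have : 1 < Nat.card (MulAction.fixedPoints Q A) :=
      lt_of_lt_of_le (Fact.out (p := p.Prime)).one_lt (Nat.le_of_dvd hpos hfix)
    have := Finite.one_lt_card_iff_nontrivial.1 this
    exact exists_ne _
  exact ⟨w.1, fun h => hwne (Subtype.ext (Subtype.ext h)), fun q => congrArg Subtype.val (hw q)⟩

end CfsgLib.KnownB.SCount

namespace CfsgLib.Chev

open Cfsg.Lie Matrix MonoidAlgebra CfsgLib.KnownB CfsgLib.Block

variable {D : ChevalleyDatum}

namespace Good

variable (g : Good D) {F : Type*} [Field F] [Fintype F]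

include g in
set_option maxHeartbeats 1600000 in
/-- Steinberg's count of semisimple classes. -/
theorem card_regular_classes (hc : HasComm D) (hinj : Function.Injective (torHom D F))
    (p : ℕ) [Fact p.Prime] [CharP F p] :
    Nat.card {c : ConjClasses ↥(D.group F) //
        ∃ x : ↥(D.group F), ConjClasses.mk x = c ∧ (orderOf x).Coprime p} =
      Fintype.card F ^ D.rank := by
  classical
  let k := AlgebraicClosure (ZMod p)
  have : Finite ↥(D.group F) := Finite.of_injective _ Subtype.val_injective
  have := Fintype.ofFinite ↥(D.group F)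
  have := Fintype.ofFinite ↥(posIn D F)
  have hcardF : (Fintype.card F : k) = 0 := by
    obtain ⟨n, hn⟩ := card_field_pow (F := F) p
    rw [hn, Nat.cast_pow, CharP.cast_eq_zero, zero_pow n.ne_zero]
  have hq1 : (Fintype.card Fˣ : k) = -1 := by
    rw [Fintype.card_units, Nat.cast_sub Fintype.card_pos, hcardF]
    simp
  obtain ⟨n, d, π, hd, hsurj, hnil, hn⟩ := SCount.exists_split_count (G := ↥(D.group F)) k p
  rw [← hn]
  let z0 : ∀ i, Fin (d i) := fun i => haveI := hd i; 0
  -- the simple modules inside the group algebra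
  let ι : ∀ i, (Fin (d i) → k) →ₗ[k] MonoidAlgebra k ↥(D.group F) := fun i =>
    { toFun := fun w => ∑ x : ↥(D.group F),
        ((π (DZero.dlt k x⁻¹) i) *ᵥ w) (z0 i) • DZero.dlt k x
      map_add' := fun w w' => by
        simp [Matrix.mulVec_add, add_smul, Finset.sum_add_distrib]
      map_smul' := fun r w => by
        simp [Matrix.mulVec_smul, Finset.smul_sum, smul_smul] }
  have hι : ∀ i w, ι i w = ∑ x : ↥(D.group F),
      ((π (DZero.dlt k x⁻¹) i) *ᵥ w) (z0 i) • DZero.dlt k x := fun i w => rfl
  have hdec : ∀ a : MonoidAlgebra k ↥(D.group F),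
      a = ∑ x : ↥(D.group F), a.coeff x • DZero.dlt k x := fun a => by
    ext y; simp [DZero.dlt]
  have hequi : ∀ i a w, a * ι i w = ι i ((π a i) *ᵥ w) := by
    intro i a w
    conv_lhs => rw [hdec a]
    conv_rhs => rw [hdec a]
    rw [Finset.sum_mul, map_sum, Finset.sum_apply, Matrix.sum_mulVec, map_sum]
    refine Finset.sum_congr rfl fun h _ => ?_
    rw [map_smul, Pi.smul_apply, Matrix.smul_mulVec, map_smul, smul_mul_assoc]
    congr 1
    rw [hι, hι, Finset.mul_sum]
    refine Fintype.sum_equiv (Equiv.mulLeft h) _ _ fun x => ?_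
    rw [mul_smul_comm, DZero.dlt_mul, Equiv.coe_mulLeft, Matrix.mulVec_mulVec, ← Pi.mul_apply,
      ← map_mul, DZero.dlt_mul]
    congr 4
    group
  have hιinj : ∀ i w, ι i w = 0 → w = 0 := by
    intro i w hw
    have h0 : ∀ a : MonoidAlgebra k ↥(D.group F), ((π a i) *ᵥ w) (z0 i) = 0 := by
      intro a
      rw [hdec a, map_sum, Finset.sum_apply, Matrix.sum_mulVec, Finset.sum_apply]
      refine Finset.sum_eq_zero fun y _ => ?_
      rw [map_smul, Pi.smul_apply, Matrix.smul_mulVec, Pi.smul_apply]
      have h := congrArg (fun z => z.coeff y⁻¹) hw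
      rw [hι] at h
      simp only [DZero.dlt, MonoidAlgebra.coeff_sum, Finset.sum_apply', MonoidAlgebra.coeff_smul,
        MonoidAlgebra.coeff_single, Finsupp.smul_apply, Finsupp.single_apply, smul_eq_mul, mul_ite,
        mul_one, mul_zero, MonoidAlgebra.coeff_zero, Finsupp.zero_apply] at h
      rw [Finset.sum_ite_eq' Finset.univ y⁻¹, if_pos (Finset.mem_univ _), inv_inv] at h
      rw [show (π (DZero.dlt k y) i *ᵥ w) (z0 i) = 0 from h, smul_zero]
    funext j
    obtain ⟨a, ha⟩ := hsurj (Pi.single i (Matrix.single (z0 i) j 1))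
    have h := h0 a
    rw [ha, Pi.single_eq_same] at h
    simpa [Matrix.mulVec, dotProduct, Matrix.single_apply] using h
  let N : ∀ i, Submodule k (MonoidAlgebra k ↥(D.group F)) := fun i => LinearMap.range (ι i)
  have hNl : ∀ i (a : MonoidAlgebra k ↥(D.group F)), ∀ z ∈ N i, a * z ∈ N i := by
    rintro i a z ⟨w, rfl⟩
    exact ⟨_, (hequi i a w).symm⟩
  have hirr : ∀ i, ∀ v ∈ N i, v ≠ 0 → ∀ z ∈ N i, ∃ a, a * v = z := by
    rintro i v ⟨w, rfl⟩ hv z ⟨u, rfl⟩
    obtain ⟨j, hj⟩ : ∃ j, w j ≠ 0 := by
      by_contra hcon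
      push Not at hcon
      exact hv (by rw [show w = 0 from funext hcon, map_zero])
    obtain ⟨a, ha⟩ := hsurj (Pi.single i (Matrix.of fun l m => if m = j then u l * (w j)⁻¹ else 0))
    refine ⟨a, ?_⟩
    rw [hequi, ha, Pi.single_eq_same]
    congr 1
    funext l
    simp [Matrix.mulVec, dotProduct, mul_assoc, hj]
  -- invariant functionals
  obtain ⟨n0, hn0, hmap⟩ := g.exists_map_pos_eq_neg (F := F)
  have hposP : IsPGroup p ↥(posIn D F) := by
    obtain ⟨m, hm⟩ := card_field_pow (F := F) p
    exact IsPGroup.of_card (n := m * (D.nroots / 2)) (by rw [g.card_posIn hc, hm, ← pow_mul])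
  have hnegP : IsPGroup p ↥(negIn D F) := by
    intro y
    have hy : ((y : ↥(D.group F)) : GL D.Idx F) ∈ D.negUnipotent F :=
      Subgroup.mem_subgroupOf.1 y.2
    rw [← hmap] at hy
    obtain ⟨u, hu, he⟩ := hy
    obtain ⟨m, hm⟩ := hposP ⟨⟨u, g.posUnipotent_le_group hu⟩, Subgroup.mem_subgroupOf.2 hu⟩
    refine ⟨m, Subtype.ext (Subtype.ext ?_)⟩
    have hm' : u ^ p ^ m = 1 := congrArg Subtype.val (congrArg Subtype.val hm)
    show (((y : ↥(D.group F)) : GL D.Idx F)) ^ p ^ m = 1
    rw [← he, ← map_pow, hm', map_one]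
  have hφ : ∀ i, ∃ φ : MonoidAlgebra k ↥(D.group F) →ₗ[k] k,
      (∃ z ∈ N i, φ z ≠ 0) ∧ ∀ y ∈ negIn D F, ∀ z ∈ N i, φ (DZero.dlt k y * z) = φ z := by
    intro i
    let L : ↥(negIn D F) → Module.End k (N i) := fun y =>
      (LinearMap.mulLeft k (DZero.dlt k ((y⁻¹ : ↥(negIn D F)) : ↥(D.group F)))).restrict
        fun z hz => hNl i _ z hz
    let ρ : ↥(negIn D F) →* Module.End k (Module.Dual k (N i)) :=
      { toFun := fun y => (L y).dualMap
        map_one' := by
          ext f z
          show f (L 1 z) = f z
          congr 1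
          exact Subtype.ext (by simp [L, DZero.dlt_one])
        map_mul' := fun y y' => by
          ext f z
          show f (L (y * y') z) = f (L y' (L y z))
          congr 1
          exact Subtype.ext (by simp [L, DZero.dlt_mul_mul]) }
    have hd' : NeZero (d i) := hd i
    have hw : ι i (Pi.single (z0 i) 1) ≠ 0 := fun h => by
      have := congrFun (hιinj i _ h) (z0 i)
      simp at this
    obtain ⟨f0, hf0⟩ := Module.Projective.exists_dual_ne_zero k
      (x := (⟨_, ⟨_, rfl⟩⟩ : N i)) (fun h => hw (congrArg Subtype.val h))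
    obtain ⟨f, hf, hfix⟩ := SCount.exists_fixed_of_pgroup hnegP ρ
      (w0 := f0) (fun h => hf0 (by rw [h]; rfl))
    obtain ⟨φ, hφ⟩ := LinearMap.exists_extend f
    refine ⟨φ, ?_, fun y hy z hz => ?_⟩
    · obtain ⟨z, hz⟩ : ∃ z, f z ≠ 0 := by
        by_contra hcon
        push Not at hcon
        exact hf (LinearMap.ext hcon)
      exact ⟨z.1, z.2, by
        rwa [show φ z.1 = f z from LinearMap.congr_fun hφ z]⟩
    · have h1 := LinearMap.congr_fun (hfix ⟨y, hy⟩⁻¹) ⟨z, hz⟩
      have h2 : f (L ⟨y, hy⟩⁻¹ ⟨z, hz⟩) = f ⟨z, hz⟩ := h1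
      rw [← hφ] at h2
      simpa [L] using h2
  choose φ hφ0 hφinv using hφ
  -- a weight in each module
  let psi : (Fin D.rank → Option (Fˣ →* kˣ)) → Fin D.rank → Fˣ →* kˣ := fun w j => (w j).getD 1
  let cs : (Fin D.rank → Option (Fˣ →* kˣ)) → Fin D.rank → k := fun w j =>
    if psi w j = 1 ∧ w j ≠ none then -1 else 0
  have hex : ∀ i, ∃ w, ∃ v ∈ N i, g.IsWt (psi w) (cs w) v := by
    intro i
    have hd' : NeZero (d i) := hd i
    let S : Submodule k (MonoidAlgebra k ↥(D.group F)) :=
      { carrier := {v | v ∈ N i ∧ DZero.Fx (posIn D F) v}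
        zero_mem' := ⟨zero_mem _, fun _ _ => mul_zero _⟩
        add_mem' := fun {a b} ha hb => ⟨add_mem ha.1 hb.1,
          fun x hx => by rw [mul_add, ha.2 x hx, hb.2 x hx]⟩
        smul_mem' := fun c a ha => ⟨Submodule.smul_mem _ c ha.1,
          fun x hx => by rw [mul_smul_comm, ha.2 x hx]⟩ }
    have hS : S ≠ ⊥ := by
      let ρ : ↥(posIn D F) →* Module.End k (N i) :=
        { toFun := fun u => (LinearMap.mulLeft k (DZero.dlt k (u : ↥(D.group F)))).restrict
            fun z hz => hNl i _ z hz
          map_one' := by ext z; simp [DZero.dlt_one]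
          map_mul' := fun u u' => LinearMap.ext fun z => Subtype.ext (by
            show DZero.dlt k ((u * u' : ↥(posIn D F)) : ↥(D.group F)) * z.1 =
              DZero.dlt k (u : ↥(D.group F)) * (DZero.dlt k (u' : ↥(D.group F)) * z.1)
            rw [Subgroup.coe_mul, DZero.dlt_mul_mul]) }
      have hw : ι i (Pi.single (z0 i) 1) ≠ 0 := fun h => by
        have := congrFun (hιinj i _ h) (z0 i)
        simp at this
      obtain ⟨w, hw0, hwfix⟩ := SCount.exists_fixed_of_pgroup hposP ρ
        (w0 := (⟨_, ⟨_, rfl⟩⟩ : N i)) (fun h => hw (congrArg Subtype.val h))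
      rw [Submodule.ne_bot_iff]
      exact ⟨w.1, ⟨w.2, fun x hx => congrArg Subtype.val (hwfix ⟨x, hx⟩)⟩,
        fun h => hw0 (Subtype.ext h)⟩
    have hstab : ∀ (j : Fin D.rank) (c : Fˣ), ∀ v ∈ S, DZero.dlt k (g.hS j c) * v ∈ S := by
      rintro j c v ⟨h1, h2⟩
      have hb : g.hS j c ∈ borelIn D F :=
        Subgroup.mem_subgroupOf.2 (Subgroup.mem_sup_right (g.hG_mem (g.simple_lt j.2) c))
      refine ⟨hNl i _ _ h1, fun x hx => ?_⟩
      have hx' := (g.borelIn_conj_posIn (inv_mem hb) x).1 hx
      rw [inv_inv] at hx'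
      rw [DZero.dlt_mul_mul, show x * g.hS j c = g.hS j c * ((g.hS j c)⁻¹ * x * g.hS j c) by group,
        ← DZero.dlt_mul_mul, h2 _ hx']
    obtain ⟨u, ⟨huN, hfu⟩, hu0, heig⟩ := g.exists_torus_eigen (p := p) hS hstab
    have hne0 : ∀ {v : MonoidAlgebra k ↥(D.group F)}, v ≠ 0 → ∀ {a : k} {h : ↥(D.group F)},
        DZero.dlt k h * v = a • v → a ≠ 0 := by
      intro v hv a h hh ha
      rw [ha, zero_smul] at hh
      apply hv
      rw [← one_mul v, ← DZero.dlt_one, ← inv_mul_cancel h, ← DZero.dlt_mul_mul, hh, mul_zero]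
    set W := Finset.univ.filter fun w : Equiv.Perm (Fin D.nroots) =>
      w ∈ g.weyl ∧ g.cellSum k w * u ≠ 0
    have hd1 : (g.nW F 1 : GL D.Idx F) ∈ D.diagonalSubgroup F := by
      have := g.acts_diag (F := F) (one_mem _) (g.nW_mem_monomial (one_mem _)) g.acts_one
        (g.acts_nW (one_mem _))
      simpa using this
    have hW : W.Nonempty := by
      refine ⟨1, Finset.mem_filter.2 ⟨Finset.mem_univ _, one_mem _, ?_⟩⟩
      obtain ⟨a, ha⟩ := heig _ hd1
      have hcard : Fintype.card ↥(g.cellU F 1) = 1 := by
        rw [← Nat.card_eq_fintype_card, g.card_cellU hc (one_mem _), g.ninv_one, pow_zero]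
      obtain ⟨a0, hsub⟩ := Fintype.card_eq_one_iff.1 hcard
      simp only [cellSum, Finset.sum_mul]
      rw [Fintype.sum_eq_single (1 : ↥(g.cellU F 1))
        (fun x hx => absurd ((hsub x).trans (hsub 1).symm) hx), OneMemClass.coe_one, one_mul, ha]
      exact smul_ne_zero (hne0 hu0 ha) hu0
    obtain ⟨z, hzW, hmax⟩ := Finset.exists_max_image W (fun w => ninv D w) hW
    obtain ⟨-, hz, hv0⟩ := Finset.mem_filter.1 hzW
    set v := g.cellSum k z * u
    have hvN : v ∈ N i := hNl i _ _ huN
    have hvfix : DZero.Fx (posIn D F) v := g.cellSum_fixed (p := p) hc hz hfu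
    have hveig : ∀ h : ↥(D.group F), (h : GL D.Idx F) ∈ D.diagonalSubgroup F →
        ∃ a : k, DZero.dlt k h * v = a • v := by
      intro h hh
      have hh' : (((g.nW F z)⁻¹ * h * g.nW F z : ↥(D.group F)) : GL D.Idx F) ∈
          D.diagonalSubgroup F := by
        have := g.diag_conj (inv_mem (g.nW_mem_monomial (F := F) hz)) hh
        rwa [inv_inv] at this
      obtain ⟨a, ha⟩ := heig _ hh'
      refine ⟨a, ?_⟩
      simp only [v]
      rw [← mul_assoc, g.dlt_mul_cellSum (p := p) hh, mul_assoc, ha, mul_smul_comm]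
    choose l hl using fun (j : Fin D.rank) (c : Fˣ) =>
      hveig (g.hS j c) (g.hG_mem (g.simple_lt j.2) c)
    let lh : Fin D.rank → Fˣ →* kˣ := fun j => MonoidHom.toHomUnits
      { toFun := l j
        map_one' := by
          have h := hl j 1
          rw [map_one, DZero.dlt_one, one_mul] at h
          exact (smul_left_injective k hv0 ((one_smul k v).trans h)).symm
        map_mul' := fun c c' => by
          refine smul_left_injective k hv0 ?_
          show l j (c * c') • v = (l j c * l j c') • v
          rw [← hl, map_mul, ← DZero.dlt_mul_mul, hl, mul_smul_comm, hl, smul_smul, mul_comm] }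
    have hlh : ∀ j c, ((lh j c : kˣ) : k) = l j c := fun j c => rfl
    have hop : ∀ j, g.stepSum k j * v = (0 : k) • v ∨
        (lh j = 1 ∧ g.stepSum k j * v = (-1 : k) • v) := by
      intro j
      by_cases hpos : half D ≤ (z⁻¹ (g.sroot j)).val
      · left
        obtain ⟨h, hh, he⟩ := g.step_mul_cellSum (F := F) (p := p) (k := k) hc j hz hpos
        obtain ⟨a, ha⟩ := heig h hh
        rw [zero_smul, ← mul_assoc, he, mul_assoc, ha, mul_smul_comm]
        have : g.cellSum k (g.rperm j * z) * u = 0 := by
          by_contra hne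
          have := hmax _ (Finset.mem_filter.2 ⟨Finset.mem_univ _,
            mul_mem (Subgroup.subset_closure ⟨j, rfl⟩) hz, hne⟩)
          rw [(g.ninv_rperm_mul j z (g.weyl_nroot hz)).2 hpos] at this
          omega
        rw [this, smul_zero]
      · have h := g.step_descent (p := p) hc j hz (Nat.not_le.1 hpos) hfu fun h hh => by
          obtain ⟨a, ha⟩ := heig h hh
          exact ⟨a, hne0 hu0 ha, ha⟩
        have h2 : g.stepSum k j * v = (∑ c : Fˣ, l j c) • v := by
          rw [h, Finset.sum_mul, Finset.sum_smul]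
          exact Finset.sum_congr rfl fun c _ => hl j c
        by_cases h1 : lh j = 1
        · right
          refine ⟨h1, ?_⟩
          rw [h2]
          congr 1
          rw [Finset.sum_congr rfl fun c _ => show l j c = 1 by
            rw [← hlh, h1]; rfl, Finset.sum_const, Finset.card_univ, nsmul_one, hq1]
        · left
          rw [h2]
          congr 1
          obtain ⟨c0, hc0⟩ : ∃ c0, lh j c0 ≠ 1 := by
            by_contra hcon
            push Not at hcon
            exact h1 (MonoidHom.ext hcon)
          have e : l j c0 * ∑ c : Fˣ, l j c = ∑ c : Fˣ, l j c := by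
            rw [Finset.mul_sum]
            exact Fintype.sum_equiv (Equiv.mulLeft c0) _ _ fun c => by
              simp [← hlh, map_mul]
          have h3 : (l j c0 - 1) * ∑ c : Fˣ, l j c = 0 := by rw [sub_mul, one_mul, e, sub_self]
          exact (mul_eq_zero.1 h3).resolve_left
            (sub_ne_zero.2 fun h4 => hc0 (Units.ext ((hlh j c0).trans h4)))
    let w : Fin D.rank → Option (Fˣ →* kˣ) := fun j =>
      if lh j = 1 ∧ g.stepSum k j * v = (0 : k) • v then none else some (lh j)
    have hpsi : psi w = lh := by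
      funext j
      by_cases h : lh j = 1 ∧ g.stepSum k j * v = (0 : k) • v
      · simp only [psi, w]
        rw [if_pos h, h.1]
        rfl
      · simp only [psi, w]
        rw [if_neg h]
        rfl
    refine ⟨w, v, hvN, hv0, hvfix, fun j c => ?_, fun j => ?_⟩
    · rw [hpsi, hlh]; exact hl j c
    · rcases hop j with h | ⟨h1, h⟩
      · rw [show cs w j = 0 from if_neg ?_]
        · exact h
        · rintro ⟨h1, h2⟩
          rw [hpsi] at h1
          exact h2 (if_pos ⟨h1, h⟩)
      · rw [show cs w j = -1 from if_pos ⟨by rw [hpsi, h1], ?_⟩]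
        · exact h
        · have hne : ¬ (lh j = 1 ∧ g.stepSum k j * v = (0 : k) • v) := fun hh => by
            rw [h] at hh
            exact (neg_ne_zero.2 one_ne_zero) (smul_left_injective k hv0 hh.2)
          simp only [w]
          rw [if_neg hne]
          exact Option.some_ne_none _
  -- vectors in one module have one weight
  have huniq : ∀ i w w' v v', v ∈ N i → v' ∈ N i → g.IsWt (psi w) (cs w) v →
      g.IsWt (psi w') (cs w') v' → w = w' := by
    intro i w w' v v' hvN hv'N hv hv'
    have hφv' : φ i v' ≠ 0 := by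
      intro h0
      obtain ⟨z, hz, hz0⟩ := hφ0 i
      obtain ⟨a, rfl⟩ := hirr i v' hv'N hv'.ne z hz
      obtain ⟨b, hb, hab⟩ := g.exists_negSpan hc _ _ a
      rw [hab v' hv'] at hz0
      apply hz0
      clear hab hz0 hz
      induction hb using Submodule.span_induction with
      | zero => simp
      | add x x' _ _ h h' => rw [add_mul, map_add, h, h', add_zero]
      | smul r x _ h => rw [smul_mul_assoc, map_smul, h, smul_zero]
      | mem x hx =>
        obtain ⟨y, rfl⟩ := hx
        exact (hφinv i y y.2 v' hv'N).trans h0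
    obtain ⟨h1, h2⟩ := g.weight_of_invariant hc hv hvN (hNl i) (hirr i v hvN hv.ne) (φ i)
      (hφinv i) hv'N
    have hps : psi w = psi w' := by
      funext j
      refine MonoidHom.ext fun c => Units.ext ?_
      have := h1 j c
      rw [hv'.eig, map_smul, smul_eq_mul] at this
      exact (mul_right_cancel₀ hφv' this).symm
    have hcs : ∀ j, cs w j = cs w' j := fun j => by
      have := h2 j
      rw [hv'.op, map_smul, smul_eq_mul] at this
      exact (mul_right_cancel₀ hφv' this).symm
    funext j
    have hp := congrFun hps j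
    have hc' := hcs j
    rcases hwj : w j with _ | a <;> rcases hwj' : w' j with _ | b
    · rfl
    · have h2 : psi w' j = 1 := by rw [← hp]; simp only [psi, hwj]; rfl
      have e1 : cs w j = 0 := if_neg fun h => h.2 hwj
      have e2 : cs w' j = -1 := if_pos ⟨h2, by rw [hwj']; exact Option.some_ne_none _⟩
      rw [e1, e2] at hc'
      exact absurd hc'.symm (neg_ne_zero.2 one_ne_zero)
    · have h2 : psi w j = 1 := by rw [hp]; simp only [psi, hwj']; rfl
      have e1 : cs w' j = 0 := if_neg fun h => h.2 hwj'
      have e2 : cs w j = -1 := if_pos ⟨h2, by rw [hwj]; exact Option.some_ne_none _⟩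
      rw [e1, e2] at hc'
      exact absurd hc' (neg_ne_zero.2 one_ne_zero)
    · simp only [psi, hwj, hwj', Option.getD_some] at hp
      rw [hp]
  choose wt v hvN hv using hex
  -- distinct modules, distinct weights
  have hwinj : Function.Injective wt := by
    intro i j hij
    by_contra hne
    obtain ⟨a, ha⟩ := hsurj (Pi.single i 1)
    obtain ⟨b, hb, hab⟩ := g.exists_negSpan hc (psi (wt i)) (cs (wt i)) a
    have haug : ∀ m, g.IsWt (psi (wt i)) (cs (wt i)) (v m) →
        φ m (a * v m) = SCount.lin (fun _ => (1 : k)) b * φ m (v m) := by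
      intro m hm
      rw [hab _ hm]
      clear hab ha
      induction hb using Submodule.span_induction with
      | zero => simp
      | add x x' _ _ h h' => rw [add_mul, map_add, h, h', map_add, add_mul]
      | smul r x _ h =>
        rw [smul_mul_assoc, map_smul, h, map_smul, smul_eq_mul, smul_eq_mul, mul_assoc]
      | mem x hx =>
        obtain ⟨y, rfl⟩ := hx
        show φ m (DZero.dlt k (y : ↥(D.group F)) * v m) = _
        dsimp only
        rw [hφinv m y y.2 _ (hvN m), show DZero.dlt k (y : ↥(D.group F)) = MonoidAlgebra.single (y : ↥(D.group F)) 1 from rfl,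
          SCount.lin_single, one_mul, one_mul]
    have hφne : ∀ m, φ m (v m) ≠ 0 := by
      intro m h0
      obtain ⟨z, hz, hz0⟩ := hφ0 m
      obtain ⟨a', rfl⟩ := hirr m (v m) (hvN m) (hv m).ne z hz
      obtain ⟨b', hb', hab'⟩ := g.exists_negSpan hc _ _ a'
      rw [hab' _ (hv m)] at hz0
      apply hz0
      clear hab' hz0 hz
      induction hb' using Submodule.span_induction with
      | zero => simp
      | add x x' _ _ h h' => rw [add_mul, map_add, h, h', add_zero]
      | smul r x _ h => rw [smul_mul_assoc, map_smul, h, smul_zero]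
      | mem x hx =>
        obtain ⟨y, rfl⟩ := hx
        exact (hφinv m y y.2 _ (hvN m)).trans h0
    obtain ⟨wi, hwi⟩ := hvN i
    obtain ⟨wj, hwj⟩ := hvN j
    have e1 := haug i (hv i)
    rw [← hwi, hequi, ha, Pi.single_eq_same, Matrix.one_mulVec, hwi] at e1
    have e2 := haug j (by rw [hij]; exact hv j)
    rw [← hwj, hequi, ha, Pi.single_eq_of_ne (Ne.symm hne), Matrix.zero_mulVec, map_zero, map_zero,
      hwj] at e2
    have h3 : SCount.lin (fun _ => (1 : k)) b = 1 :=
      mul_right_cancel₀ (hφne i) (e1.symm.trans (one_mul _).symm)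
    rw [h3, one_mul] at e2
    exact hφne j e2.symm
  -- every weight occurs
  have hwsurj : Function.Surjective wt := by
    intro w
    set K : Finset (Fin D.rank) := Finset.univ.filter fun j => w j = none
    obtain ⟨x, hx⟩ := g.exists_wt (p := p) hc hinj (psi w) K
      (fun j hj => by simp [psi, (Finset.mem_filter.1 hj).2])
    have hx' : g.IsWt (psi w) (cs w) x := by
      have e : (fun j => if psi w j = 1 ∧ j ∉ K then (-1 : k) else 0) = cs w := by
        funext j
        simp [cs, K]
      rwa [e] at hx
    let L : ∀ i, Submodule k (Fin (d i) → k) := fun i =>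
      { carrier := {u | ∀ a : MonoidAlgebra k ↥(D.group F), a * x = 0 → (π a i) *ᵥ u = 0}
        zero_mem' := fun a _ => Matrix.mulVec_zero _
        add_mem' := fun {u u'} hu hu' a ha => by rw [Matrix.mulVec_add, hu a ha, hu' a ha, add_zero]
        smul_mem' := fun r u hu a ha => by rw [Matrix.mulVec_smul, hu a ha, smul_zero] }
    obtain ⟨i, u, huL, hu0⟩ : ∃ i, ∃ u ∈ L i, u ≠ 0 := by
      by_contra hcon
      push Not at hcon
      have hone : ∀ i, ∃ a, a * x = 0 ∧ π a i = 1 := by
        intro i
        let I : Submodule k (Matrix (Fin (d i)) (Fin (d i)) k) :=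
          Submodule.map ((LinearMap.proj i).comp π.toLinearMap)
            (LinearMap.ker (LinearMap.mulRight k x))
        have hI : ∀ M, M ∈ I ↔ ∃ a, a * x = 0 ∧ π a i = M := fun M => by simp [I]
        have hrow : ∀ j : Fin (d i), ∀ r : Fin (d i) → k,
            Matrix.of (fun l m => if l = j then r m else 0) ∈ I := by
          intro j
          let R : Submodule k (Fin (d i) → k) :=
            { carrier := {r | Matrix.of (fun l m => if l = j then r m else 0) ∈ I}
              zero_mem' := by
                show Matrix.of (fun l m => if l = j then (0 : Fin (d i) → k) m else 0) ∈ I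
                convert I.zero_mem using 1
                ext l m; simp
              add_mem' := fun {r r'} hr hr' => by
                show Matrix.of (fun l m => if l = j then (r + r') m else 0) ∈ I
                convert I.add_mem hr hr' using 1
                ext l m; by_cases h : l = j <;> simp [h]
              smul_mem' := fun c r hr => by
                show Matrix.of (fun l m => if l = j then (c • r) m else 0) ∈ I
                convert I.smul_mem c hr using 1
                ext l m; by_cases h : l = j <;> simp [h] }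
          suffices R = ⊤ by intro r; exact (this ▸ Submodule.mem_top : r ∈ R)
          by_contra hR
          obtain ⟨r, hr⟩ : ∃ r, r ∉ R := by
            by_contra hall
            push Not at hall
            exact hR (eq_top_iff.2 fun r _ => hall r)
          obtain ⟨f, hf0, hf⟩ := Submodule.exists_le_ker_of_notMem hr
          set u : Fin (d i) → k := fun m => f (Pi.single m 1)
          have hfu : ∀ r', f r' = ∑ m, r' m * u m := fun r' => by
            conv_lhs => rw [pi_eq_sum_univ' r']
            simp [u, map_sum]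
          have hu : u = 0 := hcon i u fun a ha => by
            funext l
            have hmem : (fun m => π a i l m) ∈ R := by
              obtain ⟨e, he⟩ := hsurj (Pi.single i (Matrix.single j l 1))
              refine (hI _).2 ⟨e * a, by rw [mul_assoc, ha, mul_zero], ?_⟩
              rw [map_mul, Pi.mul_apply, he, Pi.single_eq_same]
              ext l' m
              by_cases h : l' = j
              · subst h; simp
              · simp [Matrix.single_mul_apply_of_ne _ _ _ _ _ h, h]
            have := hf hmem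
            rw [LinearMap.mem_ker, hfu] at this
            exact this
          exact hf0 (by rw [hfu, hu]; simp)
        have h1 : (1 : Matrix (Fin (d i)) (Fin (d i)) k) ∈ I := by
          have : (1 : Matrix (Fin (d i)) (Fin (d i)) k) = ∑ j, Matrix.of (fun l m =>
              if l = j then (Pi.single j (1 : k) : Fin (d i) → k) m else 0) := by
            ext l m
            simp [Matrix.sum_apply, Matrix.one_apply, Pi.single_apply, eq_comm]
          rw [this]
          exact I.sum_mem fun j _ => hrow j _
        exact (hI _).1 h1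
      choose a ha0 ha1 using hone
      choose e he using fun i => hsurj (Pi.single i (1 : Matrix (Fin (d i)) (Fin (d i)) k))
      set b := ∑ i, e i * a i
      have hb : π b = 1 := by
        funext i
        rw [map_sum, Finset.sum_apply, Finset.sum_eq_single i (fun j _ hj => by
          rw [map_mul, Pi.mul_apply, he, Pi.single_eq_of_ne (Ne.symm hj), zero_mul]) (by simp),
          map_mul, Pi.mul_apply, he, Pi.single_eq_same, one_mul, ha1]
        rfl
      have hbx : b * x = 0 := by
        rw [Finset.sum_mul]
        exact Finset.sum_eq_zero fun i _ => by rw [mul_assoc, ha0, mul_zero]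
      have hunit : IsUnit b := by
        have := (hnil (b - 1) (by rw [map_sub, hb, map_one, sub_self])).isUnit_one_add
        rwa [add_sub_cancel] at this
      exact hx'.ne (hunit.mul_right_eq_zero.1 hbx)
    refine ⟨i, (huniq i w (wt i) (ι i u) (v i) ⟨u, rfl⟩ (hvN i) ?_ (hv i)).symm⟩
    have htrans : ∀ a (r : k), a * x = r • x → a * ι i u = r • ι i u := by
      intro a r har
      have h := huL (a - r • 1) (by rw [sub_mul, smul_mul_assoc, one_mul, har, sub_self])
      rw [map_sub, map_smul, map_one, Pi.sub_apply, Pi.smul_apply, Pi.one_apply,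
        Matrix.sub_mulVec, Matrix.smul_mulVec, Matrix.one_mulVec, sub_eq_zero] at h
      rw [hequi, h, map_smul]
    refine ⟨fun h => hu0 (hιinj i u h), fun y hy => ?_, fun j c => ?_, fun j => ?_⟩
    · have := htrans _ 1 (by rw [one_smul]; exact hx'.fix y hy)
      rwa [one_smul] at this
    · exact htrans _ _ (hx'.eig j c)
    · exact htrans _ _ (hx'.op j)
  have hcard := Nat.card_congr (Equiv.ofBijective wt ⟨hwinj, hwsurj⟩)
  rw [Nat.card_fin, Nat.card_fun, Nat.card_fin] at hcard
  rw [hcard]
  congr 1
  have : NeZero ((Monoid.exponent Fˣ : ℕ) : k) := ⟨by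
    rw [IsCyclic.exponent_eq_card, Nat.card_eq_fintype_card, hq1]
    exact neg_ne_zero.2 one_ne_zero⟩
  rw [Finite.card_option, CommGroup.card_monoidHom_of_hasEnoughRootsOfUnity, Nat.card_units,
    Nat.card_eq_fintype_card]
  have := Fintype.card_pos (α := F)
  omega

end Good

end CfsgLib.Chev

namespace CfsgLib.Chev.Good

open Cfsg.Lie

/-- A torus of full order is split. -/
lemma torHom_injective_of_card {D : ChevalleyDatum} (g : Good D) {F : Type*} [Field F] [Fintype F]
    {c : ℕ} (hc1 : c = 1)
    (h : c * Nat.card (D.diagonalSubgroup F) = (Fintype.card F - 1) ^ D.rank) :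
    Function.Injective (torHom D F) := by
  classical
  subst hc1
  rw [one_mul, g.diagonal_eq_range] at h
  have e : Nat.card (Fin D.rank → Fˣ) = Nat.card (torHom D F).range := by
    rw [h, Nat.card_fun, Nat.card_fin, Nat.card_units, Nat.card_eq_fintype_card]
  have hb : Function.Bijective (torHom D F).rangeRestrict :=
    (Nat.bijective_iff_surjective_and_card _).2 ⟨MonoidHom.rangeRestrict_surjective _, e⟩
  exact fun a b hab => hb.1 (Subtype.ext hab)

end CfsgLib.Chev.Good
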