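import Mathlib
import Cfsg.Agent.Lib.KnownB.ChevSteinberg

/-!
Steinberg's count of the unipotent elements, by induction over the standard parabolic subgroups.
-/

set_option autoImplicit false

namespace CfsgLib.Chev

open Cfsg.Lie Matrix

variable {D : ChevalleyDatum} {F : Type*} [Field F]

namespace Good

variable (g : Good D)
include g

/-- `w` is the longest element of `W_K`. -/
def IsLong (K : Set ℕ) (w : Equiv.Perm (Fin D.nroots)) : Prop :=
  w ∈ g.wJ K ∧ ∀ q : Fin D.rank, (q : ℕ) ∈ K → (w (g.sroot q)).val < half D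

lemma exists_long (K : Set ℕ) : ∃ w, g.IsLong K w := by
  obtain ⟨l, hl, hneg⟩ := g.exists_longest_J K
  exact ⟨(g.wperm l)⁻¹, inv_mem (g.wperm_mem_wJ hl),
    fun q hq => hneg _ (g.sroot_pos q) (g.suppIn_sroot q hq)⟩

lemma long_sign {K : Set ℕ} {w : Equiv.Perm (Fin D.nroots)} (hw : w ∈ g.weyl)
    (h : ∀ q : Fin D.rank, (q : ℕ) ∈ K → (w (g.sroot q)).val < half D) {a : Fin D.nroots}
    (hs : g.SuppIn K a) : half D ≤ (w a).val ↔ a.val < half D := by
  obtain ⟨l, rfl⟩ := g.exists_wperm hw
  have key : ∀ b : Fin D.nroots, g.SuppIn K b → half D ≤ b.val →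
      (g.wperm l b).val < half D := by
    intro b hb hbp
    by_contra hc
    have h1 := g.wt_pos (Nat.not_lt.1 hc) (g.wperm l b).2
    rw [g.wt_wperm] at h1
    refine absurd h1 (not_lt.2 (Finset.sum_nonpos fun q _ => ?_))
    by_cases hq : (q : ℕ) ∈ K
    · refine mul_nonpos_of_nonneg_of_nonpos (g.co_nonneg b.2 hbp q.2) ?_
      have h2 := h q hq
      by_contra hlt
      have := (g.wt_pos_iff (g.wperm l (g.sroot q)).2).1 (not_le.1 hlt)
      omega
    · rw [hb q q.2 hq, zero_mul]
  refine ⟨fun h1 => ?_, fun h1 => ?_⟩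
  · by_contra hc
    have := key a hs (Nat.not_lt.1 hc)
    omega
  · have h2 := key _ (g.suppIn_nroot hs) ((g.nroot_pos_iff a).2 h1)
    rw [g.wperm_nroot] at h2
    by_contra hc
    have := (g.nroot_pos_iff (g.wperm l a)).2 (Nat.not_le.1 hc)
    omega

lemma long_unique {K : Set ℕ} {w w' : Equiv.Perm (Fin D.nroots)} (h : g.IsLong K w)
    (h' : g.IsLong K w') : w' = w := by
  have hw := g.weyl_le_wJ h.1
  have hw' := g.weyl_le_wJ h'.1
  have key : w'⁻¹ * w = 1 := g.eq_one_of_pos (mul_mem (inv_mem hw') hw) fun b hb => by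
    rw [Equiv.Perm.mul_apply]
    by_cases hs : g.SuppIn K b
    · set c := w'⁻¹ (w b) with hc
      have hsc : g.SuppIn K c :=
        (g.suppIn_wJ (inv_mem h'.1) _).2 ((g.suppIn_wJ h.1 b).2 hs)
      have h1 := g.long_sign hw h.2 hs
      have h2 := g.long_sign hw' h'.2 hsc
      rw [show w' c = w b from w'.apply_symm_apply _] at h2
      omega
    · exact g.pos_of_not_supp (inv_mem h'.1) (g.pos_of_not_supp h.1 hb hs)
        fun h1 => hs ((g.suppIn_wJ h.1 b).1 h1)
  exact inv_mul_eq_one.1 key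

/-- The number of positive roots in `Φ_K`. -/
noncomputable def lenK (K : Set ℕ) : ℕ := ninv D (g.exists_long K).choose

lemma ninv_long {K : Set ℕ} {w : Equiv.Perm (Fin D.nroots)} (h : g.IsLong K w) :
    ninv D w = g.lenK K := by
  rw [lenK, ← g.long_unique h (g.exists_long K).choose_spec]

lemma ninv_opp_add {K : Set ℕ} {w v : Equiv.Perm (Fin D.nroots)} (hw : w ∈ g.weyl)
    (h : g.IsOpp K w) (hv : g.IsLong K v) : ninv D w + ninv D v = half D := by
  classical
  set P := Finset.univ.filter fun a : Fin D.nroots => half D ≤ a.val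
  have hP : P.card = half D := by
    have h1 : P.card + half D = D.nroots := by
      have h2 := Finset.card_filter_add_card_filter_not (s := (Finset.univ : Finset (Fin D.nroots)))
        (fun a => half D ≤ a.val)
      simp only [Finset.card_univ, Fintype.card_fin, not_le, Fin.card_filter_val_lt] at h2
      have := g.nroots_eq
      change P.card + _ = _ at h2
      rw [min_eq_right (by omega : half D ≤ D.nroots)] at h2
      exact h2
    have := g.nroots_eq
    omega
  have h1 : ninv D v = (P.filter fun a => g.SuppIn K a).card := by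
    rw [ninv]
    congr 1
    ext a
    simp only [P, Finset.mem_filter, Finset.mem_univ, true_and]
    constructor
    · rintro ⟨h2, h3⟩
      refine ⟨h2, ?_⟩
      by_contra hs
      have := g.pos_of_not_supp hv.1 h2 hs
      omega
    · rintro ⟨h2, h3⟩
      have := g.long_sign (g.weyl_le_wJ hv.1) hv.2 h3
      exact ⟨h2, by omega⟩
  have h2 : ninv D w = (P.filter fun a => ¬ g.SuppIn K a).card := by
    rw [← g.ninv_inv hw, ninv]
    congr 1
    ext a
    simp only [P, Finset.mem_filter, Finset.mem_univ, true_and]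
    exact and_congr_right fun ha => h a ha
  rw [h1, h2, add_comm, Finset.card_filter_add_card_filter_not, hP]

/-- Cosets of `P_J` inside `P_K`. -/
def InPK (_g : Good D) (K : Finset ℕ) {J : Finset ℕ}
    (y : ↥(D.group F) ⧸ D.parabolicIn F J) : Prop :=
  y.out ∈ D.parabolicIn F K

omit g in
lemma parabolicIn_mono {J K : Finset ℕ} (h : J ⊆ K) :
    D.parabolicIn F J ≤ D.parabolicIn F K := fun _ hx =>
  Subgroup.mem_subgroupOf.2 (sup_le_sup_left (Subgroup.closure_mono
    fun x hx' => by obtain ⟨j, hj, r⟩ := hx'; exact ⟨j, h hj, r⟩) _ (Subgroup.mem_subgroupOf.1 hx))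

lemma inPK_mk {J K : Finset ℕ} (h : J ⊆ K) (a : ↥(D.group F)) :
    g.InPK K (a : ↥(D.group F) ⧸ D.parabolicIn F J) ↔ a ∈ D.parabolicIn F K := by
  have h1 : (a : ↥(D.group F))⁻¹ *
      (a : ↥(D.group F) ⧸ D.parabolicIn F J).out ∈ D.parabolicIn F K :=
    parabolicIn_mono h (QuotientGroup.eq.1 (QuotientGroup.out_eq' _).symm)
  refine ⟨fun h2 => ?_, fun h2 => ?_⟩
  · have := mul_mem h2 (inv_mem h1)
    simpa using this
  · have := mul_mem h2 h1
    rwa [mul_inv_cancel_left] at this

lemma projQ_inPK (hc : HasComm D) {J K : Finset ℕ} (h : J ⊆ K)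
    {w : Equiv.Perm (Fin D.nroots)} (hw : w ∈ g.weyl) {c : ↥(D.group F) ⧸ borelIn D F}
    (hcw : c ∈ g.cellQ F w) : g.InPK K (projQ J c) ↔ w ∈ g.wJ (K : Set ℕ) := by
  obtain ⟨a, ha, rfl⟩ := hcw
  rw [projQ_mk, g.inPK_mk h, g.mem_parabolicIn_iff hc hw ha]

open Classical in
/-- The minimal representatives of `W_K / W_J`. -/
noncomputable def minLsK (K J : Finset ℕ) : Finset (Equiv.Perm (Fin D.nroots)) :=
  Finset.univ.filter fun w => w ∈ g.wJ (K : Set ℕ) ∧ g.MinL (J : Set ℕ) w

lemma mem_minLsK {K J : Finset ℕ} {w : Equiv.Perm (Fin D.nroots)} :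
    w ∈ g.minLsK K J ↔ w ∈ g.wJ (K : Set ℕ) ∧ g.MinL (J : Set ℕ) w := by
  classical simp [minLsK]

lemma minLsK_self (K : Finset ℕ) : g.minLsK K K = {1} := by
  ext w
  rw [g.mem_minLsK, Finset.mem_singleton]
  constructor
  · rintro ⟨h1, h2⟩
    exact g.minL_unique (w := 1) (one_mem _) (fun q _ => by simpa using g.sroot_pos q)
      (by rwa [one_mul]) h1
  · rintro rfl
    exact ⟨one_mem _, fun q _ => by simpa using g.sroot_pos q⟩

variable [Fintype F]

lemma card_inPK (hc : HasComm D) {J K : Finset ℕ} (h : J ⊆ K)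
    (Q : ↥(D.group F) ⧸ D.parabolicIn F J → Prop) :
    Nat.card {y // g.InPK K y ∧ Q y} =
      ∑ w ∈ g.minLsK K J, Nat.card {c // c ∈ g.cellQ F w ∧ Q (projQ J c)} := by
  classical
  rw [g.card_cosets hc J fun y => g.InPK K y ∧ Q y]
  symm
  refine Finset.sum_subset_zero_on_sdiff ?_ ?_ ?_
  · intro w hw
    obtain ⟨h1, h2⟩ := g.mem_minLsK.1 hw
    exact g.mem_minLs.2 ⟨g.weyl_le_wJ h1, h2⟩
  · intro w hw
    rw [Finset.mem_sdiff, g.mem_minLs, g.mem_minLsK] at hw
    have : IsEmpty {c // c ∈ g.cellQ F w ∧ g.InPK K (projQ J c) ∧ Q (projQ J c)} :=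
      ⟨fun ⟨c, hc1, hc2, _⟩ => hw.2 ⟨(g.projQ_inPK hc h hw.1.1 hc1).1 hc2, hw.1.2⟩⟩
    exact Nat.card_of_isEmpty
  · intro w hw
    obtain ⟨h1, -⟩ := g.mem_minLsK.1 hw
    exact Nat.card_congr (Equiv.subtypeEquivRight fun c => and_congr_right fun hcw =>
      (and_iff_right ((g.projQ_inPK hc h (g.weyl_le_wJ h1) hcw).2 h1)).symm)

omit [Fintype F] in
/-- A `p`-element of `B` lies in `U`. -/
lemma mem_pos_of_pow {p : ℕ} [Fact p.Prime] [CharP F p] [Finite F] {x : ↥(D.group F)}
    (hx : x ∈ borelIn D F) {k : ℕ} (hk : x ^ p ^ k = 1) :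
    (x : GL D.Idx F) ∈ D.posUnipotent F := by
  have := Fintype.ofFinite F
  obtain ⟨v, hv, h, hh, he⟩ := g.mem_borel.1 (Subgroup.mem_subgroupOf.1 hx)
  have key : ∀ n : ℕ, ∃ v' ∈ D.posUnipotent F, (v * h) ^ n = v' * h ^ n := by
    intro n
    induction n with
    | zero => exact ⟨1, one_mem _, by simp⟩
    | succ n ih =>
      obtain ⟨v', hv', he'⟩ := ih
      refine ⟨v' * (h ^ n * v * (h ^ n)⁻¹), mul_mem hv'
        ((Subgroup.mem_normalizer_iff.1 (g.diagonal_le_normalizer_pos (pow_mem hh n)) v).1 hv), ?_⟩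
      rw [pow_succ (v * h) n, he', pow_succ h n]
      group
  obtain ⟨v', hv', he'⟩ := key (p ^ k)
  have h1 : (x : GL D.Idx F) ^ p ^ k = 1 := by rw [← Subgroup.coe_pow, hk, Subgroup.coe_one]
  rw [← he, he'] at h1
  have h2 : h ^ p ^ k ∈ D.posUnipotent F ⊓ D.diagonalSubgroup F :=
    ⟨by rw [eq_inv_of_mul_eq_one_right h1]; exact (D.posUnipotent F).inv_mem hv', (D.diagonalSubgroup F).pow_mem hh _⟩
  rw [g.pos_inf_diagonal, Subgroup.mem_bot] at h2
  have h3 : orderOf (⟨h, hh⟩ : ↥(D.diagonalSubgroup F)) ∣ p ^ k :=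
    orderOf_dvd_of_pow_eq_one (Subtype.ext (by simpa using h2))
  have h4 := orderOf_dvd_natCard (⟨h, hh⟩ : ↥(D.diagonalSubgroup F))
  have h5 : Nat.Coprime (p ^ k) (Nat.card (D.diagonalSubgroup F)) :=
    Nat.Coprime.pow_left _ ((Fact.out : p.Prime).coprime_iff_not_dvd.2
      (g.not_dvd_card_diagonal (F := F) p))
  have h6 := Nat.eq_one_of_dvd_coprimes h5 h3 h4
  rw [orderOf_eq_one_iff] at h6
  have h7 : h = 1 := Subtype.ext_iff.1 h6
  rw [← he, h7, mul_one]
  exact hv

/-- A `p`-element of `P_K` is conjugate in `P_K` to an element of `U`. -/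
lemma exists_conj_pos (hc : HasComm D) {p : ℕ} [Fact p.Prime] [CharP F p] (K : Finset ℕ)
    {x : ↥(D.group F)} (hx : x ∈ D.parabolicIn F K) {k : ℕ} (hk : x ^ p ^ k = 1) :
    ∃ a ∈ D.parabolicIn F K, ((a⁻¹ * x * a : ↥(D.group F)) : GL D.Idx F) ∈ D.posUnipotent F := by
  classical
  obtain ⟨n, hn⟩ := card_field_pow (F := F) p
  let T := {y : ↥(D.group F) ⧸ D.parabolicIn F (∅ : Finset ℕ) // g.InPK K y}
  have hcard : Nat.card T = ∑ w ∈ g.minLsK K ∅, Fintype.card F ^ ninv D w := by
    rw [show Nat.card T = Nat.card {y : ↥(D.group F) ⧸ D.parabolicIn F (∅ : Finset ℕ) //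
      g.InPK K y ∧ True} from Nat.card_congr (Equiv.subtypeEquivRight fun y => by simp),
      g.card_inPK hc (Finset.empty_subset K)]
    refine Finset.sum_congr rfl fun w hw => ?_
    rw [← g.card_cellQ (F := F) hc (g.weyl_le_wJ (g.mem_minLsK.1 hw).1)]
    exact Nat.card_congr (Equiv.subtypeEquivRight fun c => by simp)
  have hnd : ¬ p ∣ Nat.card T := by
    intro h
    rw [hcard, ← ZMod.natCast_eq_zero_iff, Nat.cast_sum] at h
    rw [Finset.sum_eq_single (1 : Equiv.Perm (Fin D.nroots))] at h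
    · simp [g.ninv_one] at h
    · intro w hw hne
      rw [Nat.cast_pow, hn, Nat.cast_pow, ZMod.natCast_self, zero_pow n.ne_zero, zero_pow]
      exact fun h0 => hne (g.eq_one_of_ninv (g.weyl_le_wJ (g.mem_minLsK.1 hw).1) h0)
    · intro h1
      exact absurd (g.mem_minLsK.2 ⟨one_mem _, fun q hq => by simp at hq⟩) h1
  have hmem : ∀ y : T, g.InPK K (x • y.1) := by
    rintro ⟨y, hy⟩
    induction y using QuotientGroup.induction_on with
    | _ a =>
      rw [MulAction.Quotient.smul_coe, smul_eq_mul, g.inPK_mk (Finset.empty_subset K)]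
      exact mul_mem hx ((g.inPK_mk (Finset.empty_subset K) a).1 hy)
  let σ0 : T → T := fun y => ⟨x • y.1, hmem y⟩
  have hinj : Function.Injective σ0 := fun a b h =>
    Subtype.ext (MulAction.injective x (Subtype.ext_iff.1 h))
  let σ : Equiv.Perm T := Equiv.ofBijective σ0 (Finite.injective_iff_bijective.1 hinj)
  have hσ : ∀ (j : ℕ) (c : T), ((σ ^ j) c).1 = x ^ j • c.1 := by
    intro j
    induction j with
    | zero => intro c; simp
    | succ j ihj =>
      intro c
      rw [pow_succ' σ j, Equiv.Perm.mul_apply, pow_succ' x j, mul_smul, ← ihj]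
      rfl
  have : Fintype T := Fintype.ofFinite T
  rw [Nat.card_eq_fintype_card] at hnd
  obtain ⟨⟨y, hy⟩, hfix⟩ := Equiv.Perm.exists_fixed_point_of_prime hnd
    (σ := σ) (n := k) (Equiv.ext fun c => Subtype.ext (by rw [hσ, hk, one_smul]; rfl))
  replace hfix : x • y = y := Subtype.ext_iff.1 hfix
  induction y using QuotientGroup.induction_on with
  | _ a =>
    have ha := (g.inPK_mk (Finset.empty_subset K) a).1 hy
    rw [MulAction.Quotient.smul_coe, smul_eq_mul, QuotientGroup.eq] at hfix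
    refine ⟨a, ha, g.mem_pos_of_pow (p := p) ?_ (k := k) ?_⟩
    · have h1 := inv_mem hfix
      rw [borelIn_eq_parabolicIn] at h1
      simpa [mul_assoc] using h1
    · have e : (a⁻¹ * x * a) ^ p ^ k = MulAut.conj a⁻¹ (x ^ p ^ k) := by
        rw [map_pow]; simp
      rw [e, hk, map_one]

/-- The alternating sum of fixed points at `x ∈ U`. -/
lemma alt_fixed_pos (hc : HasComm D) (hse : SuppEq D) {K : Finset ℕ}
    (hK : K ⊆ Finset.range D.rank) {x : ↥(D.group F)}
    (hx : (x : GL D.Idx F) ∈ D.posUnipotent F) :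
    ∑ J ∈ K.powerset, (-1 : ℤ) ^ J.card *
        (Nat.card {y : ↥(D.group F) ⧸ D.parabolicIn F J // g.InPK K y ∧ x • y = y} : ℤ) =
      open Classical in
      if x ∈ radIn D F K then (Fintype.card F : ℤ) ^ g.lenK (K : Set ℕ) else 0 := by
  classical
  have hxB : x ∈ borelIn D F := Subgroup.mem_subgroupOf.2 (Subgroup.mem_sup_left hx)
  set f : Equiv.Perm (Fin D.nroots) → ℕ := fun w =>
    Nat.card {c // c ∈ g.cellQ F w ∧ x • c = c}
  have step : ∀ J ∈ K.powerset,
      (Nat.card {y : ↥(D.group F) ⧸ D.parabolicIn F J // g.InPK K y ∧ x • y = y} : ℤ) =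
      ∑ w : Equiv.Perm (Fin D.nroots),
        if w ∈ g.wJ (K : Set ℕ) ∧ J ⊆ g.asc w ∩ K then (f w : ℤ) else 0 := by
    intro J hJ
    rw [Finset.mem_powerset] at hJ
    rw [g.card_inPK hc hJ, Nat.cast_sum, ← Finset.sum_filter]
    refine Finset.sum_congr ?_ ?_
    · ext w
      simp only [Finset.mem_filter, Finset.mem_univ, true_and, g.mem_minLsK,
        g.minL_iff_subset_asc (hJ.trans hK), Finset.subset_inter_iff, hJ, and_true]
    · intro w hw
      simp only [Finset.mem_filter, Finset.mem_univ, true_and, Finset.subset_inter_iff] at hw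
      have hwW := g.weyl_le_wJ hw.1
      have hm := (g.minL_iff_subset_asc (hJ.trans hK) w).2 hw.2.1
      simp only [f]
      norm_cast
      refine Nat.card_congr (Equiv.subtypeEquivRight fun c => and_congr_right fun hcw => ?_)
      constructor
      · intro h
        rw [← projQ_smul] at h
        refine (g.projQ_inj hc hwW hwW hm hm ?_ hcw h).2
        obtain ⟨a, ha, rfl⟩ := hcw
        rw [MulAction.Quotient.smul_coe, smul_eq_mul]
        refine g.mk_mem_cellQ.2 ?_
        have := g.mul_mem_cellW hxB (one_mem _) ha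
        rwa [mul_one] at this
      · intro h
        rw [← projQ_smul, h]
  rw [Finset.sum_congr rfl fun J hJ => by rw [step J hJ]]
  simp_rw [Finset.mul_sum]
  rw [Finset.sum_comm]
  obtain ⟨wK, hwK⟩ := g.exists_long (K : Set ℕ)
  have halt : ∀ w, (w ∈ g.wJ (K : Set ℕ)) →
      ∑ J ∈ K.powerset, (-1 : ℤ) ^ J.card *
        (if w ∈ g.wJ (K : Set ℕ) ∧ J ⊆ g.asc w ∩ K then (f w : ℤ) else 0) =
      if g.asc w ∩ K = ∅ then (f w : ℤ) else 0 := by
    intro w hw
    simp only [hw, true_and, mul_ite, mul_zero]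
    rw [← Finset.sum_filter, show K.powerset.filter (fun J => J ⊆ g.asc w ∩ K) =
      (g.asc w ∩ K).powerset by
        ext J
        simp only [Finset.mem_filter, Finset.mem_powerset]
        exact ⟨fun h => h.2, fun h => ⟨h.trans Finset.inter_subset_right, h⟩⟩,
      ← Finset.sum_mul, Finset.sum_powerset_neg_one_pow_card]
    split <;> simp
  have hwA : g.asc wK ∩ K = ∅ := by
    refine Finset.eq_empty_of_forall_notMem fun j hj => ?_
    obtain ⟨h1, h2⟩ := Finset.mem_inter.1 hj
    have h3 := (g.mem_asc (j := ⟨j, Finset.mem_range.1 (hK h2)⟩)).1 h1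
    have := hwK.2 ⟨j, Finset.mem_range.1 (hK h2)⟩ h2
    omega
  rw [Finset.sum_eq_single wK]
  · rw [halt wK hwK.1, if_pos hwA]
    simp only [f]
    have hwW := g.weyl_le_wJ hwK.1
    have hset : plusSet (D := D) wK⁻¹ =
        {r | ∃ h : r < D.nroots, half D ≤ r ∧ ¬ g.SuppIn (K : Set ℕ) ⟨r, h⟩} := by
      ext r
      constructor
      · rintro ⟨h, hp, hw⟩
        refine ⟨h, hp, fun hs => ?_⟩
        have h1 := g.long_sign hwW hwK.2 ((g.suppIn_wJ (inv_mem hwK.1) ⟨r, h⟩).2 hs)
        rw [show wK (wK⁻¹ ⟨r, h⟩) = ⟨r, h⟩ from wK.apply_symm_apply _] at h1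
        simp only at h1
        omega
      · rintro ⟨h, hp, hs⟩
        exact ⟨h, hp, g.pos_of_not_supp (inv_mem hwK.1) hp hs⟩
    have hbij := g.cellU_bijOn (F := F) hc hwW
    have hfix : ∀ u ∈ g.cellU F wK,
        (x • ((u * g.nW F wK : ↥(D.group F)) : ↥(D.group F) ⧸ borelIn D F) =
          ((u * g.nW F wK : ↥(D.group F)) : ↥(D.group F) ⧸ borelIn D F) ↔
        x ∈ radIn D F K) := by
      intro u hu
      have huU := g.minus_le_pos _ (Subgroup.mem_subgroupOf.1 hu)
      have huP : u ∈ D.parabolicIn F K := borelIn_le_parabolicIn K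
        (Subgroup.mem_subgroupOf.2 (Subgroup.mem_sup_left huU))
      have hn := g.acts_inv (g.acts_nW (F := F) hwW)
      rw [MulAction.Quotient.smul_coe, smul_eq_mul, QuotientGroup.eq, ← inv_mem_iff,
        show ((x * (u * g.nW F wK))⁻¹ * (u * g.nW F wK))⁻¹ =
          (g.nW F wK)⁻¹ * (u⁻¹ * x * u) * g.nW F wK by group]
      constructor
      · intro h
        have hz : ((u⁻¹ * x * u : ↥(D.group F)) : GL D.Idx F) ∈ D.posUnipotent F :=
          (D.posUnipotent F).mul_mem ((D.posUnipotent F).mul_mem ((D.posUnipotent F).inv_mem huU) hx) huU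
        obtain ⟨a, ha, b, hb, he⟩ := g.pos_split hc wK⁻¹ hz
        have h1 := g.conj_plus_le hn ha
        have h2 := g.conj_minus_le hn hb
        rw [inv_inv] at h1 h2
        have h3 : (g.nW F wK : GL D.Idx F)⁻¹ * b * g.nW F wK ∈
            D.borelSubgroup F ⊓ D.negUnipotent F := by
          refine ⟨?_, h2⟩
          have h4 := Subgroup.mem_subgroupOf.1 h
          have e : (g.nW F wK : GL D.Idx F)⁻¹ * b * g.nW F wK =
              ((g.nW F wK : GL D.Idx F)⁻¹ * a * g.nW F wK)⁻¹ *
                (((g.nW F wK)⁻¹ * (u⁻¹ * x * u) * g.nW F wK : ↥(D.group F)) : GL D.Idx F) := by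
            rw [Subgroup.coe_mul, Subgroup.coe_mul, he]
            simp [mul_assoc]
          rw [e]
          exact (D.borelSubgroup F).mul_mem ((D.borelSubgroup F).inv_mem (Subgroup.mem_sup_left h1)) h4
        rw [g.borel_inf_neg, Subgroup.mem_bot] at h3
        have hb1 : b = 1 := by
          have := congrArg (fun z => (g.nW F wK : GL D.Idx F) * z *
            (g.nW F wK : GL D.Idx F)⁻¹) h3
          simpa [mul_assoc] using this
        rw [hb1, mul_one] at he
        have hzV : u⁻¹ * x * u ∈ radIn D F K := Subgroup.mem_subgroupOf.2 (by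
          rw [g.unipotentRadical_eq hse, ← hset, he]; exact ha)
        have := g.radIn_conj hc hse huP hzV
        simpa [mul_assoc] using this
      · intro h
        have h1 := g.radIn_conj hc hse (inv_mem huP) h
        rw [inv_inv] at h1
        have h2 := Subgroup.mem_subgroupOf.1 h1
        rw [g.unipotentRadical_eq hse, ← hset] at h2
        have h3 := g.conj_plus_le hn h2
        rw [inv_inv] at h3
        refine Subgroup.mem_subgroupOf.2 (Subgroup.mem_sup_left ?_)
        simpa [mul_assoc] using h3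
    by_cases hxV : x ∈ radIn D F K
    · rw [if_pos hxV, ← g.ninv_long hwK, ← Nat.cast_pow, ← g.card_cellQ (F := F) hc hwW]
      norm_cast
      refine Nat.card_congr (Equiv.subtypeEquivRight fun c => and_iff_left_of_imp fun hcw => ?_)
      obtain ⟨u, hu, rfl⟩ := hbij.surjOn hcw
      exact (hfix u hu).2 hxV
    · rw [if_neg hxV]
      have : IsEmpty {c // c ∈ g.cellQ F wK ∧ x • c = c} := by
        refine ⟨fun ⟨c, hcw, hcf⟩ => hxV ?_⟩
        obtain ⟨u, hu, rfl⟩ := hbij.surjOn hcw
        exact (hfix u hu).1 hcf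
      rw [Nat.card_of_isEmpty, Nat.cast_zero]
  · intro w _ hne
    by_cases hw : w ∈ g.wJ (K : Set ℕ)
    · rw [halt w hw, if_neg]
      intro h0
      refine hne (g.long_unique hwK ⟨hw, fun q hq => ?_⟩)
      by_contra hcon
      have : (q : ℕ) ∈ g.asc w ∩ K :=
        Finset.mem_inter.2 ⟨g.mem_asc.2 (Nat.not_lt.1 hcon), hq⟩
      rw [h0] at this
      simp at this
    · exact Finset.sum_eq_zero fun J _ => by rw [if_neg fun h => hw h.1, mul_zero]
  · simp

omit [Fintype F] in
/-- `Σ_J (-1)^|J| q^{N_J} (W_K / W_J)(q) = 1`. -/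
lemma alt_weylSum (q : ℤ) {K : Finset ℕ} (hK : K ⊆ Finset.range D.rank) :
    ∑ J ∈ K.powerset, (-1 : ℤ) ^ J.card *
      ((∑ w ∈ g.minLsK K J, q ^ ninv D w) * q ^ g.lenK (J : Set ℕ)) = 1 := by
  classical
  have step : ∀ J ∈ K.powerset,
      (∑ w ∈ g.minLsK K J, q ^ ninv D w) * q ^ g.lenK (J : Set ℕ) =
      ∑ z : Equiv.Perm (Fin D.nroots),
        if z ∈ g.wJ (K : Set ℕ) ∧ J ⊆ K \ g.asc z then q ^ ninv D z else 0 := by
    intro J hJ
    rw [Finset.mem_powerset] at hJ
    obtain ⟨wJ', hwJ⟩ := g.exists_long (J : Set ℕ)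
    have hsubJ : g.wJ (J : Set ℕ) ≤ g.wJ (K : Set ℕ) := g.wJ_mono (Finset.coe_subset.2 hJ)
    rw [← g.ninv_long hwJ, Finset.sum_mul, ← Finset.sum_filter]
    refine Finset.sum_bij' (fun w _ => w * wJ') (fun z _ => z * wJ'⁻¹) ?_ ?_ ?_ ?_ ?_
    · intro w hw
      obtain ⟨h1, h2⟩ := g.mem_minLsK.1 hw
      simp only [Finset.mem_filter, Finset.mem_univ, true_and]
      refine ⟨mul_mem h1 (hsubJ hwJ.1), fun j hj => Finset.mem_sdiff.2 ⟨hJ hj, fun ha => ?_⟩⟩
      have h3 := (g.mem_asc (j := ⟨j, Finset.mem_range.1 (hK (hJ hj))⟩)).1 ha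
      rw [Equiv.Perm.mul_apply, g.minL_pos (g.weyl_le_wJ h1) h2
        ((g.suppIn_wJ hwJ.1 _).2 (g.suppIn_sroot _ hj))] at h3
      have := hwJ.2 ⟨j, Finset.mem_range.1 (hK (hJ hj))⟩ hj
      omega
    · intro z hz
      simp only [Finset.mem_filter, Finset.mem_univ, true_and] at hz
      refine g.mem_minLsK.2 ⟨mul_mem hz.1 (inv_mem (hsubJ hwJ.1)), fun j hj => ?_⟩
      rw [Equiv.Perm.mul_apply]
      set a := wJ'⁻¹ (g.sroot j) with ha
      have hs : g.SuppIn (J : Set ℕ) a :=
        (g.suppIn_wJ (inv_mem hwJ.1) _).2 (g.suppIn_sroot j hj)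
      have hzJ : ∀ i : Fin D.rank, (i : ℕ) ∈ (J : Set ℕ) → (z (g.sroot i)).val < half D := by
        intro i hi
        by_contra hcon
        exact (Finset.mem_sdiff.1 (hz.2 hi)).2 (g.mem_asc.2 (Nat.not_lt.1 hcon))
      rw [g.long_sign (g.weyl_le_wJ hz.1) hzJ hs]
      have h1 := g.long_sign (g.weyl_le_wJ hwJ.1) hwJ.2 hs
      rw [show wJ' a = g.sroot j from wJ'.apply_symm_apply _] at h1
      exact h1.1 (g.sroot_pos j)
    · intro w _
      exact mul_inv_cancel_right w wJ'
    · intro z _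
      exact inv_mul_cancel_right z wJ'
    · intro w hw
      obtain ⟨h1, h2⟩ := g.mem_minLsK.1 hw
      rw [g.ninv_mul_wJ (g.weyl_le_wJ h1) h2 hwJ.1, pow_add]
  rw [Finset.sum_congr rfl fun J hJ => by rw [step J hJ]]
  simp_rw [Finset.mul_sum]
  rw [Finset.sum_comm, Finset.sum_eq_single (1 : Equiv.Perm (Fin D.nroots))]
  · have : K \ g.asc 1 = ∅ := by
      rw [Finset.sdiff_eq_empty_iff_subset]
      intro j hj
      exact (g.mem_asc (j := ⟨j, Finset.mem_range.1 (hK hj)⟩)).2 (by simpa using g.sroot_pos _)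
    rw [Finset.sum_eq_single ∅]
    · simp [this, g.ninv_one, one_mem]
    · intro J _ hne
      rw [this, if_neg, mul_zero]
      exact fun h => hne (Finset.subset_empty.1 h.2)
    · simp
  · intro z _ hne
    by_cases hz : z ∈ g.wJ (K : Set ℕ)
    · simp only [hz, true_and, mul_ite, mul_zero]
      rw [← Finset.sum_filter, show K.powerset.filter (fun J => J ⊆ K \ g.asc z) =
        (K \ g.asc z).powerset by
          ext J
          simp only [Finset.mem_filter, Finset.mem_powerset]
          exact ⟨fun h => h.2, fun h => ⟨h.trans Finset.sdiff_subset, h⟩⟩,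
        ← Finset.sum_mul, Finset.sum_powerset_neg_one_pow_card, if_neg, zero_mul]
      intro h0
      refine hne (g.minL_unique (w := 1) (one_mem _) (fun q _ => by simpa using g.sroot_pos q)
        (by rw [one_mul]; exact (g.minL_iff_subset_asc hK z).2 (Finset.sdiff_eq_empty_iff_subset.1 h0))
        hz)
    · exact Finset.sum_eq_zero fun J _ => by rw [if_neg fun h => hz h.1, mul_zero]
  · simp

/-- The unipotent elements of `P_K` number `q^(N + N_K)`. -/
theorem card_unipotent_parabolic (hc : HasComm D) (hse : SuppEq D) (p : ℕ) [Fact p.Prime]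
    [CharP F p] (K : Finset ℕ) (hK : K ⊆ Finset.range D.rank) :
    Nat.card {x : ↥(D.group F) // x ∈ D.parabolicIn F K ∧ ∃ k : ℕ, orderOf x = p ^ k} =
      Fintype.card F ^ (half D + g.lenK (K : Set ℕ)) := by
  classical
  induction K using Finset.strongInduction with
  | _ K ih =>
    have := Fintype.ofFinite ↥(D.group F)
    let E : Finset ℕ → Finset ↥(D.group F) := fun J =>
      Finset.univ.filter fun x => x ∈ D.parabolicIn F J ∧ ∃ k : ℕ, orderOf x = p ^ k
    have hE : ∀ J, Nat.card {x : ↥(D.group F) // x ∈ D.parabolicIn F J ∧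
        ∃ k : ℕ, orderOf x = p ^ k} = (E J).card := fun J => by
      rw [Nat.card_eq_fintype_card, Fintype.card_subtype]
    have hconj : ∀ (a x : ↥(D.group F)), orderOf (a⁻¹ * x * a) = orderOf x := fun a x => by
      have := MulEquiv.orderOf_eq (MulAut.conj a⁻¹) x
      simpa using this
    -- the two evaluations
    set c : Finset ℕ → ℤ := fun J => ∑ w ∈ g.minLsK K J, (Fintype.card F : ℤ) ^ ninv D w
    have hA : ∀ J ∈ K.powerset, ∑ x ∈ E K,
        (Nat.card {y : ↥(D.group F) ⧸ D.parabolicIn F J // g.InPK K y ∧ x • y = y} : ℤ) =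
        c J * ((E J).card : ℤ) := by
      intro J hJ
      rw [Finset.mem_powerset] at hJ
      have := Fintype.ofFinite (↥(D.group F) ⧸ D.parabolicIn F J)
      set T := Finset.univ.filter fun y : ↥(D.group F) ⧸ D.parabolicIn F J => g.InPK K y
      have hcJ : c J = (T.card : ℤ) := by
        rw [← Fintype.card_subtype, ← Nat.card_eq_fintype_card,
          Nat.card_congr (Equiv.subtypeEquivRight fun y => (and_iff_left trivial).symm :
            {y : ↥(D.group F) ⧸ D.parabolicIn F J // g.InPK K y} ≃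
              {y : ↥(D.group F) ⧸ D.parabolicIn F J // g.InPK K y ∧ True}),
          g.card_inPK hc hJ]
        push_cast
        refine Finset.sum_congr rfl fun w hw => ?_
        rw [← Nat.cast_pow, ← g.card_cellQ (F := F) hc (g.weyl_le_wJ (g.mem_minLsK.1 hw).1)]
        norm_cast
        exact Nat.card_congr (Equiv.subtypeEquivRight fun d => by simp)
      have hsum : ∀ x : ↥(D.group F),
          (Nat.card {y : ↥(D.group F) ⧸ D.parabolicIn F J // g.InPK K y ∧ x • y = y} : ℤ) =
            ∑ y ∈ T, if x • y = y then (1 : ℤ) else 0 := by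
        intro x
        rw [Finset.sum_boole, Nat.card_eq_fintype_card, Fintype.card_subtype, Finset.filter_filter]
      rw [Finset.sum_congr rfl fun x _ => hsum x, Finset.sum_comm, hcJ,
        ← nsmul_eq_mul, ← Finset.sum_const]
      refine Finset.sum_congr rfl fun y hy => ?_
      rw [Finset.sum_boole]
      norm_cast
      induction y using QuotientGroup.induction_on with
      | _ a =>
        have ha := (g.inPK_mk hJ a).1 (Finset.mem_filter.1 hy).2
        refine Finset.card_bij' (fun x _ => a⁻¹ * x * a) (fun z _ => a * z * a⁻¹) ?_ ?_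
          (fun x _ => by group) (fun z _ => by group)
        · intro x hx
          obtain ⟨hx1, hx2⟩ := Finset.mem_filter.1 hx
          simp only [E, Finset.mem_filter, Finset.mem_univ, true_and] at hx1 ⊢
          rw [MulAction.Quotient.smul_coe, smul_eq_mul, QuotientGroup.eq] at hx2
          refine ⟨?_, by rw [hconj]; exact hx1.2⟩
          have := inv_mem hx2
          simpa [mul_assoc] using this
        · intro z hz
          simp only [E, Finset.mem_filter, Finset.mem_univ, true_and] at hz ⊢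
          refine ⟨⟨mul_mem (mul_mem ha (parabolicIn_mono hJ hz.1)) (inv_mem ha), ?_⟩, ?_⟩
          · rw [← hconj a (a * z * a⁻¹)]
            simpa [mul_assoc] using hz.2
          · rw [MulAction.Quotient.smul_coe, smul_eq_mul, QuotientGroup.eq]
            have := inv_mem hz.1
            simpa [mul_assoc] using this
    have hB : ∀ x ∈ E K, ∑ J ∈ K.powerset, (-1 : ℤ) ^ J.card *
        (Nat.card {y : ↥(D.group F) ⧸ D.parabolicIn F J // g.InPK K y ∧ x • y = y} : ℤ) =
        if x ∈ radIn D F K then (Fintype.card F : ℤ) ^ g.lenK (K : Set ℕ) else 0 := by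
      intro x hx
      simp only [E, Finset.mem_filter, Finset.mem_univ, true_and] at hx
      obtain ⟨hxK, k, hk⟩ := hx
      obtain ⟨a, ha, hau⟩ := g.exists_conj_pos hc (p := p) K hxK (k := k)
        (by rw [← hk]; exact pow_orderOf_eq_one x)
      have h1 := g.alt_fixed_pos hc hse hK hau
      have hiff : a⁻¹ * x * a ∈ radIn D F K ↔ x ∈ radIn D F K := by
        constructor
        · intro h
          have := g.radIn_conj hc hse ha h
          simpa [mul_assoc] using this
        · intro h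
          have := g.radIn_conj hc hse (inv_mem ha) h
          simpa using this
      rw [if_congr hiff rfl rfl] at h1
      rw [← h1]
      refine Finset.sum_congr rfl fun J hJ => ?_
      rw [Finset.mem_powerset] at hJ
      congr 2
      refine Nat.card_congr (Equiv.subtypeEquiv (MulAction.toPerm a⁻¹) fun y => ?_)
      simp only [MulAction.toPerm_apply, smul_smul]
      induction y using QuotientGroup.induction_on with
      | _ b =>
        simp only [MulAction.Quotient.smul_coe, smul_eq_mul, g.inPK_mk hJ]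
        refine and_congr ⟨fun h => mul_mem (inv_mem ha) h, fun h => ?_⟩ ?_
        · have := mul_mem ha h
          rwa [mul_inv_cancel_left] at this
        · rw [QuotientGroup.eq, QuotientGroup.eq]
          simp [mul_assoc]
    have hVE : (E K).filter (fun x => x ∈ radIn D F K) =
        Finset.univ.filter fun x => x ∈ radIn D F K := by
      ext x
      simp only [E, Finset.mem_filter, Finset.mem_univ, true_and, and_iff_right_iff_imp]
      refine fun hx => ⟨g.radIn_le_parabolicIn hse K hx, ?_⟩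
      obtain ⟨k, hk⟩ := (IsPGroup.iff_orderOf.1 (g.isPGroup_radIn (F := F) hc hse p K)) ⟨x, hx⟩
      exact ⟨k, by rwa [Subgroup.orderOf_mk] at hk⟩
    have hV : ((E K).filter (fun x => x ∈ radIn D F K)).card * Fintype.card F ^ g.lenK (K : Set ℕ) =
        Fintype.card F ^ half D := by
      rw [hVE, ← Fintype.card_subtype, ← Nat.card_eq_fintype_card]
      obtain ⟨w, hw, hopp⟩ := g.exists_opp (K : Set ℕ)
      obtain ⟨v, hv⟩ := g.exists_long (K : Set ℕ)
      have h1 := g.card_cellU (F := F) hc hw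
      rw [← g.radIn_eq_cellU hse hopp] at h1
      rw [show Nat.card {x // x ∈ radIn D F K} = Nat.card ↥(radIn D F K) from rfl, h1,
        ← pow_add, ← g.ninv_long hv, g.ninv_opp_add hw hopp hv]
    -- compare
    have hEq : ∑ J ∈ K.powerset, (-1 : ℤ) ^ J.card * (c J * ((E J).card : ℤ)) =
        (Fintype.card F : ℤ) ^ half D := by
      rw [Finset.sum_congr rfl fun J hJ => by rw [← hA J hJ]]
      simp_rw [Finset.mul_sum]
      rw [Finset.sum_comm, Finset.sum_congr rfl hB, ← Finset.sum_filter, Finset.sum_const,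
        nsmul_eq_mul]
      exact_mod_cast hV
    have hId : ∑ J ∈ K.powerset, (-1 : ℤ) ^ J.card *
        (c J * (Fintype.card F : ℤ) ^ (half D + g.lenK (J : Set ℕ))) =
        (Fintype.card F : ℤ) ^ half D := by
      conv_rhs => rw [← mul_one ((Fintype.card F : ℤ) ^ half D),
        ← g.alt_weylSum (Fintype.card F : ℤ) hK, Finset.mul_sum]
      refine Finset.sum_congr rfl fun J _ => ?_
      simp only [c]
      rw [pow_add]
      ring
    rw [← Finset.insert_erase (Finset.mem_powerset.2 (subset_refl K)),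
      Finset.sum_insert (Finset.notMem_erase _ _)] at hEq hId
    have hrest : ∑ J ∈ K.powerset.erase K, (-1 : ℤ) ^ J.card * (c J * ((E J).card : ℤ)) =
        ∑ J ∈ K.powerset.erase K, (-1 : ℤ) ^ J.card *
          (c J * (Fintype.card F : ℤ) ^ (half D + g.lenK (J : Set ℕ))) := by
      refine Finset.sum_congr rfl fun J hJ => ?_
      obtain ⟨hne, hJ'⟩ := Finset.mem_erase.1 hJ
      have hlt := (Finset.mem_powerset.1 hJ').ssubset_of_ne hne
      have h1 := ih J hlt ((Finset.mem_powerset.1 hJ').trans hK)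
      rw [hE] at h1
      rw [h1, Nat.cast_pow]
    have hcK : c K = 1 := by simp [c, g.minLsK_self, g.ninv_one]
    rw [hrest, hcK, one_mul] at hEq
    rw [hcK, one_mul] at hId
    have h2 : ((E K).card : ℤ) =
        (Fintype.card F : ℤ) ^ (half D + g.lenK (K : Set ℕ)) :=
      mul_left_cancel₀ (pow_ne_zero K.card (by norm_num : (-1 : ℤ) ≠ 0)) (by linarith)
    rw [hE]
    exact_mod_cast h2

/-- Steinberg: `q^(2N)` unipotent elements. -/
theorem card_unipotent (hc : HasComm D) (hse : SuppEq D) (p : ℕ) [Fact p.Prime] [CharP F p] :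
    Nat.card {x : ↥(D.group F) // ∃ k : ℕ, orderOf x = p ^ k} =
      Fintype.card F ^ (2 * (D.nroots / 2)) := by
  classical
  have h := g.card_unipotent_parabolic (F := F) hc hse p (Finset.range D.rank) subset_rfl
  have hset : ((Finset.range D.rank : Finset ℕ) : Set ℕ) = {i | i < D.rank} := by ext i; simp
  have htop : ∀ x : ↥(D.group F), x ∈ D.parabolicIn F (Finset.range D.rank) := by
    intro x
    obtain ⟨w, hw, hxw⟩ := g.exists_cellW hc x
    rw [g.mem_parabolicIn_iff hc hw hxw, hset, ← g.weyl_eq_wJ]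
    exact hw
  simp only [htop, true_and] at h
  rw [h]
  congr 1
  obtain ⟨v, hv⟩ := g.exists_long ((Finset.range D.rank : Finset ℕ) : Set ℕ)
  have hopp : g.IsOpp ((Finset.range D.rank : Finset ℕ) : Set ℕ) 1 := by
    intro a ha
    have : g.SuppIn ((Finset.range D.rank : Finset ℕ) : Set ℕ) a := by
      rw [hset]; exact g.suppIn_range a
    simp only [inv_one, Equiv.Perm.one_apply, this, not_true_eq_false, iff_false]
    omega
  have h1 := g.ninv_opp_add (one_mem _) hopp hv
  rw [g.ninv_one, zero_add, g.ninv_long hv] at h1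
  rw [h1, half, two_mul]

end Good

end CfsgLib.Chev
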