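import Mathlib
import Cfsg.Agent.Lib.KnownB.GLClass
import Cfsg.Agent.Lib.KnownB.ClassBounds

/-!
Class numbers of `GL_n`, `SL_n` and `PSL_n` over a finite field.
-/

set_option autoImplicit false

namespace CfsgLib.KnownB.ClassCount

open Polynomial Finset CfsgLib.KnownB.GLClass CfsgLib.KnownB.ClassNum

variable {F : Type*} [Field F] [Fintype F] {n : ℕ}

theorem card_gl_classes_le :
    Nat.card (ConjClasses (GL (Fin n) F)) ≤ Fintype.card F ^ n := by
  let f : ConjClasses (GL (Fin n) F) → {h : Fin n → F[X] // IsData n h} := fun C =>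
    ⟨dataOf ((Quotient.out C : GL (Fin n) F) : Matrix (Fin n) (Fin n) F),
      isData_dataOf ((Matrix.isUnit_iff_isUnit_det _).1 (Quotient.out C).isUnit).ne_zero⟩
  refine le_trans (Nat.card_le_card_of_injective f fun C C' e => ?_)
    ((card_data_le n n).trans (sumWt_le_pow Fintype.one_lt_card n n))
  obtain ⟨T, hT⟩ := exists_conj_of_dataOf (congrArg Subtype.val e)
  rw [← Quotient.out_eq C, ← Quotient.out_eq C']
  exact Quotient.sound (isConj_iff.2 ⟨T, by rw [mul_inv_eq_iff_eq_mul]; exact Units.ext hT⟩)

/-- The monic polynomial with given lower coefficients. -/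
noncomputable def monicOf (c : Fin n → F) : F[X] := X ^ n + ∑ i : Fin n, C (c i) * X ^ (i : ℕ)

theorem degree_lower_lt (c : Fin n → F) :
    (∑ i : Fin n, C (c i) * X ^ (i : ℕ)).degree < (n : WithBot ℕ) := by
  refine lt_of_le_of_lt (degree_sum_le _ _) ((Finset.sup_lt_iff (WithBot.bot_lt_coe n)).2 fun i _ => ?_)
  exact lt_of_le_of_lt (degree_C_mul_X_pow_le _ _) (WithBot.coe_lt_coe.2 i.2)

theorem monic_monicOf (c : Fin n → F) : (monicOf c).Monic := monic_X_pow_add (degree_lower_lt c)

theorem natDegree_monicOf (c : Fin n → F) : (monicOf c).natDegree = n := by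
  refine natDegree_eq_of_degree_eq_some ?_
  rw [monicOf, degree_add_eq_left_of_degree_lt (by rw [degree_X_pow]; exact degree_lower_lt c), degree_X_pow]

theorem coeff_monicOf (c : Fin n → F) (i : Fin n) : (monicOf c).coeff i = c i := by
  rw [monicOf, coeff_add, coeff_X_pow, if_neg i.2.ne, zero_add, finsetSum_coeff,
    sum_eq_single i (fun j _ hj => by rw [coeff_C_mul, coeff_X_pow, if_neg (fun h => hj (Fin.ext h.symm)),
      mul_zero]) (fun h => absurd (mem_univ i) h), coeff_C_mul, coeff_X_pow, if_pos rfl, mul_one]

/-- A companion matrix. -/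
noncomputable def companion (c : Fin n → F) : Matrix (Fin n) (Fin n) F :=
  Matrix.reindex (finCongr ((AdjoinRoot.powerBasis_dim (monic_monicOf c).ne_zero).trans (natDegree_monicOf c))) (finCongr ((AdjoinRoot.powerBasis_dim (monic_monicOf c).ne_zero).trans (natDegree_monicOf c)))
    (Algebra.leftMulMatrix (AdjoinRoot.powerBasis (monic_monicOf c).ne_zero).basis
      (AdjoinRoot.powerBasis (monic_monicOf c).ne_zero).gen)

theorem charpoly_companion (c : Fin n → F) : (companion c).charpoly = monicOf c := by
  rw [companion, Matrix.charpoly_reindex]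
  refine (charpoly_leftMulMatrix _).trans ?_
  rw [AdjoinRoot.powerBasis_gen, AdjoinRoot.minpoly_root (monic_monicOf c).ne_zero,
    (monic_monicOf c).leadingCoeff, inv_one, C_1, mul_one]

theorem det_companion (c : Fin n → F) (hn : 0 < n) :
    (companion c).det = (-1) ^ n * c ⟨0, hn⟩ := by
  rw [Matrix.det_eq_sign_charpoly_coeff, charpoly_companion, Fintype.card_fin, ← coeff_monicOf c ⟨0, hn⟩]

theorem companion_ne_one (c : Fin n → F) (hn : 2 ≤ n) : companion c ≠ 1 := by
  intro h
  have h1 : (AdjoinRoot.powerBasis (monic_monicOf c).ne_zero).gen = 1 := by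
    refine Algebra.leftMulMatrix_injective (AdjoinRoot.powerBasis (monic_monicOf c).ne_zero).basis ?_
    rw [map_one]
    apply (Matrix.reindex (finCongr ((AdjoinRoot.powerBasis_dim (monic_monicOf c).ne_zero).trans (natDegree_monicOf c))) (finCongr ((AdjoinRoot.powerBasis_dim (monic_monicOf c).ne_zero).trans (natDegree_monicOf c)))).injective
    exact h.trans (by simp)
  rw [AdjoinRoot.powerBasis_gen] at h1
  have h2 : (aeval (AdjoinRoot.root (monicOf c))) (X - C (1 : F)) = 0 := by simp [h1]
  rw [AdjoinRoot.aeval_eq, AdjoinRoot.mk_eq_zero] at h2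
  have := natDegree_le_of_dvd h2 (X_sub_C_ne_zero 1)
  rw [natDegree_monicOf, natDegree_X_sub_C] at this
  omega

theorem charpoly_mk_gl {g h : GL (Fin n) F} (e : IsConj g h) :
    (g : Matrix (Fin n) (Fin n) F).charpoly = (h : Matrix (Fin n) (Fin n) F).charpoly := by
  obtain ⟨c, rfl⟩ := isConj_iff.1 e
  simp [Matrix.charpoly_units_conj]

theorem le_card_gl_classes (hn : 1 ≤ n) :
    Fintype.card F ^ n - Fintype.card F ^ (n - 1) ≤ Nat.card (ConjClasses (GL (Fin n) F)) := by
  obtain ⟨k, rfl⟩ : ∃ k, n = k + 1 := ⟨n - 1, by omega⟩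
  have hne : ∀ p : Fˣ × (Fin k → F), (companion (Fin.cons (p.1 : F) p.2 : Fin (k + 1) → F)).det ≠ 0 := by
    intro p
    rw [det_companion _ (Nat.succ_pos k)]
    simp [show (⟨0, Nat.succ_pos k⟩ : Fin (k + 1)) = 0 from rfl]
  have h : Nat.card (Fˣ × (Fin k → F)) ≤ Nat.card (ConjClasses (GL (Fin (k + 1)) F)) := by
    refine Nat.card_le_card_of_injective
      (fun p => ConjClasses.mk (Matrix.GeneralLinearGroup.mkOfDetNeZero _ (hne p))) fun p p' e => ?_
    have h1 := charpoly_mk_gl (ConjClasses.mk_eq_mk_iff_isConj.1 e)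
    change (companion _).charpoly = (companion _).charpoly at h1
    rw [charpoly_companion, charpoly_companion] at h1
    have h2 : (Fin.cons (p.1 : F) p.2 : Fin (k + 1) → F) = Fin.cons (p'.1 : F) p'.2 :=
      funext fun i => by
        rw [← coeff_monicOf (Fin.cons (p.1 : F) p.2) i, h1, coeff_monicOf]
    exact Prod.ext (Units.ext (Fin.cons_inj.1 h2).1) (Fin.cons_inj.1 h2).2
  rw [Nat.card_prod, Nat.card_units, Nat.card_fun, Nat.card_fin, Nat.card_eq_fintype_card] at h
  rw [Nat.add_sub_cancel, pow_succ', ← Nat.sub_one_mul]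
  exact h

theorem charpoly_mk_sl {g h : Matrix.SpecialLinearGroup (Fin n) F} (e : IsConj g h) :
    (g : Matrix (Fin n) (Fin n) F).charpoly = (h : Matrix (Fin n) (Fin n) F).charpoly :=
  charpoly_mk_gl (g := Matrix.SpecialLinearGroup.toGL g) (h := Matrix.SpecialLinearGroup.toGL h)
    (Matrix.SpecialLinearGroup.toGL.map_isConj e)

theorem lt_card_sl_classes (hn : 2 ≤ n) :
    Fintype.card F ^ (n - 1) < Nat.card (ConjClasses (Matrix.SpecialLinearGroup (Fin n) F)) := by
  classical
  obtain ⟨k, rfl⟩ : ∃ k, n = k + 1 := ⟨n - 1, by omega⟩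
  let cf : (Fin k → F) → Fin (k + 1) → F := fun p => Fin.cons ((-1) ^ (k + 1)) p
  have hdet : ∀ p, (companion (cf p)).det = 1 := fun p => by
    rw [det_companion _ (Nat.succ_pos k)]
    simp [cf, show (⟨0, Nat.succ_pos k⟩ : Fin (k + 1)) = 0 from rfl, ← mul_pow]
  let f : Option (Fin k → F) → ConjClasses (Matrix.SpecialLinearGroup (Fin (k + 1)) F) := fun o =>
    match o with
    | none => ConjClasses.mk 1
    | some p => ConjClasses.mk ⟨_, hdet p⟩
  have hf : Function.Injective f := by
    intro a b e
    cases a with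
    | none =>
      cases b with
      | none => rfl
      | some p =>
        have := isConj_one_right.1 (ConjClasses.mk_eq_mk_iff_isConj.1 e)
        exact absurd (congrArg Subtype.val this) (companion_ne_one (cf p) hn)
    | some p =>
      cases b with
      | none =>
        have := isConj_one_left.1 (ConjClasses.mk_eq_mk_iff_isConj.1 e)
        exact absurd (congrArg Subtype.val this) (companion_ne_one (cf p) hn)
      | some p' =>
        have h1 := charpoly_mk_sl (ConjClasses.mk_eq_mk_iff_isConj.1 e)
        change (companion _).charpoly = (companion _).charpoly at h1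
        rw [charpoly_companion, charpoly_companion] at h1
        have h2 : cf p = cf p' := funext fun i => by
          rw [← coeff_monicOf (cf p) i, h1, coeff_monicOf]
        exact congrArg some (Fin.cons_inj.1 h2).2
  have h := Nat.card_le_card_of_injective f hf
  rw [Finite.card_option, Nat.card_fun, Nat.card_fin, Nat.card_eq_fintype_card] at h
  rw [Nat.add_sub_cancel]
  omega

theorem card_sl_classes_le :
    Nat.card (ConjClasses (Matrix.SpecialLinearGroup (Fin n) F)) * (Fintype.card F - 1) ≤
      phiBound (Fintype.card F) n n := by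
  have h := card_fixed_le (F := F) (n := n) (z := 1) one_ne_zero
  rw [orderOf_one, Nat.div_one, Nat.card_congr (Equiv.subtypeUnivEquiv fun C l => scaleRoots_one _)] at h
  exact h

/-- A central element is a root of unity. -/
theorem center_scalar (hn : 1 ≤ n) (A : Subgroup.center (Matrix.SpecialLinearGroup (Fin n) F)) :
    ∃ z : F, z ≠ 0 ∧ orderOf z = orderOf A ∧
      ((A : Matrix.SpecialLinearGroup (Fin n) F) : Matrix (Fin n) (Fin n) F) = z • 1 := by
  let e := Matrix.SpecialLinearGroup.center_equiv_rootsOfUnity' (R := F) (⟨0, hn⟩ : Fin n)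
  have hz := Matrix.SpecialLinearGroup.scalar_eq_self_of_mem_center A.2 (⟨0, hn⟩ : Fin n)
  refine ⟨((e A : Fˣ) : F), Units.ne_zero _, ?_, ?_⟩
  · rw [orderOf_units, Subgroup.orderOf_coe, MulEquiv.orderOf_eq]
  · rw [← hz, Matrix.scalar_apply, Matrix.smul_one_eq_diagonal]
    rfl

theorem card_center (hn : 1 ≤ n) :
    Nat.card (Subgroup.center (Matrix.SpecialLinearGroup (Fin n) F)) = Nat.gcd n (Fintype.card F - 1) := by
  rw [Nat.card_congr (Matrix.SpecialLinearGroup.center_equiv_rootsOfUnity' (R := F)
    (⟨0, hn⟩ : Fin n)).toEquiv, Fintype.card_fin, show rootsOfUnity n F = (powMonoidHom n : Fˣ →* Fˣ).ker from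
      Subgroup.ext fun u => Iff.rfl, IsCyclic.card_powMonoidHom_ker, Nat.card_units, Nat.card_eq_fintype_card,
    Nat.gcd_comm]

section PSL

variable (F n)

/-- The action of the centre on classes by multiplication. -/
@[reducible] def centerAction : MulAction (Subgroup.center (Matrix.SpecialLinearGroup (Fin n) F))
    (ConjClasses (Matrix.SpecialLinearGroup (Fin n) F)) where
  smul z := Quotient.map' (fun g => (z : Matrix.SpecialLinearGroup (Fin n) F) * g) fun a b h => by
    obtain ⟨c, rfl⟩ := isConj_iff.1 h
    refine isConj_iff.2 ⟨c, ?_⟩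
    rw [← mul_assoc c, ← (Subgroup.mem_center_iff.1 z.2 c).symm]
    group
  one_smul C := by
    induction C using Quotient.inductionOn' with
    | h g => exact congrArg Quotient.mk'' (one_mul g)
  mul_smul z w C := by
    induction C using Quotient.inductionOn' with
    | h g => exact congrArg Quotient.mk'' (mul_assoc _ _ g)

variable {F n}

theorem psl_classes_bounds (hn : 2 ≤ n) :
    Nat.card (ConjClasses (Matrix.SpecialLinearGroup (Fin n) F)) ≤
        Nat.gcd n (Fintype.card F - 1) * Nat.card (ConjClasses (Matrix.ProjectiveSpecialLinearGroup (Fin n) F)) ∧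
      Nat.gcd n (Fintype.card F - 1) * Nat.card (ConjClasses (Matrix.ProjectiveSpecialLinearGroup (Fin n) F)) *
          (Fintype.card F - 1) ≤
        ∑ m ∈ (Nat.gcd n (Fintype.card F - 1)).divisors,
          Nat.totient m * phiBound (Fintype.card F) n (n / m) := by
  classical
  let G := Matrix.SpecialLinearGroup (Fin n) F
  let Z := Subgroup.center G
  letI := centerAction F n
  letI : Fintype Z := Fintype.ofFinite _
  letI : Fintype (ConjClasses G) := Fintype.ofFinite _
  letI : Fintype (MulAction.orbitRel.Quotient Z (ConjClasses G)) := Fintype.ofFinite _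
  have hsmul : ∀ (z : Z) (g : G), z • ConjClasses.mk g = ConjClasses.mk ((z : G) * g) := fun z g => rfl
  have hΩ : Nat.card (MulAction.orbitRel.Quotient Z (ConjClasses G)) =
      Nat.card (ConjClasses (Matrix.ProjectiveSpecialLinearGroup (Fin n) F)) := by
    let φ : G →* Matrix.ProjectiveSpecialLinearGroup (Fin n) F := QuotientGroup.mk' Z
    have hφs : Function.Surjective φ := QuotientGroup.mk'_surjective Z
    let f : MulAction.orbitRel.Quotient Z (ConjClasses G) →
        ConjClasses (Matrix.ProjectiveSpecialLinearGroup (Fin n) F) :=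
      Quotient.lift (ConjClasses.map φ) (by
        intro C D hCD
        obtain ⟨z, rfl⟩ := hCD
        induction D using Quotient.inductionOn' with
        | h g =>
          show ConjClasses.mk (φ ((z : G) * g)) = ConjClasses.mk (φ g)
          rw [map_mul, show φ (z : G) = 1 from (QuotientGroup.eq_one_iff (z : G)).2 z.2, one_mul])
    refine Nat.card_congr (Equiv.ofBijective f ⟨?_, ?_⟩)
    · intro a b
      induction a using Quotient.inductionOn' with
      | h C =>
        induction b using Quotient.inductionOn' with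
        | h D =>
          induction C using Quotient.inductionOn' with
          | h g =>
            induction D using Quotient.inductionOn' with
            | h g' =>
              intro e
              obtain ⟨c, hc⟩ := isConj_iff.1 (ConjClasses.mk_eq_mk_iff_isConj.1 e)
              obtain ⟨c, rfl⟩ := hφs c
              rw [← map_mul, ← map_inv, ← map_mul] at hc
              obtain ⟨z, hz, hz2⟩ := (QuotientGroup.mk'_eq_mk' Z).1 hc
              refine Eq.symm ?_
              refine Quotient.sound' ?_
              refine ⟨⟨z, hz⟩, ?_⟩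
              show ConjClasses.mk (z * g) = ConjClasses.mk g'
              refine ConjClasses.mk_eq_mk_iff_isConj.2 (isConj_iff.2 ⟨c, ?_⟩)
              rw [← hz2, ← mul_assoc, Subgroup.mem_center_iff.1 hz c, Subgroup.mem_center_iff.1 hz (c * g * c⁻¹)]
              simp only [mul_assoc]
    · intro D
      induction D using Quotient.inductionOn' with
      | h x =>
        obtain ⟨g, rfl⟩ := hφs x
        exact ⟨Quotient.mk'' (ConjClasses.mk g), rfl⟩
  have hburn := MulAction.sum_card_fixedBy_eq_card_orbits_mul_card_group Z (ConjClasses G)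
  simp only [← Nat.card_eq_fintype_card] at hburn
  rw [hΩ, card_center (by omega)] at hburn
  constructor
  · rw [mul_comm, ← hburn]
    refine le_trans (le_of_eq ?_) (single_le_sum (f := fun z : Z => Nat.card (MulAction.fixedBy (ConjClasses G) z))
      (fun _ _ => Nat.zero_le _) (mem_univ (1 : Z)))
    exact (Nat.card_congr (Equiv.subtypeUnivEquiv fun C => one_smul Z C)).symm
  rw [mul_comm (Nat.gcd n _), ← hburn, sum_mul]
  have hfix : ∀ z : Z, Nat.card (MulAction.fixedBy (ConjClasses G) z) * (Fintype.card F - 1) ≤
      phiBound (Fintype.card F) n (n / orderOf z) := by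
    intro z
    obtain ⟨r, hr0, hro, hrz⟩ := center_scalar (by omega) z
    rw [← hro]
    refine le_trans (Nat.mul_le_mul_right _ ?_) (card_fixed_le hr0)
    refine Nat.card_le_card_of_injective (fun C => ⟨C.1, ?_⟩) fun a b e => by
      have e1 := Subtype.ext_iff.1 e
      exact Subtype.ext e1
    obtain ⟨C, hC⟩ := C
    induction C using Quotient.inductionOn' with
    | h g =>
      change z • ConjClasses.mk g = ConjClasses.mk g at hC
      rw [hsmul] at hC
      have h1 := congrArg slData hC
      rw [slData_mk, slData_mk, Matrix.SpecialLinearGroup.coe_mul, hrz, smul_mul_assoc, one_mul,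
        dataOf_smul hr0] at h1
      intro l
      show (slData (ConjClasses.mk g) l).scaleRoots r = slData (ConjClasses.mk g) l
      rw [slData_mk]
      exact congrFun h1 l
  refine le_trans (sum_le_sum fun z _ => hfix z) (le_of_eq ?_)
  haveI : IsCyclic Z :=
    isCyclic_of_injective (Matrix.SpecialLinearGroup.center_equiv_rootsOfUnity' (R := F)
      (⟨0, by omega⟩ : Fin n)).toMonoidHom (MulEquiv.injective _)
  rw [← sum_fiberwise_of_maps_to (t := (Nat.gcd n (Fintype.card F - 1)).divisors) (g := fun z : Z => orderOf z)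
    (fun z _ => by
      rw [← card_center (F := F) (by omega : 1 ≤ n), Nat.mem_divisors]
      exact ⟨orderOf_dvd_natCard z, Nat.card_pos.ne'⟩)]
  refine sum_congr rfl fun m hm => ?_
  rw [sum_congr rfl (fun z hz => by rw [(mem_filter.1 hz).2]), sum_const, smul_eq_mul,
    IsCyclic.card_orderOf_eq_totient (α := Z)]
  rw [← Nat.card_eq_fintype_card, card_center (by omega : 1 ≤ n)]
  exact Nat.dvd_of_mem_divisors hm

end PSL

end CfsgLib.KnownB.ClassCount
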