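import Mathlib
import Cfsg.Prelude.Def_Classical

/-!
Elementary embeddings of alternating groups, `SL₂` and `GL_m` in the classical groups.
-/

namespace CfsgLib.KnownB

open Matrix
open scoped MatrixGroups

universe u
variable {F : Type u} [Field F]

section Block

variable {r s n : Type} [Fintype r] [DecidableEq r] [Fintype s] [DecidableEq s]

/-- `A ↦ diag(A, 1)` on matrices, as a monoid hom. -/
def blockHom (e : r ⊕ s ≃ n) [Fintype n] [DecidableEq n] : Matrix r r F →* Matrix n n F where
  toFun A := reindex e e (fromBlocks A 0 0 1)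
  map_one' := by simp [fromBlocks_one]
  map_mul' A B := by
    simp only [reindex_apply, Matrix.submatrix_mul_equiv, fromBlocks_multiply]
    simp

theorem blockHom_injective (e : r ⊕ s ≃ n) [Fintype n] [DecidableEq n] :
    Function.Injective (blockHom e : Matrix r r F →* Matrix n n F) := by
  intro A B h
  have h' := (reindex e e).injective h
  exact (fromBlocks_inj.1 h').1

theorem det_blockHom (e : r ⊕ s ≃ n) [Fintype n] [DecidableEq n] (A : Matrix r r F) :
    (blockHom e A).det = A.det := by
  show (reindex e e (fromBlocks A 0 0 1)).det = A.det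
  rw [det_reindex_self, det_fromBlocks_zero₁₂, det_one, mul_one]

/-- `SL_r` inside a larger special linear group. -/
def blockSL (e : r ⊕ s ≃ n) [Fintype n] [DecidableEq n] :
    SpecialLinearGroup r F →* SpecialLinearGroup n F where
  toFun A := ⟨blockHom e A.1, by rw [det_blockHom]; exact A.2⟩
  map_one' := Subtype.ext (map_one (blockHom e))
  map_mul' A B := Subtype.ext (map_mul (blockHom e) A.1 B.1)

theorem blockSL_injective (e : r ⊕ s ≃ n) [Fintype n] [DecidableEq n] :
    Function.Injective (blockSL e : SpecialLinearGroup r F →* SpecialLinearGroup n F) :=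
  fun _ _ h => Subtype.ext (blockHom_injective e (congrArg Subtype.val h))

end Block

/-- The splitting `Fin 2 ⊕ Fin (n - 2) ≃ Fin n`. -/
def twoSplit (n : ℕ) (h : 2 ≤ n) : Fin 2 ⊕ Fin (n - 2) ≃ Fin n :=
  finSumFinEquiv.trans (finCongr (by omega))

/-- Even permutations as permutation matrices of determinant one. -/
def altSL (n : ℕ) : alternatingGroup (Fin n) →* SpecialLinearGroup (Fin n) F where
  toFun σ := ⟨Matrix.permMatrixHom (R := F) (σ : Equiv.Perm (Fin n)), by
    have h : Equiv.Perm.sign (σ : Equiv.Perm (Fin n))⁻¹ = 1 := by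
      rw [map_inv, Equiv.Perm.mem_alternatingGroup.1 σ.2, inv_one]
    show ((σ : Equiv.Perm (Fin n))⁻¹.permMatrix F).det = 1
    rw [det_permutation, h]; simp⟩
  map_one' := Subtype.ext (map_one (Matrix.permMatrixHom (R := F)))
  map_mul' a b := Subtype.ext (map_mul (Matrix.permMatrixHom (R := F)) _ _)

theorem altSL_injective (n : ℕ) :
    Function.Injective (altSL n : alternatingGroup (Fin n) →* SpecialLinearGroup (Fin n) F) := by
  intro a b h
  have h' : (a : Equiv.Perm (Fin n))⁻¹.permMatrix F = (b : Equiv.Perm (Fin n))⁻¹.permMatrix F :=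
    congrArg Subtype.val h
  have h2 : ∀ i, (b : Equiv.Perm (Fin n))⁻¹ i = (a : Equiv.Perm (Fin n))⁻¹ i := by
    intro i
    have := congrFun (congrFun h' i) ((a : Equiv.Perm (Fin n))⁻¹ i)
    simpa [PEquiv.toMatrix_apply] using this.symm
  exact Subtype.ext (inv_injective (Equiv.ext fun i => (h2 i).symm))

section GLEmbed

variable {m : ℕ}

/-- `g ↦ diag(g, g⁻ᵀ)` as a matrix. -/
def glDiagMat (m : ℕ) :
    GL (Fin m) F →* Matrix (Fin m ⊕ Fin m) (Fin m ⊕ Fin m) F where
  toFun g := fromBlocks (g : Matrix (Fin m) (Fin m) F) 0 0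
    ((g⁻¹ : GL (Fin m) F) : Matrix (Fin m) (Fin m) F)ᵀ
  map_one' := by simp [fromBlocks_one]
  map_mul' g h := by
    simp [fromBlocks_multiply, Matrix.transpose_mul]

theorem glDiagMat_injective : Function.Injective (glDiagMat m : GL (Fin m) F →* _) :=
  fun _ _ h => Units.ext (fromBlocks_inj.1 h).1

/-- `GL_m` inside `Sp_{2m}`. -/
def glSp (m : ℕ) : GL (Fin m) F →* symplecticGroup (Fin m) F :=
  (glDiagMat m).codRestrict (symplecticGroup (Fin m) F) fun g => by
    rw [SymplecticGroup.mem_iff]
    simp [glDiagMat, Matrix.J, fromBlocks_multiply, fromBlocks_transpose, ← Matrix.transpose_mul]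

theorem glSp_injective : Function.Injective (glSp m : GL (Fin m) F →* _) :=
  fun _ _ h => glDiagMat_injective (congrArg Subtype.val h)

theorem quadFormPlus_glDiagMat (g : GL (Fin m) F) (v : Fin m ⊕ Fin m → F) :
    Cfsg.quadFormPlus m F (glDiagMat m g *ᵥ v) = Cfsg.quadFormPlus m F v := by
  set A := (g : Matrix (Fin m) (Fin m) F) with hA
  set B := ((g⁻¹ : GL (Fin m) F) : Matrix (Fin m) (Fin m) F) with hB
  have hBA : B * A = 1 := by rw [hA, hB, ← Units.val_mul, inv_mul_cancel, Units.val_one]
  have h : Bᵀ *ᵥ (v ∘ Sum.inr) ⬝ᵥ A *ᵥ (v ∘ Sum.inl) = (v ∘ Sum.inr) ⬝ᵥ (v ∘ Sum.inl) := by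
    rw [Matrix.mulVec_transpose, ← Matrix.dotProduct_mulVec, Matrix.mulVec_mulVec, hBA,
      Matrix.one_mulVec]
  simp only [Cfsg.quadFormPlus, glDiagMat, MonoidHom.coe_mk, OneHom.coe_mk, ← hA, ← hB,
    fromBlocks_mulVec, Matrix.zero_mulVec, add_zero, zero_add, Sum.elim_inl, Sum.elim_inr]
  rw [dotProduct_comm, dotProduct_comm _ (v ∘ Sum.inl)] at h
  exact h

variable {ι : Type} [Fintype ι] [DecidableEq ι]

/-- A matrix representation preserving `Q`, as a hom into the isometry group. -/
noncomputable def toIsometry {K : Type*} [Group K] (Q : (ι → F) → F) (φ : K →* Matrix ι ι F)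
    (h : ∀ k v, Q (φ k *ᵥ v) = Q v) : K →* Cfsg.isometryGroup F Q :=
  φ.toHomUnits.codRestrict (Cfsg.isometryGroup F Q) fun k u _ => h k u

theorem toIsometry_injective {K : Type*} [Group K] (Q : (ι → F) → F) (φ : K →* Matrix ι ι F)
    (h : ∀ k v, Q (φ k *ᵥ v) = Q v) (hφ : Function.Injective φ) :
    Function.Injective (toIsometry Q φ h) :=
  fun _ _ e => hφ (congrArg Units.val (congrArg Subtype.val e))

/-- `GL_m` inside `O⁺_{2m}`. -/
noncomputable def glOPlus (m : ℕ) :
    GL (Fin m) F →* Cfsg.isometryGroup F (Cfsg.quadFormPlus m F) :=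
  toIsometry _ (glDiagMat m) quadFormPlus_glDiagMat

theorem glOPlus_injective : Function.Injective (glOPlus m : GL (Fin m) F →* _) :=
  toIsometry_injective _ _ _ glDiagMat_injective

/-- `GL_m` inside `O_{2m+1}`. -/
noncomputable def glOOdd (m : ℕ) : GL (Fin m) F →* Cfsg.isometryGroup F (Cfsg.quadFormOdd m F) :=
  toIsometry _ ((blockHom (Equiv.sumComm (Fin m ⊕ Fin m) Unit)).comp (glDiagMat m)) (by
    intro g v
    have h := quadFormPlus_glDiagMat g (v ∘ Sum.inr)
    simp only [Cfsg.quadFormPlus, Function.comp_apply] at h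
    have e : ((blockHom (Equiv.sumComm (Fin m ⊕ Fin m) Unit)).comp (glDiagMat m) g) *ᵥ v =
        Sum.elim (v ∘ Sum.inl) (glDiagMat m g *ᵥ (v ∘ Sum.inr)) := by
      ext (i | i) <;>
        simp [blockHom, Matrix.mulVec, dotProduct, Fintype.sum_sum_type]
    rw [e]
    simp only [Cfsg.quadFormOdd, Sum.elim_inl, Sum.elim_inr, Function.comp_apply]
    rw [h])

theorem glOOdd_injective : Function.Injective (glOOdd m : GL (Fin m) F →* _) :=
  toIsometry_injective _ _ _ ((blockHom_injective _).comp glDiagMat_injective)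

/-- `GL_m` inside the orthogonal group of `quadFormMinus m`. -/
noncomputable def glOMinus (m : ℕ) (a b : F) :
    GL (Fin m) F →* Cfsg.isometryGroup F (Cfsg.quadFormMinus m F a b) :=
  toIsometry _ ((blockHom (Equiv.refl ((Fin m ⊕ Fin m) ⊕ Fin 2))).comp (glDiagMat m)) (by
    intro g v
    have h := quadFormPlus_glDiagMat g (v ∘ Sum.inl)
    simp only [Cfsg.quadFormPlus, Function.comp_apply] at h
    have e : ((blockHom (Equiv.refl ((Fin m ⊕ Fin m) ⊕ Fin 2))).comp (glDiagMat m) g) *ᵥ v =
        Sum.elim (glDiagMat m g *ᵥ (v ∘ Sum.inl)) (v ∘ Sum.inr) := by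
      simp [blockHom, fromBlocks_mulVec]
    rw [e]
    simp only [Cfsg.quadFormMinus, Sum.elim_inl, Sum.elim_inr, Function.comp_apply]
    rw [h])

theorem glOMinus_injective (a b : F) :
    Function.Injective (glOMinus m a b : GL (Fin m) F →* _) :=
  toIsometry_injective _ _ _ ((blockHom_injective _).comp glDiagMat_injective)

end GLEmbed

theorem toGL_injective {n : Type} [Fintype n] [DecidableEq n] :
    Function.Injective (SpecialLinearGroup.toGL : SpecialLinearGroup n F →* GL n F) :=
  fun _ _ h => Subtype.ext (congrArg Units.val h)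

end CfsgLib.KnownB
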