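import Cfsg.Prelude.Def_LinearParabolics
import Mathlib.Algebra.BigOperators.Fin
import Mathlib.Order.Interval.Finset.Fin

/-!
# Block labels of a composition
-/

set_option autoImplicit false

namespace CfsgLib.KnownB.Flag

variable {n : ℕ} {μ : Fin n → ℕ}

/-- Positions as pairs (block, offset). -/
def blockEquiv (h : ∑ i, μ i = n) : (Σ i, Fin (μ i)) ≃ Fin n :=
  finSigmaFinEquiv.trans (finCongr h)

theorem blockEquiv_val (h : ∑ i, μ i = n) (k : Σ i, Fin (μ i)) :
    (blockEquiv h k : ℕ) = ∑ j ∈ Finset.Iio k.1, μ j + k.2 := by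
  show ((finSigmaFinEquiv k : Fin _) : ℕ) = _
  rw [finSigmaFinEquiv_apply]
  congr 1
  refine Finset.sum_bij (fun j _ => Fin.castLE k.1.2.le j) (fun j _ => Finset.mem_Iio.mpr j.2)
    (fun a _ b _ hab => Fin.castLE_injective _ hab)
    (fun b hb => ⟨⟨b, Fin.lt_def.mp (Finset.mem_Iio.mp hb)⟩, Finset.mem_univ _, rfl⟩)
    (fun _ _ => rfl)

theorem compLabel_blockEquiv (h : ∑ i, μ i = n) (k : Σ i, Fin (μ i)) :
    Cfsg.compLabel μ (blockEquiv h k) = k.1 := by
  classical
  rw [Cfsg.compLabel]
  have : (Finset.univ.filter fun j : Fin n =>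
      (∑ l ∈ Finset.univ.filter (fun l : Fin n => l ≤ j), μ l) ≤ (blockEquiv h k : ℕ)) =
      Finset.Iio k.1 := by
    ext j
    rw [Finset.mem_filter, blockEquiv_val, Finset.mem_Iio]
    have hIic : (Finset.univ.filter fun l : Fin n => l ≤ j) = Finset.Iic j := by ext; simp
    rw [hIic]
    refine ⟨fun hle => ?_, fun hlt => ⟨Finset.mem_univ _, ?_⟩⟩
    · by_contra hc
      push Not at hc
      have hsub : insert k.1 (Finset.Iio k.1) ⊆ Finset.Iic j := by
        intro l hl
        rw [Finset.mem_insert, Finset.mem_Iio] at hl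
        rw [Finset.mem_Iic]
        rcases hl with rfl | hl
        · exact hc
        · exact hl.le.trans hc
      have := Finset.sum_le_sum_of_subset (f := μ) hsub
      rw [Finset.sum_insert (by simp)] at this
      have := k.2.2
      omega
    · refine le_trans (Finset.sum_le_sum_of_subset fun l hl => ?_) (Nat.le_add_right _ _)
      rw [Finset.mem_Iic] at hl
      exact Finset.mem_Iio.mpr (hl.trans_lt hlt)
  rw [this, Fin.card_Iio]

/-- The block of a position, as an element of `Fin n`. -/
def lab (h : ∑ i, μ i = n) (x : Fin n) : Fin n := ((blockEquiv h).symm x).1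

theorem compLabel_eq_lab (h : ∑ i, μ i = n) (x : Fin n) : Cfsg.compLabel μ x = lab h x := by
  obtain ⟨k, rfl⟩ := (blockEquiv h).surjective x
  rw [compLabel_blockEquiv, lab, Equiv.symm_apply_apply]

theorem compLabel_mono : Monotone (Cfsg.compLabel μ) := by
  intro x y hxy
  refine Finset.card_le_card fun j hj => ?_
  simp only [Finset.mem_filter, Finset.mem_univ, true_and] at hj ⊢
  exact hj.trans hxy

theorem lab_mono (h : ∑ i, μ i = n) : Monotone (lab h) := by
  intro x y hxy
  rw [Fin.le_def, ← compLabel_eq_lab h, ← compLabel_eq_lab h]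
  exact compLabel_mono hxy

/-- The fibre of a block label. -/
def labFiberEquiv (h : ∑ i, μ i = n) (i : Fin n) : {x // lab h x = i} ≃ Fin (μ i) :=
  ((blockEquiv h).symm.subtypeEquiv (p := fun x => lab h x = i) (q := fun k => k.1 = i)
    (fun _ => Iff.rfl)).trans (Equiv.sigmaSubtype i)

theorem natCard_lab_fiber (h : ∑ i, μ i = n) (i : Fin n) :
    Nat.card {x // lab h x = i} = μ i := by
  rw [Nat.card_congr (labFiberEquiv h i), Nat.card_fin]

theorem natCard_lab_le (h : ∑ i, μ i = n) (i : Fin n) :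
    Nat.card {x // lab h x ≤ i} = ∑ j ∈ Finset.Iic i, μ j := by
  classical
  rw [Nat.card_eq_fintype_card, Fintype.card_subtype,
    Finset.card_eq_sum_card_fiberwise (f := lab h) (t := Finset.Iic i)
      (fun x hx => Finset.mem_Iic.mpr (Finset.mem_filter.mp hx).2)]
  refine Finset.sum_congr rfl fun j hj => ?_
  rw [← natCard_lab_fiber h j, Nat.card_eq_fintype_card, Fintype.card_subtype, Finset.filter_filter]
  congr 1
  refine Finset.filter_congr fun x _ => ?_
  exact ⟨fun hx => hx.2, fun hx => ⟨hx ▸ Finset.mem_Iic.mp hj, hx⟩⟩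

end CfsgLib.KnownB.Flag
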