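import Cfsg.Agent.Lib.Char.Induce
import Cfsg.Agent.Lib.Char.Constituent

/-!
Tools for cuspidal characters: averaging over subgroups, multiplicity one by an anti-automorphism,
and the double coset form of inner products of induced class functions.
-/

set_option autoImplicit false

namespace CfsgLib.KnownB.Cusp

open Module
open scoped ComplexConjugate

universe u

variable {G : Type u} [Group G]

/-! ### Averages -/

theorem eq_zero_of_sq_eq_smul {V : Type*} [AddCommGroup V] [Module ℂ V] [FiniteDimensional ℂ V]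
    {P : V →ₗ[ℂ] V} {c : ℂ} (hc : c ≠ 0) (hP : P ∘ₗ P = c • P) (ht : LinearMap.trace ℂ V P = 0) :
    P = 0 := by
  set P' := c⁻¹ • P with hP'
  have hid : IsIdempotentElem P' := by
    show P' * P' = P'
    rw [hP', smul_mul_smul_comm, Module.End.mul_eq_comp, hP, smul_smul, mul_assoc,
      inv_mul_cancel₀ hc, mul_one]
  have hproj : LinearMap.IsProj (LinearMap.range P') P' :=
    LinearMap.IsIdempotentElem.isProj_range P' hid
  have h := hproj.trace
  rw [hP', map_smul, ht, smul_zero] at h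
  have h0 : finrank ℂ (LinearMap.range P') = 0 := by exact_mod_cast h.symm
  rw [Submodule.finrank_eq_zero, LinearMap.range_eq_bot] at h0
  simpa [hP', hc] using h0

/-- A character without invariants under `N` sums to zero on every coset of `N`. -/
theorem sum_coset_eq_zero {χ : G → ℂ} (hχ : Cfsg.IsCharacter G χ) (N : Subgroup G) [Fintype N]
    (h : ∑ v : N, χ v = 0) (x : G) : ∑ v : N, χ (x * v) = 0 := by
  obtain ⟨n, ρ, rfl⟩ := hχ
  set P : (Fin n → ℂ) →ₗ[ℂ] (Fin n → ℂ) := ∑ v : N, ρ v with hP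
  have htr : LinearMap.trace ℂ _ P = 0 := by rw [hP, map_sum]; exact h
  have hsq : P ∘ₗ P = (Fintype.card N : ℂ) • P := by
    rw [← Module.End.mul_eq_comp]
    conv_lhs => rw [hP, Finset.sum_mul]
    have : ∀ v : N, ρ v * P = P := fun v => by
      rw [hP, Finset.mul_sum]
      exact Fintype.sum_equiv (Equiv.mulLeft v) _ _ fun w => by
        rw [← map_mul]; rfl
    rw [Finset.sum_congr rfl fun v _ => this v, Finset.sum_const, Finset.card_univ,
      Nat.cast_smul_eq_nsmul]
  have h0 := eq_zero_of_sq_eq_smul (by exact_mod_cast Fintype.card_ne_zero) hsq htr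
  have : LinearMap.trace ℂ _ (ρ x * P) = 0 := by rw [h0, mul_zero, map_zero]
  rw [hP, Finset.mul_sum, map_sum] at this
  refine Eq.trans (Finset.sum_congr rfl fun v _ => ?_) this
  rw [← map_mul]
  rfl

/-! ### Multiplicity at most one -/

/-- A family of pairwise commuting operators has a common eigenvector in an invariant subspace. -/
theorem exists_common_eigen {V : Type*} [AddCommGroup V] [Module ℂ V] [FiniteDimensional ℂ V]
    {ι : Type*} (T : ι → Module.End ℂ V) (hcomm : ∀ i j, Commute (T i) (T j)) (s : Finset ι) :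
    ∀ W : Submodule ℂ V, W ≠ ⊥ → (∀ i, ∀ v ∈ W, T i v ∈ W) →
    ∃ W' : Submodule ℂ V, W' ≤ W ∧ W' ≠ ⊥ ∧ (∀ i, ∀ v ∈ W', T i v ∈ W') ∧
      ∀ i ∈ s, ∃ c : ℂ, ∀ v ∈ W', T i v = c • v := by
  classical
  induction s using Finset.induction with
  | empty => intro W hW hi; exact ⟨W, le_rfl, hW, hi, by simp⟩
  | insert a s _ ih =>
    intro W hW hi
    obtain ⟨W₁, hle, hne, hinv, hs⟩ := ih W hW hi
    haveI : Nontrivial W₁ := Submodule.nontrivial_iff_ne_bot.mpr hne
    obtain ⟨c, hc⟩ := Module.End.exists_eigenvalue ((T a).restrict (hinv a))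
    obtain ⟨v, hv, hv0⟩ := Submodule.exists_mem_ne_zero_of_ne_bot hc
    rw [Module.End.mem_eigenspace_iff] at hv
    refine ⟨W₁ ⊓ Module.End.eigenspace (T a) c, inf_le_left.trans hle, ?_, ?_, ?_⟩
    · rw [Submodule.ne_bot_iff]
      refine ⟨v, Submodule.mem_inf.mpr ⟨v.2, Module.End.mem_eigenspace_iff.mpr ?_⟩,
        fun h => hv0 (Subtype.ext h)⟩
      exact congrArg Subtype.val hv
    · rintro i w ⟨hw1, hw2⟩
      refine ⟨hinv i w hw1, Module.End.mem_eigenspace_iff.mpr ?_⟩
      rw [← Module.End.mul_apply, (hcomm a i).eq, Module.End.mul_apply,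
        Module.End.mem_eigenspace_iff.mp hw2, map_smul]
    · intro i hi'
      rcases Finset.mem_insert.mp hi' with rfl | h
      · exact ⟨c, fun w hw => Module.End.mem_eigenspace_iff.mp hw.2⟩
      · obtain ⟨e, he⟩ := hs i h
        exact ⟨e, fun w hw => he w hw.1⟩

variable [Fintype G] (U : Subgroup G) (ψ : U →* ℂˣ)

/-- The projection onto the `ψ`-part, not normalised. -/
noncomputable def twist {V : Type*} [AddCommGroup V] [Module ℂ V] [Fintype U]
    (ρ : Representation ℂ G V) : V →ₗ[ℂ] V := ∑ u : U, conj (ψ u : ℂ) • ρ u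

theorem conj_psi (u : U) : conj (ψ u : ℂ) = ((ψ u)⁻¹ : ℂˣ) := by
  have hu : (ψ u : ℂ) ^ orderOf u = 1 := by
    rw [← Units.val_pow_eq_pow_val, ← map_pow, pow_orderOf_eq_one, map_one, Units.val_one]
  have hn : ‖(ψ u : ℂ)‖ = 1 := Complex.norm_eq_one_of_pow_eq_one hu (orderOf_pos u).ne'
  rw [Units.val_inv_eq_inv_val, Complex.inv_def, Complex.normSq_eq_norm_sq, hn]
  simp

theorem twist_mul [Fintype U] {V : Type*} [AddCommGroup V] [Module ℂ V]
    (ρ : Representation ℂ G V) (u : U) : ρ u * twist U ψ ρ = (ψ u : ℂ) • twist U ψ ρ := by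
  rw [twist, Finset.mul_sum, Finset.smul_sum]
  refine Fintype.sum_equiv (Equiv.mulLeft u) _ _ fun w => ?_
  rw [mul_smul_comm, smul_smul, Equiv.coe_mulLeft]
  beta_reduce
  rw [conj_psi, conj_psi, map_mul ψ, mul_inv, Units.val_mul, ← mul_assoc, Units.mul_inv, one_mul,
    Subgroup.coe_mul, map_mul]

theorem twist_sq [Fintype U] {V : Type*} [AddCommGroup V] [Module ℂ V]
    (ρ : Representation ℂ G V) :
    twist U ψ ρ * twist U ψ ρ = (Fintype.card U : ℂ) • twist U ψ ρ := by
  conv_lhs => arg 1; rw [twist]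
  rw [Finset.sum_mul]
  have : ∀ v : U, (conj (ψ v : ℂ) • ρ v) * twist U ψ ρ = twist U ψ ρ := fun v => by
    rw [smul_mul_assoc, twist_mul, smul_smul, conj_psi, Units.inv_mul, one_smul]
  rw [Finset.sum_congr rfl fun v _ => this v, Finset.sum_const, Finset.card_univ,
    Nat.cast_smul_eq_nsmul]

/-- If the sandwiched operators commute, `ψ` occurs at most once in an irreducible character. -/
theorem mult_le_one [Fintype U] {χ : G → ℂ} (hχ : Cfsg.IsIrrCharacter G χ)
    (hcomm : ∀ {n : ℕ} (ρ : Representation ℂ G (Fin n → ℂ)) (x y : G),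
      Commute (twist U ψ ρ * ρ x * twist U ψ ρ) (twist U ψ ρ * ρ y * twist U ψ ρ)) :
    Cfsg.classInner (fun u : U => χ u) (fun u => (ψ u : ℂ)) = 0 ∨
      Cfsg.classInner (fun u : U => χ u) (fun u => (ψ u : ℂ)) = 1 := by
  classical
  obtain ⟨n, ρ, hρ, rfl⟩ := hχ
  set E := twist U ψ ρ with hE
  have hval : Cfsg.classInner (fun u : U => ρ.character u) (fun u => (ψ u : ℂ)) =
      (Fintype.card U : ℂ)⁻¹ * LinearMap.trace ℂ _ E := by
    rw [CfsgLib.Char.classInner_def, Nat.card_eq_fintype_card, hE, twist, map_sum]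
    congr 1
    refine Finset.sum_congr rfl fun u _ => ?_
    rw [map_smul, smul_eq_mul, mul_comm]
    rfl
  have hc : (Fintype.card U : ℂ) ≠ 0 := by exact_mod_cast Fintype.card_ne_zero
  by_cases hE0 : E = 0
  · left; rw [hval, hE0, map_zero, mul_zero]
  right
  have hR : LinearMap.range E ≠ ⊥ := by rwa [Ne, LinearMap.range_eq_bot]
  obtain ⟨W', hW', hne, -, hsc⟩ := exists_common_eigen (fun x => E * ρ x * E) (hcomm ρ) Finset.univ
    (LinearMap.range E) hR fun x v _ => ⟨ρ x (E v), rfl⟩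
  obtain ⟨w, hw, hw0⟩ := Submodule.exists_mem_ne_zero_of_ne_bot hne
  obtain ⟨w₀, hw₀⟩ := hW' hw
  have hEw : E w = (Fintype.card U : ℂ) • w := by
    rw [← hw₀, ← Module.End.mul_apply, twist_sq, LinearMap.smul_apply]
  -- the orbit of `w` spans
  let S : Submodule ℂ (Fin n → ℂ) := Submodule.span ℂ (Set.range fun x => ρ x w)
  let S' : Subrepresentation ρ := ⟨S, fun g v hv => by
    induction hv using Submodule.span_induction with
    | mem y hy =>
      obtain ⟨x, rfl⟩ := hy
      exact Submodule.subset_span ⟨g * x, by show ρ (g * x) w = ρ g (ρ x w); rw [map_mul]; rfl⟩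
    | zero => rw [map_zero]; exact S.zero_mem
    | add y z _ _ hy hz => rw [map_add]; exact S.add_mem hy hz
    | smul c y _ hy => rw [map_smul]; exact S.smul_mem c hy⟩
  have hS : S = ⊤ := by
    rcases hρ.eq_bot_or_eq_top S' with h | h
    · exfalso
      have hm : w ∈ S := Submodule.subset_span ⟨1, by simp⟩
      have : S = ⊥ := congrArg Subrepresentation.toSubmodule h
      rw [this] at hm
      exact hw0 hm
    · exact congrArg Subrepresentation.toSubmodule h
  have hle : LinearMap.range E ≤ ℂ ∙ w := by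
    rw [LinearMap.range_eq_map, ← hS, Submodule.map_span, Submodule.span_le]
    rintro _ ⟨_, ⟨x, rfl⟩, rfl⟩
    obtain ⟨c, hc'⟩ := hsc x (Finset.mem_univ x)
    have h := hc' w hw
    rw [Module.End.mul_apply, Module.End.mul_apply, hEw, map_smul, map_smul] at h
    refine Submodule.mem_span_singleton.mpr ⟨(Fintype.card U : ℂ)⁻¹ * c, ?_⟩
    rw [mul_smul, ← h, smul_smul, inv_mul_cancel₀ hc, one_smul]
  have hrank : finrank ℂ (LinearMap.range E) = 1 := by
    refine le_antisymm ?_ ?_
    · exact (Submodule.finrank_mono hle).trans (by rw [finrank_span_singleton hw0])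
    · rcases Nat.eq_zero_or_pos (finrank ℂ (LinearMap.range E)) with h | h
      · exact absurd (Submodule.finrank_eq_zero.mp h) hR
      · exact h
  set P' := (Fintype.card U : ℂ)⁻¹ • E with hP'
  have hid : IsIdempotentElem P' := by
    show P' * P' = P'
    rw [hP', smul_mul_smul_comm, hE, twist_sq, smul_smul, mul_assoc, inv_mul_cancel₀ hc, mul_one]
  have hproj : LinearMap.IsProj (LinearMap.range P') P' :=
    LinearMap.IsIdempotentElem.isProj_range P' hid
  have h := hproj.trace
  rw [hP', LinearMap.range_smul _ _ (inv_ne_zero hc), hrank, map_smul, smul_eq_mul] at h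
  rw [hval, h, Nat.cast_one]

/-- Gelfand's trick. -/
theorem commute_of_antiinvolution [Fintype U] (τ : G ≃ G) (hanti : ∀ a b, τ (a * b) = τ b * τ a)
    (hfix : ∀ f : G → ℂ, (∀ (a : U) g, f (a * g) = conj (ψ a : ℂ) * f g) →
      (∀ (a : U) g, f (g * a) = f g * conj (ψ a : ℂ)) → ∀ g, f (τ g) = f g)
    {V : Type*} [AddCommGroup V] [Module ℂ V] (ρ : Representation ℂ G V) (x y : G) :
    Commute (twist U ψ ρ * ρ x * twist U ψ ρ) (twist U ψ ρ * ρ y * twist U ψ ρ) := by
  classical
  let F : G → G → ℂ := fun x g => ∑ u : U, ∑ v : U,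
    if (u : G) * x * v = g then conj (ψ u : ℂ) * conj (ψ v : ℂ) else 0
  have hleft : ∀ x (a : U) g, F x (a * g) = conj (ψ a : ℂ) * F x g := by
    intro x a g
    simp only [F, Finset.mul_sum]
    refine Fintype.sum_equiv (Equiv.mulLeft a⁻¹) _ _ fun u => Finset.sum_congr rfl fun v _ => ?_
    by_cases h : (u : G) * x * v = a * g
    · rw [if_pos h, if_pos (show ((Equiv.mulLeft a⁻¹ u : U) : G) * x * v = g by
        rw [Equiv.coe_mulLeft]; beta_reduce
        rw [Subgroup.coe_mul, Subgroup.coe_inv, mul_assoc (a : G)⁻¹, mul_assoc (a : G)⁻¹, h,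
          inv_mul_cancel_left]), Equiv.coe_mulLeft, ← mul_assoc, ← map_mul conj, ← map_mul conj,
        ← map_mul conj, ← Units.val_mul (ψ a), ← map_mul ψ, mul_inv_cancel_left]
    · rw [if_neg h, if_neg fun h' => h ?_, mul_zero]
      change ((a⁻¹ * u : U) : G) * x * v = g at h'
      rw [← h', Subgroup.coe_mul, Subgroup.coe_inv]; group
  have hright : ∀ x (a : U) g, F x (g * a) = F x g * conj (ψ a : ℂ) := by
    intro x a g
    simp only [F, Finset.sum_mul]
    refine Finset.sum_congr rfl fun u _ => Fintype.sum_equiv (Equiv.mulRight a⁻¹) _ _ fun v => ?_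
    by_cases h : (u : G) * x * v = g * a
    · rw [if_pos h, if_pos (show (u : G) * x * ((Equiv.mulRight a⁻¹ v : U) : G) = g by
        rw [Equiv.coe_mulRight]; beta_reduce
        rw [Subgroup.coe_mul, Subgroup.coe_inv, ← mul_assoc, h, mul_inv_cancel_right]),
        Equiv.coe_mulRight]
      beta_reduce
      rw [mul_assoc, ← map_mul conj (ψ (v * a⁻¹) : ℂ), ← Units.val_mul, ← map_mul ψ, inv_mul_cancel_right]
    · rw [if_neg h, if_neg fun h' => h ?_, zero_mul]
      change (u : G) * x * ((v * a⁻¹ : U) : G) = g at h'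
      rw [← h', Subgroup.coe_mul, Subgroup.coe_inv]; group
  have hF : ∀ x g, F x (τ g) = F x g := fun x => hfix (F x) (hleft x) (hright x)
  have hexp : ∀ x, twist U ψ ρ * ρ x * twist U ψ ρ = ∑ g, F x g • ρ g := by
    intro x
    simp only [F, Finset.sum_smul, ite_smul, zero_smul]
    rw [twist, Finset.sum_mul, Finset.sum_mul, Finset.sum_comm]
    refine Finset.sum_congr rfl fun u _ => ?_
    rw [Finset.mul_sum, Finset.sum_comm]
    refine Finset.sum_congr rfl fun v _ => ?_
    rw [Finset.sum_ite_eq, if_pos (Finset.mem_univ _), smul_mul_assoc, smul_mul_assoc, mul_smul_comm,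
      smul_smul, map_mul, map_mul]
  have hprod : ∀ x y, (∑ g, F x g • ρ g) * (∑ h, F y h • ρ h) =
      ∑ k, (∑ g, F x g * F y (g⁻¹ * k)) • ρ k := by
    intro x y
    rw [Finset.sum_mul]
    simp only [Finset.mul_sum, Finset.sum_smul]
    rw [Finset.sum_comm (f := fun k g => (F x g * F y (g⁻¹ * k)) • ρ k)]
    refine Finset.sum_congr rfl fun g _ => ?_
    refine Fintype.sum_equiv (Equiv.mulLeft g) _ _ fun h => ?_
    rw [Equiv.coe_mulLeft, inv_mul_cancel_left, smul_mul_smul_comm, map_mul]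
  have hconv : ∀ x y k, ∑ g, F x g * F y (g⁻¹ * k) = ∑ g, F y g * F x (g⁻¹ * k) := by
    intro x y k
    have step : ∀ k', ∑ g, F x g * F y (g⁻¹ * k') = ∑ g, F y g * F x (g⁻¹ * τ k') := by
      intro k'
      refine Fintype.sum_equiv ((Equiv.inv G).trans ((Equiv.mulRight k').trans τ)) _ _ fun g => ?_
      simp only [Equiv.trans_apply, Equiv.inv_apply, Equiv.coe_mulRight]
      have e : (τ (g⁻¹ * k'))⁻¹ * τ k' = τ g := by
        rw [inv_mul_eq_iff_eq_mul, ← hanti]
        rw [mul_inv_cancel_left]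
      rw [e, hF, hF, mul_comm]
    rw [step k]
    have : ∀ a, (∑ g, F y g * F x (g⁻¹ * τ a)) = ∑ g, F y g * F x (g⁻¹ * a) := fun a => by
      refine hfix (fun a => ∑ g, F y g * F x (g⁻¹ * a)) (fun u g => ?_) (fun u g => ?_) a
      · simp only [Finset.mul_sum]
        refine Fintype.sum_equiv (Equiv.mulLeft (u : G)⁻¹) _ _ fun h => ?_
        rw [Equiv.coe_mulLeft]
        beta_reduce
        rw [mul_inv_rev, inv_inv, mul_assoc h⁻¹, ← mul_assoc (conj _), ← hleft, mul_inv_cancel_left]
      · simp only [Finset.sum_mul]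
        refine Finset.sum_congr rfl fun h _ => ?_
        rw [← mul_assoc, hright, mul_assoc]
    exact this k
  show _ * _ = _ * _
  rw [hexp, hexp, hprod, hprod]
  exact Finset.sum_congr rfl fun k _ => by rw [hconv]

/-! ### Double cosets -/

variable (P Q : Subgroup G)

/-- The contribution of `z` to the inner product of induced functions. -/
noncomputable def doubleTerm [Fintype P] (f : P → ℂ) (g : Q → ℂ) (z : G) : ℂ :=
  ∑ p : P, f p * conj (Cfsg.extendByZero Q g (z * p * z⁻¹))

theorem inner_indFun [Fintype P] [Fintype Q] (f : P → ℂ) (g : Q → ℂ) :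
    Cfsg.classInner (Cfsg.indFun P f) (Cfsg.indFun Q g) =
      ((Nat.card P : ℂ) * Nat.card Q)⁻¹ * ∑ z : G, doubleTerm P Q f g z := by
  rw [CfsgLib.Char.frobenius_reciprocity P f _ (CfsgLib.Char.indFun_isClassFunction Q g),
    CfsgLib.Char.classInner_def, mul_inv, mul_assoc]
  congr 1
  simp only [CfsgLib.Char.indFun_def, doubleTerm, map_mul, map_sum, map_inv₀, map_natCast,
    Finset.mul_sum]
  rw [Finset.sum_comm (γ := P)]
  refine Fintype.sum_equiv (Equiv.inv G) _ _ fun x => ?_
  refine Finset.sum_congr rfl fun p _ => ?_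
  rw [Equiv.inv_apply, inv_inv]
  ring

theorem doubleTerm_conj [Fintype P] [Fintype Q] (f : P → ℂ) (g : Q → ℂ) (z : G) :
    doubleTerm Q P g f z⁻¹ = conj (doubleTerm P Q f g z) := by
  classical
  simp only [doubleTerm, map_sum, map_mul, Complex.conj_conj]
  have h1 : ∀ p : P, conj (f p) * Cfsg.extendByZero Q g (z * p * z⁻¹) =
      (fun x : G => conj (Cfsg.extendByZero P f x) * Cfsg.extendByZero Q g (z * x * z⁻¹)) p := fun p => by
    show _ = conj (Cfsg.extendByZero P f p) * _
    rw [CfsgLib.Char.extendByZero_coe]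
  have h2 : ∀ q : Q, g q * conj (Cfsg.extendByZero P f (z⁻¹ * q * z⁻¹⁻¹)) =
      (fun x : G => conj (Cfsg.extendByZero P f (z⁻¹ * x * z)) * Cfsg.extendByZero Q g x) q := fun q => by
    show _ = _ * Cfsg.extendByZero Q g q
    rw [CfsgLib.Char.extendByZero_coe, inv_inv, mul_comm]
  rw [Finset.sum_congr rfl fun q _ => h2 q, Finset.sum_congr rfl fun p _ => h1 p]
  have ext : ∀ (K : Subgroup G) [Fintype K] (h : G → ℂ), (∀ x, x ∉ K → h x = 0) →
      ∑ k : K, h k = ∑ x : G, h x := fun K _ h hK =>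
    by
      rw [← Finset.sum_subtype (Finset.univ.filter (· ∈ K)) (by simp) h]
      exact Finset.sum_subset (Finset.subset_univ _) fun x _ hx => hK x (by simpa using hx)
  rw [ext Q (fun x => conj (Cfsg.extendByZero P f (z⁻¹ * x * z)) * Cfsg.extendByZero Q g x)
      (fun x hx => by rw [CfsgLib.Char.extendByZero_of_not_mem g hx, mul_zero]),
    ext P (fun x => conj (Cfsg.extendByZero P f x) * Cfsg.extendByZero Q g (z * x * z⁻¹))
      (fun x hx => by rw [CfsgLib.Char.extendByZero_of_not_mem f hx, map_zero, zero_mul])]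
  exact (Fintype.sum_equiv ((Equiv.mulLeft z).trans (Equiv.mulRight z⁻¹)) _ _ fun x => by
    simp [mul_assoc]).symm

theorem extendByZero_conj {Q : Subgroup G} {g : Q → ℂ} (hg : Cfsg.IsClassFunction Q g) (q : Q)
    (x : G) : Cfsg.extendByZero Q g (q * x * (q : G)⁻¹) = Cfsg.extendByZero Q g x := by
  by_cases hx : x ∈ Q
  · rw [CfsgLib.Char.extendByZero_of_mem g hx,
      CfsgLib.Char.extendByZero_of_mem g (mul_mem (mul_mem q.2 hx) (inv_mem q.2))]
    exact hg ⟨x, hx⟩ q
  · rw [CfsgLib.Char.extendByZero_of_not_mem g hx, CfsgLib.Char.extendByZero_of_not_mem g]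
    intro h
    exact hx (by simpa [mul_assoc] using mul_mem (mul_mem (inv_mem q.2) h) q.2)

theorem doubleTerm_congr [Fintype P] {f : P → ℂ} {g : Q → ℂ} (hf : Cfsg.IsClassFunction P f)
    (hg : Cfsg.IsClassFunction Q g) (q : Q) (z : G) (p : P) :
    doubleTerm P Q f g (q * z * p) = doubleTerm P Q f g z := by
  refine Fintype.sum_equiv (MulAut.conj p).toEquiv _ _ fun x => ?_
  rw [show (MulAut.conj p).toEquiv x = p * x * p⁻¹ from rfl, hf]
  congr 2
  rw [show (q : G) * z * p * x * ((q : G) * z * p)⁻¹ = q * (z * ((p * x * p⁻¹ : P) : G) * z⁻¹) * (q : G)⁻¹ by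
    simp only [Subgroup.coe_mul, Subgroup.coe_inv]; group, extendByZero_conj hg]

/-- Vanishing by a subgroup over which `f` averages to zero. -/
theorem doubleTerm_eq_zero [Fintype P] {f : P → ℂ} {g : Q → ℂ} (K : Subgroup P) [Fintype K] (z : G)
    (hf : ∀ p : P, ∑ v : K, f (p * v) = 0)
    (hg : ∀ (x : G) (v : K), Cfsg.extendByZero Q g (x * (z * (v : P) * z⁻¹)) = Cfsg.extendByZero Q g x) :
    doubleTerm P Q f g z = 0 := by
  have key : (Fintype.card K : ℂ) * doubleTerm P Q f g z = 0 := by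
    calc (Fintype.card K : ℂ) * doubleTerm P Q f g z
        = ∑ v : K, ∑ p : P, f (p * v) * conj (Cfsg.extendByZero Q g (z * p * z⁻¹)) := by
          rw [show (Fintype.card K : ℂ) * doubleTerm P Q f g z = ∑ _v : K, doubleTerm P Q f g z by
            rw [Finset.sum_const, Finset.card_univ, nsmul_eq_mul]]
          refine Finset.sum_congr rfl fun v _ => ?_
          refine (Fintype.sum_equiv (Equiv.mulRight (v : P)) _ _ fun p => ?_).symm
          rw [Equiv.coe_mulRight, Subgroup.coe_mul,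
            show z * ((p : G) * (v : P)) * z⁻¹ = z * p * z⁻¹ * (z * (v : P) * z⁻¹) by group, hg]
      _ = 0 := by
          rw [Finset.sum_comm]
          exact Finset.sum_eq_zero fun p _ => by rw [← Finset.sum_mul, hf, zero_mul]
  exact (mul_eq_zero.mp key).resolve_left (by exact_mod_cast Fintype.card_ne_zero)

/-- Vanishing by an element acting by different scalars. -/
theorem doubleTerm_eq_zero_of_scalar [Fintype P] {f : P → ℂ} {g : Q → ℂ} (z : G) (v : P) (c c' : ℂ)
    (hcc : c * conj c' ≠ 1) (hf : ∀ p : P, f (p * v) = c * f p)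
    (hg : ∀ x : G, Cfsg.extendByZero Q g (x * (z * v * z⁻¹)) = c' * Cfsg.extendByZero Q g x) :
    doubleTerm P Q f g z = 0 := by
  have h : doubleTerm P Q f g z = c * conj c' * doubleTerm P Q f g z := by
    conv_lhs => rw [doubleTerm, ← Equiv.sum_comp (Equiv.mulRight v)]
    rw [doubleTerm, Finset.mul_sum]
    refine Finset.sum_congr rfl fun p _ => ?_
    rw [Equiv.coe_mulRight, Subgroup.coe_mul,
      show z * ((p : G) * v) * z⁻¹ = z * p * z⁻¹ * (z * v * z⁻¹) by group, hf, hg, map_mul]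
    ring
  by_contra h0
  exact hcc (mul_right_cancel₀ h0 (h.symm.trans (one_mul _).symm))

theorem extendByZero_mul_hom {Q : Subgroup G} (μ : Q →* ℂˣ) (x : G) (q : Q) :
    Cfsg.extendByZero Q (fun r => (μ r : ℂ)) (x * q) =
      (μ q : ℂ) * Cfsg.extendByZero Q (fun r => (μ r : ℂ)) x := by
  by_cases hx : x ∈ Q
  · rw [CfsgLib.Char.extendByZero_of_mem _ hx,
      CfsgLib.Char.extendByZero_of_mem _ (mul_mem hx q.2), mul_comm (μ q : ℂ)]
    show ((μ (⟨x, hx⟩ * q)) : ℂ) = _
    rw [map_mul, Units.val_mul]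
  · rw [CfsgLib.Char.extendByZero_of_not_mem _ hx, CfsgLib.Char.extendByZero_of_not_mem _ ?_, mul_zero]
    intro h
    exact hx (by simpa using mul_mem h (inv_mem q.2))

/-- Size of a double coset. -/
theorem card_double [Fintype P] [Fintype Q] [DecidableEq G] (w : G)
    [Fintype {p : P // w * p * w⁻¹ ∈ Q}] :
    ((Finset.univ : Finset (Q × P)).image fun x => (x.1 : G) * w * x.2).card *
        Fintype.card {p : P // w * p * w⁻¹ ∈ Q} = Fintype.card Q * Fintype.card P := by
  set I := (Finset.univ : Finset (Q × P)).image fun x => (x.1 : G) * w * x.2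
  rw [← Fintype.card_prod Q P, ← Finset.card_univ (α := Q × P),
    Finset.card_eq_sum_card_image (fun x : Q × P => (x.1 : G) * w * x.2) Finset.univ]
  rw [← smul_eq_mul, ← Finset.sum_const]
  refine Finset.sum_congr rfl fun z hz => ?_
  obtain ⟨⟨q₀, p₀⟩, -, rfl⟩ := Finset.mem_image.mp hz
  rw [← Finset.card_univ]
  rw [← Finset.card_map ⟨fun p : {p : P // w * p * w⁻¹ ∈ Q} =>
    ((q₀ * ⟨w * p.1 * w⁻¹, p.2⟩⁻¹, p.1 * p₀) : Q × P), fun p p' h => ?_⟩]
  · congr 1
    ext ⟨q, p⟩
    rw [Finset.mem_map, Finset.mem_filter]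
    constructor
    · rintro ⟨⟨a, ha⟩, -, e⟩
      obtain ⟨rfl, rfl⟩ := Prod.mk.inj e
      refine ⟨Finset.mem_univ _, ?_⟩
      simp only [Subgroup.coe_mul, Subgroup.coe_inv]
      group
    · rintro ⟨-, h⟩
      have e : w * ((p * p₀⁻¹ : P) : G) * w⁻¹ = ((q⁻¹ * q₀ : Q) : G) := by
        calc w * ((p * p₀⁻¹ : P) : G) * w⁻¹
            = (q : G)⁻¹ * ((q : G) * w * p) * (p₀ : G)⁻¹ * w⁻¹ := by
              rw [Subgroup.coe_mul, Subgroup.coe_inv]; group
          _ = _ := by rw [h, Subgroup.coe_mul, Subgroup.coe_inv]; group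
      refine ⟨⟨p * p₀⁻¹, e ▸ (q⁻¹ * q₀).2⟩, Finset.mem_univ _,
        Prod.ext (Subtype.ext ?_) (inv_mul_cancel_right p p₀)⟩
      show (q₀ : G) * (w * ((p * p₀⁻¹ : P) : G) * w⁻¹)⁻¹ = q
      rw [e, Subgroup.coe_mul, Subgroup.coe_inv]; group
  · exact Subtype.ext (mul_right_cancel (Prod.mk.inj h).2)

end CfsgLib.KnownB.Cusp
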