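import Cfsg.Agent.Lib.KnownB.CuspGeneric
import Mathlib.FieldTheory.Finite.Extension

/-!
The number of cuspidal irreducible characters of `GL n` is at least `φ(q^n - 1) / n`.
-/

set_option autoImplicit false

namespace CfsgLib.KnownB.Cusp

open scoped MatrixGroups IntermediateField
open Polynomial

universe u

variable {F : Type u} [Field F] [Fintype F] [DecidableEq F]

/-- The items of size `d` are the cuspidal characters of `GL d`. -/
theorem bij_cusp {d : ℕ} (hd : 0 < d) :
    Function.Bijective fun χ : {χ : Cfsg.IrrCharacter (GL (Fin d) F) // Cuspidal (χ : GL (Fin d) F → ℂ)} =>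
      (⟨⟨⟨d, (χ.1 : GL (Fin d) F → ℂ)⟩, hd, χ.1.2, χ.2⟩, rfl⟩ : {a : CItem F // cwt a = d}) := by
  refine ⟨fun χ χ' h => Subtype.ext (Subtype.ext ?_), ?_⟩
  · exact eq_of_heq (Sigma.mk.inj (congrArg (fun a => a.1.1) h)).2
  · rintro ⟨⟨⟨e, f⟩, he, h1, h2⟩, ha⟩
    obtain rfl : e = d := ha
    exact ⟨⟨⟨f, h1⟩, h2⟩, rfl⟩

theorem finite_items (d : ℕ) : Finite {a : CItem F // cwt a = d} := by
  rcases Nat.eq_zero_or_pos d with rfl | hd
  · haveI : IsEmpty {a : CItem F // cwt a = 0} := ⟨fun a => by
      have h : 0 < cwt a.1 := a.1.2.1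
      have := a.2
      omega⟩
    infer_instance
  · exact Finite.of_surjective _ (bij_cusp hd).2

theorem finite_prim (d : ℕ) : Finite {p : Prim F // pwt p = d} :=
  Finite.of_injective (fun p (i : Fin (d + 1)) => p.1.1.coeff i) fun p q h =>
    Subtype.ext (Subtype.ext (Polynomial.ext fun i => by
      rcases Nat.lt_or_ge i (d + 1) with hi | hi
      · exact congrFun h ⟨i, hi⟩
      · have hp : p.1.1.natDegree = d := p.2
        have hq : q.1.1.natDegree = d := q.2
        rw [coeff_eq_zero_of_natDegree_lt (by omega), coeff_eq_zero_of_natDegree_lt (by omega)]))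

/-- Cuspidal characters are as many as monic irreducible polynomials. -/
theorem card_cuspidal {d : ℕ} (hd : 1 ≤ d) :
    Nat.card {χ : Cfsg.IrrCharacter (GL (Fin d) F) // Cuspidal (χ : GL (Fin d) F → ℂ)} =
      Nat.card {p : Prim F // pwt p = d} := by
  rw [Nat.card_eq_of_bijective _ (bij_cusp hd)]
  refine card_fiber_eq finite_items (fun a => a.2.1) finite_prim pwt_pos (fun m hm => ?_) d hd
  obtain ⟨m, rfl⟩ : ∃ k, m = k + 1 := ⟨m - 1, by omega⟩
  rw [← card_gen_eq (Nat.succ_le_succ (Nat.zero_le m)), card_msets_prim, card_monic,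
    Nat.card_eq_fintype_card (α := F), mul_comm]
  exact (card_generic (F := F) (n := m + 1)).trans (card_relSet m)

omit [DecidableEq F] in
theorem totient_le_prim {n : ℕ} (hn : 1 ≤ n) :
    Nat.totient (Fintype.card F ^ n - 1) ≤ n * Nat.card {p : Prim F // pwt p = n} := by
  classical
  haveI : NeZero n := ⟨by omega⟩
  haveI : Fact (ringChar F).Prime := ⟨CharP.char_is_prime F (ringChar F)⟩
  let K := FiniteField.Extension F (ringChar F) n
  haveI : Fintype K := Fintype.ofFinite _
  haveI : Finite {p : Prim F // pwt p = n} := finite_prim n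
  haveI : Fintype {p : Prim F // pwt p = n} := Fintype.ofFinite _
  have hcardK : Fintype.card Kˣ = Fintype.card F ^ n - 1 := by
    rw [Fintype.card_units, Fintype.card_eq_nat_card, FiniteField.natCard_extension,
      Nat.card_eq_fintype_card]
  have hgen : ∀ g : Kˣ, orderOf g = Fintype.card Kˣ → F⟮(g : K)⟯ = ⊤ := by
    intro g hg
    refine eq_top_iff.mpr fun y _ => ?_
    by_cases hy : y = 0
    · exact hy ▸ zero_mem _
    · have hz : Subgroup.zpowers g = ⊤ :=
        Subgroup.eq_top_of_card_eq _ (by rw [Nat.card_zpowers, hg, Nat.card_eq_fintype_card])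
      have hmem : Units.mk0 y hy ∈ Subgroup.zpowers g := hz ▸ Subgroup.mem_top _
      obtain ⟨i, hi⟩ := Subgroup.mem_zpowers_iff.mp hmem
      have e : y = (g : K) ^ i := by
        rw [← Units.val_zpow_eq_zpow_val, hi]; rfl
      rw [e]
      exact zpow_mem (IntermediateField.mem_adjoin_simple_self F (g : K)) i
  have hint : ∀ g : Kˣ, IsIntegral F (g : K) := fun g => IsIntegral.of_finite F _
  have hdeg : ∀ g : Kˣ, orderOf g = Fintype.card Kˣ → (minpoly F (g : K)).natDegree = n := by
    intro g hg
    rw [← IntermediateField.adjoin.finrank (hint g), hgen g hg, IntermediateField.finrank_top',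
      FiniteField.finrank_extension]
  let G : Finset Kˣ := Finset.univ.filter fun g => orderOf g = Fintype.card Kˣ
  have hG : G.card = Nat.totient (Fintype.card F ^ n - 1) := by
    rw [← hcardK]
    exact IsCyclic.card_orderOf_eq_totient dvd_rfl
  rw [← hG, Nat.card_eq_fintype_card, ← Finset.card_univ, ← Finset.card_map (Function.Embedding.subtype _),
    ← Finset.card_map (Function.Embedding.subtype _)]
  refine le_trans (Finset.card_le_mul_card_image (f := fun g : Kˣ => minpoly F (g : K)) G n fun q _ => ?_)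
    (Nat.mul_le_mul_left n (Finset.card_le_card fun q hq => ?_))
  · rcases (G.filter fun g : Kˣ => minpoly F (g : K) = q).eq_empty_or_nonempty with he | ⟨g₀, hg₀⟩
    · rw [he]; simp
    obtain ⟨hg₁, rfl⟩ := Finset.mem_filter.mp hg₀
    have hmap : (G.filter fun g : Kˣ => minpoly F (g : K) = minpoly F (g₀ : K)).map
        ⟨Units.val, Units.val_injective⟩ ⊆ ((minpoly F (g₀ : K)).map (algebraMap F K)).roots.toFinset := by
      intro y hy
      obtain ⟨g, hg, rfl⟩ := Finset.mem_map.mp hy
      rw [Multiset.mem_toFinset, mem_roots (map_ne_zero (minpoly.ne_zero (hint g₀))), IsRoot, eval_map_algebraMap]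
      rw [← (Finset.mem_filter.mp hg).2]
      exact minpoly.aeval F _
    refine (Finset.card_map _).symm.trans_le ((Finset.card_le_card hmap).trans ?_)
    refine (Multiset.toFinset_card_le _).trans ((card_roots' _).trans ?_)
    rw [natDegree_map, hdeg g₀ (Finset.mem_filter.mp hg₁).2]
  · obtain ⟨g, hg, rfl⟩ := Finset.mem_image.mp hq
    have hg' := (Finset.mem_filter.mp hg).2
    simp only [Finset.mem_map, Finset.mem_univ, true_and, Function.Embedding.coe_subtype]
    refine ⟨⟨minpoly F (g : K), minpoly.monic (hint g), minpoly.irreducible (hint g), fun h => ?_⟩,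
      ⟨⟨_, hdeg g hg'⟩, rfl⟩, rfl⟩
    have h0 := minpoly.aeval F (g : K)
    rw [h, aeval_X] at h0
    exact g.ne_zero h0

/-- The count. -/
theorem count_cuspidal {n : ℕ} (hn : 1 ≤ n) :
    Nat.totient (Fintype.card F ^ n - 1) / n ≤
      Nat.card {χ : Cfsg.IrrCharacter (GL (Fin n) F) // Cuspidal (χ : GL (Fin n) F → ℂ)} := by
  rw [card_cuspidal hn]
  exact Nat.div_le_of_le_mul (totient_le_prim hn)

end CfsgLib.KnownB.Cusp
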