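import Cfsg.Agent.Lib.KnownB.CuspGG

/-!
The degree of a cuspidal character of `GL n`.
-/

set_option autoImplicit false

namespace CfsgLib.KnownB.Cusp

open scoped ComplexConjugate MatrixGroups
open Finset

universe u

variable {F : Type u} [Field F] [Fintype F] [DecidableEq F] {n : ℕ}

/-- The radical of the maximal parabolic cut at `m`. -/
def cutMon (F : Type u) [Field F] (n m : ℕ) : Submonoid (GL (Fin n) F) where
  carrier := {g | ∀ i j : Fin n, ¬ ((i : ℕ) < m ∧ m ≤ (j : ℕ)) → mat g i j = (1 : Matrix (Fin n) (Fin n) F) i j}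
  one_mem' := fun i j _ => rfl
  mul_mem' := fun {a b} ha hb i j hij => by
    show (mat a * mat b) i j = _
    rw [Matrix.mul_apply, Finset.sum_eq_single i]
    · rw [ha i i (by omega), Matrix.one_apply_eq, one_mul, hb i j hij]
    · intro l _ hl
      by_cases h : (i : ℕ) < m ∧ m ≤ (l : ℕ)
      · rw [hb l j (by omega), Matrix.one_apply_ne, mul_zero]
        rintro rfl
        exact hij h
      · rw [ha i l h, Matrix.one_apply_ne (Ne.symm hl), zero_mul]
    · simp

/-- The radical of the maximal parabolic cut at `m`. -/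
def cutGrp (F : Type u) [Field F] [Finite F] (n m : ℕ) : Subgroup (GL (Fin n) F) :=
  { cutMon F n m with inv_mem' := fun hx => inv_mem_of_finite (cutMon F n m) hx }

theorem mem_cutGrp {m : ℕ} {g : GL (Fin n) F} : g ∈ cutGrp F n m ↔
    ∀ i j : Fin n, ¬ ((i : ℕ) < m ∧ m ≤ (j : ℕ)) → mat g i j = (1 : Matrix (Fin n) (Fin n) F) i j :=
  Iff.rfl

open Classical in
/-- No invariants under any radical. -/
def Cuspidal (χ : GL (Fin n) F → ℂ) : Prop :=
  ∀ m : ℕ, 0 < m → m < n → ∑ g : GL (Fin n) F, (if g ∈ cutGrp F n m then χ g else 0) = 0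

theorem Cuspidal.sum_eq_zero {χ : GL (Fin n) F → ℂ} (h : Cuspidal χ) {m : ℕ} (h0 : 0 < m) (h1 : m < n)
    [Fintype (cutGrp F n m)] : ∑ v : cutGrp F n m, χ v = 0 := by
  classical
  rw [← Finset.sum_subtype (Finset.univ.filter (· ∈ cutGrp F n m)) (by simp) χ, Finset.sum_filter]
  exact h m h0 h1

theorem Cuspidal.intro {χ : GL (Fin n) F → ℂ}
    (h : ∀ m : ℕ, 0 < m → m < n → ∀ _ : Fintype (cutGrp F n m), ∑ v : cutGrp F n m, χ v = 0) :
    Cuspidal χ := by
  classical
  intro m h0 h1
  haveI : Fintype (cutGrp F n m) := Fintype.ofFinite _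
  rw [← Finset.sum_filter]
  exact (Finset.sum_subtype (p := fun g => g ∈ cutGrp F n m) _ (by simp) χ).trans (h m h0 h1 this)

/-- Unitriangular matrices with the first `k` columns standard. -/
def colMon (F : Type u) [Field F] (n k : ℕ) : Submonoid (GL (Fin n) F) where
  carrier := {g | g ∈ upperUniMon F n ∧ ∀ i j : Fin n, (j : ℕ) < k → mat g i j = (1 : Matrix (Fin n) (Fin n) F) i j}
  one_mem' := ⟨one_mem _, fun i j _ => rfl⟩
  mul_mem' := fun {a b} ha hb => ⟨mul_mem ha.1 hb.1, fun i j hj => by
    show (mat a * mat b) i j = _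
    rw [Matrix.mul_apply, Finset.sum_eq_single j]
    · rw [hb.2 j j hj, Matrix.one_apply_eq, mul_one, ha.2 i j hj]
    · intro l _ hl
      rw [hb.2 l j hj, Matrix.one_apply_ne hl, mul_zero]
    · simp⟩

/-- Unitriangular matrices with the first `k` columns standard. -/
def colGrp (F : Type u) [Field F] [Finite F] (n k : ℕ) : Subgroup (GL (Fin n) F) :=
  { colMon F n k with inv_mem' := fun hx => inv_mem_of_finite (colMon F n k) hx }

theorem mem_colGrp {k : ℕ} {g : GL (Fin n) F} : g ∈ colGrp F n k ↔ g ∈ upperUni F n ∧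
    ∀ i j : Fin n, (j : ℕ) < k → mat g i j = (1 : Matrix (Fin n) (Fin n) F) i j := Iff.rfl

theorem colGrp_one : colGrp F n 1 = upperUni F n := by
  ext g
  refine ⟨fun h => (mem_colGrp.mp h).1, fun h => mem_colGrp.mpr ⟨h, fun i j hj => ?_⟩⟩
  refine mem_upperUni.mp h i j (Fin.le_def.mpr ?_)
  omega

theorem colGrp_self : colGrp F n n = ⊥ := by
  ext g
  refine ⟨fun h => ?_, fun h => by rw [Subgroup.mem_bot] at h; subst h; exact one_mem _⟩
  rw [Subgroup.mem_bot]
  exact mat_inj fun i j => (mem_colGrp.mp h).2 i j j.2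

/-- An invertible matrix from a unitriangular array. -/
noncomputable def ofUni (M : Fin n → Fin n → F)
    (h : ∀ i j, j ≤ i → M i j = (1 : Matrix (Fin n) (Fin n) F) i j) : GL (Fin n) F :=
  Matrix.GeneralLinearGroup.mkOfDetNeZero (Matrix.of M) (by
    rw [Matrix.det_of_upperTriangular (fun i j hij => by
      rw [Matrix.of_apply, h i j (le_of_lt hij),
        Matrix.one_apply_ne (show i ≠ j from ne_of_gt hij)])]
    refine Finset.prod_ne_zero_iff.mpr fun i _ => ?_
    rw [Matrix.of_apply, h i i le_rfl, Matrix.one_apply_eq]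
    exact one_ne_zero)

theorem mat_ofUni (M : Fin n → Fin n → F)
    (h : ∀ i j, j ≤ i → M i j = (1 : Matrix (Fin n) (Fin n) F) i j) (i j : Fin n) :
    mat (ofUni M h) i j = M i j := rfl

variable (k : Fin n)

/-- Vectors supported above row `k`. -/
abbrev Above := {i : Fin n // i < k} → F

omit [Fintype F] [DecidableEq F] in
theorem card_above [Finite F] : Nat.card (Above (F := F) k) = Nat.card F ^ (k : ℕ) := by
  rw [Nat.card_pi, Finset.prod_const, Finset.card_univ, Fintype.card_subtype, Finset.filter_gt_eq_Iio,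
    Fin.card_Iio]

/-- Separate column `k`. -/
noncomputable def colSplit : colGrp F n (k : ℕ) ≃ Above (F := F) k × colGrp F n ((k : ℕ) + 1) where
  toFun u := (fun i => mat (u : GL (Fin n) F) i k,
    ⟨ofUni (fun i j => if j = k then (1 : Matrix (Fin n) (Fin n) F) i j else mat (u : GL (Fin n) F) i j)
      (fun i j hji => by
        split_ifs with h
        · rfl
        · exact mem_upperUni.mp (mem_colGrp.mp u.2).1 i j hji),
      mem_colGrp.mpr ⟨mem_upperUni.mpr fun i j hji => by
        rw [mat_ofUni]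
        split_ifs with h
        · rfl
        · exact mem_upperUni.mp (mem_colGrp.mp u.2).1 i j hji, fun i j hj => by
        rw [mat_ofUni]
        split_ifs with h
        · rfl
        · exact (mem_colGrp.mp u.2).2 i j (by
            have : (j : ℕ) ≠ k := fun e => h (Fin.ext e)
            omega)⟩⟩)
  invFun x := ⟨ofUni (fun i j => if h : j = k ∧ i < k then x.1 ⟨i, h.2⟩ else mat (x.2 : GL (Fin n) F) i j)
      (fun i j hji => by
        rw [dif_neg]
        · exact mem_upperUni.mp (mem_colGrp.mp x.2.2).1 i j hji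
        · rintro ⟨rfl, h⟩; exact absurd h (not_lt.mpr hji)),
    mem_colGrp.mpr ⟨mem_upperUni.mpr fun i j hji => by
        rw [mat_ofUni, dif_neg]
        · exact mem_upperUni.mp (mem_colGrp.mp x.2.2).1 i j hji
        · rintro ⟨rfl, h⟩; exact absurd h (not_lt.mpr hji), fun i j hj => by
        rw [mat_ofUni, dif_neg]
        · exact (mem_colGrp.mp x.2.2).2 i j (by omega)
        · rintro ⟨rfl, -⟩; omega⟩⟩
  left_inv u := Subtype.ext (mat_inj fun i j => by
    simp only [mat_ofUni]
    split_ifs with h h'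
    · rw [h.1]
    · subst h'
      exact (mem_upperUni.mp (mem_colGrp.mp u.2).1 i j (not_lt.mp fun hlt => h ⟨rfl, hlt⟩)).symm
    · rfl)
  right_inv x := Prod.ext (funext fun i => by simp only [mat_ofUni]; rw [dif_pos ⟨trivial, i.2⟩])
    (Subtype.ext (mat_inj fun i j => by
      simp only [mat_ofUni]
      split_ifs with h h'
      · subst h
        exact ((mem_colGrp.mp x.2.2).2 i j (by omega)).symm
      · exact absurd h'.1 h
      · rfl))

theorem natCard_colGrp : Nat.card (colGrp F n (k : ℕ)) =
    Nat.card F ^ (k : ℕ) * Nat.card (colGrp F n ((k : ℕ) + 1)) := by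
  rw [Nat.card_congr (colSplit k), Nat.card_prod, card_above]

/-- The sum of the links without the one in column `k`. -/
def linkOff (g : GL (Fin n) F) : F :=
  ∑ i : Fin n, ∑ j : Fin n, if (i : ℕ) + 1 = j ∧ j ≠ k then mat g i j else 0

/-- The character sum attached to a vector. -/
noncomputable def twisted [Fintype (colGrp F n (k : ℕ))] (χ : GL (Fin n) F → ℂ) (θ : Above (F := F) k) : ℂ :=
  ∑ u : colGrp F n (k : ℕ), χ u *
    conj (addC F (linkOff k (u : GL (Fin n) F) + ∑ i : {i // i < k}, θ i * mat (u : GL (Fin n) F) i k))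

/-- The character sums along the columns. -/
noncomputable def colSum (χ : GL (Fin n) F → ℂ) (m : ℕ) [Fintype (colGrp F n m)] : ℂ :=
  ∑ u : colGrp F n m, χ u * conj (addC F (link (u : GL (Fin n) F)))

theorem linkOff_mul {a b : GL (Fin n) F} (ha : a ∈ upperUni F n) (hb : b ∈ upperUni F n) :
    linkOff k (a * b) = linkOff k a + linkOff k b := by
  unfold linkOff
  rw [← Finset.sum_add_distrib]
  refine Finset.sum_congr rfl fun i _ => ?_
  rw [← Finset.sum_add_distrib]
  refine Finset.sum_congr rfl fun j _ => ?_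
  split_ifs with h
  · show (mat a * mat b) i j = _
    have hij : i ≠ j := fun e => by have := h.1; rw [e] at this; omega
    rw [Matrix.mul_apply, Fintype.sum_eq_add i j hij, uni_diag ha, uni_diag hb, one_mul, mul_one, add_comm]
    rintro l ⟨hli, hlj⟩
    rcases lt_or_gt_of_ne hli with h' | h'
    · rw [uni_zero ha h', zero_mul]
    · rw [uni_zero hb (show j < l by
        rw [Fin.lt_def] at h' ⊢
        have := h.1
        have : (l : ℕ) ≠ j := fun e => hlj (Fin.ext e)
        omega), mul_zero]
  · rw [add_zero]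

theorem twisted_zero {χ : GL (Fin n) F → ℂ} (hχ : Cfsg.IsCharacter (GL (Fin n) F) χ) (hc : Cuspidal χ)
    (hk : 0 < (k : ℕ)) [Fintype (colGrp F n (k : ℕ))] : twisted k χ 0 = 0 := by
  classical
  have hle : cutGrp F n (k : ℕ) ≤ colGrp F n (k : ℕ) := fun g hg => mem_colGrp.mpr
    ⟨mem_upperUni.mpr fun i j hji => mem_cutGrp.mp hg i j fun h => by
      rw [Fin.le_def] at hji; omega, fun i j hj => mem_cutGrp.mp hg i j fun h => by omega⟩
  have h0 := hc.sum_eq_zero hk k.2
  have hsum : twisted k χ 0 = ∑ u : colGrp F n (k : ℕ), χ u * conj (addC F (linkOff k (u : GL (Fin n) F))) := by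
    unfold twisted
    simp
  have hoff : ∀ v ∈ cutGrp F n (k : ℕ), linkOff k v = 0 := fun v hv =>
    Finset.sum_eq_zero fun i _ => Finset.sum_eq_zero fun j _ => by
      split_ifs with h
      · rw [mem_cutGrp.mp hv i j fun h' => h.2 (Fin.ext (by omega)),
          Matrix.one_apply_ne fun e => by have := h.1; rw [e] at this; omega]
      · rfl
  have key : (Fintype.card (cutGrp F n (k : ℕ)) : ℂ) * twisted k χ 0 = 0 := by
    calc (Fintype.card (cutGrp F n (k : ℕ)) : ℂ) * twisted k χ 0
        = ∑ v : cutGrp F n (k : ℕ), ∑ u : colGrp F n (k : ℕ),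
            χ ((u : GL (Fin n) F) * v) * conj (addC F (linkOff k (u : GL (Fin n) F))) := by
          rw [show (Fintype.card (cutGrp F n (k : ℕ)) : ℂ) * twisted k χ 0 =
            ∑ _v : cutGrp F n (k : ℕ), twisted k χ 0 by
            rw [Finset.sum_const, Finset.card_univ, nsmul_eq_mul]]
          refine Finset.sum_congr rfl fun v _ => ?_
          rw [hsum]
          refine (Fintype.sum_equiv (Equiv.mulRight (⟨v, hle v.2⟩ : colGrp F n (k : ℕ))) _ _ fun u => ?_).symm
          rw [Equiv.coe_mulRight, Subgroup.coe_mul,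
            linkOff_mul k (mem_colGrp.mp u.2).1 (mem_colGrp.mp (hle v.2)).1, hoff v v.2, add_zero]
      _ = 0 := by
          rw [Finset.sum_comm]
          exact Finset.sum_eq_zero fun u _ => by
            rw [← Finset.sum_mul, sum_coset_eq_zero hχ _ h0, zero_mul]
  exact (mul_eq_zero.mp key).resolve_left (by exact_mod_cast Fintype.card_ne_zero)

theorem sum_twisted (χ : GL (Fin n) F → ℂ) [Fintype (colGrp F n (k : ℕ))]
    [Fintype (colGrp F n ((k : ℕ) + 1))] :
    ∑ θ : Above (F := F) k, twisted k χ θ =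
      (Fintype.card (Above (F := F) k) : ℂ) * colSum χ ((k : ℕ) + 1) := by
  classical
  unfold twisted colSum
  rw [Finset.sum_comm]
  have horth : ∀ v : Above (F := F) k, ∑ θ : Above (F := F) k, conj (addC F (∑ i, θ i * v i)) =
      if v = 0 then (Fintype.card (Above (F := F) k) : ℂ) else 0 := by
    intro v
    split_ifs with hv
    · subst hv; simp
    · obtain ⟨i, hi⟩ : ∃ i, v i ≠ 0 := by
        by_contra h; push Not at h; exact hv (funext h)
      obtain ⟨t, ht⟩ := exists_addC_ne hi
      set S := ∑ θ : Above (F := F) k, conj (addC F (∑ j, θ j * v j))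
      have hS : S = conj (addC F (v i * t)) * S := by
        conv_lhs => rw [show S = ∑ θ : Above (F := F) k, conj (addC F (∑ j, θ j * v j)) from rfl,
          ← Equiv.sum_comp (Equiv.addRight (Pi.single i t))]
        rw [Finset.mul_sum]
        refine Finset.sum_congr rfl fun θ _ => ?_
        rw [Equiv.coe_addRight, ← map_mul, ← AddChar.map_add_eq_mul]
        congr 2
        simp only [Pi.add_apply, add_mul, Finset.sum_add_distrib]
        rw [add_comm]
        congr 1
        rw [Finset.sum_eq_single i]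
        · rw [Pi.single_eq_same, mul_comm]
        · intro j _ hj; rw [Pi.single_eq_of_ne hj, zero_mul]
        · simp
      by_contra hne
      have h1 := mul_right_cancel₀ hne ((one_mul S).trans hS)
      exact ht (by simpa using (congrArg conj h1).symm)
  have hu : ∀ u : colGrp F n (k : ℕ),
      ∑ θ : Above (F := F) k, χ u * conj (addC F (linkOff k (u : GL (Fin n) F) +
        ∑ i : {i // i < k}, θ i * mat (u : GL (Fin n) F) i k)) =
      χ u * conj (addC F (linkOff k (u : GL (Fin n) F))) *
        (if (fun i : {i // i < k} => mat (u : GL (Fin n) F) i k) = 0 then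
          (Fintype.card (Above (F := F) k) : ℂ) else 0) := fun u => by
    rw [← horth, Finset.mul_sum]
    refine Finset.sum_congr rfl fun θ _ => ?_
    rw [AddChar.map_add_eq_mul, map_mul, mul_assoc]
  rw [Finset.sum_congr rfl fun u _ => hu u, Finset.mul_sum, ← Equiv.sum_comp (colSplit k).symm,
    Fintype.sum_prod_type]
  rw [Finset.sum_eq_single (0 : Above (F := F) k)]
  · refine Finset.sum_congr rfl fun u _ => ?_
    have hmat : (((colSplit k).symm (0, u) : colGrp F n (k : ℕ)) : GL (Fin n) F) = (u : GL (Fin n) F) :=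
      mat_inj fun i j => by
        simp only [colSplit, Equiv.coe_fn_symm_mk, mat_ofUni]
        split_ifs with h
        · obtain ⟨rfl, hlt⟩ := h
          rw [(mem_colGrp.mp u.2).2 i j (by omega), Matrix.one_apply_ne hlt.ne]
          rfl
        · rfl
    have hl : link (u : GL (Fin n) F) = linkOff k (u : GL (Fin n) F) := by
      refine Finset.sum_congr rfl fun i _ => Finset.sum_congr rfl fun j _ => ?_
      by_cases h : (i : ℕ) + 1 = j
      · by_cases hj : j = k
        · subst hj
          rw [if_pos h, if_neg fun h' => h'.2 rfl, (mem_colGrp.mp u.2).2 i j (by omega),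
            Matrix.one_apply_ne fun e => by rw [e] at h; omega]
        · rw [if_pos h, if_pos ⟨h, hj⟩]
      · rw [if_neg h, if_neg fun h' => h h'.1]
    rw [hmat, if_pos, hl, mul_comm]
    funext i
    rw [(mem_colGrp.mp u.2).2 i k (by omega), Matrix.one_apply_ne i.2.ne]
    rfl
  · intro v _ hv
    refine Finset.sum_eq_zero fun u _ => ?_
    rw [if_neg, mul_zero]
    intro h
    refine hv (funext fun i => ?_)
    have := congrFun h i
    simp only [colSplit, Equiv.coe_fn_symm_mk, mat_ofUni, Pi.zero_apply] at this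
    rw [dif_pos ⟨trivial, i.2⟩] at this
    exact this
  · simp

theorem twisted_move {χ : GL (Fin n) F → ℂ} (hχ : Cfsg.IsClassFunction (GL (Fin n) F) χ)
    (hk : 0 < (k : ℕ)) [Fintype (colGrp F n (k : ℕ))] {θ : Above (F := F) k} (hθ : θ ≠ 0) :
    twisted k χ θ = colSum χ (k : ℕ) := by
  classical
  obtain ⟨⟨l, hl⟩, hθl⟩ : ∃ i, θ i ≠ 0 := by
    by_contra h; push Not at h; exact hθ (funext h)
  let r : Fin n := ⟨(k : ℕ) - 1, by omega⟩
  have hr : r < k := Fin.lt_def.mpr (by simp [r]; omega)
  let M : Matrix (Fin n) (Fin n) F := Matrix.of fun i j =>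
    if i = r then (if h : j < k then θ ⟨j, h⟩ else 0) else if i = l then (if j = r then 1 else 0)
    else (1 : Matrix (Fin n) (Fin n) F) i j
  have hM : IsUnit M := by
    rw [← Matrix.mulVec_injective_iff_isUnit]
    intro x y hxy
    have hz : M.mulVec (x - y) = 0 := by rw [Matrix.mulVec_sub, hxy, sub_self]
    have hrow : ∀ i, i ≠ r → i ≠ l → (x - y) i = 0 := fun i h1 h2 => by
      have := congrFun hz i
      rwa [Matrix.mulVec, dotProduct, Finset.sum_eq_single i, show M i i = 1 by simp [M, h1, h2],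
        one_mul] at this
      · intro b _ hb
        rw [show M i b = 0 by simp [M, h1, h2, Matrix.one_apply_ne (Ne.symm hb)], zero_mul]
      · simp
    have hr0 : l ≠ r → (x - y) r = 0 := fun hlr => by
      have := congrFun hz l
      rwa [Matrix.mulVec, dotProduct, Finset.sum_eq_single r, show M l r = 1 by simp [M, hlr],
        one_mul] at this
      · intro b _ hb
        rw [show M l b = 0 by simp [M, hlr, hb], zero_mul]
      · simp
    have hl0 : (x - y) l = 0 := by
      have := congrFun hz r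
      rw [Matrix.mulVec, dotProduct, Finset.sum_eq_single l, show M r l = θ ⟨l, hl⟩ by simp [M, hl]] at this
      · exact (mul_eq_zero.mp this).resolve_left hθl
      · intro b _ hb
        by_cases hbr : b = r
        · subst hbr; rw [hr0 (Ne.symm hb), mul_zero]
        · rw [hrow b hbr hb, mul_zero]
      · simp
    funext i
    by_cases h1 : i = l
    · subst h1; exact sub_eq_zero.mp hl0
    by_cases h2 : i = r
    · subst h2; exact sub_eq_zero.mp (hr0 (Ne.symm h1))
    exact sub_eq_zero.mp (hrow i h2 h1)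
  let S : Submonoid (GL (Fin n) F) :=
    { carrier := {g | ∀ i j : Fin n, ¬ (i < k ∧ j < k) → mat g i j = (1 : Matrix (Fin n) (Fin n) F) i j}
      one_mem' := fun i j _ => rfl
      mul_mem' := fun {a b} ha hb i j hij => by
        show (mat a * mat b) i j = _
        by_cases hi : i < k
        · rw [Matrix.mul_apply, Finset.sum_eq_single j]
          · rw [hb j j (fun h => hij ⟨hi, h.1⟩), Matrix.one_apply_eq, mul_one, ha i j hij]
          · intro b' _ hb'
            rw [hb b' j (fun h => hij ⟨hi, h.2⟩), Matrix.one_apply_ne hb', mul_zero]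
          · simp
        · rw [Matrix.mul_apply, Finset.sum_eq_single i]
          · rw [ha i i (fun h => hi h.1), Matrix.one_apply_eq, one_mul, hb i j hij]
          · intro b' _ hb'
            rw [ha i b' (fun h => hi h.1), Matrix.one_apply_ne (Ne.symm hb'), zero_mul]
          · simp }
  set h : GL (Fin n) F := hM.unit
  have hS : h ∈ S := by
    intro i j hij
    show M i j = _
    simp only [M, Matrix.of_apply]
    split_ifs with h1 h2 h3 h4
    · exact absurd ⟨h1 ▸ hr, h2⟩ hij
    · rw [Matrix.one_apply_ne]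
      rintro rfl
      exact h2 (h1 ▸ hr)
    · exact absurd ⟨h3 ▸ hl, h4 ▸ hr⟩ hij
    · rw [Matrix.one_apply_ne]
      rintro rfl
      exact hij ⟨h3 ▸ hl, h3 ▸ hl⟩
    · rfl
  have hS' : h⁻¹ ∈ S := inv_mem_of_finite S hS
  have hcols : ∀ g ∈ S, ∀ u : GL (Fin n) F, u ∈ colGrp F n (k : ℕ) → g * u * g⁻¹ ∈ colGrp F n (k : ℕ) ∧
      ∀ i j : Fin n, k ≤ j → mat (g * u * g⁻¹) i j = ∑ b, mat g i b * mat u b j := by
    intro g hg u hu
    have hg' : g⁻¹ ∈ S := inv_mem_of_finite S hg
    obtain ⟨hu1, hu2⟩ := mem_colGrp.mp hu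
    have hlow : ∀ b j : Fin n, k ≤ j → mat g⁻¹ b j = (1 : Matrix (Fin n) (Fin n) F) b j := fun b j hj =>
      hg' b j fun hc => absurd hc.2 (not_lt.mpr hj)
    have hform : ∀ i j : Fin n, k ≤ j → mat (g * u * g⁻¹) i j = ∑ b, mat g i b * mat u b j := by
      intro i j hj
      rw [mat_mul, Matrix.mul_apply, Finset.sum_eq_single j]
      · rw [hlow j j hj, Matrix.one_apply_eq, mul_one, mat_mul, Matrix.mul_apply]
      · intro b _ hb; rw [hlow b j hj, Matrix.one_apply_ne hb, mul_zero]
      · simp
    have hsmall : ∀ i j : Fin n, j < k → mat (g * u * g⁻¹) i j = (1 : Matrix (Fin n) (Fin n) F) i j := by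
      intro i j hj
      rw [mat_mul, Matrix.mul_apply,
        show (1 : Matrix (Fin n) (Fin n) F) i j = mat (g * g⁻¹) i j by rw [mul_inv_cancel]; rfl,
        mat_mul g g⁻¹, Matrix.mul_apply]
      refine Finset.sum_congr rfl fun b _ => ?_
      by_cases hb : b < k
      · congr 1
        rw [mat_mul, Matrix.mul_apply, Finset.sum_eq_single b]
        · rw [hu2 b b (Fin.lt_def.mp hb), Matrix.one_apply_eq, mul_one]
        · intro c _ hc; rw [hu2 c b (Fin.lt_def.mp hb), Matrix.one_apply_ne hc, mul_zero]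
        · simp
      · rw [hg' b j fun hc => hb hc.1, Matrix.one_apply_ne (fun e => hb (by rw [e]; exact hj)), mul_zero, mul_zero]
    refine ⟨mem_colGrp.mpr ⟨mem_upperUni.mpr fun i j hji => ?_, fun i j hj => hsmall i j (Fin.lt_def.mpr hj)⟩,
      hform⟩
    rcases lt_or_ge j k with hj | hj
    · exact hsmall i j hj
    · rw [hform i j hj, Finset.sum_eq_single i]
      · rw [hg i i (fun hc => absurd hc.1 (not_lt.mpr (hj.trans hji))), Matrix.one_apply_eq, one_mul,
          mem_upperUni.mp hu1 i j hji]
      · intro b _ hb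
        rw [hg i b (fun hc => absurd hc.1 (not_lt.mpr (hj.trans hji))), Matrix.one_apply_ne (Ne.symm hb),
          zero_mul]
      · simp
  let Φ : colGrp F n (k : ℕ) ≃ colGrp F n (k : ℕ) :=
    { toFun := fun u => ⟨h * u * h⁻¹, (hcols h hS u u.2).1⟩
      invFun := fun u => ⟨h⁻¹ * u * h, by simpa using (hcols h⁻¹ hS' u u.2).1⟩
      left_inv := fun u => Subtype.ext (by simp [mul_assoc])
      right_inv := fun u => Subtype.ext (by simp [mul_assoc]) }
  unfold twisted colSum
  refine Fintype.sum_equiv Φ _ _ fun u => ?_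
  obtain ⟨-, hform⟩ := hcols h hS u u.2
  have hΦ : ((Φ u : colGrp F n (k : ℕ)) : GL (Fin n) F) = h * u * h⁻¹ := rfl
  rw [hΦ, hχ]
  congr 3
  unfold link linkOff
  have hsplit : ∀ g : GL (Fin n) F, (∑ i : Fin n, ∑ j : Fin n, if (i : ℕ) + 1 = j then mat g i j else 0) =
      (∑ i : Fin n, ∑ j : Fin n, if (i : ℕ) + 1 = j ∧ j ≠ k then mat g i j else 0) + mat g r k := by
    intro g
    rw [← Fintype.sum_ite_eq' r fun i => mat g i k, ← Finset.sum_add_distrib]
    refine Finset.sum_congr rfl fun i _ => ?_
    rw [← Fintype.sum_ite_eq' k fun j => if i = r then mat g i k else 0, ← Finset.sum_add_distrib]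
    refine Finset.sum_congr rfl fun j _ => ?_
    by_cases hj : j = k
    · subst hj
      by_cases hi : i = r
      · subst hi
        rw [if_pos (by simp [r]; omega), if_neg fun h => h.2 rfl, if_pos rfl, if_pos rfl, zero_add]
      · rw [if_neg fun e => hi (Fin.ext (by simp [r]; omega)), if_neg fun h => h.2 rfl, if_pos rfl,
          if_neg hi, zero_add]
    · rw [if_neg hj, add_zero]
      exact if_congr ⟨fun h => ⟨h, hj⟩, fun h => h.1⟩ rfl rfl
  rw [hsplit]
  congr 1
  · refine Finset.sum_congr rfl fun i _ => Finset.sum_congr rfl fun j _ => ?_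
    split_ifs with hij
    · rcases lt_or_ge j k with hj | hj
      · rw [(mem_colGrp.mp u.2).2 i j (Fin.lt_def.mp hj), (mem_colGrp.mp (hcols h hS u u.2).1).2 i j (Fin.lt_def.mp hj)]
      · have hi : ¬ i < k := fun hlt => by
          have := hij.2
          rw [Fin.lt_def] at hlt
          rw [Fin.le_def] at hj
          exact this (Fin.ext (by omega))
        rw [hform i j hj, Finset.sum_eq_single i]
        · rw [hS i i fun hc => hi hc.1, Matrix.one_apply_eq, one_mul]
        · intro b _ hb; rw [hS i b fun hc => hi hc.1, Matrix.one_apply_ne (Ne.symm hb), zero_mul]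
        · simp
    · rfl
  · rw [hform r k le_rfl, ← Finset.sum_subtype (Finset.univ.filter (· < k)) (by simp)
      (fun i => (if h : i < k then θ ⟨i, h⟩ else 0) * mat (u : GL (Fin n) F) i k) |>.trans
      (Finset.sum_congr rfl fun i _ => by rw [dif_pos i.2]), Finset.sum_filter]
    refine Finset.sum_congr rfl fun b _ => ?_
    show _ = M r b * _
    split_ifs with hb <;> simp [M, hb]

theorem colSum_step {χ : GL (Fin n) F → ℂ} (hχ : Cfsg.IsCharacter (GL (Fin n) F) χ) (hc : Cuspidal χ)
    (hk : 0 < (k : ℕ)) [Fintype (colGrp F n (k : ℕ))] [Fintype (colGrp F n ((k : ℕ) + 1))] :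
    (Fintype.card F : ℂ) ^ (k : ℕ) * colSum χ ((k : ℕ) + 1) =
      ((Fintype.card F : ℂ) ^ (k : ℕ) - 1) * colSum χ (k : ℕ) := by
  classical
  have hcard : (Fintype.card (Above (F := F) k) : ℂ) = (Fintype.card F : ℂ) ^ (k : ℕ) := by
    rw [← Nat.card_eq_fintype_card, card_above, Nat.card_eq_fintype_card, Nat.cast_pow]
  have h := sum_twisted k χ
  rw [hcard, ← Finset.add_sum_erase _ _ (Finset.mem_univ (0 : Above (F := F) k)),
    twisted_zero k hχ hc hk, zero_add,
    Finset.sum_congr rfl fun θ hθ => twisted_move k (CfsgLib.Char.isCharacter_isClassFunction hχ) hk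
      (Finset.ne_of_mem_erase hθ), Finset.sum_const, Finset.card_erase_of_mem (Finset.mem_univ _),
    Finset.card_univ, nsmul_eq_mul, Nat.cast_sub (Fintype.card_pos), hcard, Nat.cast_one] at h
  exact h.symm

/-- Cuspidal irreducible characters are generic of degree `∏ (q^i - 1)`. -/
theorem cuspidal_degree (hn : 1 ≤ n) {χ : GL (Fin n) F → ℂ}
    (hχ : Cfsg.IsIrrCharacter (GL (Fin n) F) χ) (hc : Cuspidal χ) [Fintype (upperUni F n)] :
    χ 1 = ∏ i ∈ Finset.Ico 1 n, ((Fintype.card F : ℂ) ^ i - 1) ∧
      Cfsg.classInner (fun u : upperUni F n => χ u) (fun u => (psi F n u : ℂ)) = 1 := by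
  classical
  have hq : (Fintype.card F : ℂ) ≠ 0 := by exact_mod_cast Fintype.card_ne_zero
  -- recursion
  have hrec : ∀ m, 1 ≤ m → m ≤ n → colSum χ m / (Nat.card (colGrp F n m) : ℂ) =
      (∏ i ∈ Finset.Ico 1 m, ((Fintype.card F : ℂ) ^ i - 1)) *
        (colSum χ 1 / (Nat.card (colGrp F n 1) : ℂ)) := by
    intro m hm
    induction m, hm using Nat.le_induction with
    | base => intro _; simp
    | succ m hm ih =>
      intro hmn
      have ih' := ih (by omega)
      rw [Finset.prod_Ico_succ_top hm, mul_right_comm, ← ih']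
      have hcard := natCard_colGrp (F := F) (⟨m, by omega⟩ : Fin n)
      have hstep := colSum_step (⟨m, by omega⟩ : Fin n) (CfsgLib.Char.irr_isCharacter hχ) hc hm
      simp only at hcard hstep
      rw [Nat.card_eq_fintype_card (α := F)] at hcard
      have hpos : (Nat.card (colGrp F n (m + 1)) : ℂ) ≠ 0 := by exact_mod_cast Nat.card_pos.ne'
      rw [hcard, Nat.cast_mul, Nat.cast_pow, div_mul_eq_mul_div, mul_comm (colSum χ m), ← hstep,
        mul_div_mul_left _ _ (pow_ne_zero _ hq)]
  have htop : colSum χ n / (Nat.card (colGrp F n n) : ℂ) = χ 1 := by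
    have : ∀ u : colGrp F n n, (u : GL (Fin n) F) = 1 := fun u =>
      (Subgroup.mem_bot.mp (colGrp_self (F := F) (n := n) ▸ u.2))
    rw [colSum, Finset.sum_congr rfl fun u _ => by rw [this u, link_one, AddChar.map_zero_eq_one, map_one,
      mul_one], Finset.sum_const, Finset.card_univ, nsmul_eq_mul, Nat.card_eq_fintype_card,
      mul_div_cancel_left₀]
    exact_mod_cast Fintype.card_ne_zero
  have hbot : colSum χ 1 / (Nat.card (colGrp F n 1) : ℂ) =
      Cfsg.classInner (fun u : upperUni F n => χ u) (fun u => (psi F n u : ℂ)) := by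
    let e : colGrp F n 1 ≃ upperUni F n := (MulEquiv.subgroupCongr colGrp_one).toEquiv
    rw [CfsgLib.Char.classInner_def, Nat.card_congr e, div_eq_inv_mul]
    congr 1
    exact Fintype.sum_equiv e _ _ fun u => rfl
  have h := hrec n hn le_rfl
  rw [htop, hbot] at h
  rcases mult_psi hχ with e | e
  · rw [e, mul_zero] at h
    exact absurd h (CfsgLib.Char.irr_apply_one_ne_zero hχ)
  · exact ⟨by rw [h, e, mul_one], e⟩

end CfsgLib.KnownB.Cusp
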