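import Cfsg.Agent.Lib.KnownB.CuspBasic
import Cfsg.Agent.Lib.KnownB.GLDouble
import Mathlib.Analysis.Fourier.FiniteAbelian.PontryaginDuality
import Mathlib.LinearAlgebra.Matrix.Transvection

/-!
The Gelfand–Graev character of `GL n`: multiplicity one and the number of its constituents.
-/

set_option autoImplicit false

namespace CfsgLib.KnownB.Cusp

open scoped ComplexConjugate MatrixGroups
open Finset

universe u

variable {F : Type u} [Field F] [Fintype F] [DecidableEq F] {n : ℕ}

/-- The underlying matrix. -/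
abbrev mat (g : GL (Fin n) F) : Matrix (Fin n) (Fin n) F := g

/-! ### The unitriangular group and its character -/

/-- Upper unitriangular matrices, as a submonoid. -/
def upperUniMon (F : Type u) [Field F] (n : ℕ) : Submonoid (GL (Fin n) F) where
  carrier := {g | ∀ i j, j ≤ i → mat g i j = (1 : Matrix (Fin n) (Fin n) F) i j}
  one_mem' := fun i j _ => rfl
  mul_mem' := fun {a b} ha hb i j hji => by
    show (mat a * mat b) i j = _
    rw [Matrix.mul_apply, Finset.sum_eq_single i]
    · rw [ha i i le_rfl, Matrix.one_apply_eq, one_mul, hb i j hji]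
    · intro l _ hl
      rcases lt_or_gt_of_ne hl with h | h
      · rw [ha i l h.le, Matrix.one_apply_ne h.ne', zero_mul]
      · rw [hb l j (hji.trans h.le), Matrix.one_apply_ne (hji.trans_lt h).ne', mul_zero]
    · simp

theorem inv_mem_of_finite {G : Type*} [Group G] [Finite G] (S : Submonoid G) {x : G} (hx : x ∈ S) :
    x⁻¹ ∈ S := by
  have h : x⁻¹ = x ^ (orderOf x - 1) := by
    refine inv_eq_of_mul_eq_one_right ?_
    rw [← pow_succ', Nat.sub_add_cancel (orderOf_pos x), pow_orderOf_eq_one]
  rw [h]
  exact pow_mem hx _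

/-- Upper unitriangular matrices. -/
def upperUni (F : Type u) [Field F] [Finite F] (n : ℕ) : Subgroup (GL (Fin n) F) :=
  { upperUniMon F n with inv_mem' := fun hx => inv_mem_of_finite (upperUniMon F n) hx }

theorem mem_upperUni {g : GL (Fin n) F} :
    g ∈ upperUni F n ↔ ∀ i j, j ≤ i → mat g i j = (1 : Matrix (Fin n) (Fin n) F) i j := Iff.rfl

theorem uni_zero {g : GL (Fin n) F} (hg : g ∈ upperUni F n) {i j : Fin n} (h : j < i) :
    mat g i j = 0 := by
  rw [mem_upperUni.mp hg i j h.le, Matrix.one_apply_ne h.ne']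

theorem uni_diag {g : GL (Fin n) F} (hg : g ∈ upperUni F n) (i : Fin n) : mat g i i = 1 := by
  rw [mem_upperUni.mp hg i i le_rfl, Matrix.one_apply_eq]

/-- The sum of the superdiagonal entries. -/
def link (g : GL (Fin n) F) : F :=
  ∑ i : Fin n, ∑ j : Fin n, if (i : ℕ) + 1 = j then mat g i j else 0

theorem link_one : link (1 : GL (Fin n) F) = 0 :=
  Finset.sum_eq_zero fun i _ => Finset.sum_eq_zero fun j _ => by
    split_ifs with h
    · exact Matrix.one_apply_ne fun e => by rw [e] at h; omega
    · rfl

theorem link_mul {a b : GL (Fin n) F} (ha : a ∈ upperUni F n) (hb : b ∈ upperUni F n) :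
    link (a * b) = link a + link b := by
  unfold link
  rw [← Finset.sum_add_distrib]
  refine Finset.sum_congr rfl fun i _ => ?_
  rw [← Finset.sum_add_distrib]
  refine Finset.sum_congr rfl fun j _ => ?_
  split_ifs with h
  · show (mat a * mat b) i j = _
    have hij : i ≠ j := fun e => by rw [e] at h; omega
    rw [Matrix.mul_apply, Fintype.sum_eq_add i j hij, uni_diag ha, uni_diag hb, one_mul, mul_one, add_comm]
    rintro l ⟨hli, hlj⟩
    rcases lt_or_gt_of_ne hli with h' | h'
    · rw [uni_zero ha h', zero_mul]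
    · rw [uni_zero hb (show j < l by
        rw [Fin.lt_def] at h' ⊢
        have : (l : ℕ) ≠ j := fun e => hlj (Fin.ext e)
        omega), mul_zero]
  · rw [add_zero]

/-- A fixed nontrivial additive character. -/
noncomputable def addC (F : Type u) [Field F] [Fintype F] : AddChar F ℂ :=
  (AddChar.exists_apply_ne_zero.mpr (one_ne_zero (α := F))).choose

theorem addC_one_ne : addC F 1 ≠ 1 :=
  (AddChar.exists_apply_ne_zero.mpr (one_ne_zero (α := F))).choose_spec

theorem exists_addC_ne {r : F} (hr : r ≠ 0) : ∃ t : F, addC F (r * t) ≠ 1 :=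
  ⟨r⁻¹, by rw [mul_inv_cancel₀ hr]; exact addC_one_ne⟩

/-- The nondegenerate character of the unitriangular group. -/
noncomputable def psi (F : Type u) [Field F] [Fintype F] [DecidableEq F] (n : ℕ) :
    upperUni F n →* ℂˣ :=
  MonoidHom.toHomUnits
    { toFun := fun u => addC F (link (u : GL (Fin n) F))
      map_one' := by simp [link_one]
      map_mul' := fun a b => by
        rw [Subgroup.coe_mul, link_mul a.2 b.2, AddChar.map_add_eq_mul] }

theorem psi_apply (u : upperUni F n) : ((psi F n u : ℂˣ) : ℂ) = addC F (link (u : GL (Fin n) F)) := rfl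

theorem conj_addC (t : F) : conj (addC F t) = addC F (-t) := by
  rw [AddChar.map_neg_eq_conj]

/-! ### Monomial matrices and transvections -/

/-- The monomial matrix sending the `j`th unit vector to `a j` times the `σ j`th. -/
def mono (σ : Equiv.Perm (Fin n)) (a : Fin n → Fˣ) : GL (Fin n) F where
  val := Matrix.of fun i j => if i = σ j then (a j : F) else 0
  inv := Matrix.of fun i j => if σ i = j then (((a i)⁻¹ : Fˣ) : F) else 0
  val_inv := by
    ext i k
    simp only [Matrix.mul_apply, Matrix.of_apply]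
    rw [Finset.sum_eq_single (σ.symm i)]
    · simp only [Equiv.apply_symm_apply, Matrix.one_apply, if_true]
      by_cases h : i = k <;> simp [h]
    · intro l _ hl
      rw [if_neg, zero_mul]
      rintro rfl
      exact hl (σ.symm_apply_apply l).symm
    · simp
  inv_val := by
    ext i k
    simp only [Matrix.mul_apply, Matrix.of_apply]
    rw [Finset.sum_eq_single (σ i)]
    · by_cases h : i = k
      · subst h; simp
      · simp [Matrix.one_apply_ne h, h]
    · intro l _ hl
      rw [if_neg (Ne.symm hl), zero_mul]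
    · simp

theorem mat_mono (σ : Equiv.Perm (Fin n)) (a : Fin n → Fˣ) (i j : Fin n) :
    mat (mono σ a) i j = if i = σ j then (a j : F) else 0 := rfl

theorem mat_inj {g h : GL (Fin n) F} (e : ∀ i j, mat g i j = mat h i j) : g = h :=
  Units.ext (Matrix.ext e)

theorem mat_mul (g h : GL (Fin n) F) : mat (g * h) = mat g * mat h := rfl

theorem mul_mono_apply (g : GL (Fin n) F) (σ : Equiv.Perm (Fin n)) (a : Fin n → Fˣ) (i j : Fin n) :
    mat (g * mono σ a) i j = mat g i (σ j) * a j := by
  rw [mat_mul, Matrix.mul_apply, Finset.sum_eq_single (σ j)]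
  · rw [mat_mono, if_pos rfl]
  · intro l _ hl; rw [mat_mono, if_neg hl, mul_zero]
  · simp

theorem mono_mul_apply (g : GL (Fin n) F) (σ : Equiv.Perm (Fin n)) (a : Fin n → Fˣ) (j k : Fin n) :
    mat (mono σ a * g) (σ j) k = a j * mat g j k := by
  rw [mat_mul, Matrix.mul_apply, Finset.sum_eq_single j]
  · rw [mat_mono, if_pos rfl]
  · intro l _ hl; rw [mat_mono, if_neg fun e => hl (σ.injective e).symm, zero_mul]
  · simp

theorem mono_mul_mono (σ τ : Equiv.Perm (Fin n)) (a b : Fin n → Fˣ) :
    mono σ a * mono τ b = mono (σ * τ) fun j => a (τ j) * b j :=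
  mat_inj fun i j => by
    rw [mul_mono_apply, mat_mono, mat_mono, ite_mul, zero_mul, Units.val_mul, Equiv.Perm.mul_apply]

/-- The transvection. -/
def transv (i j : Fin n) (h : i ≠ j) (t : F) : GL (Fin n) F where
  val := Matrix.transvection i j t
  inv := Matrix.transvection i j (-t)
  val_inv := by
    rw [Matrix.transvection_mul_transvection_same _ _ h, add_neg_cancel, Matrix.transvection_zero]
  inv_val := by
    rw [Matrix.transvection_mul_transvection_same _ _ h, neg_add_cancel, Matrix.transvection_zero]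

theorem mat_transv (i j : Fin n) (h : i ≠ j) (t : F) (a b : Fin n) :
    mat (transv i j h t) a b =
      (1 : Matrix (Fin n) (Fin n) F) a b + if a = i ∧ b = j then t else 0 := by
  show Matrix.transvection i j t a b = _
  rw [Matrix.transvection, Matrix.add_apply]
  simp only [Matrix.single, Matrix.of_apply, eq_comm]

theorem transv_mem {i j : Fin n} (h : i < j) (t : F) : transv i j h.ne t ∈ upperUni F n := by
  refine mem_upperUni.mpr fun a b hba => ?_
  rw [mat_transv, if_neg, add_zero]
  rintro ⟨rfl, rfl⟩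
  exact absurd h (not_lt.mpr hba)

theorem link_transv (i j : Fin n) (h : i ≠ j) (t : F) :
    link (transv i j h t) = if (i : ℕ) + 1 = j then t else 0 := by
  unfold link
  rw [Finset.sum_eq_single i]
  · rw [Finset.sum_eq_single j]
    · split_ifs with h1
      · rw [mat_transv, Matrix.one_apply_ne h, if_pos ⟨rfl, rfl⟩, zero_add]
      · rfl
    · intro b _ hb
      split_ifs with h1
      · rw [mat_transv, Matrix.one_apply_ne (fun e => by rw [← e] at h1; omega), if_neg fun h' => hb h'.2,
          add_zero]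
      · rfl
    · simp
  · intro a _ ha
    refine Finset.sum_eq_zero fun b _ => ?_
    split_ifs with h1
    · rw [mat_transv, Matrix.one_apply_ne (fun e => by rw [← e] at h1; omega), if_neg fun h' => ha h'.1,
        add_zero]
    · rfl
  · simp

theorem mono_transv (σ : Equiv.Perm (Fin n)) (a : Fin n → Fˣ) {j k : Fin n} (h : j ≠ k) (t : F) :
    mono σ a * transv j k h t =
      transv (σ j) (σ k) (σ.injective.ne h) ((a j : F) * t * ((a k)⁻¹ : Fˣ)) * mono σ a := by
  refine mat_inj fun i l => ?_
  obtain ⟨i, rfl⟩ := σ.surjective i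
  rw [mono_mul_apply, mul_mono_apply, mat_transv, mat_transv]
  simp only [Matrix.one_apply, σ.injective.eq_iff]
  by_cases h1 : i = l
  · subst h1
    by_cases h2 : i = j ∧ i = k
    · exact absurd (h2.1.symm.trans h2.2) h
    · simp [h2]
  · by_cases h2 : i = j ∧ l = k
    · obtain ⟨rfl, rfl⟩ := h2
      simp [h1]
    · simp [h1, h2]

/-! ### Bruhat form -/

theorem exists_diag_mul {b : GL (Fin n) F} (hb : b ∈ Cfsg.upperTriangularGL n F) :
    ∃ d : Fin n → Fˣ, (mono 1 d)⁻¹ * b ∈ upperUni F n ∧ b * (mono 1 d)⁻¹ ∈ upperUni F n := by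
  have hb' : (mat b).BlockTriangular id := hb
  have hd : ∀ i, mat b i i ≠ 0 := by
    intro i h
    have hu : IsUnit (mat b).det := (Matrix.isUnit_iff_isUnit_det _).mp b.isUnit
    rw [Matrix.det_of_upperTriangular hb', Finset.prod_eq_zero (f := fun i => mat b i i) (Finset.mem_univ i) h] at hu
    exact not_isUnit_zero hu
  refine ⟨fun i => Units.mk0 _ (hd i), ?_, ?_⟩
  all_goals
    refine mem_upperUni.mpr fun i j hji => ?_
  · show (mat (mono 1 fun i => Units.mk0 _ (hd i))⁻¹ * mat b) i j = _
    rw [Matrix.mul_apply, Finset.sum_eq_single i]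
    · show (if (1 : Equiv.Perm (Fin n)) i = i then ((Units.mk0 _ (hd i))⁻¹ : Fˣ).val else 0) * _ = _
      rw [Equiv.Perm.one_apply, if_pos rfl]
      rcases hji.eq_or_lt with rfl | h
      · simp [hd j]
      · rw [show mat b i j = 0 from hb' h, mul_zero, Matrix.one_apply_ne h.ne']
    · intro l _ hl
      show (if (1 : Equiv.Perm (Fin n)) i = l then _ else 0) * _ = _
      rw [Equiv.Perm.one_apply, if_neg (Ne.symm hl), zero_mul]
    · simp
  · show (mat b * mat (mono 1 fun i => Units.mk0 _ (hd i))⁻¹) i j = _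
    rw [Matrix.mul_apply, Finset.sum_eq_single j]
    · show _ * (if (1 : Equiv.Perm (Fin n)) j = j then ((Units.mk0 _ (hd j))⁻¹ : Fˣ).val else 0) = _
      rw [Equiv.Perm.one_apply, if_pos rfl]
      rcases hji.eq_or_lt with rfl | h
      · simp [hd j]
      · rw [show mat b i j = 0 from hb' h, zero_mul, Matrix.one_apply_ne h.ne']
    · intro l _ hl
      show _ * (if (1 : Equiv.Perm (Fin n)) l = j then _ else 0) = _
      rw [Equiv.Perm.one_apply, if_neg hl, mul_zero]
    · simp

theorem permGL_eq_mono (σ : Equiv.Perm (Fin n)) :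
    CfsgLib.KnownB.Flag.permGL (F := F) σ = mono σ 1 :=
  mat_inj fun i j => by
    rw [mat_mono]; exact CfsgLib.KnownB.Flag.permGL_apply σ i j

theorem exists_form (g : GL (Fin n) F) :
    ∃ u ∈ upperUni F n, ∃ σ a, ∃ v ∈ upperUni F n, g = u * mono σ a * v := by
  obtain ⟨b₁, hb₁, σ, b₂, hb₂, rfl⟩ := CfsgLib.KnownB.Flag.exists_bruhat g
  obtain ⟨d, -, hd⟩ := exists_diag_mul hb₁
  obtain ⟨e, he, -⟩ := exists_diag_mul hb₂
  obtain ⟨τ, c, hτ⟩ : ∃ τ c, mono 1 d * mono σ 1 * mono 1 e = mono τ c :=
    ⟨_, _, (congrArg (· * mono 1 e) (mono_mul_mono 1 σ d 1)).trans (mono_mul_mono _ _ _ e)⟩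
  refine ⟨_, hd, τ, c, _, he, ?_⟩
  rw [permGL_eq_mono, ← hτ]
  group

theorem mono_unique {u v : GL (Fin n) F} (hu : u ∈ upperUni F n) (hv : v ∈ upperUni F n)
    {σ σ' : Equiv.Perm (Fin n)} {a a' : Fin n → Fˣ} (h : mono σ a * v = u * mono σ' a') :
    σ = σ' ∧ a = a' := by
  have key : ∀ i k, (a i : F) * mat v i k = mat u (σ i) (σ' k) * a' k := fun i k => by
    rw [← mono_mul_apply, h, mul_mono_apply]
  have hle : ∀ k, σ.symm (σ' k) ≤ k := by
    intro k
    by_contra hlt
    push Not at hlt
    have := key (σ.symm (σ' k)) k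
    rw [Equiv.apply_symm_apply, uni_zero hv hlt, uni_diag hu, mul_zero, one_mul] at this
    exact (a' k).ne_zero this.symm
  have hid : ∀ k, σ.symm (σ' k) = k := by
    intro k
    induction k using WellFoundedLT.induction with
    | _ k ih =>
      rcases (hle k).eq_or_lt with e | e
      · exact e
      · have := ih _ e
        exact absurd (σ'.injective (σ.symm.injective this)) e.ne
  have hσ : σ = σ' := Equiv.ext fun k => by
    have := congrArg σ (hid k)
    rw [Equiv.apply_symm_apply] at this
    exact this.symm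
  refine ⟨hσ, funext fun k => Units.ext ?_⟩
  have := key k k
  rwa [← hσ, uni_diag hv, uni_diag hu, mul_one, one_mul] at this

/-! ### Relevant monomial matrices -/

/-- The monomial matrices carrying bi-equivariant functions. -/
def Rel (σ : Equiv.Perm (Fin n)) (a : Fin n → Fˣ) : Prop :=
  ∀ j k : Fin n, (k : ℕ) = j + 1 → σ k < σ j ∨ ((σ k : ℕ) = σ j + 1 ∧ a j = a k)

variable {σ : Equiv.Perm (Fin n)} {a : Fin n → Fˣ}

/-- Moving at unit speed. -/
def Same (σ : Equiv.Perm (Fin n)) (j k : Fin n) : Prop := (σ k : ℕ) + j = σ j + k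

theorem Same.symm {j k : Fin n} (h : Same σ j k) : Same σ k j := by unfold Same at *; omega

theorem Same.trans {j k l : Fin n} (h : Same σ j k) (h' : Same σ k l) : Same σ j l := by
  unfold Same at *; omega

theorem Rel.dichotomy (hR : Rel σ a) {j k : Fin n} (hjk : j ≤ k) :
    ((∀ l, j ≤ l → l ≤ k → Same σ j l) ∧ a j = a k) ∨ σ k < σ j := by
  obtain ⟨d, hd⟩ : ∃ d, (k : ℕ) = j + d := ⟨(k : ℕ) - j, by rw [Fin.le_def] at hjk; omega⟩
  induction d generalizing k with
  | zero =>
    obtain rfl : j = k := Fin.ext (by omega)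
    exact Or.inl ⟨fun l h1 h2 => by rw [le_antisymm h2 h1]; rfl, rfl⟩
  | succ d ih =>
    let p : Fin n := ⟨(j : ℕ) + d, by omega⟩
    have hjp : j ≤ p := Fin.le_def.mpr (show (j : ℕ) ≤ j + d by omega)
    have hpk : (k : ℕ) = (p : ℕ) + 1 := show (k : ℕ) = (j + d) + 1 by omega
    rcases ih hjp rfl with ⟨hs, ha⟩ | hlt
    · rcases hR p k hpk with hb | ⟨hc, hc'⟩
      · right
        by_contra hge
        push Not at hge
        have hp := hs p hjp le_rfl
        unfold Same at hp
        rw [Fin.lt_def] at hb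
        rw [Fin.le_def] at hge
        let l : Fin n := ⟨(j : ℕ) + ((σ k : ℕ) - σ j), by
          have := p.2; omega⟩
        have hl : Same σ j l := hs l (Fin.le_def.mpr (by simp [l])) (Fin.le_def.mpr (by simp [l]; omega))
        have e : σ l = σ k := Fin.ext (by unfold Same at hl; simp [l] at hl ⊢; omega)
        have := congrArg Fin.val (σ.injective e)
        simp [l] at this
        omega
      · left
        refine ⟨fun l h1 h2 => ?_, ha.trans hc'⟩
        rcases h2.eq_or_lt with rfl | h
        · have hp := hs p hjp le_rfl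
          unfold Same at hp ⊢
          omega
        · exact hs l h1 (Fin.le_def.mpr (by rw [Fin.lt_def] at h; omega))
    · right
      rcases hR p k hpk with hb | ⟨hc, -⟩
      · exact hb.trans hlt
      · refine lt_of_le_of_ne ?_ fun e => ?_
        · rw [Fin.le_def]; rw [Fin.lt_def] at hlt; omega
        · have := congrArg Fin.val (σ.injective e); omega

theorem Rel.lt_of_not_same (hR : Rel σ a) {j k : Fin n} (hjk : j ≤ k) (h : ¬ Same σ j k) :
    σ k < σ j :=
  (hR.dichotomy hjk).resolve_left fun h' => h (h'.1 k hjk le_rfl)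

theorem Rel.same_between (hR : Rel σ a) {j k l : Fin n} (h : Same σ j k) (h1 : j ≤ l) (h2 : l ≤ k) :
    Same σ j l ∧ a j = a k := by
  rcases hR.dichotomy (h1.trans h2) with ⟨hs, ha⟩ | hlt
  · exact ⟨hs l h1 h2, ha⟩
  · have hjk : j ≤ k := h1.trans h2
    unfold Same at h
    rw [Fin.lt_def] at hlt
    rw [Fin.le_def] at hjk
    omega

/-- The anti-transpose. -/
def antiT (g : GL (Fin n) F) : GL (Fin n) F where
  val := (mat g).transpose.submatrix Fin.rev Fin.rev
  inv := (mat g⁻¹).transpose.submatrix Fin.rev Fin.rev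
  val_inv := by
    rw [show (Fin.rev : Fin n → Fin n) = ⇑Fin.revPerm from rfl, Matrix.submatrix_mul_equiv, ← Matrix.transpose_mul, ← mat_mul, inv_mul_cancel]
    simp
  inv_val := by
    rw [show (Fin.rev : Fin n → Fin n) = ⇑Fin.revPerm from rfl, Matrix.submatrix_mul_equiv, ← Matrix.transpose_mul, ← mat_mul, mul_inv_cancel]
    simp

theorem mat_antiT (g : GL (Fin n) F) (i j : Fin n) :
    mat (antiT g) i j = mat g j.rev i.rev := rfl

theorem antiT_antiT (g : GL (Fin n) F) : antiT (antiT g) = g :=
  mat_inj fun i j => by rw [mat_antiT, mat_antiT, Fin.rev_rev, Fin.rev_rev]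

/-- The anti-transpose as a bijection. -/
def antiEquiv : GL (Fin n) F ≃ GL (Fin n) F := ⟨antiT, antiT, antiT_antiT, antiT_antiT⟩

theorem antiT_mul (g h : GL (Fin n) F) : antiT (g * h) = antiT h * antiT g :=
  mat_inj fun i j => by
    rw [mat_antiT, mat_mul, mat_mul, Matrix.mul_apply, Matrix.mul_apply]
    exact Fintype.sum_equiv Fin.revPerm _ _ fun l => by
      simp [mat_antiT, mul_comm]

theorem antiT_mem {u : GL (Fin n) F} (hu : u ∈ upperUni F n) : antiT u ∈ upperUni F n :=
  mem_upperUni.mpr fun i j hji => by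
    rw [mat_antiT, mem_upperUni.mp hu _ _ (Fin.rev_le_rev.mpr hji)]
    simp [Matrix.one_apply, eq_comm]

theorem link_antiT (u : GL (Fin n) F) : link (antiT u) = link u := by
  unfold link
  rw [Finset.sum_comm]
  refine Fintype.sum_equiv Fin.revPerm _ _ fun j => Fintype.sum_equiv Fin.revPerm _ _ fun i => ?_
  rw [mat_antiT, Fin.revPerm_apply, Fin.revPerm_apply]
  refine if_congr ?_ rfl rfl
  rw [Fin.val_rev, Fin.val_rev]
  omega

theorem antiT_mono (hR : Rel σ a) : antiT (mono σ a) = mono σ a := by
  classical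
  have key : ∀ j : Fin n, σ (σ j).rev = j.rev ∧ a (σ j).rev = a j := by
    intro j
    set S := Finset.univ.filter fun k => Same σ j k
    have hne : S.Nonempty := ⟨j, Finset.mem_filter.mpr ⟨Finset.mem_univ _, rfl⟩⟩
    set s := S.min' hne
    set e := S.max' hne
    have hs : Same σ j s := (Finset.mem_filter.mp (S.min'_mem hne)).2
    have he : Same σ j e := (Finset.mem_filter.mp (S.max'_mem hne)).2
    have hsj : s ≤ j := S.min'_le _ (Finset.mem_filter.mpr ⟨Finset.mem_univ _, rfl⟩)
    have hje : j ≤ e := S.le_max' _ (Finset.mem_filter.mpr ⟨Finset.mem_univ _, rfl⟩)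
    have hse : Same σ s e := hs.symm.trans he
    have hiff : ∀ k, σ k < σ s ↔ e < k := by
      intro k
      constructor
      · intro hk
        by_contra hle
        push Not at hle
        rcases le_or_gt s k with h | h
        · have := (hR.same_between hse h hle).1
          unfold Same at this
          rw [Fin.lt_def] at hk
          rw [Fin.le_def] at h
          omega
        · have hns : ¬ Same σ k s := fun h' =>
            absurd (S.min'_le k (by simp only [S, Finset.mem_filter, Finset.mem_univ, true_and]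
                                    exact hs.trans h'.symm)) (not_le.mpr h)
          exact absurd hk (not_lt.mpr (hR.lt_of_not_same h.le hns).le)
      · intro hk
        refine hR.lt_of_not_same ((hsj.trans hje).trans hk.le) fun h' => ?_
        exact absurd (S.le_max' k (by simp only [S, Finset.mem_filter, Finset.mem_univ, true_and]
                                      exact hs.trans h')) (not_le.mpr hk)
    have hcount : (σ s : ℕ) = n - 1 - e := by
      have h1 : (Finset.Iio (σ s)).card = (Finset.Ioi e).card :=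
        Finset.card_equiv σ.symm fun i => by
          rw [Finset.mem_Iio, Finset.mem_Ioi, ← hiff (σ.symm i), Equiv.apply_symm_apply]
      rwa [Fin.card_Iio, Fin.card_Ioi] at h1
    have h2 : (σ j : ℕ) + s = σ s + j := hs.symm
    rw [Fin.le_def] at hsj hje
    have hrs : s ≤ (σ j).rev ∧ (σ j).rev ≤ e := by
      rw [Fin.le_def, Fin.le_def, Fin.val_rev]
      have := (σ j).2; have := e.2
      omega
    obtain ⟨hr, -⟩ := hR.same_between hse hrs.1 hrs.2
    refine ⟨Fin.ext ?_, ?_⟩
    · unfold Same at hr
      rw [Fin.val_rev] at hr ⊢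
      have := (σ j).2; have := e.2
      omega
    · have hjr : Same σ s (σ j).rev := hr
      rcases le_total j (σ j).rev with h | h
      · exact ((hR.same_between (hs.trans hjr) le_rfl h).2).symm
      · exact (hR.same_between (hs.trans hjr).symm le_rfl h).2
  refine mat_inj fun i j => ?_
  rw [mat_antiT, mat_mono, mat_mono]
  obtain ⟨k1, k2⟩ := key j
  by_cases h : i = σ j
  · rw [if_pos h, h, if_pos k1.symm, k2]
  · rw [if_neg h, if_neg fun h' => h (Fin.rev_injective (σ.injective (h'.symm.trans k1.symm)))]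

theorem eq_of_scaled {b c : F} (h : ∀ t, addC F (b * t) = addC F (c * t)) : b = c := by
  by_contra hne
  obtain ⟨t, ht⟩ := exists_addC_ne (sub_ne_zero.mpr hne)
  refine ht ?_
  rw [sub_mul, sub_eq_add_neg, AddChar.map_add_eq_mul, h, ← AddChar.map_add_eq_mul, add_neg_cancel,
    AddChar.map_zero_eq_one]

/-- If not relevant, a transvection on the right differs from the one on the left. -/
theorem exists_bad (h : ¬ Rel σ a) : ∃ v v' : upperUni F n,
    mono σ a * (v : GL (Fin n) F) = v' * mono σ a ∧ (psi F n v : ℂ) ≠ psi F n v' := by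
  simp only [Rel, not_forall, not_or, not_lt, not_and] at h
  obtain ⟨j, k, hk, hle, hc⟩ := h
  have hjk : j < k := Fin.lt_def.mpr (by omega)
  have hlt : σ j < σ k := hle.lt_of_ne (σ.injective.ne hjk.ne)
  let c : F := if (σ j : ℕ) + 1 = σ k then (a j : F) * ((a k)⁻¹ : Fˣ) else 0
  have hc1 : c ≠ 1 := by
    by_cases e : (σ j : ℕ) + 1 = σ k
    · simp only [c, if_pos e]
      intro h1
      exact hc e.symm (Units.ext (by
        have := congrArg (· * (a k : F)) h1
        simpa [mul_assoc] using this))
    · simp only [c, if_neg e]; exact zero_ne_one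
  obtain ⟨t, ht⟩ : ∃ t, addC F (1 * t) ≠ addC F (c * t) := by
    by_contra hall
    push Not at hall
    exact hc1 (eq_of_scaled hall).symm
  refine ⟨⟨_, transv_mem hjk t⟩, ⟨_, transv_mem hlt ((a j : F) * t * ((a k)⁻¹ : Fˣ))⟩,
    mono_transv σ a hjk.ne t, ?_⟩
  rw [psi_apply, psi_apply, link_transv, link_transv, if_pos hk.symm]
  rw [one_mul] at ht
  simp only [c, ite_mul, zero_mul] at ht
  rwa [mul_right_comm]

theorem conj_psi_ne {v v' : upperUni F n} (h : (psi F n v : ℂ) ≠ psi F n v') :
    conj (psi F n v : ℂ) ≠ conj (psi F n v' : ℂ) := fun e => h (by simpa using congrArg conj e)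

theorem rel_of_ne {f : GL (Fin n) F → ℂ}
    (hl : ∀ (u : upperUni F n) g, f (u * g) = conj (psi F n u : ℂ) * f g)
    (hr : ∀ (u : upperUni F n) g, f (g * u) = f g * conj (psi F n u : ℂ))
    (h : f (mono σ a) ≠ 0) : Rel σ a := by
  by_contra hR
  obtain ⟨v, v', e, hne⟩ := exists_bad hR
  have e1 := hr v (mono σ a)
  rw [e, hl, mul_comm (f (mono σ a))] at e1
  exact conj_psi_ne hne (mul_right_cancel₀ h e1).symm

theorem antiT_fix {f : GL (Fin n) F → ℂ}
    (hl : ∀ (u : upperUni F n) g, f (u * g) = conj (psi F n u : ℂ) * f g)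
    (hr : ∀ (u : upperUni F n) g, f (g * u) = f g * conj (psi F n u : ℂ)) (g : GL (Fin n) F) :
    f (antiT g) = f g := by
  obtain ⟨u, hu, σ, a, v, hv, rfl⟩ := exists_form g
  have hψ : ∀ w : upperUni F n, psi F n ⟨antiT w, antiT_mem w.2⟩ = psi F n w := fun w =>
    Units.ext (by rw [psi_apply, psi_apply]; exact congrArg _ (link_antiT _))
  have hl' : ∀ (w : upperUni F n) g, f (antiT (w * g)) = conj (psi F n w : ℂ) * f (antiT g) := fun w g => by
    rw [antiT_mul, hr ⟨_, antiT_mem w.2⟩, hψ, mul_comm]
  have hr' : ∀ (w : upperUni F n) g, f (antiT (g * w)) = f (antiT g) * conj (psi F n w : ℂ) := fun w g => by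
    rw [antiT_mul, hl ⟨_, antiT_mem w.2⟩, hψ, mul_comm]
  rw [hr' ⟨v, hv⟩, hl' ⟨u, hu⟩, hr ⟨v, hv⟩, hl ⟨u, hu⟩]
  congr 2
  by_cases hR : Rel σ a
  · rw [antiT_mono hR]
  · rw [show f (mono σ a) = 0 from not_not.mp fun h => hR (rel_of_ne hl hr h),
      show f (antiT (mono σ a)) = 0 from not_not.mp fun h =>
        hR (rel_of_ne (f := fun g => f (antiT g)) hl' hr' h)]

/-- Multiplicity one. -/
theorem mult_psi {χ : GL (Fin n) F → ℂ} (hχ : Cfsg.IsIrrCharacter (GL (Fin n) F) χ)
    [Fintype (upperUni F n)] :
    Cfsg.classInner (fun u : upperUni F n => χ u) (fun u => (psi F n u : ℂ)) = 0 ∨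
      Cfsg.classInner (fun u : upperUni F n => χ u) (fun u => (psi F n u : ℂ)) = 1 :=
  mult_le_one (upperUni F n) (psi F n) hχ fun ρ x y =>
    commute_of_antiinvolution (upperUni F n) (psi F n) antiEquiv antiT_mul
      (fun _ hl hr g => antiT_fix hl hr g) ρ x y

/-! ### The norm of the Gelfand–Graev character -/

theorem psi_conj_eq (hR : Rel σ a) {u u' : GL (Fin n) F} (hu : u ∈ upperUni F n)
    (hu' : u' ∈ upperUni F n) (h : mono σ a * u = u' * mono σ a) : link u' = link u := by
  have key : ∀ j k, (a j : F) * mat u j k = mat u' (σ j) (σ k) * a k := fun j k => by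
    rw [← mono_mul_apply, h, mul_mono_apply]
  unfold link
  rw [← Equiv.sum_comp σ]
  refine Finset.sum_congr rfl fun j _ => ?_
  rw [← Equiv.sum_comp σ]
  refine Finset.sum_congr rfl fun k _ => ?_
  have hak : (a k : F) ≠ 0 := (a k).ne_zero
  by_cases h1 : (j : ℕ) + 1 = k
  · rw [if_pos h1]
    rcases hR j k h1.symm with hb | ⟨hc, hc'⟩
    · rw [if_neg (by rw [Fin.lt_def] at hb; omega)]
      have := key j k
      rw [uni_zero hu' hb, zero_mul] at this
      exact ((mul_eq_zero.mp this).resolve_left (a j).ne_zero).symm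
    · rw [if_pos hc.symm]
      have := key j k
      rw [hc', mul_comm] at this
      exact (mul_right_cancel₀ hak this).symm
  · rw [if_neg h1]
    split_ifs with h2
    · rcases lt_or_ge k j with h3 | h3
      · have := key j k
        rw [uni_zero hu h3, mul_zero] at this
        exact (mul_eq_zero.mp this.symm).resolve_right hak
      · rcases hR.dichotomy h3 with ⟨hs, -⟩ | hlt
        · have := hs k h3 le_rfl
          unfold Same at this
          omega
        · rw [Fin.lt_def] at hlt; omega
    · rfl

/-- Relevant data. -/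
abbrev RelSet (F : Type u) [Field F] (n : ℕ) : Type u :=
  {x : Equiv.Perm (Fin n) × (Fin n → Fˣ) // Rel x.1 x.2}

theorem norm_gelfandGraev [Fintype (upperUni F n)] :
    Cfsg.classInner (Cfsg.indFun (upperUni F n) fun u => (psi F n u : ℂ))
      (Cfsg.indFun (upperUni F n) fun u => (psi F n u : ℂ)) = (Nat.card (RelSet F n) : ℂ) := by
  classical
  set U := upperUni F n with hU
  have hcl : Cfsg.IsClassFunction U (fun u => (psi F n u : ℂ)) := fun g h => by
    simp [mul_comm]
  rw [inner_indFun]
  let I : Equiv.Perm (Fin n) × (Fin n → Fˣ) → Finset (GL (Fin n) F) := fun x =>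
    (Finset.univ : Finset (U × U)).image fun p => (p.1 : GL (Fin n) F) * mono x.1 x.2 * p.2
  have hdisj : ∀ x ∈ (Finset.univ : Finset (Equiv.Perm (Fin n) × (Fin n → Fˣ))), ∀ y ∈ Finset.univ,
      x ≠ y → Disjoint (I x) (I y) := by
    intro x _ y _ hxy
    rw [Finset.disjoint_left]
    intro g hx hy
    obtain ⟨⟨p, q⟩, -, rfl⟩ := Finset.mem_image.mp hx
    obtain ⟨⟨p', q'⟩, -, h⟩ := Finset.mem_image.mp hy
    refine hxy ?_
    obtain ⟨h1, h2⟩ := mono_unique (mul_mem (inv_mem p.2) p'.2) (mul_mem q.2 (inv_mem q'.2))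
      (σ := x.1) (a := x.2) (σ' := y.1) (a' := y.2) (by
        calc mono x.1 x.2 * ((q : GL (Fin n) F) * (q' : GL (Fin n) F)⁻¹)
            = (p : GL (Fin n) F)⁻¹ * ((p : GL (Fin n) F) * mono x.1 x.2 * q) * (q' : GL (Fin n) F)⁻¹ := by
              group
          _ = _ := by rw [← h]; group)
    exact Prod.ext h1 h2
  have hcover : (Finset.univ : Finset (GL (Fin n) F)) = Finset.univ.biUnion I := by
    ext g
    obtain ⟨u, hu, σ, a, v, hv, rfl⟩ := exists_form g
    simp only [Finset.mem_univ, true_iff, Finset.mem_biUnion, true_and]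
    exact ⟨(σ, a), Finset.mem_image.mpr ⟨(⟨u, hu⟩, ⟨v, hv⟩), Finset.mem_univ _, rfl⟩⟩
  rw [hcover, Finset.sum_biUnion hdisj]
  have hterm : ∀ x, ∑ z ∈ I x, doubleTerm U U (fun u => (psi F n u : ℂ)) (fun u => (psi F n u : ℂ)) z =
      if Rel x.1 x.2 then (Nat.card U : ℂ) * Nat.card U else 0 := by
    intro x
    have hconst : ∀ z ∈ I x, doubleTerm U U (fun u => (psi F n u : ℂ)) (fun u => (psi F n u : ℂ)) z =
        doubleTerm U U (fun u => (psi F n u : ℂ)) (fun u => (psi F n u : ℂ)) (mono x.1 x.2) := by
      intro z hz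
      obtain ⟨⟨p, q⟩, -, rfl⟩ := Finset.mem_image.mp hz
      exact doubleTerm_congr U U hcl hcl p _ q
    rw [Finset.sum_congr rfl hconst, Finset.sum_const, nsmul_eq_mul]
    split_ifs with hR
    · have hval : doubleTerm U U (fun u => (psi F n u : ℂ)) (fun u => (psi F n u : ℂ)) (mono x.1 x.2) =
          (Fintype.card {p : U // mono x.1 x.2 * p * (mono x.1 x.2)⁻¹ ∈ U} : ℂ) := by
        rw [doubleTerm, Fintype.card_subtype, Finset.natCast_card_filter]
        refine Finset.sum_congr rfl fun p _ => ?_
        split_ifs with hp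
        · rw [CfsgLib.Char.extendByZero_of_mem _ hp, psi_apply, psi_apply,
            show link (mono x.1 x.2 * (p : GL (Fin n) F) * (mono x.1 x.2)⁻¹) = link (p : GL (Fin n) F) from
              psi_conj_eq hR p.2 hp (by group), conj_addC, ← AddChar.map_add_eq_mul, add_neg_cancel,
            AddChar.map_zero_eq_one]
        · rw [CfsgLib.Char.extendByZero_of_not_mem _ hp, map_zero, mul_zero]
      rw [hval, ← Nat.cast_mul, card_double, Nat.card_eq_fintype_card, Nat.cast_mul]
    · obtain ⟨v, v', e, hne⟩ := exists_bad hR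
      rw [doubleTerm_eq_zero_of_scalar U U (mono x.1 x.2) v (psi F n v : ℂ) (psi F n v' : ℂ) ?_ ?_ ?_,
        mul_zero]
      · rw [conj_psi]
        intro h1
        exact hne ((Units.mul_inv_eq_one).mp h1)
      · intro p; rw [map_mul, Units.val_mul, mul_comm]
      · intro g
        rw [show mono x.1 x.2 * (v : GL (Fin n) F) * (mono x.1 x.2)⁻¹ = v' by rw [e]; group]
        exact extendByZero_mul_hom (psi F n) g v'
  rw [Finset.sum_congr rfl fun x _ => hterm x, ← Finset.sum_filter, Finset.sum_const, nsmul_eq_mul,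
    ← Fintype.card_subtype, mul_comm, mul_assoc, mul_inv_cancel₀, mul_one, Nat.card_eq_fintype_card]
  simp [Nat.card_pos.ne']

/-- The number of generic characters is the number of relevant matrices. -/
theorem card_generic [Fintype (upperUni F n)] :
    Nat.card {χ : Cfsg.IrrCharacter (GL (Fin n) F) //
      Cfsg.classInner (fun u : upperUni F n => (χ : GL (Fin n) F → ℂ) u) (fun u => (psi F n u : ℂ)) = 1} =
      Nat.card (RelSet F n) := by
  classical
  haveI : Fintype (Cfsg.IrrCharacter (GL (Fin n) F)) := Fintype.ofFinite _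
  have h := norm_gelfandGraev (F := F) (n := n)
  rw [CfsgLib.Char.classInner_eq_sum_mul (CfsgLib.Char.indFun_isClassFunction _ _)] at h
  have hterm : ∀ χ : Cfsg.IrrCharacter (GL (Fin n) F),
      Cfsg.classInner (Cfsg.indFun (upperUni F n) fun u => (psi F n u : ℂ)) (χ : GL (Fin n) F → ℂ) *
        conj (Cfsg.classInner (Cfsg.indFun (upperUni F n) fun u => (psi F n u : ℂ)) (χ : GL (Fin n) F → ℂ)) =
      if Cfsg.classInner (fun u : upperUni F n => (χ : GL (Fin n) F → ℂ) u) (fun u => (psi F n u : ℂ)) = 1
        then 1 else 0 := by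
    intro χ
    rw [CfsgLib.Char.frobenius_reciprocity _ _ _ (CfsgLib.Char.irr_isClassFunction χ.2),
      CfsgLib.Char.classInner_conj_symm]
    rw [← CfsgLib.Char.classInner_conj_symm (fun u : upperUni F n => (χ : GL (Fin n) F → ℂ) u)]
    rcases mult_psi χ.2 with e | e <;> rw [e] <;> simp
  rw [Finset.sum_congr rfl fun χ _ => hterm χ, Finset.sum_boole, ← Fintype.card_subtype] at h
  rw [Nat.card_eq_fintype_card]
  exact_mod_cast h

/-! ### Counting relevant matrices -/

variable {m : ℕ}

/-- Extend a permutation by sending the last point to `v`. -/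
def extPerm (σ : Equiv.Perm (Fin m)) (v : Fin (m + 1)) : Equiv.Perm (Fin (m + 1)) :=
  (finSuccEquiv' (Fin.last m)).trans ((Equiv.optionCongr σ).trans (finSuccEquiv' v).symm)

theorem extPerm_last (σ : Equiv.Perm (Fin m)) (v : Fin (m + 1)) :
    extPerm σ v (Fin.last m) = v := by
  simp [extPerm]

theorem extPerm_castSucc (σ : Equiv.Perm (Fin m)) (v : Fin (m + 1)) (j : Fin m) :
    extPerm σ v j.castSucc = v.succAbove (σ j) := by
  simp [extPerm, finSuccEquiv'_below (Fin.castSucc_lt_last j)]

theorem succAbove_val (v : Fin (m + 1)) (i : Fin m) :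
    (v.succAbove i : ℕ) = if (i : ℕ) < v then (i : ℕ) else (i : ℕ) + 1 := by
  rw [Fin.succAbove]
  split_ifs with h h' h' <;> simp_all [Fin.lt_def]

/-- The new value and scalar. -/
def stepVal (σ : Equiv.Perm (Fin (m + 1))) : Option Fˣ → Fin (m + 2)
  | none => (σ (Fin.last m)).succ
  | some _ => 0

/-- The new scalar. -/
def stepScalar (a : Fin (m + 1) → Fˣ) : Option Fˣ → Fˣ
  | none => a (Fin.last m)
  | some b => b

theorem rel_step {σ : Equiv.Perm (Fin (m + 1))} {a : Fin (m + 1) → Fˣ} (h : Rel σ a) (o : Option Fˣ) :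
    Rel (extPerm σ (stepVal (F := F) σ o)) (Fin.snoc a (stepScalar a o)) := by
  intro j k hk
  rcases Fin.eq_castSucc_or_eq_last j with ⟨j, rfl⟩ | rfl
  swap
  · exfalso
    have := k.2
    simp at hk
    omega
  rcases Fin.eq_castSucc_or_eq_last k with ⟨k, rfl⟩ | rfl
  · rw [extPerm_castSucc, extPerm_castSucc, Fin.snoc_castSucc, Fin.snoc_castSucc, Fin.lt_def]
    have hk' : (k : ℕ) = j + 1 := by simpa using hk
    have A := succAbove_val (stepVal (F := F) σ o) (σ j)
    have B := succAbove_val (stepVal (F := F) σ o) (σ k)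
    rcases h j k hk' with hb | ⟨hc, hc'⟩
    · left
      rw [Fin.lt_def] at hb
      split_ifs at A B <;> omega
    · right
      refine ⟨?_, hc'⟩
      have hjl : j ≠ Fin.last m := fun e => by
        rw [e] at hk'; have := k.2; simp at hk'; omega
      have hne' : (σ j : ℕ) ≠ σ (Fin.last m) := fun e => hjl (σ.injective (Fin.ext e))
      cases o with
      | none =>
        have hv : (stepVal (F := F) σ none : ℕ) = σ (Fin.last m) + 1 := Fin.val_succ _
        split_ifs at A B <;> omega
      | some b =>
        have hv : (stepVal (F := F) σ (some b) : ℕ) = 0 := rfl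
        split_ifs at A B <;> omega
  · have hj : j = Fin.last m := Fin.ext (by simp at hk ⊢; omega)
    subst hj
    rw [extPerm_castSucc, extPerm_last, Fin.snoc_castSucc, Fin.snoc_last, Fin.lt_def]
    have A := succAbove_val (stepVal (F := F) σ o) (σ (Fin.last m))
    cases o with
    | none =>
      right
      have hv : (stepVal (F := F) σ none : ℕ) = σ (Fin.last m) + 1 := Fin.val_succ _
      exact ⟨by split_ifs at A <;> omega, rfl⟩
    | some b =>
      left
      have hv : (stepVal (F := F) σ (some b) : ℕ) = 0 := rfl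
      split_ifs at A <;> omega

theorem card_relSet_succ : Nat.card (RelSet F (m + 2)) = Nat.card (RelSet F (m + 1) × Option Fˣ) := by
  classical
  symm
  refine Nat.card_congr (Equiv.ofBijective
    (fun x => ⟨(extPerm x.1.1.1 (stepVal (F := F) x.1.1.1 x.2),
      Fin.snoc x.1.1.2 (stepScalar x.1.1.2 x.2)), rel_step x.1.2 x.2⟩) ⟨?_, ?_⟩)
  · rintro ⟨⟨⟨σ, a⟩, h⟩, o⟩ ⟨⟨⟨τ, b⟩, h'⟩, o'⟩ e
    simp only [Subtype.mk.injEq, Prod.mk.injEq] at e
    obtain ⟨e1, e2⟩ := e
    obtain ⟨e3, e4⟩ := Fin.snoc_inj.mp e2
    have ev := Equiv.congr_fun e1 (Fin.last _)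
    rw [extPerm_last, extPerm_last] at ev
    have hσ : σ = τ := Equiv.ext fun j => by
      have := Equiv.congr_fun e1 j.castSucc
      rw [extPerm_castSucc, extPerm_castSucc, ev] at this
      exact Fin.succAbove_right_injective this
    subst hσ e3
    cases o with
    | none =>
      cases o' with
      | none => rfl
      | some c => exact absurd ev (Fin.succ_ne_zero _)
    | some c =>
      cases o' with
      | none => exact absurd ev.symm (Fin.succ_ne_zero _)
      | some c' => simp only [stepScalar] at e4; rw [e4]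
  · rintro ⟨⟨σ', a'⟩, h⟩
    set v := σ' (Fin.last _) with hv
    have hne : ∀ j : Fin (m + 1), σ' j.castSucc ≠ v := fun j e =>
      (Fin.castSucc_lt_last j).ne (σ'.injective e)
    choose f hf using fun j => Fin.exists_succAbove_eq (hne j)
    have hfi : Function.Injective f := fun i j e => by
      refine Fin.castSucc_injective _ (σ'.injective ?_)
      rw [← hf, ← hf, e]
    let σ : Equiv.Perm (Fin (m + 1)) := Equiv.ofBijective f (Finite.injective_iff_bijective.mp hfi)
    have hR : Rel σ (fun j => a' j.castSucc) := by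
      intro j k hk
      have hv2 := succAbove_val v (f j)
      have hv3 := succAbove_val v (f k)
      rw [hf] at hv2 hv3
      show f k < f j ∨ ((f k : ℕ) = f j + 1 ∧ _)
      rw [Fin.lt_def]
      rcases h j.castSucc k.castSucc (by simpa using hk) with hb | ⟨hc, hc'⟩
      · left
        rw [Fin.lt_def] at hb
        have hb' : (σ' k.castSucc : ℕ) < σ' j.castSucc := hb
        split_ifs at hv2 hv3 <;> omega
      · right
        refine ⟨?_, hc'⟩
        have hc2 : (σ' k.castSucc : ℕ) = σ' j.castSucc + 1 := hc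
        split_ifs at hv2 hv3 <;> omega
    have hlast : (σ' (Fin.last m).castSucc) = v.succAbove (σ (Fin.last m)) := (hf _).symm
    let o : Option Fˣ := if (v : ℕ) = σ' (Fin.last m).castSucc + 1 then none else some (a' (Fin.last _))
    refine ⟨(⟨(σ, fun j => a' j.castSucc), hR⟩, o), Subtype.ext (Prod.ext ?_ ?_)⟩
    all_goals
      have hlv : (v.succAbove (σ (Fin.last m)) : ℕ) = σ' (Fin.last m).castSucc := congrArg Fin.val hlast.symm
      rw [succAbove_val] at hlv
      have hadj := h (Fin.last m).castSucc (Fin.last (m + 1)) (by simp)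
    · have hval : stepVal (F := F) σ o = v := by
        simp only [o]
        split_ifs with hcont
        · refine Fin.ext ?_
          simp only [stepVal, Fin.val_succ]
          split_ifs at hlv <;> omega
        · refine Fin.ext ?_
          simp only [stepVal, Fin.val_zero]
          by_contra hv0
          let w : Fin (m + 2) := ⟨(v : ℕ) - 1, by omega⟩
          obtain ⟨k, hk⟩ := σ'.surjective w
          have hkl : k ≤ Fin.last (m + 1) := Fin.le_last k
          have hkne : k ≠ Fin.last (m + 1) := fun e => by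
            have := congrArg Fin.val hk
            rw [e, ← hv] at this
            simp [w] at this; omega
          rcases Rel.dichotomy (σ := σ') (a := a') h hkl with ⟨hs, -⟩ | hlt
          · have := hs _ hkl le_rfl
            unfold Same at this
            rw [← hv, hk] at this
            have hklt : (k : ℕ) < m + 1 := by
              have := Fin.val_lt_last hkne; simpa using this
            simp [w] at this
            have hkm : k = (Fin.last m).castSucc := Fin.ext (by simp; omega)
            rw [hkm] at hk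
            have := congrArg Fin.val hk
            simp [w] at this
            omega
          · rw [← hv, hk, Fin.lt_def] at hlt
            simp [w] at hlt
            omega
      simp only [hval]
      refine Equiv.ext fun i => ?_
      rcases Fin.eq_castSucc_or_eq_last i with ⟨j, rfl⟩ | rfl
      · rw [extPerm_castSucc]; exact hf j
      · rw [extPerm_last, hv]
    · have hsc : stepScalar (fun j => a' j.castSucc) o = a' (Fin.last _) := by
        simp only [o]
        split_ifs with hcont
        · simp only [stepScalar]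
          rcases hadj with hb | ⟨-, hc'⟩
          · rw [Fin.lt_def] at hb
            simp only [← hv] at hb
            omega
          · exact hc'
        · rfl
      simp only [hsc]
      refine funext fun i => ?_
      rcases Fin.eq_castSucc_or_eq_last i with ⟨j, rfl⟩ | rfl
      · rw [Fin.snoc_castSucc]
      · rw [Fin.snoc_last]

theorem card_relSet (m : ℕ) :
    Nat.card (RelSet F (m + 1)) = Fintype.card F ^ m * (Fintype.card F - 1) := by
  classical
  have hu : Nat.card Fˣ = Fintype.card F - 1 := by
    rw [Nat.card_eq_fintype_card, Fintype.card_units]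
  induction m with
  | zero =>
    rw [pow_zero, one_mul, ← hu]
    refine Nat.card_congr ⟨fun x => x.1.2 0, fun b => ⟨(1, fun _ => b), fun j k hk => ?_⟩, ?_, ?_⟩
    · have := j.2; have := k.2; omega
    · rintro ⟨⟨σ, a⟩, h⟩
      refine Subtype.ext (Prod.ext (Equiv.ext fun i => Fin.ext (by omega)) (funext fun i => ?_))
      rw [show i = 0 from Fin.ext (by omega)]
    · intro b; rfl
  | succ m ih =>
    rw [card_relSet_succ, Nat.card_prod, ih, Finite.card_option, hu, pow_succ]
    have : 1 ≤ Fintype.card F := Fintype.card_pos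
    obtain ⟨c, hc⟩ : ∃ c, Fintype.card F = c + 1 := ⟨_, (Nat.sub_add_cancel this).symm⟩
    rw [hc, Nat.add_sub_cancel]
    ring

end CfsgLib.KnownB.Cusp
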