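import Mathlib

/-!
Weighted multisets: equal numbers of multisets force equal numbers of atoms; monic polynomials as
multisets of monic irreducibles.
-/

set_option autoImplicit false

namespace CfsgLib.KnownB.Cusp

universe u v

/-- Multisets of weight `m`. -/
abbrev Msets {α : Type u} (wt : α → ℕ) (m : ℕ) : Type u :=
  {s : Multiset α // (s.map wt).sum = m}

variable {α : Type u} {β : Type v} {wt : α → ℕ} {wt' : β → ℕ}

theorem card_le_weight (hpos : ∀ a, 1 ≤ wt a) (s : Multiset α) : Multiset.card s ≤ (s.map wt).sum := by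
  induction s using Multiset.induction with
  | empty => simp
  | cons a s ih => simp only [Multiset.card_cons, Multiset.map_cons, Multiset.sum_cons]; have := hpos a; omega

theorem le_weight {s : Multiset α} {a : α} (h : a ∈ s) : wt a ≤ (s.map wt).sum :=
  Multiset.le_sum_of_mem (Multiset.mem_map_of_mem wt h)

theorem finite_msets (hfin : ∀ d, Finite {a // wt a = d}) (hpos : ∀ a, 1 ≤ wt a) (m : ℕ) :
    Finite (Msets wt m) := by
  classical
  haveI : Finite {a // wt a ≤ m} := by
    haveI : ∀ d : Fin (m + 1), Finite {a // wt a = d} := fun d => hfin d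
    refine Finite.of_injective (β := Σ d : Fin (m + 1), {a // wt a = (d : ℕ)})
      (fun a => ⟨⟨wt a.1, Nat.lt_succ_of_le a.2⟩, ⟨a.1, rfl⟩⟩) fun a b h => Subtype.ext ?_
    exact congrArg (fun x : Σ d : Fin (m + 1), {a // wt a = (d : ℕ)} => x.2.1) h
  haveI : Finite {l : List {a // wt a ≤ m} // l.length ≤ m} :=
    (List.finite_length_le {a // wt a ≤ m} m).to_subtype
  haveI : Finite {l : List {a // wt a ≤ m} // l.length ≤ m ∧ ((l.map Subtype.val).map wt).sum = m} :=
    Finite.of_injective (fun l => (⟨l.1, l.2.1⟩ : {l : List {a // wt a ≤ m} // l.length ≤ m}))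
      fun a b h => Subtype.ext (congrArg (fun x => x.1) h)
  refine Finite.of_surjective
    (fun l : {l : List {a // wt a ≤ m} // l.length ≤ m ∧ ((l.map Subtype.val).map wt).sum = m} =>
      (⟨((l.1.map Subtype.val : List α) : Multiset α), by simpa using l.2.2⟩ : Msets wt m)) ?_
  intro s
  obtain ⟨s, hs⟩ := s
  induction s using Quot.inductionOn with
  | _ l =>
    have hl : ∀ a ∈ l, wt a ≤ m := fun a ha => hs ▸ le_weight (s := (l : Multiset α)) ha
    refine ⟨⟨l.attachWith _ hl, ?_, ?_⟩, Subtype.ext ?_⟩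
    · rw [List.length_attachWith]
      have := card_le_weight hpos (l : Multiset α)
      have hs' : ((l : Multiset α).map wt).sum = m := hs
      simp only [Multiset.coe_card] at this
      omega
    · rw [List.attachWith_map_subtype_val]
      simpa using hs
    · simp

/-- Weight-preserving relabelling. -/
def msetsCongr (e : α ≃ β) (he : ∀ a, wt' (e a) = wt a) (m : ℕ) : Msets wt m ≃ Msets wt' m where
  toFun s := ⟨s.1.map e, by
    rw [Multiset.map_map]
    exact (congrArg Multiset.sum (Multiset.map_congr rfl fun a _ => he a)).trans s.2⟩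
  invFun s := ⟨s.1.map e.symm, by
    rw [Multiset.map_map]
    refine (congrArg Multiset.sum (Multiset.map_congr rfl fun b _ => ?_)).trans s.2
    show wt (e.symm b) = wt' b
    rw [← he, Equiv.apply_symm_apply]⟩
  left_inv s := Subtype.ext (by simp [Multiset.map_map])
  right_inv s := Subtype.ext (by simp [Multiset.map_map])

theorem card_split (hfin : ∀ d, Finite {a // wt a = d}) (hpos : ∀ a, 1 ≤ wt a) {d : ℕ} :
    Nat.card (Msets wt d) =
      Nat.card {a // wt a = d} + Nat.card (Msets (fun a : {a // wt a < d} => wt a.1) d) := by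
  classical
  haveI := hfin d
  haveI : Finite (Msets (fun a : {a // wt a < d} => wt a.1) d) := by
    haveI := finite_msets hfin hpos d
    refine Finite.of_injective (fun s => (⟨s.1.map Subtype.val, by rw [Multiset.map_map]; exact s.2⟩ : Msets wt d))
      fun s t h => Subtype.ext ?_
    exact Multiset.map_injective Subtype.val_injective (congrArg Subtype.val h)
  rw [← Nat.card_sum]
  let f : {a // wt a = d} ⊕ Msets (fun a : {a // wt a < d} => wt a.1) d → Msets wt d :=
    Sum.elim (fun a => ⟨{a.1}, by simp [a.2]⟩)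
      (fun s => ⟨s.1.map Subtype.val, by rw [Multiset.map_map]; exact s.2⟩)
  refine (Nat.card_eq_of_bijective f ⟨?_, ?_⟩).symm
  · rintro (a | s) (b | t) h
    · have := congrArg Subtype.val h
      simp only [f, Sum.elim_inl, Multiset.singleton_inj] at this
      rw [Subtype.ext this]
    · have := congrArg Subtype.val h
      simp only [f, Sum.elim_inl, Sum.elim_inr] at this
      have hm : a.1 ∈ t.1.map Subtype.val := this ▸ Multiset.mem_singleton_self _
      obtain ⟨x, -, hx⟩ := Multiset.mem_map.mp hm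
      exact absurd (hx ▸ x.2) (by rw [a.2]; exact lt_irrefl _)
    · have := congrArg Subtype.val h
      simp only [f, Sum.elim_inl, Sum.elim_inr] at this
      have hm : b.1 ∈ s.1.map Subtype.val := this.symm ▸ Multiset.mem_singleton_self _
      obtain ⟨x, -, hx⟩ := Multiset.mem_map.mp hm
      exact absurd (hx ▸ x.2) (by rw [b.2]; exact lt_irrefl _)
    · have := congrArg Subtype.val h
      simp only [f, Sum.elim_inr] at this
      rw [Subtype.ext (Multiset.map_injective Subtype.val_injective this)]
  · intro s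
    by_cases h : ∃ a ∈ s.1, wt a = d
    · obtain ⟨a, ha, hd⟩ := h
      refine ⟨Sum.inl ⟨a, hd⟩, Subtype.ext ?_⟩
      obtain ⟨t, ht⟩ := Multiset.exists_cons_of_mem ha
      have hsum := s.2
      rw [ht, Multiset.map_cons, Multiset.sum_cons, hd] at hsum
      have : Multiset.card t = 0 := by
        have := card_le_weight hpos t
        omega
      simp [f, ht, Multiset.card_eq_zero.mp this]
    · push Not at h
      have hlt : ∀ a ∈ s.1, wt a < d := fun a ha => (s.2 ▸ le_weight ha).lt_of_ne (h a ha)
      refine ⟨Sum.inr ⟨s.1.attach.map fun a => ⟨a.1, hlt a.1 a.2⟩, ?_⟩, Subtype.ext ?_⟩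
      · rw [Multiset.map_map]
        exact (congrArg Multiset.sum (Multiset.attach_map_val' s.1 wt)).trans s.2
      · simp only [f, Sum.elim_inr, Multiset.map_map]
        exact Multiset.attach_map_val s.1

/-- Equal numbers of multisets force equal numbers of atoms. -/
theorem card_fiber_eq (hfin : ∀ d, Finite {a // wt a = d}) (hpos : ∀ a, 1 ≤ wt a)
    (hfin' : ∀ d, Finite {b // wt' b = d}) (hpos' : ∀ b, 1 ≤ wt' b)
    (h : ∀ m, 1 ≤ m → Nat.card (Msets wt m) = Nat.card (Msets wt' m)) :
    ∀ d, 1 ≤ d → Nat.card {a // wt a = d} = Nat.card {b // wt' b = d} := by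
  intro d
  induction d using Nat.strongRecOn with
  | _ d ih =>
    intro hd
    have e : ∀ c, {a : {a // wt a < d} // wt a.1 = c} ≃ {b : {b // wt' b < d} // wt' b.1 = c} := by
      intro c
      haveI := hfin c
      haveI := hfin' c
      haveI : Finite {a : {a // wt a < d} // wt a.1 = c} :=
        Finite.of_injective (fun a => (⟨a.1.1, a.2⟩ : {a // wt a = c})) fun a b hab =>
          Subtype.ext (Subtype.ext (congrArg (fun x => x.1) hab))
      haveI : Finite {b : {b // wt' b < d} // wt' b.1 = c} :=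
        Finite.of_injective (fun a => (⟨a.1.1, a.2⟩ : {a // wt' a = c})) fun a b hab =>
          Subtype.ext (Subtype.ext (congrArg (fun x => x.1) hab))
      refine Classical.choice (Finite.card_eq.mp ?_)
      by_cases hc : 1 ≤ c ∧ c < d
      · exact (Nat.card_congr ⟨fun a => (⟨a.1.1, a.2⟩ : {a // wt a = c}),
            fun a => ⟨⟨a.1, by rw [a.2]; exact hc.2⟩, a.2⟩, fun _ => rfl, fun _ => rfl⟩).trans
          ((ih c hc.2 hc.1).trans (Nat.card_congr
            ⟨fun a => (⟨⟨a.1, by rw [a.2]; exact hc.2⟩, a.2⟩ : {b : {b // wt' b < d} // wt' b.1 = c}),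
              fun a => ⟨a.1.1, a.2⟩, fun _ => rfl, fun _ => rfl⟩))
      · haveI : IsEmpty {a : {a // wt a < d} // wt a.1 = c} :=
          ⟨fun a => hc ⟨a.2 ▸ hpos a.1.1, a.2 ▸ a.1.2⟩⟩
        haveI : IsEmpty {b : {b // wt' b < d} // wt' b.1 = c} :=
          ⟨fun a => hc ⟨a.2 ▸ hpos' a.1.1, a.2 ▸ a.1.2⟩⟩
        simp
    have hlow : Nat.card (Msets (fun a : {a // wt a < d} => wt a.1) d) =
        Nat.card (Msets (fun b : {b // wt' b < d} => wt' b.1) d) :=
      Nat.card_congr (msetsCongr (Equiv.ofFiberEquiv e) (fun a => Equiv.ofFiberEquiv_map e a) d)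
    have := h d hd
    rw [card_split hfin hpos, card_split hfin' hpos', hlow] at this
    omega

/-! ### Monic polynomials -/

open Polynomial UniqueFactorizationMonoid

variable (K : Type u) [Field K]

/-- Monic irreducible polynomials other than `X`. -/
abbrev Prim : Type u := {p : K[X] // p.Monic ∧ Irreducible p ∧ p ≠ X}

variable {K}

/-- The weight of an irreducible polynomial. -/
abbrev pwt (p : Prim K) : ℕ := p.1.natDegree

theorem pwt_pos (p : Prim K) : 1 ≤ pwt p := p.2.2.1.natDegree_pos

theorem card_msets_prim (m : ℕ) :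
    Nat.card (Msets (pwt (K := K)) m) =
      Nat.card {f : K[X] // f.Monic ∧ f.natDegree = m ∧ f.coeff 0 ≠ 0} := by
  classical
  have hmon : ∀ s : Multiset (Prim K), ((s.map Subtype.val).prod).Monic := fun s =>
    monic_multiset_prod_of_monic s Subtype.val fun p _ => p.2.1
  have hdeg : ∀ s : Multiset (Prim K), ((s.map Subtype.val).prod).natDegree = (s.map pwt).sum := fun s => by
    rw [natDegree_multiset_prod_of_monic, Multiset.map_map]
    · rfl
    · intro f hf; obtain ⟨p, -, rfl⟩ := Multiset.mem_map.mp hf; exact p.2.1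
  have hX : ∀ p : Prim K, p.1.coeff 0 ≠ 0 := fun p h => by
    have hdvd : X ∣ p.1 := X_dvd_iff.mpr h
    exact p.2.2.2 (eq_of_monic_of_associated p.2.1 monic_X
      ((irreducible_X.associated_of_dvd p.2.2.1 hdvd).symm))
  have hc0 : ∀ s : Multiset (Prim K), ((s.map Subtype.val).prod).coeff 0 ≠ 0 := fun s => by
    rw [coeff_zero_multiset_prod, Ne, Multiset.prod_eq_zero_iff, Multiset.map_map]
    · intro h
      obtain ⟨p, -, hp⟩ := Multiset.mem_map.mp h
      exact hX p hp
  refine Nat.card_eq_of_bijective (fun s => (⟨(s.1.map Subtype.val).prod, hmon _, (hdeg _).trans s.2,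
    hc0 _⟩ : {f : K[X] // f.Monic ∧ f.natDegree = m ∧ f.coeff 0 ≠ 0})) ⟨fun s t h => ?_, fun f => ?_⟩
  · have h' := congrArg (fun x => normalizedFactors x.1) h
    have key : ∀ s : Multiset (Prim K), normalizedFactors (s.map Subtype.val).prod = s.map Subtype.val := fun s => by
      rw [normalizedFactors_prod_eq, Multiset.map_map]
      · exact Multiset.map_congr rfl fun p _ => p.2.1.normalize_eq_self
      · intro f hf; obtain ⟨p, -, rfl⟩ := Multiset.mem_map.mp hf; exact p.2.2.1
    rw [key, key] at h'
    exact Subtype.ext (Multiset.map_injective Subtype.val_injective h')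
  · obtain ⟨f, hf, hfd, hf0⟩ := f
    have hmem : ∀ p ∈ normalizedFactors f, p.Monic ∧ Irreducible p ∧ p ≠ X := by
      intro p hp
      have hirr := irreducible_of_normalized_factor p hp
      refine ⟨normalize_normalized_factor p hp ▸ monic_normalize hirr.ne_zero, hirr, ?_⟩
      rintro rfl
      exact hf0 (X_dvd_iff.mp (dvd_of_mem_normalizedFactors hp))
    let s : Multiset (Prim K) := (normalizedFactors f).attach.map fun p => ⟨p.1, hmem p.1 p.2⟩
    have hs : s.map Subtype.val = normalizedFactors f := by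
      rw [Multiset.map_map]; exact Multiset.attach_map_val _
    have hprod : (s.map Subtype.val).prod = f :=
      eq_of_monic_of_associated (hmon s) hf (hs.symm ▸ prod_normalizedFactors hf.ne_zero)
    exact ⟨⟨s, by rw [← hdeg, hprod, hfd]⟩, Subtype.ext hprod⟩

theorem card_monic [Finite K] (m : ℕ) :
    Nat.card {f : K[X] // f.Monic ∧ f.natDegree = m + 1 ∧ f.coeff 0 ≠ 0} =
      (Nat.card K - 1) * Nat.card K ^ m := by
  classical
  have := Fintype.ofFinite K
  let poly : (Fin (m + 1) → K) → K[X] := fun c => X ^ (m + 1) + ∑ i : Fin (m + 1), C (c i) * X ^ (i : ℕ)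
  have hdeg : ∀ c : Fin (m + 1) → K, (∑ i : Fin (m + 1), C (c i) * X ^ (i : ℕ)).degree < ((m + 1 : ℕ) : WithBot ℕ) := fun c =>
    degree_sum_fin_lt c
  have hcoeff : ∀ c (i : Fin (m + 1)), (poly c).coeff i = c i := fun c i => by
    simp only [poly, coeff_add, coeff_X_pow, finset_sum_coeff, coeff_C_mul]
    rw [if_neg (by omega), zero_add, Finset.sum_eq_single i]
    · simp
    · intro j _ hj; rw [if_neg (fun h => hj (Fin.ext h.symm)), mul_zero]
    · simp
  have hmon : ∀ c, (poly c).Monic := fun c => monic_X_pow_add (hdeg c)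
  have hnat : ∀ c, (poly c).natDegree = m + 1 := fun c => by
    refine natDegree_eq_of_degree_eq_some ?_
    simp only [poly]
    rw [degree_add_eq_left_of_degree_lt (by rw [degree_X_pow]; exact hdeg c), degree_X_pow]
  rw [← Nat.card_eq_of_bijective (fun c : {c : Fin (m + 1) → K // c 0 ≠ 0} =>
      (⟨poly c.1, hmon _, hnat _, by
        rw [show (poly c.1).coeff 0 = c.1 0 from hcoeff c.1 0]; exact c.2⟩ :
        {f : K[X] // f.Monic ∧ f.natDegree = m + 1 ∧ f.coeff 0 ≠ 0}))
      ⟨fun c c' h => Subtype.ext (funext fun i => ?_), fun f => ?_⟩]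
  · rw [show Nat.card {c : Fin (m + 1) → K // c 0 ≠ 0} = Nat.card ({a : K // a ≠ 0} × (Fin m → K)) from
      Nat.card_congr ⟨fun c => (⟨c.1 0, c.2⟩, fun i => c.1 i.succ), fun x => ⟨Fin.cons x.1.1 x.2, by
        simpa using x.1.2⟩, fun c => Subtype.ext (Fin.cons_self_tail c.1), fun x => by simp⟩,
      Nat.card_prod, Nat.card_fun, Nat.card_fin]
    congr 1
    rw [Nat.card_eq_fintype_card, Nat.card_eq_fintype_card, Fintype.card_subtype_compl,
      Fintype.card_subtype_eq]
  · rw [← hcoeff c.1 i, ← hcoeff c'.1 i]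
    exact congrArg (fun f => Polynomial.coeff f.1 i) h
  · obtain ⟨f, hf, hfd, hf0⟩ := f
    refine ⟨⟨fun i => f.coeff i, hf0⟩, Subtype.ext ?_⟩
    show poly _ = f
    conv_rhs => rw [hf.as_sum, hfd]
    simp only [poly]
    rw [Fin.sum_univ_eq_sum_range (fun i => C (f.coeff i) * X ^ i) (m + 1)]

end CfsgLib.KnownB.Cusp
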