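import Cfsg.Agent.Lib.KnownB.CuspHeredity
import Cfsg.Agent.Lib.KnownB.CuspMsets

/-!
Generic irreducible characters of `GL n` correspond to multisets of cuspidal characters.
-/

set_option autoImplicit false

namespace CfsgLib.KnownB.Cusp

open scoped ComplexConjugate MatrixGroups
open Finset

universe u

variable {F : Type u} [Field F] [Fintype F] [DecidableEq F] {n : ℕ}

variable (F) in
/-- Cuspidal irreducible characters of all degrees. -/
abbrev CItem : Type u :=
  {x : Item F // 0 < x.1 ∧ Cfsg.IsIrrCharacter (GL (Fin x.1) F) x.2 ∧ Cuspidal x.2}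

/-- The size of an item. -/
abbrev cwt (x : CItem F) : ℕ := x.1.1

variable (F) in
/-- Generic irreducible characters. -/
abbrev Gen (n : ℕ) : Type u := {χ : Cfsg.IrrCharacter (GL (Fin n) F) // mult (χ : GL (Fin n) F → ℂ) = 1}

/-- The items of cuspidal data. -/
def items (c : Comp n) (σ : ∀ k : Fin c.K, GL (Fin (c.d k)) F → ℂ)
    (h : ∀ k, Cfsg.IsIrrCharacter (GL (Fin (c.d k)) F) (σ k) ∧ Cuspidal (σ k)) : Multiset (CItem F) :=
  (Finset.univ : Finset (Fin c.K)).val.map fun k => ⟨item c σ k, c.pos k, (h k).1, (h k).2⟩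

theorem map_univ_eq_iff {α ι κ : Type*} [Fintype ι] [Fintype κ] (f : ι → α) (g : κ → α) :
    (Finset.univ : Finset ι).val.map f = (Finset.univ : Finset κ).val.map g ↔
      ∃ e : ι ≃ κ, ∀ i, f i = g (e i) := by
  classical
  constructor
  · intro h
    have e : ∀ a, {i // f i = a} ≃ {j // g j = a} := fun a => Fintype.equivOfCardEq (by
      have := congrArg (Multiset.count a) h
      rw [Multiset.count_map, Multiset.count_map] at this
      rw [Fintype.card_subtype, Fintype.card_subtype]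
      simp only [eq_comm (a := a)] at this
      exact this)
    exact ⟨Equiv.ofFiberEquiv e, fun i => (Equiv.ofFiberEquiv_map e i).symm⟩
  · rintro ⟨e, he⟩
    have : (Finset.univ : Finset κ).val = (Finset.univ : Finset ι).val.map e := by
      rw [← Finset.map_univ_equiv e, Finset.map_val]; rfl
    rw [this, Multiset.map_map]
    exact Multiset.map_congr rfl fun i _ => he i

theorem items_eq_iff {c c' : Comp n} {σ : ∀ k : Fin c.K, GL (Fin (c.d k)) F → ℂ}
    {τ : ∀ k : Fin c'.K, GL (Fin (c'.d k)) F → ℂ}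
    (h : ∀ k, Cfsg.IsIrrCharacter (GL (Fin (c.d k)) F) (σ k) ∧ Cuspidal (σ k))
    (h' : ∀ k, Cfsg.IsIrrCharacter (GL (Fin (c'.d k)) F) (τ k) ∧ Cuspidal (τ k)) :
    items c σ h = items c' τ h' ↔
      Nonempty {π : Fin c.K ≃ Fin c'.K // ∀ k, item c σ k = item c' τ (π k)} := by
  rw [items, items, map_univ_eq_iff]
  exact ⟨fun ⟨e, he⟩ => ⟨⟨e, fun k => congrArg Subtype.val (he k)⟩⟩,
    fun ⟨⟨e, he⟩⟩ => ⟨e, fun k => Subtype.ext (he k)⟩⟩

theorem hc_isCharacter' {c : Comp n} {σ : ∀ k : Fin c.K, GL (Fin (c.d k)) F → ℂ}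
    (h : ∀ k, Cfsg.IsIrrCharacter (GL (Fin (c.d k)) F) (σ k) ∧ Cuspidal (σ k)) :
    Cfsg.IsCharacter (GL (Fin n) F) (hc c σ) :=
  hc_isCharacter c σ fun k => CfsgLib.Char.irr_isCharacter (h k).1

theorem mult_sum {θ : GL (Fin n) F → ℂ} (hθ : Cfsg.IsClassFunction (GL (Fin n) F) θ)
    [Fintype (Cfsg.IrrCharacter (GL (Fin n) F))] :
    mult θ = ∑ χ : Cfsg.IrrCharacter (GL (Fin n) F),
      Cfsg.classInner θ (χ : GL (Fin n) F → ℂ) * mult (χ : GL (Fin n) F → ℂ) := by
  have e : (fun u : upperUni F n => θ u) = ∑ χ : Cfsg.IrrCharacter (GL (Fin n) F),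
      Cfsg.classInner θ (χ : GL (Fin n) F → ℂ) • fun u : upperUni F n => (χ : GL (Fin n) F → ℂ) u := by
    funext u
    rw [congrFun (CfsgLib.Char.classFunction_eq_sum hθ) u, Finset.sum_apply, Finset.sum_apply]
    rfl
  rw [mult, e, CfsgLib.Char.classInner_sum_left]
  exact Finset.sum_congr rfl fun χ _ => CfsgLib.Char.classInner_smul_left _ _ _

/-- A generic constituent is determined. -/
theorem gen_unique {c : Comp n} {σ : ∀ k : Fin c.K, GL (Fin (c.d k)) F → ℂ}
    (h : ∀ k, Cfsg.IsIrrCharacter (GL (Fin (c.d k)) F) (σ k) ∧ Cuspidal (σ k))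
    (χ χ' : Gen F n) (hχ : Cfsg.classInner (hc c σ) (χ.1 : GL (Fin n) F → ℂ) ≠ 0)
    (hχ' : Cfsg.classInner (hc c σ) (χ'.1 : GL (Fin n) F → ℂ) ≠ 0) : χ = χ' := by
  classical
  haveI : Fintype (Cfsg.IrrCharacter (GL (Fin n) F)) := Fintype.ofFinite _
  have hcc := hc_isCharacter' h
  have hnat : ∀ ξ : Cfsg.IrrCharacter (GL (Fin n) F), ∃ a : ℕ,
      Cfsg.classInner (hc c σ) (ξ : GL (Fin n) F → ℂ) * mult (ξ : GL (Fin n) F → ℂ) = a := by
    intro ξ
    obtain ⟨a, ha⟩ := CfsgLib.Char.classInner_isCharacter_nat hcc (CfsgLib.Char.irr_isCharacter ξ.2)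
    rcases mult_psi ξ.2 with e | e
    · exact ⟨0, by rw [mult, e, mul_zero, Nat.cast_zero]⟩
    · exact ⟨a, by rw [mult, e, mul_one, ha]⟩
  choose a ha using hnat
  have hsum : ∑ ξ, a ξ = 1 := by
    have h1 := mult_hc (fun k => (h k).1) fun k => (h k).2
    rw [mult_sum (CfsgLib.Char.isCharacter_isClassFunction hcc),
      Finset.sum_congr rfl fun ξ _ => ha ξ] at h1
    exact_mod_cast h1
  have hpos : ∀ ξ : Gen F n, Cfsg.classInner (hc c σ) (ξ.1 : GL (Fin n) F → ℂ) ≠ 0 → 1 ≤ a ξ.1 := by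
    intro ξ hξ
    refine Nat.one_le_iff_ne_zero.mpr fun e => hξ ?_
    have := ha ξ.1
    rwa [ξ.2, mul_one, e, Nat.cast_zero] at this
  by_contra hne
  have hne' : χ.1 ≠ χ'.1 := fun e => hne (Subtype.ext e)
  have := Finset.sum_le_sum_of_subset (f := a) (Finset.subset_univ {χ.1, χ'.1})
  rw [Finset.sum_pair hne', hsum] at this
  have := hpos χ hχ
  have := hpos χ' hχ'
  omega

/-- Constituents in common force equal items. -/
theorem items_eq_of_common {c c' : Comp n} {σ : ∀ k : Fin c.K, GL (Fin (c.d k)) F → ℂ}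
    {τ : ∀ k : Fin c'.K, GL (Fin (c'.d k)) F → ℂ}
    (h : ∀ k, Cfsg.IsIrrCharacter (GL (Fin (c.d k)) F) (σ k) ∧ Cuspidal (σ k))
    (h' : ∀ k, Cfsg.IsIrrCharacter (GL (Fin (c'.d k)) F) (τ k) ∧ Cuspidal (τ k))
    (χ : Cfsg.IrrCharacter (GL (Fin n) F))
    (hχ : Cfsg.classInner (hc c σ) (χ : GL (Fin n) F → ℂ) ≠ 0)
    (hχ' : Cfsg.classInner (hc c' τ) (χ : GL (Fin n) F → ℂ) ≠ 0) :
    items c σ h = items c' τ h' := by
  classical
  haveI : Fintype (Cfsg.IrrCharacter (GL (Fin n) F)) := Fintype.ofFinite _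
  rw [items_eq_iff]
  by_contra hemp
  rw [not_nonempty_iff] at hemp
  have h0 := inner_hc (c := c) (c' := c') (fun k => (h k).1) (fun k => (h k).2) (fun k => (h' k).1)
    fun k => (h' k).2
  rw [Nat.card_of_isEmpty, Nat.cast_zero,
    CfsgLib.Char.classInner_eq_sum_mul (CfsgLib.Char.isCharacter_isClassFunction (hc_isCharacter' h))] at h0
  choose a ha using fun ξ : Cfsg.IrrCharacter (GL (Fin n) F) =>
    CfsgLib.Char.classInner_isCharacter_nat (hc_isCharacter' h) (CfsgLib.Char.irr_isCharacter ξ.2)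
  choose b hb using fun ξ : Cfsg.IrrCharacter (GL (Fin n) F) =>
    CfsgLib.Char.classInner_isCharacter_nat (hc_isCharacter' h') (CfsgLib.Char.irr_isCharacter ξ.2)
  simp only [ha, hb, map_natCast, ← Nat.cast_mul, ← Nat.cast_sum, Nat.cast_eq_zero,
    Finset.sum_eq_zero_iff, Finset.mem_univ, true_implies] at h0
  rw [ha, Nat.cast_ne_zero] at hχ
  rw [hb, Nat.cast_ne_zero] at hχ'
  exact (mul_ne_zero hχ hχ') (h0 χ)

/-- Equal items give equal inductions. -/
theorem hc_eq_of_items {c c' : Comp n} {σ : ∀ k : Fin c.K, GL (Fin (c.d k)) F → ℂ}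
    {τ : ∀ k : Fin c'.K, GL (Fin (c'.d k)) F → ℂ}
    (h : ∀ k, Cfsg.IsIrrCharacter (GL (Fin (c.d k)) F) (σ k) ∧ Cuspidal (σ k))
    (h' : ∀ k, Cfsg.IsIrrCharacter (GL (Fin (c'.d k)) F) (τ k) ∧ Cuspidal (τ k))
    (e : items c σ h = items c' τ h') : hc c σ = hc c' τ := by
  obtain ⟨⟨π, hπ⟩⟩ := (items_eq_iff h h').mp e
  have hσ := fun k => (h k).1
  have hσc := fun k => (h k).2
  have hτ := fun k => (h' k).1
  have hτc := fun k => (h' k).2
  have e1 : Nat.card {ρ : Fin c.K ≃ Fin c.K // ∀ k, item c σ k = item c σ (ρ k)} =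
      Nat.card {ρ : Fin c.K ≃ Fin c'.K // ∀ k, item c σ k = item c' τ (ρ k)} :=
    Nat.card_congr
      { toFun := fun ρ => ⟨ρ.1.trans π, fun k => (ρ.2 k).trans (hπ _)⟩
        invFun := fun ρ => ⟨ρ.1.trans π.symm, fun k => by
          rw [Equiv.trans_apply, hπ (π.symm (ρ.1 k)), Equiv.apply_symm_apply]; exact ρ.2 k⟩
        left_inv := fun ρ => Subtype.ext (Equiv.ext fun k => by simp)
        right_inv := fun ρ => Subtype.ext (Equiv.ext fun k => by simp) }
  have e2 : Nat.card {ρ : Fin c.K ≃ Fin c'.K // ∀ k, item c σ k = item c' τ (ρ k)} =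
      Nat.card {ρ : Fin c'.K ≃ Fin c'.K // ∀ k, item c' τ k = item c' τ (ρ k)} :=
    Nat.card_congr
      { toFun := fun ρ => ⟨π.symm.trans ρ.1, fun k => by
          rw [Equiv.trans_apply, ← ρ.2, hπ (π.symm k), Equiv.apply_symm_apply]⟩
        invFun := fun ρ => ⟨π.trans ρ.1, fun k => (hπ k).trans (ρ.2 _)⟩
        left_inv := fun ρ => Subtype.ext (Equiv.ext fun k => by simp)
        right_inv := fun ρ => Subtype.ext (Equiv.ext fun k => by simp) }
  have e3 : Nat.card {ρ : Fin c'.K ≃ Fin c.K // ∀ k, item c' τ k = item c σ (ρ k)} =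
      Nat.card {ρ : Fin c.K ≃ Fin c'.K // ∀ k, item c σ k = item c' τ (ρ k)} :=
    Nat.card_congr
      { toFun := fun ρ => ⟨ρ.1.symm, fun k => by
          have := ρ.2 (ρ.1.symm k); rw [Equiv.apply_symm_apply] at this; exact this.symm⟩
        invFun := fun ρ => ⟨ρ.1.symm, fun k => by
          have := ρ.2 (ρ.1.symm k); rw [Equiv.apply_symm_apply] at this; exact this.symm⟩
        left_inv := fun ρ => Subtype.ext (Equiv.ext fun k => by simp)
        right_inv := fun ρ => Subtype.ext (Equiv.ext fun k => by simp) }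
  refine sub_eq_zero.mp (CfsgLib.Char.classInner_self_eq_zero ?_)
  rw [CfsgLib.Char.classInner_sub_left, CfsgLib.Char.classInner_sub_right,
    CfsgLib.Char.classInner_sub_right, inner_hc hσ hσc hσ hσc, inner_hc hσ hσc hτ hτc,
    inner_hc hτ hτc hσ hσc, inner_hc hτ hτc hτ hτc, e3, e1, ← e2]
  ring

/-- Every multiset of cuspidal characters of total size `n` is realised. -/
theorem exists_data (s : Msets (cwt (F := F)) n) :
    ∃ (c : Comp n) (σ : ∀ k : Fin c.K, GL (Fin (c.d k)) F → ℂ)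
      (h : ∀ k, Cfsg.IsIrrCharacter (GL (Fin (c.d k)) F) (σ k) ∧ Cuspidal (σ k)), items c σ h = s.1 := by
  obtain ⟨s, hs⟩ := s
  induction s using Quot.inductionOn with
  | _ L =>
    let d : Fin L.length → ℕ := fun k => (L.get k).1.1
    have hsum : ∑ k, d k = n := by
      have hs' : ((L : Multiset (CItem F)).map cwt).sum = n := hs
      rw [← hs', Multiset.map_coe, Multiset.sum_coe, ← List.sum_ofFn]
      congr 1
      exact List.ext_getElem (by simp) fun i _ _ => by simp [d]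
    let c : Comp n :=
      { K := L.length
        d := d
        pos := fun k => (L.get k).2.1
        e := finSigmaFinEquiv.trans (finCongr hsum)
        mono := fun x y hxy => by
          simp only [Equiv.trans_apply, Fin.lt_def, finCongr_apply, Fin.val_cast, finSigmaFinEquiv_apply]
          have h1 : ∑ i : Fin x.1.1, d (Fin.castLE x.1.2.le i) + d x.1 ≤
              ∑ i : Fin y.1.1, d (Fin.castLE y.1.2.le i) := by
            have e : ∀ k : Fin L.length, ∑ i : Fin k.1, d (Fin.castLE k.2.le i) =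
                ∑ i ∈ Finset.Iio k, d i := fun k => by
              refine Finset.sum_bij (fun i _ => Fin.castLE k.2.le i) (fun i _ => ?_) (fun a _ b _ h => ?_)
                (fun b hb => ?_) fun i _ => rfl
              · exact Finset.mem_Iio.mpr (Fin.lt_def.mpr (by simp))
              · exact Fin.ext (by simpa using congrArg Fin.val h)
              · exact ⟨⟨b.1, Fin.lt_def.mp (Finset.mem_Iio.mp hb)⟩, Finset.mem_univ _, Fin.ext rfl⟩
            rw [e, e, add_comm, ← Finset.sum_insert (by simp : x.1 ∉ Finset.Iio x.1)]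
            refine Finset.sum_le_sum_of_subset fun i hi => ?_
            rcases Finset.mem_insert.mp hi with rfl | hi
            · exact Finset.mem_Iio.mpr hxy
            · exact Finset.mem_Iio.mpr ((Finset.mem_Iio.mp hi).trans hxy)
          have := x.2.2
          omega
        within := fun k i j hij => by
          simp only [Equiv.trans_apply, Fin.lt_def, finCongr_apply, Fin.val_cast, finSigmaFinEquiv_apply]
          rw [Fin.lt_def] at hij
          omega }
    refine ⟨c, fun k => (L.get k).1.2, fun k => (L.get k).2.2, ?_⟩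
    show (Finset.univ : Finset (Fin L.length)).val.map (fun k => L.get k) = _
    rw [Fin.univ_val_map, List.ofFn_get]
    rfl

theorem exists_support_items (hn : 1 ≤ n) (χ : Gen F n) :
    ∃ s : Multiset (CItem F), ∃ (c : Comp n) (σ : ∀ k : Fin c.K, GL (Fin (c.d k)) F → ℂ)
      (h : ∀ k, Cfsg.IsIrrCharacter (GL (Fin (c.d k)) F) (σ k) ∧ Cuspidal (σ k)),
      items c σ h = s ∧ Cfsg.classInner (hc c σ) (χ.1 : GL (Fin n) F → ℂ) ≠ 0 := by
  obtain ⟨c, σ, h, hne⟩ := exists_support hn χ.1.2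
  exact ⟨_, c, σ, h, rfl, hne⟩

theorem items_weight (c : Comp n) (σ : ∀ k : Fin c.K, GL (Fin (c.d k)) F → ℂ)
    (h : ∀ k, Cfsg.IsIrrCharacter (GL (Fin (c.d k)) F) (σ k) ∧ Cuspidal (σ k)) :
    ((items c σ h).map cwt).sum = n := by
  rw [items, Multiset.map_map]
  show ∑ k, c.d k = n
  have := Fintype.card_congr c.e
  simpa [Fintype.card_sigma] using this

/-- Generic characters are counted by multisets of cuspidal ones. -/
theorem card_gen_eq (hn : 1 ≤ n) : Nat.card (Gen F n) = Nat.card (Msets (cwt (F := F)) n) := by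
  classical
  choose s c σ h hs hne using exists_support_items (F := F) (n := n) hn
  have hw : ∀ χ : Gen F n, ((s χ).map cwt).sum = n := fun χ => by rw [← hs χ]; exact items_weight _ _ _
  refine Nat.card_eq_of_bijective (fun χ => (⟨s χ, hw χ⟩ : Msets (cwt (F := F)) n))
    ⟨fun χ χ' e => ?_, fun t => ?_⟩
  · have e' : items (c χ) (σ χ) (h χ) = items (c χ') (σ χ') (h χ') := by
      rw [hs, hs]; exact congrArg Subtype.val e
    refine gen_unique (h χ) χ χ' (hne χ) ?_
    rw [hc_eq_of_items (h χ) (h χ') e']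
    exact hne χ'
  · obtain ⟨c₀, σ₀, h₀, e₀⟩ := exists_data t
    haveI : Fintype (Cfsg.IrrCharacter (GL (Fin n) F)) := Fintype.ofFinite _
    have h1 := mult_hc (fun k => (h₀ k).1) fun k => (h₀ k).2
    rw [mult_sum (CfsgLib.Char.isCharacter_isClassFunction (hc_isCharacter' h₀))] at h1
    obtain ⟨ξ, -, hξ⟩ := Finset.exists_ne_zero_of_sum_ne_zero (h1.symm ▸ one_ne_zero :
      (∑ χ : Cfsg.IrrCharacter (GL (Fin n) F), Cfsg.classInner (hc c₀ σ₀) (χ : GL (Fin n) F → ℂ) *
        mult (χ : GL (Fin n) F → ℂ)) ≠ 0)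
    have hgen : mult (ξ : GL (Fin n) F → ℂ) = 1 :=
      (mult_psi ξ.2).resolve_left fun e => hξ (by rw [mult, e, mul_zero])
    refine ⟨⟨ξ, hgen⟩, Subtype.ext ?_⟩
    show s ⟨ξ, hgen⟩ = t.1
    rw [← hs ⟨ξ, hgen⟩, ← e₀]
    exact items_eq_of_common _ _ ξ (hne ⟨ξ, hgen⟩) (left_ne_zero_of_mul hξ)

end CfsgLib.KnownB.Cusp
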