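import Cfsg.Agent.Lib.KnownB.CuspMackey

/-!
Harish-Chandra induction of cuspidal characters has exactly one generic constituent.
-/

set_option autoImplicit false

namespace CfsgLib.KnownB.Cusp

open scoped ComplexConjugate MatrixGroups
open Finset

universe u

variable {F : Type u} [Field F] [Fintype F] [DecidableEq F] {n : ℕ}

noncomputable instance fintypeUpperUni (n : ℕ) : Fintype (upperUni F n) := Fintype.ofFinite _

/-- Multiplicity in the Gelfand–Graev character. -/
noncomputable def mult (χ : GL (Fin n) F → ℂ) : ℂ :=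
  Cfsg.classInner (fun u : upperUni F n => χ u) (fun u => (psi F n u : ℂ))

/-- Increasing on every block. -/
def IncBlocks (c : Comp n) (s : Equiv.Perm (Fin n)) : Prop :=
  ∀ i j, c.blk i = c.blk j → i < j → s i < s j

/-- Later blocks go first. -/
def RevBlocks (c : Comp n) (s : Equiv.Perm (Fin n)) : Prop :=
  ∀ i j, c.blk i < c.blk j → s j < s i

theorem addC_sum {ι : Type*} (S : Finset ι) (f : ι → F) :
    addC F (∑ i ∈ S, f i) = ∏ i ∈ S, addC F (f i) := by
  classical
  induction S using Finset.induction with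
  | empty => simp
  | insert a S ha ih => rw [Finset.sum_insert ha, Finset.prod_insert ha, AddChar.map_add_eq_mul, ih]

variable {c : Comp n}

theorem exists_inc (s : Equiv.Perm (Fin n)) :
    ∃ ρ : Equiv.Perm (Fin n), (∀ i, c.blk (ρ i) = c.blk i) ∧ IncBlocks c (s * ρ) := by
  let ρ : Equiv.Perm (Fin n) := c.e.permCongr
    (Equiv.sigmaCongrRight fun k => Tuple.sort fun a : Fin (c.d k) => s (c.e ⟨k, a⟩))
  have hρ : ∀ k a, ρ (c.e ⟨k, a⟩) = c.e ⟨k, Tuple.sort (fun a : Fin (c.d k) => s (c.e ⟨k, a⟩)) a⟩ :=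
    fun k a => by simp [ρ, Equiv.permCongr_apply]
  refine ⟨ρ, fun i => ?_, fun i j hb hij => ?_⟩
  · obtain ⟨⟨k, a⟩, rfl⟩ := c.e.surjective i
    rw [hρ, c.blk_e, c.blk_e]
  · obtain ⟨⟨k, a⟩, rfl⟩ := c.e.surjective i
    obtain ⟨⟨l, b⟩, rfl⟩ := c.e.surjective j
    rw [c.blk_e, c.blk_e] at hb
    subst hb
    have hab : a < b := c.e_lt_iff.mp hij
    show s (ρ _) < s (ρ _)
    rw [hρ, hρ]
    refine ((Tuple.monotone_sort fun a : Fin (c.d k) => s (c.e ⟨k, a⟩)) hab.le).lt_of_ne fun e => ?_
    exact hab.ne (by simpa using e)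

/-- Without a rising link across blocks the blocks are reversed. -/
theorem revBlocks_of_link {s : Equiv.Perm (Fin n)}
    (h : ∀ j k, c.blk j < c.blk k → (s j : ℕ) + 1 ≠ s k) : RevBlocks c s := by
  have key : ∀ t : ℕ, ∀ i j : Fin n, (j : ℕ) = i + t → c.blk (s⁻¹ j) ≤ c.blk (s⁻¹ i) := by
    intro t
    induction t with
    | zero =>
      intro i j e
      rw [show j = i from Fin.ext (by omega)]
    | succ t ih =>
      intro i j e
      have hl : (i : ℕ) + t < n := by have := j.2; omega
      refine le_trans ?_ (ih i ⟨(i : ℕ) + t, hl⟩ rfl)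
      by_contra hlt
      push Not at hlt
      refine h _ _ hlt ?_
      simp only [Equiv.Perm.coe_inv, Equiv.apply_symm_apply]
      omega
  intro i j hij
  by_contra hle
  push Not at hle
  have := key ((s j : ℕ) - s i) (s i) (s j) (by rw [Fin.le_def] at hle; omega)
  simp only [Equiv.Perm.coe_inv, Equiv.symm_apply_apply] at this
  exact absurd hij (not_lt.mpr this)

theorem inc_rev_unique {s s' : Equiv.Perm (Fin n)} (hi : IncBlocks c s) (hr : RevBlocks c s)
    (hi' : IncBlocks c s') (hr' : RevBlocks c s') : s = s' := by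
  have key : ∀ {s : Equiv.Perm (Fin n)}, IncBlocks c s → RevBlocks c s →
      s⁻¹ = Tuple.sort (fun i => OrderDual.toDual (c.blk i)) := by
    intro s hi hr
    refine Tuple.eq_sort_iff.mpr ⟨fun a b hab => ?_, fun a b hab e => ?_⟩
    · show c.blk (s⁻¹ b) ≤ c.blk (s⁻¹ a)
      by_contra hlt
      push Not at hlt
      have := hr _ _ hlt
      simp only [Equiv.Perm.coe_inv, Equiv.apply_symm_apply] at this
      exact absurd hab (not_le.mpr this)
    · by_contra hlt
      push Not at hlt
      rcases hlt.eq_or_lt with e' | e'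
      · exact hab.ne (s⁻¹.injective e').symm
      · have := hi _ _ (OrderDual.toDual.injective e).symm e'
        simp only [Equiv.Perm.coe_inv, Equiv.apply_symm_apply] at this
        exact absurd hab (not_lt.mpr this.le)
  exact inv_injective ((key hi hr).trans (key hi' hr').symm)

theorem exists_inc_rev (c : Comp n) : ∃ s : Equiv.Perm (Fin n), IncBlocks c s ∧ RevBlocks c s := by
  obtain ⟨hm, ht⟩ := Tuple.eq_sort_iff.mp
    (rfl : Tuple.sort (fun i => OrderDual.toDual (c.blk i)) = Tuple.sort fun i => OrderDual.toDual (c.blk i))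
  refine ⟨(Tuple.sort fun i => OrderDual.toDual (c.blk i))⁻¹, fun i j hb hij => ?_, fun i j hb => ?_⟩
  · by_contra hle
    push Not at hle
    rcases hle.eq_or_lt with e | e
    · exact hij.ne (Equiv.injective _ e).symm
    · have := ht _ _ e (by simp [hb])
      simp only [Equiv.Perm.coe_inv, Equiv.apply_symm_apply] at this
      exact absurd hij (not_lt.mpr this.le)
  · by_contra hle
    push Not at hle
    have := hm hle
    simp only [Function.comp_apply, Equiv.Perm.coe_inv, Equiv.apply_symm_apply] at this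
    exact absurd hb (not_lt.mpr (OrderDual.toDual_le_toDual.mp this))

variable {σ : ∀ k : Fin c.K, GL (Fin (c.d k)) F → ℂ}

/-- Vanishing at a rising link across blocks. -/
theorem term_eq_zero {s : Equiv.Perm (Fin n)} {j k : Fin n} (hb : c.blk j < c.blk k)
    (hs : (s j : ℕ) + 1 = s k) :
    doubleTerm (parab F c) (upperUni F n) (infl c σ) (fun u => (psi F n u : ℂ)) (mono s 1) = 0 := by
  have hne : j ≠ k := fun e => hb.ne (by rw [e])
  have hmem : transv j k hne (1 : F) ∈ parab F c := mem_parab.mpr fun a b hab => by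
    rw [mat_transv, Matrix.one_apply_ne (fun e => hab.ne (by rw [e])), zero_add, if_neg]
    rintro ⟨rfl, rfl⟩
    exact lt_irrefl _ (hab.trans hb)
  have hrad : (⟨_, hmem⟩ : parab F c) ∈ rad F c := (mem_rad c).mpr fun a b hab => by
    show mat (transv j k hne (1 : F)) a b = _
    rw [mat_transv, if_neg, add_zero]
    rintro ⟨rfl, rfl⟩
    exact absurd hb (not_lt.mpr hab)
  have hlt : s j < s k := Fin.lt_def.mpr (by omega)
  refine doubleTerm_eq_zero_of_scalar (parab F c) (upperUni F n) (mono s 1) ⟨_, hmem⟩ 1 (addC F 1)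
    ?_ (fun p => ?_) fun x => ?_
  · rw [one_mul]
    intro h
    exact addC_one_ne (by simpa using congrArg conj h)
  · show outer c σ (proj c (p * ⟨_, hmem⟩)) = 1 * outer c σ (proj c p)
    rw [map_mul, MonoidHom.mem_ker.mp hrad, mul_one, one_mul]
  · rw [show mono s 1 * ((⟨_, hmem⟩ : parab F c) : GL (Fin n) F) * (mono s 1)⁻¹ =
        ((⟨_, transv_mem hlt (1 : F)⟩ : upperUni F n) : GL (Fin n) F) by
      show mono s 1 * transv j k hne (1 : F) * (mono s 1)⁻¹ = transv (s j) (s k) (s.injective.ne hne) (1 : F)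
      rw [mono_transv, mul_inv_cancel_right]
      congr 1
      simp]
    rw [extendByZero_mul_hom, psi_apply, link_transv, if_pos hs]

/-- The surviving term. -/
theorem term_special {s : Equiv.Perm (Fin n)} (hi : IncBlocks c s) (hr : RevBlocks c s)
    (hσ : ∀ k, Cfsg.IsIrrCharacter (GL (Fin (c.d k)) F) (σ k)) (hσc : ∀ k, Cuspidal (σ k))
    [Fintype {p : parab F c // mono s 1 * (p : GL (Fin n) F) * (mono s 1)⁻¹ ∈ upperUni F n}] :
    doubleTerm (parab F c) (upperUni F n) (infl c σ) (fun u => (psi F n u : ℂ)) (mono s 1) =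
      (Fintype.card {p : parab F c // mono s 1 * (p : GL (Fin n) F) * (mono s 1)⁻¹ ∈ upperUni F n} : ℂ) := by
  classical
  have hmem : ∀ p : GL (Fin n) F, mono s 1 * p * (mono s 1)⁻¹ ∈ upperUni F n ↔
      ∀ i j, s j ≤ s i → mat p i j = (1 : Matrix (Fin n) (Fin n) F) i j := by
    intro p
    have e1 : ∀ i j, (1 : Matrix (Fin n) (Fin n) F) (s i) (s j) = (1 : Matrix (Fin n) (Fin n) F) i j :=
      fun i j => by simp [Matrix.one_apply, s.injective.eq_iff]
    refine ⟨fun h i j hji => by rw [← mono_conj_apply s p, mem_upperUni.mp h _ _ hji, e1],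
      fun h => mem_upperUni.mpr fun i j hji => ?_⟩
    obtain ⟨i, rfl⟩ := s.surjective i
    obtain ⟨j, rfl⟩ := s.surjective j
    rw [mono_conj_apply, h i j hji, e1]
  have hle : ∀ (k : Fin c.K) (a b : Fin (c.d k)), s (c.e ⟨k, b⟩) ≤ s (c.e ⟨k, a⟩) ↔ b ≤ a := by
    intro k a b
    refine ⟨fun h => ?_, fun h => ?_⟩
    · by_contra hlt
      push Not at hlt
      exact absurd h (not_le.mpr (hi _ _ (by simp [c.blk_e]) (c.e_lt_iff.mpr hlt)))
    · rcases h.eq_or_lt with e | e
      · rw [e]
      · exact (hi _ _ (by simp [c.blk_e]) (c.e_lt_iff.mpr e)).le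
  have hfwd : ∀ x : ∀ k : Fin c.K, upperUni F (c.d k),
      mono s 1 * ((embP c fun k => (x k : GL (Fin (c.d k)) F) : parab F c) : GL (Fin n) F) *
        (mono s 1)⁻¹ ∈ upperUni F n := by
    intro x
    refine (hmem _).mpr fun i j hji => ?_
    by_cases hb : c.blk i = c.blk j
    · obtain ⟨⟨k, a⟩, rfl⟩ := c.e.surjective i
      obtain ⟨⟨l, b⟩, rfl⟩ := c.e.surjective j
      rw [c.blk_e, c.blk_e] at hb
      subst hb
      rw [embP_entry, mem_upperUni.mp (x k).2 a b ((hle k a b).mp hji)]
      simp [Matrix.one_apply]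
    · show mat (emb c _) i j = _
      rw [emb_ne c _ hb, Matrix.one_apply_ne]
      exact fun e => hb (by rw [e])
  have hback : ∀ p : {p : parab F c // mono s 1 * (p : GL (Fin n) F) * (mono s 1)⁻¹ ∈ upperUni F n},
      ∀ k, proj c p.1 k ∈ upperUni F (c.d k) := fun p k => mem_upperUni.mpr fun a b hba => by
    rw [mat_proj, (hmem _).mp p.2 _ _ ((hle k a b).mpr hba)]
    simp [Matrix.one_apply]
  let Φ : (∀ k : Fin c.K, upperUni F (c.d k)) ≃
      {p : parab F c // mono s 1 * (p : GL (Fin n) F) * (mono s 1)⁻¹ ∈ upperUni F n} :=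
    { toFun := fun x => ⟨embP c fun k => (x k : GL (Fin (c.d k)) F), hfwd x⟩
      invFun := fun p k => ⟨proj c p.1 k, hback p k⟩
      left_inv := fun x => funext fun k => Subtype.ext (congrFun (proj_embP c _) k)
      right_inv := fun p => Subtype.ext (Subtype.ext (mat_inj fun i j => by
        by_cases hb : c.blk i = c.blk j
        · obtain ⟨⟨k, a⟩, rfl⟩ := c.e.surjective i
          obtain ⟨⟨l, b⟩, rfl⟩ := c.e.surjective j
          rw [c.blk_e, c.blk_e] at hb
          subst hb
          rw [embP_entry]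
          exact mat_proj c p.1 k a b
        · show mat (emb c _) i j = _
          rw [emb_ne c _ hb]
          rcases lt_or_gt_of_ne hb with h | h
          · rw [(hmem _).mp p.2 i j (hr i j h).le, Matrix.one_apply_ne]
            exact fun e => hb (by rw [e])
          · rw [mem_parab.mp p.1.2 i j h])) }
  have hlink : ∀ x : ∀ k : Fin c.K, upperUni F (c.d k),
      link (mono s 1 * ((embP c fun k => (x k : GL (Fin (c.d k)) F) : parab F c) : GL (Fin n) F) *
        (mono s 1)⁻¹) = ∑ k, link (x k : GL (Fin (c.d k)) F) := by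
    intro x
    unfold link
    rw [← Equiv.sum_comp s, ← c.e.sum_comp, Fintype.sum_sigma]
    refine Finset.sum_congr rfl fun k _ => Finset.sum_congr rfl fun a _ => ?_
    rw [← Equiv.sum_comp s, ← c.e.sum_comp, Fintype.sum_sigma, Finset.sum_eq_single k]
    · refine Finset.sum_congr rfl fun b _ => ?_
      rw [mono_conj_apply, embP_entry]
      refine if_congr ⟨fun h => ?_, fun h => ?_⟩ rfl rfl
      · have hab : a < b := by
          by_contra hge
          push Not at hge
          have := Fin.le_def.mp ((hle k a b).mpr hge)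
          omega
        by_contra hne
        rw [Fin.lt_def] at hab
        have hm : (a : ℕ) + 1 < c.d k := by have := b.2; omega
        have h1 := hi _ _ (by simp [c.blk_e]) (c.e_lt_iff.mpr (show a < (⟨(a : ℕ) + 1, hm⟩ : Fin (c.d k)) from
          Fin.lt_def.mpr (by simp)))
        have h2 := hi _ _ (by simp [c.blk_e]) (c.e_lt_iff.mpr (show (⟨(a : ℕ) + 1, hm⟩ : Fin (c.d k)) < b from
          Fin.lt_def.mpr (by simp; omega)))
        rw [Fin.lt_def] at h1 h2
        omega
      · have hab : a < b := Fin.lt_def.mpr (by omega)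
        have hlt := Fin.lt_def.mp (hi _ _ (by simp [c.blk_e]) (c.e_lt_iff.mpr hab))
        by_contra hne
        -- the position just after `a` is in the same block
        have hm : (s (c.e ⟨k, a⟩) : ℕ) + 1 < n := by have := (s (c.e ⟨k, b⟩)).2; omega
        obtain ⟨y, hy⟩ := s.surjective ⟨(s (c.e ⟨k, a⟩) : ℕ) + 1, hm⟩
        have hy' : (s y : ℕ) = (s (c.e ⟨k, a⟩) : ℕ) + 1 := by rw [hy]
        obtain ⟨⟨l, m⟩, rfl⟩ := c.e.surjective y
        obtain rfl : l = k := by
          by_contra hl
          rcases lt_or_gt_of_ne hl with h' | h'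
          · have := Fin.lt_def.mp (hr (c.e ⟨l, m⟩) (c.e ⟨k, b⟩) (by simpa [c.blk_e] using h'))
            omega
          · have := Fin.lt_def.mp (hr (c.e ⟨k, a⟩) (c.e ⟨l, m⟩) (by simpa [c.blk_e] using h'))
            omega
        have h1 : a < m := by
          by_contra hge
          push Not at hge
          have := Fin.le_def.mp ((hle l a m).mpr hge)
          omega
        have h2 : m < b := by
          by_contra hge
          push Not at hge
          have := Fin.le_def.mp ((hle l m b).mpr hge)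
          omega
        rw [Fin.lt_def] at h1 h2
        omega
    · intro l _ hl
      refine Finset.sum_eq_zero fun b _ => ?_
      rw [mono_conj_apply]
      show (if _ then mat (emb c fun k => (x k : GL (Fin (c.d k)) F)) _ _ else (0 : F)) = 0
      rw [emb_ne c _ (by simpa [c.blk_e] using Ne.symm hl), ite_self]
    · simp
  have hmult : ∀ k, ∑ u : upperUni F (c.d k),
      σ k u * conj (addC F (link (u : GL (Fin (c.d k)) F))) = (Fintype.card (upperUni F (c.d k)) : ℂ) := by
    intro k
    have h := (cuspidal_degree (c.pos k) (hσ k) (hσc k)).2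
    rw [CfsgLib.Char.classInner_def, Nat.card_eq_fintype_card,
      inv_mul_eq_iff_eq_mul₀ (by exact_mod_cast Fintype.card_ne_zero), mul_one] at h
    exact h
  rw [doubleTerm]
  calc ∑ p : parab F c, infl c σ p * conj (Cfsg.extendByZero (upperUni F n) (fun u => (psi F n u : ℂ))
        (mono s 1 * (p : GL (Fin n) F) * (mono s 1)⁻¹))
      = ∑ p : parab F c, if mono s 1 * (p : GL (Fin n) F) * (mono s 1)⁻¹ ∈ upperUni F n then
          infl c σ p * conj (addC F (link (mono s 1 * (p : GL (Fin n) F) * (mono s 1)⁻¹))) else 0 := by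
        refine Finset.sum_congr rfl fun p _ => ?_
        split_ifs with hp
        · rw [CfsgLib.Char.extendByZero_of_mem _ hp, psi_apply]
        · rw [CfsgLib.Char.extendByZero_of_not_mem _ hp, map_zero, mul_zero]
    _ = ∑ x : (∀ k : Fin c.K, upperUni F (c.d k)),
          ∏ k, σ k (x k) * conj (addC F (link (x k : GL (Fin (c.d k)) F))) := by
        rw [← Finset.sum_filter,
          Finset.sum_subtype (p := fun p : parab F c =>
            mono s 1 * (p : GL (Fin n) F) * (mono s 1)⁻¹ ∈ upperUni F n) _ (by simp), ← Equiv.sum_comp Φ]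
        refine Finset.sum_congr rfl fun x _ => ?_
        show infl c σ (embP c fun k => (x k : GL (Fin (c.d k)) F)) * _ = _
        rw [infl, proj_embP, outer, show (Φ x).1 = embP c fun k => (x k : GL (Fin (c.d k)) F) from rfl,
          hlink, addC_sum, map_prod, Finset.prod_mul_distrib]
    _ = ∏ k, (Fintype.card (upperUni F (c.d k)) : ℂ) := by
        rw [← Fintype.prod_sum (f := fun k (u : upperUni F (c.d k)) =>
          σ k u * conj (addC F (link (u : GL (Fin (c.d k)) F))))]
        exact Finset.prod_congr rfl fun k _ => hmult k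
    _ = _ := by
        rw [← Nat.cast_prod, ← Fintype.card_pi, Fintype.card_congr Φ]

/-- Exactly one generic constituent. -/
theorem mult_hc (hσ : ∀ k, Cfsg.IsIrrCharacter (GL (Fin (c.d k)) F) (σ k))
    (hσc : ∀ k, Cuspidal (σ k)) : mult (hc c σ) = 1 := by
  classical
  obtain ⟨s, hi, hr⟩ := exists_inc_rev c
  set U := upperUni F n with hU
  have hψ : Cfsg.IsClassFunction U (fun u => (psi F n u : ℂ)) := fun g h => by simp [mul_comm]
  have hcl := isClassFunction_infl (c := c) hσ
  have h1 : mult (hc c σ) = Cfsg.classInner (hc c σ) (Cfsg.indFun U fun u => (psi F n u : ℂ)) := by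
    rw [← CfsgLib.Char.classInner_conj_symm (Cfsg.indFun U fun u => (psi F n u : ℂ)),
      CfsgLib.Char.frobenius_reciprocity U _ (hc c σ) (CfsgLib.Char.indFun_isClassFunction _ _),
      CfsgLib.Char.classInner_conj_symm]
    rfl
  rw [h1, hc, inner_indFun]
  let D := (Finset.univ : Finset (U × parab F c)).image fun x => (x.1 : GL (Fin n) F) * mono s 1 * (x.2 : GL (Fin n) F)
  have hout : ∀ z, z ∉ D →
      doubleTerm (parab F c) U (infl c σ) (fun u => (psi F n u : ℂ)) z = 0 := by
    intro z hz
    obtain ⟨u, hu, t, a, v, hv, rfl⟩ := exists_form z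
    obtain ⟨ρ, hρ, hρi⟩ := exists_inc (c := c) t
    have hρ' : ∀ i, c.blk (ρ⁻¹ i) = c.blk i := fun i => by rw [← hρ (ρ⁻¹ i)]; simp
    have hp : mono ρ⁻¹ 1 * mono 1 a * v ∈ parab F c :=
      mul_mem (mul_mem (mono_mem_parab c hρ' 1) (mono_one_mem a)) (upperUni_le_parab c hv)
    have e : u * mono t a * v = u * mono (t * ρ) 1 * (mono ρ⁻¹ 1 * mono 1 a * v) := by
      rw [show mono t a = mono (t * ρ) 1 * (mono ρ⁻¹ 1 * mono 1 a) by
        rw [mono_mul_mono, mono_mul_mono]; exact mat_inj fun i j => by simp [mat_mono]]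
      group
    have hval := doubleTerm_congr (parab F c) U hcl hψ ⟨u, hu⟩ (mono (t * ρ) 1) ⟨_, hp⟩
    rw [e] at hz ⊢
    rw [show doubleTerm (parab F c) U (infl c σ) (fun u => (psi F n u : ℂ))
      (u * mono (t * ρ) 1 * (mono ρ⁻¹ 1 * mono 1 a * v)) = _ from hval]
    by_contra hne
    have hrev : RevBlocks c (t * ρ) := revBlocks_of_link fun j k hb hs => hne (term_eq_zero hb hs)
    rw [inc_rev_unique hρi hrev hi hr] at hz
    exact hz (Finset.mem_image.mpr ⟨(⟨u, hu⟩, ⟨_, hp⟩), Finset.mem_univ _, rfl⟩)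
  rw [← Finset.sum_subset (Finset.subset_univ D) fun z _ hz => hout z hz]
  rw [Finset.sum_congr rfl fun z hz => show _ =
    doubleTerm (parab F c) U (infl c σ) (fun u => (psi F n u : ℂ)) (mono s 1) by
    obtain ⟨⟨q, p⟩, -, rfl⟩ := Finset.mem_image.mp hz
    exact doubleTerm_congr _ _ hcl hψ q (mono s 1) p]
  have hcd := card_double (parab F c) U (mono s 1)
  change D.card * Fintype.card {p : parab F c // mono s 1 * (p : GL (Fin n) F) * (mono s 1)⁻¹ ∈ U} = _ at hcd
  have hcd' : (D.card : ℂ) *
      (Fintype.card {p : parab F c // mono s 1 * (p : GL (Fin n) F) * (mono s 1)⁻¹ ∈ upperUni F n} : ℂ) =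
      (Fintype.card U : ℂ) * Fintype.card (parab F c) := by exact_mod_cast hcd
  rw [Finset.sum_const, nsmul_eq_mul, term_special hi hr hσ hσc, Nat.card_eq_fintype_card,
    Nat.card_eq_fintype_card, hcd', mul_comm (Fintype.card U : ℂ), inv_mul_cancel₀]
  simp [Fintype.card_ne_zero]

end CfsgLib.KnownB.Cusp
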