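import Cfsg.Agent.Lib.KnownB.CuspParabolic

/-!
The Mackey formula for Harish-Chandra inductions of cuspidal characters of `GL n`.
-/

set_option autoImplicit false

namespace CfsgLib.KnownB.Cusp

open scoped ComplexConjugate MatrixGroups
open Finset

universe u

variable {F : Type u} [Field F] [Fintype F] [DecidableEq F] {n : ℕ}

/-! ### Transport along equal sizes -/

/-- Transport along an equality of sizes. -/
def castGL {a b : ℕ} (h : a = b) : GL (Fin a) F ≃* GL (Fin b) F := h ▸ MulEquiv.refl _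

theorem castGL_rfl {a : ℕ} (g : GL (Fin a) F) : castGL (rfl : a = a) g = g := rfl

theorem mat_castGL {a b : ℕ} (h : a = b) (g : GL (Fin a) F) (i j : Fin b) :
    mat (castGL h g) i j = mat g (Fin.cast h.symm i) (Fin.cast h.symm j) := by
  subst h; rfl

theorem isIrr_castGL {a b : ℕ} (h : a = b) {χ : GL (Fin b) F → ℂ}
    (hχ : Cfsg.IsIrrCharacter (GL (Fin b) F) χ) :
    Cfsg.IsIrrCharacter (GL (Fin a) F) (χ ∘ castGL h) := by
  subst h; exact hχ

/-- A block together with a function on it. -/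
abbrev Item (F : Type u) [Field F] : Type u := Σ d : ℕ, (GL (Fin d) F → ℂ)

theorem item_eq_iff {a b : ℕ} (f : GL (Fin a) F → ℂ) (g : GL (Fin b) F → ℂ) :
    (⟨a, f⟩ : Item F) = ⟨b, g⟩ ↔ ∃ h : a = b, f = g ∘ castGL h := by
  constructor
  · intro e
    obtain ⟨rfl, e'⟩ := Sigma.mk.inj e
    exact ⟨rfl, eq_of_heq e'⟩
  · rintro ⟨rfl, rfl⟩
    rfl

/-- The blocks with their characters. -/
abbrev item (c : Comp n) (σ : ∀ k : Fin c.K, GL (Fin (c.d k)) F → ℂ) (k : Fin c.K) : Item F :=
  ⟨c.d k, σ k⟩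

variable {c c' : Comp n} {σ : ∀ k : Fin c.K, GL (Fin (c.d k)) F → ℂ}
  {τ : ∀ k : Fin c'.K, GL (Fin (c'.d k)) F → ℂ}

/-! ### Basic properties -/

theorem mono_one_mem (a : Fin n → Fˣ) : mono 1 a ∈ parab F c :=
  mono_mem_parab c (fun _ => rfl) a

theorem isClassFunction_infl (h : ∀ k, Cfsg.IsIrrCharacter (GL (Fin (c.d k)) F) (σ k)) :
    Cfsg.IsClassFunction (parab F c) (infl c σ) :=
  CfsgLib.Char.isCharacter_isClassFunction
    (infl_isCharacter c σ fun k => CfsgLib.Char.irr_isCharacter (h k))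

theorem extendByZero_mul_rad {r : parab F c'} (hr : r ∈ rad F c') (x : GL (Fin n) F) :
    Cfsg.extendByZero (parab F c') (infl c' τ) (x * r) =
      Cfsg.extendByZero (parab F c') (infl c' τ) x := by
  by_cases hx : x ∈ parab F c'
  · rw [CfsgLib.Char.extendByZero_of_mem _ hx, CfsgLib.Char.extendByZero_of_mem _ (mul_mem hx r.2)]
    show outer c' τ (proj c' (⟨x, hx⟩ * r)) = _
    rw [map_mul, MonoidHom.mem_ker.mp hr, mul_one]
    rfl
  · rw [CfsgLib.Char.extendByZero_of_not_mem _ hx, CfsgLib.Char.extendByZero_of_not_mem]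
    intro h
    exact hx (by simpa using mul_mem h (inv_mem r.2))

theorem embP_entry (x : Levi F c) (k : Fin c.K) (i j : Fin (c.d k)) :
    mat ((embP c x : parab F c) : GL (Fin n) F) (c.e ⟨k, i⟩) (c.e ⟨k, j⟩) = mat (x k) i j :=
  emb_same c x k i j

theorem mono_conj_apply (s : Equiv.Perm (Fin n)) (g : GL (Fin n) F) (i j : Fin n) :
    mat (mono s 1 * g * (mono s 1)⁻¹) (s i) (s j) = mat g i j := by
  have h : mat (mono s 1 * g * (mono s 1)⁻¹ * mono s 1) (s i) j = mat g i j := by
    rw [inv_mul_cancel_right, mono_mul_apply]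
    simp
  rw [mul_mono_apply] at h
  simpa using h

/-! ### Where double coset terms survive -/

/-- Blocks go into blocks. -/
theorem blk_const (hσ : ∀ k, Cfsg.IsIrrCharacter (GL (Fin (c.d k)) F) (σ k))
    (hσc : ∀ k, Cuspidal (σ k)) (s : Equiv.Perm (Fin n))
    (hT : doubleTerm (parab F c) (parab F c') (infl c σ) (infl c' τ) (mono s 1) ≠ 0)
    (k : Fin c.K) (a b : Fin (c.d k)) :
    c'.blk (s (c.e ⟨k, a⟩)) = c'.blk (s (c.e ⟨k, b⟩)) := by
  classical
  by_contra hne
  let f : Fin (c.d k) → Fin c'.K := fun a => c'.blk (s (c.e ⟨k, a⟩))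
  let ρ := Tuple.sort f
  have hmono : Monotone (f ∘ ρ) := Tuple.monotone_sort f
  let o : Fin (c.d k) := ⟨0, c.pos k⟩
  obtain ⟨x, hx, hmin⟩ : ∃ x, f (ρ x) ≠ f (ρ o) ∧ ∀ y, f (ρ y) ≠ f (ρ o) → x ≤ y := by
    have hnon : (Finset.univ.filter fun x => f (ρ x) ≠ f (ρ o)).Nonempty := by
      by_contra h
      rw [Finset.not_nonempty_iff_eq_empty, Finset.filter_eq_empty_iff] at h
      have h' : ∀ x, f (ρ x) = f (ρ o) := fun x => not_not.mp (h (Finset.mem_univ x))
      obtain ⟨a', rfl⟩ := ρ.surjective a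
      obtain ⟨b', rfl⟩ := ρ.surjective b
      exact hne ((h' a').trans (h' b').symm)
    exact ⟨_, (Finset.mem_filter.mp (Finset.min'_mem _ hnon)).2, fun y hy =>
      Finset.min'_le (Finset.univ.filter fun x => f (ρ x) ≠ f (ρ o)) y
        (Finset.mem_filter.mpr ⟨Finset.mem_univ _, hy⟩)⟩
  have hm0 : 0 < (x : ℕ) := by
    by_contra h
    exact hx (by rw [show x = o from Fin.ext (by simp only [o]; omega)])
  have hsep : ∀ y z : Fin (c.d k), (y : ℕ) < x → (x : ℕ) ≤ z → f (ρ y) < f (ρ z) := by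
    intro y z hy hz
    have h1 : f (ρ y) = f (ρ o) := by
      by_contra h
      exact absurd (hmin y h) (not_le.mpr (Fin.lt_def.mpr hy))
    have h2 : f (ρ o) < f (ρ x) :=
      (hmono (Fin.le_def.mpr (Nat.zero_le _))).lt_of_ne hx.symm
    rw [h1]
    exact h2.trans_le (hmono (Fin.le_def.mpr hz))
  let N := cutGrp F (c.d k) (x : ℕ)
  let g : GL (Fin (c.d k)) F := mono ρ 1
  let ι : N →* parab F c := ((single c k).comp (MulAut.conj g).toMonoidHom).comp N.subtype
  have hι : Function.Injective ι := by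
    intro v w h
    have h' := congrArg (fun p => proj c p k) h
    simp only [ι, MonoidHom.comp_apply, proj_single, Pi.mulSingle_eq_same] at h'
    exact Subtype.ext ((MulAut.conj g).injective h')
  haveI : Fintype N := Fintype.ofFinite _
  haveI : Fintype ι.range := Fintype.ofFinite _
  refine hT (doubleTerm_eq_zero (parab F c) (parab F c') ι.range (mono s 1) (fun p => ?_) fun y v => ?_)
  · rw [← Fintype.sum_equiv (MonoidHom.ofInjective hι).toEquiv
      (fun v : N => infl c σ (p * ι v)) _ fun v => rfl]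
    have e : ∀ v : N, infl c σ (p * ι v) = σ k ((g⁻¹ * proj c p k * g) * v) *
        ∏ l ∈ Finset.univ.erase k, σ l (proj c p l) := by
      intro v
      show ∏ l, σ l (proj c (p * single c k (g * (v : GL (Fin (c.d k)) F) * g⁻¹)) l) = _
      rw [← Finset.mul_prod_erase _ _ (Finset.mem_univ k), map_mul, proj_single, Pi.mul_apply,
        Pi.mulSingle_eq_same]
      congr 1
      · rw [← CfsgLib.Char.irr_isClassFunction (hσ k) (proj c p k * (g * v * g⁻¹)) g⁻¹, inv_inv]
        congr 1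
        group
      · exact Finset.prod_congr rfl fun l hl => by
          rw [Pi.mul_apply, Pi.mulSingle_eq_of_ne (Finset.ne_of_mem_erase hl), mul_one]
    rw [Finset.sum_congr rfl fun v _ => e v, ← Finset.sum_mul,
      sum_coset_eq_zero (CfsgLib.Char.irr_isCharacter (hσ k)) N
        ((hσc k).sum_eq_zero hm0 x.2), zero_mul]
  · obtain ⟨v, w, rfl⟩ := v
    -- the image lies in the radical
    have hw : ∀ i j, c'.blk j ≤ c'.blk i →
        mat (mono s 1 * ((ι w : parab F c) : GL (Fin n) F) * (mono s 1)⁻¹) i j =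
          (1 : Matrix (Fin n) (Fin n) F) i j := by
      intro i j hji
      obtain ⟨i, rfl⟩ := s.surjective i
      obtain ⟨j, rfl⟩ := s.surjective j
      rw [mono_conj_apply, show (1 : Matrix (Fin n) (Fin n) F) (s i) (s j) = (1 : Matrix (Fin n) (Fin n) F) i j by
        simp [Matrix.one_apply, s.injective.eq_iff]]
      by_cases hb : c.blk i = k ∧ c.blk j = k
      · obtain ⟨⟨l, i⟩, rfl⟩ := c.e.surjective i
        obtain ⟨⟨l', j⟩, rfl⟩ := c.e.surjective j
        simp only [c.blk_e] at hb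
        obtain ⟨hb1, hb2⟩ := hb
        subst hb1
        subst hb2
        obtain ⟨i, rfl⟩ := ρ.surjective i
        obtain ⟨j, rfl⟩ := ρ.surjective j
        show mat ((single c l' (g * (w : GL (Fin (c.d l')) F) * g⁻¹) : parab F c) : GL (Fin n) F) _ _ = _
        rw [show single c l' (g * (w : GL (Fin (c.d l')) F) * g⁻¹) =
          embP c (Pi.mulSingle l' (g * (w : GL (Fin (c.d l')) F) * g⁻¹)) from rfl, embP_entry,
          Pi.mulSingle_eq_same, mono_conj_apply, mem_cutGrp.mp w.2 i j]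
        · simp [Matrix.one_apply, ρ.injective.eq_iff]
        · intro h
          exact absurd (hsep i j h.1 h.2) (not_lt.mpr hji)
      · exact single_apply_off c k _ hb
    have hmem : mono s 1 * ((ι w : parab F c) : GL (Fin n) F) * (mono s 1)⁻¹ ∈ parab F c' :=
      mem_parab.mpr fun i j hji => by
        rw [hw i j hji.le, Matrix.one_apply_ne]
        rintro rfl
        exact lt_irrefl _ hji
    exact extendByZero_mul_rad (r := ⟨_, hmem⟩) ((mem_rad c').mpr hw) y

/-- Both directions. -/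
theorem blk_iff (hσ : ∀ k, Cfsg.IsIrrCharacter (GL (Fin (c.d k)) F) (σ k)) (hσc : ∀ k, Cuspidal (σ k))
    (hτ : ∀ k, Cfsg.IsIrrCharacter (GL (Fin (c'.d k)) F) (τ k)) (hτc : ∀ k, Cuspidal (τ k))
    (s : Equiv.Perm (Fin n))
    (hT : doubleTerm (parab F c) (parab F c') (infl c σ) (infl c' τ) (mono s 1) ≠ 0) (i j : Fin n) :
    c'.blk (s i) = c'.blk (s j) ↔ c.blk i = c.blk j := by
  constructor
  · intro h
    have hinv : (mono s 1)⁻¹ = (mono s⁻¹ 1 : GL (Fin n) F) :=
      inv_eq_of_mul_eq_one_right (by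
        rw [mono_mul_mono]
        exact mat_inj fun i j => by simp [mat_mono, Matrix.one_apply]; rfl)
    have hT' : doubleTerm (parab F c') (parab F c) (infl c' τ) (infl c σ) (mono s⁻¹ 1) ≠ 0 := by
      rw [← hinv, doubleTerm_conj (parab F c) (parab F c') (infl c σ) (infl c' τ) (mono s 1)]
      simpa using hT
    obtain ⟨⟨k, a⟩, ha⟩ := c'.e.surjective (s i)
    obtain ⟨⟨k', b⟩, hb⟩ := c'.e.surjective (s j)
    rw [← ha, ← hb, c'.blk_e, c'.blk_e] at h
    subst h
    have := blk_const hτ hτc s⁻¹ hT' _ a b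
    rw [ha, hb] at this
    simpa using this
  · intro h
    obtain ⟨⟨k, a⟩, rfl⟩ := c.e.surjective i
    obtain ⟨⟨k', b⟩, rfl⟩ := c.e.surjective j
    rw [c.blk_e, c.blk_e] at h
    subst h
    exact blk_const hσ hσc s hT _ a b

/-! ### Standard representatives -/

/-- The permutation of positions induced by a bijection of blocks. -/
def bperm (π : Fin c.K ≃ Fin c'.K) (h : ∀ k, c.d k = c'.d (π k)) : Equiv.Perm (Fin n) :=
  c.e.symm.trans ((Equiv.sigmaCongr π fun k => finCongr (h k)).trans c'.e)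

theorem bperm_apply (π : Fin c.K ≃ Fin c'.K) (h : ∀ k, c.d k = c'.d (π k)) (k : Fin c.K)
    (a : Fin (c.d k)) : bperm π h (c.e ⟨k, a⟩) = c'.e ⟨π k, Fin.cast (h k) a⟩ := by
  simp [bperm, Equiv.sigmaCongr, Equiv.sigmaCongrRight, Equiv.sigmaCongrLeft]

theorem blk_bperm (π : Fin c.K ≃ Fin c'.K) (h : ∀ k, c.d k = c'.d (π k)) (i : Fin n) :
    c'.blk (bperm π h i) = π (c.blk i) := by
  obtain ⟨⟨k, a⟩, rfl⟩ := c.e.surjective i
  rw [bperm_apply, c'.blk_e, c.blk_e]

/-- Every surviving term is at a standard representative. -/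
theorem exists_bperm (hσ : ∀ k, Cfsg.IsIrrCharacter (GL (Fin (c.d k)) F) (σ k))
    (hσc : ∀ k, Cuspidal (σ k))
    (hτ : ∀ k, Cfsg.IsIrrCharacter (GL (Fin (c'.d k)) F) (τ k)) (hτc : ∀ k, Cuspidal (τ k))
    {z : GL (Fin n) F} (hz : doubleTerm (parab F c) (parab F c') (infl c σ) (infl c' τ) z ≠ 0) :
    ∃ (π : Fin c.K ≃ Fin c'.K) (h : ∀ k, c.d k = c'.d (π k)),
      ∃ (q : parab F c') (p : parab F c),
        z = (q : GL (Fin n) F) * mono (bperm π h) 1 * (p : GL (Fin n) F) := by
  classical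
  obtain ⟨u, hu, s, a, v, hv, rfl⟩ := exists_form z
  have hp : mono 1 a * v ∈ parab F c := mul_mem (mono_one_mem a) (upperUni_le_parab c hv)
  have hza : u * mono s a * v = u * mono s 1 * (mono 1 a * v) := by
    rw [show mono s a = mono s 1 * mono 1 a by
      rw [mono_mul_mono]; exact mat_inj fun i j => by simp [mat_mono]]
    group
  rw [hza]
  rw [hza] at hz
  have hT : doubleTerm (parab F c) (parab F c') (infl c σ) (infl c' τ) (mono s 1) ≠ 0 := by
    rw [← doubleTerm_congr (parab F c) (parab F c') (isClassFunction_infl hσ) (isClassFunction_infl hτ)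
      ⟨u, upperUni_le_parab c' hu⟩ (mono s 1) ⟨_, hp⟩]
    exact hz
  have hiff := blk_iff hσ hσc hτ hτc s hT
  let fπ : Fin c.K → Fin c'.K := fun k => c'.blk (s (c.e ⟨k, ⟨0, c.pos k⟩⟩))
  have hfπ : ∀ i, fπ (c.blk i) = c'.blk (s i) := fun i => (hiff _ _).mpr (c.blk_e _)
  have hbij : Function.Bijective fπ := by
    refine ⟨fun k l h => by simpa [c.blk_e] using (hiff _ _).mp h, fun l => ?_⟩
    refine ⟨c.blk (s.symm (c'.e ⟨l, ⟨0, c'.pos l⟩⟩)), ?_⟩
    rw [hfπ, Equiv.apply_symm_apply, c'.blk_e]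
  let π := Equiv.ofBijective fπ hbij
  have hsize : ∀ (c : Comp n) (k : Fin c.K),
      (Finset.univ.filter fun i => c.blk i = k).card = c.d k := by
    intro c k
    rw [show (Finset.univ.filter fun i => c.blk i = k) =
        Finset.univ.map ⟨fun a => c.e ⟨k, a⟩, fun a b h => by simpa using h⟩ from ?_,
      Finset.card_map, Finset.card_univ, Fintype.card_fin]
    ext i
    obtain ⟨⟨l, b⟩, rfl⟩ := c.e.surjective i
    simp only [Finset.mem_filter, Finset.mem_univ, true_and, c.blk_e, Finset.mem_map,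
      Function.Embedding.coeFn_mk, EmbeddingLike.apply_eq_iff_eq]
    constructor
    · rintro rfl; exact ⟨b, rfl⟩
    · rintro ⟨a, ha⟩; exact (congrArg Sigma.fst (c.e.injective ha)).symm
  have hd : ∀ k, c.d k = c'.d (π k) := fun k => by
    rw [← hsize c k, ← hsize c' (π k)]
    refine Finset.card_equiv s fun i => ?_
    simp only [Finset.mem_filter, Finset.mem_univ, true_and, ← hfπ, π, Equiv.ofBijective_apply]
    exact ⟨fun h => by rw [h], fun h => hbij.1 h⟩
  let ρ : Equiv.Perm (Fin n) := (bperm π hd)⁻¹ * s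
  have hρ : ∀ i, c.blk (ρ i) = c.blk i := fun i => by
    refine π.injective ?_
    rw [← blk_bperm π hd, show bperm π hd (ρ i) = s i by simp [ρ], ← hfπ]
    rfl
  refine ⟨π, hd, ⟨u, upperUni_le_parab c' hu⟩, ⟨mono ρ 1 * (mono 1 a * v),
    mul_mem (mono_mem_parab c hρ 1) hp⟩, ?_⟩
  show u * mono s 1 * (mono 1 a * v) = u * mono (bperm π hd) 1 * (mono ρ 1 * (mono 1 a * v))
  rw [show mono s 1 = mono (bperm π hd) 1 * mono ρ 1 by
    rw [mono_mul_mono]
    exact mat_inj fun i j => by simp [mat_mono, ρ]]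
  group

/-- The term at a standard representative. -/
theorem doubleTerm_bperm (π : Fin c.K ≃ Fin c'.K) (h : ∀ k, c.d k = c'.d (π k))
    [Fintype {p : parab F c // mono (bperm π h) 1 * (p : GL (Fin n) F) * (mono (bperm π h) 1)⁻¹ ∈ parab F c'}] :
    doubleTerm (parab F c) (parab F c') (infl c σ) (infl c' τ) (mono (bperm π h) 1) =
      (Fintype.card {p : parab F c // mono (bperm π h) 1 * (p : GL (Fin n) F) * (mono (bperm π h) 1)⁻¹ ∈ parab F c'} : ℂ) *
        ∏ k, Cfsg.classInner (σ k) (τ (π k) ∘ castGL (h k)) := by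
  classical
  set w : GL (Fin n) F := mono (bperm π h) 1 with hwdef
  let τ' : ∀ k : Fin c.K, GL (Fin (c.d k)) F → ℂ := fun k => τ (π k) ∘ castGL (h k)
  let g : Levi F c → ℂ := fun x => outer c σ x * conj (outer c τ' x)
  have hentry : ∀ (p : GL (Fin n) F) (k : Fin c.K) (a b : Fin (c'.d (π k))),
      mat (w * p * w⁻¹) (c'.e ⟨π k, a⟩) (c'.e ⟨π k, b⟩) =
        mat p (c.e ⟨k, Fin.cast (h k).symm a⟩) (c.e ⟨k, Fin.cast (h k).symm b⟩) := by
    intro p k a b
    rw [← mono_conj_apply (bperm π h) p, bperm_apply, bperm_apply]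
    rfl
  have hval : ∀ p : parab F c,
      infl c σ p * conj (Cfsg.extendByZero (parab F c') (infl c' τ) (w * p * w⁻¹)) =
        if w * p * w⁻¹ ∈ parab F c' then g (proj c p) else 0 := by
    intro p
    split_ifs with hp
    · rw [CfsgLib.Char.extendByZero_of_mem _ hp]
      show outer c σ (proj c p) * conj (outer c' τ (proj c' ⟨_, hp⟩)) = _
      congr 2
      show ∏ l, τ l _ = ∏ k, τ (π k) (castGL (h k) (proj c p k))
      rw [← Equiv.prod_comp π]
      refine Finset.prod_congr rfl fun k _ => congrArg (τ (π k)) (mat_inj fun a b => ?_)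
      rw [mat_castGL, mat_proj, mat_proj]
      exact hentry _ k a b
    · rw [CfsgLib.Char.extendByZero_of_not_mem _ hp, map_zero, mul_zero]
  rw [doubleTerm, Finset.sum_congr rfl fun p _ => hval p, ← Finset.sum_filter,
    Finset.sum_subtype (p := fun p : parab F c => w * p * w⁻¹ ∈ parab F c') _ (by simp)]
  let H := {p : parab F c // w * p * w⁻¹ ∈ parab F c'}
  have hin : ∀ x : Levi F c, w * (embP c x : parab F c) * w⁻¹ ∈ parab F c' := fun x =>
    mem_parab.mpr fun i j hji => by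
      obtain ⟨i, rfl⟩ := (bperm π h).surjective i
      obtain ⟨j, rfl⟩ := (bperm π h).surjective j
      rw [mono_conj_apply]
      refine emb_ne c x fun e => ?_
      rw [blk_bperm, blk_bperm, e] at hji
      exact lt_irrefl _ hji
  have hshift : ∀ x : Levi F c, ∑ p : H, g (x * proj c p.1) = ∑ p : H, g (proj c p.1) := by
    intro x
    refine Fintype.sum_equiv
      { toFun := fun p => ⟨embP c x * p.1, by
          rw [Subgroup.coe_mul, show w * ((embP c x : parab F c) * (p.1 : GL (Fin n) F)) * w⁻¹ =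
            (w * (embP c x : parab F c) * w⁻¹) * (w * (p.1 : GL (Fin n) F) * w⁻¹) by group]
          exact mul_mem (hin x) p.2⟩
        invFun := fun p => ⟨(embP c x)⁻¹ * p.1, by
          rw [Subgroup.coe_mul, Subgroup.coe_inv,
            show w * (((embP c x : parab F c) : GL (Fin n) F)⁻¹ * (p.1 : GL (Fin n) F)) * w⁻¹ =
            (w * (embP c x : parab F c) * w⁻¹)⁻¹ * (w * (p.1 : GL (Fin n) F) * w⁻¹) by group]
          exact mul_mem (inv_mem (hin x)) p.2⟩
        left_inv := fun p => Subtype.ext (inv_mul_cancel_left _ _)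
        right_inv := fun p => Subtype.ext (mul_inv_cancel_left _ _) } _ _ fun p => ?_
    show g (x * proj c p.1) = g (proj c (embP c x * p.1))
    rw [map_mul, proj_embP]
  have hkey : (Fintype.card (Levi F c) : ℂ) * ∑ p : H, g (proj c p.1) =
      (Fintype.card H : ℂ) * ∑ x, g x := by
    calc (Fintype.card (Levi F c) : ℂ) * ∑ p : H, g (proj c p.1)
        = ∑ x : Levi F c, ∑ p : H, g (x * proj c p.1) := by
          rw [Finset.sum_congr rfl fun x _ => hshift x, Finset.sum_const, Finset.card_univ, nsmul_eq_mul]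
      _ = ∑ _p : H, ∑ x, g x := by
          rw [Finset.sum_comm]
          exact Finset.sum_congr rfl fun p _ => Fintype.sum_equiv (Equiv.mulRight (proj c p.1)) _ _ fun x => rfl
      _ = _ := by rw [Finset.sum_const, Finset.card_univ, nsmul_eq_mul]
  refine mul_left_cancel₀ (a := (Fintype.card (Levi F c) : ℂ)) (by exact_mod_cast Fintype.card_ne_zero) ?_
  rw [hkey, ← inner_outer c σ τ', CfsgLib.Char.classInner_def, Nat.card_eq_fintype_card]
  have hL : (Fintype.card (Levi F c) : ℂ) ≠ 0 := by exact_mod_cast Fintype.card_ne_zero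
  field_simp
  congr 2
  simp only [← Nat.card_eq_fintype_card]; rfl

theorem exists_entry_ne {d : ℕ} (hd : 0 < d) (g : GL (Fin d) F) : ∃ a b, mat g a b ≠ 0 := by
  by_contra h
  push Not at h
  have : mat g = 0 := Matrix.ext h
  have h1 : mat g * mat g⁻¹ = 1 := by rw [← mat_mul, mul_inv_cancel]; rfl
  rw [this, zero_mul] at h1
  exact one_ne_zero (congrFun (congrFun h1 ⟨0, hd⟩) ⟨0, hd⟩ ▸ (Matrix.one_apply_eq _).symm)

/-- Different bijections give different double cosets. -/
theorem bperm_unique {π π' : Fin c.K ≃ Fin c'.K} {h : ∀ k, c.d k = c'.d (π k)}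
    {h' : ∀ k, c.d k = c'.d (π' k)} {q : parab F c'} {p : parab F c}
    (e : mono (bperm π' h') 1 = (q : GL (Fin n) F) * mono (bperm π h) 1 * (p : GL (Fin n) F)) : π = π' := by
  have hle : ∀ k, π k ≤ π' k := by
    intro k
    obtain ⟨a, b, hab⟩ := exists_entry_ne (c.pos k) (proj c p k)
    rw [mat_proj] at hab
    by_contra hlt
    push Not at hlt
    refine hab ?_
    have e' : ((q⁻¹ : parab F c') : GL (Fin n) F) * mono (bperm π' h') 1 = mono (bperm π h) 1 * (p : GL (Fin n) F) := by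
      rw [e, Subgroup.coe_inv]; group
    have := congrArg (fun g => mat g (bperm π h (c.e ⟨k, a⟩)) (c.e ⟨k, b⟩)) e'
    simp only [mul_mono_apply, mono_mul_apply, Pi.one_apply, Units.val_one, one_mul, mul_one] at this
    rw [← this]
    exact mem_parab.mp (q⁻¹).2 _ _ (by rw [blk_bperm, blk_bperm, c.blk_e, c.blk_e]; exact hlt)
  refine Equiv.ext fun k => ?_
  by_contra hne
  have hsum : ∑ l, ((π l : ℕ)) = ∑ l, ((π' l : ℕ)) := by
    rw [Equiv.sum_comp π (fun l => (l : ℕ)), Equiv.sum_comp π' (fun l => (l : ℕ))]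
  exact absurd hsum (Finset.sum_lt_sum (fun l _ => Fin.le_def.mp (hle l))
    ⟨k, Finset.mem_univ _, Fin.lt_def.mp ((hle k).lt_of_ne hne)⟩).ne

/-- The Mackey formula. -/
theorem inner_hc (hσ : ∀ k, Cfsg.IsIrrCharacter (GL (Fin (c.d k)) F) (σ k))
    (hσc : ∀ k, Cuspidal (σ k))
    (hτ : ∀ k, Cfsg.IsIrrCharacter (GL (Fin (c'.d k)) F) (τ k)) (hτc : ∀ k, Cuspidal (τ k)) :
    Cfsg.classInner (hc c σ) (hc c' τ) =
      (Nat.card {π : Fin c.K ≃ Fin c'.K // ∀ k, item c σ k = item c' τ (π k)} : ℂ) := by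
  classical
  let A := {π : Fin c.K ≃ Fin c'.K // ∀ k, item c σ k = item c' τ (π k)}
  have hA : ∀ π : A, ∀ k, c.d k = c'.d (π.1 k) := fun π k => congrArg Sigma.fst (π.2 k)
  let W : A → GL (Fin n) F := fun π => mono (bperm π.1 (hA π)) 1
  let D : A → Finset (GL (Fin n) F) := fun π =>
    (Finset.univ : Finset (parab F c' × parab F c)).image fun x => (x.1 : GL (Fin n) F) * W π * x.2
  have hcl := isClassFunction_infl (c := c) hσ
  have hcl' := isClassFunction_infl (c := c') hτ
  rw [hc, hc, inner_indFun]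
  have hdisj : ∀ π ∈ (Finset.univ : Finset A), ∀ π' ∈ Finset.univ, π ≠ π' → Disjoint (D π) (D π') := by
    intro π _ π' _ hne
    rw [Finset.disjoint_left]
    intro g hg hg'
    obtain ⟨⟨q, p⟩, -, rfl⟩ := Finset.mem_image.mp hg
    obtain ⟨⟨q', p'⟩, -, e⟩ := Finset.mem_image.mp hg'
    refine hne (Subtype.ext (bperm_unique (h := hA π) (h' := hA π') (q := q'⁻¹ * q) (p := p * p'⁻¹) ?_))
    show W π' = _
    calc W π' = (q' : GL (Fin n) F)⁻¹ * ((q' : GL (Fin n) F) * W π' * p') * (p' : GL (Fin n) F)⁻¹ := by group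
      _ = _ := by rw [e, Subgroup.coe_mul, Subgroup.coe_mul, Subgroup.coe_inv, Subgroup.coe_inv]; group; rfl
  have hout : ∀ z, z ∉ Finset.univ.biUnion D →
      doubleTerm (parab F c) (parab F c') (infl c σ) (infl c' τ) z = 0 := by
    intro z hz
    by_contra hne
    obtain ⟨π, hd, q, p, rfl⟩ := exists_bperm hσ hσc hτ hτc hne
    rw [doubleTerm_congr _ _ hcl hcl', doubleTerm_bperm π hd] at hne
    have hm : ∀ k, item c σ k = item c' τ (π k) := fun k => by
      refine (item_eq_iff _ _).mpr ⟨hd k, ?_⟩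
      by_contra hk
      exact hne (mul_eq_zero_of_right _ (Finset.prod_eq_zero (Finset.mem_univ k)
        (CfsgLib.Char.irr_classInner_ne (hσ k) (isIrr_castGL _ (hτ (π k))) hk)))
    exact hz (Finset.mem_biUnion.mpr ⟨⟨π, hm⟩, Finset.mem_univ _,
      Finset.mem_image.mpr ⟨(q, p), Finset.mem_univ _, rfl⟩⟩)
  rw [← Finset.sum_subset (Finset.subset_univ (Finset.univ.biUnion D)) fun z _ hz => hout z hz,
    Finset.sum_biUnion hdisj]
  have hD : ∀ π : A, ∑ z ∈ D π, doubleTerm (parab F c) (parab F c') (infl c σ) (infl c' τ) z =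
      (Nat.card (parab F c) : ℂ) * Nat.card (parab F c') := by
    intro π
    rw [Finset.sum_congr rfl fun z hz => show _ =
      doubleTerm (parab F c) (parab F c') (infl c σ) (infl c' τ) (W π) by
      obtain ⟨⟨q, p⟩, -, rfl⟩ := Finset.mem_image.mp hz
      exact doubleTerm_congr _ _ hcl hcl' q (W π) p]
    rw [Finset.sum_const, nsmul_eq_mul, doubleTerm_bperm π.1 (hA π), Finset.prod_eq_one fun k _ => ?_,
      mul_one, ← Nat.cast_mul, card_double, Nat.cast_mul, Nat.card_eq_fintype_card,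
      Nat.card_eq_fintype_card, mul_comm]
    obtain ⟨h, e⟩ := (item_eq_iff _ _).mp (π.2 k)
    rw [← e]
    exact CfsgLib.Char.irr_classInner_self (hσ k)
  rw [Finset.sum_congr rfl fun π _ => hD π, Finset.sum_const, Finset.card_univ, nsmul_eq_mul,
    mul_comm (Fintype.card A : ℂ), ← mul_assoc, inv_mul_cancel₀ (by simp [Nat.card_pos.ne']), one_mul,
    Nat.card_eq_fintype_card]

end CfsgLib.KnownB.Cusp
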