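import Cfsg.Agent.Lib.KnownB.CuspDegree
import Mathlib.Data.Fin.Tuple.Sort

/-!
Standard parabolic subgroups of `GL n` through ordered block data, and Harish-Chandra induction.
-/

set_option autoImplicit false

namespace CfsgLib.KnownB.Cusp

open scoped ComplexConjugate MatrixGroups
open Finset

universe u

variable {F : Type u} [Field F] [Fintype F] [DecidableEq F] {n : ℕ}

/-- Consecutive blocks. -/
structure Comp (n : ℕ) where
  K : ℕ
  d : Fin K → ℕ
  pos : ∀ k, 0 < d k
  e : (Σ k : Fin K, Fin (d k)) ≃ Fin n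
  mono : ∀ x y : (Σ k : Fin K, Fin (d k)), x.1 < y.1 → e x < e y
  within : ∀ (k : Fin K) (i j : Fin (d k)), i < j → e ⟨k, i⟩ < e ⟨k, j⟩

namespace Comp

variable (c : Comp n)

/-- The block of a position. -/
def blk (i : Fin n) : Fin c.K := (c.e.symm i).1

theorem blk_e (x : Σ k : Fin c.K, Fin (c.d k)) : c.blk (c.e x) = x.1 := by simp [blk]

theorem blk_mono {i j : Fin n} (h : i ≤ j) : c.blk i ≤ c.blk j := by
  by_contra hlt
  push Not at hlt
  have := c.mono (c.e.symm j) (c.e.symm i) hlt
  rw [Equiv.apply_symm_apply, Equiv.apply_symm_apply] at this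
  exact absurd h (not_le.mpr this)

theorem snd_e (x : Σ k : Fin c.K, Fin (c.d k)) : ((c.e.symm (c.e x)).2 : ℕ) = (x.2 : ℕ) :=
  congrArg (fun y : Σ k : Fin c.K, Fin (c.d k) => (y.2 : ℕ)) (c.e.symm_apply_apply x)

theorem e_lt_iff {k : Fin c.K} {i j : Fin (c.d k)} : c.e ⟨k, i⟩ < c.e ⟨k, j⟩ ↔ i < j := by
  refine ⟨fun h => ?_, c.within k i j⟩
  by_contra hle
  push Not at hle
  rcases hle.eq_or_lt with e | e
  · exact h.ne (by rw [e])
  · exact absurd h (not_lt.mpr (c.within k j i e).le)

theorem K_le : c.K ≤ n := by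
  have h := Fintype.card_congr c.e
  rw [Fintype.card_sigma, Fintype.card_fin] at h
  simp only [Fintype.card_fin] at h
  calc c.K = ∑ _k : Fin c.K, 1 := by simp
    _ ≤ ∑ k : Fin c.K, c.d k := Finset.sum_le_sum fun k _ => c.pos k
    _ = n := h

/-- Block data from a monotone surjective labelling. -/
noncomputable def ofLabel {K : ℕ} (b : Fin n → Fin K) (hb : Monotone b) (hs : Function.Surjective b) :
    Comp n where
  K := K
  d k := (Finset.univ.filter fun i => b i = k).card
  pos k := Finset.card_pos.mpr (by obtain ⟨i, hi⟩ := hs k; exact ⟨i, by simp [hi]⟩)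
  e := (Equiv.sigmaCongrRight fun k =>
      ((Finset.univ.filter fun i => b i = k).orderIsoOfFin rfl).toEquiv.trans
        (Equiv.subtypeEquivRight fun i => by simp)).trans (Equiv.sigmaFiberEquiv b)
  mono x y h := by
    have hx : b (((Finset.univ.filter fun i => b i = x.1).orderIsoOfFin rfl x.2 : _) : Fin n) = x.1 :=
      (Finset.mem_filter.mp ((Finset.univ.filter fun i => b i = x.1).orderIsoOfFin rfl x.2).2).2
    have hy : b (((Finset.univ.filter fun i => b i = y.1).orderIsoOfFin rfl y.2 : _) : Fin n) = y.1 :=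
      (Finset.mem_filter.mp ((Finset.univ.filter fun i => b i = y.1).orderIsoOfFin rfl y.2).2).2
    show (((Finset.univ.filter fun i => b i = x.1).orderIsoOfFin rfl x.2 : _) : Fin n) <
      (((Finset.univ.filter fun i => b i = y.1).orderIsoOfFin rfl y.2 : _) : Fin n)
    by_contra hle
    push Not at hle
    have h' := hb hle
    rw [hx, hy] at h'
    exact absurd h (not_lt.mpr h')
  within k i j h := by
    show (((Finset.univ.filter fun i => b i = k).orderIsoOfFin rfl i : _) : Fin n) <
      (((Finset.univ.filter fun i => b i = k).orderIsoOfFin rfl j : _) : Fin n)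
    exact ((Finset.univ.filter fun i => b i = k).orderIsoOfFin rfl).strictMono h

theorem blk_ofLabel {K : ℕ} (b : Fin n → Fin K) (hb : Monotone b) (hs : Function.Surjective b) (i : Fin n) :
    (ofLabel b hb hs).blk i = b i := rfl

end Comp

variable (c : Comp n)

/-- Block upper triangular matrices. -/
def parabMon (F : Type u) [Field F] (c : Comp n) : Submonoid (GL (Fin n) F) where
  carrier := {g | (mat g).BlockTriangular c.blk}
  one_mem' := Matrix.blockTriangular_one
  mul_mem' := fun ha hb => Matrix.BlockTriangular.mul ha hb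

/-- The parabolic subgroup. -/
def parab (F : Type u) [Field F] [Finite F] (c : Comp n) : Subgroup (GL (Fin n) F) :=
  { parabMon F c with inv_mem' := fun hx => inv_mem_of_finite (parabMon F c) hx }

theorem mem_parab {c : Comp n} {g : GL (Fin n) F} :
    g ∈ parab F c ↔ ∀ i j, c.blk j < c.blk i → mat g i j = 0 := Iff.rfl

theorem upperUni_le_parab : upperUni F n ≤ parab F c := fun g hg => mem_parab.mpr fun i j hji =>
  uni_zero hg (by
    by_contra hle
    push Not at hle
    exact absurd (c.blk_mono hle) (not_le.mpr hji))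

theorem mono_mem_parab {σ : Equiv.Perm (Fin n)} (hσ : ∀ i, c.blk (σ i) = c.blk i) (a : Fin n → Fˣ) :
    mono σ a ∈ parab F c := mem_parab.mpr fun i j hji => by
  rw [mat_mono, if_neg]
  rintro rfl
  rw [hσ] at hji
  exact lt_irrefl _ hji

/-- The blocks of a block triangular matrix. -/
def blockHom (k : Fin c.K) : parab F c →* Matrix (Fin (c.d k)) (Fin (c.d k)) F where
  toFun g := Matrix.of fun i j => mat (g : GL (Fin n) F) (c.e ⟨k, i⟩) (c.e ⟨k, j⟩)
  map_one' := by
    ext i j
    show (1 : Matrix (Fin n) (Fin n) F) (c.e ⟨k, i⟩) (c.e ⟨k, j⟩) = _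
    simp [Matrix.one_apply]
  map_mul' g h := by
    ext i j
    show (mat (g : GL (Fin n) F) * mat (h : GL (Fin n) F)) (c.e ⟨k, i⟩) (c.e ⟨k, j⟩) = _
    rw [Matrix.mul_apply, Matrix.mul_apply, ← c.e.sum_comp, Fintype.sum_sigma, Finset.sum_eq_single k]
    · rfl
    · intro l _ hl
      refine Finset.sum_eq_zero fun x _ => ?_
      rcases lt_or_gt_of_ne hl with h' | h'
      · rw [mem_parab.mp g.2 _ _ (by rw [c.blk_e, c.blk_e]; exact h'), zero_mul]
      · rw [mem_parab.mp h.2 _ _ (by rw [c.blk_e, c.blk_e]; exact h'), mul_zero]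
    · simp

/-- The Levi group. -/
abbrev Levi (F : Type u) [Field F] (c : Comp n) : Type u := ∀ k : Fin c.K, GL (Fin (c.d k)) F

/-- Projection to the Levi group. -/
def proj : parab F c →* Levi F c := Pi.monoidHom fun k => (blockHom c k).toHomUnits

theorem mat_proj (g : parab F c) (k : Fin c.K) (i j : Fin (c.d k)) :
    mat (proj c g k) i j = mat (g : GL (Fin n) F) (c.e ⟨k, i⟩) (c.e ⟨k, j⟩) := rfl

/-- The block diagonal matrix. -/
def diagMat (x : ∀ k : Fin c.K, Matrix (Fin (c.d k)) (Fin (c.d k)) F) : Matrix (Fin n) (Fin n) F :=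
  (Matrix.blockDiagonal' x).submatrix c.e.symm c.e.symm

theorem diagMat_mul (x y : ∀ k : Fin c.K, Matrix (Fin (c.d k)) (Fin (c.d k)) F) :
    diagMat c x * diagMat c y = diagMat c (fun k => x k * y k) := by
  rw [diagMat, diagMat, diagMat, Matrix.submatrix_mul_equiv, ← Matrix.blockDiagonal'_mul]

theorem diagMat_one : diagMat c (fun k => (1 : Matrix (Fin (c.d k)) (Fin (c.d k)) F)) = 1 := by
  rw [diagMat, show (fun k => (1 : Matrix (Fin (c.d k)) (Fin (c.d k)) F)) = 1 from rfl,
    Matrix.blockDiagonal'_one, Matrix.submatrix_one_equiv]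

/-- The Levi group inside the parabolic. -/
def emb : Levi F c →* GL (Fin n) F where
  toFun x :=
    { val := diagMat c fun k => mat (x k)
      inv := diagMat c fun k => mat (x k)⁻¹
      val_inv := by
        rw [diagMat_mul]
        simp only [← mat_mul, mul_inv_cancel]
        exact diagMat_one c
      inv_val := by
        rw [diagMat_mul]
        simp only [← mat_mul, inv_mul_cancel]
        exact diagMat_one c }
  map_one' := Units.ext (diagMat_one c)
  map_mul' x y := Units.ext (diagMat_mul c _ _).symm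

theorem emb_same (x : Levi F c) (k : Fin c.K) (i j : Fin (c.d k)) :
    mat (emb c x) (c.e ⟨k, i⟩) (c.e ⟨k, j⟩) = mat (x k) i j := by
  show Matrix.blockDiagonal' (fun k => mat (x k)) (c.e.symm (c.e ⟨k, i⟩)) (c.e.symm (c.e ⟨k, j⟩)) = _
  rw [Equiv.symm_apply_apply, Equiv.symm_apply_apply, Matrix.blockDiagonal'_apply_eq]

theorem emb_ne (x : Levi F c) {i j : Fin n} (h : c.blk i ≠ c.blk j) : mat (emb c x) i j = 0 := by
  obtain ⟨⟨k, a⟩, rfl⟩ := c.e.surjective i
  obtain ⟨⟨l, b⟩, rfl⟩ := c.e.surjective j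
  rw [c.blk_e, c.blk_e] at h
  show Matrix.blockDiagonal' (fun k => mat (x k)) (c.e.symm (c.e ⟨k, a⟩)) (c.e.symm (c.e ⟨l, b⟩)) = _
  rw [Equiv.symm_apply_apply, Equiv.symm_apply_apply, Matrix.blockDiagonal'_apply_ne _ _ _ h]

theorem emb_mem (x : Levi F c) : emb c x ∈ parab F c :=
  mem_parab.mpr fun _ _ h => emb_ne c x h.ne'

/-- The Levi group as a subgroup of the parabolic. -/
def embP : Levi F c →* parab F c := (emb c).codRestrict _ (emb_mem c)

theorem proj_embP (x : Levi F c) : proj c (embP c x) = x :=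
  funext fun k => mat_inj fun i j => by rw [mat_proj]; exact emb_same c x k i j

/-- The unipotent radical. -/
def rad (F : Type u) [Field F] [Fintype F] [DecidableEq F] (c : Comp n) : Subgroup (parab F c) :=
  (proj c).ker

theorem mem_rad {g : parab F c} : g ∈ rad F c ↔
    ∀ i j, c.blk j ≤ c.blk i → mat (g : GL (Fin n) F) i j = (1 : Matrix (Fin n) (Fin n) F) i j := by
  constructor
  · intro h i j hji
    rcases hji.eq_or_lt with e | e
    · obtain ⟨⟨k, a⟩, rfl⟩ := c.e.surjective i
      obtain ⟨⟨l, b⟩, rfl⟩ := c.e.surjective j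
      rw [c.blk_e, c.blk_e] at e
      subst e
      have h' : mat (proj c g l) a b = (1 : Matrix (Fin (c.d l)) (Fin (c.d l)) F) a b := by
        rw [MonoidHom.mem_ker.mp h]; rfl
      rw [mat_proj] at h'
      rw [h']
      simp [Matrix.one_apply]
    · rw [mem_parab.mp g.2 i j e, Matrix.one_apply_ne]
      rintro rfl
      exact lt_irrefl _ e
  · intro h
    refine MonoidHom.mem_ker.mpr (funext fun k => mat_inj fun a b => ?_)
    rw [mat_proj, h _ _ (by rw [c.blk_e, c.blk_e])]
    show _ = (1 : Matrix (Fin (c.d k)) (Fin (c.d k)) F) a b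
    simp [Matrix.one_apply]

/-- The Levi decomposition. -/
def leviEquiv : Levi F c × rad F c ≃ parab F c where
  toFun x := embP c x.1 * x.2
  invFun p := (proj c p, ⟨(embP c (proj c p))⁻¹ * p, MonoidHom.mem_ker.mpr (by
    rw [map_mul, map_inv, proj_embP, inv_mul_cancel])⟩)
  left_inv x := by
    have e : proj c (embP c x.1 * (x.2 : parab F c)) = x.1 := by
      rw [map_mul, proj_embP, MonoidHom.mem_ker.mp x.2.2, mul_one]
    refine Prod.ext e (Subtype.ext ?_)
    show (embP c (proj c (embP c x.1 * (x.2 : parab F c))))⁻¹ * (embP c x.1 * (x.2 : parab F c)) = _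
    rw [e, inv_mul_cancel_left]
  right_inv p := mul_inv_cancel_left (embP c (proj c p)) p

theorem sum_parab [Fintype (parab F c)] [Fintype (rad F c)] (f : parab F c → ℂ) :
    ∑ p, f p = ∑ x : Levi F c, ∑ u : rad F c, f (embP c x * u) := by
  rw [← Fintype.sum_prod_type' (f := fun (x : Levi F c) (u : rad F c) => f (embP c x * u))]
  exact (Fintype.sum_equiv (leviEquiv c) _ _ fun _ => rfl).symm

/-! ### Characters of the Levi group -/

variable (σ : ∀ k : Fin c.K, GL (Fin (c.d k)) F → ℂ)

/-- The product character. -/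
def outer : Levi F c → ℂ := fun x => ∏ k, σ k (x k)

/-- Its inflation. -/
def infl : parab F c → ℂ := fun p => outer c σ (proj c p)

theorem outer_isCharacter (h : ∀ k, Cfsg.IsCharacter (GL (Fin (c.d k)) F) (σ k)) :
    Cfsg.IsCharacter (Levi F c) (outer c σ) := by
  have key : ∀ s : Finset (Fin c.K), Cfsg.IsCharacter (Levi F c) (fun x => ∏ k ∈ s, σ k (x k)) := by
    intro s
    induction s using Finset.induction with
    | empty => simpa using CfsgLib.Char.isCharacter_one
    | insert a s ha ih =>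
      have e : (fun x : Levi F c => ∏ k ∈ insert a s, σ k (x k)) =
          (σ a ∘ Pi.evalMonoidHom (fun k => GL (Fin (c.d k)) F) a) * fun x => ∏ k ∈ s, σ k (x k) := by
        funext x
        rw [Finset.prod_insert ha]
        rfl
      rw [e]
      exact CfsgLib.Char.isCharacter_mul (CfsgLib.Char.isCharacter_comp (h a) _) ih
  exact key _

theorem infl_isCharacter (h : ∀ k, Cfsg.IsCharacter (GL (Fin (c.d k)) F) (σ k)) :
    Cfsg.IsCharacter (parab F c) (infl c σ) :=
  CfsgLib.Char.isCharacter_comp (outer_isCharacter c σ h) (proj c)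

theorem inner_outer (τ : ∀ k : Fin c.K, GL (Fin (c.d k)) F → ℂ) :
    Cfsg.classInner (outer c σ) (outer c τ) = ∏ k, Cfsg.classInner (σ k) (τ k) := by
  simp only [CfsgLib.Char.classInner_def, outer]
  rw [Finset.prod_mul_distrib, Finset.prod_inv_distrib, Fintype.prod_sum, Nat.card_pi, Nat.cast_prod]
  congr 1
  refine Finset.sum_congr rfl fun x _ => ?_
  rw [map_prod, ← Finset.prod_mul_distrib]

theorem outer_isIrr (h : ∀ k, Cfsg.IsIrrCharacter (GL (Fin (c.d k)) F) (σ k)) :
    Cfsg.IsIrrCharacter (Levi F c) (outer c σ) := by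
  rw [CfsgLib.Char.isIrrCharacter_iff]
  refine ⟨outer_isCharacter c σ fun k => CfsgLib.Char.irr_isCharacter (h k), ?_⟩
  rw [inner_outer]
  exact Finset.prod_eq_one fun k _ => CfsgLib.Char.irr_classInner_self (h k)

/-- Harish-Chandra induction. -/
noncomputable def hc : GL (Fin n) F → ℂ := Cfsg.indFun (parab F c) (infl c σ)

theorem hc_isCharacter (h : ∀ k, Cfsg.IsCharacter (GL (Fin (c.d k)) F) (σ k)) :
    Cfsg.IsCharacter (GL (Fin n) F) (hc c σ) :=
  CfsgLib.Char.isCharacter_indFun _ (infl_isCharacter c σ h)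

/-- An element of one block. -/
def single (k : Fin c.K) : GL (Fin (c.d k)) F →* parab F c :=
  (embP c).comp (MonoidHom.mulSingle (fun k => GL (Fin (c.d k)) F) k)

theorem proj_single (k : Fin c.K) (v : GL (Fin (c.d k)) F) :
    proj c (single c k v) = Pi.mulSingle k v := proj_embP c _

theorem single_apply_off (k : Fin c.K) (v : GL (Fin (c.d k)) F) {i j : Fin n}
    (h : ¬ (c.blk i = k ∧ c.blk j = k)) :
    mat (single c k v : GL (Fin n) F) i j = (1 : Matrix (Fin n) (Fin n) F) i j := by
  by_cases hb : c.blk i = c.blk j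
  · obtain ⟨⟨l, a⟩, rfl⟩ := c.e.surjective i
    obtain ⟨⟨l', b⟩, rfl⟩ := c.e.surjective j
    simp only [c.blk_e] at hb h
    subst hb
    show mat (emb c (Pi.mulSingle k v)) _ _ = _
    rw [emb_same, Pi.mulSingle_eq_of_ne (fun e => h ⟨e, e⟩)]
    show (1 : Matrix (Fin (c.d l)) (Fin (c.d l)) F) a b = _
    simp [Matrix.one_apply]
  · show mat (emb c (Pi.mulSingle k v)) _ _ = _
    rw [emb_ne c _ hb, Matrix.one_apply_ne]
    exact fun e => hb (by rw [e])

theorem infl_sum_single (hc' : ∀ k, Cfsg.IsCharacter (GL (Fin (c.d k)) F) (σ k)) (k : Fin c.K)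
    (N : Subgroup (GL (Fin (c.d k)) F)) [Fintype N] (h : ∑ v : N, σ k v = 0) (p : parab F c) :
    ∑ v : N, infl c σ (p * single c k v) = 0 := by
  have e : ∀ v : N, infl c σ (p * single c k v) =
      σ k (proj c p k * v) * ∏ l ∈ Finset.univ.erase k, σ l (proj c p l) := by
    intro v
    show ∏ l, σ l (proj c (p * single c k (v : GL (Fin (c.d k)) F)) l) = _
    rw [← Finset.mul_prod_erase _ _ (Finset.mem_univ k), map_mul, proj_single, Pi.mul_apply,
      Pi.mulSingle_eq_same]
    congr 1
    refine Finset.prod_congr rfl fun l hl => ?_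
    rw [Pi.mul_apply, Pi.mulSingle_eq_of_ne (Finset.ne_of_mem_erase hl), mul_one]
  rw [Finset.sum_congr rfl fun v _ => e v, ← Finset.sum_mul,
    sum_coset_eq_zero (hc' k) N h, zero_mul]

/-! ### Existence of a cuspidal support -/

variable {c}

/-- The refinement splitting the block `k` before `m`. -/
def splitLabel (k : Fin c.K) (m : ℕ) (i : Fin n) : Fin (c.K + 1) :=
  ⟨(c.blk i : ℕ) + (if k < c.blk i ∨ (c.blk i = k ∧ m ≤ ((c.e.symm i).2 : ℕ)) then 1 else 0), by
    have := (c.blk i).2
    split_ifs <;> omega⟩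

theorem splitLabel_mono (k : Fin c.K) (m : ℕ) : Monotone (splitLabel (c := c) k m) := by
  intro i j hij
  have hb := c.blk_mono hij
  show _ ≤ _
  rw [Fin.le_def]
  simp only [splitLabel]
  rw [Fin.le_def] at hb
  split_ifs with h1 h2 h2 <;> try omega
  rcases Nat.lt_or_ge (c.blk i : ℕ) (c.blk j) with h | h
  · omega
  · exfalso
    have heq : c.blk i = c.blk j := Fin.ext (by omega)
    apply h2
    rcases h1 with h1 | ⟨h1, h1'⟩
    · exact Or.inl (heq ▸ h1)
    · refine Or.inr ⟨heq ▸ h1, ?_⟩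
      obtain ⟨⟨a, x⟩, rfl⟩ := c.e.surjective i
      obtain ⟨⟨b, y⟩, rfl⟩ := c.e.surjective j
      simp only [c.blk_e] at heq
      subst heq
      rw [c.snd_e] at h1' ⊢
      have hxy : x ≤ y := not_lt.mp fun hlt => absurd hij (not_le.mpr (c.within _ _ _ hlt))
      exact h1'.trans (Fin.le_def.mp hxy)

theorem splitLabel_surj (k : Fin c.K) {m : ℕ} (h0 : 0 < m) (h1 : m < c.d k) :
    Function.Surjective (splitLabel (c := c) k m) := by
  intro l
  rcases Nat.lt_or_ge (l : ℕ) k with h | h
  · refine ⟨c.e ⟨⟨l, h.trans k.2⟩, ⟨0, c.pos _⟩⟩, Fin.ext ?_⟩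
    simp only [splitLabel, c.blk_e, c.snd_e]
    rw [if_neg]
    · rfl
    · rintro (h' | ⟨h', -⟩)
      · rw [Fin.lt_def] at h'; simp at h'; omega
      · have := congrArg Fin.val h'; simp at this; omega
  rcases h.eq_or_lt with e | h'
  · refine ⟨c.e ⟨k, ⟨0, c.pos k⟩⟩, Fin.ext ?_⟩
    simp only [splitLabel, c.blk_e, c.snd_e]
    rw [if_neg]
    · simpa using e
    · rintro (h'' | ⟨-, h''⟩)
      · exact lt_irrefl _ h''
      · omega
  · have hl : (l : ℕ) - 1 < c.K := by have := l.2; omega
    rcases Nat.lt_or_ge (k : ℕ) ((l : ℕ) - 1) with h'' | h''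
    · refine ⟨c.e ⟨⟨(l : ℕ) - 1, hl⟩, ⟨0, c.pos _⟩⟩, Fin.ext ?_⟩
      simp only [splitLabel, c.blk_e, c.snd_e]
      rw [if_pos (Or.inl (Fin.lt_def.mpr h''))]
      omega
    · refine ⟨c.e ⟨k, ⟨m, h1⟩⟩, Fin.ext ?_⟩
      simp only [splitLabel, c.blk_e, c.snd_e]
      rw [if_pos (by simp)]
      omega

noncomputable instance fintypeParab (c : Comp n) : Fintype (parab F c) := Fintype.ofFinite _

noncomputable instance fintypeRad (c : Comp n) : Fintype (rad F c) := Fintype.ofFinite _

/-- The average over the unipotent radical. -/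
noncomputable def avgRad (c : Comp n) (π : GL (Fin n) F → ℂ) : Levi F c → ℂ := fun x =>
  (Nat.card (rad F c) : ℂ)⁻¹ * ∑ u : rad F c, π ((embP c x * u : parab F c) : GL (Fin n) F)

theorem avgRad_isClassFunction {π : GL (Fin n) F → ℂ} (hπc : Cfsg.IsClassFunction (GL (Fin n) F) π) :
    Cfsg.IsClassFunction (Levi F c) (avgRad c π) := by
  intro g h
  show _ * _ = _ * _
  congr 1
  haveI : (rad F c).Normal := MonoidHom.normal_ker _
  let Φ : rad F c ≃ rad F c :=
    { toFun := fun u => ⟨(embP c h)⁻¹ * u * embP c h, by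
        simpa using (Subgroup.Normal.conj_mem (inferInstance : (rad F c).Normal) _ u.2 (embP c h)⁻¹)⟩
      invFun := fun u => ⟨embP c h * u * (embP c h)⁻¹,
        Subgroup.Normal.conj_mem (inferInstance : (rad F c).Normal) _ u.2 _⟩
      left_inv := fun u => Subtype.ext (by group)
      right_inv := fun u => Subtype.ext (by group) }
  refine Fintype.sum_equiv Φ _ _ fun u => ?_
  show π _ = π ((embP c g * ((embP c h)⁻¹ * u * embP c h) : parab F c) : GL (Fin n) F)
  rw [← hπc _ ((embP c h : parab F c) : GL (Fin n) F)⁻¹]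
  congr 1
  simp only [map_mul, map_inv, Subgroup.coe_mul, Subgroup.coe_inv, inv_inv]
  group

theorem avgRad_inner (π : GL (Fin n) F → ℂ) (χ : Levi F c → ℂ) :
    Cfsg.classInner (avgRad c π) χ = Cfsg.classInner (fun p : parab F c => π p) (χ ∘ proj c) := by
  have e : ∀ (x : Levi F c) (u : rad F c), proj c (embP c x * (u : parab F c)) = x := fun x u => by
    rw [map_mul, proj_embP, MonoidHom.mem_ker.mp u.2, mul_one]
  simp only [CfsgLib.Char.classInner_def, avgRad, sum_parab c, Function.comp_apply, e]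
  rw [← Nat.card_congr (leviEquiv c), Nat.card_prod, Nat.cast_mul, mul_inv]
  simp only [Finset.mul_sum, Finset.sum_mul]
  exact Finset.sum_congr rfl fun x _ => Finset.sum_congr rfl fun u _ => by ring

theorem avgRad_isCharacter {π : GL (Fin n) F → ℂ} (hπ : Cfsg.IsCharacter (GL (Fin n) F) π)
    (hπc : Cfsg.IsClassFunction (GL (Fin n) F) π) :
    Cfsg.IsCharacter (Levi F c) (avgRad c π) :=
  CfsgLib.Char.isCharacter_of_nat (avgRad_isClassFunction hπc) fun χ hχ => by
    rw [avgRad_inner]
    exact CfsgLib.Char.classInner_isCharacter_nat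
      (CfsgLib.Char.isCharacter_restrict hπ _)
      (CfsgLib.Char.isCharacter_comp (CfsgLib.Char.irr_isCharacter hχ) _)

/-- A product of irreducible characters occurs in every class function not killing `1`. -/
theorem exists_outer_constituent {f : Levi F c → ℂ} (hf : f 1 ≠ 0) :
    ∃ σ : ∀ k : Fin c.K, GL (Fin (c.d k)) F → ℂ,
      (∀ k, Cfsg.IsIrrCharacter (GL (Fin (c.d k)) F) (σ k)) ∧ Cfsg.classInner f (outer c σ) ≠ 0 := by
  classical
  by_contra hall
  push Not at hall
  refine hf ?_
  haveI : ∀ k : Fin c.K, Fintype (Cfsg.IrrCharacter (GL (Fin (c.d k)) F)) := fun k => Fintype.ofFinite _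
  have h0 : ∑ χ : (∀ k : Fin c.K, Cfsg.IrrCharacter (GL (Fin (c.d k)) F)),
      Cfsg.classInner f (outer c fun k => (χ k : GL (Fin (c.d k)) F → ℂ)) *
        outer c (fun k => (χ k : GL (Fin (c.d k)) F → ℂ)) 1 = 0 :=
    Finset.sum_eq_zero fun χ _ => by rw [hall _ fun k => (χ k).2, zero_mul]
  simp only [CfsgLib.Char.classInner_def, mul_assoc, Finset.sum_mul] at h0
  rw [← Finset.mul_sum, Finset.sum_comm] at h0
  have hkey : ∀ x : Levi F c, ∑ χ : (∀ k : Fin c.K, Cfsg.IrrCharacter (GL (Fin (c.d k)) F)),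
      f x * (conj (outer c (fun k => (χ k : GL (Fin (c.d k)) F → ℂ)) x) *
        outer c (fun k => (χ k : GL (Fin (c.d k)) F → ℂ)) 1) =
      f x * ∏ k, (if x k = 1 then (Nat.card (GL (Fin (c.d k)) F) : ℂ) else 0) := by
    intro x
    rw [← Finset.mul_sum]
    congr 1
    simp only [outer, map_prod, ← Finset.prod_mul_distrib, Pi.one_apply]
    rw [← Fintype.prod_sum (f := fun k (χ : Cfsg.IrrCharacter (GL (Fin (c.d k)) F)) =>
      conj ((χ : GL (Fin (c.d k)) F → ℂ) (x k)) * (χ : GL (Fin (c.d k)) F → ℂ) 1)]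
    refine Finset.prod_congr rfl fun k _ => ?_
    have h := congrArg conj (CfsgLib.Char.sum_irr_mul_degree (x k))
    rw [map_sum] at h
    simp only [apply_ite conj, map_natCast, map_zero, map_mul] at h
    rw [← h]
    refine Finset.sum_congr rfl fun χ _ => ?_
    obtain ⟨d, hd⟩ := CfsgLib.Char.char_apply_one_eq_nat (CfsgLib.Char.irr_isCharacter χ.2)
    rw [hd, map_natCast, mul_comm]
  rw [Finset.sum_congr rfl fun x _ => hkey x, Finset.sum_eq_single 1] at h0
  · simp only [Pi.one_apply, if_true] at h0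
    rcases mul_eq_zero.mp h0 with h | h
    · exact absurd h (inv_ne_zero (by exact_mod_cast Nat.card_pos.ne'))
    rcases mul_eq_zero.mp h with h | h
    · exact h
    · exact absurd h (Finset.prod_ne_zero_iff.mpr fun k _ => by exact_mod_cast Nat.card_pos.ne')
  · intro x _ hx
    obtain ⟨k, hk⟩ : ∃ k, x k ≠ 1 := by
      by_contra h; push Not at h; exact hx (funext h)
    rw [Finset.prod_eq_zero (Finset.mem_univ k) (if_neg hk), mul_zero]
  · simp

set_option maxHeartbeats 1000000 in
/-- If the refinement of the block `k` at `m` has no invariants in `π`, then neither does the cut group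
in a constituent of the average. -/
theorem cut_sum_eq_zero {π : GL (Fin n) F → ℂ}
    {σ : ∀ k : Fin c.K, GL (Fin (c.d k)) F → ℂ}
    (hσ : ∀ k, Cfsg.IsIrrCharacter (GL (Fin (c.d k)) F) (σ k))
    (hfchar : Cfsg.IsCharacter (Levi F c) (avgRad c π))
    (hσf : Cfsg.classInner (avgRad c π) (outer c σ) ≠ 0)
    (k : Fin c.K) {m : ℕ} (h0 : 0 < m) (h1 : m < c.d k) [Fintype (cutGrp F (c.d k) m)]
    (hz : ∑ w : rad F (Comp.ofLabel (splitLabel k m) (splitLabel_mono k m) (splitLabel_surj k h0 h1)),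
      π ((w : parab F (Comp.ofLabel (splitLabel k m) (splitLabel_mono k m) (splitLabel_surj k h0 h1))) :
        GL (Fin n) F) = 0) :
    ∑ v : cutGrp F (c.d k) m, σ k v = 0 := by
  classical
  let b := splitLabel (c := c) k m
  let c' := Comp.ofLabel b (splitLabel_mono k m) (splitLabel_surj k h0 h1)
  have hblk : ∀ i, c'.blk i = b i := Comp.blk_ofLabel _ _ _
  let N := cutGrp F (c.d k) m
  have hbase : ∀ i j, c.blk j < c.blk i → b j < b i := fun i j h => by
    show splitLabel k m j < splitLabel k m i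
    rw [Fin.lt_def] at h ⊢
    simp only [splitLabel]
    split_ifs with a a' a' <;> try omega
  have hinblock : ∀ (a b' : Fin (c.d k)),
      (b (c.e ⟨k, b'⟩) ≤ b (c.e ⟨k, a⟩)) ↔ ¬ ((a : ℕ) < m ∧ m ≤ (b' : ℕ)) := by
    intro a b'
    show splitLabel k m _ ≤ splitLabel k m _ ↔ _
    rw [Fin.le_def]
    simp only [splitLabel, c.blk_e, c.snd_e, lt_irrefl, false_or, true_and]
    split_ifs <;> omega
  have hentry : ∀ (v : GL (Fin (c.d k)) F) (u : rad F c) (i j : Fin n), c.blk i = c.blk j →
      mat ((single c k v * u : parab F c) : GL (Fin n) F) i j =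
        mat (single c k v : GL (Fin n) F) i j := by
    intro v u i j hij
    obtain ⟨⟨l, a⟩, rfl⟩ := c.e.surjective i
    obtain ⟨⟨l', a'⟩, rfl⟩ := c.e.surjective j
    rw [c.blk_e, c.blk_e] at hij
    subst hij
    rw [← mat_proj, map_mul, MonoidHom.mem_ker.mp u.2, mul_one, mat_proj]
  have hin : ∀ (v : N) (u : rad F c),
      ((single c k (v : GL (Fin (c.d k)) F) * u : parab F c) : GL (Fin n) F) ∈ parab F c' ∧
      ∀ i j, b j ≤ b i → mat ((single c k (v : GL (Fin (c.d k)) F) * u : parab F c) : GL (Fin n) F) i j =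
        (1 : Matrix (Fin n) (Fin n) F) i j := by
    intro v u
    have h2 : ∀ i j, b j ≤ b i → mat ((single c k (v : GL (Fin (c.d k)) F) * u : parab F c) : GL (Fin n) F) i j =
        (1 : Matrix (Fin n) (Fin n) F) i j := by
      intro i j hji
      rcases lt_trichotomy (c.blk i) (c.blk j) with h | h | h
      · exact absurd (hbase j i h) (not_lt.mpr hji)
      · rw [hentry _ u i j h]
        by_cases hk' : c.blk i = k
        · obtain ⟨⟨l, a⟩, rfl⟩ := c.e.surjective i
          obtain ⟨⟨l', a'⟩, rfl⟩ := c.e.surjective j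
          rw [c.blk_e, c.blk_e] at h
          rw [c.blk_e] at hk'
          subst hk' h
          show mat (emb c (Pi.mulSingle l (v : GL (Fin (c.d l)) F))) _ _ = _
          rw [emb_same, Pi.mulSingle_eq_same, mem_cutGrp.mp v.2 a a' ((hinblock a a').mp hji)]
          simp [Matrix.one_apply]
        · exact single_apply_off c k _ fun hh => hk' hh.1
      · rw [mem_parab.mp (single c k (v : GL (Fin (c.d k)) F) * u : parab F c).2 i j h,
          Matrix.one_apply_ne]
        rintro rfl
        exact lt_irrefl _ h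
    refine ⟨mem_parab.mpr fun i j hji => ?_, h2⟩
    rw [hblk, hblk] at hji
    rw [h2 i j hji.le, Matrix.one_apply_ne]
    rintro rfl
    exact lt_irrefl _ hji
  let Φ : N × rad F c → rad F c' := fun x => ⟨⟨_, (hin x.1 x.2).1⟩, (mem_rad c').mpr fun i j hji => by
    rw [hblk, hblk] at hji; exact (hin x.1 x.2).2 i j hji⟩
  have hΦ : Function.Bijective Φ := by
    refine ⟨fun x y hxy => ?_, fun w => ?_⟩
    · have hp : single c k (x.1 : GL (Fin (c.d k)) F) * (x.2 : parab F c) =
          single c k (y.1 : GL (Fin (c.d k)) F) * y.2 :=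
        Subtype.ext (congrArg (fun w : rad F c' => ((w : parab F c') : GL (Fin n) F)) hxy)
      have h1 := congrArg (fun p => proj c p k) hp
      simp only [map_mul, MonoidHom.mem_ker.mp x.2.2, MonoidHom.mem_ker.mp y.2.2, mul_one, proj_single,
        Pi.mulSingle_eq_same] at h1
      have h1' : x.1 = y.1 := Subtype.ext h1
      refine Prod.ext h1' (Subtype.ext ?_)
      rw [h1'] at hp
      exact mul_left_cancel hp
    · have hw := (mem_rad c').mp w.2
      simp only [hblk] at hw
      have hwP : ((w : parab F c') : GL (Fin n) F) ∈ parab F c := mem_parab.mpr fun i j hji => by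
        rw [hw i j (hbase i j hji).le, Matrix.one_apply_ne]
        rintro rfl
        exact lt_irrefl _ hji
      have hvN : proj c ⟨_, hwP⟩ k ∈ N := mem_cutGrp.mpr fun a a' haa => by
        rw [mat_proj, hw _ _ ((hinblock a a').mpr haa)]
        simp [Matrix.one_apply]
      have hone : ∀ l, l ≠ k → proj c ⟨_, hwP⟩ l = 1 := fun l hl => mat_inj fun a a' => by
        rw [mat_proj, hw _ _ ?_]
        · show _ = (1 : Matrix (Fin (c.d l)) (Fin (c.d l)) F) a a'
          simp [Matrix.one_apply]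
        · show splitLabel k m _ ≤ splitLabel k m _
          rw [Fin.le_def]
          simp only [splitLabel, c.blk_e, hl, false_and, or_false]
          exact le_rfl
      refine ⟨(⟨_, hvN⟩, ⟨(single c k (proj c ⟨_, hwP⟩ k))⁻¹ * ⟨_, hwP⟩, MonoidHom.mem_ker.mpr ?_⟩),
        Subtype.ext (Subtype.ext ?_)⟩
      · rw [map_mul, map_inv, proj_single]
        funext l
        rw [Pi.mul_apply, Pi.inv_apply]
        by_cases hl : l = k
        · subst hl; rw [Pi.mulSingle_eq_same, inv_mul_cancel]; rfl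
        · rw [Pi.mulSingle_eq_of_ne hl, hone l hl, inv_one, one_mul]; rfl
      · show ((single c k (proj c ⟨_, hwP⟩ k) * ((single c k (proj c ⟨_, hwP⟩ k))⁻¹ * ⟨_, hwP⟩) :
          parab F c) : GL (Fin n) F) = _
        rw [mul_inv_cancel_left]
  have hsum : ∑ v : N, avgRad c π (Pi.mulSingle k (v : GL (Fin (c.d k)) F)) = 0 := by
    show ∑ v : N, (Nat.card (rad F c) : ℂ)⁻¹ * _ = 0
    rw [← Finset.mul_sum, ← Fintype.sum_prod_type']
    refine mul_eq_zero_of_right _ (Eq.trans ?_ hz)
    exact Fintype.sum_bijective Φ hΦ _ _ fun _ => rfl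
  -- pass to the constituent
  have hirr := outer_isIrr c σ hσ
  obtain hrest := CfsgLib.Char.isCharacter_sub_of_constituent hfchar hirr hσf
  let ι : N →* Levi F c := (MonoidHom.mulSingle (fun k => GL (Fin (c.d k)) F) k).comp N.subtype
  have hnat : ∀ φ : Levi F c → ℂ, Cfsg.IsCharacter (Levi F c) φ → ∃ t : ℕ,
      ∑ v : N, φ (Pi.mulSingle k (v : GL (Fin (c.d k)) F)) = (Nat.card N : ℂ) * t := by
    intro φ hφ
    obtain ⟨t, ht⟩ := CfsgLib.Char.classInner_isCharacter_nat
      (CfsgLib.Char.isCharacter_comp hφ ι) (CfsgLib.Char.isCharacter_one (G := N))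
    refine ⟨t, ?_⟩
    rw [← ht, CfsgLib.Char.classInner_def, ← mul_assoc,
      mul_inv_cancel₀ (by exact_mod_cast Nat.card_pos.ne'), one_mul]
    simp [ι]
  obtain ⟨t₁, ht₁⟩ := hnat _ (CfsgLib.Char.irr_isCharacter hirr)
  obtain ⟨t₂, ht₂⟩ := hnat _ hrest
  have h12 : (Nat.card N : ℂ) * ((t₁ + t₂ : ℕ) : ℂ) = 0 := by
    rw [Nat.cast_add, mul_add, ← ht₁, ← ht₂, ← Finset.sum_add_distrib, ← hsum]
    refine Finset.sum_congr rfl fun v _ => ?_
    simp
  have ht : t₁ + t₂ = 0 := by
    have := (mul_eq_zero.mp h12).resolve_left (by exact_mod_cast Nat.card_pos.ne')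
    exact_mod_cast this
  obtain rfl : t₁ = 0 := by omega
  rw [Nat.cast_zero, mul_zero] at ht₁
  have e : ∀ v : N, outer c σ (Pi.mulSingle k (v : GL (Fin (c.d k)) F)) =
      σ k v * ∏ l ∈ Finset.univ.erase k, σ l 1 := fun v => by
    rw [outer, ← Finset.mul_prod_erase _ _ (Finset.mem_univ k), Pi.mulSingle_eq_same]
    congr 1
    exact Finset.prod_congr rfl fun l hl => by rw [Pi.mulSingle_eq_of_ne (Finset.ne_of_mem_erase hl)]
  rw [Finset.sum_congr rfl fun v _ => e v, ← Finset.sum_mul] at ht₁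
  exact (mul_eq_zero.mp ht₁).resolve_right
    (Finset.prod_ne_zero_iff.mpr fun l _ => CfsgLib.Char.irr_apply_one_ne_zero (hσ l))

theorem exists_support (hn : 1 ≤ n) {π : GL (Fin n) F → ℂ}
    (hπ : Cfsg.IsIrrCharacter (GL (Fin n) F) π) :
    ∃ (c : Comp n) (σ : ∀ k : Fin c.K, GL (Fin (c.d k)) F → ℂ),
      (∀ k, Cfsg.IsIrrCharacter (GL (Fin (c.d k)) F) (σ k) ∧ Cuspidal (σ k)) ∧
      Cfsg.classInner (hc c σ) π ≠ 0 := by
  classical
  let Good : Comp n → Prop := fun c => ∑ u : rad F c, π ((u : parab F c) : GL (Fin n) F) ≠ 0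
  let c₀ : Comp n :=
    { K := 1
      d := fun _ => n
      pos := fun _ => hn
      e :=
        { toFun := fun x => x.2
          invFun := fun i => ⟨0, i⟩
          left_inv := fun ⟨k, i⟩ => by rw [Subsingleton.elim k 0]
          right_inv := fun i => rfl }
      mono := fun x y h => absurd h (by have := x.1.2; have := y.1.2; rw [Fin.lt_def]; omega)
      within := fun k i j h => h }
  have hb0 : ∀ i j : Fin n, c₀.blk i = c₀.blk j := fun i j => Subsingleton.elim (α := Fin 1) _ _
  have hc₀ : Good c₀ := by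
    show _ ≠ (0 : ℂ)
    have hone : ∀ u : rad F c₀, ((u : parab F c₀) : GL (Fin n) F) = 1 := fun u => mat_inj fun i j =>
      (mem_rad c₀).mp u.2 i j (le_of_eq (hb0 j i))
    rw [Finset.sum_congr rfl fun u _ => by rw [hone u], Finset.sum_const, Finset.card_univ, nsmul_eq_mul]
    exact mul_ne_zero (by exact_mod_cast Fintype.card_ne_zero) (CfsgLib.Char.irr_apply_one_ne_zero hπ)
  have hne : ∃ t, ∃ c : Comp n, Good c ∧ n - c.K = t := ⟨_, c₀, hc₀, rfl⟩
  obtain ⟨c, hgood, hK⟩ := Nat.find_spec hne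
  have hmax : ∀ c' : Comp n, c.K < c'.K → ¬ Good c' := by
    intro c' hlt hg
    have h := Nat.find_min' hne (m := n - c'.K) ⟨c', hg, rfl⟩
    have := c.K_le
    have := c'.K_le
    omega
  have hπc := CfsgLib.Char.irr_isClassFunction hπ
  have hfchar := avgRad_isCharacter (c := c) (CfsgLib.Char.irr_isCharacter hπ) hπc
  obtain ⟨σ, hσ, hσf⟩ := exists_outer_constituent (c := c) (f := avgRad c π) (by
    rw [avgRad]
    refine mul_ne_zero (inv_ne_zero (by exact_mod_cast Nat.card_pos.ne')) ?_
    simpa using hgood)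
  refine ⟨c, σ, fun k => ⟨hσ k, Cuspidal.intro fun m h0 h1 inst => @cut_sum_eq_zero _ _ _ _ _ c π σ hσ hfchar hσf k m h0 h1 inst
    (not_not.mp (hmax _ (Nat.lt_succ_self c.K)))⟩, ?_⟩
  rw [hc, CfsgLib.Char.frobenius_reciprocity _ _ _ hπc, ← CfsgLib.Char.classInner_conj_symm,
    ← show Cfsg.classInner (avgRad c π) (outer c σ) =
        Cfsg.classInner (fun p : parab F c => π p) (infl c σ) from avgRad_inner π _]
  exact fun h => hσf (by simpa using h)

end CfsgLib.KnownB.Cusp
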