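import Cfsg.Agent.Lib.KnownB.D4SingerComb
import Cfsg.Agent.Lib.Chev.SL2Hom
import Cfsg.Agent.Lib.Chev.TwistH
import Cfsg.Agent.Lib.Classical.ChevFieldFix
import Mathlib.FieldTheory.Finite.Extension

/-!
The self-centralising cyclic subgroup of order `(q³ − 1)(q + 1)` of the group ³D₄(q).
-/

set_option autoImplicit false
set_option maxHeartbeats 1000000
set_option maxRecDepth 20000

namespace CfsgLib.KnownB.D4Singer

open Cfsg.Lie CfsgLib.Chev Matrix

universe u

section Field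

variable {F : Type u} [Field F]

theorem rootVal_simple (c : Fin chevD4.rank → Fˣ) :
    rootVal c 18 = c ⟨0, by decide⟩ ^ 2 * (c ⟨1, by decide⟩)⁻¹ ∧
    rootVal c 14 = c ⟨1, by decide⟩ ^ 2 *
      (c ⟨0, by decide⟩ * c ⟨2, by decide⟩ * c ⟨3, by decide⟩)⁻¹ ∧
    rootVal c 13 = c ⟨2, by decide⟩ ^ 2 * (c ⟨1, by decide⟩)⁻¹ ∧
    rootVal c 12 = c ⟨3, by decide⟩ ^ 2 * (c ⟨1, by decide⟩)⁻¹ := by
  have h : ∀ s : Fin 24, rootVal c s =
      c ⟨0, by decide⟩ ^ chevD4.cartan 0 s * c ⟨1, by decide⟩ ^ chevD4.cartan 1 s *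
      c ⟨2, by decide⟩ ^ chevD4.cartan 2 s * c ⟨3, by decide⟩ ^ chevD4.cartan 3 s := fun s => by
    show (∏ i : Fin 4, c i ^ chevD4.cartan i s) = _
    rw [Fin.prod_univ_four]
    rfl
  refine ⟨?_, ?_, ?_, ?_⟩ <;> rw [h] <;>
    simp [show ∀ i r : ℕ, chevD4.cartan i r = (chevD4CartanSR.getD i #[]).getD r 0 from fun _ _ => rfl,
      chevD4CartanSR, zpow_ofNat] <;> ac_rfl

theorem torHom_root (c : Fin chevD4.rank → Fˣ) (s : Fin 24) :
    ((torHom chevD4 F c : GL chevD4.Idx F) : Matrix chevD4.Idx chevD4.Idx F) (Sum.inr s) (Sum.inr s) =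
      (rootVal c s : F) := by
  rw [torHom_apply, Matrix.diagonal_apply_eq]
  rfl

theorem rootVal_of_eq {c c' : Fin chevD4.rank → Fˣ} (h : torHom chevD4 F c = torHom chevD4 F c')
    (s : Fin 24) : rootVal c s = rootVal c' s :=
  Units.ext (by rw [← torHom_root, h, torHom_root])

theorem torHom_eq_of_simple {c c' : Fin chevD4.rank → Fˣ} (h1 : rootVal c 18 = rootVal c' 18)
    (h2 : rootVal c 14 = rootVal c' 14) (h3 : rootVal c 13 = rootVal c' 13)
    (h4 : rootVal c 12 = rootVal c' 12) : torHom chevD4 F c = torHom chevD4 F c' := by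
  refine Units.ext ?_
  rw [torHom_apply, torHom_apply]
  congr 1
  funext a
  rcases a with i | s
  · simp [torExp]
  · show ((rootVal c s : Fˣ) : F) = (rootVal c' s : Fˣ)
    rw [rootVal_co c s, rootVal_co c' s, h1, h2, h3, h4]

theorem rootVal_mul (c c' : Fin chevD4.rank → Fˣ) (s : Fin 24) :
    rootVal (c * c') s = rootVal c s * rootVal c' s := by
  simp [rootVal, mul_zpow, Finset.prod_mul_distrib]

theorem rootVal_one (s : Fin 24) : rootVal (1 : Fin chevD4.rank → Fˣ) s = 1 := by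
  simp [rootVal]

theorem xG_cancel {r : ℕ} (hr : r < chevD4.nroots) {s t : F} (h : goodD4.xG r s = goodD4.xG r t) :
    s = t := by
  have h3 : goodD4.xG r (s + -t) = 1 := by
    rw [← goodD4.xG_add, h, goodD4.xG_add, add_neg_cancel, goodD4.xG_zero]
  have := (goodD4.x_eq_one_iff hr _).1 (congrArg Units.val h3)
  rwa [← sub_eq_add_neg, sub_eq_zero] at this

/-- The rank-one subgroup of the central node. -/
noncomputable def psi : Matrix.SpecialLinearGroup (Fin 2) F →* GL chevD4.Idx F :=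
  (goodD4.sl2Rel_simple (F := F) (i := 1) (by decide)).hom

theorem psi_U (t : F) : psi (slU t) = goodD4.xG (14 : ℕ) t :=
  (goodD4.sl2Rel_simple (F := F) (i := 1) (by decide)).hom_U t

theorem psi_L (t : F) : psi (slL t) = goodD4.xG (9 : ℕ) t :=
  (goodD4.sl2Rel_simple (F := F) (i := 1) (by decide)).hom_L t

theorem psi_D (t : Fˣ) : psi (slD t) = goodD4.hG (14 : ℕ) t :=
  (goodD4.sl2Rel_simple (F := F) (i := 1) (by decide)).hom_D t

theorem psi_DW (t : Fˣ) : psi (slD t * slW) = goodD4.nG (14 : ℕ) t := by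
  rw [map_mul, psi_D, goodD4.nG_eq_hG_mul (by decide) t]
  congr 1
  exact (goodD4.sl2Rel_simple (F := F) (i := 1) (by decide)).hom_W

/-- An identity of homomorphisms out of SL₂ from the generators. -/
theorem sl2_ext {G : Type*} [Group G] {f f' : Matrix.SpecialLinearGroup (Fin 2) F →* G}
    (hU : ∀ t, f (slU t) = f' (slU t)) (hL : ∀ t, f (slL t) = f' (slL t)) : f = f' :=
  MonoidHom.eq_of_eqOn_dense (closure_slU_slL F) (by
    rintro x (⟨t, rfl⟩ | ⟨t, rfl⟩)
    · exact hU t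
    · exact hL t)

theorem psi_mem (A : Matrix.SpecialLinearGroup (Fin 2) F) : psi A ∈ chevD4.group F := by
  have h : A ∈ Subgroup.closure (Set.range (slU (F := F)) ∪ Set.range slL) := by
    rw [closure_slU_slL]; trivial
  induction h using Subgroup.closure_induction with
  | mem x hx =>
    rcases hx with ⟨t, rfl⟩ | ⟨t, rfl⟩
    · rw [psi_U]; exact goodD4.xG_mem_group (by decide) t
    · rw [psi_L]; exact goodD4.xG_mem_group (by decide) t
  | one => rw [map_one]; exact one_mem _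
  | mul x y _ _ hx hy => rw [map_mul]; exact mul_mem hx hy
  | inv x _ hx => rw [map_inv]; exact inv_mem hx

/-- The automorphism of SL₂ by a diagonal element. -/
def slScale (n : Fˣ) : Matrix.SpecialLinearGroup (Fin 2) F →* Matrix.SpecialLinearGroup (Fin 2) F where
  toFun A := ⟨!![A.1 0 0, (n : F) * A.1 0 1; ((n⁻¹ : Fˣ) : F) * A.1 1 0, A.1 1 1], by
    have h := A.2
    rw [Matrix.det_fin_two] at h
    rw [Matrix.det_fin_two_of]
    linear_combination h - A.1 0 1 * A.1 1 0 * Units.mul_inv n⟩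
  map_one' := Subtype.ext (by simp [Matrix.one_fin_two])
  map_mul' A B := Subtype.ext (by
    show (!![(A.1 * B.1) 0 0, (n : F) * (A.1 * B.1) 0 1; ((n⁻¹ : Fˣ) : F) * (A.1 * B.1) 1 0, (A.1 * B.1) 1 1] :
        Matrix (Fin 2) (Fin 2) F) =
      !![A.1 0 0, (n : F) * A.1 0 1; ((n⁻¹ : Fˣ) : F) * A.1 1 0, A.1 1 1] *
        !![B.1 0 0, (n : F) * B.1 0 1; ((n⁻¹ : Fˣ) : F) * B.1 1 0, B.1 1 1]
    have hn := n.ne_zero
    ext a b
    fin_cases a <;> fin_cases b <;> simp [Matrix.mul_apply, Fin.sum_univ_two, Units.val_inv_eq_inv_val] <;>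
      field_simp <;> ring1)

theorem slScale_val (n : Fˣ) (A : Matrix.SpecialLinearGroup (Fin 2) F) :
    (slScale n A).1 = !![A.1 0 0, (n : F) * A.1 0 1; ((n⁻¹ : Fˣ) : F) * A.1 1 0, A.1 1 1] := rfl

theorem torHom_conj_psi (c : Fin chevD4.rank → Fˣ) (A : Matrix.SpecialLinearGroup (Fin 2) F) :
    torHom chevD4 F c * psi A * (torHom chevD4 F c)⁻¹ = psi (slScale (rootVal c 14) A) := by
  suffices H : (MulAut.conj (torHom chevD4 F c)).toMonoidHom.comp psi = psi.comp (slScale (rootVal c 14)) from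
    DFunLike.congr_fun H A
  refine sl2_ext (fun t => ?_) (fun t => ?_)
  · simp only [MonoidHom.comp_apply, MulEquiv.coe_toMonoidHom, MulAut.conj_apply]
    rw [show slScale (rootVal c 14) (slU t) = slU ((rootVal c 14 : F) * t) from
      Subtype.ext (by show (slScale _ (slU t)).1 = _; rw [slScale_val]; simp [slU]),
      psi_U, psi_U, goodD4.torHom_conj_xG c (by decide)]
    rfl
  · simp only [MonoidHom.comp_apply, MulEquiv.coe_toMonoidHom, MulAut.conj_apply]
    rw [show slScale (rootVal c 14) (slL t) = slL (((rootVal c 14)⁻¹ : Fˣ) * t) from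
      Subtype.ext (by show (slScale _ (slL t)).1 = _; rw [slScale_val]; simp [slL]),
      psi_L, psi_L, goodD4.torHom_conj_xG c (by decide)]
    congr 3
    rw [show (rootVal c 14)⁻¹ = rootVal c 9 by
      rw [rootVal_co c 9]; simp [coD]]
    rfl

theorem map_slU {K : Type*} [Field K] (f : F →+* K) (t : F) :
    Matrix.SpecialLinearGroup.map f (slU t) = slU (f t) := Subtype.ext (by
  ext i j
  show f ((slU t).1 i j) = _
  fin_cases i <;> fin_cases j <;> simp [slU])

theorem map_slL {K : Type*} [Field K] (f : F →+* K) (t : F) :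
    Matrix.SpecialLinearGroup.map f (slL t) = slL (f t) := Subtype.ext (by
  ext i j
  show f ((slL t).1 i j) = _
  fin_cases i <;> fin_cases j <;> simp [slL])

theorem map_psi {K : Type*} [Field K] (f : F →+* K) (A : Matrix.SpecialLinearGroup (Fin 2) F) :
    Matrix.GeneralLinearGroup.map f (psi A) = psi (Matrix.SpecialLinearGroup.map f A) := by
  suffices H : (Matrix.GeneralLinearGroup.map f).comp psi = psi.comp (Matrix.SpecialLinearGroup.map f) from
    DFunLike.congr_fun H A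
  refine sl2_ext (fun t => ?_) (fun t => ?_)
  · rw [MonoidHom.comp_apply, MonoidHom.comp_apply, psi_U,
      CfsgLib.Classical.ChevFix.map_xG goodD4 f (by decide),
      map_slU, psi_U]
  · rw [MonoidHom.comp_apply, MonoidHom.comp_apply, psi_L,
      CfsgLib.Classical.ChevFix.map_xG goodD4 f (by decide),
      map_slL, psi_L]

/-- The key identity in SL₂. -/
theorem sl2_key {b c d : F} (hb : b ≠ 0) (hc : c ≠ 0) (hd : d * (b - c) = 1) :
    (!![0, -1; 1, b + c] : Matrix (Fin 2) (Fin 2) F) * !![-c * d, -b; d, 1] =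
      !![-c * d, (b * c)⁻¹ * -b; b * c * d, 1] * !![b * (b * c)⁻¹, 0; 0, b * c * b⁻¹] := by
  ext i j
  fin_cases i <;> fin_cases j <;> simp only [Matrix.mul_apply, Fin.sum_univ_two] <;> simp <;>
    field_simp <;> first | ring1 | linear_combination hd | linear_combination -hd |
      linear_combination b * hd | linear_combination -b * hd

end Field

/-- Conjugation of root elements by an element of the central reflection. -/
theorem nG_conj {F : Type u} [Field F] (δ : Fˣ) (r : Fin 24) :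
    ∃ e : F, e ≠ 0 ∧ ∀ t : F, goodD4.nG (14 : ℕ) δ * goodD4.xG r t * (goodD4.nG (14 : ℕ) δ)⁻¹ =
      goodD4.xG (chevD4.reflectRoot 1 r) (e * t) := by
  have h14 : (14 : ℕ) < chevD4.nroots := by decide
  have hr' : chevD4.reflectRoot 1 r < chevD4.nroots := goodD4.refl_lt (i := 1) (by decide) r.2
  refine ⟨((δ ^ pair chevD4 14 (chevD4.reflectRoot 1 r) : Fˣ) : F) * (goodD4.eta 1 r : F),
    mul_ne_zero (Units.ne_zero _) ?_, fun t => ?_⟩
  · rcases goodD4.eta_sign (i := 1) (by decide) r.2 with h | h <;> simp [h]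
  · rw [goodD4.nG_eq_hG_mul h14, show goodD4.hG (14 : ℕ) δ * goodD4.nG (14 : ℕ) 1 * goodD4.xG r t *
      (goodD4.hG (14 : ℕ) δ * goodD4.nG (14 : ℕ) 1)⁻¹ = goodD4.hG (14 : ℕ) δ *
      (goodD4.nG (14 : ℕ) 1 * goodD4.xG r t * (goodD4.nG (14 : ℕ) 1)⁻¹) * (goodD4.hG (14 : ℕ) δ)⁻¹ by group]
    have := goodD4.nG_conj_xG (F := F) (i := 1) (by decide) r.2 t
    rw [show chevD4.simple 1 = 14 from rfl] at this
    rw [this, goodD4.hG_conj_xG hr', mul_assoc]

theorem rho_values :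
    ((rootSymOf goodD4 checksD4 structChecksD4 rhoD4_ok).ρ (18 : Fin 24)).val = 13 ∧
    ((rootSymOf goodD4 checksD4 structChecksD4 rhoD4_ok).ρ (13 : Fin 24)).val = 12 ∧
    ((rootSymOf goodD4 checksD4 structChecksD4 rhoD4_ok).ρ (12 : Fin 24)).val = 18 ∧
    ((rootSymOf goodD4 checksD4 structChecksD4 rhoD4_ok).ρ (14 : Fin 24)).val = 14 ∧
    ((rootSymOf goodD4 checksD4 structChecksD4 rhoD4_ok).ρ (9 : Fin 24)).val = 9 := by
  decide +kernel

theorem refl_values : chevD4.reflectRoot 1 13 = 16 ∧ chevD4.reflectRoot 1 12 = 15 ∧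
    chevD4.reflectRoot 1 18 = 19 ∧ chevD4.reflectRoot 1 14 = 9 := by
  decide +kernel

theorem sign_values : nth 1 rhoD4Sign 18 = 1 ∧ nth 1 rhoD4Sign 13 = 1 ∧ nth 1 rhoD4Sign 12 = 1 ∧
    nth 1 rhoD4Sign 14 = 1 ∧ nth 1 rhoD4Sign 9 = 1 := by
  decide +kernel

section Twist

variable {L : Type u} [Field L] (φ : L →+* L) (T : Twist goodD4 L)
  (hρ : T.ρ = (rootSymOf goodD4 checksD4 structChecksD4 rhoD4_ok).ρ)
  (hf : ∀ s t, T.f s t = (nth 1 rhoD4Sign s : L) * φ t)

include hρ hf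

theorem twist_psi (A : Matrix.SpecialLinearGroup (Fin 2) L) :
    (T.σ ⟨psi A, psi_mem A⟩ : GL chevD4.Idx L) = psi (Matrix.SpecialLinearGroup.map φ A) := by
  suffices H : ((chevD4.group L).subtype.comp T.σ).comp (psi.codRestrict (chevD4.group L) psi_mem) =
      psi.comp (Matrix.SpecialLinearGroup.map φ) from DFunLike.congr_fun H A
  refine sl2_ext (fun t => ?_) (fun t => ?_)
  · show (T.σ ⟨psi (slU t), _⟩ : GL chevD4.Idx L) = psi (Matrix.SpecialLinearGroup.map φ (slU t))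
    have e : (⟨psi (slU t), psi_mem _⟩ : ↥(chevD4.group L)) =
        ⟨goodD4.xG ((14 : Fin 24) : ℕ) t, goodD4.xG_mem_group (by decide) t⟩ := Subtype.ext (psi_U t)
    rw [e, map_slU, psi_U,
      T.σ_x (14 : Fin 24) t, hρ, Fin.ext (b := (14 : Fin 24)) rho_values.2.2.2.1, hf (14 : Fin 24) t]
    rw [show nth 1 rhoD4Sign ((14 : Fin 24) : ℕ) = 1 from sign_values.2.2.2.1, Int.cast_one, one_mul]
    rfl
  · show (T.σ ⟨psi (slL t), _⟩ : GL chevD4.Idx L) = psi (Matrix.SpecialLinearGroup.map φ (slL t))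
    have e : (⟨psi (slL t), psi_mem _⟩ : ↥(chevD4.group L)) =
        ⟨goodD4.xG ((9 : Fin 24) : ℕ) t, goodD4.xG_mem_group (by decide) t⟩ := Subtype.ext (psi_L t)
    rw [e, map_slL, psi_L,
      T.σ_x (9 : Fin 24) t, hρ, Fin.ext (b := (9 : Fin 24)) rho_values.2.2.2.2, hf (9 : Fin 24) t]
    rw [show nth 1 rhoD4Sign ((9 : Fin 24) : ℕ) = 1 from sign_values.2.2.2.2, Int.cast_one, one_mul]
    rfl

/-- The relation between root values imposed by the twisted Frobenius. -/
theorem frob_rel (δ : Lˣ) (c : Fin chevD4.rank → Lˣ)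
    (hfix : goodD4.nG (14 : ℕ) δ *
      (T.σ ⟨torHom chevD4 L c, goodD4.diagonal_le_group (goodD4.torHom_mem c)⟩ : GL chevD4.Idx L) *
        (goodD4.nG (14 : ℕ) δ)⁻¹ = torHom chevD4 L c)
    (s : Fin 24) (r : Fin 24) (hr : chevD4.reflectRoot 1 (T.ρ s : Fin 24) = r)
    (hs : nth 1 rhoD4Sign (s : ℕ) = 1) : (rootVal c r : L) = φ (rootVal c s : L) := by
  set h : ↥(chevD4.group L) := ⟨torHom chevD4 L c, goodD4.diagonal_le_group (goodD4.torHom_mem c)⟩
  set x : L → ↥(chevD4.group L) := fun t => ⟨goodD4.xG s t, goodD4.xG_mem_group s.2 t⟩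
  have h0 : h * x 1 * h⁻¹ = x (rootVal c s : L) := Subtype.ext (by
    show torHom chevD4 L c * goodD4.xG s (1 : L) * (torHom chevD4 L c)⁻¹ = _
    rw [goodD4.torHom_conj_xG c s.2, mul_one]
    rfl)
  have h1 := congrArg (fun w => ((T.σ w : ↥(chevD4.group L)) : GL chevD4.Idx L)) h0
  simp only [map_mul, map_inv, Subgroup.coe_mul, Subgroup.coe_inv, x] at h1
  rw [T.σ_x s, T.σ_x s, hf s, hf s, hs, Int.cast_one, one_mul, one_mul, map_one] at h1
  obtain ⟨e, he0, he⟩ := nG_conj δ (T.ρ s)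
  set σh : GL chevD4.Idx L := ((T.σ h : ↥(chevD4.group L)) : GL chevD4.Idx L)
  set ν := goodD4.nG (F := L) (14 : ℕ) δ
  have h2 : torHom chevD4 L c * goodD4.xG (r : ℕ) (e * 1) * (torHom chevD4 L c)⁻¹ =
      goodD4.xG (r : ℕ) (e * φ (rootVal c s : L)) := by
    rw [← hr, ← he, ← he, ← h1, ← hfix]
    group
  rw [goodD4.torHom_conj_xG c r.2, mul_one] at h2
  have h3 := xG_cancel r.2 h2
  rw [mul_comm e] at h3
  exact mul_right_cancel₀ he0 h3

end Twist

end CfsgLib.KnownB.D4Singer
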