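import Cfsg.Agent.Lib.KnownB.D4MinDegreeCore
import Cfsg.Agent.Lib.KnownB.D4Singer
import Cfsg.Agent.Lib.Chev.TwistHOrders
import Cfsg.Agent.Lib.Chev.TwistPerfect
import Cfsg.Agent.Lib.Char.Integral

/-!
The smallest degree of a nontrivial complex representation of ³D₄(q).
-/

set_option autoImplicit false
set_option maxHeartbeats 1000000
set_option maxRecDepth 20000

namespace CfsgLib.KnownB.D4Deg

open Cfsg.Lie CfsgLib.Chev CfsgLib.KnownB.D4Singer Module

universe u

variable {K : Type u} [Field K]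


/-- The pairs of commuting root groups. -/
def commPair (r s : ℕ) : Prop :=
  r < chevD4.nroots ∧ s < chevD4.nroots ∧ (s = r ∨ (s ≠ chevD4.neg r ∧ chevD4.commTerms r s = []))

instance (r s : ℕ) : Decidable (commPair r s) := by unfold commPair; infer_instance

theorem com {r s : ℕ} (h : commPair r s) (t u : K) : Commute (goodD4.xG r t) (goodD4.xG s u) := by
  obtain ⟨hr, hs, h⟩ := h
  rcases eq_or_ne s r with rfl | hne
  · rw [Commute, SemiconjBy, goodD4.xG_add, goodD4.xG_add, add_comm]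
  obtain ⟨hneg, ht⟩ := h.resolve_left hne
  refine Units.ext ?_
  have h1 := goodD4.comm_formula (hasComm_of_mem (by simp)) hr hs hne hneg t u
  rw [ChevalleyDatum.commWord, ht] at h1
  rw [Units.val_mul, Units.val_mul, goodD4.coe_xG, goodD4.coe_xG, h1, ChevalleyDatum.wordMat]
  simp

/-- The pairs with one commutator term. -/
def commOne (r s k : ℕ) (M : ℤ) : Prop :=
  r < chevD4.nroots ∧ s < chevD4.nroots ∧ s ≠ r ∧ s ≠ chevD4.neg r ∧ chevD4.commTerms r s = [(k, M, 1, 1)]

instance (r s k : ℕ) (M : ℤ) : Decidable (commOne r s k M) := by unfold commOne; infer_instance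

theorem com1 {r s k : ℕ} {M : ℤ} (h : commOne r s k M) (t u : K) :
    goodD4.xG s u * goodD4.xG r t = goodD4.xG r t * goodD4.xG s u * goodD4.xG k ((M : K) * -t * u) := by
  obtain ⟨hr, hs, hne, hneg, ht⟩ := h
  refine Units.ext ?_
  have h1 := goodD4.comm_formula (hasComm_of_mem (by simp)) hr hs hne hneg t u
  rw [ChevalleyDatum.commWord, ht] at h1
  rw [Units.val_mul, Units.val_mul, Units.val_mul, goodD4.coe_xG, goodD4.coe_xG, goodD4.coe_xG, h1,
    ChevalleyDatum.wordMat]
  simp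

theorem com1_conj {r s k : ℕ} {M : ℤ} (h : commOne r s k M) (hk : commPair s k) (t u : K) :
    goodD4.xG s u * goodD4.xG r t * (goodD4.xG s u)⁻¹ = goodD4.xG r t * goodD4.xG k ((M : K) * -t * u) := by
  rw [com1 h, mul_assoc (goodD4.xG r t), (com hk _ _).eq, ← mul_assoc, mul_inv_cancel_right]

theorem com_conj {r s : ℕ} (h : commPair s r) (t u : K) :
    goodD4.xG s u * goodD4.xG r t * (goodD4.xG s u)⁻¹ = goodD4.xG r t := by
  rw [(com h u t).eq, mul_inv_cancel_right]

theorem refl_facts : chevD4.reflectRoot 1 18 = 19 ∧ chevD4.reflectRoot 1 13 = 16 ∧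
    chevD4.reflectRoot 1 12 = 15 ∧ chevD4.reflectRoot 1 22 = 23 := by
  decide +kernel

theorem refl3_facts :
    chevD4.reflectRoot 3 (chevD4.reflectRoot 2 (chevD4.reflectRoot 0 14)) = 22 ∧
    chevD4.reflectRoot 3 (chevD4.reflectRoot 2 (chevD4.reflectRoot 0 15)) = 21 ∧
    chevD4.reflectRoot 3 (chevD4.reflectRoot 2 (chevD4.reflectRoot 0 16)) = 20 ∧
    chevD4.reflectRoot 3 (chevD4.reflectRoot 2 (chevD4.reflectRoot 0 19)) = 17 := by
  decide +kernel

/-- A polynomial of degree below the field size is not zero everywhere. -/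
theorem exists_twist_ne [Fintype K] {q : ℕ} (hq : 2 ≤ q) (hK : Fintype.card K = q ^ 3) (m1 m2 m3 : K)
    (h1 : m1 ≠ 0) : ∃ w : K, m3 * (w ^ q) ^ q + m2 * w ^ q + m1 * w ≠ 0 := by
  classical
  by_contra hall
  push Not at hall
  let P : Polynomial K := Polynomial.C m3 * Polynomial.X ^ (q * q) + Polynomial.C m2 * Polynomial.X ^ q +
    Polynomial.C m1 * Polynomial.X
  have hP : P ≠ 0 := fun h => h1 (by
    have := congrArg (fun p => Polynomial.coeff p 1) h
    simpa [P, Polynomial.coeff_X_pow, Nat.ne_of_lt (show 1 < q by omega),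
      Nat.ne_of_lt (show 1 < q * q by nlinarith)] using this)
  have hd : P.natDegree ≤ q * q := by
    refine le_trans (Polynomial.natDegree_add_le _ _) (max_le (le_trans (Polynomial.natDegree_add_le _ _)
      (max_le (Polynomial.natDegree_C_mul_X_pow_le _ _) ((Polynomial.natDegree_C_mul_X_pow_le _ _).trans ?_))) ?_)
    · exact Nat.le_mul_self q
    · refine (Polynomial.natDegree_C_mul_le _ _).trans ?_
      rw [Polynomial.natDegree_X]
      nlinarith
  have hZ : (Finset.univ : Finset K).val ⊆ P.roots := fun w _ => by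
    rw [Polynomial.mem_roots hP, Polynomial.IsRoot.def]
    simpa [P, pow_mul] using hall w
  have := Polynomial.card_le_degree_of_subset_roots hZ
  rw [Finset.card_univ, hK] at this
  nlinarith [pow_succ q 2, sq q]

variable [Fintype K]

/-- The lower bound for the degree, before using divisibility. -/
theorem min_degree_weak (q : ℕ) (hq : IsPrimePow q) (hK : Fintype.card K = q ^ 3) {M : Type*} [AddCommGroup M]
    [Module ℂ M] [FiniteDimensional ℂ M] (ρ : Representation ℂ ↥(twistedD4 K q) M) (hne : ∃ g, ρ g ≠ 1) :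
    q ^ 5 - q ^ 3 + q - 1 ≤ finrank ℂ M := by
  classical
  have hq2 : 2 ≤ q := hq.two_le
  have hc : HasComm chevD4 := hasComm_of_mem (by simp)
  obtain ⟨A₀, hAG, hAφ, hAS, hAr, hAorb⟩ := exists_setupD4 K hq hK
  obtain ⟨T₀, hT₀ρ, hT₀pi, hT₀f⟩ := exists_twist_rhoD4 A₀.φ
  have hsgn : ∀ i : Fin chevD4.rank, nth 1 rhoD4Sign (chevD4.simple i) = 1 ∧
      nth 1 rhoD4Sign (chevD4.neg (chevD4.simple i)) = 1 := by decide +kernel
  let A : A1Setup goodD4 K :=
    { A₀ with
      T := T₀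
      Tρ := by rw [hT₀ρ, hAS]
      Tpi := by rw [hT₀pi, hAS]
      f_simple := fun i t => ⟨by rw [hT₀f]; simp [Good.sroot, (hsgn i).1],
        by rw [hT₀f]; simp [Good.sroot, Good.nroot, (hsgn i).2]⟩ }
  let φ : K →+* K := A.φ
  have hφ : ∀ t, φ t = t ^ q := hAφ
  have hφ3 : ∀ t, φ (φ (φ t)) = t := fun t => by
    rw [hφ, hφ, hφ, ← pow_mul, ← pow_mul, show q * (q * q) = q ^ 3 by ring, ← hK, FiniteField.pow_card]
  let F : Subfield K := φ.eqLocusField (RingHom.id K)
  have hF : ∀ t : F, φ (t : K) = t := fun t => t.2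
  haveI : Fintype F := Fintype.ofFinite _
  have hcardF : Fintype.card F = q := by
    rw [← card_pow_eq_self (K := K) (j := 3) (by omega : 1 < q) hK, ← Nat.card_eq_fintype_card]
    exact Nat.card_congr (Equiv.subtypeEquivRight fun t => by
      show φ t = t ↔ _
      rw [hφ])
  haveI : IsSimpleGroup ↥(twistedD4 K q) := (twistedD4_simple K hq hK).1
  haveI : Finite ↥(twistedD4 K q) := inferInstance
  have hG1fix : A.G1 ≤ A.T.fixed := A.G1_le_fixed hc
  -- the two reflections
  let o0 : Fin A.r := Fin.cast hAr.symm 0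
  let o1 : Fin A.r := Fin.cast hAr.symm 1
  have horb0 : A.orb o0 = orbD4 0 := hAorb o0
  have horb1 : A.orb o1 = orbD4 1 := hAorb o1
  let n0 : GL chevD4.Idx K := goodD4.wordN (orbD4 0)
  let n1 : GL chevD4.Idx K := goodD4.wordN (orbD4 1)
  have hn0 : n0 ∈ A.G1 := by
    have := A.wordN_mem hc o0; rwa [horb0] at this
  have hn1 : n1 ∈ A.G1 := by
    have := A.wordN_mem hc o1; rwa [horb1] at this
  have hw0 : ∀ s : Fin chevD4.nroots, (goodD4.wperm (orbD4 0) s : ℕ) = chevD4.reflectRoot 1 s := fun s => by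
    simp [orbD4, Good.wperm_cons, Good.wperm_nil, Good.rperm_val]
  have hw1 : ∀ s : Fin chevD4.nroots, (goodD4.wperm (orbD4 1) s : ℕ) =
      chevD4.reflectRoot 3 (chevD4.reflectRoot 2 (chevD4.reflectRoot 0 s)) := fun s => by
    simp [orbD4, Good.wperm_cons, Good.wperm_nil, Good.rperm_val]
  have conj0 : ∀ r k : ℕ, ∀ hr : r < chevD4.nroots, chevD4.reflectRoot 1 r = k → ∃ e : K, e * e = 1 ∧
      ∀ t : K, n0 * goodD4.xG r t * n0⁻¹ = goodD4.xG k (e * t) := fun r k hr hk => by
    obtain ⟨e, he, h⟩ := goodD4.wordN_conj_xG_sign (F := K) (orbD4 0) ⟨r, hr⟩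
    exact ⟨e, he, fun t => by rw [h t, hw0, hk]⟩
  have conj1 : ∀ r k : ℕ, ∀ hr : r < chevD4.nroots,
      chevD4.reflectRoot 3 (chevD4.reflectRoot 2 (chevD4.reflectRoot 0 r)) = k → ∃ e : K, e * e = 1 ∧
      ∀ t : K, n1 * goodD4.xG r t * n1⁻¹ = goodD4.xG k (e * t) := fun r k hr hk => by
    obtain ⟨e, he, h⟩ := goodD4.wordN_conj_xG_sign (F := K) (orbD4 1) ⟨r, hr⟩
    exact ⟨e, he, fun t => by rw [h t, hw1, hk]⟩
  have hsignF : ∀ e : K, e * e = 1 → φ e = e := fun e he => by
    rcases mul_self_eq_one_iff.1 he with rfl | rfl <;> simp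
  obtain ⟨e1, he1, c18⟩ := conj0 18 19 (by decide) refl_facts.1
  obtain ⟨e2, he2, c13⟩ := conj0 13 16 (by decide) refl_facts.2.1
  obtain ⟨e3, he3, c12⟩ := conj0 12 15 (by decide) refl_facts.2.2.1
  obtain ⟨e0, he0, c22⟩ := conj0 22 23 (by decide) refl_facts.2.2.2
  obtain ⟨g0, hg0, c14⟩ := conj1 14 22 (by decide) refl3_facts.1
  obtain ⟨g3, hg3, c15⟩ := conj1 15 21 (by decide) refl3_facts.2.1
  obtain ⟨g2, hg2, c16⟩ := conj1 16 20 (by decide) refl3_facts.2.2.1
  obtain ⟨g1, hg1, c19⟩ := conj1 19 17 (by decide) refl3_facts.2.2.2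
  have he1' : e1 ≠ 0 := fun h => by rw [h] at he1; simp at he1
  have hg1' : g1 ≠ 0 := fun h => by rw [h] at hg1; simp at hg1
  let f1 : K := g1 * e1
  let f2 : K := g2 * e2
  let f3 : K := g3 * e3
  -- the elements
  let Bv : K → GL chevD4.Idx K := fun b => goodD4.xG 15 (e3 * φ (φ b)) * goodD4.xG 16 (e2 * φ b) * goodD4.xG 19 (e1 * b)
  let Cv : K → GL chevD4.Idx K := fun b => goodD4.xG 21 (f3 * φ (φ b)) * goodD4.xG 20 (f2 * φ b) * goodD4.xG 17 (f1 * b)
  let Uv : K → GL chevD4.Idx K := fun b => goodD4.xG 12 (φ (φ b)) * goodD4.xG 13 (φ b) * goodD4.xG 18 b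
  have hmemU : ∀ b, Uv b ∈ A.G1 := by
    intro b
    let u : Fin chevD4.rank → K := fun i => if i.val = 0 then b else if i.val = 2 then φ b else φ (φ b)
    have hu : ∀ i ∈ A.orb o1, u (A.S.pi i) = A.φ (u i) := by
      rw [horb1]
      have e0 : A.S.pi ⟨0, by decide⟩ = ⟨2, by decide⟩ := by
        rw [show A.S = rootSymOf goodD4 checksD4 structChecksD4 rhoD4_ok from hAS]; decide +kernel
      have e2 : A.S.pi ⟨2, by decide⟩ = ⟨3, by decide⟩ := by
        rw [show A.S = rootSymOf goodD4 checksD4 structChecksD4 rhoD4_ok from hAS]; decide +kernel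
      have e3 : A.S.pi ⟨3, by decide⟩ = ⟨0, by decide⟩ := by
        rw [show A.S = rootSymOf goodD4 checksD4 structChecksD4 rhoD4_ok from hAS]; decide +kernel
      intro i hi
      simp only [orbD4, Matrix.cons_val_one, Matrix.cons_val_zero, List.mem_cons,
        List.not_mem_nil, or_false] at hi
      rcases hi with rfl | rfl | rfl
      · rw [e3]; exact (hφ3 b).symm
      · rw [e2]; rfl
      · rw [e0]; rfl
    have h := (A.gen_mem hu).1
    rw [horb1] at h
    convert h using 1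
    simp only [orbD4, Matrix.cons_val_one, Matrix.cons_val_zero, Good.xList, List.map_cons, List.map_nil,
      List.prod_cons, List.prod_nil, mul_one, ← mul_assoc, Uv]
    rfl
  have hB : ∀ b, Bv b = n0 * Uv b * n0⁻¹ := fun b => by
    simp only [Bv, Uv]
    rw [← c12, ← c13, ← c18]
    group
  have hC : ∀ b, Cv b = n1 * Bv b * n1⁻¹ := fun b => by
    simp only [Bv, Cv, f1, f2, f3, mul_assoc]
    rw [← c15, ← c16, ← c19]
    group
  have hmemB : ∀ b, Bv b ∈ A.G1 := fun b => by rw [hB]; exact mul_mem (mul_mem hn0 (hmemU b)) (inv_mem hn0)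
  have hmemC : ∀ b, Cv b ∈ A.G1 := fun b => by rw [hC]; exact mul_mem (mul_mem hn1 (hmemB b)) (inv_mem hn1)
  have hmem14 : ∀ t : F, goodD4.xG 14 (t : K) ∈ A.G1 := fun t => by
    have h := (A.gen_mem (o := o0) (t := fun _ => (t : K)) fun i _ => (hF t).symm).1
    rw [horb0] at h
    simpa [orbD4, Good.xList, Good.sroot, show chevD4.simple 1 = 14 from rfl] using h
  have hFe : ∀ (e : K), e * e = 1 → ∀ t : F, φ (e * (t : K)) = e * t := fun e he t => by
    rw [map_mul, hsignF e he, hF]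
  have hmem22 : ∀ t : F, goodD4.xG 22 (t : K) ∈ A.G1 := fun t => by
    have h := mul_mem (mul_mem hn1 (hmem14 ⟨g0 * t, hFe g0 hg0 t⟩)) (inv_mem hn1)
    rwa [c14, ← mul_assoc, hg0, one_mul] at h
  have hmem23 : ∀ t : F, goodD4.xG 23 (t : K) ∈ A.G1 := fun t => by
    have h := mul_mem (mul_mem hn0 (hmem22 ⟨e0 * t, hFe e0 he0 t⟩)) (inv_mem hn0)
    rwa [c22, ← mul_assoc, he0, one_mul] at h
  let mk : ∀ x : GL chevD4.Idx K, x ∈ A.G1 → ↥(twistedD4 K q) := fun x hx => ⟨x, hAG ▸ hx⟩
  -- fixed values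
  have hfix23 : ∀ s : K, goodD4.xG 23 s ∈ A.G1 → φ s = s := fun s hs => by
    have h := (A.T.mem_fixed ⟨goodD4.xG 23 s, goodD4.xG_mem_group (by decide) s⟩).1 (hG1fix hs)
    have h1 : (A.T.σ ⟨goodD4.xG ((⟨23, by decide⟩ : Fin chevD4.nroots) : ℕ) s, goodD4.xG_mem_group (by decide) s⟩ :
        GL chevD4.Idx K) = goodD4.xG 23 s := congrArg Subtype.val h
    rw [A.T.σ_x] at h1
    have hρ : (A.T.ρ (⟨23, by decide⟩ : Fin chevD4.nroots) : ℕ) = 23 := by
      rw [show A.T.ρ = (rootSymOf goodD4 checksD4 structChecksD4 rhoD4_ok).ρ from hT₀ρ]; decide +kernel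
    rw [hρ, show A.T.f (⟨23, by decide⟩ : Fin chevD4.nroots) s = (nth 1 rhoD4Sign 23 : K) * φ s from hT₀f _ _,
      show nth 1 rhoD4Sign 23 = 1 from rfl, Int.cast_one, one_mul] at h1
    exact xG_cancel (by decide) h1
  have hfix22 : ∀ s : K, goodD4.xG 22 s ∈ A.G1 → φ s = s := fun s hs => by
    have h := (A.T.mem_fixed ⟨goodD4.xG 22 s, goodD4.xG_mem_group (by decide) s⟩).1 (hG1fix hs)
    have h1 : (A.T.σ ⟨goodD4.xG ((⟨22, by decide⟩ : Fin chevD4.nroots) : ℕ) s, goodD4.xG_mem_group (by decide) s⟩ :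
        GL chevD4.Idx K) = goodD4.xG 22 s := congrArg Subtype.val h
    rw [A.T.σ_x] at h1
    have hρ : (A.T.ρ (⟨22, by decide⟩ : Fin chevD4.nroots) : ℕ) = 22 := by
      rw [show A.T.ρ = (rootSymOf goodD4 checksD4 structChecksD4 rhoD4_ok).ρ from hT₀ρ]; decide +kernel
    rw [hρ, show A.T.f (⟨22, by decide⟩ : Fin chevD4.nroots) s = (nth 1 rhoD4Sign 22 : K) * φ s from hT₀f _ _,
      show nth 1 rhoD4Sign 22 = 1 from rfl, Int.cast_one, one_mul] at h1
    exact xG_cancel (by decide) h1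
  -- pairings
  let τK : K → K → K := fun b c => -(e3 * f3 * φ (φ (b * c)) + e2 * f2 * φ (b * c) + e1 * f1 * (b * c))
  let τK' : K → K → K := fun b c => f3 * φ (φ (b * c)) + f2 * φ (b * c) - f1 * (b * c)
  have hBC : ∀ b c, Bv b * Cv c = Cv c * Bv b * goodD4.xG 23 (τK b c) := by
    intro b c
    simp only [Bv, Cv]
    set u3 := e3 * φ (φ b); set u2 := e2 * φ b; set u1 := e1 * b
    set t3 := f3 * φ (φ c); set t2 := f2 * φ c; set t1 := f1 * c
    have hτ : τK b c = ((1 : ℤ) : K) * -t3 * u3 + (((1 : ℤ) : K) * -t2 * u2 + ((1 : ℤ) : K) * -t1 * u1) := by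
      simp only [τK, u1, u2, u3, t1, t2, t3, map_mul, Int.cast_one]; ring
    rw [hτ, ← goodD4.xG_add, ← goodD4.xG_add]
    set A1 := goodD4.xG (F := K) 15 u3; set A2 := goodD4.xG (F := K) 16 u2; set A3 := goodD4.xG (F := K) 19 u1
    set C1 := goodD4.xG (F := K) 21 t3; set C2 := goodD4.xG (F := K) 20 t2; set C3 := goodD4.xG (F := K) 17 t1
    set z1 := goodD4.xG (F := K) 23 (((1 : ℤ) : K) * -t3 * u3) with hz1
    set z2 := goodD4.xG (F := K) 23 (((1 : ℤ) : K) * -t2 * u2) with hz2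
    set z3 := goodD4.xG (F := K) 23 (((1 : ℤ) : K) * -t1 * u1) with hz3
    have k11 : A1 * C1 = C1 * A1 * z1 := com1 (by decide +kernel) t3 u3
    have k22 : A2 * C2 = C2 * A2 * z2 := com1 (by decide +kernel) t2 u2
    have k33 : A3 * C3 = C3 * A3 * z3 := com1 (by decide +kernel) t1 u1
    have k12 : A1 * C2 = C2 * A1 := (com (by decide +kernel) _ _).eq
    have k13 : A1 * C3 = C3 * A1 := (com (by decide +kernel) _ _).eq
    have k21 : A2 * C1 = C1 * A2 := (com (by decide +kernel) _ _).eq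
    have k23 : A2 * C3 = C3 * A2 := (com (by decide +kernel) _ _).eq
    have k31 : A3 * C1 = C1 * A3 := (com (by decide +kernel) _ _).eq
    have k32 : A3 * C2 = C2 * A3 := (com (by decide +kernel) _ _).eq
    have za2 : z1 * A2 = A2 * z1 := (com (by decide +kernel) _ _).eq
    have za3 : ∀ x : K, goodD4.xG 23 x * A3 = A3 * goodD4.xG 23 x := fun x => (com (by decide +kernel) _ _).eq
    have zc2 : z1 * C2 = C2 * z1 := (com (by decide +kernel) _ _).eq
    have zc3 : ∀ x : K, goodD4.xG 23 x * C3 = C3 * goodD4.xG 23 x := fun x => (com (by decide +kernel) _ _).eq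
    have w1a : z1 * A3 = A3 * z1 := za3 _
    have w2a : z2 * A3 = A3 * z2 := za3 _
    have w1c : z1 * C3 = C3 * z1 := zc3 _
    have w2c : z2 * C3 = C3 * z2 := zc3 _
    clear_value z1 z2 z3
    calc A1 * A2 * A3 * (C1 * C2 * C3) = A1 * A2 * (A3 * C1) * (C2 * C3) := by group
      _ = A1 * (A2 * C1) * (A3 * C2) * C3 := by rw [k31]; group
      _ = (A1 * C1) * A2 * C2 * (A3 * C3) := by rw [k21, k32]; group
      _ = C1 * A1 * z1 * A2 * C2 * (C3 * A3 * z3) := by rw [k11, k33]
      _ = C1 * A1 * (z1 * A2) * C2 * C3 * A3 * z3 := by group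
      _ = C1 * A1 * A2 * (z1 * C2) * C3 * A3 * z3 := by rw [za2]; group
      _ = C1 * A1 * (A2 * C2) * (z1 * C3) * A3 * z3 := by rw [zc2]; group
      _ = C1 * A1 * (C2 * A2 * z2) * C3 * (z1 * A3) * z3 := by rw [k22, w1c]; group
      _ = C1 * (A1 * C2) * A2 * (z2 * C3) * A3 * (z1 * z3) := by rw [w1a]; group
      _ = C1 * C2 * A1 * (A2 * C3) * (z2 * A3) * (z1 * z3) := by rw [k12, w2c]; group
      _ = C1 * C2 * (A1 * C3) * A2 * A3 * (z2 * (z1 * z3)) := by rw [k23, w2a]; group
      _ = C1 * C2 * C3 * (A1 * A2 * A3) * (z2 * (z1 * z3)) := by rw [k13]; group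
      _ = _ := by
        congr 1
        rw [hz1, hz2, hz3, ← mul_assoc, goodD4.xG_add, goodD4.xG_add, goodD4.xG_add, goodD4.xG_add]
        congr 1; ring
  have hUC : ∀ b c, Uv b * Cv c * (Uv b)⁻¹ = Cv c * goodD4.xG 22 (τK' b c) := by
    intro b c
    simp only [Uv, Cv]
    set u3 := φ (φ b); set u2 := φ b
    set t3 := f3 * φ (φ c); set t2 := f2 * φ c; set t1 := f1 * c
    have hτ : τK' b c = ((1 : ℤ) : K) * -t1 * b + (((-1 : ℤ) : K) * -t2 * u2 + ((-1 : ℤ) : K) * -t3 * u3) := by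
      simp only [τK', u2, u3, t1, t2, t3, map_mul, Int.cast_one, Int.cast_neg]; ring
    rw [hτ, ← goodD4.xG_add, ← goodD4.xG_add]
    set a := goodD4.xG (F := K) 12 u3; set a' := goodD4.xG (F := K) 13 u2; set a'' := goodD4.xG (F := K) 18 b
    set C1 := goodD4.xG (F := K) 21 t3; set C2 := goodD4.xG (F := K) 20 t2; set C3 := goodD4.xG (F := K) 17 t1
    set d1 := goodD4.xG (F := K) 22 (((1 : ℤ) : K) * -t1 * b) with hd1
    set d2 := goodD4.xG (F := K) 22 (((-1 : ℤ) : K) * -t2 * u2) with hd2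
    set d3 := goodD4.xG (F := K) 22 (((-1 : ℤ) : K) * -t3 * u3) with hd3
    have p17 : a'' * C3 * a''⁻¹ = C3 * d1 := com1_conj (by decide +kernel) (by decide +kernel) t1 b
    have p21 : a'' * C1 * a''⁻¹ = C1 := com_conj (by decide +kernel) t3 b
    have p20 : a'' * C2 * a''⁻¹ = C2 := com_conj (by decide +kernel) t2 b
    have q17 : a' * C3 * a'⁻¹ = C3 := com_conj (by decide +kernel) t1 u2
    have q20 : a' * C2 * a'⁻¹ = C2 * d2 := com1_conj (by decide +kernel) (by decide +kernel) t2 u2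
    have q21 : a' * C1 * a'⁻¹ = C1 := com_conj (by decide +kernel) t3 u2
    have r17 : a * C3 * a⁻¹ = C3 := com_conj (by decide +kernel) t1 u3
    have r20 : a * C2 * a⁻¹ = C2 := com_conj (by decide +kernel) t2 u3
    have r21 : a * C1 * a⁻¹ = C1 * d3 := com1_conj (by decide +kernel) (by decide +kernel) t3 u3
    have qd : ∀ x : K, a' * goodD4.xG 22 x * a'⁻¹ = goodD4.xG 22 x := fun x => com_conj (by decide +kernel) x u2
    have rd : ∀ x : K, a * goodD4.xG 22 x * a⁻¹ = goodD4.xG 22 x := fun x => com_conj (by decide +kernel) x u3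
    have dc : ∀ (x : K), Commute (goodD4.xG 22 x) C2 ∧ Commute (goodD4.xG 22 x) C3 := fun x =>
      ⟨com (by decide +kernel) _ _, com (by decide +kernel) _ _⟩
    have e2' : a' * d1 * a'⁻¹ = d1 := qd _
    have e1' : a * d1 * a⁻¹ = d1 := rd _
    have e2'' : a * d2 * a⁻¹ = d2 := rd _
    have f3c : d3 * C2 = C2 * d3 := (dc _).1.eq
    have f2c : d2 * C3 = C3 * d2 := (dc _).2.eq
    have f3c' : d3 * C3 = C3 * d3 := (dc _).2.eq
    clear_value d1 d2 d3
    calc a * a' * a'' * (C1 * C2 * C3) * (a * a' * a'')⁻¹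
        = a * (a' * ((a'' * C1 * a''⁻¹) * (a'' * C2 * a''⁻¹) * (a'' * C3 * a''⁻¹)) * a'⁻¹) * a⁻¹ := by group
      _ = a * ((a' * C1 * a'⁻¹) * (a' * C2 * a'⁻¹) * ((a' * C3 * a'⁻¹) * (a' * d1 * a'⁻¹))) * a⁻¹ := by
          rw [p21, p20, p17]; group
      _ = (a * C1 * a⁻¹) * ((a * C2 * a⁻¹) * (a * d2 * a⁻¹)) * ((a * C3 * a⁻¹) * (a * d1 * a⁻¹)) := by
          rw [q21, q20, q17, e2']; group
      _ = C1 * (d3 * C2) * (d2 * C3) * d1 := by rw [r21, r20, r17, e1', e2'']; group
      _ = C1 * C2 * (d3 * C3) * (d2 * d1) := by rw [f3c, f2c]; group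
      _ = C1 * C2 * C3 * (d3 * (d2 * d1)) := by rw [f3c']; group
      _ = _ := by
        congr 1
        rw [hd1, hd2, hd3, goodD4.xG_add, goodD4.xG_add, goodD4.xG_add, goodD4.xG_add]
        congr 1; ring
  have hτF : ∀ b c, φ (τK b c) = τK b c := fun b c => hfix23 _ (by
    rw [show goodD4.xG 23 (τK b c) = (Cv c * Bv b)⁻¹ * (Bv b * Cv c) by rw [hBC]; group]
    exact mul_mem (inv_mem (mul_mem (hmemC c) (hmemB b))) (mul_mem (hmemB b) (hmemC c)))
  have hτF' : ∀ b c, φ (τK' b c) = τK' b c := fun b c => hfix22 _ (by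
    rw [show goodD4.xG 22 (τK' b c) = (Cv c)⁻¹ * (Uv b * Cv c * (Uv b)⁻¹) by rw [hUC]; group]
    exact mul_mem (inv_mem (hmemC c)) (mul_mem (mul_mem (hmemU b) (hmemC c)) (inv_mem (hmemU b))))
  let τ : K → K →ₗ[F] F := fun b =>
    { toFun := fun c => ⟨τK b c, hτF b c⟩
      map_add' := fun c c' => Subtype.ext (by
        show τK b (c + c') = τK b c + τK b c'
        simp only [τK, mul_add, map_add]; ring)
      map_smul' := fun s c => Subtype.ext (by
        show τK b ((s : K) * c) = (s : K) * τK b c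
        simp only [τK, map_mul, hF]; ring) }
  let τ' : K → K →ₗ[F] F := fun b =>
    { toFun := fun c => ⟨τK' b c, hτF' b c⟩
      map_add' := fun c c' => Subtype.ext (by
        show τK' b (c + c') = τK' b c + τK' b c'
        simp only [τK', mul_add, map_add]; ring)
      map_smul' := fun s c => Subtype.ext (by
        show τK' b ((s : K) * c) = (s : K) * τK' b c
        simp only [τK', map_mul, hF]; ring) }
  let Nf : K → F := fun a => ⟨a * φ a * φ (φ a), by
    show φ (a * φ a * φ (φ a)) = a * φ a * φ (φ a)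
    rw [map_mul, map_mul, hφ3]; ring⟩
  -- the torus
  have htor : ∀ (a : K) (ν : F), a ≠ 0 → ν ≠ 0 → ∃ g : ↥(twistedD4 K q), ∀ (t : F) (b : K),
      (g : GL chevD4.Idx K) * goodD4.xG 23 (t : K) * (g : GL chevD4.Idx K)⁻¹ = goodD4.xG 23 ((ν : K) * t) ∧
      (g : GL chevD4.Idx K) * goodD4.xG 14 (t : K) * (g : GL chevD4.Idx K)⁻¹ =
        goodD4.xG 14 ((ν : K) ^ 2 / (Nf a : K) * t) ∧
      (g : GL chevD4.Idx K) * Bv b * (g : GL chevD4.Idx K)⁻¹ = Bv (a ^ 2 * (ν : K) / (Nf a : K) * b) ∧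
      (g : GL chevD4.Idx K) * Cv b * (g : GL chevD4.Idx K)⁻¹ = Cv ((Nf a : K) / a ^ 2 * b) ∧
      (g : GL chevD4.Idx K) * goodD4.xG 22 (t : K) * (g : GL chevD4.Idx K)⁻¹ =
        goodD4.xG 22 ((Nf a : K) / (ν : K) * t) := by
    intro a ν ha hν
    have hν' : (ν : K) ≠ 0 := fun h => hν (Subtype.ext h)
    let c : Fin chevD4.rank → Kˣ := fun i => if i.val = 0 then Units.mk0 a ha
      else if i.val = 1 then Units.mk0 (ν : K) hν'
      else if i.val = 2 then Units.mk0 (φ a) ((map_ne_zero φ).2 ha)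
      else Units.mk0 (φ (φ a)) ((map_ne_zero φ).2 ((map_ne_zero φ).2 ha))
    have hc0 : c ∈ A.T0 := by
      rw [A.mem_T0]
      intro i
      rw [show A.S = rootSymOf goodD4 checksD4 structChecksD4 rhoD4_ok from hAS]
      have hp : ∀ i : Fin 4, ((rootSymOf goodD4 checksD4 structChecksD4 rhoD4_ok).pi i).val =
          (![2, 1, 3, 0] : Fin 4 → ℕ) i := by decide +kernel
      change Fin 4 at i
      have h := hp i
      fin_cases i <;> simp only [c] <;> simp at h <;> simp [h]
      · rfl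
      · exact (hF ν).symm
      · rfl
      · exact (hφ3 a).symm
    refine ⟨mk (torHom chevD4 K c) (A.H0_le_G1 hc ⟨c, hc0, rfl⟩), fun t b => ?_⟩
    have hv : ∀ (r : Fin 24) (v : K), (rootVal c r : K) = v → ∀ s : K,
        torHom chevD4 K c * goodD4.xG (r : ℕ) s * (torHom chevD4 K c)⁻¹ = goodD4.xG (r : ℕ) (v * s) :=
      fun r v h s => by
      rw [goodD4.torHom_conj_xG c r.2, ← h]; rfl
    have hs : (rootVal c 18 : K) = a ^ 2 / ν ∧ (rootVal c 14 : K) = (ν : K) ^ 2 / (Nf a : K) ∧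
        (rootVal c 13 : K) = φ a ^ 2 / ν ∧ (rootVal c 12 : K) = φ (φ a) ^ 2 / ν := by
      have h : ∀ s : Fin 24, rootVal c s =
          c ⟨0, by decide⟩ ^ chevD4.cartan 0 s * c ⟨1, by decide⟩ ^ chevD4.cartan 1 s *
          c ⟨2, by decide⟩ ^ chevD4.cartan 2 s * c ⟨3, by decide⟩ ^ chevD4.cartan 3 s := fun s => by
        show (∏ i : Fin 4, c i ^ chevD4.cartan i s) = _
        rw [Fin.prod_univ_four]
        rfl
      refine ⟨?_, ?_, ?_, ?_⟩ <;> rw [h] <;>
        simp [show ∀ i r : ℕ, chevD4.cartan i r = (chevD4CartanSR.getD i #[]).getD r 0 from fun _ _ => rfl,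
          chevD4CartanSR, c, Nf, zpow_ofNat, div_eq_mul_inv] <;> ring
    obtain ⟨v18, v14, v13, v12⟩ := hs
    have hN0 : (Nf a : K) ≠ 0 := mul_ne_zero (mul_ne_zero ha ((map_ne_zero φ).2 ha))
      ((map_ne_zero φ).2 ((map_ne_zero φ).2 ha))
    have hφN : φ (Nf a : K) = Nf a := hF _
    have hdat : ∀ r : Fin 24, (rootVal c r : K) = (rootVal c 18 : K) ^ coD r 0 * (rootVal c 14 : K) ^ coD r 1 *
        (rootVal c 13 : K) ^ coD r 2 * (rootVal c 12 : K) ^ coD r 3 := fun r => by
      rw [rootVal_co c r]; simp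
    set x := a ^ 2 * (ν : K) / (Nf a : K) with hx
    set y := (Nf a : K) / a ^ 2 with hy
    have hNe : (Nf a : K) = a * φ a * φ (φ a) := rfl
    have hA' : φ a ≠ 0 := (map_ne_zero φ).2 ha
    have hA'' : φ (φ a) ≠ 0 := (map_ne_zero φ).2 hA'
    have v23 : (rootVal c 23 : K) = ν := by
      rw [hdat, v18, v14, v13, v12]; simp [coD, zpow_ofNat, hNe]; field_simp
    have v22 : (rootVal c 22 : K) = (Nf a : K) / ν := by
      rw [hdat, v18, v14, v13, v12]; simp [coD, zpow_ofNat, hNe]; field_simp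
    have v19 : (rootVal c 19 : K) = x := by
      rw [hdat, v18, v14, hx]; simp [coD, zpow_ofNat, hNe]; field_simp
    have v16 : (rootVal c 16 : K) = φ x := by
      rw [hdat, v14, v13, hx, map_div₀, map_mul, map_pow, hφN, hF ν]; simp [coD, zpow_ofNat, hNe]; field_simp
    have v15 : (rootVal c 15 : K) = φ (φ x) := by
      rw [hdat, v14, v12, hx, map_div₀, map_div₀, map_mul, map_mul, map_pow, map_pow, hφN, hF ν, hφN, hF ν]
      simp [coD, zpow_ofNat, hNe]; field_simp
    have v17 : (rootVal c 17 : K) = y := by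
      rw [hdat, v14, v13, v12, hy]; simp [coD, zpow_ofNat, hNe]; field_simp
    have v20 : (rootVal c 20 : K) = φ y := by
      rw [hdat, v18, v14, v12, hy, map_div₀, map_pow, hφN]; simp [coD, zpow_ofNat, hNe]; field_simp
    have v21 : (rootVal c 21 : K) = φ (φ y) := by
      rw [hdat, v18, v14, v13, hy, map_div₀, map_div₀, map_pow, map_pow, hφN, hφN]
      simp [coD, zpow_ofNat, hNe]; field_simp
    refine ⟨hv 23 _ v23 _, hv 14 _ v14 _, ?_, ?_, hv 22 _ v22 _⟩
    · show torHom chevD4 K c * Bv b * (torHom chevD4 K c)⁻¹ = Bv (x * b)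
      simp only [Bv, map_mul]
      rw [show e3 * (φ (φ x) * φ (φ b)) = φ (φ x) * (e3 * φ (φ b)) by ring,
        show e2 * (φ x * φ b) = φ x * (e2 * φ b) by ring, show e1 * (x * b) = x * (e1 * b) by ring]
      refine Eq.trans ?_ (congrArg₂ (· * ·) (congrArg₂ (· * ·) (hv 15 _ v15 _) (hv 16 _ v16 _)) (hv 19 _ v19 _))
      group
      rfl
    · show torHom chevD4 K c * Cv b * (torHom chevD4 K c)⁻¹ = Cv (y * b)
      simp only [Cv, map_mul]
      rw [show f3 * (φ (φ y) * φ (φ b)) = φ (φ y) * (f3 * φ (φ b)) by ring,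
        show f2 * (φ y * φ b) = φ y * (f2 * φ b) by ring, show f1 * (y * b) = y * (f1 * b) by ring]
      refine Eq.trans ?_ (congrArg₂ (· * ·) (congrArg₂ (· * ·) (hv 21 _ v21 _) (hv 20 _ v20 _)) (hv 17 _ v17 _))
      group
      rfl
  -- assembling
  have hsub : ∀ {x y : ↥(twistedD4 K q)}, (x : GL chevD4.Idx K) = y → x = y := fun h => Subtype.ext h
  have hBadd : ∀ b b', Bv (b + b') = Bv b * Bv b' := fun b b' => by
    simp only [Bv, map_add, mul_add, ← goodD4.xG_add]
    have k1 : ∀ u v : K, Commute (goodD4.xG 15 u) (goodD4.xG 16 v) := fun u v => com (by decide +kernel) _ _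
    have k2 : ∀ u v : K, Commute (goodD4.xG 15 u) (goodD4.xG 19 v) := fun u v => com (by decide +kernel) _ _
    have k3 : ∀ u v : K, Commute (goodD4.xG 16 u) (goodD4.xG 19 v) := fun u v => com (by decide +kernel) _ _
    calc _ = goodD4.xG 15 (e3 * φ (φ b)) * (goodD4.xG 15 (e3 * φ (φ b')) * goodD4.xG 16 (e2 * φ b)) *
          (goodD4.xG 16 (e2 * φ b') * goodD4.xG 19 (e1 * b)) * goodD4.xG 19 (e1 * b') := by group
      _ = goodD4.xG 15 (e3 * φ (φ b)) * goodD4.xG 16 (e2 * φ b) * (goodD4.xG 15 (e3 * φ (φ b')) *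
          goodD4.xG 19 (e1 * b)) * (goodD4.xG 16 (e2 * φ b') * goodD4.xG 19 (e1 * b')) := by
            rw [(k1 _ _).eq, (k3 _ _).eq]; group
      _ = _ := by rw [(k2 _ _).eq]; group
  have hCadd : ∀ b b', Cv (b + b') = Cv b * Cv b' := fun b b' => by
    simp only [hC, hBadd]; group
  let S : Heis ↥(twistedD4 K q) F K :=
    { z := fun t => mk _ (hmem23 t)
      e := fun t => mk _ (hmem14 t)
      d := fun t => mk _ (hmem22 t)
      B := fun b => mk _ (hmemB b)
      C := fun b => mk _ (hmemC b)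
      z_add := fun s t => hsub (goodD4.xG_add 23 (s : K) (t : K)).symm
      e_add := fun s t => hsub (goodD4.xG_add 14 (s : K) (t : K)).symm
      d_add := fun s t => hsub (goodD4.xG_add 22 (s : K) (t : K)).symm
      B_add := fun s t => hsub (hBadd s t)
      C_add := fun s t => hsub (hCadd s t)
      z_ne := fun h => by
        have h' : goodD4.xG 23 (1 : K) = 1 := congrArg Subtype.val h
        exact one_ne_zero ((goodD4.x_eq_one_iff (r := 23) (by decide) _).1 (congrArg Units.val h'))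
      z_e := fun s t => hsub (com (by decide +kernel) _ _).eq
      z_d := fun s t => hsub (com (by decide +kernel) _ _).eq
      z_B := fun s t => hsub (((com (by decide +kernel) _ _).mul_right (com (by decide +kernel) _ _)).mul_right
        (com (by decide +kernel) _ _)).eq
      z_C := fun s t => hsub (((com (by decide +kernel) _ _).mul_right (com (by decide +kernel) _ _)).mul_right
        (com (by decide +kernel) _ _)).eq
      e_B := fun s t => hsub (((com (by decide +kernel) _ _).mul_right (com (by decide +kernel) _ _)).mul_right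
        (com (by decide +kernel) _ _)).eq
      e_C := fun s t => hsub (((com (by decide +kernel) _ _).mul_right (com (by decide +kernel) _ _)).mul_right
        (com (by decide +kernel) _ _)).eq
      d_B := fun s t => hsub (((com (by decide +kernel) _ _).mul_right (com (by decide +kernel) _ _)).mul_right
        (com (by decide +kernel) _ _)).eq
      d_C := fun s t => hsub (((com (by decide +kernel) _ _).mul_right (com (by decide +kernel) _ _)).mul_right
        (com (by decide +kernel) _ _)).eq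
      ε := 1
      ε_ne := one_ne_zero
      e_d := fun s t => hsub (by
        show goodD4.xG 14 (s : K) * goodD4.xG 22 (t : K) = goodD4.xG 22 (t : K) * goodD4.xG 14 (s : K) *
          goodD4.xG 23 ((1 * s * t : F) : K)
        rw [com1 (r := 22) (s := 14) (k := 23) (M := -1) (by decide +kernel)]
        congr 2
        push_cast
        ring)
      τ := τ
      τ_ne := fun b hb => by
        obtain ⟨w, hw⟩ := exists_twist_ne hq2 hK (e1 * f1) (e2 * f2) (e3 * f3)
          (mul_ne_zero he1' (mul_ne_zero hg1' he1'))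
        refine ⟨w / b, fun h => hw ?_⟩
        have h' : τK b (w / b) = 0 := congrArg Subtype.val h
        simp only [τK, mul_div_cancel₀ w hb, hφ, neg_eq_zero] at h'
        exact h'
      B_C := fun b c => hsub (hBC b c)
      tor1 := fun ν hν => by
        obtain ⟨g, hg⟩ := htor 1 ν one_ne_zero hν
        have hN1 : (Nf 1 : K) = 1 := by simp [Nf]
        refine ⟨g, fun t b => ?_⟩
        obtain ⟨h1, h2, h3, h4, h5⟩ := hg t b
        simp only [hN1, one_pow, one_mul, div_one, one_div] at h2 h3 h4 h5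
        exact ⟨hsub h1, hsub h2, hsub h3, hsub h4, hsub h5⟩
      tor2 := fun s hs => by
        have hs' : (s : K) ≠ 0 := fun h => hs (Subtype.ext h)
        obtain ⟨g, hg⟩ := htor (s : K) 1 hs' one_ne_zero
        have hN : (Nf (s : K) : K) = (s : K) ^ 3 := by
          show (s : K) * φ s * φ (φ s) = _
          rw [hF, hF]; ring
        refine ⟨g, fun t b => ?_⟩
        obtain ⟨h1, h2, h3, h4, h5⟩ := hg t b
        simp only [hN, OneMemClass.coe_one, one_pow, one_mul, div_one, mul_one] at h1 h2 h3 h4 h5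
        refine ⟨hsub h1, hsub ?_, hsub ?_, hsub ?_, hsub h5⟩
        · rw [one_div] at h2; exact h2
        · rw [show (s : K) ^ 2 / (s : K) ^ 3 = (s : K)⁻¹ by field_simp] at h3
          exact h3
        · rw [show (s : K) ^ 3 / (s : K) ^ 2 = (s : K) by field_simp] at h4
          exact h4
      N := Nf
      N_ne := fun a ha h => by
        have h' : a * φ a * φ (φ a) = 0 := congrArg Subtype.val h
        exact mul_ne_zero (mul_ne_zero ha ((map_ne_zero φ).2 ha))
          ((map_ne_zero φ).2 ((map_ne_zero φ).2 ha)) h'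
      κ := fun a => (Nf a : K) / a ^ 2
      κ_ne := fun a ha => div_ne_zero (mul_ne_zero (mul_ne_zero ha ((map_ne_zero φ).2 ha))
        ((map_ne_zero φ).2 ((map_ne_zero φ).2 ha))) (pow_ne_zero _ ha)
      tor3 := fun a ha => by
        have hN0 : (Nf a : K) ≠ 0 := mul_ne_zero (mul_ne_zero ha ((map_ne_zero φ).2 ha))
          ((map_ne_zero φ).2 ((map_ne_zero φ).2 ha))
        obtain ⟨g, hg⟩ := htor a (Nf a) ha (fun h => hN0 (congrArg Subtype.val h))
        refine ⟨g, fun t b => ?_⟩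
        obtain ⟨h1, h2, h3, h4, h5⟩ := hg t b
        refine ⟨hsub h1, hsub ?_, hsub ?_, hsub h4, hsub ?_⟩
        · rw [show (Nf a : K) ^ 2 / (Nf a : K) = (Nf a : K) by field_simp] at h2; exact h2
        · rw [show a ^ 2 * (Nf a : K) / (Nf a : K) = a ^ 2 by field_simp] at h3; exact h3
        · rw [div_self hN0, one_mul] at h5; exact h5
      e_conj := fun t ht => by
        refine ⟨⟨e0 * (g0 * t), hFe e0 he0 ⟨g0 * t, hFe g0 hg0 t⟩⟩, fun h => ?_, ?_⟩
        · have h' : e0 * (g0 * (t : K)) = 0 := congrArg Subtype.val h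
          rcases mul_eq_zero.1 h' with h | h
          · rw [h] at he0; simp at he0
          · rcases mul_eq_zero.1 h with h | h
            · rw [h] at hg0; simp at hg0
            · exact ht (Subtype.ext h)
        · refine isConj_iff.2 ⟨mk _ hn0 * mk _ hn1, hsub ?_⟩
          show n0 * n1 * goodD4.xG 14 (t : K) * (n0 * n1)⁻¹ = goodD4.xG 23 (e0 * (g0 * t))
          rw [← c22, ← c14]; group
      d_conj := fun t ht => by
        refine ⟨⟨e0 * t, hFe e0 he0 t⟩, fun h => ?_, ?_⟩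
        · have h' : e0 * (t : K) = 0 := congrArg Subtype.val h
          rcases mul_eq_zero.1 h' with h | h
          · rw [h] at he0; simp at he0
          · exact ht (Subtype.ext h)
        · refine isConj_iff.2 ⟨mk _ hn0, hsub ?_⟩
          show n0 * goodD4.xG 22 (t : K) * n0⁻¹ = goodD4.xG 23 (e0 * t)
          exact c22 _
      τ' := τ'
      τ'_ne := fun b hb => by
        obtain ⟨w, hw⟩ := exists_twist_ne hq2 hK (-f1) f2 f3 (neg_ne_zero.2 (mul_ne_zero hg1' he1'))
        refine ⟨w / b, fun h => hw ?_⟩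
        have h' : τK' b (w / b) = 0 := congrArg Subtype.val h
        simp only [τK', mul_div_cancel₀ w hb, hφ] at h'
        linear_combination h'
      τ'_sub := fun b b' c => Subtype.ext (by
        show τK' (b - b') c = τK' b c - τK' b' c
        simp only [τK', sub_mul, map_sub]; ring)
      shift := fun b => ⟨mk _ (hmemU b), fun c t => ⟨hsub (hUC b c), hsub (by
          show Uv b * goodD4.xG 22 (t : K) * (Uv b)⁻¹ = goodD4.xG 22 (t : K)
          rw [((com (by decide +kernel) _ _).mul_left (com (by decide +kernel) _ _)).mul_left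
            (com (by decide +kernel) _ _) |>.eq, mul_inv_cancel_right]), hsub (by
          show Uv b * goodD4.xG 23 (t : K) * (Uv b)⁻¹ = goodD4.xG 23 (t : K)
          rw [((com (by decide +kernel) _ _).mul_left (com (by decide +kernel) _ _)).mul_left
            (com (by decide +kernel) _ _) |>.eq, mul_inv_cancel_right])⟩⟩ }
  have hN : 2 < Fintype.card F → ∃ a, a ≠ 0 ∧ S.N a ≠ 1 := by
    intro h2
    rw [hcardF] at h2
    by_contra hall
    push Not at hall
    -- too many roots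
    let P : Polynomial K := Polynomial.X ^ (1 + q + q * q) - Polynomial.C 1
    have hZ : (Finset.univ.erase (0 : K)).val ⊆ P.roots := fun w hw => by
      rw [Polynomial.mem_roots (Polynomial.X_pow_sub_C_ne_zero (by omega) _), Polynomial.IsRoot.def]
      have h := congrArg Subtype.val (hall w (Finset.ne_of_mem_erase hw))
      have h' : w * φ w * φ (φ w) = 1 := h
      rw [hφ, hφ, ← pow_mul] at h'
      simp only [P, Polynomial.eval_sub, Polynomial.eval_pow, Polynomial.eval_X, Polynomial.eval_C, Polynomial.eval_mul, pow_add,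
        pow_one, h', sub_self]
    have := Polynomial.card_le_degree_of_subset_roots hZ
    rw [Polynomial.natDegree_X_pow_sub_C, Finset.card_erase_of_mem (Finset.mem_univ _), Finset.card_univ, hK]
      at this
    have h3 : 3 * (q * q) ≤ q ^ 3 := by
      rw [pow_succ, sq, mul_comm (q * q)]; exact Nat.mul_le_mul_right _ h2
    have h4 : 3 * q ≤ q * q := Nat.mul_le_mul_right _ h2
    omega
  have htwo : Fintype.card F = 2 → ∃ (g : ↥(twistedD4 K q)) (b c : K) (t : F),
      g * S.e 1 * g⁻¹ = S.e 1 * S.B b * S.C c * S.d 1 * S.z t := by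
    intro h2
    rw [hcardF] at h2
    have h11 : (1 : K) + 1 = 0 := by
      have h : φ (1 + 1) = φ 1 + φ 1 := map_add φ 1 1
      have hone : (1 : K) + 1 = 2 := one_add_one_eq_two
      rw [hφ, hφ, one_pow, h2, hone] at h
      have : (2 : K) * 2 = 2 := by rw [← sq]; exact h
      rw [hone]
      linear_combination this
    have hpm : ∀ e : K, e * e = 1 → e = 1 := fun e he => by
      rcases mul_self_eq_one_iff.1 he with h | h
      · exact h
      · rw [h]; linear_combination -h11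
    have hneg : ∀ x : K, -x = x := fun x => by linear_combination (-x) * h11
    refine ⟨mk _ (hmemU 1), 1, 1, 1, hsub ?_⟩
    show Uv 1 * goodD4.xG 14 ((1 : F) : K) * (Uv 1)⁻¹ =
      goodD4.xG 14 ((1 : F) : K) * Bv 1 * Cv 1 * goodD4.xG 22 ((1 : F) : K) * goodD4.xG 23 ((1 : F) : K)
    simp only [Uv, Bv, Cv, f1, f2, f3, hpm _ he1, hpm _ he2, hpm _ he3, hpm _ hg1, hpm _ hg2, hpm _ hg3,
      map_one, one_mul, OneMemClass.coe_one]
    -- the conjugate
    have one1 : ∀ (r s k : ℕ) (M : ℤ), commOne r s k M → commPair s k → (M = 1 ∨ M = -1) →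
        goodD4.xG s (1 : K) * goodD4.xG r (1 : K) * (goodD4.xG s (1 : K))⁻¹ =
          goodD4.xG r (1 : K) * goodD4.xG k (1 : K) := fun r s k M h hk hM => by
      rw [com1_conj h hk]
      congr 2
      rcases hM with rfl | rfl <;> simp [hneg]
    have one0 : ∀ (r s : ℕ), commPair s r →
        goodD4.xG s (1 : K) * goodD4.xG r (1 : K) * (goodD4.xG s (1 : K))⁻¹ = goodD4.xG r (1 : K) :=
      fun r s h => com_conj h _ _
    set y12 := goodD4.xG (F := K) 12 1; set y13 := goodD4.xG (F := K) 13 1; set y18 := goodD4.xG (F := K) 18 1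
    set y14 := goodD4.xG (F := K) 14 1; set y15 := goodD4.xG (F := K) 15 1; set y16 := goodD4.xG (F := K) 16 1
    set y17 := goodD4.xG (F := K) 17 1; set y19 := goodD4.xG (F := K) 19 1; set y20 := goodD4.xG (F := K) 20 1
    set y21 := goodD4.xG (F := K) 21 1; set y22 := goodD4.xG (F := K) 22 1; set z1 := goodD4.xG (F := K) 23 1
    have a14 : y18 * y14 * y18⁻¹ = y14 * y19 := one1 14 18 19 1 (by decide +kernel) (by decide +kernel) (by simp)
    have b14 : y13 * y14 * y13⁻¹ = y14 * y16 := one1 14 13 16 (-1) (by decide +kernel) (by decide +kernel) (by simp)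
    have b19 : y13 * y19 * y13⁻¹ = y19 * y21 := one1 19 13 21 (-1) (by decide +kernel) (by decide +kernel) (by simp)
    have d14 : y12 * y14 * y12⁻¹ = y14 * y15 := one1 14 12 15 (-1) (by decide +kernel) (by decide +kernel) (by simp)
    have d16 : y12 * y16 * y12⁻¹ = y16 * y17 := one1 16 12 17 (-1) (by decide +kernel) (by decide +kernel) (by simp)
    have d19 : y12 * y19 * y12⁻¹ = y19 * y20 := one1 19 12 20 (-1) (by decide +kernel) (by decide +kernel) (by simp)
    have d21 : y12 * y21 * y12⁻¹ = y21 * y22 :=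
      one1 21 12 22 (-1) (by decide +kernel) (by decide +kernel) (by simp)
    have k1719 : y17 * y19 = y19 * y17 * z1 := by
      rw [com1 (r := 19) (s := 17) (k := 23) (M := -1) (by decide +kernel)]
      simp [z1, y17, y19]
    have k17_20 : y17 * y20 = y20 * y17 := (com (by decide +kernel) _ _).eq
    have k17_21 : y17 * y21 = y21 * y17 := (com (by decide +kernel) _ _).eq
    have k20_21 : y20 * y21 = y21 * y20 := (com (by decide +kernel) _ _).eq
    have zc : ∀ r, commPair 23 r → z1 * goodD4.xG r (1 : K) = goodD4.xG r (1 : K) * z1 := fun r h =>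
      (com h _ _).eq
    have zc20 : z1 * y20 = y20 * z1 := zc 20 (by decide +kernel)
    have zc21 : z1 * y21 = y21 * z1 := zc 21 (by decide +kernel)
    have zc22 : z1 * y22 = y22 * z1 := zc 22 (by decide +kernel)
    calc y12 * y13 * y18 * y14 * (y12 * y13 * y18)⁻¹
        = y12 * (y13 * (y18 * y14 * y18⁻¹) * y13⁻¹) * y12⁻¹ := by group
      _ = y12 * ((y13 * y14 * y13⁻¹) * (y13 * y19 * y13⁻¹)) * y12⁻¹ := by rw [a14]; group
      _ = (y12 * y14 * y12⁻¹) * (y12 * y16 * y12⁻¹) * ((y12 * y19 * y12⁻¹) * (y12 * y21 * y12⁻¹)) := by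
          rw [b14, b19]; group
      _ = y14 * y15 * y16 * (y17 * y19) * y20 * y21 * y22 := by rw [d14, d16, d19, d21]; group
      _ = y14 * y15 * y16 * y19 * y17 * (z1 * y20) * y21 * y22 := by rw [k1719]; group
      _ = y14 * y15 * y16 * y19 * (y17 * y20) * (z1 * y21) * y22 := by rw [zc20]; group
      _ = y14 * y15 * y16 * y19 * y20 * (y17 * y21) * (z1 * y22) := by
          rw [k17_20, zc21]; group
      _ = y14 * y15 * y16 * y19 * (y20 * y21) * y17 * y22 * z1 := by
          rw [k17_21, zc22]; group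
      _ = y14 * (y15 * y16 * y19) * (y21 * y20 * y17) * y22 * z1 := by rw [k20_21]; group
  have := S.degree_bound ρ hne (by rw [hK, hcardF]) hN htwo
  rwa [hcardF] at this

/-- The exceptional value does not divide the group order. -/
theorem not_dvd_order {q : ℕ} (hq : 2 ≤ q) :
    ¬ q ^ 4 + q ^ 3 + 1 ∣ q ^ 12 * (q ^ 2 - 1) * (q ^ 6 - 1) * (q ^ 8 + q ^ 4 + 1) := by
  intro h
  have hcop : Nat.Coprime (q ^ 4 + q ^ 3 + 1) (q ^ 12) := by
    refine Nat.Coprime.pow_right _ ?_
    rw [show q ^ 4 + q ^ 3 + 1 = 1 + q * (q ^ 3 + q ^ 2) by ring, Nat.coprime_add_mul_left_left]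
    exact Nat.coprime_one_left q
  rw [mul_assoc, mul_assoc] at h
  have h1 := hcop.dvd_of_dvd_mul_left h
  rcases Nat.lt_or_ge q 6 with h6 | h6
  · interval_cases q <;> norm_num at h1
  · have h2 : ((q ^ 4 + q ^ 3 + 1 : ℕ) : ℤ) ∣ (((q ^ 2 - 1) * ((q ^ 6 - 1) * (q ^ 8 + q ^ 4 + 1)) : ℕ) : ℤ) :=
      Int.natCast_dvd_natCast.2 h1
    rw [Nat.cast_mul, Nat.cast_mul, Nat.cast_sub (Nat.one_le_pow _ _ (by omega)),
      Nat.cast_sub (Nat.one_le_pow _ _ (by omega))] at h2
    push_cast at h2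
    have hq0 : (6 : ℤ) ≤ q := by exact_mod_cast h6
    generalize (q : ℤ) = x at h2 hq0
    have h3 : x ^ 4 + x ^ 3 + 1 ∣ 6 * x ^ 3 + 2 * x ^ 2 - 4 * x + 5 := by
      obtain ⟨c, hc⟩ := h2
      exact ⟨6 - 4 * x + x ^ 2 - x ^ 4 + 3 * x ^ 5 - 3 * x ^ 6 + x ^ 7 - x ^ 11 + x ^ 12 - c,
        by linear_combination -1 * hc⟩
    have h4 : (0 : ℤ) < 6 * x ^ 3 + 2 * x ^ 2 - 4 * x + 5 := by nlinarith [pow_le_pow_left₀ (by omega) hq0 3]
    have h5 : 6 * x ^ 3 + 2 * x ^ 2 - 4 * x + 5 < x ^ 4 + x ^ 3 + 1 := by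
      nlinarith [mul_le_mul_of_nonneg_right hq0 (by positivity : (0 : ℤ) ≤ x ^ 3),
        mul_le_mul_of_nonneg_right hq0 (by positivity : (0 : ℤ) ≤ x ^ 2)]
    exact absurd (Int.le_of_dvd h4 h3) (not_le.2 h5)

/-- The smallest degree of a nontrivial irreducible representation of ³D₄(q). -/
theorem min_degree (q : ℕ) (hq : IsPrimePow q) (hK : Fintype.card K = q ^ 3) {M : Type*} [AddCommGroup M]
    [Module ℂ M] [FiniteDimensional ℂ M] (ρ : Representation ℂ ↥(twistedD4 K q) M) [ρ.IsIrreducible]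
    (hne : ∃ g, ρ g ≠ 1) : q * (q ^ 4 - q ^ 2 + 1) ≤ finrank ℂ M := by
  have h := min_degree_weak q hq hK ρ hne
  have hq2 : 2 ≤ q := hq.two_le
  have hd := CfsgLib.Char.degree_dvd_card ρ
  rw [card_twistedD4 K hq hK] at hd
  have e1 : q * (q ^ 4 - q ^ 2 + 1) = q ^ 5 - q ^ 3 + q := by
    rw [mul_add, Nat.mul_sub, mul_one, ← pow_succ', ← pow_succ']
  rw [e1]
  have hp : q ^ 3 ≤ q ^ 5 := Nat.pow_le_pow_right (by omega) (by norm_num)
  by_contra hlt
  have he : finrank ℂ M = q ^ 5 - q ^ 3 + q - 1 := by omega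
  apply not_dvd_order hq2
  refine Dvd.dvd.trans ?_ hd
  refine ⟨q - 1, ?_⟩
  rw [he]
  obtain ⟨r, rfl⟩ : ∃ r, q = r + 1 := ⟨q - 1, by omega⟩
  have : (r + 1) ^ 5 + (r + 1) = ((r + 1) ^ 4 + (r + 1) ^ 3 + 1) * r + (r + 1) ^ 3 + 1 := by ring
  rw [Nat.add_sub_cancel]
  omega

end CfsgLib.KnownB.D4Deg
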