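import Cfsg.Agent.Lib.Chev.ReeMinDegree

/-!
Counting on the Heisenberg radical of the parabolic subgroup of a triality group: the degree of a faithful
complex representation is at least `q⁵ − q³ + q − 1`.
-/

set_option autoImplicit false
set_option maxHeartbeats 800000
set_option linter.unusedSectionVars false

namespace CfsgLib.KnownB.D4Deg

open Module CfsgLib.Chev

section Counting

variable {A : Type*} [AddCommGroup A] [Fintype A] {M : Type*} [AddCommGroup M] [Module ℂ M]
  [FiniteDimensional ℂ M] {Y : A → Module.End ℂ M}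

/-- The multiplicity of a character in an operator family. -/
noncomputable def mult (Y : A → Module.End ℂ M) (χ : AddChar A ℂ) : ℕ :=
  finrank ℂ (LinearMap.range (EigProj.proj Y χ))

theorem trace_proj (χ : AddChar A ℂ) :
    LinearMap.trace ℂ M (EigProj.proj Y χ) =
      (Fintype.card A : ℂ)⁻¹ * ∑ a, χ (-a) * LinearMap.trace ℂ M (Y a) := by
  simp only [EigProj.proj, map_smul, map_sum, smul_eq_mul]

theorem mult_eq (hadd : ∀ a b, Y (a + b) = Y a * Y b) (χ : AddChar A ℂ) :
    (mult Y χ : ℂ) = (Fintype.card A : ℂ)⁻¹ * ∑ a, χ (-a) * LinearMap.trace ℂ M (Y a) := by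
  rw [← trace_proj, trace_idem (EigProj.isIdem hadd χ)]
  rfl

theorem sum_proj_eq : ∑ χ : AddChar A ℂ, EigProj.proj Y χ = Y 0 := by
  classical
  simp only [EigProj.proj, ← Finset.smul_sum]
  rw [Finset.sum_comm]
  simp only [← Finset.sum_smul, AddChar.sum_apply_eq_ite, neg_eq_zero, ite_smul, zero_smul,
    Finset.sum_ite_eq', Finset.mem_univ, if_true, smul_smul]
  rw [inv_mul_cancel₀ (by simp), one_smul]

theorem trace_eq_sum (hadd : ∀ a b, Y (a + b) = Y a * Y b) (a : A) :
    LinearMap.trace ℂ M (Y a) = ∑ χ : AddChar A ℂ, χ a * (mult Y χ : ℂ) := by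
  have h : Y a = ∑ χ : AddChar A ℂ, χ a • EigProj.proj Y χ := by
    conv_lhs => rw [← add_zero a, hadd, ← sum_proj_eq (Y := Y), Finset.mul_sum]
    exact Finset.sum_congr rfl fun χ _ => EigProj.mul_proj hadd χ a
  rw [h, map_sum]
  refine Finset.sum_congr rfl fun χ _ => ?_
  rw [map_smul, smul_eq_mul, mult_eq hadd, ← trace_proj]

/-- Invariance of the multiplicities under an automorphism fixing the traces. -/
theorem mult_comp (hadd : ∀ a b, Y (a + b) = Y a * Y b) (L : A ≃+ A)
    (hL : ∀ a, LinearMap.trace ℂ M (Y (L a)) = LinearMap.trace ℂ M (Y a)) (χ : AddChar A ℂ) :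
    mult Y (χ.compAddMonoidHom L.toAddMonoidHom) = mult Y χ := by
  have : (mult Y (χ.compAddMonoidHom L.toAddMonoidHom) : ℂ) = (mult Y χ : ℂ) := by
    rw [mult_eq hadd, mult_eq hadd]
    congr 1
    refine Fintype.sum_equiv L.toEquiv _ _ fun a => ?_
    show χ (L (-a)) * _ = χ (-L a) * _
    rw [map_neg]
    congr 1
    exact (hL a).symm
  exact_mod_cast this

/-- Multiplicities of a restricted family. -/
theorem mult_restrict {S : Type*} [AddCommGroup S] [Fintype S] (hadd : ∀ a b, Y (a + b) = Y a * Y b)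
    (j : S →+ A) (μ : AddChar S ℂ) [DecidablePred fun χ : AddChar A ℂ => χ.compAddMonoidHom j = μ] :
    mult (fun s => Y (j s)) μ = ∑ χ ∈ Finset.univ.filter (fun χ : AddChar A ℂ => χ.compAddMonoidHom j = μ),
      mult Y χ := by
  classical
  have h : (mult (fun s => Y (j s)) μ : ℂ) = ∑ χ ∈ Finset.univ.filter
      (fun χ : AddChar A ℂ => χ.compAddMonoidHom j = μ), (mult Y χ : ℂ) := by
    rw [mult_eq (fun a b => by rw [map_add, hadd]),
      Finset.sum_congr rfl fun s _ => by rw [trace_eq_sum hadd (j s), Finset.mul_sum], Finset.sum_comm,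
      Finset.mul_sum, Finset.sum_filter]
    refine Finset.sum_congr rfl fun χ _ => ?_
    have hs : ∑ s, μ (-s) * χ (j s) = if χ.compAddMonoidHom j * μ⁻¹ = 0 then (Fintype.card S : ℂ) else 0 := by
      rw [← AddChar.sum_eq_ite]
      refine Finset.sum_congr rfl fun s _ => ?_
      rw [AddChar.mul_apply, AddChar.inv_apply, AddChar.compAddMonoidHom_apply, mul_comm]
    simp only [← mul_assoc, ← Finset.sum_mul]
    rw [mul_assoc, hs]
    by_cases hc : χ.compAddMonoidHom j = μ
    · rw [if_pos hc, if_pos (by rw [hc]; exact mul_inv_cancel μ)]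
      field_simp
    · have hc' : ¬ χ.compAddMonoidHom j * μ⁻¹ = 0 := fun h' => hc ((mul_inv_eq_one (G := AddChar S ℂ)).1 h')
      rw [if_neg hc, if_neg hc']
      simp
  exact_mod_cast h

/-- Summing over a subgroup keeps the characters trivial on it. -/
theorem sum_trace_image {S : Type*} [AddCommGroup S] [Fintype S] (hadd : ∀ a b, Y (a + b) = Y a * Y b)
    (j : S →+ A) [DecidablePred fun χ : AddChar A ℂ => χ.compAddMonoidHom j = 0] :
    ∑ s : S, LinearMap.trace ℂ M (Y (j s)) =
      (Fintype.card S : ℂ) * ((∑ χ ∈ Finset.univ.filter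
        (fun χ : AddChar A ℂ => χ.compAddMonoidHom j = 0), mult Y χ : ℕ) : ℂ) := by
  classical
  rw [Finset.sum_congr rfl fun s _ => trace_eq_sum hadd (j s), Finset.sum_comm, Nat.cast_sum, Finset.mul_sum,
    Finset.sum_filter]
  refine Finset.sum_congr rfl fun χ _ => ?_
  rw [← Finset.sum_mul, show (fun s => χ (j s)) = ⇑(χ.compAddMonoidHom j) from rfl, AddChar.sum_eq_ite]
  split <;> simp

end Counting

/-- The elements used in the count. -/
structure Heis (G : Type*) [Group G] (F : Type*) [Field F] (K : Type*) [Field K] [Algebra F K] where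
  /-- the centre -/
  z : F → G
  /-- the first central node root -/
  e : F → G
  /-- the last root of the layer -/
  d : F → G
  /-- the first triple -/
  B : K → G
  /-- the second triple -/
  C : K → G
  z_add : ∀ s t, z (s + t) = z s * z t
  e_add : ∀ s t, e (s + t) = e s * e t
  d_add : ∀ s t, d (s + t) = d s * d t
  B_add : ∀ s t, B (s + t) = B s * B t
  C_add : ∀ s t, C (s + t) = C s * C t
  z_ne : z 1 ≠ 1
  z_e : ∀ s t, Commute (z s) (e t)
  z_d : ∀ s t, Commute (z s) (d t)
  z_B : ∀ s t, Commute (z s) (B t)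
  z_C : ∀ s t, Commute (z s) (C t)
  e_B : ∀ s t, Commute (e s) (B t)
  e_C : ∀ s t, Commute (e s) (C t)
  d_B : ∀ s t, Commute (d s) (B t)
  d_C : ∀ s t, Commute (d s) (C t)
  /-- the structure constant -/
  ε : F
  ε_ne : ε ≠ 0
  e_d : ∀ s t, e s * d t = d t * e s * z (ε * s * t)
  /-- the pairing of the triples -/
  τ : K → K →ₗ[F] F
  τ_ne : ∀ b, b ≠ 0 → ∃ c, τ b c ≠ 0
  B_C : ∀ b c, B b * C c = C c * B b * z (τ b c)
  tor1 : ∀ ν : F, ν ≠ 0 → ∃ g : G, ∀ (t : F) (b : K), g * z t * g⁻¹ = z (ν * t) ∧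
    g * e t * g⁻¹ = e (ν ^ 2 * t) ∧ g * B b * g⁻¹ = B (ν • b) ∧ g * C b * g⁻¹ = C b ∧
    g * d t * g⁻¹ = d (ν⁻¹ * t)
  tor2 : ∀ s : F, s ≠ 0 → ∃ g : G, ∀ (t : F) (b : K), g * z t * g⁻¹ = z t ∧
    g * e t * g⁻¹ = e ((s ^ 3)⁻¹ * t) ∧ g * B b * g⁻¹ = B (s⁻¹ • b) ∧ g * C b * g⁻¹ = C (s • b) ∧
    g * d t * g⁻¹ = d (s ^ 3 * t)
  /-- the norm -/
  N : K → F
  N_ne : ∀ a, a ≠ 0 → N a ≠ 0
  /-- the scaling of the second triple -/
  κ : K → K
  κ_ne : ∀ a, a ≠ 0 → κ a ≠ 0
  tor3 : ∀ a : K, a ≠ 0 → ∃ g : G, ∀ (t : F) (b : K), g * z t * g⁻¹ = z (N a * t) ∧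
    g * e t * g⁻¹ = e (N a * t) ∧ g * B b * g⁻¹ = B (a ^ 2 * b) ∧ g * C b * g⁻¹ = C (κ a * b) ∧
    g * d t * g⁻¹ = d t
  e_conj : ∀ t, t ≠ 0 → ∃ t', t' ≠ 0 ∧ IsConj (e t) (z t')
  d_conj : ∀ t, t ≠ 0 → ∃ t', t' ≠ 0 ∧ IsConj (d t) (z t')
  /-- the pairing with the Levi unipotent -/
  τ' : K → K →ₗ[F] F
  τ'_ne : ∀ b, b ≠ 0 → ∃ c, τ' b c ≠ 0
  τ'_sub : ∀ b b' c, τ' (b - b') c = τ' b c - τ' b' c
  shift : ∀ b, ∃ u : G, ∀ (c : K) (t : F), u * C c * u⁻¹ = C c * d (τ' b c) ∧ u * d t * u⁻¹ = d t ∧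
    u * z t * u⁻¹ = z t

namespace Heis

variable {G : Type*} [Group G] {F : Type*} [Field F] [Fintype F] {K : Type*} [Field K] [Fintype K]
  [Algebra F K] (S : Heis G F K)
include S

theorem z_zero : S.z 0 = 1 := mul_eq_left.1 (by rw [← S.z_add, add_zero] : S.z 0 * S.z 0 = S.z 0)
theorem e_zero : S.e 0 = 1 := mul_eq_left.1 (by rw [← S.e_add, add_zero] : S.e 0 * S.e 0 = S.e 0)
theorem d_zero : S.d 0 = 1 := mul_eq_left.1 (by rw [← S.d_add, add_zero] : S.d 0 * S.d 0 = S.d 0)
theorem B_zero : S.B 0 = 1 := mul_eq_left.1 (by rw [← S.B_add, add_zero] : S.B 0 * S.B 0 = S.B 0)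
theorem C_zero : S.C 0 = 1 := mul_eq_left.1 (by rw [← S.C_add, add_zero] : S.C 0 * S.C 0 = S.C 0)

/-- The elements of the first half. -/
def X (v : F × K) : G := S.e v.1 * S.B v.2

/-- The elements of the second half. -/
def Yh (w : K × F) : G := S.C w.1 * S.d w.2

/-- The pairing. -/
def P (v : F × K) (w : K × F) : F := S.ε * v.1 * w.2 + S.τ v.2 w.1

/-- The representatives of the quotient by the centre. -/
def E (v : (F × K) × (K × F)) : G := S.X v.1 * S.Yh v.2

theorem X_add (v v' : F × K) : S.X (v + v') = S.X v * S.X v' := by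
  rw [X, X, X, Prod.fst_add, Prod.snd_add, S.e_add, S.B_add, mul_assoc, ← mul_assoc (S.e v'.1),
    (S.e_B v'.1 v.2).eq]
  simp only [mul_assoc]

theorem Yh_add (w w' : K × F) : S.Yh (w + w') = S.Yh w * S.Yh w' := by
  rw [Yh, Yh, Yh, Prod.fst_add, Prod.snd_add, S.C_add, S.d_add, mul_assoc, ← mul_assoc (S.C w'.1),
    ← (S.d_C w.2 w'.1).eq]
  simp only [mul_assoc]

theorem z_X (t : F) (v : F × K) : Commute (S.z t) (S.X v) := (S.z_e t v.1).mul_right (S.z_B t v.2)

theorem z_Yh (t : F) (w : K × F) : Commute (S.z t) (S.Yh w) := (S.z_C t w.1).mul_right (S.z_d t w.2)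

theorem X_Yh (v : F × K) (w : K × F) : S.X v * S.Yh w = S.Yh w * S.X v * S.z (S.P v w) := by
  obtain ⟨a, b⟩ := v
  obtain ⟨c, t⟩ := w
  simp only [X, Yh, P]
  calc S.e a * S.B b * (S.C c * S.d t) = S.e a * (S.B b * S.C c) * S.d t := by group
    _ = S.e a * (S.C c * S.B b * S.z (S.τ b c)) * S.d t := by rw [S.B_C]
    _ = (S.e a * S.C c) * S.B b * (S.z (S.τ b c) * S.d t) := by group
    _ = (S.C c * S.e a) * S.B b * (S.d t * S.z (S.τ b c)) := by rw [(S.e_C a c).eq, (S.z_d _ t).eq]
    _ = S.C c * S.e a * (S.B b * S.d t) * S.z (S.τ b c) := by group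
    _ = S.C c * (S.e a * S.d t) * S.B b * S.z (S.τ b c) := by rw [← (S.d_B t b).eq]; group
    _ = S.C c * (S.d t * S.e a * S.z (S.ε * a * t)) * S.B b * S.z (S.τ b c) := by rw [S.e_d]
    _ = S.C c * S.d t * S.e a * (S.z (S.ε * a * t) * S.B b) * S.z (S.τ b c) := by group
    _ = S.C c * S.d t * S.e a * (S.B b * S.z (S.ε * a * t)) * S.z (S.τ b c) := by rw [(S.z_B _ b).eq]
    _ = _ := by rw [S.z_add]; group

theorem P_zero_left (w : K × F) : S.P 0 w + S.P 0 w = S.P 0 w := by
  have h := S.X_Yh 0 w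
  have hX : S.X 0 = 1 := by simp [X, S.e_zero, S.B_zero]
  rw [hX, one_mul, mul_one, left_eq_mul] at h
  have h2 : S.τ (0 : K) w.1 = 0 := by
    have h3 := S.B_C 0 w.1
    rw [S.B_zero, one_mul, mul_one, left_eq_mul] at h3
    by_contra hne
    refine S.z_ne ?_
    obtain ⟨g, hg⟩ := S.tor1 _ (inv_ne_zero hne)
    have := (hg (S.τ 0 w.1) 0).1
    rw [h3, mul_one, mul_inv_cancel, inv_mul_cancel₀ hne] at this
    exact this.symm
  simp [P, h2]

theorem exists_P (v : F × K) (hv : v ≠ 0) (t : F) : ∃ w, S.P v w = t := by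
  by_cases ha : v.1 = 0
  · have hb : v.2 ≠ 0 := fun h => hv (Prod.ext ha h)
    obtain ⟨c, hc⟩ := S.τ_ne _ hb
    refine ⟨((t / S.τ v.2 c) • c, 0), ?_⟩
    simp [P, map_smul, hc]
  · refine ⟨(0, t / (S.ε * v.1)), ?_⟩
    simp only [P, map_zero, add_zero]
    field_simp [S.ε_ne, ha]

theorem X_conj_z (v : F × K) (hv : v ≠ 0) (t : F) : IsConj (S.X v) (S.X v * S.z t) := by
  obtain ⟨w, hw⟩ := S.exists_P v hv t
  rw [isConj_iff]
  refine ⟨(S.Yh w)⁻¹, ?_⟩
  rw [inv_inv, mul_assoc, S.X_Yh, hw]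
  group

variable [Finite G] [IsSimpleGroup G] {M : Type*} [AddCommGroup M] [Module ℂ M] [FiniteDimensional ℂ M]

/-- The degree bound. -/
theorem degree_bound (ρ : Representation ℂ G M) (hne : ∃ g, ρ g ≠ 1) (hF : Fintype.card K = Fintype.card F ^ 3)
    (hN : 2 < Fintype.card F → ∃ a, a ≠ 0 ∧ S.N a ≠ 1)
    (htwo : Fintype.card F = 2 → ∃ (g : G) (b c : K) (t : F),
      g * S.e 1 * g⁻¹ = S.e 1 * S.B b * S.C c * S.d 1 * S.z t) :
    Fintype.card F ^ 5 - Fintype.card F ^ 3 + Fintype.card F - 1 ≤ finrank ℂ M := by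
  classical
  obtain ⟨q, hq⟩ : ∃ q, q = Fintype.card F := ⟨_, rfl⟩
  rw [← hq] at hF hN htwo ⊢
  have hq2 : 2 ≤ q := hq ▸ Fintype.one_lt_card
  set χ : G → ℂ := fun g => LinearMap.trace ℂ M (ρ g) with hχ
  have hclass : ∀ {g h : G}, IsConj g h → χ g = χ h := fun {g h} hgh => by
    obtain ⟨c, rfl⟩ := isConj_iff.1 hgh
    simp only [χ, map_mul]
    rw [LinearMap.trace_mul_comm, ← mul_assoc, ← map_mul ρ, inv_mul_cancel, map_one, one_mul]
  have hker : Function.Injective ρ := by
    rcases (MonoidHom.normal_ker ρ).eq_bot_or_eq_top with h | h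
    · exact (MonoidHom.ker_eq_bot_iff ρ).1 h
    · obtain ⟨g, hg⟩ := hne
      exact absurd (MonoidHom.mem_ker.1 (h ▸ Subgroup.mem_top g)) hg
  -- the centre
  let Zr : F → Module.End ℂ M := fun t => ρ (S.z t)
  have hZadd : ∀ s t, Zr (s + t) = Zr s * Zr t := fun s t => by simp only [Zr, S.z_add, map_mul]
  set P0 := EigProj.proj Zr (0 : AddChar F ℂ) with hP0
  have hP0z : ∀ t, Zr t * P0 = P0 := fun t => by
    rw [hP0, EigProj.mul_proj hZadd, AddChar.zero_apply, one_smul]
  obtain ⟨β, hβ⟩ : ∃ β, β = χ (S.z 1) := ⟨_, rfl⟩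
  have hβz : ∀ t, t ≠ 0 → χ (S.z t) = β := by
    intro t ht
    obtain ⟨g, hg⟩ := S.tor1 t ht
    have h := (hg 1 0).1
    rw [mul_one] at h
    rw [hβ, ← h]
    exact (hclass (isConj_iff.2 ⟨g, rfl⟩)).symm
  have hone : χ 1 = (finrank ℂ M : ℂ) := by simp [χ]
  -- operators on the quotient by the centre
  let R : (F × K) × (K × F) → Module.End ℂ M := fun v => ρ (S.E v) * P0
  have hP0comm : ∀ g : G, (∀ t, Commute (S.z t) g) → Commute P0 (ρ g) := fun g hg => by
    rw [hP0, EigProj.proj]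
    refine Commute.smul_left (Commute.sum_left _ _ _ fun t _ => Commute.smul_left ?_ _) _
    exact ((hg t).map ρ)
  have hP0E : ∀ v, Commute P0 (ρ (S.E v)) := fun v =>
    hP0comm _ fun t => (S.z_X t v.1).mul_right (S.z_Yh t v.2)
  have hP0id : P0 * P0 = P0 := EigProj.isIdem hZadd 0
  have hRadd : ∀ v w, R (v + w) = R v * R w := by
    intro v w
    have h : S.E v * S.E w = S.E (v + w) * (S.z (S.P w.1 v.2))⁻¹ := by
      have e1 : S.Yh v.2 * S.X w.1 = S.X w.1 * S.Yh v.2 * (S.z (S.P w.1 v.2))⁻¹ := by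
        rw [S.X_Yh, mul_inv_cancel_right]
      simp only [E, Prod.fst_add, Prod.snd_add, S.X_add, S.Yh_add]
      calc S.X v.1 * S.Yh v.2 * (S.X w.1 * S.Yh w.2) = S.X v.1 * (S.Yh v.2 * S.X w.1) * S.Yh w.2 := by group
        _ = S.X v.1 * S.X w.1 * S.Yh v.2 * ((S.z (S.P w.1 v.2))⁻¹ * S.Yh w.2) := by rw [e1]; group
        _ = _ := by rw [((S.z_Yh (S.P w.1 v.2) w.2).inv_left).eq]; group
    have hzinv : ρ (S.z (S.P w.1 v.2))⁻¹ * P0 = P0 := by
      conv_lhs => rw [← hP0z (S.P w.1 v.2)]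
      rw [← mul_assoc, ← map_mul, inv_mul_cancel, map_one, one_mul]
    show _ = (ρ (S.E v) * P0) * (ρ (S.E w) * P0)
    rw [mul_assoc (ρ (S.E v)), ← mul_assoc P0, (hP0E w).eq, mul_assoc (ρ (S.E w)), hP0id, ← mul_assoc,
      ← map_mul, h, map_mul, mul_assoc, hzinv]
  let f : (F × K) × (K × F) → ℂ := fun v => LinearMap.trace ℂ M (R v)
  -- traces on the first half
  have hXc : ∀ (v : F × K), v ≠ 0 → ∀ t, χ (S.X v * S.z t) = χ (S.X v) := fun v hv t =>
    (hclass (S.X_conj_z v hv t)).symm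
  have hR0 : R 0 = P0 := by
    simp [R, E, X, Yh, S.e_zero, S.B_zero, S.C_zero, S.d_zero]
  have hfg : ∀ g : G, LinearMap.trace ℂ M (ρ g * P0) = (q : ℂ)⁻¹ * ∑ t : F, χ (g * S.z t) := by
    intro g
    rw [hP0, EigProj.proj, mul_smul_comm, map_smul, Finset.mul_sum, map_sum, smul_eq_mul, hq]
    congr 1
    refine Finset.sum_congr rfl fun t _ => ?_
    rw [AddChar.zero_apply, one_smul, ← map_mul]
  have hfX : ∀ v : F × K, v ≠ 0 → f (v, 0) = χ (S.X v) := by
    intro v hv
    show LinearMap.trace ℂ M (ρ (S.E (v, 0)) * P0) = _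
    rw [hfg, show S.E (v, 0) = S.X v by simp [E, Yh, S.C_zero, S.d_zero],
      Finset.sum_congr rfl fun t _ => hXc v hv t, Finset.sum_const, Finset.card_univ, ← hq, nsmul_eq_mul,
      ← mul_assoc, inv_mul_cancel₀ (by exact_mod_cast (by omega : q ≠ 0)), one_mul]
  -- the dimension of the fixed space of the centre
  obtain ⟨a, ha⟩ : ∃ a : ℕ, a = ∑ lam : AddChar ((F × K) × (K × F)) ℂ, mult R lam := ⟨_, rfl⟩
  have haf : f 0 = (a : ℂ) := by
    rw [show f 0 = LinearMap.trace ℂ M (R 0) from rfl, trace_eq_sum hRadd, ha, Nat.cast_sum]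
    simp
  have haP : LinearMap.trace ℂ M P0 = (q : ℂ)⁻¹ * ((finrank ℂ M : ℂ) + ((q : ℂ) - 1) * β) := by
    rw [← one_mul P0, ← map_one ρ, hfg, ← Finset.add_sum_erase _ _ (Finset.mem_univ (0 : F)), S.z_zero,
      one_mul, hone, Finset.sum_congr rfl fun t ht => by rw [one_mul, hβz t (Finset.ne_of_mem_erase ht)],
      Finset.sum_const, Finset.card_erase_of_mem (Finset.mem_univ _), Finset.card_univ, ← hq, nsmul_eq_mul,
      Nat.cast_sub (by omega : 1 ≤ q), Nat.cast_one]
  have hqC : (q : ℂ) ≠ 0 := by exact_mod_cast (by omega : q ≠ 0)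
  -- the nontrivial central characters
  let Xz : (F × K) × F → Module.End ℂ M := fun v => ρ (S.X v.1 * S.z v.2)
  have hXzadd : ∀ v w, Xz (v + w) = Xz v * Xz w := fun v w => by
    simp only [Xz, ← map_mul, Prod.fst_add, Prod.snd_add, S.X_add, S.z_add]
    congr 1
    rw [mul_assoc, ← mul_assoc (S.X w.1), ← (S.z_X v.2 w.1).eq]
    group
  obtain ⟨ψ, hψ⟩ : ∃ ψ : AddChar F ℂ, ψ ≠ 0 := by
    by_contra hall
    push Not at hall
    have h1 : Fintype.card (AddChar F ℂ) = 1 := Fintype.card_eq_one_iff.2 ⟨0, hall⟩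
    rw [AddChar.card_eq] at h1
    omega
  obtain ⟨m, hm⟩ : ∃ m, m = mult Xz (ψ.compAddMonoidHom (AddMonoidHom.snd (F × K) F)) := ⟨_, rfl⟩
  have hcardXz : Fintype.card ((F × K) × F) = q ^ 5 := by
    rw [Fintype.card_prod, Fintype.card_prod, hF, ← hq]; ring
  have hψsum : ∀ (γ : ℂ), ∑ t : F, ψ (-t) * γ = 0 := fun γ => by
    rw [← Finset.sum_mul, Fintype.sum_equiv (Equiv.neg F) (fun t => ψ (-t)) ψ (fun t => rfl),
      AddChar.sum_eq_ite, if_neg hψ, zero_mul]
  have hkβ : (finrank ℂ M : ℂ) - β = (q : ℂ) ^ 5 * m := by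
    rw [hm, mult_eq hXzadd, hcardXz, Nat.cast_pow, ← mul_assoc, mul_inv_cancel₀ (pow_ne_zero _ hqC), one_mul,
      Fintype.sum_prod_type, ← Finset.add_sum_erase _ _ (Finset.mem_univ (0 : F × K))]
    rw [Finset.sum_eq_zero (s := Finset.univ.erase (0 : F × K)) (fun v hv => by
      refine Eq.trans (Finset.sum_congr rfl fun t _ => ?_) (hψsum (χ (S.X v)))
      rw [← hXc v (Finset.ne_of_mem_erase hv) t]
      simp [Xz, χ, AddMonoidHom.snd]), add_zero,
      ← Finset.add_sum_erase _ _ (Finset.mem_univ (0 : F))]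
    have hs : ∑ t ∈ Finset.univ.erase (0 : F), ψ (-t) = -1 := by
      have h := hψsum 1
      simp only [mul_one] at h
      rw [← Finset.add_sum_erase _ _ (Finset.mem_univ (0 : F)), neg_zero, AddChar.map_zero_eq_one] at h
      linear_combination h
    have hX0 : S.X 0 = 1 := by simp [X, S.e_zero, S.B_zero]
    rw [show ∑ t ∈ Finset.univ.erase (0 : F),
        (ψ.compAddMonoidHom (AddMonoidHom.snd (F × K) F)) (-((0 : F × K), t)) *
          LinearMap.trace ℂ M (Xz ((0 : F × K), t)) = ∑ t ∈ Finset.univ.erase (0 : F), ψ (-t) * β from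
      Finset.sum_congr rfl fun t ht => by
        rw [← hβz t (Finset.ne_of_mem_erase ht)]; simp [Xz, χ, hX0],
      ← Finset.sum_mul, hs]
    simp [Xz, hX0, S.z_zero]
    ring
  have hak : (finrank ℂ M : ℂ) = (a : ℂ) + ((q : ℂ) - 1) * (q : ℂ) ^ 4 * m := by
    rw [← haf, show f 0 = LinearMap.trace ℂ M (R 0) from rfl, hR0, haP]
    field_simp
    linear_combination ((q : ℂ) - 1) * hkβ
  have hm0 : 1 ≤ m := by
    by_contra hm0
    have hm0' : m = 0 := by omega
    have h1 : (finrank ℂ M : ℂ) = (a : ℂ) := by rw [hak, hm0']; simp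
    have h2 : LinearMap.trace ℂ M P0 = (finrank ℂ M : ℂ) := by rw [← hR0, h1, ← haf]
    rw [trace_idem (EigProj.isIdem hZadd 0)] at h2
    have h3 : LinearMap.range P0 = ⊤ := Submodule.eq_top_of_finrank_eq (by exact_mod_cast h2)
    refine S.z_ne (hker ?_)
    rw [map_one]
    refine LinearMap.ext fun x => ?_
    obtain ⟨y, rfl⟩ := LinearMap.range_eq_top.1 h3 x
    exact LinearMap.congr_fun (hP0z 1) y
  -- characters trivial on a root subgroup
  let je : F →+ (F × K) × (K × F) :=
    { toFun := fun t => ((t, 0), 0), map_zero' := rfl, map_add' := fun s t => by simp }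
  let jd : F →+ (F × K) × (K × F) :=
    { toFun := fun t => (0, (0, t)), map_zero' := rfl, map_add' := fun s t => by simp }
  have hcount : ∀ j : F →+ (F × K) × (K × F), (∀ t, t ≠ 0 → f (j t) = β) →
      (∑ lam ∈ Finset.univ.filter (fun lam : AddChar ((F × K) × (K × F)) ℂ => lam.compAddMonoidHom j = 0),
        mult R lam : ℕ) + (q - 1) * q ^ 3 * m = a := by
    intro j hj
    have h := sum_trace_image hRadd j
    rw [← Finset.add_sum_erase _ _ (Finset.mem_univ (0 : F)), map_zero, Finset.sum_congr rfl fun t ht =>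
      (show LinearMap.trace ℂ M (R (j t)) = β from hj t (Finset.ne_of_mem_erase ht)), Finset.sum_const,
      Finset.card_erase_of_mem (Finset.mem_univ _), Finset.card_univ, ← hq, nsmul_eq_mul,
      Nat.cast_sub (by omega : 1 ≤ q), Nat.cast_one, show LinearMap.trace ℂ M (R 0) = (a : ℂ) from haf] at h
    have h2 : ((∑ lam ∈ Finset.univ.filter (fun lam : AddChar ((F × K) × (K × F)) ℂ =>
        lam.compAddMonoidHom j = 0), mult R lam : ℕ) : ℂ) + ((q : ℂ) - 1) * q ^ 3 * m = a := by
      refine mul_left_cancel₀ hqC ?_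
      linear_combination ((q : ℂ) - 1) * hak - ((q : ℂ) - 1) * hkβ - h
    have h3 : (((q - 1) * q ^ 3 * m : ℕ) : ℂ) = ((q : ℂ) - 1) * q ^ 3 * m := by
      rw [Nat.cast_mul, Nat.cast_mul, Nat.cast_sub (by omega : 1 ≤ q)]; push_cast; ring
    rw [← h3] at h2
    exact_mod_cast h2
  have hje : ∀ t, t ≠ 0 → f (je t) = β := fun t ht => by
    obtain ⟨t', ht', hc⟩ := S.e_conj t ht
    rw [show je t = ((t, 0), 0) from rfl, hfX _ (by simp [ht]), ← hβz t' ht']
    simpa [X, S.B_zero] using hclass hc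
  have hjd : ∀ t, t ≠ 0 → f (jd t) = β := fun t ht => by
    obtain ⟨t', ht', hc⟩ := S.d_conj t ht
    show LinearMap.trace ℂ M (ρ (S.E (jd t)) * P0) = β
    rw [show S.E (jd t) = S.d t by simp [jd, E, X, Yh, S.e_zero, S.B_zero, S.C_zero], hfg]
    have hct : ∀ s, χ (S.d t * S.z s) = β := fun s => by
      rw [← hβz t' ht', ← hclass hc]
      have h := S.X_Yh (-(s / (S.ε * t)), 0) (0, t)
      simp only [X, Yh, P, S.B_zero, S.C_zero, mul_one, one_mul, map_zero, add_zero] at h
      refine hclass (isConj_iff.2 ⟨S.e (-(s / (S.ε * t))), ?_⟩)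
      rw [← mul_assoc, h, mul_assoc (S.d t * _) (S.z _), ← S.z_add,
        show S.ε * -(s / (S.ε * t)) * t + s = 0 by field_simp [S.ε_ne, ht]; ring, S.z_zero, mul_one,
        mul_inv_cancel_right]
    rw [Finset.sum_congr rfl fun s _ => hct s, Finset.sum_const, Finset.card_univ, ← hq, nsmul_eq_mul,
      ← mul_assoc, inv_mul_cancel₀ hqC, one_mul]
  have he0 := hcount je hje
  have hd0 := hcount jd hjd
  set N0 := ∑ lam ∈ Finset.univ.filter (fun lam : AddChar ((F × K) × (K × F)) ℂ => lam.compAddMonoidHom je = 0),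
    mult R lam with hN0
  have hk : finrank ℂ M = a + (q - 1) * q ^ 4 * m := by
    have h3 : (((q - 1) * q ^ 4 * m : ℕ) : ℂ) = ((q : ℂ) - 1) * q ^ 4 * m := by
      rw [Nat.cast_mul, Nat.cast_mul, Nat.cast_sub (by omega : 1 ≤ q)]; push_cast; ring
    rw [← h3] at hak
    exact_mod_cast hak
  have hgoal : ∀ n : ℕ, n ≤ N0 → (q - 1) * q ^ 4 * m + (q - 1) * q ^ 3 * m + n ≤ finrank ℂ M := fun n hn => by
    omega
  have hq53 : q ^ 5 - q ^ 3 + q - 1 = (q - 1) * q ^ 4 + (q - 1) * q ^ 3 + (q - 1) := by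
    obtain ⟨p, rfl⟩ : ∃ p, q = p + 1 := ⟨q - 1, by omega⟩
    have e : (p + 1) ^ 5 = (p * (p + 1) ^ 4 + p * (p + 1) ^ 3) + (p + 1) ^ 3 := by ring
    rw [Nat.add_sub_cancel, e, Nat.add_sub_cancel]
    omega
  rw [hq53]
  rcases Nat.lt_or_ge 1 m with hm2 | hm2
  · refine le_trans ?_ (hgoal 0 (Nat.zero_le _))
    have h1 : (q - 1) * q ^ 4 * 2 ≤ (q - 1) * q ^ 4 * m := Nat.mul_le_mul_left _ hm2
    have h2 : (q - 1) * q ^ 3 ≤ (q - 1) * q ^ 3 * m := Nat.le_mul_of_pos_right _ (by omega)
    have h4 : (q - 1) * 1 ≤ (q - 1) * q ^ 4 := Nat.mul_le_mul_left _ (Nat.one_le_pow _ _ (by omega))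
    omega
  obtain rfl : m = 1 := by omega
  simp only [mul_one] at hgoal he0 hd0
  refine hgoal (q - 1) ?_
  -- invariance of the multiplicities
  have hconjf : ∀ (g : G) (v w : (F × K) × (K × F)) (ν : F), ν ≠ 0 → (∀ t, g * S.z t * g⁻¹ = S.z (ν * t)) →
      (∃ s, g * S.E v * g⁻¹ = S.E w * S.z s) → f w = f v := by
    rintro g v w ν hν hz ⟨s, hs⟩
    show LinearMap.trace ℂ M (ρ (S.E w) * P0) = LinearMap.trace ℂ M (ρ (S.E v) * P0)
    rw [hfg, hfg]
    congr 1
    refine (Fintype.sum_equiv ((Equiv.mulLeft₀ ν hν).trans (Equiv.addLeft s)) (fun t => χ (S.E v * S.z t))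
      (fun t => χ (S.E w * S.z t)) fun t => ?_).symm
    show χ (S.E v * S.z t) = χ (S.E w * S.z (s + ν * t))
    rw [hclass (isConj_iff.2 ⟨g, rfl⟩ : IsConj (S.E v * S.z t) (g * (S.E v * S.z t) * g⁻¹))]
    congr 1
    rw [S.z_add, ← hz t, ← mul_assoc (S.E w), ← hs]
    group
  have hscale : ∀ (g : G) (c1 c4 : F) (c2 c3 : K) (ν : F), ν ≠ 0 → c1 ≠ 0 → c4 ≠ 0 → c2 ≠ 0 → c3 ≠ 0 →
      (∀ (t : F) (b : K), g * S.z t * g⁻¹ = S.z (ν * t) ∧ g * S.e t * g⁻¹ = S.e (c1 * t) ∧
        g * S.B b * g⁻¹ = S.B (c2 * b) ∧ g * S.C b * g⁻¹ = S.C (c3 * b) ∧ g * S.d t * g⁻¹ = S.d (c4 * t)) →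
      ∃ L : ((F × K) × (K × F)) ≃+ ((F × K) × (K × F)),
        (∀ t b c s, L ((t, b), (c, s)) = ((c1 * t, c2 * b), (c3 * c, c4 * s))) ∧
        ∀ lam, mult R (lam.compAddMonoidHom L.toAddMonoidHom) = mult R lam := by
    intro g c1 c4 c2 c3 ν hν h1 h4 h2 h3 hg
    let L : ((F × K) × (K × F)) ≃+ ((F × K) × (K × F)) :=
      { toFun := fun v => ((c1 * v.1.1, c2 * v.1.2), (c3 * v.2.1, c4 * v.2.2))
        invFun := fun v => ((c1⁻¹ * v.1.1, c2⁻¹ * v.1.2), (c3⁻¹ * v.2.1, c4⁻¹ * v.2.2))
        left_inv := fun v => by simp [h1, h2, h3, h4]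
        right_inv := fun v => by simp [h1, h2, h3, h4]
        map_add' := fun v w => by simp [mul_add] }
    refine ⟨L, fun t b c s => rfl, fun lam => mult_comp hRadd L (fun v => hconjf g v (L v) ν hν
      (fun t => (hg t 0).1) ⟨0, ?_⟩) lam⟩
    rw [S.z_zero, mul_one]
    simp only [E, X, Yh, L, AddEquiv.coe_mk, Equiv.coe_fn_mk]
    rw [← (hg v.1.1 0).2.1, ← (hg 0 v.1.2).2.2.1, ← (hg 0 v.2.1).2.2.2.1, ← (hg v.2.2 0).2.2.2.2]
    group
  have halg : ∀ (s : F) (b : K), s • b = algebraMap F K s * b := fun s b => Algebra.smul_def s b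
  have halg0 : ∀ s : F, s ≠ 0 → algebraMap F K s ≠ 0 := fun s hs => (map_ne_zero _).2 hs
  by_cases hA : ∃ lam : AddChar ((F × K) × (K × F)) ℂ, lam ≠ 0 ∧ lam.compAddMonoidHom je = 0 ∧ 0 < mult R lam
  · obtain ⟨lam, hlam, hlame, hlampos⟩ := hA
    have hlam_e : ∀ t, lam ((t, 0), (0, 0)) = 1 := fun t => by
      have := DFunLike.congr_fun hlame t
      simpa [je, Prod.zero_eq_mk] using this
    -- a family of `q - 1` conjugates
    suffices H : ∃ L : {s : F // s ≠ 0} → ((F × K) × (K × F)) ≃+ ((F × K) × (K × F)),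
        (∀ s, (lam.compAddMonoidHom (L s).toAddMonoidHom).compAddMonoidHom je = 0) ∧
        (∀ s, mult R (lam.compAddMonoidHom (L s).toAddMonoidHom) = mult R lam) ∧
        Function.Injective fun s => lam.compAddMonoidHom (L s).toAddMonoidHom by
      obtain ⟨L, hL0, hLm, hLi⟩ := H
      calc q - 1 = (Finset.univ : Finset {s : F // s ≠ 0}).card := by
            rw [Finset.card_univ, Fintype.card_subtype_compl, Fintype.card_subtype_eq, hq]
        _ = (Finset.univ.image fun s => lam.compAddMonoidHom (L s).toAddMonoidHom).card :=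
            (Finset.card_image_of_injective _ hLi).symm
        _ ≤ ∑ μ ∈ Finset.univ.image (fun s => lam.compAddMonoidHom (L s).toAddMonoidHom), mult R μ := by
            rw [Finset.card_eq_sum_ones]
            refine Finset.sum_le_sum fun μ hμ => ?_
            obtain ⟨s, -, rfl⟩ := Finset.mem_image.1 hμ
            rw [hLm]; exact hlampos
        _ ≤ N0 := Finset.sum_le_sum_of_subset fun μ hμ => by
            obtain ⟨s, -, rfl⟩ := Finset.mem_image.1 hμ
            exact Finset.mem_filter.2 ⟨Finset.mem_univ _, hL0 s⟩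
    have hsplit : ∀ t b c s, lam ((t, b), (c, s)) =
        lam ((t, 0), (0, 0)) * lam ((0, b), (0, 0)) * lam ((0, 0), (c, 0)) * lam ((0, 0), (0, s)) := by
      intro t b c s
      rw [← AddChar.map_add_eq_mul, ← AddChar.map_add_eq_mul, ← AddChar.map_add_eq_mul]
      simp
    have hscal : ∀ (φ : AddChar F ℂ), φ ≠ 0 → ∀ s s' : F, (∀ t, φ (s * t) = φ (s' * t)) → s = s' :=
      fun φ hφ s s' h => AddChar.to_mulShift_inj_of_isPrimitive (AddChar.IsPrimitive.of_ne_one hφ)
        (DFunLike.ext _ _ fun t => h t)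
    have hscalK : ∀ (φ : AddChar K ℂ), φ ≠ 0 → ∀ s s' : K, (∀ t, φ (s * t) = φ (s' * t)) → s = s' :=
      fun φ hφ s s' h => AddChar.to_mulShift_inj_of_isPrimitive (AddChar.IsPrimitive.of_ne_one hφ)
        (DFunLike.ext _ _ fun t => h t)
    let jB : K →+ (F × K) × (K × F) :=
      { toFun := fun b => ((0, b), 0), map_zero' := rfl, map_add' := fun s t => by simp }
    let jC : K →+ (F × K) × (K × F) :=
      { toFun := fun b => (0, (b, 0)), map_zero' := rfl, map_add' := fun s t => by simp }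
    by_cases hδ : lam.compAddMonoidHom jd = 0
    · by_cases hb : lam.compAddMonoidHom jB = 0
      · -- scaling the second triple
        have hc : lam.compAddMonoidHom jC ≠ 0 := fun hc => hlam (DFunLike.ext _ _ fun v => by
          obtain ⟨⟨t, b⟩, c, s⟩ := v
          rw [hsplit, hlam_e]
          have h1 := DFunLike.congr_fun hb b
          have h2 := DFunLike.congr_fun hc c
          have h3 := DFunLike.congr_fun hδ s
          simp only [AddChar.compAddMonoidHom_apply, AddChar.zero_apply, jB, jC, jd] at h1 h2 h3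
          simp only [AddMonoidHom.coe_mk, ZeroHom.coe_mk] at h1 h2 h3
          simp [Prod.zero_eq_mk] at h1 h2 h3
          simp [h1, h2, h3, Prod.zero_eq_mk])
        have hex : ∀ s : {s : F // s ≠ 0}, ∃ L : ((F × K) × (K × F)) ≃+ ((F × K) × (K × F)),
            (∀ t b c r, L ((t, b), (c, r)) = (((s.1 ^ 3)⁻¹ * t, algebraMap F K s.1⁻¹ * b),
              (algebraMap F K s.1 * c, s.1 ^ 3 * r))) ∧
            ∀ l, mult R (l.compAddMonoidHom L.toAddMonoidHom) = mult R l := fun s => by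
          obtain ⟨g, hg⟩ := S.tor2 s.1 s.2
          refine hscale g _ _ _ _ 1 one_ne_zero (inv_ne_zero (pow_ne_zero _ s.2)) (pow_ne_zero _ s.2)
            (halg0 _ (inv_ne_zero s.2)) (halg0 _ s.2) fun t b => ?_
          rw [one_mul, ← halg, ← halg]; exact hg t b
        choose L hL hLm using hex
        refine ⟨L, fun s => DFunLike.ext _ _ fun t => ?_, fun s => hLm s lam, fun s s' h => ?_⟩
        · show lam (L s ((t, 0), (0, 0))) = 1
          rw [hL]; simp [hlam_e]
        · refine Subtype.ext ((algebraMap F K).injective (hscalK _ hc _ _ fun c => ?_))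
          have := DFunLike.congr_fun h ((0, 0), (c, 0))
          simpa [hL, jC, Prod.zero_eq_mk] using this
      · -- scaling the first triple
        have hex : ∀ s : {s : F // s ≠ 0}, ∃ L : ((F × K) × (K × F)) ≃+ ((F × K) × (K × F)),
            (∀ t b c r, L ((t, b), (c, r)) = ((s.1 ^ 2 * t, algebraMap F K s.1 * b), (1 * c, s.1⁻¹ * r))) ∧
            ∀ l, mult R (l.compAddMonoidHom L.toAddMonoidHom) = mult R l := fun s => by
          obtain ⟨g, hg⟩ := S.tor1 s.1 s.2
          refine hscale g _ _ _ _ s.1 s.2 (pow_ne_zero _ s.2) (inv_ne_zero s.2) (halg0 _ s.2) one_ne_zero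
            fun t b => ?_
          rw [one_mul, ← halg]; exact hg t b
        choose L hL hLm using hex
        refine ⟨L, fun s => DFunLike.ext _ _ fun t => ?_, fun s => hLm s lam, fun s s' h => ?_⟩
        · show lam (L s ((t, 0), (0, 0))) = 1
          rw [hL]; simp [hlam_e]
        · refine Subtype.ext ((algebraMap F K).injective (hscalK _ hb _ _ fun c => ?_))
          have := DFunLike.congr_fun h ((0, c), (0, 0))
          simpa [hL, jB, Prod.zero_eq_mk] using this
    · -- scaling the last root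
      have hex : ∀ s : {s : F // s ≠ 0}, ∃ L : ((F × K) × (K × F)) ≃+ ((F × K) × (K × F)),
          (∀ t b c r, L ((t, b), (c, r)) = ((s.1 ^ 2 * t, algebraMap F K s.1 * b), (1 * c, s.1⁻¹ * r))) ∧
          ∀ l, mult R (l.compAddMonoidHom L.toAddMonoidHom) = mult R l := fun s => by
        obtain ⟨g, hg⟩ := S.tor1 s.1 s.2
        refine hscale g _ _ _ _ s.1 s.2 (pow_ne_zero _ s.2) (inv_ne_zero s.2) (halg0 _ s.2) one_ne_zero
          fun t b => ?_
        rw [one_mul, ← halg]; exact hg t b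
      choose L hL hLm using hex
      refine ⟨L, fun s => DFunLike.ext _ _ fun t => ?_, fun s => hLm s lam, fun s s' h => ?_⟩
      · show lam (L s ((t, 0), (0, 0))) = 1
        rw [hL]; simp [hlam_e]
      · refine Subtype.ext (inv_injective (hscal _ hδ _ _ fun c => ?_))
        have := DFunLike.congr_fun h ((0, 0), (0, c))
        simpa [hL, jd, Prod.zero_eq_mk] using this
  · exfalso
    push Not at hA
    have hA' : ∀ lam : AddChar ((F × K) × (K × F)) ℂ, lam ≠ 0 → lam.compAddMonoidHom je = 0 → mult R lam = 0 :=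
      fun lam h1 h2 => Nat.le_zero.1 (hA lam h1 h2)
    have hN0c : N0 = mult R (0 : AddChar ((F × K) × (K × F)) ℂ) := by
      rw [hN0, Finset.sum_eq_single (0 : AddChar ((F × K) × (K × F)) ℂ)]
      · intro μ hμ h0; exact hA' μ h0 (Finset.mem_filter.1 hμ).2
      · intro h; exact (h (Finset.mem_filter.2 ⟨Finset.mem_univ _, DFunLike.ext _ _ fun _ => rfl⟩)).elim
    have hD : ∀ lam : AddChar ((F × K) × (K × F)) ℂ, lam ≠ 0 → lam.compAddMonoidHom jd = 0 → mult R lam = 0 := by
      intro lam h1 h2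
      have hsum : (∑ μ ∈ Finset.univ.filter (fun μ : AddChar ((F × K) × (K × F)) ℂ => μ.compAddMonoidHom jd = 0),
          mult R μ) = N0 := by omega
      have hmem : (0 : AddChar ((F × K) × (K × F)) ℂ) ∈ Finset.univ.filter
          (fun μ : AddChar ((F × K) × (K × F)) ℂ => μ.compAddMonoidHom jd = 0) :=
        Finset.mem_filter.2 ⟨Finset.mem_univ _, DFunLike.ext _ _ fun _ => rfl⟩
      rw [← Finset.add_sum_erase _ _ hmem, ← hN0c] at hsum
      have hmem' : lam ∈ (Finset.univ.filter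
          (fun μ : AddChar ((F × K) × (K × F)) ℂ => μ.compAddMonoidHom jd = 0)).erase 0 :=
        Finset.mem_erase.2 ⟨h1, Finset.mem_filter.2 ⟨Finset.mem_univ lam, h2⟩⟩
      have h3 := Finset.single_le_sum (f := fun μ => mult R μ) (fun _ _ => Nat.zero_le _) hmem'
      omega
    -- the marginals on the second half
    let jW : (K × F) →+ (F × K) × (K × F) :=
      { toFun := fun w => (0, w), map_zero' := rfl, map_add' := fun s t => by simp }
    let RW : K × F → Module.End ℂ M := fun w => R (jW w)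
    have hRW : ∀ v w, RW (v + w) = RW v * RW w := fun v w => by
      show R (jW (v + w)) = R (jW v) * R (jW w)
      rw [map_add, hRadd]
    let jdW : F →+ K × F := AddMonoidHom.inr K F
    have hjdW : ∀ lam : AddChar ((F × K) × (K × F)) ℂ,
        (lam.compAddMonoidHom jW).compAddMonoidHom jdW = lam.compAddMonoidHom jd :=
      fun lam => DFunLike.ext _ _ fun t => rfl
    set Φ := Finset.univ.filter (fun μ : AddChar (K × F) ℂ => μ.compAddMonoidHom jdW ≠ 0) with hΦ
    have hΦsum : ∑ μ ∈ Φ, mult RW μ = (q - 1) * q ^ 3 := by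
      have h : ∑ μ ∈ Φ, mult RW μ = ∑ lam ∈ Finset.univ.filter
          (fun lam : AddChar ((F × K) × (K × F)) ℂ => ¬ lam.compAddMonoidHom jd = 0), mult R lam := by
        rw [Finset.sum_congr rfl fun μ _ => mult_restrict hRadd jW μ]
        rw [← Finset.sum_fiberwise_of_maps_to (g := fun lam : AddChar ((F × K) × (K × F)) ℂ =>
          lam.compAddMonoidHom jW) (t := Φ) (fun lam hlam => Finset.mem_filter.2 ⟨Finset.mem_univ _, by
            rw [hjdW]; exact (Finset.mem_filter.1 hlam).2⟩)]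
        refine Finset.sum_congr rfl fun μ hμ => Finset.sum_congr ?_ fun _ _ => rfl
        ext lam
        simp only [Finset.mem_filter, Finset.mem_univ, true_and]
        refine ⟨fun h => ⟨?_, h⟩, fun h => h.2⟩
        rw [← hjdW, h]
        exact (Finset.mem_filter.1 hμ).2
      have h2 := Finset.sum_filter_add_sum_filter_not Finset.univ
        (fun lam : AddChar ((F × K) × (K × F)) ℂ => lam.compAddMonoidHom jd = 0) (fun lam => mult R lam)
      omega
    have hinv : ∀ (g : G) (ν : F) (L : (K × F) ≃+ (K × F)), ν ≠ 0 → (∀ t, g * S.z t * g⁻¹ = S.z (ν * t)) →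
        (∀ w, g * S.Yh w * g⁻¹ = S.Yh (L w)) →
        ∀ μ, mult RW (μ.compAddMonoidHom L.toAddMonoidHom) = mult RW μ := fun g ν L hν hz hL μ =>
      mult_comp hRW L (fun w => hconjf g (jW w) (jW (L w)) ν hν hz ⟨0, by
        simp only [jW, AddMonoidHom.coe_mk, ZeroHom.coe_mk, E, X, Prod.fst_zero, Prod.snd_zero, S.e_zero,
          S.B_zero, one_mul, S.z_zero, mul_one, hL]⟩) μ
    obtain ⟨μ0, hμ0, hμ0pos⟩ : ∃ μ0 ∈ Φ, 0 < mult RW μ0 := by
      by_contra hall
      push Not at hall
      rw [Finset.sum_eq_zero fun μ hμ => Nat.le_zero.1 (hall μ hμ)] at hΦsum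
      have : 0 < (q - 1) * q ^ 3 := Nat.mul_pos (by omega) (pow_pos (by omega) _)
      omega
    have hδ0 : μ0.compAddMonoidHom jdW ≠ 0 := (Finset.mem_filter.1 hμ0).2
    have hshift : ∀ b : K, ∃ L : (K × F) ≃+ (K × F), (∀ c t, L (c, t) = (c, t + S.τ' b c)) ∧
        ∀ μ, mult RW (μ.compAddMonoidHom L.toAddMonoidHom) = mult RW μ := by
      intro b
      obtain ⟨u, hu⟩ := S.shift b
      let L : (K × F) ≃+ (K × F) :=
        { toFun := fun w => (w.1, w.2 + S.τ' b w.1)
          invFun := fun w => (w.1, w.2 - S.τ' b w.1)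
          left_inv := fun w => by simp
          right_inv := fun w => by simp
          map_add' := fun v w => by ext <;> simp <;> abel }
      refine ⟨L, fun c t => rfl, hinv u 1 L one_ne_zero (fun t => by rw [one_mul]; exact (hu 0 t).2.2) fun w => ?_⟩
      simp only [Yh, L, AddEquiv.coe_mk, Equiv.coe_fn_mk]
      calc u * (S.C w.1 * S.d w.2) * u⁻¹ = u * S.C w.1 * u⁻¹ * (u * S.d w.2 * u⁻¹) := by group
        _ = _ := by rw [(hu w.1 w.2).1, (hu w.1 w.2).2.1, mul_assoc, ← S.d_add, add_comm]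
    have htor : ∀ s : {s : F // s ≠ 0}, ∃ L : (K × F) ≃+ (K × F), (∀ c t, L (c, t) = (c, s.1⁻¹ * t)) ∧
        ∀ μ, mult RW (μ.compAddMonoidHom L.toAddMonoidHom) = mult RW μ := by
      intro s
      obtain ⟨g, hg⟩ := S.tor1 s.1 s.2
      let L : (K × F) ≃+ (K × F) :=
        { toFun := fun w => (w.1, s.1⁻¹ * w.2)
          invFun := fun w => (w.1, s.1 * w.2)
          left_inv := fun w => by simp [s.2]
          right_inv := fun w => by simp [s.2]
          map_add' := fun v w => by simp [mul_add] }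
      refine ⟨L, fun c t => rfl, hinv g s.1 L s.2 (fun t => (hg t 0).1) fun w => ?_⟩
      simp only [Yh, L, AddEquiv.coe_mk, Equiv.coe_fn_mk]
      calc g * (S.C w.1 * S.d w.2) * g⁻¹ = g * S.C w.1 * g⁻¹ * (g * S.d w.2 * g⁻¹) := by group
        _ = _ := by rw [(hg w.2 w.1).2.2.2.1, (hg w.2 w.1).2.2.2.2]
    choose Ls hLs hLsm using hshift
    choose Lt hLt hLtm using htor
    let O : K × {s : F // s ≠ 0} → AddChar (K × F) ℂ := fun p =>
      (μ0.compAddMonoidHom (Ls p.1).toAddMonoidHom).compAddMonoidHom (Lt p.2).toAddMonoidHom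
    have hOval : ∀ p c t, O p (c, t) = μ0 (c, p.2.1⁻¹ * t + S.τ' p.1 c) := fun p c t => by
      show μ0 (Ls p.1 (Lt p.2 (c, t))) = _
      rw [hLt, hLs]
    have hOinj : Function.Injective O := by
      rintro ⟨b, s⟩ ⟨b', s'⟩ h
      have hs : s = s' := by
        refine Subtype.ext (inv_injective (AddChar.to_mulShift_inj_of_isPrimitive
          (AddChar.IsPrimitive.of_ne_one hδ0) (DFunLike.ext _ _ fun t => ?_)))
        have := DFunLike.congr_fun h ((0 : K), t)
        simpa [hOval, jdW, AddChar.mulShift_apply] using this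
      subst hs
      refine Prod.ext ?_ rfl
      by_contra hne
      obtain ⟨c, hc⟩ := S.τ'_ne (b - b') (sub_ne_zero.2 hne)
      refine hδ0 (DFunLike.ext _ _ fun t => ?_)
      have := DFunLike.congr_fun h ((t / S.τ' (b - b') c) • c, (0 : F))
      simp only [hOval, mul_zero, zero_add] at this
      have e : S.τ' b ((t / S.τ' (b - b') c) • c) = S.τ' b' ((t / S.τ' (b - b') c) • c) + t := by
        rw [← sub_eq_iff_eq_add', ← S.τ'_sub, map_smul, smul_eq_mul, div_mul_cancel₀ _ hc]
      rw [e, show (((t / S.τ' (b - b') c) • c, S.τ' b' ((t / S.τ' (b - b') c) • c) + t) : K × F) =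
        ((t / S.τ' (b - b') c) • c, S.τ' b' ((t / S.τ' (b - b') c) • c)) + (0, t) by simp,
        AddChar.map_add_eq_mul] at this
      show μ0 ((0 : K), t) = 1
      refine mul_left_cancel₀ ?_ (this.trans (mul_one _).symm)
      exact fun h0 => one_ne_zero ((AddChar.map_zero_eq_one μ0).symm.trans (by
        rw [← add_neg_cancel ((t / S.τ' (b - b') c) • c, S.τ' b' ((t / S.τ' (b - b') c) • c)),
          AddChar.map_add_eq_mul, h0, zero_mul]))
    have hOΦ : ∀ p, O p ∈ Φ := fun p => Finset.mem_filter.2 ⟨Finset.mem_univ _, fun h => hδ0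
      (DFunLike.ext _ _ fun t => by
        have := DFunLike.congr_fun h (p.2.1 * t)
        simp only [AddChar.compAddMonoidHom_apply, jdW, AddMonoidHom.inr_apply, hOval, map_zero, add_zero,
          inv_mul_cancel_left₀ p.2.2] at this
        exact this)⟩
    have hOm : ∀ p, 1 ≤ mult RW (O p) := fun p => by rw [hLtm, hLsm]; exact hμ0pos
    have himg : Finset.univ.image O = Φ ∧ ∀ μ ∈ Φ, mult RW μ = 1 := by
      have hsub : Finset.univ.image O ⊆ Φ := fun μ hμ => by
        obtain ⟨p, -, rfl⟩ := Finset.mem_image.1 hμ; exact hOΦ p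
      have hcard : (Finset.univ.image O).card = (q - 1) * q ^ 3 := by
        rw [Finset.card_image_of_injective _ hOinj, Finset.card_univ, Fintype.card_prod, Fintype.card_subtype_compl,
          Fintype.card_subtype_eq, hF, ← hq, mul_comm]
      have hge : ∀ μ ∈ Finset.univ.image O, 1 ≤ mult RW μ := fun μ hμ => by
        obtain ⟨p, -, rfl⟩ := Finset.mem_image.1 hμ; exact hOm p
      have h1 : ∑ μ ∈ Φ, mult RW μ = (∑ μ ∈ Φ \ Finset.univ.image O, mult RW μ) +
          ∑ μ ∈ Finset.univ.image O, mult RW μ := (Finset.sum_sdiff hsub).symm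
      have h2 : (Finset.univ.image O).card • 1 ≤ ∑ μ ∈ Finset.univ.image O, mult RW μ :=
        Finset.card_nsmul_le_sum _ _ 1 hge
      rw [smul_eq_mul, mul_one, hcard] at h2
      have h3 : ∑ μ ∈ Finset.univ.image O, mult RW μ = (Finset.univ.image O).card := by omega
      have hΦc : Φ.card ≤ (Finset.univ.image O).card := by
        rw [hcard]
        have hc1 : Φ.card + (Finset.univ.filter (fun μ : AddChar (K × F) ℂ => μ.compAddMonoidHom jdW = 0)).card =
            q ^ 3 * q := by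
          rw [hΦ, add_comm, Finset.card_filter_add_card_filter_not, Finset.card_univ, AddChar.card_eq,
            Fintype.card_prod, hF, ← hq]
        have hc2 : q ^ 3 ≤ (Finset.univ.filter (fun μ : AddChar (K × F) ℂ => μ.compAddMonoidHom jdW = 0)).card := by
          rw [← hF, ← AddChar.card_eq (α := K), ← Finset.card_univ]
          refine Finset.card_le_card_of_injOn (fun φ => φ.compAddMonoidHom (AddMonoidHom.fst K F))
            (fun φ _ => Finset.mem_filter.2 ⟨Finset.mem_univ _, DFunLike.ext _ _ fun t => by simp [jdW]⟩) ?_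
          intro φ _ φ' _ h
          exact DFunLike.ext _ _ fun c => by simpa using DFunLike.congr_fun h (c, (0 : F))
        have : (q - 1) * q ^ 3 + q ^ 3 = q ^ 3 * q := by
          obtain ⟨r, hr⟩ : ∃ r, q = r + 1 := ⟨q - 1, by omega⟩
          rw [hr, Nat.add_sub_cancel]; ring
        omega
      have hEq : Finset.univ.image O = Φ := Finset.eq_of_subset_of_card_le hsub hΦc
      refine ⟨hEq, fun μ hμ => ?_⟩
      rw [← hEq] at hμ
      have h4 : mult RW μ + ∑ μ' ∈ (Finset.univ.image O).erase μ, mult RW μ' =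
          ∑ μ' ∈ Finset.univ.image O, mult RW μ' := Finset.add_sum_erase _ (fun μ => mult RW μ) hμ
      have h5 : ((Finset.univ.image O).erase μ).card • 1 ≤ ∑ μ' ∈ (Finset.univ.image O).erase μ, mult RW μ' :=
        Finset.card_nsmul_le_sum _ _ 1 fun μ' hμ' => hge μ' (Finset.mem_of_mem_erase hμ')
      rw [smul_eq_mul, mul_one, Finset.card_erase_of_mem hμ] at h5
      have := hge μ hμ
      have := Finset.card_pos.2 ⟨μ, hμ⟩
      omega
    -- the character above a fixed one
    obtain ⟨μ1, hμ1⟩ : ∃ μ1, μ1 = ψ.compAddMonoidHom (AddMonoidHom.snd K F) := ⟨_, rfl⟩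
    have hμ1Φ : μ1 ∈ Φ := Finset.mem_filter.2 ⟨Finset.mem_univ _, fun h => hψ (DFunLike.ext _ _ fun t => by
      have := DFunLike.congr_fun h t
      simpa [hμ1, jdW] using this)⟩
    have hfib : ∑ lam ∈ Finset.univ.filter (fun lam : AddChar ((F × K) × (K × F)) ℂ =>
        lam.compAddMonoidHom jW = μ1), mult R lam = 1 := (mult_restrict hRadd jW μ1).symm.trans (himg.2 μ1 hμ1Φ)
    obtain ⟨lam0, hlam0, hpos0⟩ : ∃ lam ∈ Finset.univ.filter (fun lam : AddChar ((F × K) × (K × F)) ℂ =>
        lam.compAddMonoidHom jW = μ1), 0 < mult R lam := by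
      by_contra hall
      push Not at hall
      rw [Finset.sum_eq_zero fun μ hμ => Nat.le_zero.1 (hall μ hμ)] at hfib
      exact zero_ne_one hfib
    have hlam0W := (Finset.mem_filter.1 hlam0).2
    have huniq : ∀ lam, lam.compAddMonoidHom jW = μ1 → 0 < mult R lam → lam = lam0 := by
      intro lam h1 h2
      by_contra hne
      have h3 := Finset.add_sum_erase _ (fun μ => mult R μ) hlam0
      have hmem' : lam ∈ (Finset.univ.filter
          (fun μ : AddChar ((F × K) × (K × F)) ℂ => μ.compAddMonoidHom jW = μ1)).erase lam0 :=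
        Finset.mem_erase.2 ⟨hne, Finset.mem_filter.2 ⟨Finset.mem_univ lam, h1⟩⟩
      have h4 := Finset.single_le_sum (f := fun μ => mult R μ) (fun _ _ => Nat.zero_le _) hmem'
      omega
    have hW : ∀ c s, lam0 ((0, 0), (c, s)) = ψ s := fun c s => by
      have := DFunLike.congr_fun hlam0W (c, s)
      simpa [jW, hμ1, Prod.zero_eq_mk] using this
    have hlam00 : lam0 ≠ 0 := fun h => hψ (DFunLike.ext _ _ fun t => by
      rw [← hW 0 t, h]; simp)
    have hα : lam0.compAddMonoidHom je ≠ 0 := fun h => hpos0.ne' (hA' lam0 hlam00 h)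
    have hfix : ∀ a : K, a ≠ 0 → (∀ t, lam0 ((S.N a * t, 0), (0, 0)) = lam0 ((t, 0), (0, 0))) ∧
        ∀ b, lam0 ((0, a ^ 2 * b), (0, 0)) = lam0 ((0, b), (0, 0)) := by
      intro a0 ha0
      obtain ⟨g, hg⟩ := S.tor3 a0 ha0
      obtain ⟨L, hL, hLm⟩ := hscale g (S.N a0) 1 (a0 ^ 2) (S.κ a0) (S.N a0) (S.N_ne a0 ha0) (S.N_ne a0 ha0)
        one_ne_zero (pow_ne_zero _ ha0) (S.κ_ne a0 ha0) fun t b => by rw [one_mul]; exact hg t b
      have h := huniq (lam0.compAddMonoidHom L.toAddMonoidHom) (DFunLike.ext _ _ fun w => by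
        obtain ⟨c, s⟩ := w
        show lam0 (L ((0, 0), (c, s))) = μ1 (c, s)
        rw [hL]
        simp [hW, hμ1]) (by rw [hLm]; exact hpos0)
      refine ⟨fun t => ?_, fun b => ?_⟩
      · have := DFunLike.congr_fun h ((t, 0), (0, 0))
        simpa [hL] using this
      · have := DFunLike.congr_fun h ((0, b), (0, 0))
        simpa [hL] using this
    let jB : K →+ (F × K) × (K × F) :=
      { toFun := fun b => ((0, b), 0), map_zero' := rfl, map_add' := fun s t => by simp }
    have hβ0 : lam0.compAddMonoidHom jB = 0 := by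
      by_contra hne'
      obtain ⟨a0, -, ha0⟩ := Finset.exists_mem_notMem_of_card_lt_card (t := (Finset.univ : Finset K))
        (s := ({0, 1, -1} : Finset K)) (by
          rw [Finset.card_univ, hF]
          exact lt_of_le_of_lt Finset.card_le_three (lt_of_lt_of_le (by norm_num) (Nat.pow_le_pow_left hq2 3)))
      simp only [Finset.mem_insert, Finset.mem_singleton, not_or] at ha0
      have h2 : a0 ^ 2 = 1 := AddChar.to_mulShift_inj_of_isPrimitive (AddChar.IsPrimitive.of_ne_one hne')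
        (DFunLike.ext _ _ fun b => by
          simpa [AddChar.mulShift_apply, jB, Prod.zero_eq_mk] using (hfix a0 ha0.1).2 b)
      rcases sq_eq_one_iff.1 h2 with h | h
      · exact ha0.2.1 h
      · exact ha0.2.2 h
    rcases lt_or_eq_of_le hq2 with hq3 | hq3
    · obtain ⟨a0, ha0, hNa⟩ := hN hq3
      refine hNa (AddChar.to_mulShift_inj_of_isPrimitive (AddChar.IsPrimitive.of_ne_one hα)
        (DFunLike.ext _ _ fun t => ?_))
      simpa [AddChar.mulShift_apply, je, Prod.zero_eq_mk] using (hfix a0 ha0).1 t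
    · -- the field with two elements
      obtain ⟨g, b, c, t, hg⟩ := htwo hq3.symm
      set v : (F × K) × (K × F) := ((1, b), (c, 1)) with hv
      have hEv : g * S.e 1 * g⁻¹ = S.E v * S.z t := by rw [hg]; simp only [E, X, Yh, hv, mul_assoc]
      have hv1 : v.1 ≠ 0 := fun h => one_ne_zero (congrArg Prod.fst h)
      have hEc : ∀ s, χ (S.E v * S.z s) = β := by
        intro s
        obtain ⟨t', ht', hc⟩ := S.e_conj 1 one_ne_zero
        rw [← hβz t' ht', ← hclass hc, hclass (isConj_iff.2 ⟨g, rfl⟩ : IsConj (S.e 1) (g * S.e 1 * g⁻¹)), hEv]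
        obtain ⟨w, hw⟩ := S.exists_P v.1 hv1 (t - s)
        refine hclass (isConj_iff.2 ⟨(S.Yh w)⁻¹, ?_⟩)
        rw [inv_inv]
        have hcw : S.Yh v.2 * S.Yh w = S.Yh w * S.Yh v.2 := by rw [← S.Yh_add, add_comm, S.Yh_add]
        calc (S.Yh w)⁻¹ * (S.E v * S.z s) * S.Yh w
            = (S.Yh w)⁻¹ * S.X v.1 * (S.Yh v.2 * (S.z s * S.Yh w)) := by simp only [E]; group
          _ = (S.Yh w)⁻¹ * (S.X v.1 * S.Yh w) * S.Yh v.2 * S.z s := by
            rw [(S.z_Yh s w).eq, ← mul_assoc (S.Yh v.2), hcw]; group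
          _ = S.X v.1 * (S.z (t - s) * S.Yh v.2) * S.z s := by rw [S.X_Yh, hw]; group
          _ = S.E v * (S.z (t - s) * S.z s) := by rw [(S.z_Yh (t - s) v.2).eq]; simp only [E]; group
          _ = _ := by rw [← S.z_add, sub_add_cancel]
      have hfv : f v = f (je 1) := by
        rw [hje 1 one_ne_zero]
        show LinearMap.trace ℂ M (ρ (S.E v) * P0) = β
        rw [hfg, Finset.sum_congr rfl fun s _ => hEc s, Finset.sum_const, Finset.card_univ, ← hq, nsmul_eq_mul,
          ← mul_assoc, inv_mul_cancel₀ hqC, one_mul]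
      have hchar2 : ∀ x : F, x + x = 0 := by
        intro x
        have h := card_nsmul_eq_zero' (G := F) (x := x)
        rw [Nat.card_eq_fintype_card, ← hq, ← hq3, two_nsmul] at h
        exact h
      have hKchar2 : ∀ x : K, x + x = 0 := fun x => by
        rw [← one_smul F x, ← add_smul, hchar2, zero_smul]
      have hpm : ∀ (lam : AddChar ((F × K) × (K × F)) ℂ) w, lam w = 1 ∨ lam w = -1 := fun lam w => by
        refine sq_eq_one_iff.1 ?_
        rw [sq, ← AddChar.map_add_eq_mul, ← AddChar.map_zero_eq_one lam]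
        congr 1
        simp [Prod.ext_iff, hchar2, hKchar2]
      have hval : ∀ lam : AddChar ((F × K) × (K × F)) ℂ, ∃ n : ℕ,
          (lam v - lam (je 1)) * (mult R lam : ℂ) = n ∧ (lam = lam0 → 0 < n) := by
        intro lam
        by_cases hm' : mult R lam = 0
        · exact ⟨0, by simp [hm'], fun h => absurd (h ▸ hm') hpos0.ne'⟩
        by_cases h0 : lam = 0
        · exact ⟨0, by simp [h0], fun h => absurd (h.symm.trans h0) hlam00⟩
        have he1 : lam (je 1) = -1 := by
          rcases hpm lam (je 1) with h | h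
          · exfalso
            refine hm' (hA' lam h0 (DFunLike.ext _ _ fun s => ?_))
            have hs : s = 0 ∨ s = 1 := by
              by_contra hne''
              push Not at hne''
              have h3 : ({0, 1, s} : Finset F).card = 3 := by
                rw [Finset.card_insert_of_notMem (by simp [hne''.1.symm]),
                  Finset.card_insert_of_notMem (by simp [hne''.2.symm]), Finset.card_singleton]
              have h4 := Finset.card_le_univ ({0, 1, s} : Finset F)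
              omega
            rcases hs with rfl | rfl
            · simp
            · simpa using h
          · exact h
        rcases hpm lam v with h | h
        · exact ⟨2 * mult R lam, by rw [h, he1]; push_cast; ring, fun _ => by omega⟩
        · refine ⟨0, by rw [h, he1]; simp, fun hl => ?_⟩
          exfalso
          have e1 : lam0 v = lam0 (je 1) * lam0 ((0, b), (0, 0)) * lam0 ((0, 0), (c, 1)) := by
            rw [← AddChar.map_add_eq_mul, ← AddChar.map_add_eq_mul]
            simp [hv, je]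
          have e2 : lam0 ((0, b), (0, 0)) = 1 := by
            have := DFunLike.congr_fun hβ0 b
            simpa [jB, Prod.zero_eq_mk] using this
          rw [e2, mul_one] at e1
          rw [hl] at h he1
          rw [h, he1, hW] at e1
          have h2 : ψ 1 = 1 := by linear_combination e1
          refine hψ (DFunLike.ext _ _ fun s => ?_)
          by_cases hs : s = 0
          · simp [hs]
          · have : s = 1 := by
              by_contra hs1
              have h3 : ({0, 1, s} : Finset F).card = 3 := by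
                rw [Finset.card_insert_of_notMem (by simp [Ne.symm hs]),
                  Finset.card_insert_of_notMem (by simp [Ne.symm hs1]), Finset.card_singleton]
              have h4 := Finset.card_le_univ ({0, 1, s} : Finset F)
              omega
            simpa [this] using h2
      choose n hn hn0 using hval
      have hz : ((∑ lam, n lam : ℕ) : ℂ) = 0 := by
        rw [Nat.cast_sum, ← Finset.sum_congr rfl fun lam _ => hn lam]
        simp only [sub_mul, Finset.sum_sub_distrib]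
        rw [← trace_eq_sum hRadd, ← trace_eq_sum hRadd]
        exact sub_eq_zero.2 hfv
      have hz' : ∑ lam, n lam = 0 := by exact_mod_cast hz
      have := (Finset.sum_eq_zero_iff.1 hz') lam0 (Finset.mem_univ _)
      have := hn0 lam0 rfl
      omega

end Heis

end CfsgLib.KnownB.D4Deg
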