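import Cfsg.Agent.Lib.KnownB.ChevRegular
import Cfsg.Agent.Lib.Chev.TwistD4

/-!
Combinatorics of the roots of D₄ at an element of order `(q³ − 1)(q + 1)`.
-/

set_option autoImplicit false
set_option maxRecDepth 20000

namespace CfsgLib.KnownB.D4Singer

open Cfsg.Lie CfsgLib.Chev

/-- The coefficients of the roots on the fundamental roots. -/
def coD (s : Fin 24) : Fin 4 → ℤ :=
  (![![-1, -2, -1, -1], ![-1, -1, -1, -1], ![-1, -1, -1, 0], ![-1, -1, 0, -1], ![-1, -1, 0, 0],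
    ![-1, 0, 0, 0], ![0, -1, -1, -1], ![0, -1, -1, 0], ![0, -1, 0, -1], ![0, -1, 0, 0], ![0, 0, -1, 0],
    ![0, 0, 0, -1], ![0, 0, 0, 1], ![0, 0, 1, 0], ![0, 1, 0, 0], ![0, 1, 0, 1], ![0, 1, 1, 0], ![0, 1, 1, 1],
    ![1, 0, 0, 0], ![1, 1, 0, 0], ![1, 1, 0, 1], ![1, 1, 1, 0], ![1, 1, 1, 1], ![1, 2, 1, 1]] :
      Fin 24 → Fin 4 → ℤ) s

theorem cartan_coD : ∀ (i : Fin 4) (s : Fin 24), chevD4.cartan i s =
    coD s 0 * chevD4.cartan i (chevD4.simple 0) + coD s 1 * chevD4.cartan i (chevD4.simple 1) +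
      coD s 2 * chevD4.cartan i (chevD4.simple 2) + coD s 3 * chevD4.cartan i (chevD4.simple 3) := by
  decide +kernel

/-- The exponents of the roots. -/
def expo (q : ℤ) (s : Fin 24) : ℤ :=
  coD s 0 + coD s 1 * (q ^ 3 - 1) + coD s 2 * (-q ^ 3 + q + 1) + coD s 3 * q ^ 2

/-- The roots whose exponents determine a Weyl element. -/
def keyRoots : Fin 4 → Fin 24 := ![18, 13, 12, 19]

theorem expo_two : (∀ s : Fin 24, ¬ (21 : ℤ) ∣ expo 2 s) ∧
    ∀ (s : Fin 24) (j : Fin 4), (21 : ℤ) ∣ expo 2 s - expo 2 (keyRoots j) → s = keyRoots j := by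
  decide +kernel

theorem expo_facts {q : ℤ} (hq : 2 ≤ q) :
    (∀ s : Fin 24, ¬ (q ^ 3 - 1) * (q + 1) ∣ expo q s) ∧
    ∀ (s : Fin 24) (j : Fin 4),
      (q ^ 3 - 1) * (q + 1) ∣ expo q s - expo q (keyRoots j) → s = keyRoots j := by
  rcases eq_or_lt_of_le hq with rfl | h3
  · exact expo_two
  obtain ⟨Q2, hQ2⟩ : ∃ Q, Q = q ^ 2 := ⟨_, rfl⟩
  obtain ⟨Q3, hQ3⟩ : ∃ Q, Q = q ^ 3 := ⟨_, rfl⟩
  obtain ⟨N, hN⟩ : ∃ N, N = (q ^ 3 - 1) * (q + 1) := ⟨_, rfl⟩
  have h1 : 3 * q ≤ Q2 := by nlinarith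
  have h2 : 3 * Q2 ≤ Q3 := by nlinarith
  have h4 : 4 * Q3 - q - 1 ≤ N := by nlinarith
  have small : ∀ E : ℤ, N ∣ E → -N < E → E < N → E = 0 := fun E hd hl hu =>
    Int.eq_zero_of_abs_lt_dvd hd (abs_lt.2 ⟨hl, hu⟩)
  rw [← hN]
  constructor
  · intro s h
    have := small _ h
    unfold expo at this
    rw [← hQ2, ← hQ3] at this
    fin_cases s <;> simp [coD] at this <;> omega
  · intro s j h
    have := small _ h
    unfold expo keyRoots at this
    rw [← hQ2, ← hQ3] at this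
    fin_cases j <;> fin_cases s <;> simp [coD] at this <;> first | rfl | omega

/-- The pairing of D₄. -/
theorem pair_weyl {π : Equiv.Perm (Fin chevD4.nroots)} (hπ : π ∈ goodD4.weyl) :
    ∀ r s : Fin chevD4.nroots, pair chevD4 (π r) (π s) = pair chevD4 r s := by
  induction hπ using Subgroup.closure_induction with
  | mem x hx =>
    obtain ⟨i, rfl⟩ := hx
    intro r s
    rw [goodD4.rperm_val, goodD4.pair_refl i.2 r.2 (Fin.isLt _), goodD4.rperm_val, goodD4.refl_refl i.2 s.2]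
  | one => intro r s; rfl
  | mul x y _ _ hx hy => intro r s; rw [Equiv.Perm.mul_apply, Equiv.Perm.mul_apply, hx, hy]
  | inv x _ hx =>
    intro r s
    conv_rhs => rw [← Equiv.apply_symm_apply x r, ← Equiv.apply_symm_apply x s]
    exact (hx _ _).symm

theorem pair_separates : ∀ s t : Fin 24,
    (∀ j : Fin 4, pair chevD4 (keyRoots j) s = pair chevD4 (keyRoots j) t) → s = t := by
  decide +kernel

/-- A Weyl element fixing the key roots is trivial. -/
theorem weyl_eq_one {π : Equiv.Perm (Fin chevD4.nroots)} (hπ : π ∈ goodD4.weyl)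
    (h : ∀ j : Fin 4, π (keyRoots j) = keyRoots j) : π = 1 := by
  refine Equiv.ext fun s => pair_separates _ _ fun j => ?_
  have := pair_weyl hπ (keyRoots j) s
  rw [h j] at this
  exact this

variable {F : Type*} [Field F]

/-- The value of a torus parameter at a root. -/
def rootVal (c : Fin chevD4.rank → Fˣ) (s : Fin 24) : Fˣ := ∏ i : Fin chevD4.rank, c i ^ chevD4.cartan i s

theorem rootVal_co (c : Fin chevD4.rank → Fˣ) (s : Fin 24) :
    rootVal c s = rootVal c 18 ^ coD s 0 * rootVal c 14 ^ coD s 1 * rootVal c 13 ^ coD s 2 *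
      rootVal c 12 ^ coD s 3 := by
  simp only [rootVal, ← Finset.prod_zpow, ← Finset.prod_mul_distrib]
  refine Finset.prod_congr rfl fun i _ => ?_
  rw [← _root_.zpow_mul, ← _root_.zpow_mul, ← _root_.zpow_mul, ← _root_.zpow_mul, ← _root_.zpow_add,
    ← _root_.zpow_add, ← _root_.zpow_add]
  congr 1
  have := cartan_coD i s
  rw [show chevD4.simple 0 = 18 from rfl, show chevD4.simple 1 = 14 from rfl,
    show chevD4.simple 2 = 13 from rfl, show chevD4.simple 3 = 12 from rfl] at this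
  rw [show ((18 : Fin 24) : ℕ) = 18 from rfl, show ((14 : Fin 24) : ℕ) = 14 from rfl,
    show ((13 : Fin 24) : ℕ) = 13 from rfl, show ((12 : Fin 24) : ℕ) = 12 from rfl]
  linear_combination this

end CfsgLib.KnownB.D4Singer
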