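import Cfsg.Agent.Lib.KnownB.D4Singer

/-!
The cyclic subgroup of order `(q³ − 1)(q + 1)` of ³D₄(q).
-/

set_option autoImplicit false
set_option maxHeartbeats 2000000
set_option maxRecDepth 20000

namespace CfsgLib.KnownB.D4Singer

open Cfsg.Lie CfsgLib.Chev Matrix

universe u

theorem ineq_facts {q : ℤ} (hq : 2 ≤ q) :
    0 < (q ^ 3 - 1) * (q + 1) ∧ ¬ (q + 1) ∣ (q ^ 2 + q - 1) := by
  constructor
  · nlinarith [sq_nonneg q]
  · rintro ⟨k, hk⟩
    have : (q + 1) * (q - k) = 1 := by linear_combination hk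
    have h1 := Int.eq_one_or_neg_one_of_mul_eq_one this
    omega

/-- The exponents of the parameters. -/
theorem exists_exponent (q : ℕ) :
    ∃ u w t : ℤ, u = 1 + ((q : ℤ) - 1) * w ∧ 2 * u = (q : ℤ) ^ 2 * (q + 1) + t * ((q : ℤ) ^ 3 - 1) := by
  rcases Nat.even_or_odd q with ⟨m, rfl⟩ | ⟨m, rfl⟩
  · exact ⟨2 * (m : ℤ) ^ 2 * (2 * m + 1), 2 * (m : ℤ) ^ 2 + 2 * m + 1, 0, by push_cast; ring, by push_cast; ring⟩
  · exact ⟨(2 * (m : ℤ) + 1) ^ 3 + 2 * m * (m + 1),
      ((2 * (m : ℤ) + 1) ^ 2 + (2 * m + 1) + 1) + (m + 1), 1, by push_cast; ring, by push_cast; ring⟩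

variable {K : Type u} [Field K] [Fintype K]

/-- The self-centralising subgroup. -/
theorem exists_singer (q : ℕ) (hq : IsPrimePow q) (hK : Fintype.card K = q ^ 3) :
    ∃ H : Subgroup ↥(twistedD4 K q), IsCyclic ↥H ∧ Nat.card ↥H = (q ^ 3 - 1) * (q + 1) ∧
      Subgroup.centralizer (H : Set ↥(twistedD4 K q)) = H := by
  classical
  have hq2 : 2 ≤ q := hq.two_le
  have hc : HasComm chevD4 := hasComm_of_mem (by simp)
  obtain ⟨A₀, hAG, hAφ, hAS, hAr, hAorb⟩ := exists_setupD4 K hq hK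
  obtain ⟨T₀, hT₀ρ, hT₀pi, hT₀f⟩ := exists_twist_rhoD4 A₀.φ
  have hsgn : ∀ i : Fin chevD4.rank, nth 1 rhoD4Sign (chevD4.simple i) = 1 ∧
      nth 1 rhoD4Sign (chevD4.neg (chevD4.simple i)) = 1 := by decide +kernel
  let A : A1Setup goodD4 K :=
    { A₀ with
      T := T₀
      Tρ := by rw [hT₀ρ, hAS]
      Tpi := by rw [hT₀pi, hAS]
      f_simple := fun i t => ⟨by rw [hT₀f]; simp [Good.sroot, (hsgn i).1],
        by rw [hT₀f]; simp [Good.sroot, Good.nroot, (hsgn i).2]⟩ }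
  have hG1fix : A.G1 ≤ A.T.fixed := A.G1_le_fixed hc
  have hAρ : A.T.ρ = (rootSymOf goodD4 checksD4 structChecksD4 rhoD4_ok).ρ := hT₀ρ
  have hAf : ∀ s t, A.T.f s t = (nth 1 rhoD4Sign s : K) * A.φ t := hT₀f
  have hApi : A.S.pi = (rootSymOf goodD4 checksD4 structChecksD4 rhoD4_ok).pi := by rw [hAS]
  haveI : Fact (ringChar K).Prime := ⟨CharP.char_is_prime K (ringChar K)⟩
  let L := FiniteField.Extension K (ringChar K) 2
  haveI : Fintype L := Fintype.ofFinite _
  have hcardL : Fintype.card L = q ^ 6 := by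
    rw [Fintype.card_eq_nat_card, FiniteField.natCard_extension, Nat.card_eq_fintype_card, hK, ← pow_mul]
  obtain ⟨φ, hφ⟩ := exists_powMap_ringHom hq hcardL (by norm_num)
  obtain ⟨T, hTρ, -, hTf⟩ := exists_twist_rhoD4 φ
  let ι : K →+* L := algebraMap K L
  have hιφ : ∀ x : K, φ (ι x) = ι (x ^ q) := fun x => by rw [hφ, map_pow]
  have hpre : ∀ x : L, x ^ (q ^ 3) = x → ∃ a, ι a = x := by
    intro x hx
    by_contra hno
    push Not at hno
    have h1 : 1 < q ^ 3 := Nat.one_lt_pow (by norm_num) hq2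
    let P : Polynomial L := Polynomial.X ^ (q ^ 3) - Polynomial.X
    let Z : Finset L := insert x (Finset.univ.image ι)
    have hZ : Z.val ⊆ P.roots := by
      intro y hy
      rw [Finset.mem_val] at hy
      rw [Polynomial.mem_roots (FiniteField.X_pow_card_sub_X_ne_zero L h1), Polynomial.IsRoot.def,
        Polynomial.eval_sub, Polynomial.eval_pow, Polynomial.eval_X, sub_eq_zero]
      rcases Finset.mem_insert.1 hy with rfl | hy
      · exact hx
      · obtain ⟨a, -, rfl⟩ := Finset.mem_image.1 hy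
        rw [← map_pow, ← hK, FiniteField.pow_card]
    have h2 := Polynomial.card_le_degree_of_subset_roots hZ
    rw [FiniteField.X_pow_card_sub_X_natDegree_eq L h1, Finset.card_insert_of_notMem (by
      simpa using hno), Finset.card_image_of_injective _ ι.injective, Finset.card_univ, hK] at h2
    omega
  -- an element of order `N`
  obtain ⟨Q, hQdef⟩ : ∃ Q : ℤ, Q = (q : ℤ) := ⟨_, rfl⟩
  have hQ2 : 2 ≤ Q := by omega
  obtain ⟨Nn, hNn⟩ : ∃ N : ℕ, N = (q ^ 3 - 1) * (q + 1) := ⟨_, rfl⟩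
  have hq31 : 1 ≤ q ^ 3 := Nat.one_le_pow _ _ (by omega)
  have hNcast : (Nn : ℤ) = (Q ^ 3 - 1) * (Q + 1) := by
    rw [hNn, hQdef, Nat.cast_mul, Nat.cast_sub hq31]
    push_cast
    rfl
  have hNpos : 0 < Nn := by
    have := (ineq_facts hQ2).1
    omega
  obtain ⟨z, hz⟩ : ∃ z : Lˣ, orderOf z = Nn := by
    obtain ⟨γ, hγ⟩ := IsCyclic.exists_monoid_generator (α := Lˣ)
    have hord : orderOf γ = q ^ 6 - 1 := by
      rw [orderOf_eq_card_of_forall_mem_zpowers (fun x => by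
        obtain ⟨m, rfl⟩ := hγ x; exact ⟨m, zpow_natCast γ m⟩), Nat.card_eq_fintype_card, Fintype.card_units,
        hcardL]
    obtain ⟨M, hM⟩ : ∃ M : ℕ, M = q ^ 2 - q + 1 := ⟨_, rfl⟩
    have hfac : q ^ 6 - 1 = M * Nn := by
      have h6 : 1 ≤ q ^ 6 := Nat.one_le_pow _ _ (by omega)
      have hle : q ≤ q ^ 2 := Nat.le_self_pow two_ne_zero q
      zify [h6]
      rw [hM, Nat.cast_add, Nat.cast_sub hle, hNcast, hQdef]
      push_cast
      ring
    refine ⟨γ ^ M, ?_⟩
    rw [orderOf_pow' _ (by omega), hord, hfac, Nat.gcd_eq_right (Dvd.intro _ rfl),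
      Nat.mul_div_cancel_left _ (by omega)]
  have zeq : ∀ k l : ℤ, ((Q ^ 3 - 1) * (Q + 1)) ∣ k - l → z ^ k = z ^ l := fun k l h => by
    rw [← hNcast, ← hz, orderOf_dvd_iff_zpow_eq_one, _root_.zpow_sub, mul_inv_eq_one] at h
    exact h
  have zne : ∀ k : ℤ, z ^ k = 1 → ((Q ^ 3 - 1) * (Q + 1)) ∣ k := fun k h => by
    rw [← hNcast, ← hz, orderOf_dvd_iff_zpow_eq_one]; exact h
  have zpowNat : ∀ (k : ℤ) (m : ℕ), (z ^ k) ^ m = z ^ (k * (m : ℤ)) := fun k m => by
    rw [← zpow_natCast, ← _root_.zpow_mul]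
  obtain ⟨u, w, t, hu, hu2⟩ := exists_exponent q
  rw [← hQdef] at hu hu2
  obtain ⟨v, hv⟩ : ∃ v : ℤ, v = Q ^ 2 + Q - 1 := ⟨_, rfl⟩
  obtain ⟨a, ha⟩ : ∃ a : Lˣ, a = z ^ ((Q + 1) * u) := ⟨_, rfl⟩
  obtain ⟨b, hb⟩ : ∃ b : Lˣ, b = z ^ ((Q ^ 2 + Q + 1) * v) := ⟨_, rfl⟩
  have ha3 : a ^ (q ^ 3) = a := by
    rw [ha, zpowNat]
    refine zeq _ _ ⟨u, ?_⟩
    rw [hQdef]; push_cast; ring
  have hb2 : b ^ (q * q) = b := by
    rw [hb, zpowNat]
    refine zeq _ _ ⟨v, ?_⟩
    rw [hQdef]; push_cast; ring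
  obtain ⟨n, hn⟩ : ∃ n : Lˣ, n = b ^ (q + 1) := ⟨_, rfl⟩
  have hna : a * a ^ q * a ^ (q ^ 2) = n := by
    rw [hn, hb, ha, zpowNat, zpowNat, zpowNat, ← _root_.zpow_add, ← _root_.zpow_add]
    refine zeq _ _ ⟨w - Q - 2, ?_⟩
    rw [hu, hv, hQdef]; push_cast; ring
  have hnq : n ^ q = n := by
    rw [hn, ← pow_mul, add_mul, one_mul, pow_add, hb2, pow_succ' b q]
  obtain ⟨aK, haK⟩ := hpre (a : L) (by rw [← Units.val_pow_eq_pow_val, ha3])
  obtain ⟨nK, hnK⟩ := hpre (n : L) (by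
    rw [← Units.val_pow_eq_pow_val, show q ^ 3 = q * q * q by ring, pow_mul, pow_mul, hnq, hnq, hnq])
  have hbb : ((b : L) ^ q) ^ q = b := by
    rw [← pow_mul, ← Units.val_pow_eq_pow_val, hb2]
  have hφs : φ ((b : L) + (b : L) ^ q) = (b : L) + (b : L) ^ q := by
    rw [map_add, hφ, hφ, hbb, add_comm]
  obtain ⟨sK, hsK⟩ := hpre ((b : L) + (b : L) ^ q) (by
    have e : ∀ y : L, y ^ (q ^ 3) = φ (φ (φ y)) := fun y => by rw [hφ, hφ, hφ, ← pow_mul, ← pow_mul]; ring_nf
    rw [e, hφs, hφs, hφs])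
  have hbne : (b : L) ^ q ≠ b := by
    intro h
    have h' : b ^ q = b := Units.ext (by rw [Units.val_pow_eq_pow_val]; exact h)
    rw [hb, zpowNat, ← mul_inv_eq_one, ← _root_.zpow_sub] at h'
    have h2 := zne _ h'
    rw [show (Q ^ 2 + Q + 1) * v * (q : ℤ) - (Q ^ 2 + Q + 1) * v = (Q ^ 3 - 1) * v by rw [← hQdef]; ring] at h2
    have h3 := (mul_dvd_mul_iff_left (by nlinarith [sq_nonneg Q] : (Q ^ 3 - 1) ≠ 0)).1 h2
    rw [hv] at h3
    exact (ineq_facts hQ2).2 h3
  obtain ⟨d, hd⟩ : ∃ d : L, d = ((b : L) - (b : L) ^ q)⁻¹ := ⟨_, rfl⟩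
  have hd0 : d ≠ 0 := by rw [hd]; exact inv_ne_zero (sub_ne_zero.2 (Ne.symm hbne))
  have hd1 : d * ((b : L) - (b : L) ^ q) = 1 := by
    rw [hd]; exact inv_mul_cancel₀ (sub_ne_zero.2 (Ne.symm hbne))
  -- the element of the twisted group
  have haK0 : aK ≠ 0 := fun h => a.ne_zero (by rw [← haK, h, map_zero])
  have hnK0 : nK ≠ 0 := fun h => n.ne_zero (by rw [← hnK, h, map_zero])
  let c0 : Fin chevD4.rank → Kˣ := fun i => if i.val = 0 then Units.mk0 aK haK0
    else if i.val = 1 then Units.mk0 nK hnK0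
    else if i.val = 2 then Units.mk0 aK haK0 ^ q else Units.mk0 aK haK0 ^ (q ^ 2)
  have hc0 : c0 ∈ A.T0 := by
    rw [A.mem_T0]
    intro i
    rw [hAφ, hApi]
    have hp : ∀ i : Fin 4, ((rootSymOf goodD4 checksD4 structChecksD4 rhoD4_ok).pi i).val =
        (![2, 1, 3, 0] : Fin 4 → ℕ) i := by decide +kernel
    change Fin 4 at i
    have h := hp i
    fin_cases i <;> simp only [c0] <;> simp at h <;> simp [h]
    · exact ι.injective (by rw [map_pow, hnK, ← Units.val_pow_eq_pow_val, hnq])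
    · rw [← pow_mul, sq]
    · rw [← pow_mul, ← pow_succ, ← hK, FiniteField.pow_card]
  let M0 : Matrix.SpecialLinearGroup (Fin 2) K := slU (-1) * slL 1 * slU (sK - 1)
  have hgen : ∀ x : K, x ^ q = x → goodD4.xG (14 : ℕ) x ∈ A.G1 ∧ goodD4.xG (9 : ℕ) x ∈ A.G1 := by
    intro x hx
    have h := A.gen_mem (o := Fin.cast hAr.symm 0) (t := fun _ => x) (fun i _ => by rw [hAφ, hx])
    rw [hAorb] at h
    simpa [orbD4, Good.xList, Good.sroot, Good.nroot, show chevD4.simple 1 = 14 from rfl,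
      show chevD4.neg 14 = 9 from rfl] using h
  have hsq : sK ^ q = sK := ι.injective (by
    rw [map_pow, hsK, ← hφ, hφs])
  let yv : GL chevD4.Idx K := torHom chevD4 K c0 * psi M0
  have hy1 : yv ∈ A.G1 := by
    refine mul_mem (A.H0_le_G1 hc ⟨c0, hc0, rfl⟩) ?_
    rw [map_mul, map_mul, psi_U, psi_L, psi_U]
    refine mul_mem (mul_mem (hgen _ ?_).1 (hgen _ (one_pow q)).2) (hgen _ ?_).1
    · apply ι.injective
      rw [map_pow, map_neg, map_one, ← hφ, map_neg, map_one]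
    · apply ι.injective
      rw [map_pow, map_sub, map_one, ← hφ, map_sub, map_one, hφ, ← map_pow, hsq]
  let y : ↥(twistedD4 K q) := ⟨yv, hAG ▸ hy1⟩
  -- the diagonalising element
  let P : Matrix.SpecialLinearGroup (Fin 2) L := ⟨!![-((b : L) ^ q) * d, -(b : L); d, 1], by
    rw [Matrix.det_fin_two_of]; linear_combination hd1⟩
  let δ : Lˣ := (Units.mk0 d hd0)⁻¹
  have hPφ : Matrix.SpecialLinearGroup.map φ P = P * (slD δ * slW) := by
    refine Subtype.ext ?_
    have hφd : φ d = -d := by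
      rw [hd, map_inv₀, map_sub, hφ, hφ, hbb, ← neg_sub, inv_neg]
    rw [Matrix.SpecialLinearGroup.coe_mul, Matrix.SpecialLinearGroup.coe_mul]
    ext i j
    show φ (P.1 i j) = _
    fin_cases i <;> fin_cases j <;>
      simp [P, δ, slD, slW, Matrix.mul_apply, Fin.sum_univ_two, hφd, hφ (b : L), hbb, map_mul, map_pow, map_neg] <;>
        first | done | ring1 | (rw [mul_inv_cancel_right₀ hd0]) | (rw [mul_inv_cancel₀ hd0])
  let cz : Fin chevD4.rank → Lˣ := fun i => if i.val = 0 then a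
    else if i.val = 1 then b else if i.val = 2 then a ^ q else a ^ (q ^ 2)
  let c1 : Fin chevD4.rank → Lˣ := fun i => if i.val = 0 then a
    else if i.val = 1 then n else if i.val = 2 then a ^ q else a ^ (q ^ 2)
  have hc1 : Matrix.GeneralLinearGroup.map ι (torHom chevD4 K c0) = torHom chevD4 L c1 := by
    rw [CfsgLib.Classical.ChevFix.map_torHom]
    congr 1
    funext i
    simp only [c0, c1]
    split_ifs <;> apply Units.ext <;> simp [haK, hnK]
  have hc1n : rootVal c1 14 = n := by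
    rw [(rootVal_simple c1).2.1]
    show n ^ 2 * (a * a ^ q * a ^ (q ^ 2))⁻¹ = n
    rw [hna, pow_two, mul_assoc, mul_inv_cancel, mul_one]
  have hcz : torHom chevD4 L cz = torHom chevD4 L c1 * psi (slD (b * n⁻¹)) := by
    rw [psi_D, show (14 : ℕ) = chevD4.simple (⟨1, by decide⟩ : Fin chevD4.rank) from rfl,
      ← goodD4.torHom_single, ← map_mul]
    congr 1
    funext i
    simp only [Pi.mul_apply, Pi.mulSingle_apply, cz, c1, Fin.ext_iff]
    split_ifs <;> first | omega | simp [mul_comm b]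
  obtain ⟨P1, hP1⟩ : ∃ P1, P1 = slScale n⁻¹ P := ⟨_, rfl⟩
  have hPP : slScale n P1 = P := by
    rw [hP1]
    refine Subtype.ext ?_
    rw [slScale_val, slScale_val]
    ext i j
    fin_cases i <;> fin_cases j <;> simp [mul_inv_cancel_left₀, inv_mul_cancel_left₀]
  have hy : Matrix.GeneralLinearGroup.map ι yv = psi P * torHom chevD4 L cz * (psi P)⁻¹ := by
    have h1 : psi P * torHom chevD4 L c1 = torHom chevD4 L c1 * psi P1 := by
      rw [← hPP, ← hc1n, ← torHom_conj_psi, inv_mul_cancel_right]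
    rw [map_mul, hc1, map_psi, hcz, ← mul_assoc, h1, mul_assoc _ (psi P1), ← map_mul, eq_mul_inv_iff_mul_eq,
      mul_assoc, ← map_mul]
    congr 2
    refine Subtype.ext ?_
    rw [Matrix.SpecialLinearGroup.coe_mul, Matrix.SpecialLinearGroup.coe_mul]
    have hM0 : (Matrix.SpecialLinearGroup.map ι M0).1 = !![0, -1; 1, (b : L) + (b : L) ^ q] := by
      rw [map_mul, map_mul, map_slU, map_slL, map_slU, map_neg, map_one, map_sub, map_one, hsK,
        Matrix.SpecialLinearGroup.coe_mul, Matrix.SpecialLinearGroup.coe_mul]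
      ext i j
      fin_cases i <;> fin_cases j <;> simp [slU, slL, Matrix.mul_apply, Fin.sum_univ_two]
    have hnv : (n : L) = (b : L) * (b : L) ^ q := by rw [hn, Units.val_pow_eq_pow_val, pow_succ']
    rw [hM0, show P.1 = !![-((b : L) ^ q) * d, -(b : L); d, 1] from rfl,
      sl2_key b.ne_zero (pow_ne_zero _ b.ne_zero) hd1, hP1, slScale_val, ← hnv]
    simp [P, slD, Units.val_inv_eq_inv_val]
    refine ⟨⟨Or.inl ?_, ?_⟩, Or.inl ?_, ?_⟩ <;> simp only [Units.val_inv_eq_inv_val]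
  -- the root values of the diagonal form
  have hv18 : rootVal cz 18 = a ^ 2 * b⁻¹ := (rootVal_simple cz).1
  have hv14 : rootVal cz 14 = b ^ 2 * (a * a ^ q * a ^ (q ^ 2))⁻¹ := (rootVal_simple cz).2.1
  have hv13 : rootVal cz 13 = (a ^ q) ^ 2 * b⁻¹ := (rootVal_simple cz).2.2.1
  have hv12 : rootVal cz 12 = (a ^ (q ^ 2)) ^ 2 * b⁻¹ := (rootVal_simple cz).2.2.2
  have e18 : rootVal cz 18 = z := by
    rw [hv18, ha, hb, zpowNat, ← _root_.zpow_neg, ← _root_.zpow_add]
    refine (zeq _ 1 ⟨t, ?_⟩).trans (zpow_one z)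
    rw [hv]; push_cast; linear_combination (Q + 1) * hu2
  have e14 : rootVal cz 14 = z ^ (Q ^ 3 - 1) := by
    rw [hv14, hna, hn, hb, zpowNat, zpowNat, ← _root_.zpow_neg, ← _root_.zpow_add]
    refine zeq _ _ ⟨-(Q + 2) + 2, ?_⟩
    rw [hv, hQdef]; push_cast; ring
  have e13 : rootVal cz 13 = z ^ (-Q ^ 3 + Q + 1) := by
    rw [hv13, ha, hb, zpowNat, zpowNat, ← _root_.zpow_neg, ← _root_.zpow_add]
    refine zeq _ _ ⟨Q + t * Q, ?_⟩
    rw [hv, ← hQdef]; push_cast; linear_combination (Q * (Q + 1)) * hu2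
  have e12 : rootVal cz 12 = z ^ (Q ^ 2) := by
    rw [hv12, ha, hb, zpowNat, zpowNat, ← _root_.zpow_neg, ← _root_.zpow_add]
    refine zeq _ _ ⟨v + t * Q ^ 2, ?_⟩
    rw [hv]; push_cast; rw [← hQdef]; linear_combination (Q ^ 2 * (Q + 1)) * hu2
  have hexp : ∀ s : Fin 24, rootVal cz s = z ^ expo Q s := fun s => by
    rw [rootVal_co, e18, e14, e13, e12, ← _root_.zpow_mul, ← _root_.zpow_mul, ← _root_.zpow_mul,
      ← _root_.zpow_add, ← _root_.zpow_add, ← _root_.zpow_add, expo]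
    ring_nf
  obtain ⟨hne1, hkey⟩ := expo_facts hQ2
  -- diagonalising the centraliser
  set C : Subgroup ↥(twistedD4 K q) := Subgroup.centralizer {y} with hC
  have hle : twistedD4 K q ≤ chevD4.group K := fun x hx => by
    obtain ⟨x', -, rfl⟩ := hG1fix (hAG ▸ hx)
    exact x'.2
  have hσι : ∀ (x : GL chevD4.Idx K) (hx : x ∈ twistedD4 K q)
      (h : Matrix.GeneralLinearGroup.map ι x ∈ chevD4.group L),
      (T.σ ⟨_, h⟩ : GL chevD4.Idx L) = Matrix.GeneralLinearGroup.map ι x := by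
    intro x hx h
    have hfix : A.T.σ ⟨x, hle hx⟩ = ⟨x, hle hx⟩ := (A.T.mem_fixed ⟨x, hle hx⟩).1 (hG1fix (hAG ▸ hx))
    have hm : ∀ g : ↥(chevD4.group K),
        Matrix.GeneralLinearGroup.map ι (g : GL chevD4.Idx K) ∈ chevD4.group L := fun g => by
      have hh : chevD4.group K ≤ (chevD4.group L).comap (Matrix.GeneralLinearGroup.map ι) :=
        goodD4.group_le fun r hr t => by
          rw [Subgroup.mem_comap, CfsgLib.Classical.ChevFix.map_xG goodD4 ι hr]
          exact goodD4.xG_mem_group hr _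
      exact hh g.2
    let f1 : ↥(chevD4.group K) →* GL chevD4.Idx L :=
      (Matrix.GeneralLinearGroup.map ι).comp ((chevD4.group K).subtype.comp A.T.σ)
    let f2 : ↥(chevD4.group K) →* GL chevD4.Idx L :=
      (chevD4.group L).subtype.comp (T.σ.comp
        (((Matrix.GeneralLinearGroup.map ι).comp (chevD4.group K).subtype).codRestrict (chevD4.group L) hm))
    have key : ∀ g : ↥(chevD4.group K), f2 g = f1 g := by
      rintro ⟨g, hg⟩
      induction hg using Subgroup.closure_induction with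
      | mem g hg =>
        obtain ⟨r, t, hrt⟩ := hg
        obtain rfl : g = goodD4.xG r t := goodD4.eq_xG (by rw [ChevalleyDatum.x, dif_pos r.2, hrt])
        show (T.σ ⟨_, hm ⟨goodD4.xG r t, goodD4.xG_mem_group r.2 t⟩⟩ : GL chevD4.Idx L) =
          Matrix.GeneralLinearGroup.map ι (A.T.σ ⟨goodD4.xG r t, goodD4.xG_mem_group r.2 t⟩ : GL chevD4.Idx K)
        have e : (⟨_, hm ⟨goodD4.xG r t, goodD4.xG_mem_group r.2 t⟩⟩ : ↥(chevD4.group L)) =
            ⟨goodD4.xG r (ι t), goodD4.xG_mem_group r.2 _⟩ :=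
          Subtype.ext (CfsgLib.Classical.ChevFix.map_xG goodD4 ι r.2 t)
        rw [e, T.σ_x, A.T.σ_x, CfsgLib.Classical.ChevFix.map_xG goodD4 ι (Fin.isLt _), hTρ, hAρ]
        congr 1
        rw [hTf, hιφ, hAf, map_mul, map_intCast]
        congr 2
        exact (hAφ t).symm
      | one =>
        show f2 1 = f1 1
        rw [map_one, map_one]
      | mul g g' hg hg' ih ih' =>
        show f2 (⟨g, hg⟩ * ⟨g', hg'⟩) = f1 (⟨g, hg⟩ * ⟨g', hg'⟩)
        rw [map_mul, map_mul, ih, ih']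
      | inv g hg ih =>
        show f2 (⟨g, hg⟩⁻¹) = f1 (⟨g, hg⟩⁻¹)
        rw [map_inv, map_inv, ih]
    have := key ⟨x, hle hx⟩
    show (T.σ ⟨_, hm ⟨x, hle hx⟩⟩ : GL chevD4.Idx L) = _
    refine this.trans ?_
    show Matrix.GeneralLinearGroup.map ι (A.T.σ ⟨x, hle hx⟩ : GL chevD4.Idx K) = _
    rw [hfix]
  have hmap_mem : ∀ x ∈ twistedD4 K q, Matrix.GeneralLinearGroup.map ι x ∈ chevD4.group L := fun x hx => by
    have hh : chevD4.group K ≤ (chevD4.group L).comap (Matrix.GeneralLinearGroup.map ι) :=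
      goodD4.group_le fun r hr t => by
        rw [Subgroup.mem_comap, CfsgLib.Classical.ChevFix.map_xG goodD4 ι hr]
        exact goodD4.xG_mem_group hr _
    exact hh (hle hx)
  have hdiag : ∀ g : C, ∃ c : Fin chevD4.rank → Lˣ,
      Matrix.GeneralLinearGroup.map ι ((g : ↥(twistedD4 K q)) : GL chevD4.Idx K) * psi P =
        psi P * torHom chevD4 L c := by
    intro g
    have hgy : ((g : ↥(twistedD4 K q)) : GL chevD4.Idx K) * yv = yv * (g : ↥(twistedD4 K q)) :=
      congrArg Subtype.val (Subgroup.mem_centralizer_iff.1 g.2 y rfl).symm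
    set gK := Matrix.GeneralLinearGroup.map ι ((g : ↥(twistedD4 K q)) : GL chevD4.Idx K) with hgK
    have h1 : gK * (psi P * torHom chevD4 L cz * (psi P)⁻¹) = (psi P * torHom chevD4 L cz * (psi P)⁻¹) * gK := by
      rw [← hy, ← map_mul, ← map_mul, hgy]
    have h2 : (psi P)⁻¹ * gK * psi P ∈ chevD4.diagonalSubgroup L := by
      refine ChevRegular.mem_diagonal_of_commute goodD4 hc cz (fun s h => ?_) (fun π hπ h => ?_)
        (mul_mem (mul_mem (inv_mem (psi_mem P)) (hmap_mem _ g.1.2)) (psi_mem P)) ?_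
      · exact hne1 s (zne _ ((hexp s).symm.trans h))
      · refine weyl_eq_one hπ fun j => hkey _ j (zne _ ?_)
        rw [_root_.zpow_sub, mul_inv_eq_one]
        exact ((hexp _).symm.trans (h (keyRoots j))).trans (hexp _)
      calc (psi P)⁻¹ * gK * psi P * torHom chevD4 L cz =
            (psi P)⁻¹ * (gK * (psi P * torHom chevD4 L cz * (psi P)⁻¹)) * psi P := by group
        _ = _ := by rw [h1]; group
    rw [goodD4.diagonal_eq_range] at h2
    obtain ⟨c, hc'⟩ := h2
    exact ⟨c, by rw [hc']; group⟩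
  choose cg hcg using hdiag
  -- the Frobenius relation
  have hrel : ∀ g : C, (rootVal (cg g) 18) ^ Nn = 1 ∧
      rootVal (cg g) 14 = rootVal (cg g) 18 ^ (Q ^ 3 - 1) ∧
      rootVal (cg g) 13 = rootVal (cg g) 18 ^ (q : ℤ) * (rootVal (cg g) 14)⁻¹ ∧
      rootVal (cg g) 12 = rootVal (cg g) 18 ^ (q * q) := by
    intro g
    obtain ⟨c, hcdef⟩ : ∃ c, c = cg g := ⟨_, rfl⟩
    rw [← hcdef]
    have hgK := hcg g
    rw [← hcdef] at hgK
    obtain ⟨gL, hgL⟩ : ∃ gL : ↥(chevD4.group L), gL = ⟨_, hmap_mem _ g.1.2⟩ := ⟨_, rfl⟩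
    let hT : ↥(chevD4.group L) := ⟨torHom chevD4 L c, goodD4.diagonal_le_group (goodD4.torHom_mem c)⟩
    let pP : ↥(chevD4.group L) := ⟨psi P, psi_mem P⟩
    have hσg : T.σ gL = gL := Subtype.ext (by rw [hgL]; exact hσι _ g.1.2 _)
    have he : gL * pP = pP * hT := Subtype.ext (by rw [hgL]; exact hgK)
    have he' := congrArg (fun w => ((T.σ w : ↥(chevD4.group L)) : GL chevD4.Idx L)) he
    simp only [map_mul, hσg, Subgroup.coe_mul] at he'
    rw [twist_psi φ T hTρ hTf, hPφ, map_mul psi, psi_DW, hgL] at he'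
    simp only at he'
    have hfix : goodD4.nG (14 : ℕ) δ * (T.σ hT : GL chevD4.Idx L) * (goodD4.nG (14 : ℕ) δ)⁻¹ =
        torHom chevD4 L c := by
      rw [mul_inv_eq_iff_eq_mul]
      refine mul_left_cancel (a := psi P) ?_
      rw [← mul_assoc, ← he', ← mul_assoc, hgK, mul_assoc]
    have rel := fun s r hr hs => frob_rel φ T hTρ hTf δ c hfix s r hr hs
    have r1 := rel 18 16 (by rw [hTρ, rho_values.1]; exact refl_values.1) sign_values.1
    have r2 := rel 13 15 (by rw [hTρ, rho_values.2.1]; exact refl_values.2.1) sign_values.2.1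
    have r3 := rel 12 19 (by rw [hTρ, rho_values.2.2.1]; exact refl_values.2.2.1) sign_values.2.2.1
    have r4 := rel 14 9 (by rw [hTρ, rho_values.2.2.2.1]; exact refl_values.2.2.2) sign_values.2.2.2.1
    have v16 : rootVal c 16 = rootVal c 14 * rootVal c 13 := by rw [rootVal_co c 16]; simp [coD]
    have v15 : rootVal c 15 = rootVal c 14 * rootVal c 12 := by rw [rootVal_co c 15]; simp [coD]
    have v19 : rootVal c 19 = rootVal c 18 * rootVal c 14 := by rw [rootVal_co c 19]; simp [coD]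
    have v9 : rootVal c 9 = (rootVal c 14)⁻¹ := by rw [rootVal_co c 9]; simp [coD]
    rw [hφ, v16, ← Units.val_pow_eq_pow_val, Units.val_inj] at r1
    rw [hφ, v15, ← Units.val_pow_eq_pow_val, Units.val_inj] at r2
    rw [hφ, v19, ← Units.val_pow_eq_pow_val, Units.val_inj] at r3
    rw [hφ, v9, ← Units.val_pow_eq_pow_val, Units.val_inj] at r4
    set x0 := rootVal c 18
    set x1 := rootVal c 14
    set x2 := rootVal c 13
    set x3 := rootVal c 12
    have hx1 : x1 ^ (q + 1) = 1 := by rw [pow_succ, ← r4, inv_mul_cancel]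
    have hx2 : x2 = x0 ^ (q : ℤ) * x1⁻¹ := by
      rw [zpow_natCast, ← r1, mul_comm x1, mul_inv_cancel_right]
    have hx3 : x3 = x0 ^ (q * q) := by
      refine mul_left_cancel (a := x1) ?_
      rw [r2, hx2, zpow_natCast, mul_pow, inv_pow, ← pow_mul, mul_comm x1]
      congr 1
      refine (inv_eq_of_mul_eq_one_left ?_)
      rw [← pow_succ', hx1]
    have hx1' : x1 = x0 ^ (Q ^ 3 - 1) := by
      refine mul_left_cancel (a := x0) ?_
      rw [r3, hx3, ← pow_mul, ← _root_.zpow_one_add, ← zpow_natCast]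
      congr 1
      rw [hQdef]; push_cast; ring
    refine ⟨?_, hx1', hx2, hx3⟩
    rw [← zpow_natCast, hNcast, _root_.zpow_mul, ← hx1', show Q + 1 = ((q + 1 : ℕ) : ℤ) by rw [hQdef]; push_cast; ring,
      zpow_natCast, hx1]
  -- the injective character
  let χ : C →* Lˣ :=
    { toFun := fun g => rootVal (cg g) 18
      map_one' := by
        have h := hcg 1
        simp only [OneMemClass.coe_one, map_one, one_mul] at h
        have h' : torHom chevD4 L (cg 1) = torHom chevD4 L 1 := by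
          rw [map_one]; exact mul_left_cancel (a := psi P) (by rw [← h, mul_one])
        rw [rootVal_of_eq h', rootVal_one]
      map_mul' := fun g g' => by
        have h : Matrix.GeneralLinearGroup.map ι (((g * g' : C) : ↥(twistedD4 K q)) : GL chevD4.Idx K) * psi P =
            psi P * torHom chevD4 L (cg g * cg g') := by
          rw [Subgroup.coe_mul, Subgroup.coe_mul, map_mul, mul_assoc, hcg g', ← mul_assoc, hcg g, mul_assoc,
            map_mul]
        rw [rootVal_of_eq (mul_left_cancel ((hcg (g * g')).symm.trans h)), rootVal_mul] }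
  have hχinj : Function.Injective χ := by
    intro g g' h
    change rootVal (cg g) 18 = rootVal (cg g') 18 at h
    obtain ⟨-, a1, a2, a3⟩ := hrel g
    obtain ⟨-, b1, b2, b3⟩ := hrel g'
    have hcc : torHom chevD4 L (cg g) = torHom chevD4 L (cg g') :=
      torHom_eq_of_simple h (by rw [a1, b1, h]) (by rw [a2, b2, a1, b1, h]) (by rw [a3, b3, h])
    have := (hcg g).trans (hcc ▸ (hcg g').symm)
    have h2 := mul_right_cancel this
    refine Subtype.ext (Subtype.ext (Units.ext (Matrix.ext fun i j => ι.injective ?_)))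
    exact congrFun (congrFun (congrArg (Units.val (α := Matrix chevD4.Idx chevD4.Idx L)) h2) i) j
  have hyC : y ∈ C := Subgroup.mem_centralizer_iff.2 (by rintro w rfl; rfl)
  have hχy : χ ⟨y, hyC⟩ = z := by
    have h : torHom chevD4 L (cg ⟨y, hyC⟩) = torHom chevD4 L cz := mul_left_cancel (a := psi P) (by
      rw [← hcg ⟨y, hyC⟩]
      show Matrix.GeneralLinearGroup.map ι yv * psi P = _
      rw [hy, inv_mul_cancel_right])
    exact (rootVal_of_eq h 18).trans e18
  have hrange : χ.range = Subgroup.zpowers z := by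
    refine (Subgroup.eq_of_le_of_card_ge ?_ ?_).symm
    · exact Subgroup.zpowers_le.2 ⟨⟨y, hyC⟩, hχy⟩
    · rw [Nat.card_zpowers, hz]
      have hsub : χ.range ≤ rootsOfUnity Nn L := by
        rintro w ⟨g, rfl⟩
        rw [mem_rootsOfUnity]
        exact (hrel g).1
      refine (Subgroup.card_le_of_le hsub).trans ?_
      haveI : NeZero Nn := ⟨by omega⟩
      exact card_rootsOfUnity L Nn
  have e : C ≃* Subgroup.zpowers z := (χ.ofInjective hχinj).trans (MulEquiv.subgroupCongr hrange)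
  haveI hcyc : IsCyclic C := isCyclic_of_surjective e.symm.toMonoidHom e.symm.surjective
  refine ⟨C, hcyc, by rw [Nat.card_congr e.toEquiv, Nat.card_zpowers, hz, hNn], le_antisymm ?_ ?_⟩
  · exact Subgroup.centralizer_le (Set.singleton_subset_iff.2 hyC)
  · intro w hw
    refine Subgroup.mem_centralizer_iff.2 fun w' hw' => ?_
    exact congrArg Subtype.val ((IsCyclic.commGroup (α := C)).mul_comm (⟨w', hw'⟩ : C) ⟨w, hw⟩)

end CfsgLib.KnownB.D4Singer
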