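import Cfsg.Agent.Lib.KnownB.CompLabel
import Mathlib.LinearAlgebra.Matrix.GeneralLinearGroup.Card
import Mathlib.LinearAlgebra.LinearIndependent.Basic
import Mathlib.GroupTheory.Coset.Card
import Mathlib.RingTheory.Int.Basic

/-!
# The order of a parabolic subgroup of `GL_n(q)` and the number of flags of a given type
-/

set_option autoImplicit false

namespace CfsgLib.KnownB.Flag

open scoped MatrixGroups
open Finset

universe u

variable {F : Type u} [Field F] [Fintype F] {n : ℕ} {μ : Fin n → ℕ}

theorem natCard_indep_in (k : ℕ) (V : Fin k → Submodule F (Fin n → F)) (hV : Monotone V)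
    (d : Fin k → ℕ) (hd : ∀ j, Nat.card (V j) = Fintype.card F ^ d j) :
    Nat.card {s : Fin k → Fin n → F // LinearIndependent F s ∧ ∀ j, s j ∈ V j} =
      ∏ j, (Fintype.card F ^ d j - Fintype.card F ^ (j : ℕ)) := by
  classical
  induction k with
  | zero =>
    rw [Finset.univ_eq_empty, Finset.prod_empty, Nat.card_eq_one_iff_unique]
    exact ⟨inferInstance, ⟨⟨finZeroElim, linearIndependent_empty_type, fun j => j.elim0⟩⟩⟩
  | succ k ih =>
    let A := {s : Fin k → Fin n → F //
      LinearIndependent F s ∧ ∀ j, s j ∈ V j.castSucc}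
    have e : {s : Fin (k + 1) → Fin n → F // LinearIndependent F s ∧ ∀ j, s j ∈ V j} ≃
        Σ s : A, {v : Fin n → F // v ∈ V (Fin.last k) ∧ v ∉ Submodule.span F (Set.range s.1)} :=
      { toFun := fun s => ⟨⟨Fin.init s.1, (linearIndependent_finSucc'.mp s.2.1).1,
            fun j => s.2.2 _⟩, s.1 (Fin.last k), s.2.2 _, (linearIndependent_finSucc'.mp s.2.1).2⟩
        invFun := fun x => ⟨Fin.snoc x.1.1 x.2.1,
          linearIndependent_finSnoc.mpr ⟨x.1.2.1, x.2.2.2⟩, fun j => by
            refine Fin.lastCases ?_ (fun i => ?_) j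
            · rw [Fin.snoc_last]; exact x.2.2.1
            · rw [Fin.snoc_castSucc]; exact x.1.2.2 i⟩
        left_inv := fun s => Subtype.ext (Fin.snoc_init_self s.1)
        right_inv := fun x => Sigma.subtype_ext (Subtype.ext (Fin.init_snoc (α := fun _ => Fin n → F) x.2.1 x.1.1))
          (Fin.snoc_last (α := fun _ => Fin n → F) x.2.1 x.1.1) }
    rw [Nat.card_congr e, Nat.card_sigma]
    have hc : ∀ s : A, Nat.card {v : Fin n → F //
        v ∈ V (Fin.last k) ∧ v ∉ Submodule.span F (Set.range s.1)} =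
        Fintype.card F ^ d (Fin.last k) - Fintype.card F ^ k := by
      intro s
      have hle : Submodule.span F (Set.range s.1) ≤ V (Fin.last k) := by
        rw [Submodule.span_le]
        rintro _ ⟨j, rfl⟩
        exact hV (Fin.le_last _) (s.2.2 j)
      have hs : Nat.card (Submodule.span F (Set.range s.1)) = Fintype.card F ^ k := by
        rw [Module.natCard_eq_pow_finrank (K := F), finrank_span_eq_card s.2.1, Fintype.card_fin,
          Nat.card_eq_fintype_card]
      rw [show Nat.card {v : Fin n → F //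
          v ∈ V (Fin.last k) ∧ v ∉ Submodule.span F (Set.range s.1)} =
          ((V (Fin.last k) : Set (Fin n → F)) \ Submodule.span F (Set.range s.1)).ncard from
        Nat.card_coe_set_eq _, Set.ncard_sdiff hle (Set.toFinite _), ← Nat.card_coe_set_eq,
        ← Nat.card_coe_set_eq]
      exact congrArg₂ (· - ·) (hd _) hs
    rw [Finset.sum_congr rfl (fun s _ => hc s), Finset.sum_const, smul_eq_mul, Finset.card_univ,
      ← Nat.card_eq_fintype_card, ih (fun j => V j.castSucc) (hV.comp (fun a b h => Fin.castSucc_le_castSucc_iff.mpr h)) (fun j => d j.castSucc) (fun j => hd _),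
      Fin.prod_univ_castSucc]
    rfl

/-- The space of vectors supported on positions with label at most that of `x`. -/
def colSpace (μ : Fin n → ℕ) (x : Fin n) : Submodule F (Fin n → F) where
  carrier := {v | ∀ i, Cfsg.compLabel μ x < Cfsg.compLabel μ i → v i = 0}
  add_mem' := fun {a b} ha hb i hi => by simp [ha i hi, hb i hi]
  zero_mem' := fun _ _ => rfl
  smul_mem' := fun c {a} ha i hi => by simp [ha i hi]

/-- `e x`: the end of the block containing `x`. -/
def blockEnd (h : ∑ i, μ i = n) (x : Fin n) : ℕ := ∑ j ∈ Iic (lab h x), μ j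

theorem natCard_colSpace (h : ∑ i, μ i = n) (x : Fin n) :
    Nat.card (colSpace (F := F) μ x) = Fintype.card F ^ blockEnd h x := by
  classical
  let S := {i : Fin n // lab h i ≤ lab h x}
  have hiff : ∀ i, Cfsg.compLabel μ x < Cfsg.compLabel μ i ↔ ¬ lab h i ≤ lab h x := fun i => by
    rw [compLabel_eq_lab h, compLabel_eq_lab h, not_le, Fin.lt_def]
  have e : colSpace (F := F) μ x ≃ (S → F) :=
    { toFun := fun v i => v.1 i.1
      invFun := fun w => ⟨fun i => if hi : lab h i ≤ lab h x then w ⟨i, hi⟩ else 0,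
        fun i hi => dif_neg ((hiff i).mp hi)⟩
      left_inv := fun v => Subtype.ext (funext fun i => by
        by_cases hi : lab h i ≤ lab h x
        · simp [hi]
        · simp [hi, v.2 i ((hiff i).mpr hi)])
      right_inv := fun w => funext fun i => by simp [i.2] }
  rw [Nat.card_congr e, Nat.card_pi, Finset.prod_const, Finset.card_univ,
    ← Nat.card_eq_fintype_card, natCard_lab_le h, Nat.card_eq_fintype_card (α := F), blockEnd]

theorem natCard_parabolicGL (h : ∑ i, μ i = n) :
    Nat.card (Cfsg.parabolicGL n F μ) =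
      ∏ x, (Fintype.card F ^ blockEnd h x - Fintype.card F ^ (x : ℕ)) := by
  have e : Cfsg.parabolicGL n F μ ≃
      {s : Fin n → Fin n → F // LinearIndependent F s ∧ ∀ j, s j ∈ colSpace μ j} :=
    ((Matrix.equiv_GL_linearindependent n).subtypeEquiv (q := fun s => ∀ j, s.1 j ∈ colSpace μ j)
      (p := fun g => g ∈ Cfsg.parabolicGL n F μ)
      (fun g => ⟨fun hg j i hi => by exact hg hi, fun hg i j hi => by exact hg j i hi⟩)).trans
      (Equiv.subtypeSubtypeEquivSubtypeInter (fun s : Fin n → Fin n → F => LinearIndependent F s)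
        (fun s => ∀ j, s j ∈ colSpace μ j))
  rw [Nat.card_congr e]
  refine natCard_indep_in n (colSpace μ) (fun a b hab v hv i hi => hv i ?_) _ (natCard_colSpace h)
  exact lt_of_le_of_lt (compLabel_mono hab) hi

/-- The q-integer. -/
def qInt (q m : ℕ) : ℕ := ∑ l ∈ range m, q ^ l

/-- The q-factorial. -/
def qFact (q r : ℕ) : ℕ := ∏ j ∈ range r, qInt q (j + 1)

theorem qFact_succ (q r : ℕ) : qFact q (r + 1) = qFact q r * qInt q (r + 1) :=
  Finset.prod_range_succ _ _

theorem qFact_pos {q : ℕ} (r : ℕ) : 0 < qFact q r :=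
  Finset.prod_pos fun j _ => by
    rw [qInt, Finset.sum_range_succ', pow_zero]; omega

theorem pow_sub_pow_eq {q a j : ℕ} (hq : 1 ≤ q) (hj : j ≤ a) :
    q ^ a - q ^ j = q ^ j * (q - 1) * qInt q (a - j) := by
  obtain ⟨b, rfl⟩ := Nat.exists_eq_add_of_le hj
  rw [Nat.add_sub_cancel_left, mul_assoc, qInt, mul_comm (q - 1),
    geom_sum_mul_of_one_le hq, Nat.mul_sub, mul_one, pow_add]

theorem blockEnd_blockEquiv (h : ∑ i, μ i = n) (k : Σ i, Fin (μ i)) :
    blockEnd h (blockEquiv h k) = (blockEquiv h k : ℕ) + (μ k.1 - k.2) := by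
  have hl : lab h (blockEquiv h k) = k.1 := by rw [lab, Equiv.symm_apply_apply]
  rw [blockEnd, hl, blockEquiv_val,
    show Iic k.1 = insert k.1 (Iio k.1) by ext; simp [le_iff_eq_or_lt],
    Finset.sum_insert (by simp)]
  have := k.2.2
  omega

theorem index_mul (h : ∑ i, μ i = n) :
    Nat.card (GL (Fin n) F ⧸ Cfsg.parabolicGL n F μ) * ∏ i, qFact (Fintype.card F) (μ i) =
      qFact (Fintype.card F) n := by
  classical
  set q := Fintype.card F with hqdef
  have hq : 1 < q := Fintype.one_lt_card
  have hgl : Nat.card (GL (Fin n) F) =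
      (∏ x : Fin n, q ^ (x : ℕ) * (q - 1)) * qFact q n := by
    rw [Matrix.card_GL_field]
    rw [show ∏ x : Fin n, (q ^ n - q ^ (x : ℕ)) =
        ∏ x : Fin n, (q ^ (x : ℕ) * (q - 1) * qInt q (n - x)) from
      Finset.prod_congr rfl fun x _ => pow_sub_pow_eq hq.le x.2.le, Finset.prod_mul_distrib]
    congr 1
    rw [qFact, ← Finset.prod_range_reflect, ← Fin.prod_univ_eq_prod_range]
    refine Finset.prod_congr rfl fun x _ => ?_
    congr 1
    have := x.2
    omega
  have hP : Nat.card (Cfsg.parabolicGL n F μ) =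
      (∏ x : Fin n, q ^ (x : ℕ) * (q - 1)) * ∏ i, qFact q (μ i) := by
    rw [natCard_parabolicGL h]
    rw [show ∏ x : Fin n, (q ^ blockEnd h x - q ^ (x : ℕ)) =
        ∏ x : Fin n, (q ^ (x : ℕ) * (q - 1) * qInt q (blockEnd h x - x)) from
      Finset.prod_congr rfl fun x _ => pow_sub_pow_eq hq.le (by
        obtain ⟨k, rfl⟩ := (blockEquiv h).surjective x
        rw [blockEnd_blockEquiv]; omega), Finset.prod_mul_distrib]
    congr 1
    rw [← (blockEquiv h).prod_comp, Fintype.prod_sigma]
    refine Finset.prod_congr rfl fun i _ => ?_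
    rw [qFact, ← Finset.prod_range_reflect, ← Fin.prod_univ_eq_prod_range]
    refine Finset.prod_congr rfl fun t _ => ?_
    rw [blockEnd_blockEquiv, Nat.add_sub_cancel_left]
    show qInt q (μ i - (t : ℕ)) = qInt q (μ i - 1 - (t : ℕ) + 1)
    congr 1
    have := t.2
    omega
  have hlag := (Cfsg.parabolicGL n F μ).card_eq_card_quotient_mul_card_subgroup
  rw [hgl, hP] at hlag
  have hpos : (∏ x : Fin n, q ^ (x : ℕ) * (q - 1)) ≠ 0 :=
    Finset.prod_ne_zero_iff.mpr fun x _ => Nat.mul_ne_zero (pow_ne_zero _ (by omega)) (by omega)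
  refine mul_left_cancel₀ hpos ?_
  rw [hlag]
  ring

end CfsgLib.KnownB.Flag
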