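import Mathlib
import Cfsg.Agent.Lib.Classical.StdQuad

/-!
In the full orthogonal group of a hyperbolic quadratic space over the field with two elements, the stabilisers of two
singular flags of dimensions `1, …, m - 1` meet non-trivially; so do any two Sylow 2-subgroups.
-/

set_option autoImplicit false

namespace CfsgLib.KnownB.FlagMeet

open QuadraticMap (polar polarBilin)
open scoped Pointwise

variable {F : Type*} [Field F] [Fintype F] (hF : Fintype.card F = 2)

include hF in
theorem eq_zero_or_one (x : F) : x = 0 ∨ x = 1 := by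
  classical
  by_contra h
  rw [not_or] at h
  have h3 : ({0, 1, x} : Finset F).card ≤ 2 := hF ▸ Finset.card_le_univ _
  rw [Finset.card_insert_of_notMem (by simp [Ne.symm h.1]),
    Finset.card_insert_of_notMem (by simp [Ne.symm h.2]), Finset.card_singleton] at h3
  omega

include hF in
theorem two_eq_zero : (2 : F) = 0 := by
  rcases eq_zero_or_one hF (-1 : F) with h | h
  · simp at h
  · linear_combination -h

include hF in
theorem eq_one_of_ne {x : F} (hx : x ≠ 0) : x = 1 := (eq_zero_or_one hF x).resolve_left hx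

variable {V : Type*} [AddCommGroup V] [Module F V]

omit [Fintype F] in
theorem qadd (Q : QuadraticForm F V) (x y : V) : Q (x + y) = Q x + Q y + polar Q x y :=
  QuadraticMap.map_add (⇑Q) x y

/-- Pairwise orthogonal, independent singular vectors, listed along a flag. -/
structure IsFlag (Q : QuadraticForm F V) {k : ℕ} (w : Fin k → V) : Prop where
  sing : ∀ i, Q (w i) = 0
  orth : ∀ i j, polar Q (w i) (w j) = 0
  indep : ∀ i, w i ∉ Submodule.span F (w '' Set.Iio i)

/-- `g` fixes the flag spanned by the initial segments of `w`. -/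
def FixesFlag {k : ℕ} (g : V →ₗ[F] V) (w : Fin k → V) : Prop :=
  ∀ i, g (w i) ∈ Submodule.span F (w '' Set.Iic i)

theorem IsFlag.ne_zero {Q : QuadraticForm F V} {k : ℕ} {w : Fin k → V} (h : IsFlag Q w) (i : Fin k) :
    w i ≠ 0 := fun h0 => h.indep i (by rw [h0]; exact zero_mem _)

theorem mem_span_self {k : ℕ} (w : Fin k → V) {i j : Fin k} (h : j ≤ i) :
    w j ∈ Submodule.span F (w '' Set.Iic i) :=
  Submodule.subset_span ⟨j, h, rfl⟩

omit [Fintype F] in
/-- An isometry of a non-degenerate space as a linear automorphism. -/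
theorem exists_equiv [FiniteDimensional F V] (Q : QuadraticForm F V)
    (sep : ∀ x, (∀ y, polar Q x y = 0) → x = 0) (T : V →ₗ[F] V) (hT : ∀ z, Q (T z) = Q z) :
    ∃ g : V ≃ₗ[F] V, ∀ z, g z = T z := by
  refine ⟨LinearEquiv.ofInjectiveEndo T (LinearMap.ker_eq_bot.1 ((Submodule.eq_bot_iff _).2 fun x hx => ?_)),
    fun z => rfl⟩
  refine sep x fun y => ?_
  have hx0 : T x = 0 := hx
  rw [QuadraticMap.polar, ← hT (x + y), ← hT x, ← hT y, map_add, hx0, zero_add]
  simp

include hF in
/-- An Eichler transformation fixing both flags when their points are orthogonal. -/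
theorem exists_common_of_orth [FiniteDimensional F V] (Q : QuadraticForm F V)
    (sep : ∀ x, (∀ y, polar Q x y = 0) → x = 0) {k : ℕ} {w w' : Fin (k + 1) → V} (hw : IsFlag Q w)
    (hw' : IsFlag Q w') (h4 : 3 ≤ Module.finrank F V) (horth : polar Q (w 0) (w' 0) = 0) :
    ∃ g : V ≃ₗ[F] V, (∀ z, Q (g z) = Q z) ∧ (g : V →ₗ[F] V) ≠ LinearMap.id ∧
      FixesFlag (g : V →ₗ[F] V) w ∧ FixesFlag (g : V →ₗ[F] V) w' := by
  classical
  set p := w 0 with hp
  have hp0 : p ≠ 0 := hw.ne_zero 0
  -- the second vector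
  obtain ⟨y, hpy, hyp, hy'⟩ : ∃ y, polar Q p y = 0 ∧ y ∉ Submodule.span F {p} ∧
      (y = w' 0 ∨ w' 0 = p) := by
    by_cases hpp : w' 0 = p
    · obtain ⟨y, hy, hyp⟩ : ∃ y, y ∈ LinearMap.ker (polarBilin Q p) ∧ y ∉ Submodule.span F {p} := by
        by_contra hno
        push Not at hno
        have h1 := Submodule.finrank_mono (s := LinearMap.ker (polarBilin Q p)) hno
        rw [finrank_span_singleton hp0] at h1
        have h2 := LinearMap.finrank_range_add_finrank_ker (polarBilin Q p)
        have h3 : Module.finrank F (LinearMap.range (polarBilin Q p)) ≤ 1 := by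
          refine (Submodule.finrank_le _).trans ?_
          rw [Module.finrank_self]
        omega
      exact ⟨y, by simpa using hy, hyp, Or.inr hpp⟩
    · refine ⟨w' 0, horth, fun h => ?_, Or.inl rfl⟩
      obtain ⟨a, ha⟩ := Submodule.mem_span_singleton.1 h
      rcases eq_zero_or_one hF a with rfl | rfl
      · rw [zero_smul] at ha; exact hw'.ne_zero 0 ha.symm
      · rw [one_smul] at ha; exact hpp ha.symm
  let T : V →ₗ[F] V := LinearMap.id + (polarBilin Q p).smulRight y - (polarBilin Q y).smulRight p -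
    (Q y • polarBilin Q p).smulRight p
  have hT : ∀ z, T z = z + (polar Q p z • y + (-(polar Q y z + Q y * polar Q p z)) • p) := fun z => by
    simp [T, QuadraticMap.polarBilin_apply_apply]
    module
  have hiso : ∀ z, Q (T z) = Q z := fun z => by
    rw [hT, qadd, qadd, QuadraticMap.map_smul, QuadraticMap.map_smul,
      hw.sing 0, QuadraticMap.polar_smul_left, QuadraticMap.polar_smul_right, QuadraticMap.polar_comm Q y p,
      hpy, QuadraticMap.polar_add_right, QuadraticMap.polar_smul_right, QuadraticMap.polar_smul_right,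
      QuadraticMap.polar_comm Q z y, QuadraticMap.polar_comm Q z p]
    simp only [smul_eq_mul]
    ring
  obtain ⟨g, hg⟩ := exists_equiv Q sep T hiso
  refine ⟨g, fun z => by rw [hg, hiso], fun hid => hyp ?_, fun i => ?_, fun i => ?_⟩
  · obtain ⟨z, hz⟩ : ∃ z, polar Q p z ≠ 0 := by
      by_contra hno
      push Not at hno
      exact hp0 (sep p hno)
    have h1 : g z = z := by rw [← LinearEquiv.coe_coe, hid, LinearMap.id_apply]
    rw [hg, hT, eq_one_of_ne hF hz, one_smul, mul_one, add_eq_left] at h1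
    exact Submodule.mem_span_singleton.2 ⟨polar Q y z + Q y, by linear_combination (norm := module) -h1⟩
  · rw [LinearEquiv.coe_coe, hg, hT, hw.orth 0 i]
    refine add_mem (mem_span_self w le_rfl) (add_mem ?_ (Submodule.smul_mem _ _ (mem_span_self w (Fin.zero_le i))))
    simp
  · rw [LinearEquiv.coe_coe, hg, hT]
    refine add_mem (mem_span_self w' le_rfl) ?_
    rcases hy' with rfl | hpp
    · refine add_mem (Submodule.smul_mem _ _ (mem_span_self w' (Fin.zero_le i))) ?_
      simp [hw'.orth 0 i, hw'.sing 0]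
    · rw [show polar Q p (w' i) = 0 by rw [← hpp]; exact hw'.orth 0 i, zero_smul, zero_add]
      refine Submodule.smul_mem _ _ ?_
      rw [← hpp]
      exact mem_span_self w' (Fin.zero_le i)

include hF in
/-- A reflection of a non-trivial space. -/
theorem exists_refl [FiniteDimensional F V] (Q : QuadraticForm F V)
    (sep : ∀ x, (∀ y, polar Q x y = 0) → x = 0) (h : 0 < Module.finrank F V) :
    ∃ g : V ≃ₗ[F] V, (∀ z, Q (g z) = Q z) ∧ (g : V →ₗ[F] V) ≠ LinearMap.id := by
  obtain ⟨v, hv⟩ : ∃ v, Q v ≠ 0 := by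
    by_contra hno
    push Not at hno
    haveI := Module.finrank_pos_iff.1 h
    obtain ⟨x, hx⟩ := exists_ne (0 : V)
    exact hx (sep x fun y => by simp [QuadraticMap.polar, hno])
  let T : V →ₗ[F] V := LinearMap.id + (polarBilin Q v).smulRight v
  have hT : ∀ z, T z = z + polar Q v z • v := fun z => by simp [T]
  have hiso : ∀ z, Q (T z) = Q z := fun z => by
    rw [hT, qadd, QuadraticMap.map_smul, QuadraticMap.polar_smul_right,
      QuadraticMap.polar_comm Q z v, eq_one_of_ne hF hv]
    simp only [smul_eq_mul]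
    linear_combination (polar Q v z * polar Q v z) * two_eq_zero hF
  obtain ⟨g, hg⟩ := exists_equiv Q sep T hiso
  refine ⟨g, fun z => by rw [hg, hiso], fun hid => ?_⟩
  have hv0 : v ≠ 0 := fun h0 => hv (by rw [h0, QuadraticMap.map_zero])
  obtain ⟨z, hz⟩ : ∃ z, polar Q v z ≠ 0 := by
    by_contra hno
    push Not at hno
    exact hv0 (sep v hno)
  have h1 : g z = z := by rw [← LinearEquiv.coe_coe, hid, LinearMap.id_apply]
  rw [hg, hT, eq_one_of_ne hF hz, one_smul, add_eq_left] at h1
  exact hv0 h1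

include hF in
/-- Two flags have a common non-trivial isometry. -/
theorem exists_common (k : ℕ) : ∀ {V : Type _} [AddCommGroup V] [Module F V] [FiniteDimensional F V]
    (Q : QuadraticForm F V), (∀ x, (∀ y, polar Q x y = 0) → x = 0) → 2 * k + 2 ≤ Module.finrank F V →
    ∀ (w w' : Fin k → V), IsFlag Q w → IsFlag Q w' →
    ∃ g : V ≃ₗ[F] V, (∀ z, Q (g z) = Q z) ∧ (g : V →ₗ[F] V) ≠ LinearMap.id ∧
      FixesFlag (g : V →ₗ[F] V) w ∧ FixesFlag (g : V →ₗ[F] V) w' := by
  induction k with
  | zero =>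
    intro V _ _ _ Q sep hd w w' _ _
    obtain ⟨g, h1, h2⟩ := exists_refl hF Q sep (by omega)
    exact ⟨g, h1, h2, fun i => i.elim0, fun i => i.elim0⟩
  | succ k ih =>
    intro V _ _ _ Q sep hd w w' hw hw'
    rcases eq_or_ne (polar Q (w 0) (w' 0)) 0 with h0 | h0
    · exact exists_common_of_orth hF Q sep hw hw' (by omega) h0
    set p := w 0 with hp
    set p' := w' 0 with hp'
    have hpp' : polar Q p p' = 1 := eq_one_of_ne hF h0
    have hp'p : polar Q p' p = 1 := by rw [QuadraticMap.polar_comm, hpp']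
    have hps : polar Q p p = 0 := hw.orth 0 0
    have hp's : polar Q p' p' = 0 := hw'.orth 0 0
    let P : Submodule F V := LinearMap.ker ((polarBilin Q p).prod (polarBilin Q p'))
    have hmem : ∀ x, x ∈ P ↔ polar Q p x = 0 ∧ polar Q p' x = 0 := fun x => by simp [P]
    let π : V →ₗ[F] V := LinearMap.id - (polarBilin Q p').smulRight p - (polarBilin Q p).smulRight p'
    have hπ : ∀ z, π z = z - polar Q p' z • p - polar Q p z • p' := fun z => by simp [π]
    have hπP : ∀ z, π z ∈ P := fun z => by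
      rw [hmem, hπ]
      simp only [QuadraticMap.polar_sub_right, QuadraticMap.polar_smul_right, hps, hpp', hp'p, hp's,
        smul_eq_mul]
      constructor <;> ring
    let π' : V →ₗ[F] P := π.codRestrict P hπP
    let Q' : QuadraticForm F P := Q.comp P.subtype
    have hQ' : ∀ x y : P, polar Q' x y = polar Q (x : V) y := fun x y => by simp [Q', QuadraticMap.polar]
    have hsep' : ∀ x : P, (∀ y, polar Q' x y = 0) → x = 0 := fun x hx => Subtype.ext (sep _ fun v => by
      have h1 := hx ⟨π v, hπP v⟩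
      rw [hQ'] at h1
      simp only [hπ, QuadraticMap.polar_sub_right, QuadraticMap.polar_smul_right, smul_eq_mul,
        QuadraticMap.polar_comm Q (x : V) p, QuadraticMap.polar_comm Q (x : V) p', ((hmem _).1 x.2).1,
        ((hmem _).1 x.2).2, mul_zero, sub_zero] at h1
      exact h1)
    have hd' : 2 * k + 2 ≤ Module.finrank F P := by
      have h2 := LinearMap.finrank_range_add_finrank_ker ((polarBilin Q p).prod (polarBilin Q p'))
      have h3 := Submodule.finrank_le (LinearMap.range ((polarBilin Q p).prod (polarBilin Q p')))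
      rw [Module.finrank_prod, Module.finrank_self] at h3
      show _ ≤ Module.finrank F (LinearMap.ker ((polarBilin Q p).prod (polarBilin Q p')))
      omega
    -- the projected flag
    have key : ∀ (u : Fin (k + 1) → V), IsFlag Q u → (u 0 = p ∨ u 0 = p') →
        IsFlag Q' (fun i => π' (u i.succ)) ∧
        ∀ i : Fin k, π (u i.succ) - u i.succ ∈ Submodule.span F {u 0} := by
      intro u hu h0u
      have hproj : ∀ i : Fin k, ∃ c : F, π (u i.succ) = u i.succ - c • u 0 := by
        intro i
        rcases h0u with h | h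
        · refine ⟨polar Q p' (u i.succ), ?_⟩
          rw [hπ, show polar Q p (u i.succ) = 0 by rw [← h]; exact hu.orth 0 _, zero_smul, sub_zero, h]
        · refine ⟨polar Q p (u i.succ), ?_⟩
          rw [hπ, show polar Q p' (u i.succ) = 0 by rw [← h]; exact hu.orth 0 _, zero_smul, sub_zero, h]
      refine ⟨⟨fun i => ?_, fun i j => ?_, fun i hi => ?_⟩, fun i => ?_⟩
      · obtain ⟨c, hc⟩ := hproj i
        show Q (π (u i.succ)) = 0
        rw [hc, sub_eq_add_neg, ← neg_smul, qadd, QuadraticMap.map_smul, hu.sing,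
          hu.sing, QuadraticMap.polar_smul_right, hu.orth]
        simp
      · obtain ⟨c, hc⟩ := hproj i
        obtain ⟨d, hd⟩ := hproj j
        rw [hQ']
        show polar Q (π (u i.succ)) (π (u j.succ)) = 0
        rw [hc, hd]
        simp [QuadraticMap.polar_sub_left, QuadraticMap.polar_sub_right, QuadraticMap.polar_smul_left,
          QuadraticMap.polar_smul_right, hu.orth]
      · refine hu.indep i.succ ?_
        obtain ⟨c, hc⟩ := hproj i
        have hu0 : u 0 ∈ Submodule.span F (u '' Set.Iio i.succ) :=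
          Submodule.subset_span ⟨0, Fin.succ_pos i, rfl⟩
        have h1 : π (u i.succ) ∈ Submodule.span F (u '' Set.Iio i.succ) := by
          refine (Submodule.span_le (p := (Submodule.span F (u '' Set.Iio i.succ)).comap P.subtype)).2 ?_ hi
          rintro _ ⟨j, hj, rfl⟩
          obtain ⟨d, hd⟩ := hproj j
          show π (u j.succ) ∈ Submodule.span F (u '' Set.Iio i.succ)
          rw [hd]
          exact sub_mem (Submodule.subset_span ⟨j.succ, Fin.succ_lt_succ_iff.2 hj, rfl⟩)
            (Submodule.smul_mem _ _ hu0)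
        rw [hc] at h1
        simpa using add_mem h1 (Submodule.smul_mem _ c hu0)
      · obtain ⟨c, hc⟩ := hproj i
        rw [hc, sub_sub_cancel_left]
        exact neg_mem (Submodule.smul_mem _ _ (Submodule.mem_span_singleton_self _))
    obtain ⟨g₀, hg₀, hne, hf, hf'⟩ := ih Q' hsep' hd' _ _ (key w hw (Or.inl rfl)).1 (key w' hw' (Or.inr rfl)).1
    let T : V →ₗ[F] V := LinearMap.id + (P.subtype ∘ₗ ((g₀ : P →ₗ[F] P) - LinearMap.id) ∘ₗ π')
    have hT : ∀ z, T z = z + ((g₀ (π' z) : V) - π z) := fun z => by simp [T, π']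
    have hdP : ∀ z, (g₀ (π' z) : V) - π z ∈ P := fun z => sub_mem (g₀ (π' z)).2 (hπP z)
    have hiso : ∀ z, Q (T z) = Q z := fun z => by
      have hperp : polar Q z ((g₀ (π' z) : V) - π z) = polar Q (π z) ((g₀ (π' z) : V) - π z) := by
        rw [hπ z]
        simp only [QuadraticMap.polar_sub_left, QuadraticMap.polar_smul_left]
        rw [← hπ z, ((hmem _).1 (hdP z)).1, ((hmem _).1 (hdP z)).2]
        simp
      have h1 := qadd Q (π z) ((g₀ (π' z) : V) - π z)
      rw [add_sub_cancel, show Q (g₀ (π' z) : V) = Q (π z) from hg₀ (π' z)] at h1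
      rw [hT, qadd, hperp]
      linear_combination -h1
    obtain ⟨g, hg⟩ := exists_equiv Q sep T hiso
    refine ⟨g, fun z => by rw [hg, hiso], fun hid => hne ?_, ?_, ?_⟩
    · refine LinearMap.ext fun x => Subtype.ext ?_
      have h1 : g (x : V) = x := by rw [← LinearEquiv.coe_coe, hid, LinearMap.id_apply]
      have hx : π (x : V) = x := by
        rw [hπ, ((hmem _).1 x.2).1, ((hmem _).1 x.2).2]; simp
      have hx' : π' (x : V) = x := Subtype.ext hx
      rw [hg, hT, hx, hx', add_eq_left, sub_eq_zero] at h1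
      simpa using h1
    all_goals
      have fixes : ∀ (u : Fin (k + 1) → V), IsFlag Q u → (u 0 = p ∨ u 0 = p') →
          FixesFlag (g₀ : P →ₗ[F] P) (fun i => π' (u i.succ)) → FixesFlag (g : V →ₗ[F] V) u := by
        intro u hu h0u hfu i
        rw [LinearEquiv.coe_coe, hg, hT]
        induction i using Fin.cases with
        | zero =>
          have hz : π (u 0) = 0 := by
            rcases h0u with h | h <;> rw [h, hπ] <;> simp [hps, hpp', hp'p, hp's]
          rw [hz, show π' (u 0) = 0 from Subtype.ext hz, map_zero]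
          simpa using mem_span_self u (le_refl (0 : Fin (k + 1)))
        | succ i =>
          have hin : ∀ j : Fin k, j ≤ i → π (u j.succ) ∈ Submodule.span F (u '' Set.Iic i.succ) := by
            intro j hj
            obtain ⟨c, hc⟩ := Submodule.mem_span_singleton.1 ((key u hu h0u).2 j)
            rw [show π (u j.succ) = c • u 0 + u j.succ by rw [hc]; abel]
            exact add_mem (Submodule.smul_mem _ _ (mem_span_self u (Fin.zero_le _)))
              (mem_span_self u (Fin.succ_le_succ_iff.2 hj))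
          refine add_mem (mem_span_self u le_rfl) (sub_mem ?_ (hin i le_rfl))
          refine (Submodule.span_le (p := (Submodule.span F (u '' Set.Iic i.succ)).comap P.subtype)).2 ?_ (hfu i)
          rintro _ ⟨j, hj, rfl⟩
          exact hin j hj
      first
        | exact fixes w hw (Or.inl rfl) hf
        | exact fixes w' hw' (Or.inr rfl) hf'

/-! ### Sylow 2-subgroups -/

/-- If any two conjugates of a `p`-subgroup meet, so do any two Sylow `p`-subgroups. -/
theorem sylow_meet {G : Type*} [Group G] [Finite G] {p : ℕ} [Fact p.Prime] (S : Subgroup G) (hS : IsPGroup p S)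
    (h : ∀ a b : G, ∃ y : G, y ≠ 1 ∧ a⁻¹ * y * a ∈ S ∧ b⁻¹ * y * b ∈ S) (H : Sylow p G) (x : G) :
    (H : Subgroup G) ⊓ MulAut.conj x • (H : Subgroup G) ≠ ⊥ := by
  obtain ⟨P, hP⟩ := hS.exists_le_sylow
  obtain ⟨g, hg⟩ := MulAction.exists_smul_eq G P H
  obtain ⟨y, hy, hya, hyb⟩ := h g (x * g)
  intro hbot
  refine hy ?_
  have hH : ∀ z : G, g⁻¹ * z * g ∈ S → z ∈ (H : Subgroup G) := fun z hz => by
    rw [← hg, Sylow.coe_subgroup_smul, Subgroup.mem_pointwise_smul_iff_inv_smul_mem, ← map_inv,
      MulAut.smul_def, MulAut.conj_apply, inv_inv]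
    exact hP hz
  have hmem : y ∈ (H : Subgroup G) ⊓ MulAut.conj x • (H : Subgroup G) := by
    refine Subgroup.mem_inf.2 ⟨hH y hya, ?_⟩
    rw [Subgroup.mem_pointwise_smul_iff_inv_smul_mem, ← map_inv, MulAut.smul_def, MulAut.conj_apply, inv_inv]
    exact hH _ (by simpa [mul_assoc] using hyb)
  rw [hbot] at hmem
  exact Subgroup.mem_bot.1 hmem

section Plus

variable (m : ℕ)

/-- The standard singular flag, as a family of basis vectors. -/
noncomputable def stdW (i : Fin (m - 1)) : Fin m ⊕ Fin m → F :=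
  Pi.single (Sum.inl ⟨i.1, by omega⟩) 1

/-- The subspace supported on the first `n` vectors `e i`. -/
def initSp (n : ℕ) : Submodule F (Fin m ⊕ Fin m → F) where
  carrier := {v | (∀ i : Fin m, n ≤ i.1 → v (Sum.inl i) = 0) ∧ ∀ i : Fin m, v (Sum.inr i) = 0}
  zero_mem' := by simp
  add_mem' := fun ha hb => ⟨fun i hi => by simp [ha.1 i hi, hb.1 i hi], fun i => by simp [ha.2 i, hb.2 i]⟩
  smul_mem' := fun c v hv => ⟨fun i hi => by simp [hv.1 i hi], fun i => by simp [hv.2 i]⟩

theorem span_stdW_le (i : Fin (m - 1)) :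
    Submodule.span F (stdW (F := F) m '' Set.Iic i) ≤ initSp (F := F) m (i.1 + 1) := by
  rw [Submodule.span_le]
  rintro _ ⟨j, hj, rfl⟩
  have : j.1 ≤ i.1 := hj
  exact ⟨fun l hl => by simp [stdW, Pi.single_apply, Fin.ext_iff]; omega, fun l => by simp [stdW]⟩

theorem isFlag_stdW : IsFlag (CfsgLib.Classical.qfPlus m F) (stdW (F := F) m) where
  sing i := by simp [CfsgLib.Classical.qfPlus_apply, Cfsg.quadFormPlus, stdW]
  orth i j := by simp [CfsgLib.Classical.polar_qfPlus, stdW]
  indep i h := by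
    let K : Submodule F (Fin m ⊕ Fin m → F) := LinearMap.ker (LinearMap.proj (Sum.inl ⟨i.1, by omega⟩))
    have h1 : Submodule.span F (stdW (F := F) m '' Set.Iio i) ≤ K := by
      rw [Submodule.span_le]
      rintro _ ⟨j, hj, rfl⟩
      have : j.1 < i.1 := hj
      simp [K, stdW, Pi.single_apply, Fin.ext_iff]
      omega
    have h2 := h1 h
    simp [K, stdW] at h2

/-- An isometry fixes the standard flag. -/
def FixStd (g : Cfsg.isometryGroup F (Cfsg.quadFormPlus m F)) : Prop :=
  FixesFlag (Matrix.toLin' (g.1 : Matrix (Fin m ⊕ Fin m) (Fin m ⊕ Fin m) F)) (stdW (F := F) m)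

theorem fixStd_one : FixStd (F := F) m 1 := fun i => by
  simpa using mem_span_self (stdW (F := F) m) (le_refl i)

theorem fixStd_mul {a b : Cfsg.isometryGroup F (Cfsg.quadFormPlus m F)} (ha : FixStd m a) (hb : FixStd m b) :
    FixStd m (a * b) := by
  intro i
  rw [Subgroup.coe_mul, Units.val_mul, Matrix.toLin'_mul, LinearMap.comp_apply]
  refine (Submodule.span_le (p := (Submodule.span F (stdW (F := F) m '' Set.Iic i)).comap
    (Matrix.toLin' (a.1 : Matrix (Fin m ⊕ Fin m) (Fin m ⊕ Fin m) F)))).2 ?_ (hb i)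
  rintro _ ⟨j, hj, rfl⟩
  exact Submodule.span_mono (Set.image_mono (Set.Iic_subset_Iic.2 hj)) (ha j)

theorem fixStd_inv {a : Cfsg.isometryGroup F (Cfsg.quadFormPlus m F)} (ha : FixStd m a) : FixStd m a⁻¹ := by
  have hpow : ∀ n : ℕ, FixStd m (a ^ n) := by
    intro n
    induction n with
    | zero => rw [pow_zero]; exact fixStd_one m
    | succ n ih => rw [pow_succ]; exact fixStd_mul m ih ha
  haveI := _root_.Classical.decEq F
  obtain ⟨n, hn⟩ : ∃ n : ℕ, a⁻¹ = a ^ n := by
    obtain ⟨n, hn⟩ := mem_powers_iff_mem_zpowers.2 (Subgroup.inv_mem _ (Subgroup.mem_zpowers a))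
    exact ⟨n, hn.symm⟩
  rw [hn]; exact hpow n

/-- The isometries fixing the standard flag. -/
def flagStab : Subgroup (Cfsg.isometryGroup F (Cfsg.quadFormPlus m F)) where
  carrier := {g | FixStd m g}
  one_mem' := fixStd_one m
  mul_mem' {_ _} ha hb := fixStd_mul m ha hb
  inv_mem' {_} ha := fixStd_inv m ha

theorem mem_isometry (g : Cfsg.isometryGroup F (Cfsg.quadFormPlus m F)) (v : Fin m ⊕ Fin m → F) :
    CfsgLib.Classical.qfPlus m F (Matrix.toLin' (g.1 : Matrix (Fin m ⊕ Fin m) (Fin m ⊕ Fin m) F) v) = CfsgLib.Classical.qfPlus m F v := by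
  rw [Matrix.toLin'_apply, CfsgLib.Classical.qfPlus_apply, CfsgLib.Classical.qfPlus_apply]
  exact g.2 v v

include hF in
theorem isPGroup_flagStab (hm : 1 ≤ m) : IsPGroup 2 (flagStab (F := F) m) := by
  rintro ⟨g, hg⟩
  set L := Matrix.toLin' (g.1 : Matrix (Fin m ⊕ Fin m) (Fin m ⊕ Fin m) F) with hL
  have hflag : FixesFlag L (stdW (F := F) m) := hg
  have h2 := two_eq_zero hF
  have hinj : Function.Injective L := fun x y h => by
    have h' := congrArg (Matrix.toLin' ((g.1⁻¹ : GL (Fin m ⊕ Fin m) F) : Matrix (Fin m ⊕ Fin m) (Fin m ⊕ Fin m) F)) h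
    simpa [hL, Matrix.mulVec_mulVec, ← Units.val_mul] using h'
  let Q := CfsgLib.Classical.qfPlus m F
  have hpolar : ∀ x y, polar Q (L x) (L y) = polar Q x y := fun x y => by
    simp only [QuadraticMap.polar, ← map_add, Q, hL, mem_isometry]
  -- invariant initial segments, with trivial action on the quotients
  have hmap : ∀ n ≤ m - 1, ∀ v ∈ initSp (F := F) m n, L v ∈ initSp (F := F) m n := by
    intro n hn v hv
    have hvs : v = ∑ i : Fin m, v (Sum.inl i) • (Pi.single (Sum.inl i) 1 : Fin m ⊕ Fin m → F) := by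
      funext a
      rcases a with a | a <;> simp [Pi.single_apply, hv.2]
    rw [hvs, map_sum]
    refine Submodule.sum_mem _ fun i _ => ?_
    rw [map_smul]
    by_cases hi : n ≤ i.1
    · rw [hv.1 i hi, zero_smul]; exact zero_mem _
    · refine Submodule.smul_mem _ _ ?_
      have h1 := span_stdW_le m ⟨i.1, by omega⟩ (hflag ⟨i.1, by omega⟩)
      exact ⟨fun l hl => h1.1 l (by show i.1 + 1 ≤ _; omega), h1.2⟩
  have hnil : ∀ n, n + 1 ≤ m - 1 → ∀ v ∈ initSp (F := F) m (n + 1), L v - v ∈ initSp (F := F) m n := by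
    intro n hn v hv
    have hLv := hmap (n + 1) hn v hv
    let a : Fin m := ⟨n, by omega⟩
    have hdec : ∀ u ∈ initSp (F := F) m (n + 1), u (Sum.inl a) = 0 → u ∈ initSp (F := F) m n :=
      fun u hu h0 => ⟨fun l hl => by
        rcases Nat.eq_or_lt_of_le hl with h | h
        · rw [show l = a from Fin.ext h.symm]; exact h0
        · exact hu.1 l h, hu.2⟩
    refine hdec _ (sub_mem hLv hv) ?_
    have he : (Pi.single (Sum.inl a) 1 : Fin m ⊕ Fin m → F) ∈ initSp (F := F) m (n + 1) :=
      ⟨fun l hl => by simp [Pi.single_apply, Fin.ext_iff, a]; omega, fun l => by simp⟩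
    have hc : L (Pi.single (Sum.inl a) 1) (Sum.inl a) = 1 := by
      refine eq_one_of_ne hF fun h0 => ?_
      -- otherwise `L e_a` lies in `L` of the smaller segment
      have hb : L (Pi.single (Sum.inl a) 1) ∈ initSp (F := F) m n := hdec _ (hmap _ hn _ he) h0
      have hsurj : Set.SurjOn L (initSp (F := F) m n : Set (Fin m ⊕ Fin m → F)) (initSp (F := F) m n) := by
        have := Finite.surjective_of_injective (f := fun u : initSp (F := F) m n => (⟨L u.1, hmap n (by omega) _ u.2⟩ :
          initSp (F := F) m n)) (fun x y h => Subtype.ext (hinj (congrArg Subtype.val h)))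
        intro u hu
        obtain ⟨z, hz⟩ := this ⟨u, hu⟩
        exact ⟨z.1, z.2, congrArg Subtype.val hz⟩
      obtain ⟨u, hu, hue⟩ := hsurj hb
      have := hu.1 a le_rfl
      rw [hinj hue] at this
      simp at this
    have hsplit : v - v (Sum.inl a) • (Pi.single (Sum.inl a) 1 : Fin m ⊕ Fin m → F) ∈ initSp (F := F) m n :=
      hdec _ (sub_mem hv (Submodule.smul_mem _ _ he)) (by simp)
    have := (hmap n (by omega) _ hsplit).1 a le_rfl
    rw [map_sub, map_smul, Pi.sub_apply, Pi.smul_apply, hc, smul_eq_mul, mul_one] at this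
    simpa using this
  -- the perpendicular chain
  have hperp : ∀ n < m - 1, ∀ v : Fin m ⊕ Fin m → F, (∀ l : Fin m, l.1 < n → v (Sum.inr l) = 0) →
      ∀ l : Fin m, l.1 ≤ n → L v (Sum.inr l) = v (Sum.inr l) := by
    intro n hn v hv l hl
    have hco : ∀ u, polar Q u (Pi.single (Sum.inl l) 1) = u (Sum.inr l) := fun u => by
      simp [Q, CfsgLib.Classical.polar_qfPlus, Pi.single_apply]
    obtain ⟨z, hz⟩ : ∃ z, L z = (Pi.single (Sum.inl l) 1 : Fin m ⊕ Fin m → F) :=
      Finite.surjective_of_injective hinj _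
    have hz' : z ∈ initSp (F := F) m (l.1 + 1) := by
      have := Finite.surjective_of_injective
        (f := fun u : initSp (F := F) m (l.1 + 1) => (⟨L u.1, hmap (l.1 + 1) (by omega) _ u.2⟩ :
          initSp (F := F) m (l.1 + 1))) (fun x y h => Subtype.ext (hinj (congrArg Subtype.val h)))
      obtain ⟨z', hz''⟩ := this ⟨Pi.single (Sum.inl l) 1,
        fun i hi => by simp [Pi.single_apply, Fin.ext_iff]; omega, fun i => by simp⟩
      rw [hinj (hz.trans (congrArg Subtype.val hz'').symm)]
      exact z'.2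
    have hd := hnil l.1 (by omega) z hz'
    rw [hz] at hd
    rw [← hco (L v), ← hz, hpolar, show z = Pi.single (Sum.inl l) 1 - (Pi.single (Sum.inl l) 1 - z) by abel,
      QuadraticMap.polar_sub_right, hco]
    rw [show polar Q v (Pi.single (Sum.inl l) 1 - z) = 0 from ?_, sub_zero]
    simp only [Q, CfsgLib.Classical.polar_qfPlus]
    refine Finset.sum_eq_zero fun i _ => ?_
    rw [hd.2 i, mul_zero, zero_add]
    by_cases hi : l.1 ≤ i.1
    · rw [hd.1 i hi, zero_mul]
    · rw [hv i (by omega), mul_zero]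
  -- the middle
  let a : Fin m := ⟨m - 1, by omega⟩
  let T : Submodule F (Fin m ⊕ Fin m → F) :=
    { carrier := {v | ∀ l : Fin m, l.1 < m - 1 → v (Sum.inr l) = 0}
      zero_mem' := fun l _ => rfl
      add_mem' := fun ha hb l hl => by simp [ha l hl, hb l hl]
      smul_mem' := fun c v hv l hl => by simp [hv l hl] }
  have hT : ∀ v ∈ T, L v ∈ T := fun v hv l hl => by
    rw [hperp l.1 hl v (fun l' hl' => hv l' (by omega)) l le_rfl]; exact hv l hl
  have hmid : ∀ v ∈ T, L (L v) - v ∈ initSp (F := F) m (m - 1) := by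
    have hQT : ∀ v ∈ T, Q v = v (Sum.inl a) * v (Sum.inr a) := fun v hv => by
      simp only [Q, CfsgLib.Classical.qfPlus_apply, Cfsg.quadFormPlus]
      refine Finset.sum_eq_single a (fun l _ hl => ?_) (by simp)
      rw [hv l (by have := l.2; simp [a, Fin.ext_iff] at hl; omega), mul_zero]
    have hS : ∀ v : Fin m ⊕ Fin m → F, v ∈ T → v (Sum.inl a) = 0 → v (Sum.inr a) = 0 →
        v ∈ initSp (F := F) m (m - 1) := fun v hv h1 h2' =>
      ⟨fun l hl => by rw [show l = a from Fin.ext (by have := l.2; simp [a]; omega)]; exact h1, fun l => by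
        by_cases hl : l.1 < m - 1
        · exact hv l hl
        · rw [show l = a from Fin.ext (by have := l.2; simp [a]; omega)]; exact h2'⟩
    set e : Fin m ⊕ Fin m → F := Pi.single (Sum.inl a) 1 with he
    set f : Fin m ⊕ Fin m → F := Pi.single (Sum.inr a) 1 with hf
    have heT : e ∈ T := fun l hl => by simp [e]
    have hfT : f ∈ T := fun l hl => by simp [f, Pi.single_apply, Fin.ext_iff, a]; omega
    have key : ∀ v ∈ T, L v (Sum.inl a) = v (Sum.inl a) * L e (Sum.inl a) + v (Sum.inr a) * L f (Sum.inl a) ∧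
        L v (Sum.inr a) = v (Sum.inl a) * L e (Sum.inr a) + v (Sum.inr a) * L f (Sum.inr a) := by
      intro v hv
      have hr := hmap (m - 1) le_rfl _ (hS (v - v (Sum.inl a) • e - v (Sum.inr a) • f)
        (sub_mem (sub_mem hv (Submodule.smul_mem _ _ heT)) (Submodule.smul_mem _ _ hfT))
        (by simp [e, f]) (by simp [e, f]))
      have e1 := hr.1 a le_rfl
      have e2 := hr.2 a
      simp at e1 e2
      constructor
      · linear_combination e1
      · linear_combination e2
    have hQe : L e (Sum.inl a) * L e (Sum.inr a) = 0 := by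
      rw [← hQT _ (hT _ heT), show Q (L e) = Q e from mem_isometry m g e, hQT _ heT]; simp [e]
    have hQf : L f (Sum.inl a) * L f (Sum.inr a) = 0 := by
      rw [← hQT _ (hT _ hfT), show Q (L f) = Q f from mem_isometry m g f, hQT _ hfT]; simp [f]
    have hpol : L e (Sum.inl a) * L f (Sum.inr a) + L f (Sum.inl a) * L e (Sum.inr a) = 1 := by
      have h := hQT _ (hT _ (add_mem heT hfT))
      rw [show Q (L (e + f)) = Q (e + f) from mem_isometry m g _, hQT _ (add_mem heT hfT), map_add] at h
      simp [e, f] at h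
      linear_combination -h - hQe - hQf
    have hcase : (L e (Sum.inl a) = 1 ∧ L e (Sum.inr a) = 0 ∧ L f (Sum.inl a) = 0 ∧ L f (Sum.inr a) = 1) ∨
        (L e (Sum.inl a) = 0 ∧ L e (Sum.inr a) = 1 ∧ L f (Sum.inl a) = 1 ∧ L f (Sum.inr a) = 0) := by
      rcases eq_zero_or_one hF (L e (Sum.inl a)) with hx | hx <;> rw [hx] at hQe hpol
      · rw [zero_mul, zero_add] at hpol
        have hy := eq_one_of_ne hF (right_ne_zero_of_mul_eq_one hpol)
        have hz := eq_one_of_ne hF (left_ne_zero_of_mul_eq_one hpol)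
        rw [hz, one_mul] at hQf
        exact Or.inr ⟨hx, hy, hz, hQf⟩
      · rw [one_mul] at hQe
        rw [hQe, mul_zero, add_zero, one_mul] at hpol
        rw [hpol, mul_one] at hQf
        exact Or.inl ⟨hx, hQe, hQf, hpol⟩
    intro v hv
    refine hS _ (sub_mem (hT _ (hT _ hv)) hv) ?_ ?_ <;>
    · rcases hcase with ⟨hx, hy, hz, hw⟩ | ⟨hx, hy, hz, hw⟩ <;>
      simp only [Pi.sub_apply, (key _ (hT _ hv)).1, (key _ (hT _ hv)).2, (key v hv).1, (key v hv).2,
        hx, hy, hz, hw, mul_one, mul_zero, add_zero, zero_add, sub_self]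
  -- nilpotency of `L² - 1`
  set U : Module.End F (Fin m ⊕ Fin m → F) := L * L - 1 with hU
  have hUv : ∀ v, U v = L (L v) - v := fun v => rfl
  have hdown : ∀ n v, v ∈ T → n ≤ m - 1 → (U ^ (n + 1)) v ∈ initSp (F := F) m (m - 1 - n) := by
    intro n v hv
    induction n with
    | zero => intro _; simpa [hUv] using hmid v hv
    | succ n ih =>
      intro hn
      have h := ih (by omega)
      rw [show m - 1 - n = m - 1 - (n + 1) + 1 by omega] at h
      rw [pow_succ', Module.End.mul_apply, hUv]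
      generalize (U ^ (n + 1)) v = u at h ⊢
      have h1 := hnil _ (by omega) u h
      have h2' := hmap (m - 1 - (n + 1)) (by omega) _ h1
      rw [show L (L u) - u = L (L u - u) + (L u - u) by rw [map_sub]; abel]
      exact add_mem h2' h1
  have hup : ∀ n v, n ≤ m - 1 → ∀ l : Fin m, l.1 < n → (U ^ n) v (Sum.inr l) = 0 := by
    intro n v
    induction n with
    | zero => intro _ l hl; exact absurd hl (Nat.not_lt_zero _)
    | succ n ih =>
      intro hn l hl
      rw [pow_succ', Module.End.mul_apply, hUv, Pi.sub_apply]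
      have hi := ih (by omega)
      generalize (U ^ n) v = u at hi ⊢
      have h1 := hperp n (by omega) u hi
      have hLu : ∀ l : Fin m, l.1 < n → L u (Sum.inr l) = 0 := fun l hl => by
        rw [h1 l hl.le]; exact hi l hl
      rw [hperp n (by omega) (L u) hLu l (by omega), h1 l (by omega), sub_self]
  have hzero : U ^ ((m - 1) + (m - 1 + 1)) = 0 := by
    refine LinearMap.ext fun v => ?_
    rw [add_comm, pow_add, Module.End.mul_apply]
    have h1 : (U ^ (m - 1)) v ∈ T := hup (m - 1) v le_rfl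
    have h3 := hdown (m - 1) _ h1 le_rfl
    rw [Nat.sub_self] at h3
    funext i
    rcases i with i | i
    · exact h3.1 i (Nat.zero_le _)
    · exact h3.2 i
  obtain ⟨K, hK⟩ : ∃ K, (m - 1) + (m - 1 + 1) ≤ 2 ^ K := ⟨_, Nat.lt_two_pow_self.le⟩
  haveI : Nonempty (Fin m ⊕ Fin m) := ⟨Sum.inl a⟩
  haveI : CharP (Module.End F (Fin m ⊕ Fin m → F)) 2 := by
    refine CharTwo.of_one_ne_zero_of_two_eq_zero one_ne_zero (LinearMap.ext fun v => funext fun i => ?_)
    rw [← one_add_one_eq_two, LinearMap.add_apply, Module.End.one_apply, Pi.add_apply,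
      LinearMap.zero_apply, Pi.zero_apply]
    linear_combination (v i) * h2
  have hLL : (L * L) ^ 2 ^ K = 1 := by
    have h := sub_pow_char_pow_of_commute (p := 2) (n := K) (Commute.one_right (L * L))
    rw [← hU, pow_eq_zero_of_le hK hzero, one_pow] at h
    exact sub_eq_zero.1 h.symm
  refine ⟨K + 1, ?_⟩
  apply Subtype.ext
  rw [Subgroup.coe_pow, Subgroup.coe_one]
  refine Subtype.ext (Units.ext ?_)
  rw [SubmonoidClass.coe_pow, Units.val_pow_eq_pow_val, OneMemClass.coe_one, Units.val_one]
  refine (Matrix.toLinAlgEquiv' (R := F)).injective ?_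
  rw [map_pow, map_one, pow_succ', pow_mul, sq]
  exact hLL

include hF in
theorem sylow_meet_plus (hm : 2 ≤ m) (H : Sylow 2 (Cfsg.isometryGroup F (Cfsg.quadFormPlus m F)))
    (x : Cfsg.isometryGroup F (Cfsg.quadFormPlus m F)) :
    (H : Subgroup (Cfsg.isometryGroup F (Cfsg.quadFormPlus m F))) ⊓ MulAut.conj x • (H : Subgroup (Cfsg.isometryGroup F (Cfsg.quadFormPlus m F))) ≠ ⊥ := by
  haveI : Fact (Nat.Prime 2) := ⟨Nat.prime_two⟩
  refine sylow_meet (flagStab m) (isPGroup_flagStab hF m (by omega)) (fun a b => ?_) H x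
  let Q := CfsgLib.Classical.qfPlus m F
  have hflag : ∀ c : Cfsg.isometryGroup F (Cfsg.quadFormPlus m F),
      IsFlag Q (fun i => Matrix.toLin' (c.1 : Matrix (Fin m ⊕ Fin m) (Fin m ⊕ Fin m) F) (stdW (F := F) m i)) := by
    intro c
    refine ⟨fun i => ?_, fun i j => ?_, fun i h => ?_⟩
    · rw [mem_isometry]; exact (isFlag_stdW m).sing i
    · simp only [QuadraticMap.polar, ← map_add, Q, mem_isometry]; exact (isFlag_stdW m).orth i j
    · refine (isFlag_stdW (F := F) m).indep i ?_
      rw [← Set.image_image, Submodule.span_image] at h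
      obtain ⟨u, hu, hue⟩ := h
      have hinj : Function.Injective (Matrix.toLin' (c.1 : Matrix (Fin m ⊕ Fin m) (Fin m ⊕ Fin m) F)) := fun x y h => by
        have h' := congrArg (Matrix.toLin' ((c.1⁻¹ : GL (Fin m ⊕ Fin m) F) : Matrix (Fin m ⊕ Fin m) (Fin m ⊕ Fin m) F)) h
        simpa [Matrix.mulVec_mulVec, ← Units.val_mul] using h'
      rwa [← hinj hue]
  have hdim : 2 * (m - 1) + 2 ≤ Module.finrank F (Fin m ⊕ Fin m → F) := by
    rw [Module.finrank_fintype_fun_eq_card, Fintype.card_sum, Fintype.card_fin]; omega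
  obtain ⟨g, hg, hne, hfa, hfb⟩ := exists_common hF (m - 1) Q (CfsgLib.Classical.qfPlus_sep m) hdim _ _
    (hflag a) (hflag b)
  let M : GL (Fin m ⊕ Fin m) F :=
    ⟨LinearMap.toMatrix' (g : _ →ₗ[F] _), LinearMap.toMatrix' (g.symm : _ →ₗ[F] _),
      by rw [← LinearMap.toMatrix'_comp]; simp, by rw [← LinearMap.toMatrix'_comp]; simp⟩
  have hM : Matrix.toLin' (M : Matrix (Fin m ⊕ Fin m) (Fin m ⊕ Fin m) F) = (g : _ →ₗ[F] _) :=
    Matrix.toLin'_toMatrix' _
  have hmem : M ∈ Cfsg.isometryGroup F (Cfsg.quadFormPlus m F) := fun u _ => by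
    show Cfsg.quadFormPlus m F ((M : Matrix (Fin m ⊕ Fin m) (Fin m ⊕ Fin m) F).mulVec u) = Cfsg.quadFormPlus m F u
    rw [← Matrix.toLin'_apply, hM, ← CfsgLib.Classical.qfPlus_apply, ← CfsgLib.Classical.qfPlus_apply]
    exact hg u
  have back : ∀ c : Cfsg.isometryGroup F (Cfsg.quadFormPlus m F),
      FixesFlag (g : _ →ₗ[F] _) (fun i => Matrix.toLin' (c.1 : Matrix (Fin m ⊕ Fin m) (Fin m ⊕ Fin m) F) (stdW (F := F) m i)) →
      c⁻¹ * ⟨M, hmem⟩ * c ∈ flagStab m := by
    intro c hc i
    rw [Subgroup.coe_mul, Units.val_mul, Matrix.toLin'_mul, Subgroup.coe_mul, Units.val_mul,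
      Matrix.toLin'_mul, hM]
    refine (Submodule.span_le (p := (Submodule.span F (stdW (F := F) m '' Set.Iic i)).comap
      (Matrix.toLin' ((c⁻¹ : Cfsg.isometryGroup F (Cfsg.quadFormPlus m F)).1 : Matrix (Fin m ⊕ Fin m) (Fin m ⊕ Fin m) F)))).2 ?_ (hc i)
    rintro _ ⟨j, hj, rfl⟩
    rw [SetLike.mem_coe, Submodule.mem_comap]
    rw [← LinearMap.comp_apply, ← Matrix.toLin'_mul, ← Units.val_mul, Subgroup.coe_inv, inv_mul_cancel,
      Units.val_one, Matrix.toLin'_one, LinearMap.id_apply]
    exact mem_span_self _ hj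
  refine ⟨⟨M, hmem⟩, fun h1 => hne ?_, back a hfa, back b hfb⟩
  rw [← hM, show M = 1 from congrArg Subtype.val h1, Units.val_one, Matrix.toLin'_one]

end Plus

end CfsgLib.KnownB.FlagMeet
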