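import Mathlib

/-!
Upper triangular subgroup of `SL(n, 2)`: two conjugates either meet non-trivially or belong to opposite flags, the
latter forming one orbit; consequently two Sylow 2-subgroups of an extension of degree two meet non-trivially.
-/

set_option autoImplicit false

namespace CfsgLib.KnownB.FlagMeetSL

open Matrix
open scoped Pointwise

local notation "𝔽" => ZMod 2

theorem zmod_two_eq_one {x : ZMod 2} (h : x ≠ 0) : x = 1 := by
  revert h; revert x; decide

variable (n : ℕ)

/-- Vectors supported on the first `a` coordinates. -/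
def init (a : ℕ) : Submodule 𝔽 (Fin n → 𝔽) where
  carrier := {v | ∀ j : Fin n, a ≤ j.1 → v j = 0}
  zero_mem' := fun _ _ => rfl
  add_mem' := fun ha hb j hj => by simp [ha j hj, hb j hj]
  smul_mem' := fun c v hv j hj => by simp [hv j hj]

theorem init_mono {a b : ℕ} (h : a ≤ b) : init n a ≤ init n b := fun _ hv j hj => hv j (h.trans hj)

theorem init_top {a : ℕ} (h : n ≤ a) : init n a = ⊤ :=
  eq_top_iff.2 fun _ _ j hj => absurd j.2 (by omega)

theorem finrank_init {a : ℕ} (h : a ≤ n) : Module.finrank 𝔽 (init n a) = a := by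
  let e : init n a ≃ₗ[𝔽] (Fin a → 𝔽) :=
    { toFun := fun v i => v.1 ⟨i.1, by omega⟩
      map_add' := fun _ _ => rfl
      map_smul' := fun _ _ => rfl
      invFun := fun w => ⟨fun j => if hj : j.1 < a then w ⟨j.1, hj⟩ else 0, fun j hj => dif_neg (by omega)⟩
      left_inv := fun v => Subtype.ext (funext fun j => by
        by_cases hj : j.1 < a
        · exact dif_pos hj
        · exact (dif_neg hj).trans (v.2 j (by omega)).symm)
      right_inv := fun w => funext fun i => dif_pos i.2 }
  rw [e.finrank_eq, Module.finrank_fintype_fun_eq_card, Fintype.card_fin]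

/-- The linear map of a matrix in `SL`. -/
noncomputable def ap (g : SpecialLinearGroup (Fin n) 𝔽) : (Fin n → 𝔽) →ₗ[𝔽] (Fin n → 𝔽) :=
  Matrix.toLin' (g : Matrix (Fin n) (Fin n) 𝔽)

theorem ap_mul (g h : SpecialLinearGroup (Fin n) 𝔽) (v : Fin n → 𝔽) :
    ap n (g * h) v = ap n g (ap n h v) := by
  simp [ap, Matrix.mulVec_mulVec]

theorem ap_one (v : Fin n → 𝔽) : ap n 1 v = v := by simp [ap]

theorem ap_inj (g : SpecialLinearGroup (Fin n) 𝔽) : Function.Injective (ap n g) := fun x y h => by
  have h' := congrArg (ap n g⁻¹) h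
  rwa [← ap_mul, ← ap_mul, inv_mul_cancel, ap_one, ap_one] at h'

theorem ap_ext {g h : SpecialLinearGroup (Fin n) 𝔽} (e : ∀ v, ap n g v = ap n h v) : g = h :=
  Subtype.ext (Matrix.toLin'.injective (LinearMap.ext e))

/-- `g` stabilises the standard flag. -/
def Fix (g : SpecialLinearGroup (Fin n) 𝔽) : Prop := ∀ a, ∀ v ∈ init n a, ap n g v ∈ init n a

theorem fix_mul {g h : SpecialLinearGroup (Fin n) 𝔽} (hg : Fix n g) (hh : Fix n h) : Fix n (g * h) :=
  fun a v hv => by rw [ap_mul]; exact hg a _ (hh a v hv)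

theorem fix_inv {g : SpecialLinearGroup (Fin n) 𝔽} (hg : Fix n g) : Fix n g⁻¹ := by
  intro a v hv
  obtain ⟨w, hw⟩ := Finite.surjective_of_injective
    (f := fun u : init n a => (⟨ap n g u.1, hg a _ u.2⟩ : init n a))
    (fun x y h => Subtype.ext (ap_inj n g (congrArg Subtype.val h))) ⟨v, hv⟩
  have hw' : ap n g w.1 = v := congrArg Subtype.val hw
  rw [← hw', ← ap_mul, inv_mul_cancel, ap_one]
  exact w.2

/-- The stabiliser of the standard flag. -/
def U : Subgroup (SpecialLinearGroup (Fin n) 𝔽) where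
  carrier := {g | Fix n g}
  one_mem' := fun a v hv => by rw [ap_one]; exact hv
  mul_mem' {_ _} hg hh := fix_mul n hg hh
  inv_mem' {_} hg := fix_inv n hg

theorem mem_U {g : SpecialLinearGroup (Fin n) 𝔽} : g ∈ U n ↔ Fix n g := Iff.rfl

theorem isPGroup_U : IsPGroup 2 (U n) := by
  rintro ⟨g, hg⟩
  set L : Module.End 𝔽 (Fin n → 𝔽) := ap n g with hL
  have hfix : Fix n g := hg
  have hdown : ∀ a, ∀ v ∈ init n (a + 1), L v - v ∈ init n a := by
    intro a v hv
    rcases Nat.lt_or_ge a n with ha | ha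
    · let j : Fin n := ⟨a, ha⟩
      have hdec : ∀ u ∈ init n (a + 1), u j = 0 → u ∈ init n a := fun u hu h0 l hl => by
        rcases Nat.eq_or_lt_of_le hl with h | h
        · rw [show l = j from Fin.ext h.symm]; exact h0
        · exact hu l h
      refine hdec _ (sub_mem (hfix _ v hv) hv) ?_
      have he : (Pi.single j 1 : Fin n → 𝔽) ∈ init n (a + 1) :=
        fun l hl => by simp [Pi.single_apply, Fin.ext_iff, j]; omega
      have hc : L (Pi.single j 1) j = 1 := by
        refine zmod_two_eq_one fun h0 => ?_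
        have hb : L (Pi.single j 1) ∈ init n a := hdec _ (hfix _ _ he) h0
        have hb' : ap n g⁻¹ (L (Pi.single j 1)) ∈ init n a := fix_inv n hfix a _ hb
        rw [hL, ← ap_mul, inv_mul_cancel, ap_one] at hb'
        have := hb' j le_rfl
        simp at this
      have hsplit : v - v j • (Pi.single j 1 : Fin n → 𝔽) ∈ init n a :=
        hdec _ (sub_mem hv (Submodule.smul_mem _ _ he)) (by simp)
      have := hfix a _ hsplit j le_rfl
      rw [← hL, map_sub, map_smul, Pi.sub_apply, Pi.smul_apply, hc, smul_eq_mul, mul_one] at this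
      simpa using this
    · rw [init_top n ha]; trivial
  have hpow : ∀ k, k ≤ n → ∀ v, ((L - 1) ^ k) v ∈ init n (n - k) := by
    intro k hk v
    induction k with
    | zero => rw [init_top n (by omega)]; trivial
    | succ k ih =>
      have h := ih (by omega)
      rw [show n - k = n - (k + 1) + 1 by omega] at h
      rw [pow_succ', Module.End.mul_apply]
      exact hdown _ _ h
  have hzero : (L - 1) ^ n = 0 := LinearMap.ext fun v => funext fun j => hpow n le_rfl v j (by omega)
  obtain ⟨K, hK⟩ : ∃ K, n ≤ 2 ^ K := ⟨n, Nat.lt_two_pow_self.le⟩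
  refine ⟨K, Subtype.ext (ap_ext n fun v => ?_)⟩
  rw [Subgroup.coe_pow, Subgroup.coe_one, ap_one]
  have hLK : ap n (g ^ 2 ^ K) = L ^ 2 ^ K := by
    have hk : ∀ k : ℕ, ap n (g ^ k) = L ^ k := by
      intro k
      induction k with
      | zero =>
        refine LinearMap.ext fun w => ?_
        rw [pow_zero, pow_zero, ap_one]
        rfl
      | succ k ih =>
        refine LinearMap.ext fun w => ?_
        rw [pow_succ, pow_succ, ap_mul, Module.End.mul_apply, ih]
    exact hk _
  rcases Nat.eq_zero_or_pos n with hn | hn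
  · funext j; exact absurd j.2 (by omega)
  haveI : Nonempty (Fin n) := ⟨⟨0, hn⟩⟩
  haveI : CharP (Module.End 𝔽 (Fin n → 𝔽)) 2 := by
    refine CharTwo.of_one_ne_zero_of_two_eq_zero one_ne_zero (LinearMap.ext fun w => funext fun i => ?_)
    simp [← one_add_one_eq_two (R := Module.End 𝔽 (Fin n → 𝔽)), CharTwo.add_self_eq_zero]
  have h := sub_pow_char_pow_of_commute (p := 2) (n := K) (Commute.one_right L)
  rw [pow_eq_zero_of_le hK hzero, one_pow] at h
  rw [hLK, sub_eq_zero.1 h.symm, Module.End.one_apply]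

/-- The transvection `v ↦ v + v c • e b`. -/
noncomputable def elem (b c : Fin n) (h : b ≠ c) : SpecialLinearGroup (Fin n) 𝔽 :=
  ⟨Matrix.transvection b c 1, Matrix.det_transvection_of_ne b c h 1⟩

theorem ap_elem (b c : Fin n) (h : b ≠ c) (v : Fin n → 𝔽) :
    ap n (elem n b c h) v = v + v c • Pi.single b 1 := by
  show (Matrix.toLin' (Matrix.transvection b c (1 : 𝔽))) v = _
  funext i
  simp [Matrix.transvection, Matrix.add_mulVec, Matrix.single_mulVec, Function.update_apply, Pi.single_apply,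
    mul_comm]

theorem elem_mem {b c : Fin n} (h : b < c) : elem n b c h.ne ∈ U n := by
  intro a v hv
  rw [ap_elem]
  by_cases hc : a ≤ c.1
  · rw [hv c hc, zero_smul, add_zero]; exact hv
  · refine add_mem hv (Submodule.smul_mem _ _ fun l hl => ?_)
    have : b.1 < c.1 := h
    simp [Pi.single_apply, Fin.ext_iff]
    omega

/-- Subspaces invariant under `U` are the standard ones. -/
theorem invariant_eq_init (X : Submodule 𝔽 (Fin n → 𝔽)) (hX : ∀ u ∈ U n, ∀ v ∈ X, ap n u v ∈ X) :
    ∃ a ≤ n, X = init n a := by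
  classical
  have hex : ∃ a, X ≤ init n a := ⟨n, by rw [init_top n le_rfl]; exact le_top⟩
  refine ⟨Nat.find hex, Nat.find_min' hex (by rw [init_top n le_rfl]; exact le_top), ?_⟩
  refine le_antisymm (Nat.find_spec hex) ?_
  rcases Nat.eq_zero_or_pos (Nat.find hex) with h0 | h0
  · rw [h0]
    intro v hv
    rw [show v = 0 from funext fun j => hv j (Nat.zero_le _)]
    exact zero_mem _
  · set a := Nat.find hex with ha
    have han : a ≤ n := Nat.find_min' hex (by rw [init_top n le_rfl]; exact le_top)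
    have hnot : ¬ X ≤ init n (a - 1) := Nat.find_min hex (by omega)
    obtain ⟨x, hx, hxn⟩ := SetLike.not_le_iff_exists.1 hnot
    let c : Fin n := ⟨a - 1, by omega⟩
    have hxa : x ∈ init n a := Nat.find_spec hex hx
    have hxc : x c = 1 := zmod_two_eq_one fun h => hxn fun l hl => by
      rcases Nat.eq_or_lt_of_le hl with h' | h'
      · rw [show l = c from Fin.ext h'.symm]; exact h
      · exact hxa l (by omega)
    have hlow : ∀ b : Fin n, b < c → (Pi.single b 1 : Fin n → 𝔽) ∈ X := fun b hb => by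
      have h1 := hX _ (elem_mem n hb) x hx
      rw [ap_elem, hxc, one_smul] at h1
      simpa using sub_mem h1 hx
    have hsingle : ∀ b : Fin n, b.1 < a → (Pi.single b 1 : Fin n → 𝔽) ∈ X := by
      intro b hb
      rcases Nat.lt_or_ge b.1 (a - 1) with h | h
      · exact hlow b h
      · have hsum : x = ∑ l, x l • (Pi.single l 1 : Fin n → 𝔽) := by
          funext l; simp [Pi.single_apply]
        rw [← Finset.add_sum_erase _ _ (Finset.mem_univ c), hxc, one_smul] at hsum
        rw [show b = c from Fin.ext (show b.1 = a - 1 by omega)]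
        have hrest : ∑ l ∈ Finset.univ.erase c, x l • (Pi.single l 1 : Fin n → 𝔽) ∈ X := by
          refine Submodule.sum_mem _ fun l hl => ?_
          by_cases hla : a ≤ l.1
          · rw [hxa l hla, zero_smul]; exact zero_mem _
          · exact Submodule.smul_mem _ _ (hlow l (by
              have := (Finset.mem_erase.1 hl).1
              simp [Fin.ext_iff, c] at this
              show l.1 < a - 1; omega))
        have := sub_mem hx hrest
        rwa [eq_sub_iff_add_eq.2 hsum.symm]
    intro v hv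
    rw [show v = ∑ l, v l • (Pi.single l 1 : Fin n → 𝔽) by funext l; simp [Pi.single_apply]]
    refine Submodule.sum_mem _ fun l _ => ?_
    by_cases hla : a ≤ l.1
    · rw [hv l hla, zero_smul]; exact zero_mem _
    · exact Submodule.smul_mem _ _ (hsingle l (by omega))

/-- `U` is self-normalising. -/
theorem mem_U_of_normalizes {g : SpecialLinearGroup (Fin n) 𝔽} (hg : ∀ u ∈ U n, g⁻¹ * u * g ∈ U n) :
    g ∈ U n := by
  have hX : ∀ a : Fin (n + 1), ∃ b : Fin (n + 1), (init n a.1).map (ap n g) = init n b.1 := fun a => by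
    obtain ⟨b, hb, h⟩ := invariant_eq_init n ((init n a.1).map (ap n g)) (fun u hu v hv => by
      obtain ⟨w, hw, rfl⟩ := hv
      refine ⟨ap n (g⁻¹ * u * g) w, hg u hu a.1 w hw, ?_⟩
      rw [← ap_mul, ← ap_mul]
      congr 2
      group)
    exact ⟨⟨b, by omega⟩, h⟩
  choose f hf using hX
  have hfr : ∀ a : Fin (n + 1), (f a).1 = a.1 := fun a => by
    have h := LinearEquiv.finrank_eq (Submodule.equivMapOfInjective (ap n g) (ap_inj n g) (init n a.1))
    rw [hf a, finrank_init n (by omega), finrank_init n (by omega)] at h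
    exact h.symm
  intro a v hv
  rcases Nat.lt_or_ge n a with h | h
  · rw [init_top n h.le]; trivial
  · have := hf ⟨a, by omega⟩
    rw [hfr] at this
    exact this ▸ Submodule.mem_map_of_mem hv

/-- The flags of `1` and `g` are opposite. -/
def Opp (g : SpecialLinearGroup (Fin n) 𝔽) : Prop :=
  ∀ a b, a + b ≤ n → ∀ v, v ∈ init n a → ap n g⁻¹ v ∈ init n b → v = 0

theorem meet_of_not_opp {g : SpecialLinearGroup (Fin n) 𝔽} (h : ¬ Opp n g) :
    ∃ y, y ≠ 1 ∧ y ∈ U n ∧ g⁻¹ * y * g ∈ U n := by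
  classical
  unfold Opp at h
  push Not at h
  obtain ⟨a, b, hab, v, hva, hvb, hv⟩ := h
  have ha : 1 ≤ a := Nat.pos_of_ne_zero fun h0 => hv (funext fun j => hva j (by omega))
  have hb : 1 ≤ b := Nat.pos_of_ne_zero fun h0 => hv (ap_inj n g⁻¹ (by
    rw [map_zero]; exact funext fun j => hvb j (by omega)))
  set K : Submodule 𝔽 (Fin n → 𝔽) := (init n (a - 1) ⊔ (init n (b - 1)).map (ap n g)) ⊔ Submodule.span 𝔽 {v}
    with hK
  have hlt : Module.finrank 𝔽 K < Module.finrank 𝔽 (Fin n → 𝔽) := by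
    have h1 := Submodule.finrank_add_le_finrank_add_finrank (init n (a - 1) ⊔ (init n (b - 1)).map (ap n g))
      (Submodule.span 𝔽 {v})
    have h2 := Submodule.finrank_add_le_finrank_add_finrank (init n (a - 1)) ((init n (b - 1)).map (ap n g))
    have h3 := Submodule.finrank_map_le (ap n g) (init n (b - 1))
    rw [finrank_init n (by omega)] at h3
    rw [finrank_init n (by omega)] at h2
    rw [finrank_span_singleton hv, ← hK] at h1
    rw [Module.finrank_fintype_fun_eq_card, Fintype.card_fin]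
    omega
  obtain ⟨φ, hφ, hKφ⟩ := Submodule.exists_le_ker_of_lt_top K (lt_top_iff_ne_top.2 fun h => by
    rw [h, finrank_top] at hlt; exact lt_irrefl _ hlt)
  have hφv : φ v = 0 :=
    hKφ (Submodule.mem_sup_right (Submodule.mem_span_singleton_self v))
  let M : Matrix (Fin n) (Fin n) 𝔽 := LinearMap.toMatrix' (LinearMap.id + φ.smulRight v)
  have hM : ∀ w, Matrix.toLin' M w = w + φ w • v := fun w => by simp [M, Matrix.toLin'_toMatrix']
  have hMM : M * M = 1 := Matrix.toLin'.injective (LinearMap.ext fun w => by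
    rw [Matrix.toLin'_mul, LinearMap.comp_apply, hM, hM, Matrix.toLin'_one, LinearMap.id_apply, map_add,
      map_smul, hφv, smul_zero, add_zero, add_assoc, ← add_smul, CharTwo.add_self_eq_zero, zero_smul, add_zero])
  have hdet : M.det = 1 := zmod_two_eq_one fun h0 => by
    have := congrArg Matrix.det hMM
    rw [Matrix.det_mul, h0, zero_mul, Matrix.det_one] at this
    exact zero_ne_one this
  let y : SpecialLinearGroup (Fin n) 𝔽 := ⟨M, hdet⟩
  have hy : ∀ w, ap n y w = w + φ w • v := hM
  refine ⟨y, fun h1 => ?_, fun c w hw => ?_, fun c w hw => ?_⟩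
  · obtain ⟨w, hw⟩ : ∃ w, φ w ≠ 0 := by
      by_contra hno
      push Not at hno
      exact hφ (LinearMap.ext hno)
    have := hy w
    rw [h1, ap_one, zmod_two_eq_one hw, one_smul, left_eq_add] at this
    exact hv this
  · rw [hy]
    by_cases hca : a ≤ c
    · exact add_mem hw (Submodule.smul_mem _ _ (init_mono n hca hva))
    · rw [show φ w = 0 from hKφ (Submodule.mem_sup_left (Submodule.mem_sup_left
        (init_mono n (by omega) hw))), zero_smul, add_zero]
      exact hw
  · rw [ap_mul, ap_mul, hy, map_add, map_smul, ← ap_mul n g⁻¹ g w, inv_mul_cancel, ap_one]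
    by_cases hcb : b ≤ c
    · exact add_mem hw (Submodule.smul_mem _ _ (init_mono n hcb hvb))
    · rw [show φ (ap n g w) = 0 from hKφ (Submodule.mem_sup_left (Submodule.mem_sup_right
        (Submodule.mem_map_of_mem (init_mono n (by omega) hw)))), zero_smul, add_zero]
      exact hw

/-- An element of `U` putting the frame of an opposite flag in place. -/
theorem exists_frame {g : SpecialLinearGroup (Fin n) 𝔽} (h : Opp n g) :
    ∃ u ∈ U n, ∀ j : Fin n, ap n (g⁻¹ * u) (Pi.single j 1) ∈ init n (n - j.1) := by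
  classical
  have hv : ∀ j : Fin n, ∃ v, v ∈ init n (j.1 + 1) ∧ ap n g⁻¹ v ∈ init n (n - j.1) ∧ v j = 1 := by
    intro j
    have hj := j.2
    obtain ⟨v, hv, hv0⟩ : ∃ v ∈ init n (j.1 + 1) ⊓ (init n (n - j.1)).map (ap n g), v ≠ 0 := by
      refine Submodule.exists_mem_ne_zero_of_ne_bot fun hbot => ?_
      have h1 := Submodule.finrank_sup_add_finrank_inf_eq (init n (j.1 + 1)) ((init n (n - j.1)).map (ap n g))
      have h2 := LinearEquiv.finrank_eq
        (Submodule.equivMapOfInjective (ap n g) (ap_inj n g) (init n (n - j.1)))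
      have h3 := Submodule.finrank_le (init n (j.1 + 1) ⊔ (init n (n - j.1)).map (ap n g))
      rw [Module.finrank_fintype_fun_eq_card, Fintype.card_fin] at h3
      rw [hbot, finrank_bot, ← h2, finrank_init n (by omega), finrank_init n (by omega)] at h1
      omega
    obtain ⟨hva, w, hw, rfl⟩ := Submodule.mem_inf.1 hv
    have hw' : ap n g⁻¹ (ap n g w) ∈ init n (n - j.1) := by
      rw [← ap_mul, inv_mul_cancel, ap_one]; exact hw
    refine ⟨ap n g w, hva, hw', zmod_two_eq_one fun h0 => hv0 ?_⟩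
    refine h j.1 (n - j.1) (by omega) _ (fun l hl => ?_) hw'
    rcases Nat.eq_or_lt_of_le hl with h' | h'
    · rw [show l = j from Fin.ext h'.symm]; exact h0
    · exact hva l h'
  choose v hv1 hv2 hv3 using hv
  let M : Matrix (Fin n) (Fin n) 𝔽 := Matrix.of fun i j => v j i
  have htri : M.BlockTriangular id := fun i j hij => hv1 j i hij
  have hdet : M.det = 1 := by
    rw [Matrix.det_of_upperTriangular htri]
    exact Finset.prod_eq_one fun i _ => hv3 i
  have hcol : ∀ j, ap n ⟨M, hdet⟩ (Pi.single j 1) = v j := fun j => by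
    show Matrix.toLin' M (Pi.single j 1) = _
    funext i; simp [M]
  let uM : SpecialLinearGroup (Fin n) 𝔽 := ⟨M, hdet⟩
  refine ⟨uM, fun a w hw => ?_, fun j => by rw [ap_mul]; exact (hcol j).symm ▸ hv2 j⟩
  rw [show w = ∑ l, w l • (Pi.single l 1 : Fin n → 𝔽) by funext l; simp [Pi.single_apply], map_sum]
  refine Submodule.sum_mem _ fun l _ => ?_
  rw [map_smul, hcol]
  by_cases hla : a ≤ l.1
  · rw [hw l hla, zero_smul]; exact zero_mem _
  · exact Submodule.smul_mem _ _ (init_mono n (by omega) (hv1 l))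

/-- The opposite flags form one orbit of `U`. -/
theorem exists_conj_of_opp {g g' : SpecialLinearGroup (Fin n) 𝔽} (h : Opp n g) (h' : Opp n g') :
    ∃ u ∈ U n, g'⁻¹ * u * g ∈ U n := by
  classical
  obtain ⟨u, hu, hP⟩ := exists_frame n h
  obtain ⟨u', hu', hP'⟩ := exists_frame n h'
  refine ⟨u' * u⁻¹, (U n).mul_mem hu' ((U n).inv_mem hu), fun a x hx => ?_⟩
  rcases Nat.lt_or_ge n a with hna | hna
  · rw [init_top n hna.le]; trivial
  -- vectors supported from `n - a` on
  let R : Submodule 𝔽 (Fin n → 𝔽) :=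
    { carrier := {w | ∀ l : Fin n, l.1 < n - a → w l = 0}
      zero_mem' := fun _ _ => rfl
      add_mem' := fun ha hb l hl => by simp [ha l hl, hb l hl]
      smul_mem' := fun c w hw l hl => by simp [hw l hl] }
  have hmaps : ∀ t : SpecialLinearGroup (Fin n) 𝔽, (∀ j : Fin n, ap n t (Pi.single j 1) ∈ init n (n - j.1)) →
      ∀ w ∈ R, ap n t w ∈ init n a := by
    intro t ht w hw
    rw [show w = ∑ l, w l • (Pi.single l 1 : Fin n → 𝔽) by funext l; simp [Pi.single_apply], map_sum]
    refine Submodule.sum_mem _ fun l _ => ?_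
    rw [map_smul]
    by_cases hl : l.1 < n - a
    · rw [hw l hl, zero_smul]; exact zero_mem _
    · exact Submodule.smul_mem _ _ (init_mono n (by omega) (ht l))
  let e : R ≃ init n a :=
    { toFun := fun w => ⟨fun l => w.1 l.rev, fun l hl => w.2 _ (by rw [Fin.val_rev]; omega)⟩
      invFun := fun w => ⟨fun l => w.1 l.rev, fun l hl => w.2 _ (by rw [Fin.val_rev]; omega)⟩
      left_inv := fun w => Subtype.ext (funext fun l => by simp)
      right_inv := fun w => Subtype.ext (funext fun l => by simp) }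
  have hinj : Function.Injective (fun w : R => (⟨ap n (g⁻¹ * u) w.1, hmaps _ hP _ w.2⟩ : init n a)) :=
    fun x y h => Subtype.ext (ap_inj n _ (congrArg Subtype.val h))
  obtain ⟨w, hw⟩ := (hinj.bijective_of_nat_card_le (le_of_eq (Nat.card_congr e).symm)).2 ⟨x, hx⟩
  have hw' : ap n (g⁻¹ * u) w.1 = x := congrArg Subtype.val hw
  rw [← hw', ← ap_mul, show g'⁻¹ * (u' * u⁻¹) * g * (g⁻¹ * u) = g'⁻¹ * u' by group]
  exact hmaps _ hP' _ w.2

/-- Two Sylow 2-subgroups of an extension of degree two meet non-trivially. -/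
theorem sylow_meet {G : Type*} [Group G] [Finite G] (N : Subgroup G) [N.Normal]
    (e : N ≃* SpecialLinearGroup (Fin n) 𝔽) (hidx : N.index = 2) (H : Sylow 2 G) (x : G) :
    (H : Subgroup G) ⊓ MulAut.conj x • (H : Subgroup G) ≠ ⊥ := by
  haveI : Fact (Nat.Prime 2) := ⟨Nat.prime_two⟩
  let ι : SpecialLinearGroup (Fin n) 𝔽 →* G := N.subtype.comp e.symm.toMonoidHom
  have hι : Function.Injective ι := N.subtype_injective.comp e.symm.injective
  have hιN : ∀ s, ι s ∈ N := fun s => (e.symm s).2
  have hsurj : ∀ z ∈ N, ∃ s, ι s = z := fun z hz => ⟨e ⟨z, hz⟩, by simp [ι]⟩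
  obtain ⟨H₀, hH₀⟩ := ((isPGroup_U n).map ι).exists_le_sylow
  have hUH : ∀ u ∈ U n, ι u ∈ (H₀ : Subgroup G) := fun u hu => hH₀ (Subgroup.mem_map_of_mem ι hu)
  -- `H₀ ∩ N` is `U`
  have hHU : ∀ s, ι s ∈ (H₀ : Subgroup G) → s ∈ U n := by
    have hp : IsPGroup 2 ((H₀ : Subgroup G).comap ι) := H₀.2.comap_of_injective ι hι
    obtain ⟨P, hP⟩ := hp.exists_le_sylow
    have hUP : U n ≤ P := fun u hu => hP (hUH u hu)
    have hPU : (P : Subgroup (SpecialLinearGroup (Fin n) 𝔽)) = U n := by
      by_contra hne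
      have hlt : U n < (P : Subgroup (SpecialLinearGroup (Fin n) 𝔽)) := lt_of_le_of_ne hUP (Ne.symm hne)
      haveI : Group.IsNilpotent P := P.2.isNilpotent
      have hlt' : (U n).subgroupOf P < ⊤ := lt_top_iff_ne_top.2 fun h =>
        not_le_of_gt hlt (Subgroup.subgroupOf_eq_top.1 h)
      have hgt := normalizerCondition_of_isNilpotent _ hlt'
      obtain ⟨p, hp, hpn⟩ := SetLike.exists_of_lt hgt
      refine hpn ?_
      show (p : SpecialLinearGroup (Fin n) 𝔽) ∈ U n
      refine mem_U_of_normalizes n fun u hu => ?_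
      have := (Subgroup.mem_normalizer_iff''.1 hp ⟨u, hUP hu⟩).1 hu
      simpa [Subgroup.mem_subgroupOf] using this
    exact fun s hs => hPU ▸ hP hs
  -- an element outside `N`
  obtain ⟨k, hk, hkN⟩ : ∃ k ∈ (H₀ : Subgroup G), k ∉ N := by
    by_contra hno
    push Not at hno
    have h1 := Subgroup.index_dvd_of_le (show (H₀ : Subgroup G) ≤ N from hno)
    rw [hidx] at h1
    exact H₀.not_dvd_index h1
  have hdec : ∀ z : G, z ∈ N ∨ ∃ s, z = ι s * k := fun z => by
    by_cases hz : z ∈ N
    · exact Or.inl hz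
    · right
      obtain ⟨s, hs⟩ := hsurj (z * k⁻¹) ((Subgroup.mul_mem_iff_of_index_two hidx).2
        ⟨fun h => absurd h hz, fun h => absurd (N.inv_mem_iff.1 h) hkN⟩)
      exact ⟨s, by rw [hs, inv_mul_cancel_right]⟩
  have key : ∀ g : SpecialLinearGroup (Fin n) 𝔽,
      ∃ y, y ≠ 1 ∧ y ∈ (H₀ : Subgroup G) ∧ (ι g)⁻¹ * y * ι g ∈ (H₀ : Subgroup G) := by
    intro g
    by_cases hopp : Opp n g
    · obtain ⟨g', hg'⟩ := hsurj (k * ι g * k⁻¹) (‹N.Normal›.conj_mem _ (hιN g) k)
      have hconj : ∀ u ∈ U n, ∀ z ∈ (H₀ : Subgroup G), ∃ w ∈ U n, ι w = z * ι u * z⁻¹ := by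
        intro u hu z hz
        obtain ⟨w, hw⟩ := hsurj (z * ι u * z⁻¹) (‹N.Normal›.conj_mem _ (hιN u) z)
        refine ⟨w, hHU w ?_, hw⟩
        rw [hw]
        exact mul_mem (mul_mem hz (hUH u hu)) (inv_mem hz)
      by_cases hopp' : Opp n g'
      · obtain ⟨u, hu, hug⟩ := exists_conj_of_opp n hopp hopp'
        refine ⟨(ι u)⁻¹ * k, fun h => hkN ?_, mul_mem (inv_mem (hUH u hu)) hk, ?_⟩
        · rw [inv_mul_eq_one] at h
          rw [← h]; exact hιN u
        · set z := (ι g)⁻¹ * ((ι u)⁻¹ * k) * ι g with hz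
          have hzk : z = ι ((g'⁻¹ * u * g)⁻¹) * k := by
            rw [hz, map_inv, map_mul, map_mul, map_inv, hg']; group
          rw [hzk]
          exact mul_mem (hUH _ ((U n).inv_mem hug)) hk
      · -- then `U` and the conjugate by `g` already meet
        obtain ⟨y, hy, hyU, hyg⟩ := meet_of_not_opp n hopp'
        obtain ⟨w, hw, hwy⟩ := hconj y hyU k⁻¹ (inv_mem hk)
        refine ⟨ι w, fun h => hy ?_, hUH w hw, ?_⟩
        · refine hι ?_
          rw [hwy, mul_inv_eq_one, mul_eq_left] at h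
          rw [h, map_one]
        · obtain ⟨w', hw', hwy'⟩ := hconj _ hyg k⁻¹ (inv_mem hk)
          have : (ι g)⁻¹ * ι w * ι g = ι w' := by
            rw [hwy, hwy', map_mul, map_mul, map_inv, hg']; group
          rw [this]; exact hUH _ hw'
    · obtain ⟨y, hy, hyU, hyg⟩ := meet_of_not_opp n hopp
      refine ⟨ι y, fun h => hy (hι (h.trans (map_one ι).symm)), hUH y hyU, ?_⟩
      rw [← map_inv, ← map_mul, ← map_mul]
      exact hUH _ hyg
  obtain ⟨c, hc⟩ := MulAction.exists_smul_eq G H₀ H
  -- reduce to a conjugate of `H₀` by an element of `N`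
  obtain ⟨g, hg⟩ : ∃ g, ∀ z, (ι g)⁻¹ * z * ι g ∈ (H₀ : Subgroup G) →
      (c⁻¹ * x * c)⁻¹ * z * (c⁻¹ * x * c) ∈ (H₀ : Subgroup G) := by
    rcases hdec (c⁻¹ * x * c) with hx | ⟨s, hs⟩
    · obtain ⟨s, hs⟩ := hsurj _ hx
      exact ⟨s, fun z hz => by rw [← hs]; exact hz⟩
    · refine ⟨s, fun z hz => ?_⟩
      rw [hs, show (ι s * k)⁻¹ * z * (ι s * k) = k⁻¹ * ((ι s)⁻¹ * z * ι s) * k by group]
      exact mul_mem (mul_mem (inv_mem hk) hz) hk
  obtain ⟨y, hy, hyH, hyg⟩ := key g
  intro hbot
  have hmem : c * y * c⁻¹ ∈ (H : Subgroup G) ⊓ MulAut.conj x • (H : Subgroup G) := by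
    rw [← hc, Sylow.coe_subgroup_smul, Subgroup.mem_inf, Subgroup.mem_pointwise_smul_iff_inv_smul_mem,
      Subgroup.mem_pointwise_smul_iff_inv_smul_mem, Subgroup.mem_pointwise_smul_iff_inv_smul_mem]
    simp only [← map_inv, MulAut.smul_def, MulAut.conj_apply, inv_inv]
    refine ⟨by simpa [mul_assoc] using hyH, ?_⟩
    have h1 := hg y hyg
    simp only [_root_.mul_inv_rev, inv_inv, mul_assoc] at h1 ⊢
    simpa using h1
  rw [hbot, Subgroup.mem_bot, mul_inv_eq_one, mul_eq_left] at hmem
  exact hy hmem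

end CfsgLib.KnownB.FlagMeetSL
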