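import Cfsg.Agent.Lib.KnownB.ChevRegular
import Cfsg.Agent.Lib.KnownB.G2SL3
import Mathlib.FieldTheory.Finite.Extension

/-!
The self-centralising cyclic subgroup of order `q² + q + 1` of the group of type G₂.
-/

set_option autoImplicit false

namespace CfsgLib.KnownB.G2Singer

open Cfsg.Lie CfsgLib.Chev Matrix CfsgLib.KnownB.G2SL3

universe u

theorem cancel_two {L : Type*} [Field L] {a b : L} (ha : a ≠ 0) (hb : b ≠ 0) :
    a * b * (b⁻¹ * a⁻¹) = 1 := by field_simp

theorem cancel_sq {L : Type*} [Field L] {a c : L} (hc : c ≠ 0) :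
    a = (c ^ 2)⁻¹ * a * c ^ 2 := by field_simp

theorem cancel_three {L : Type*} [Field L] {a c : L} (ha : a ≠ 0) (hc : c ≠ 0) :
    a * (c * (a * c ^ 2)⁻¹) * c = 1 := by field_simp

/-- Comparing the two fundamental Cartan integers of every root. -/
theorem cartan_table : ∀ s : Fin 12,
    chevG2.cartan 0 s = (![0, -3, -1, 1, -2, 3, -3, 2, -1, 1, 3, 0] : Fin 12 → ℤ) s ∧
      chevG2.cartan 1 s = (![-1, 1, 0, -1, 1, -2, 2, -1, 1, 0, -1, 1] : Fin 12 → ℤ) s := by
  decide +kernel

section Torus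

variable {F : Type u} [Field F]

/-- A pair of torus coordinates. -/
def tc (a b : Fˣ) : Fin chevG2.rank → Fˣ := fun i => if (i : ℕ) = 0 then a else b

theorem tc_zero (a b : Fˣ) (h : 0 < chevG2.rank) : tc a b ⟨0, h⟩ = a := rfl

theorem tc_one (a b : Fˣ) (h : 1 < chevG2.rank) : tc a b ⟨1, h⟩ = b := rfl

theorem single_rt (r r' : ℕ) (h : r < 12) (h' : r' < 12) (x : F) :
    (Pi.single (rt r h) x : I → F) (rt r' h') = if r' = r then x else 0 := by
  by_cases e : r' = r
  · subst e; rw [if_pos rfl]; exact Pi.single_eq_same _ _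
  · rw [if_neg e, Pi.single_eq_of_ne]
    exact fun he => e (congrArg Fin.val (Sum.inr.inj he))

theorem single_rt_cr (r i : ℕ) (h : r < 12) (h' : i < 2) (x : F) :
    (Pi.single (rt r h) x : I → F) (cr i h') = 0 :=
  Pi.single_eq_of_ne (by simp) _

/-- The value of a torus element at a root coordinate. -/
theorem torHom_root (c : Fin chevG2.rank → Fˣ) (r : ℕ) (h : r < 12) :
    ((torHom chevG2 F c : GL I F) : Matrix I I F) (rt r h) (rt r h) =
      ((c ⟨0, by decide⟩ : Fˣ) : F) ^ chevG2.cartan 0 r * ((c ⟨1, by decide⟩ : Fˣ) : F) ^ chevG2.cartan 1 r := by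
  rw [torHom_apply, Matrix.diagonal_apply_eq]
  show ((∏ i : Fin 2, (c i) ^ chevG2.cartan i r : Fˣ) : F) = _
  rw [Fin.prod_univ_two, Units.val_mul, Units.val_zpow_eq_zpow_val, Units.val_zpow_eq_zpow_val]
  rfl

theorem torHom_coroot (c : Fin chevG2.rank → Fˣ) (i : ℕ) (h : i < 2) :
    ((torHom chevG2 F c : GL I F) : Matrix I I F) (cr i h) (cr i h) = 1 := by
  rw [torHom_apply, Matrix.diagonal_apply_eq]
  simp [torExp]

/-- The diagonal element of `SL₃` goes into the torus. -/
theorem toG2_diag (x₀ x₁ : Fˣ) (A : Matrix.SpecialLinearGroup (Fin 3) F)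
    (hA : (A : M3 F) = Matrix.diagonal ![(x₀ : F), (x₁ : F), ((x₀ : F) * x₁)⁻¹]) :
    toG2 A = torHom chevG2 F (tc x₀ (x₁ * x₀ ^ 2)) := by
  have h0 : (x₀ : F) ≠ 0 := x₀.ne_zero
  have h1 : (x₁ : F) ≠ 0 := x₁.ne_zero
  have hB : ((A⁻¹ : Matrix.SpecialLinearGroup (Fin 3) F) : M3 F) =
      Matrix.diagonal ![(x₀ : F)⁻¹, (x₁ : F)⁻¹, (x₀ : F) * x₁] := by
    refine left_inv_eq_right_inv (a := (A : M3 F)) ?_ ?_
    · rw [← Matrix.SpecialLinearGroup.coe_mul, inv_mul_cancel, Matrix.SpecialLinearGroup.coe_one]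
    · rw [hA, Matrix.diagonal_mul_diagonal, ← Matrix.diagonal_one]
      congr 1
      funext i
      fin_cases i <;> simp [h0, h1] <;> field_simp
  refine Units.ext ?_
  rw [coe_toG2, hA, hB]
  have hd : ((torHom chevG2 F (tc x₀ (x₁ * x₀ ^ 2)) : GL I F) : Matrix I I F) =
      Matrix.diagonal fun a =>
        ((torHom chevG2 F (tc x₀ (x₁ * x₀ ^ 2)) : GL I F) : Matrix I I F) a a := by
    rw [torHom_apply]; simp
  have hct : ∀ i : ℕ, ∀ r : ℕ, chevG2.cartan i r = (chevG2CartanSR.getD i #[]).getD r 0 := fun _ _ => rfl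
  rw [hd, actMat]
  refine (LinearEquiv.eq_symm_apply _).1 (LinearMap.ext fun v => funext fun a => ?_)
  rw [LinearMap.toMatrix'_symm, Matrix.toLin'_apply, Matrix.mulVec_diagonal, act, glin_apply,
    LinearMap.mulLeftRight_apply]
  revert a
  apply idx_cases <;>
    simp only [enc_cr0, enc_cr1, enc_rt0, enc_rt1, enc_rt2, enc_rt3, enc_rt4, enc_rt5, enc_rt6, enc_rt7,
      enc_rt8, enc_rt9, enc_rt10, enc_rt11, torHom_root, torHom_coroot, Matrix.diagonal_transpose,
      Matrix.mulVec_diagonal, Matrix.mul_diagonal, Matrix.diagonal_mul]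
  all_goals
    simp [mat3, vecV, vecW, tc_zero, tc_one, hct, chevG2CartanSR]
  all_goals try field_simp
  all_goals first | ring1 | simp

end Torus

variable {F : Type u} [Field F] [Fintype F]

theorem map_mem_group {K : Type*} [Field K] (f : F →+* K) {x : GL I F} (hx : x ∈ chevG2.group F) :
    Matrix.GeneralLinearGroup.map f x ∈ chevG2.group K := by
  have hle : chevG2.group F ≤ (chevG2.group K).comap (Matrix.GeneralLinearGroup.map (n := I) f) := by
    refine (Subgroup.closure_le _).2 ?_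
    rintro g ⟨r, t, hg⟩
    have : g = goodG2.xG r t := goodG2.eq_xG (by rw [hg, ChevalleyDatum.x, dif_pos r.2])
    rw [SetLike.mem_coe, Subgroup.mem_comap, this, CfsgLib.Classical.ChevFix.map_xG goodG2 f r.2]
    exact goodG2.xG_mem_group r.2 _
  exact Subgroup.mem_comap.1 (hle hx)

theorem col_nine (A : Matrix.SpecialLinearGroup (Fin 3) F) (a : I) :
    ((toG2 A : GL I F) : Matrix I I F) a (rt 9) = encFun 0 (fun i => (A : M3 F) i 0) 0 a := by
  rw [coe_toG2, actMat, LinearMap.toMatrix'_apply, act, glin_apply,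
    show mat3 (Pi.single (rt 9) (1 : F)) = 0 by ext i j; fin_cases i <;> fin_cases j <;> simp [mat3, single_rt, single_rt_cr],
    show vecV (Pi.single (rt 9) (1 : F)) = Pi.single 0 1 by funext i; fin_cases i <;> simp [vecV, single_rt],
    show vecW (Pi.single (rt 9) (1 : F)) = 0 by funext i; fin_cases i <;> simp [vecW, single_rt],
    map_zero, Matrix.mulVec_zero, Matrix.mulVec_single_one]
  rfl

theorem col_four (A : Matrix.SpecialLinearGroup (Fin 3) F) (a : I) :
    ((toG2 A : GL I F) : Matrix I I F) a (rt 4) = encFun 0 (fun i => -((A : M3 F) i 1)) 0 a := by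
  rw [coe_toG2, actMat, LinearMap.toMatrix'_apply, act, glin_apply,
    show mat3 (Pi.single (rt 4) (1 : F)) = 0 by ext i j; fin_cases i <;> fin_cases j <;> simp [mat3, single_rt, single_rt_cr],
    show vecV (Pi.single (rt 4) (1 : F)) = Pi.single 1 (-1) by funext i; fin_cases i <;> simp [vecV, single_rt],
    show vecW (Pi.single (rt 4) (1 : F)) = 0 by funext i; fin_cases i <;> simp [vecW, single_rt],
    map_zero, Matrix.mulVec_zero, Matrix.mulVec_single]
  congr 1
  funext i
  simp

theorem col_three (A : Matrix.SpecialLinearGroup (Fin 3) F) (a : I) :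
    ((toG2 A : GL I F) : Matrix I I F) a (rt 3) = encFun 0 (fun i => (A : M3 F) i 2) 0 a := by
  rw [coe_toG2, actMat, LinearMap.toMatrix'_apply, act, glin_apply,
    show mat3 (Pi.single (rt 3) (1 : F)) = 0 by ext i j; fin_cases i <;> fin_cases j <;> simp [mat3, single_rt, single_rt_cr],
    show vecV (Pi.single (rt 3) (1 : F)) = Pi.single 2 1 by funext i; fin_cases i <;> simp [vecV, single_rt],
    show vecW (Pi.single (rt 3) (1 : F)) = 0 by funext i; fin_cases i <;> simp [vecW, single_rt],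
    map_zero, Matrix.mulVec_zero, Matrix.mulVec_single_one]
  rfl

theorem exists_col_ne (A : GL I F) (b : I) : ∃ a, (A : Matrix I I F) a b ≠ 0 := by
  by_contra h
  push Not at h
  have h1 : ((A⁻¹ : GL I F) : Matrix I I F) * (A : Matrix I I F) = 1 := by
    rw [← Units.val_mul, inv_mul_cancel]; rfl
  have := congrFun (congrFun h1 b) b
  rw [Matrix.mul_apply, Finset.sum_eq_zero (fun k _ => by rw [h k, mul_zero]), Matrix.one_apply_eq] at this
  exact zero_ne_one this

/-- The exponents of the twelve roots at the Singer element. -/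
theorem exponent_table (q : ℕ) (hq : 3 ≤ q) (s : Fin 12) :
    ∃ f : ℕ, f < q ^ 2 + q + 1 ∧
      (∃ w : ℤ, (f : ℤ) = chevG2.cartan 0 s + ((q : ℤ) + 2) * chevG2.cartan 1 s + w * (q ^ 2 + q + 1)) ∧
      f = (![q ^ 2 - 1, q - 1, q ^ 2 + q, q ^ 2, q, q ^ 2 - q, 2 * q + 1, q ^ 2 + 1, q + 1, 1, q ^ 2 + 2,
        q + 2] : Fin 12 → ℕ) s := by
  have h0 := (cartan_table s).1
  have h1 := (cartan_table s).2
  rw [h0, h1]
  refine ⟨_, ?_, ⟨(![1, 0, 1, 1, 0, 1, 0, 1, 0, 0, 1, 0] : Fin 12 → ℤ) s, ?_⟩, rfl⟩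
  · have : 3 * q ≤ q ^ 2 := by nlinarith
    fin_cases s <;> simp <;> omega
  · have hle : q ≤ q ^ 2 := Nat.le_self_pow two_ne_zero q
    have hone : 1 ≤ q ^ 2 := le_trans (by omega) hle
    have hone' : 1 ≤ q := by omega
    fin_cases s <;> simp [Nat.cast_sub hle, Nat.cast_sub hone, Nat.cast_sub hone'] <;> ring

theorem exponents_injective (q : ℕ) (hq : 3 ≤ q) :
    Function.Injective (![q ^ 2 - 1, q - 1, q ^ 2 + q, q ^ 2, q, q ^ 2 - q, 2 * q + 1, q ^ 2 + 1, q + 1, 1,
      q ^ 2 + 2, q + 2] : Fin 12 → ℕ) := by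
  intro s t h
  rcases eq_or_lt_of_le hq with h3 | h4
  · subst h3
    revert h
    revert s t
    decide
  · have : 4 * q ≤ q ^ 2 := by nlinarith
    fin_cases s <;> fin_cases t <;> simp at h ⊢ <;> omega

/-- The torus of order `q² + q + 1`. -/
theorem exists_singer (q : ℕ) (hF : Fintype.card F = q) (hq : 3 ≤ q) :
    ∃ H : Subgroup ↥(chevG2.group F), IsCyclic ↥H ∧ Nat.card ↥H = q ^ 2 + q + 1 ∧
      Subgroup.centralizer (H : Set ↥(chevG2.group F)) = H := by
  classical
  haveI : Fact (ringChar F).Prime := ⟨CharP.char_is_prime F (ringChar F)⟩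
  let K := FiniteField.Extension F (ringChar F) 3
  haveI : Fintype K := Fintype.ofFinite _
  set N := q ^ 2 + q + 1 with hN
  have hcardK : Fintype.card K = q ^ 3 := by
    rw [Fintype.card_eq_nat_card, FiniteField.natCard_extension, Nat.card_eq_fintype_card, hF]
  -- an element of order `N`
  obtain ⟨ζ, hζ⟩ : ∃ ζ : Kˣ, orderOf ζ = N := by
    obtain ⟨γ, hγ⟩ := IsCyclic.exists_monoid_generator (α := Kˣ)
    have hord : orderOf γ = q ^ 3 - 1 := by
      rw [orderOf_eq_card_of_forall_mem_zpowers (fun x => by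
        obtain ⟨m, rfl⟩ := hγ x; exact ⟨m, zpow_natCast γ m⟩), Nat.card_eq_fintype_card, Fintype.card_units, hcardK]
    have hfac : q ^ 3 - 1 = (q - 1) * N := by
      obtain ⟨m, rfl⟩ : ∃ m, q = m + 1 := ⟨q - 1, by omega⟩
      rw [hN, Nat.sub_eq_iff_eq_add (Nat.one_le_pow _ _ (by omega)), Nat.add_sub_cancel]
      ring
    refine ⟨γ ^ (q - 1), ?_⟩
    rw [orderOf_pow' _ (by omega), hord, hfac, Nat.gcd_eq_right (Dvd.intro _ rfl),
      Nat.mul_div_cancel_left _ (by omega)]
  let ι : F →+* K := algebraMap F K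
  let σ : K →+* K := (FiniteField.Extension.frob F (ringChar F) 3).toAlgHom.toRingHom
  have hσ : ∀ x : K, σ x = x ^ q := fun x => by
    show FiniteField.Extension.frob F (ringChar F) 3 x = _
    rw [FiniteField.Extension.frob_apply, Nat.card_eq_fintype_card, hF]
  have hσι : ∀ a : F, σ (ι a) = ι a := fun a => (FiniteField.Extension.frob F (ringChar F) 3).commutes a
  let b : Module.Basis (Fin 3) F K :=
    Module.finBasisOfFinrankEq F K (FiniteField.finrank_extension F (ringChar F) 3)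
  let M : M3 F := Algebra.leftMulMatrix b (ζ : K)
  -- the eigenvector matrix
  let R : M3 K := Matrix.of fun k i => b i ^ (q ^ (k : ℕ))
  have hR : R * M.map ι = Matrix.diagonal (fun k : Fin 3 => (ζ : K) ^ (q ^ (k : ℕ))) * R := by
    ext k j
    have hφ : ∀ (a : F) (x : K), (a • x) ^ (q ^ (k : ℕ)) = ι a * x ^ (q ^ (k : ℕ)) := fun a x => by
      rw [Algebra.smul_def, mul_pow]
      congr 1
      rw [← map_pow, ← hF, FiniteField.pow_card_pow]
    have hsum : ∑ i, M i j • b i = (ζ : K) * b j := by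
      have := b.sum_repr ((ζ : K) * b j)
      rw [← this]
      exact Finset.sum_congr rfl fun i _ => by
        rw [show M i j = b.repr ((ζ : K) * b j) i from Algebra.leftMulMatrix_eq_repr_mul b (ζ : K) i j]
    have hfrob : ∀ x : Fin 3 → K, (∑ i, x i) ^ (q ^ (k : ℕ)) = ∑ i, x i ^ (q ^ (k : ℕ)) := fun x => by
      have e : ∀ y : K, ((FiniteField.Extension.frob F (ringChar F) 3) ^ (k : ℕ)) y = y ^ (q ^ (k : ℕ)) := fun y => by
        rw [FiniteField.Extension.frob_iterate_apply, Nat.card_eq_fintype_card, hF]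
      rw [← e, map_sum]
      exact Finset.sum_congr rfl fun i _ => e _
    rw [Matrix.diagonal_mul, Matrix.mul_apply]
    show ∑ i, b i ^ (q ^ (k : ℕ)) * ι (M i j) = (ζ : K) ^ (q ^ (k : ℕ)) * b j ^ (q ^ (k : ℕ))
    rw [← mul_pow, ← hsum, hfrob]
    exact Finset.sum_congr rfl fun i _ => by rw [hφ, mul_comm]
  have hqk : ∀ k l : Fin 3, (ζ : K) ^ (q ^ (k : ℕ)) = (ζ : K) ^ (q ^ (l : ℕ)) → k = l := by
    intro k l h
    have hlt : ∀ k : Fin 3, q ^ (k : ℕ) < N := fun k => by
      have : q ≤ q ^ 2 := Nat.le_self_pow two_ne_zero q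
      fin_cases k <;> simp [hN] <;> omega
    have h' : ζ ^ (q ^ (k : ℕ)) = ζ ^ (q ^ (l : ℕ)) := Units.ext (by simpa using h)
    have := pow_injOn_Iio_orderOf (by rw [hζ]; exact hlt k) (by rw [hζ]; exact hlt l) h'
    exact Fin.ext (Nat.pow_right_injective (by omega) this)
  have hdetR : R.det ≠ 0 := by
    intro h
    obtain ⟨v, hv, hv0⟩ := Matrix.exists_vecMul_eq_zero_iff.mpr h
    let φ : Fin 3 → (K →* K) := fun k => powMonoidHom (q ^ (k : ℕ))
    have hind : LinearIndependent K (fun k => (φ k : K → K)) :=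
      (linearIndependent_monoidHom K K).comp φ fun k l e => hqk k l (by
        have := DFunLike.congr_fun e (ζ : K)
        simpa [φ] using this)
    refine hv (funext fun k => Fintype.linearIndependent_iff.1 hind v ?_ k)
    funext x
    rw [Finset.sum_apply, Pi.zero_apply]
    simp only [Pi.smul_apply, smul_eq_mul, φ, powMonoidHom_apply]
    rw [← b.sum_repr x]
    have hfrob : ∀ (k : Fin 3) (y : Fin 3 → K), (∑ i, y i) ^ (q ^ (k : ℕ)) = ∑ i, y i ^ (q ^ (k : ℕ)) := fun k y => by
      have e : ∀ z : K, ((FiniteField.Extension.frob F (ringChar F) 3) ^ (k : ℕ)) z = z ^ (q ^ (k : ℕ)) := fun z => by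
        rw [FiniteField.Extension.frob_iterate_apply, Nat.card_eq_fintype_card, hF]
      rw [← e, map_sum]
      exact Finset.sum_congr rfl fun i _ => e _
    rw [Finset.sum_congr rfl fun k _ => show v k * (∑ i, b.repr x i • b i) ^ (q ^ (k : ℕ)) =
      ∑ i, v k * (b.repr x i • b i) ^ (q ^ (k : ℕ)) by rw [hfrob k fun i => b.repr x i • b i, Finset.mul_sum],
      Finset.sum_comm]
    refine Finset.sum_eq_zero fun i _ => ?_
    have h2 := congrFun hv0 i
    rw [Pi.zero_apply] at h2
    rw [show (∑ k : Fin 3, v k * (b.repr x i • b i) ^ (q ^ (k : ℕ))) =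
      ι (b.repr x i) * ∑ k : Fin 3, v k * b i ^ (q ^ (k : ℕ)) by
        rw [Finset.mul_sum]
        refine Finset.sum_congr rfl fun k _ => ?_
        rw [Algebra.smul_def, mul_pow, ← map_pow, ← hF, FiniteField.pow_card_pow]
        ring]
    rw [show (∑ k : Fin 3, v k * b i ^ (q ^ (k : ℕ))) = 0 from h2, mul_zero]
  set P : M3 K := R⁻¹ with hP
  have hRP : R * P = 1 := Matrix.mul_nonsing_inv _ (Ne.isUnit hdetR)
  have hPR : P * R = 1 := Matrix.nonsing_inv_mul _ (Ne.isUnit hdetR)
  have hshift : ∀ i j, σ (P i j) = P i (j + 1) := by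
    have hRσ : ∀ k i, σ (R k i) = R (k + 1) i := by
      intro k i
      show σ (b i ^ (q ^ (k : ℕ))) = b i ^ (q ^ ((k + 1 : Fin 3) : ℕ))
      rw [hσ, ← pow_mul, ← pow_succ]
      fin_cases k
      · rfl
      · rfl
      · show b i ^ q ^ 3 = b i ^ q ^ 0
        rw [pow_zero, pow_one, ← hcardK, FiniteField.pow_card]
    have h1 : P.map σ * R.map σ = 1 := by
      rw [← Matrix.map_mul, hPR, Matrix.map_one σ (map_zero σ) (map_one σ)]
    have h2 : R.map σ * (Matrix.of fun i j => P i (j + 1)) = 1 := by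
      ext k j
      rw [Matrix.mul_apply, Finset.sum_congr rfl fun i _ => show
        (R.map σ) k i * (Matrix.of fun i j => P i (j + 1)) i j = R (k + 1) i * P i (j + 1) by
          rw [Matrix.map_apply, hRσ, Matrix.of_apply], ← Matrix.mul_apply, hRP]
      simp [Matrix.one_apply]
    have h3 : P.map σ = Matrix.of fun i j => P i (j + 1) := left_inv_eq_right_inv h1 h2
    intro i j
    exact congrFun (congrFun h3 i) j
  have hdetP : P.det ≠ 0 := fun h => by
    have := congrArg Matrix.det hPR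
    rw [Matrix.det_mul, h, zero_mul, Matrix.det_one] at this
    exact zero_ne_one this
  set d : K := P.det⁻¹ with hd
  have hd0 : d ≠ 0 := inv_ne_zero hdetP
  let P' : Matrix.SpecialLinearGroup (Fin 3) K := ⟨P * Matrix.diagonal ![d, 1, 1], by
    rw [Matrix.det_mul, Matrix.det_diagonal, Fin.prod_univ_three]; simp [hd, hdetP]⟩
  have hζN : (ζ : K) ^ N = 1 := by rw [← hζ, ← Units.val_pow_eq_pow_val, pow_orderOf_eq_one, Units.val_one]
  have hz2 : (ζ : K) ^ (q ^ 2) = ((ζ : K) * (ζ : K) ^ q)⁻¹ := by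
    refine eq_inv_of_mul_eq_one_left ?_
    rw [← pow_succ', ← pow_add, show q ^ 2 + (q + 1) = N by omega, hζN]
  let dz : Fin 3 → K := fun k => (ζ : K) ^ (q ^ (k : ℕ))
  have hdz : dz = ![(ζ : K), ((ζ ^ q : Kˣ) : K), ((ζ : K) * ((ζ ^ q : Kˣ) : K))⁻¹] := by
    funext k
    fin_cases k <;> simp [dz, hz2]
  have hdetM : M.det = 1 := by
    refine ι.injective ?_
    rw [RingHom.map_det, map_one]
    have : R.det * (M.map ι).det = (Matrix.diagonal dz).det * R.det := by
      rw [← Matrix.det_mul, ← Matrix.det_mul, hR]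
    rw [mul_comm, Matrix.det_diagonal, hdz, Fin.prod_univ_three] at this
    have h' := mul_right_cancel₀ hdetR this
    rw [show ι.mapMatrix M = M.map ι from rfl, h']
    simp
    exact cancel_two (Units.ne_zero ζ) (pow_ne_zero q (Units.ne_zero ζ))
  let A : Matrix.SpecialLinearGroup (Fin 3) F := ⟨M, hdetM⟩
  let Dz : Matrix.SpecialLinearGroup (Fin 3) K := ⟨Matrix.diagonal dz, by
    rw [Matrix.det_diagonal, hdz, Fin.prod_univ_three]; simp; exact cancel_two (Units.ne_zero ζ) (pow_ne_zero q (Units.ne_zero ζ))⟩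
  have hAP : Matrix.SpecialLinearGroup.map ι A * P' = P' * Dz := by
    refine Subtype.ext ?_
    show M.map ι * (P * Matrix.diagonal ![d, 1, 1]) = P * Matrix.diagonal ![d, 1, 1] * Matrix.diagonal dz
    have : M.map ι * P = P * Matrix.diagonal dz := by
      calc M.map ι * P = P * R * (M.map ι) * P := by rw [hPR, Matrix.one_mul]
        _ = P * (R * M.map ι) * P := by rw [Matrix.mul_assoc P R]
        _ = _ := by rw [hR, Matrix.mul_assoc, Matrix.mul_assoc (Matrix.diagonal dz), hRP, Matrix.mul_one]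
    rw [← Matrix.mul_assoc, this, Matrix.mul_assoc, Matrix.mul_assoc, Matrix.diagonal_mul_diagonal,
      Matrix.diagonal_mul_diagonal]
    congr 2
    funext k
    exact mul_comm _ _
  let cz : Fin chevG2.rank → Kˣ := tc ζ (ζ ^ q * ζ ^ 2)
  have hDz : toG2 Dz = torHom chevG2 K cz := toG2_diag ζ (ζ ^ q) Dz (by rw [← hdz])
  let y : ↥(chevG2.group F) := ⟨toG2 A, toG2_mem A⟩
  let ψ : GL I K := toG2 P'
  have hy : Matrix.GeneralLinearGroup.map ι (y : GL I F) = ψ * torHom chevG2 K cz * ψ⁻¹ := by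
    show Matrix.GeneralLinearGroup.map ι (toG2 A) = _
    rw [map_toG2, ← hDz, eq_mul_inv_iff_mul_eq]
    show toG2 (Matrix.SpecialLinearGroup.map ι A) * toG2 P' = toG2 P' * toG2 Dz
    rw [← map_mul, hAP, map_mul]
  have hreg : Function.Injective fun s : Fin chevG2.nroots => ∏ i : Fin chevG2.rank, cz i ^ chevG2.cartan i s := by
    intro s t h
    obtain ⟨f, hf, ⟨w, hw⟩, hfe⟩ := exponent_table q hq s
    obtain ⟨f', hf', ⟨w', hw'⟩, hfe'⟩ := exponent_table q hq t
    have hval : ∀ (s : Fin chevG2.nroots) (f : ℕ) (w : ℤ),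
        (f : ℤ) = chevG2.cartan 0 s + ((q : ℤ) + 2) * chevG2.cartan 1 s + w * (q ^ 2 + q + 1) →
        (∏ i : Fin chevG2.rank, cz i ^ chevG2.cartan i s) = ζ ^ f := by
      intro s f w hw
      show ∏ i : Fin 2, cz i ^ chevG2.cartan i s = _
      rw [Fin.prod_univ_two]
      show ζ ^ chevG2.cartan 0 s * (ζ ^ q * ζ ^ 2) ^ chevG2.cartan 1 s = _
      rw [← pow_add, ← zpow_natCast ζ (q + 2), ← _root_.zpow_mul, ← _root_.zpow_add, ← zpow_natCast ζ f, hw,
        Nat.cast_add, Nat.cast_ofNat, _root_.zpow_add ζ _ (w * _), mul_comm w, _root_.zpow_mul,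
        show ζ ^ ((q : ℤ) ^ 2 + q + 1) = 1 by
          rw [show ((q : ℤ) ^ 2 + q + 1) = ((N : ℕ) : ℤ) by simp [hN], zpow_natCast, ← hζ, pow_orderOf_eq_one],
        _root_.one_zpow, mul_one]
    simp only [hval s f w hw, hval t f' w' hw'] at h
    have := pow_injOn_Iio_orderOf (by rw [hζ]; exact hf) (by rw [hζ]; exact hf') h
    exact exponents_injective q hq (hfe ▸ hfe' ▸ this)
  -- coordinates on the centraliser
  set C : Subgroup ↥(chevG2.group F) := Subgroup.centralizer {y} with hC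
  have hdiag : ∀ g : C, ∃ c : Fin chevG2.rank → Kˣ,
      Matrix.GeneralLinearGroup.map ι ((g : ↥(chevG2.group F)) : GL I F) * ψ = ψ * torHom chevG2 K c := by
    intro g
    have hgy : ((g : ↥(chevG2.group F)) : GL I F) * (y : GL I F) = (y : GL I F) * (g : ↥(chevG2.group F)) :=
      congrArg Subtype.val (Subgroup.mem_centralizer_iff.1 g.2 y rfl).symm
    set gK := Matrix.GeneralLinearGroup.map ι ((g : ↥(chevG2.group F)) : GL I F) with hgK
    have h1 : gK * (ψ * torHom chevG2 K cz * ψ⁻¹) = (ψ * torHom chevG2 K cz * ψ⁻¹) * gK := by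
      rw [← hy, ← map_mul, ← map_mul, hgy]
    have h2 : ψ⁻¹ * gK * ψ ∈ chevG2.diagonalSubgroup K := by
      refine ChevRegular.mem_diagonal_of_commute_regular goodG2 (hasComm_of_mem (by simp)) cz hreg
        (mul_mem (mul_mem (inv_mem (toG2_mem P')) (map_mem_group ι g.1.2)) (toG2_mem P')) ?_
      calc ψ⁻¹ * gK * ψ * torHom chevG2 K cz = ψ⁻¹ * (gK * (ψ * torHom chevG2 K cz * ψ⁻¹)) * ψ := by group
        _ = _ := by rw [h1]; group
    rw [goodG2.diagonal_eq_range] at h2
    obtain ⟨c, hc⟩ := h2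
    exact ⟨c, by rw [hc]; group⟩
  choose cg hcg using hdiag
  -- the Frobenius relation
  have hrel : ∀ g : C, ((cg g ⟨1, by decide⟩ : Kˣ) : K) = ((cg g ⟨0, by decide⟩ : Kˣ) : K) ^ (q + 2) ∧
      ((cg g ⟨0, by decide⟩ : Kˣ) : K) ^ N = 1 := by
    intro g
    set c := cg g
    set c0 : K := ((c ⟨0, by decide⟩ : Kˣ) : K) with hc0
    set c1 : K := ((c ⟨1, by decide⟩ : Kˣ) : K) with hc1
    set x : I → K := fun a => ((torHom chevG2 K c : GL I K) : Matrix I I K) a a with hx
    set G : Matrix I I K := ((Matrix.GeneralLinearGroup.map ι ((g : ↥(chevG2.group F)) : GL I F) : GL I K) :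
      Matrix I I K) with hG
    set Ψ : Matrix I I K := (ψ : Matrix I I K) with hΨ
    have heig : ∀ a b, ∑ k, G a k * Ψ k b = Ψ a b * x b := by
      intro a b
      have h := congrFun (congrFun (congrArg (Units.val (α := Matrix I I K)) (hcg g)) a) b
      rw [Units.val_mul, Units.val_mul, torHom_apply, Matrix.mul_diagonal, Matrix.mul_apply] at h
      rw [hx]
      simp only [torHom_apply, Matrix.diagonal_apply_eq]
      exact h
    have hGσ : ∀ a k, σ (G a k) = G a k := fun a k => hσι _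
    have step : ∀ (b b' : I) (μ : K), μ ≠ 0 → (∀ a, σ (Ψ a b) = μ * Ψ a b') → x b' = x b ^ q := by
      intro b b' μ hμ hcol
      obtain ⟨a, ha⟩ := exists_col_ne ψ b'
      have h := congrArg σ (heig a b)
      rw [map_sum, map_mul, hσ (x b), hcol] at h
      simp only [map_mul, hGσ, hcol] at h
      rw [Finset.sum_congr rfl fun k _ => mul_left_comm (G a k) μ (Ψ k b'), ← Finset.mul_sum, heig,
        mul_assoc] at h
      exact mul_left_cancel₀ ha (mul_left_cancel₀ hμ h)
    have hP'0 : ∀ i, (P' : M3 K) i 0 = P i 0 * d := fun i => by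
      show (P * Matrix.diagonal ![d, 1, 1] : M3 K) i 0 = _
      rw [Matrix.mul_diagonal]; rfl
    have hP'1 : ∀ i, (P' : M3 K) i 1 = P i 1 := fun i => by
      show (P * Matrix.diagonal ![d, 1, 1] : M3 K) i 1 = _
      rw [Matrix.mul_diagonal]; simp
    have hP'2 : ∀ i, (P' : M3 K) i 2 = P i 2 := fun i => by
      show (P * Matrix.diagonal ![d, 1, 1] : M3 K) i 2 = _
      rw [Matrix.mul_diagonal]; simp
    have h94 : ∀ a, σ (Ψ a (rt 9)) = -(σ d) * Ψ a (rt 4) := by
      intro a
      rw [hΨ, col_nine, col_four]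
      revert a
      apply idx_cases <;>
        simp [enc_cr0, enc_cr1, enc_rt0, enc_rt1, enc_rt2, enc_rt3, enc_rt4, enc_rt5, enc_rt6, enc_rt7,
          enc_rt8, enc_rt9, enc_rt10, enc_rt11, hP'0, hP'1, hshift] <;> ring
    have h43 : ∀ a, σ (Ψ a (rt 4)) = -1 * Ψ a (rt 3) := by
      intro a
      rw [hΨ, col_four, col_three]
      revert a
      apply idx_cases <;>
        simp [enc_cr0, enc_cr1, enc_rt0, enc_rt1, enc_rt2, enc_rt3, enc_rt4, enc_rt5, enc_rt6, enc_rt7,
          enc_rt8, enc_rt9, enc_rt10, enc_rt11, hP'1, hP'2, hshift] <;> ring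
    have hσd : σ d ≠ 0 := (map_ne_zero σ).2 hd0
    have e2 := step (rt 9) (rt 4) _ (neg_ne_zero.2 hσd) h94
    have e3 := step (rt 4) (rt 3) _ (by simp) h43
    have x9 : x (rt 9) = c0 := by
      rw [hx]; simp only; rw [torHom_root, (cartan_table ⟨9, by omega⟩).1, (cartan_table ⟨9, by omega⟩).2]
      simp [hc0]
    have x4 : x (rt 4) = c0 ^ (-2 : ℤ) * c1 := by
      rw [hx]; simp only; rw [torHom_root, (cartan_table ⟨4, by omega⟩).1, (cartan_table ⟨4, by omega⟩).2]
      simp [hc0, hc1]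
    have x3 : x (rt 3) = c0 * c1⁻¹ := by
      rw [hx]; simp only; rw [torHom_root, (cartan_table ⟨3, by omega⟩).1, (cartan_table ⟨3, by omega⟩).2]
      simp [hc0, hc1]
    rw [x9, x4] at e2
    rw [x4, x3] at e3
    have h0 : c0 ≠ 0 := Units.ne_zero _
    have h1 : c1 ≠ 0 := Units.ne_zero _
    have hc1' : c1 = c0 ^ (q + 2) := by
      rw [pow_add, ← e2, _root_.zpow_neg, zpow_ofNat]
      exact cancel_sq h0
    refine ⟨hc1', ?_⟩
    rw [e2, ← pow_mul, ← pow_two] at e3
    calc c0 ^ N = c0 ^ (q * 1) * c0 ^ (q ^ 2) * c0 := by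
          rw [← pow_add, ← pow_succ, mul_one, hN]; ring_nf
      _ = 1 := by
          rw [← e3, hc1', mul_one, pow_add]
          exact cancel_three (pow_ne_zero q h0) h0
  -- the injective character
  let χ : C →* Kˣ :=
    { toFun := fun g => cg g ⟨0, by decide⟩
      map_one' := by
        have h := hcg 1
        simp only [OneMemClass.coe_one, map_one, one_mul] at h
        have h' : torHom chevG2 K (cg 1) = 1 := mul_left_cancel (a := ψ) (by rw [← h, mul_one])
        have := congrFun (congrFun (congrArg (Units.val (α := Matrix I I K)) h') (rt 9)) (rt 9)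
        rw [torHom_root, (cartan_table ⟨9, by omega⟩).1, (cartan_table ⟨9, by omega⟩).2] at this
        exact Units.ext (by simpa using this)
      map_mul' := fun g g' => by
        have h : Matrix.GeneralLinearGroup.map ι (((g * g' : C) : ↥(chevG2.group F)) : GL I F) * ψ =
            ψ * torHom chevG2 K (cg g * cg g') := by
          rw [Subgroup.coe_mul, Subgroup.coe_mul, map_mul, mul_assoc, hcg g', ← mul_assoc, hcg g, mul_assoc,
            map_mul]
        have h' := congrArg (Units.val (α := Matrix I I K)) (mul_left_cancel ((hcg (g * g')).symm.trans h))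
        have := congrFun (congrFun h' (rt 9)) (rt 9)
        rw [torHom_root, torHom_root, (cartan_table ⟨9, by omega⟩).1, (cartan_table ⟨9, by omega⟩).2] at this
        exact Units.ext (by simpa using this) }
  have hχinj : Function.Injective χ := by
    intro g g' h
    have h0 : cg g ⟨0, by decide⟩ = cg g' ⟨0, by decide⟩ := h
    have hcc : cg g = cg g' := by
      funext i
      change Fin 2 at i
      fin_cases i
      · exact h0
      · exact Units.ext ((hrel g).1.trans ((congrArg (fun z : Kˣ => (z : K) ^ (q + 2)) h0).trans (hrel g').1.symm))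
    have := (hcg g).trans (hcc ▸ (hcg g').symm)
    have h2 := mul_right_cancel this
    refine Subtype.ext (Subtype.ext (mat_eq ι _ _ h2))
  have hyC : y ∈ C := Subgroup.mem_centralizer_iff.2 (by rintro z rfl; rfl)
  have hχy : χ ⟨y, hyC⟩ = ζ := by
    have h : torHom chevG2 K (cg ⟨y, hyC⟩) = torHom chevG2 K cz := mul_left_cancel (a := ψ) (by
      rw [← hcg ⟨y, hyC⟩, hy, inv_mul_cancel_right])
    have := congrFun (congrFun (congrArg (Units.val (α := Matrix I I K)) h) (rt 9)) (rt 9)
    rw [torHom_root, torHom_root, (cartan_table ⟨9, by omega⟩).1, (cartan_table ⟨9, by omega⟩).2] at this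
    exact Units.ext (by simpa [cz, tc_zero, χ] using this)
  have hrange : χ.range = Subgroup.zpowers ζ := by
    refine (Subgroup.eq_of_le_of_card_ge ?_ ?_).symm
    · exact Subgroup.zpowers_le.2 ⟨⟨y, hyC⟩, hχy⟩
    · rw [Nat.card_zpowers, hζ]
      have hle : χ.range ≤ rootsOfUnity N K := by
        rintro z ⟨g, rfl⟩
        rw [mem_rootsOfUnity]
        exact Units.ext (by rw [Units.val_pow_eq_pow_val, Units.val_one]; exact (hrel g).2)
      refine (Subgroup.card_le_of_le hle).trans ?_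
      haveI : NeZero N := ⟨by omega⟩
      exact card_rootsOfUnity K N
  have e : C ≃* Subgroup.zpowers ζ := (χ.ofInjective hχinj).trans (MulEquiv.subgroupCongr hrange)
  haveI hcyc : IsCyclic C := isCyclic_of_surjective e.symm.toMonoidHom e.symm.surjective
  refine ⟨C, hcyc, by rw [Nat.card_congr e.toEquiv, Nat.card_zpowers, hζ], le_antisymm ?_ ?_⟩
  · exact Subgroup.centralizer_le (Set.singleton_subset_iff.2 hyC)
  · intro z hz
    refine Subgroup.mem_centralizer_iff.2 fun w hw => ?_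
    exact congrArg Subtype.val ((IsCyclic.commGroup (α := C)).mul_comm (⟨w, hw⟩ : C) ⟨z, hz⟩)
where
  mat_eq {K : Type} [Field K] (ι : F →+* K) (g g' : GL I F)
      (h : Matrix.GeneralLinearGroup.map ι g = Matrix.GeneralLinearGroup.map ι g') : g = g' := by
    refine Units.ext (Matrix.ext fun a b => ι.injective ?_)
    exact congrFun (congrFun (congrArg (Units.val (α := Matrix I I K)) h) a) b

end CfsgLib.KnownB.G2Singer
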