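import Cfsg.Agent.Lib.KnownB.GL2Sum
import Cfsg.Agent.Lib.Char.Inner
import Cfsg.Prelude.Def_ParabolicCharacters

/-!
# The irreducible characters of `GL₂(F)`
-/

set_option autoImplicit false

namespace CfsgLib.KnownB.GL2

open Matrix Finset
open scoped MatrixGroups ComplexConjugate

variable {F : Type*} [Field F] [Fintype F] [DecidableEq F]
variable {E : Type*} [Field E] [Algebra F E] [IsQuad F E] [Fintype E]

local notation "G2" => GL (Fin 2) F
local notation "M2" => Matrix (Fin 2) (Fin 2) F

section Field

omit [DecidableEq F] in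
theorem pow_q_q (x : E) : (x ^ Fintype.card F) ^ Fintype.card F = x := by
  rw [← pow_mul, ← sq, ← card_quad (F := F) (E := E), FiniteField.pow_card]

omit [DecidableEq F] in
theorem algebraMap_pow_q (a : F) :
    algebraMap F E a ^ Fintype.card F = algebraMap F E a := by
  rw [← map_pow, FiniteField.pow_card]

omit [DecidableEq F] in
theorem T_pow (x : E) :
    Algebra.trace F E (x ^ Fintype.card F) = Algebra.trace F E x := by
  apply (algebraMap F E).injective
  rw [algebraMap_T, algebraMap_T, pow_q_q, add_comm]

omit [DecidableEq F] in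
theorem N_pow (x : E) :
    Algebra.norm F (x ^ Fintype.card F) = Algebra.norm F x := by
  apply (algebraMap F E).injective
  rw [algebraMap_N, algebraMap_N, pow_q_q, mul_comm]

omit [DecidableEq F] in
theorem pow_q_ne {x : E} (hx : ∀ a, algebraMap F E a ≠ x) : x ^ Fintype.card F ≠ x := by
  classical
  intro he
  have h2 := roots_add_eroots (E := E) (Algebra.trace F E x) (Algebra.norm F x)
  rw [roots_eq_empty_of_mem hx rfl rfl, Finset.card_empty, zero_add] at h2
  have : eroots (E := E) (Algebra.trace F E x) (Algebra.norm F x) ⊆ {x} := by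
    intro y hy
    simp only [eroots, mem_filter, mem_univ, true_and] at hy
    rcases quad_roots (root_of_quad (rfl : Algebra.trace F E x = _) (rfl : Algebra.norm F x = _))
      (root_of_quad hy.1 hy.2) with h | h
    · simpa using h
    · rw [algebraMap_T, add_sub_cancel_left, he] at h
      simpa using h
  have := Finset.card_le_card this
  rw [Finset.card_singleton] at this
  omega

omit [DecidableEq F] in
theorem exists_of_pow_q {x : E} (he : x ^ Fintype.card F = x) :
    ∃ a, algebraMap F E a = x := by
  by_contra hc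
  push Not at hc
  exact pow_q_ne hc he

omit [DecidableEq F] in
theorem pow_q_notMem {x : E} (hx : ∀ a, algebraMap F E a ≠ x) (a : F) :
    algebraMap F E a ≠ x ^ Fintype.card F := by
  intro h
  apply hx a
  rw [← pow_q_q (F := F) x, ← h, algebraMap_pow_q]

theorem sum_pow_q {β : Type*} [AddCommMonoid β] (f : E → β) :
    ∑ x : E, f (x ^ Fintype.card F) = ∑ x : E, f x :=
  Function.Bijective.sum_comp (Function.Involutive.bijective fun x => pow_q_q (F := F) x) f

omit [DecidableEq F] in
theorem N_surjective : Function.Surjective (Algebra.norm F (S := E)) := by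
  exact FiniteField.norm_surjective F E

omit [DecidableEq F] in
theorem N_eq_zero {x : E} : Algebra.norm F x = 0 ↔ x = 0 := by
  have : Module.Finite F E := Module.finite_of_finrank_pos (by rw [IsQuad.finrank_eq]; norm_num)
  exact Algebra.norm_eq_zero_iff

end Field

section MulChar

variable {K : Type*} [Field K] [Fintype K]

theorem conj_char (χ : MulChar K ℂ) (a : K) : conj (χ a) = χ⁻¹ a := by
  rw [← MulChar.star_apply' χ a]; rfl

open Classical in
theorem sum_char (χ : MulChar K ℂ) :
    ∑ a : K, χ a = if χ = 1 then (Fintype.card K : ℂ) - 1 else 0 := by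
  split_ifs with h
  · subst h
    rw [MulChar.sum_one_eq_card_units, Fintype.card_units,
      Nat.cast_sub Fintype.card_pos, Nat.cast_one]
  · exact MulChar.sum_eq_zero_of_ne_one h

theorem sum_chars [Fintype (MulChar K ℂ)] [DecidableEq K] (a : K) :
    ∑ χ : MulChar K ℂ, χ a = if a = 1 then (Fintype.card K : ℂ) - 1 else 0 := by
  split_ifs with h
  · subst h
    simp only [map_one, Finset.sum_const, Finset.card_univ, nsmul_eq_mul, mul_one]
    rw [← Nat.card_eq_fintype_card, MulChar.card_eq_card_units_of_hasEnoughRootsOfUnity,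
      Nat.card_units, Nat.card_eq_fintype_card, Nat.cast_sub Fintype.card_pos, Nat.cast_one]
  · obtain ⟨ψ, hψ⟩ := MulChar.exists_apply_ne_one_of_hasEnoughRootsOfUnity K ℂ h
    refine eq_zero_of_mul_eq_self_left hψ ?_
    simp only [Finset.mul_sum, ← MulChar.mul_apply]
    exact Fintype.sum_bijective _ (Group.mulLeft_bijective ψ) _ _ fun _ => rfl

/-- Restriction of a multiplicative character of `E` to `F`. -/
noncomputable def resF {F E : Type*} [Field F] [Field E] [Algebra F E] (ν : MulChar E ℂ) :
    MulChar F ℂ where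
  toFun a := ν (algebraMap F E a)
  map_one' := by simp
  map_mul' a b := by simp
  map_nonunit' a ha := by
    have : a = 0 := by simpa using ha
    subst this
    rw [map_zero]
    exact MulChar.map_zero ν

@[simp] theorem resF_apply {F E : Type*} [Field F] [Field E] [Algebra F E] (ν : MulChar E ℂ)
    (a : F) : resF ν a = ν (algebraMap F E a) := rfl

/-- Composition of a multiplicative character of `F` with the norm. -/
noncomputable def compN (E : Type*) [Field E] [Algebra F E] [IsQuad F E] [Fintype E]
    (χ : MulChar F ℂ) : MulChar E ℂ where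
  toFun x := χ (Algebra.norm F x)
  map_one' := by simp
  map_mul' a b := by simp
  map_nonunit' a ha := by
    have : a = 0 := by simpa using ha
    subst this
    rw [(N_eq_zero (F := F) (E := E)).mpr rfl]
    exact MulChar.map_zero χ

@[simp] theorem compN_apply (χ : MulChar F ℂ) (x : E) :
    compN E χ x = χ (Algebra.norm F x) := rfl

theorem compN_injective : Function.Injective (compN (F := F) E) := by
  intro χ χ' h
  refine MulChar.ext' fun a => ?_
  obtain ⟨x, rfl⟩ := N_surjective (E := E) a
  exact DFunLike.congr_fun h x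

theorem compN_mul (χ χ' : MulChar F ℂ) : compN E (χ * χ') = compN E χ * compN E χ' :=
  MulChar.ext' fun x => by simp

theorem compN_pow_q (χ : MulChar F ℂ) : compN E χ ^ Fintype.card F = compN E χ :=
  MulChar.ext' fun x => by
    rw [MulChar.pow_apply' _ Fintype.card_ne_zero, ← map_pow, compN_apply, compN_apply, N_pow]

/-- A character of `E` fixed by Frobenius factors through the norm. -/
theorem exists_compN {ν : MulChar E ℂ} (h : ν ^ Fintype.card F = ν) :
    ∃ χ : MulChar F ℂ, compN E χ = ν := by
  classical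
  obtain ⟨e⟩ := MulChar.mulEquiv_units E ℂ
  set q := Fintype.card F with hq_def
  have hq : 1 < q := Fintype.one_lt_card
  let S : Set (MulChar E ℂ) := {μ | μ ^ (q - 1) = 1}
  have hle : S.ncard ≤ q - 1 := by
    have h1 : S.ncard ≤ ((Polynomial.nthRoots (q - 1) (1 : E)).toFinset : Set E).ncard := by
      refine Set.ncard_le_ncard_of_injOn (fun μ => (e μ : E)) (fun μ hμ => ?_) ?_
        (Finset.finite_toSet _)
      · rw [Finset.mem_coe, Multiset.mem_toFinset, Polynomial.mem_nthRoots (by omega),
          ← Units.val_pow_eq_pow_val, ← map_pow]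
        rw [hμ, map_one, Units.val_one]
      · intro a _ b _ hab
        exact e.injective (Units.ext hab)
    refine h1.trans ?_
    rw [Set.ncard_coe_finset]
    exact (Multiset.toFinset_card_le _).trans (Polynomial.card_nthRoots _ _)
  have hsub : Set.range (compN (F := F) E) ⊆ S := by
    rintro _ ⟨χ, rfl⟩
    have h1 := compN_pow_q (E := E) χ
    rw [show Fintype.card F = (q - 1) + 1 by omega, pow_succ] at h1
    exact mul_eq_right.mp h1
  have hge : q - 1 ≤ (Set.range (compN (F := F) E)).ncard := by
    rw [← Nat.card_coe_set_eq, Nat.card_range_of_injective compN_injective,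
      MulChar.card_eq_card_units_of_hasEnoughRootsOfUnity, Nat.card_units,
      Nat.card_eq_fintype_card]
  have hfin : S.Finite := Set.toFinite S
  have := Set.eq_of_subset_of_ncard_le hsub (hle.trans hge) hfin
  have hν : ν ∈ S := by
    have h1 := h
    rw [show q = (q - 1) + 1 by omega, pow_succ] at h1
    exact mul_eq_right.mp h1
  rwa [← this] at hν

end MulChar

section Borel

local notation "B2" => Cfsg.upperTriangularGL 2 F

omit [Fintype F] [DecidableEq F] in
theorem mem_borel {g : G2} : g ∈ Cfsg.upperTriangularGL 2 F ↔ (g : M2) 1 0 = 0 := by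
  constructor
  · intro h; exact h (by decide : (0 : Fin 2) < 1)
  · intro h i j hij
    fin_cases i <;> fin_cases j <;> simp_all

/-- Upper triangular elements. -/
noncomputable def utm (p : Fˣ × Fˣ × F) : B2 :=
  ⟨Matrix.GeneralLinearGroup.mkOfDetNeZero !![(p.1 : F), p.2.2; 0, (p.2.1 : F)]
    (by simp [det_fin_two]), mem_borel.mpr rfl⟩

omit [Fintype F] [DecidableEq F] in
theorem coe_utm (p : Fˣ × Fˣ × F) :
    ((utm p : G2) : M2) = !![(p.1 : F), p.2.2; 0, (p.2.1 : F)] := rfl

omit [Fintype F] [DecidableEq F] in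
theorem utm_bijective : Function.Bijective (utm (F := F)) := by
  constructor
  · rintro ⟨a, d, n⟩ ⟨a', d', n'⟩ h
    have h' := congrArg (fun x : B2 => ((x : G2) : M2)) h
    simp only [coe_utm] at h'
    have e1 := congrFun (congrFun h' 0) 0
    have e2 := congrFun (congrFun h' 1) 1
    have e3 := congrFun (congrFun h' 0) 1
    simp at e1 e2 e3
    simp [Units.ext e1, Units.ext e2, e3]
  · rintro ⟨g, hg⟩
    have h10 := mem_borel.mp hg
    have hd := det_ne_zero g
    rw [det_fin_two, h10, mul_zero, sub_zero] at hd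
    refine ⟨(Units.mk0 _ (left_ne_zero_of_mul hd), Units.mk0 _ (right_ne_zero_of_mul hd),
      (g : M2) 0 1), ?_⟩
    ext i j
    fin_cases i <;> fin_cases j <;> simp [coe_utm, h10]

theorem card_borel :
    (Nat.card B2 : ℂ) = (Fintype.card F : ℂ) * ((Fintype.card F : ℂ) - 1) ^ 2 := by
  rw [← Nat.card_eq_of_bijective _ (utm_bijective (F := F)), Nat.card_prod, Nat.card_prod,
    Nat.card_units, Nat.card_eq_fintype_card, Nat.cast_mul, Nat.cast_mul,
    Nat.cast_sub Fintype.card_pos, Nat.cast_one]
  ring

/-- The linear character `αβ` of the Borel subgroup. -/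
noncomputable def borelHom (α β : MulChar F ℂ) : B2 →* ℂˣ :=
  MonoidHom.toHomUnits
    { toFun := fun b => α (((b : G2) : M2) 0 0) * β (((b : G2) : M2) 1 1)
      map_one' := by simp
      map_mul' := fun a b => by
        have ha := mem_borel.mp a.2
        have hb := mem_borel.mp b.2
        simp [Matrix.mul_apply, Fin.sum_univ_two, ha, hb]
        ring }

/-- The principal series character. -/
noncomputable def I (α β : MulChar F ℂ) : GL (Fin 2) F → ℂ :=
  Cfsg.indFun (Cfsg.upperTriangularGL 2 F)
    (fun b => α (((b : G2) : M2) 0 0) * β (((b : G2) : M2) 1 1))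

theorem isCharacter_I (α β : MulChar F ℂ) : Cfsg.IsCharacter (GL (Fin 2) F) (I α β) :=
  CfsgLib.Char.isCharacter_indFun _
    (CfsgLib.Char.irr_isCharacter (CfsgLib.Char.isIrrCharacter_linear (borelHom α β)))

theorem centralizer_eq_of_roots {g : G2} (hg : NonScalar (g : M2)) {k : ℕ}
    (hk : (roots (g : M2).trace (g : M2).det).card = k) :
    (Nat.card (Subgroup.centralizer ({g} : Set G2)) : ℂ) *
      ((Fintype.card F : ℂ) ^ 2 + (Fintype.card F : ℂ) * ((k : ℂ) - 1)
        - (if k = 1 then 1 else 0)) =
      ((Fintype.card F : ℂ) ^ 2 - 1) * ((Fintype.card F : ℂ) ^ 2 - Fintype.card F) := by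
  rw [← hk]
  exact card_centralizer_mul hg

theorem q_facts :
    (Fintype.card F : ℂ) ≠ 0 ∧ (Fintype.card F : ℂ) - 1 ≠ 0 ∧ (Fintype.card F : ℂ) + 1 ≠ 0 := by
  refine ⟨by exact_mod_cast Fintype.card_ne_zero, ?_, ?_⟩
  · rw [sub_ne_zero]; exact_mod_cast Fintype.one_lt_card.ne'
  · norm_cast

theorem centralizer_split {g : G2} {a b : F} (hab : a ≠ b) (ht : (g : M2).trace = a + b)
    (hd : (g : M2).det = a * b) :
    NonScalar (g : M2) ∧ (Nat.card (Subgroup.centralizer ({g} : Set G2)) : ℂ) =
      ((Fintype.card F : ℂ) - 1) ^ 2 := by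
  have hg : NonScalar (g : M2) := by
    intro c hc
    have h1 : a + b = c + c := by rw [← ht, hc]; simp; ring
    have h2 : a * b = c * c := by rw [← hd, hc]; simp; ring
    apply hab
    have hr := congrArg Finset.card (roots_pair hab)
    rw [h1, h2, roots_double, Finset.card_singleton, Finset.card_pair hab] at hr
    omega
  refine ⟨hg, ?_⟩
  have h := centralizer_eq_of_roots hg (k := 2) (by rw [ht, hd, roots_pair hab, Finset.card_pair hab])
  rw [if_neg (by norm_num)] at h
  obtain ⟨h1, h2, h3⟩ := q_facts (F := F)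
  apply mul_right_cancel₀ (mul_ne_zero h1 h3)
  push_cast at h
  linear_combination h

theorem centralizer_double {g : G2} (hg : NonScalar (g : M2)) {a : F}
    (ht : (g : M2).trace = a + a) (hd : (g : M2).det = a * a) :
    (Nat.card (Subgroup.centralizer ({g} : Set G2)) : ℂ) =
      (Fintype.card F : ℂ) * ((Fintype.card F : ℂ) - 1) := by
  have h := centralizer_eq_of_roots hg (k := 1) (by rw [ht, hd, roots_double, Finset.card_singleton])
  rw [if_pos rfl] at h
  obtain ⟨h1, h2, h3⟩ := q_facts (F := F)
  apply mul_right_cancel₀ (mul_ne_zero h2 h3)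
  push_cast at h
  linear_combination h

theorem centralizer_ell {g : G2} {x : E} (hx : ∀ a, algebraMap F E a ≠ x)
    (ht : (g : M2).trace = Algebra.trace F E x) (hd : (g : M2).det = Algebra.norm F x) :
    NonScalar (g : M2) ∧ (Nat.card (Subgroup.centralizer ({g} : Set G2)) : ℂ) =
      (Fintype.card F : ℂ) ^ 2 - 1 := by
  have hr := roots_eq_empty_of_mem hx ht.symm hd.symm
  have hg : NonScalar (g : M2) := by
    intro c hc
    have h1 : (g : M2).trace = c + c := by rw [hc]; simp; ring
    have h2 : (g : M2).det = c * c := by rw [hc]; simp; ring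
    rw [h1, h2, roots_double] at hr
    exact Finset.singleton_ne_empty c hr
  refine ⟨hg, ?_⟩
  have h := centralizer_eq_of_roots hg (k := 0) (by rw [hr]; rfl)
  rw [if_neg (by norm_num)] at h
  obtain ⟨h1, h2, h3⟩ := q_facts (F := F)
  apply mul_right_cancel₀ (mul_ne_zero h1 h2)
  push_cast at h
  linear_combination h

theorem isConj_utm {g : G2} (hg : NonScalar (g : M2)) (p : Fˣ × Fˣ × F) :
    IsConj g (utm p : G2) ↔ NonScalar ((utm p : G2) : M2) ∧
      (p.1 : F) + p.2.1 = (g : M2).trace ∧ (p.1 : F) * p.2.1 = (g : M2).det := by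
  have e1 : ((utm p : G2) : M2).trace = (p.1 : F) + p.2.1 := by simp [coe_utm, trace_fin_two]
  have e2 : ((utm p : G2) : M2).det = (p.1 : F) * p.2.1 := by simp [coe_utm, det_fin_two]
  constructor
  · intro h
    exact ⟨isConj_nonScalar h hg, e1 ▸ (isConj_trace_det h).1.symm, e2 ▸ (isConj_trace_det h).2.symm⟩
  · rintro ⟨h1, h2, h3⟩
    exact isConj_of_trace_det hg h1 (e1.symm ▸ h2.symm) (e2.symm ▸ h3.symm)

theorem tbl_I (α β : MulChar F ℂ) :
    IsTbl E (I α β) (fun a => ((Fintype.card F : ℂ) + 1) * (α a * β a)) (fun a => α a * β a)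
      (fun a b => α a * β b + α b * β a) (fun _ => 0) := by
  classical
  obtain ⟨hq0, hq1, hq2⟩ := q_facts (F := F)
  set θ : B2 → ℂ := fun b => α (((b : G2) : M2) 0 0) * β (((b : G2) : M2) 1 1)
  have hθ : ∀ p, θ (utm p) = α p.1 * β p.2.1 := fun p => by simp [θ, coe_utm]
  have key : ∀ g : G2, NonScalar (g : M2) → I α β g = (Nat.card B2 : ℂ)⁻¹ *
      (Nat.card (Subgroup.centralizer ({g} : Set G2)) : ℂ) *
      ∑ p : Fˣ × Fˣ × F, if NonScalar ((utm p : G2) : M2) ∧ (p.1 : F) + p.2.1 = (g : M2).trace ∧
        (p.1 : F) * p.2.1 = (g : M2).det then α p.1 * β p.2.1 else 0 := by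
    intro g hg
    rw [I, indFun_apply_eq]
    congr 1
    refine (Function.Bijective.sum_comp utm_bijective _).symm.trans ?_
    refine Finset.sum_congr rfl fun p _ => ?_
    simp only [isConj_utm hg]
    congr 1
  constructor
  · intro g a hga
    rw [I, CfsgLib.Char.indFun_def]
    have hgB : g ∈ B2 := mem_borel.mpr (by simp [hga])
    have hx : ∀ x : G2, x⁻¹ * g * x = g := fun x => by
      simpa using scalar_conj (x := x⁻¹) hga
    simp only [hx, CfsgLib.Char.extendByZero_of_mem _ hgB]
    rw [Finset.sum_const, Finset.card_univ, nsmul_eq_mul, ← Nat.card_eq_fintype_card, card_gl,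
      card_borel]
    simp [hga]
    field_simp
    ring
  · intro g a hg ht hd
    have ha : a ≠ 0 := fun h => det_ne_zero g (by rw [hd, h, zero_mul])
    rw [key g hg, card_borel, centralizer_double hg ht hd]
    have hcond : ∀ p : Fˣ × Fˣ × F, (NonScalar ((utm p : G2) : M2) ∧
        (p.1 : F) + p.2.1 = (g : M2).trace ∧ (p.1 : F) * p.2.1 = (g : M2).det) ↔
        p.1 = Units.mk0 a ha ∧ p.2.1 = Units.mk0 a ha ∧ p.2.2 ≠ 0 := by
      rintro ⟨x, y, n⟩
      rw [nonScalar_iff, ht, hd]
      simp only [coe_utm, Units.ext_iff, Units.val_mk0]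
      constructor
      · rintro ⟨hns, h1, h2⟩
        have hx : (x : F) ∈ roots (a + a) (a * a) := by
          simp only [roots, mem_filter, mem_univ, true_and]; rw [← h1, ← h2]; ring
        rw [roots_double, mem_singleton] at hx
        have hy : (y : F) = a := by linear_combination h1 - hx
        simpa [hx, hy] using hns
      · rintro ⟨rfl, hy, hn⟩
        simp [hy, hn]
    simp only [hcond, ite_and, Fintype.sum_prod_type]
    simp only [Finset.sum_ite_irrel, Finset.sum_const_zero, Finset.sum_ite_eq', mem_univ, if_true,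
      ne_eq, ite_not, Units.val_mk0]
    rw [← Finset.sum_erase (a := (0 : F)) _ (by simp), Finset.sum_congr rfl (fun n hn => by
      rw [if_neg (Finset.ne_of_mem_erase hn)]), Finset.sum_const,
      Finset.card_erase_of_mem (mem_univ _), Finset.card_univ, nsmul_eq_mul,
      Nat.cast_sub Fintype.card_pos, Nat.cast_one]
    field_simp
  · intro g a b hab ht hd
    have ha : a ≠ 0 := fun h => det_ne_zero g (by rw [hd, h, zero_mul])
    have hb : b ≠ 0 := fun h => det_ne_zero g (by rw [hd, h, mul_zero])
    obtain ⟨hg, hc⟩ := centralizer_split hab ht hd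
    rw [key g hg, card_borel, hc]
    have hcond : ∀ p : Fˣ × Fˣ × F, (if NonScalar ((utm p : G2) : M2) ∧
        (p.1 : F) + p.2.1 = (g : M2).trace ∧ (p.1 : F) * p.2.1 = (g : M2).det
          then α p.1 * β p.2.1 else 0) =
        (if p.1 = Units.mk0 a ha ∧ p.2.1 = Units.mk0 b hb then α p.1 * β p.2.1 else 0) +
        (if p.1 = Units.mk0 b hb ∧ p.2.1 = Units.mk0 a ha then α p.1 * β p.2.1 else 0) := by
      rintro ⟨x, y, n⟩
      rw [ht, hd]
      simp only [nonScalar_iff, coe_utm, Units.ext_iff, Units.val_mk0]
      by_cases h : (x : F) + y = a + b ∧ (x : F) * y = a * b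
      · obtain ⟨h1, h2⟩ := h
        have hx : (x : F) ∈ roots (a + b) (a * b) := by
          simp only [roots, mem_filter, mem_univ, true_and]; rw [← h1, ← h2]; ring
        rw [roots_pair hab, mem_insert, mem_singleton] at hx
        rcases hx with hx | hx
        · have hy : (y : F) = b := by linear_combination h1 - hx
          simp [hx, hy, hab]
        · have hy : (y : F) = a := by linear_combination h1 - hx
          simp [hx, hy, hab, Ne.symm hab, add_comm b a, mul_comm b a]
      · rw [if_neg (fun h' => h h'.2), if_neg, if_neg, add_zero]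
        · rintro ⟨rfl, rfl⟩; exact h ⟨add_comm _ _, mul_comm _ _⟩
        · rintro ⟨rfl, rfl⟩; exact h ⟨rfl, rfl⟩
    simp only [hcond, Finset.sum_add_distrib, ite_and, Fintype.sum_prod_type]
    simp only [Finset.sum_ite_irrel, Finset.sum_const_zero, Finset.sum_ite_eq', mem_univ, if_true,
      Units.val_mk0, Finset.sum_const, Finset.card_univ, nsmul_eq_mul]
    field_simp
  · intro g x hx ht hd
    obtain ⟨hg, hc⟩ := centralizer_ell hx ht hd
    rw [key g hg, Finset.sum_eq_zero, mul_zero]
    rintro ⟨u, v, n⟩ -
    rw [if_neg]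
    rintro ⟨-, h1, h2⟩
    have hr := roots_eq_empty_of_mem hx ht.symm hd.symm
    have hu : (u : F) ∈ roots (g : M2).trace (g : M2).det := by
      simp only [roots, mem_filter, mem_univ, true_and]; rw [← h1, ← h2]; ring
    rw [hr] at hu
    exact Finset.notMem_empty _ hu

end Borel

end CfsgLib.KnownB.GL2
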