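import Mathlib

/-!
# Conjugacy in `GL₂(F)`, counting by trace and determinant, the quadratic extension
-/

set_option autoImplicit false

namespace CfsgLib.KnownB.GL2

open Matrix Finset
open scoped MatrixGroups

variable {F : Type*} [Field F]

/-- A `2 × 2` matrix which is not a scalar matrix. -/
def NonScalar (M : Matrix (Fin 2) (Fin 2) F) : Prop := ∀ a : F, M ≠ a • 1

theorem scalar_apply_zero {M : Matrix (Fin 2) (Fin 2) F} {a : F} (h : M = a • 1) : M 0 0 = a := by
  simp [h]

theorem nonScalar_iff (M : Matrix (Fin 2) (Fin 2) F) :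
    NonScalar M ↔ M 0 1 ≠ 0 ∨ M 1 0 ≠ 0 ∨ M 0 0 ≠ M 1 1 := by
  constructor
  · intro h
    by_contra hc
    push Not at hc
    obtain ⟨h1, h2, h3⟩ := hc
    apply h (M 0 0)
    ext i j
    fin_cases i <;> fin_cases j <;> simp [h1, h2, h3]
  · rintro h a rfl
    simp at h

/-- The companion matrix of `X² - tX + d`. -/
def comp (t d : F) : Matrix (Fin 2) (Fin 2) F := !![0, -d; 1, t]

@[simp] theorem trace_comp (t d : F) : (comp t d).trace = t := by simp [comp, trace_fin_two]

@[simp] theorem det_comp (t d : F) : (comp t d).det = d := by simp [comp, det_fin_two]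

theorem nonScalar_comp (t d : F) : NonScalar (comp t d) := by
  rw [nonScalar_iff]; simp [comp]

theorem exists_to_comp {M : Matrix (Fin 2) (Fin 2) F} (h : NonScalar M) :
    ∃ P : Matrix (Fin 2) (Fin 2) F, P.det ≠ 0 ∧ M * P = P * comp M.trace M.det := by
  rw [nonScalar_iff] at h
  by_cases h10 : M 1 0 = 0
  · by_cases h01 : M 0 1 = 0
    · have h3 : M 0 0 ≠ M 1 1 := by tauto
      refine ⟨!![1, M 0 0; 1, M 1 1], ?_, ?_⟩
      · simpa [det_fin_two] using sub_ne_zero.mpr (Ne.symm h3)
      · ext i j
        fin_cases i <;> fin_cases j <;>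
          simp [comp, Matrix.mul_apply, Fin.sum_univ_two, trace_fin_two, det_fin_two, h10, h01]
        all_goals ring
    · refine ⟨!![0, M 0 1; 1, M 1 1], by simpa [det_fin_two] using h01, ?_⟩
      ext i j
      fin_cases i <;> fin_cases j <;>
        simp [comp, Matrix.mul_apply, Fin.sum_univ_two, trace_fin_two, det_fin_two, h10]
      all_goals ring
  · refine ⟨!![1, M 0 0; 0, M 1 0], by simpa [det_fin_two] using h10, ?_⟩
    ext i j
    fin_cases i <;> fin_cases j <;>
      simp [comp, Matrix.mul_apply, Fin.sum_univ_two, trace_fin_two, det_fin_two]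
    all_goals ring

theorem det_ne_zero (g : GL (Fin 2) F) : (g : Matrix (Fin 2) (Fin 2) F).det ≠ 0 := by
  rw [← Matrix.GeneralLinearGroup.val_det_apply]
  exact Units.ne_zero _

theorem trace_conj (x g : GL (Fin 2) F) :
    ((x * g * x⁻¹ : GL (Fin 2) F) : Matrix (Fin 2) (Fin 2) F).trace =
      (g : Matrix (Fin 2) (Fin 2) F).trace := by
  simp only [Units.val_mul]
  rw [trace_mul_cycle]
  simp

theorem det_conj (x g : GL (Fin 2) F) :
    ((x * g * x⁻¹ : GL (Fin 2) F) : Matrix (Fin 2) (Fin 2) F).det =
      (g : Matrix (Fin 2) (Fin 2) F).det := by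
  have : Matrix.GeneralLinearGroup.det (x * g * x⁻¹) = Matrix.GeneralLinearGroup.det g := by
    rw [map_mul, map_mul, map_inv, mul_comm, inv_mul_cancel_left]
  exact congrArg Units.val this

theorem scalar_conj {x g : GL (Fin 2) F} {a : F} (h : (g : Matrix (Fin 2) (Fin 2) F) = a • 1) :
    x * g * x⁻¹ = g := by
  ext1
  simp only [Units.val_mul, h, Matrix.mul_smul, mul_one, Matrix.smul_mul]
  rw [← Units.val_mul, mul_inv_cancel, Units.val_one]

theorem isConj_trace_det {g h : GL (Fin 2) F} (hc : IsConj g h) :
    (g : Matrix (Fin 2) (Fin 2) F).trace = (h : Matrix (Fin 2) (Fin 2) F).trace ∧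
      (g : Matrix (Fin 2) (Fin 2) F).det = (h : Matrix (Fin 2) (Fin 2) F).det := by
  obtain ⟨x, rfl⟩ := isConj_iff.mp hc
  exact ⟨(trace_conj x g).symm, (det_conj x g).symm⟩

theorem isConj_nonScalar {g h : GL (Fin 2) F} (hc : IsConj g h)
    (hg : NonScalar (g : Matrix (Fin 2) (Fin 2) F)) : NonScalar (h : Matrix (Fin 2) (Fin 2) F) := by
  intro a ha
  obtain ⟨x, rfl⟩ := isConj_iff.mp hc
  have := scalar_conj (x := x⁻¹) ha
  simp only [inv_inv] at this
  rw [show x⁻¹ * (x * g * x⁻¹) * x = g by group] at this
  rw [← this] at ha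
  exact hg a ha

theorem isConj_of_trace_det {g h : GL (Fin 2) F} (hg : NonScalar (g : Matrix (Fin 2) (Fin 2) F))
    (hh : NonScalar (h : Matrix (Fin 2) (Fin 2) F))
    (ht : (g : Matrix (Fin 2) (Fin 2) F).trace = (h : Matrix (Fin 2) (Fin 2) F).trace)
    (hd : (g : Matrix (Fin 2) (Fin 2) F).det = (h : Matrix (Fin 2) (Fin 2) F).det) :
    IsConj g h := by
  obtain ⟨P, hP, hgP⟩ := exists_to_comp hg
  obtain ⟨Q, hQ, hhQ⟩ := exists_to_comp hh
  let p := Matrix.GeneralLinearGroup.mkOfDetNeZero P hP
  let r := Matrix.GeneralLinearGroup.mkOfDetNeZero Q hQ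
  let c := Matrix.GeneralLinearGroup.mkOfDetNeZero
    (comp (g : Matrix (Fin 2) (Fin 2) F).trace (g : Matrix (Fin 2) (Fin 2) F).det)
    (by rw [det_comp]; exact det_ne_zero g)
  have h1 : g * p = p * c := Units.ext hgP
  have h2 : h * r = r * c := Units.ext (by
    show (h : Matrix (Fin 2) (Fin 2) F) * Q = Q * comp (g : Matrix (Fin 2) (Fin 2) F).trace
      (g : Matrix (Fin 2) (Fin 2) F).det
    rw [ht, hd]; exact hhQ)
  have e1 : p⁻¹ * g * p = c := by rw [mul_assoc, h1, inv_mul_cancel_left]
  have e2 : r * c * r⁻¹ = h := by rw [← h2, mul_inv_cancel_right]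
  refine isConj_iff.mpr ⟨r * p⁻¹, ?_⟩
  rw [← e2, ← e1]; group

/-- The element of `GL₂` with given trace and nonzero determinant. -/
noncomputable def compGL (t d : F) (hd : d ≠ 0) : GL (Fin 2) F :=
  Matrix.GeneralLinearGroup.mkOfDetNeZero (comp t d) (by rwa [det_comp])

@[simp] theorem coe_compGL (t d : F) (hd : d ≠ 0) :
    (compGL t d hd : Matrix (Fin 2) (Fin 2) F) = comp t d := rfl

/-- Roots in `F` of `X² - tX + d`. -/
def roots [Fintype F] [DecidableEq F] (t d : F) : Finset F :=
  Finset.univ.filter fun a => a * (t - a) = d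

theorem quad_roots {K : Type*} [Field K] {t d x y : K} (hx : x * (t - x) = d)
    (hy : y * (t - y) = d) : y = x ∨ y = t - x := by
  have : (y - x) * (t - x - y) = 0 := by linear_combination hy - hx
  rcases mul_eq_zero.mp this with h | h
  · exact Or.inl (sub_eq_zero.mp h)
  · exact Or.inr (by linear_combination -h)

section Count

variable [Fintype F] [DecidableEq F]

theorem card_mul_eq (m : F) :
    (Finset.univ.filter fun p : F × F => p.1 * p.2 = m).card + 1 =
      Fintype.card F + if m = 0 then Fintype.card F else 0 := by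
  split_ifs with hm
  · subst hm
    have h1 : (Finset.univ.filter fun p : F × F => p.1 * p.2 = 0) =
        ({0} ×ˢ Finset.univ) ∪ (Finset.univ ×ˢ {0}) := by
      ext ⟨a, b⟩; simp [eq_comm]
    have h2 : (({0} : Finset F) ×ˢ (Finset.univ : Finset F)) ∩ (Finset.univ ×ˢ {0}) = {(0, 0)} := by
      ext ⟨a, b⟩; simp [eq_comm]
    have := Finset.card_union_add_card_inter (({0} : Finset F) ×ˢ (Finset.univ : Finset F))
      (Finset.univ ×ˢ {0})
    rw [← h1, h2] at this
    simpa using this
  · have h1 : (Finset.univ.filter fun p : F × F => p.1 * p.2 = m) =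
        (Finset.univ.erase (0 : F)).image (fun b => (b, b⁻¹ * m)) := by
      ext ⟨a, b⟩
      simp only [mem_filter, mem_univ, true_and, mem_image, mem_erase, and_true, Prod.mk.injEq]
      constructor
      · intro h
        have ha : a ≠ 0 := fun h0 => hm (by simp [← h, h0])
        exact ⟨a, ha, rfl, by rw [← h, inv_mul_cancel_left₀ ha]⟩
      · rintro ⟨c, hc, rfl, rfl⟩
        rw [mul_inv_cancel_left₀ hc]
    rw [h1, Finset.card_image_of_injective _ fun a b h => congrArg Prod.fst h,
      Finset.card_erase_of_mem (mem_univ _), Finset.card_univ]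
    have := Fintype.card_pos (α := F)
    omega

/-- The number of matrices with given trace and determinant. -/
theorem card_trace_det (t d : F) :
    (Finset.univ.filter fun M : Matrix (Fin 2) (Fin 2) F => M.trace = t ∧ M.det = d).card
        + Fintype.card F = Fintype.card F ^ 2 + Fintype.card F * (roots t d).card := by
  have h1 : (Finset.univ.filter fun M : Matrix (Fin 2) (Fin 2) F => M.trace = t ∧ M.det = d).card =
      ((Finset.univ : Finset F).sigma fun a =>
        Finset.univ.filter fun p : F × F => p.1 * p.2 = a * (t - a) - d).card := by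
    refine Finset.card_bij' (fun M _ => ⟨M 0 0, M 0 1, M 1 0⟩)
      (fun x _ => !![x.1, x.2.1; x.2.2, t - x.1]) ?_ ?_ ?_ ?_
    · intro M hM
      simp only [mem_filter, mem_univ, true_and, trace_fin_two, det_fin_two] at hM
      simp only [mem_sigma, mem_univ, mem_filter, true_and]
      rw [← hM.1, ← hM.2]; ring
    · rintro ⟨a, b, c⟩ hx
      simp only [mem_sigma, mem_univ, mem_filter, true_and] at hx
      simp only [mem_filter, mem_univ, true_and, trace_fin_two, det_fin_two]
      refine ⟨by simp, ?_⟩
      simp only [of_apply, cons_val', cons_val_zero, cons_val_one, empty_val', cons_val_fin_one]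
      linear_combination -hx
    · intro M hM
      simp only [mem_filter, mem_univ, true_and, trace_fin_two] at hM
      ext i j
      fin_cases i <;> fin_cases j <;> simp [← hM.1]
    · rintro ⟨a, b, c⟩ _
      simp
  rw [h1, Finset.card_sigma]
  have h2 := Finset.sum_congr (s₁ := (Finset.univ : Finset F)) rfl
    (fun a _ => card_mul_eq (a * (t - a) - d))
  rw [Finset.sum_add_distrib, Finset.sum_add_distrib, ← Finset.sum_filter] at h2
  simp only [Finset.sum_const, Finset.card_univ, smul_eq_mul, mul_one, sub_eq_zero] at h2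
  rw [h2, roots, sq]
  ring

theorem card_roots_le (t d : F) : (roots t d).card ≤ 2 := by
  rcases (roots t d).eq_empty_or_nonempty with h | ⟨a, ha⟩
  · simp [h]
  · refine le_trans (Finset.card_le_card (t := {a, t - a}) fun b hb => ?_) Finset.card_le_two
    simp only [roots, mem_filter, mem_univ, true_and] at ha hb
    simpa using quad_roots ha hb

theorem roots_double (a : F) : roots (a + a) (a * a) = {a} := by
  ext b
  simp only [roots, mem_filter, mem_univ, true_and, mem_singleton]
  constructor
  · intro h
    have : (b - a) ^ 2 = 0 := by linear_combination -h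
    exact sub_eq_zero.mp (sq_eq_zero_iff.mp this)
  · rintro rfl; ring

theorem roots_pair {a b : F} (h : a ≠ b) : roots (a + b) (a * b) = {a, b} := by
  ext c
  simp only [roots, mem_filter, mem_univ, true_and, mem_insert, mem_singleton]
  constructor
  · intro hc
    have ha : a * (a + b - a) = a * b := by ring
    rcases quad_roots ha hc with rfl | rfl
    · exact Or.inl rfl
    · exact Or.inr (by ring)
  · rintro (rfl | rfl) <;> ring

theorem sum_roots {β : Type*} [AddCommMonoid β] (h : F → F → β) :
    ∑ a : F, ∑ b : F, h (a + b) (a * b) = ∑ t : F, ∑ d : F, (roots t d).card • h t d := by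
  have : ∀ t d : F, (roots t d).card • h t d = ∑ a : F, if a * (t - a) = d then h t d else 0 := by
    intro t d
    rw [← Finset.sum_filter, Finset.sum_const]; rfl
  simp only [this]
  conv_rhs => enter [2, t]; rw [Finset.sum_comm]
  simp only [Finset.sum_ite_eq, mem_univ, if_true]
  conv_rhs => rw [Finset.sum_comm]
  exact Finset.sum_congr rfl fun a _ =>
    Fintype.sum_equiv (Equiv.addLeft a) _ _ fun b => by simp

end Count

section Quad

variable (E : Type*) [Field E] [Algebra F E]

/-- `E` is a quadratic extension of the finite field `F`. -/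
class IsQuad (F E : Type*) [Field F] [Field E] [Algebra F E] : Prop where
  finrank_eq : Module.finrank F E = 2

theorem exists_quad (F : Type*) [Field F] [Fintype F] :
    ∃ (E : Type) (_ : Field E) (_ : Fintype E) (_ : Algebra F E), IsQuad F E := by
  obtain ⟨p, hp⟩ := CharP.exists F
  have : Fact p.Prime := ⟨CharP.char_is_prime F p⟩
  exact ⟨FiniteField.Extension F p 2, inferInstance, Fintype.ofFinite _, inferInstance,
    ⟨FiniteField.finrank_extension F p 2⟩⟩

variable {E}

section

variable [IsQuad F E]

local notation "N" => Algebra.norm F (S := E)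
local notation "T" => Algebra.trace F E

theorem card_quad [Fintype F] [Fintype E] : Fintype.card E = Fintype.card F ^ 2 := by
  have : Module.Finite F E := Module.finite_of_finrank_pos (by rw [IsQuad.finrank_eq]; norm_num)
  have := Module.card_eq_pow_finrank (K := F) (V := E)
  rwa [IsQuad.finrank_eq] at this

theorem algebraMap_T [Fintype F] [Fintype E] (x : E) :
    algebraMap F E (T x) = x + x ^ Fintype.card F := by
  rw [FiniteField.algebraMap_trace_eq_sum_pow, IsQuad.finrank_eq, Finset.sum_range_succ,
    Finset.sum_range_one]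
  simp [Nat.card_eq_fintype_card]

theorem algebraMap_N [Fintype F] [Fintype E] (x : E) :
    algebraMap F E (N x) = x * x ^ Fintype.card F := by
  rw [FiniteField.algebraMap_norm_eq_prod_pow, IsQuad.finrank_eq, Finset.prod_range_succ,
    Finset.prod_range_one]
  simp [Nat.card_eq_fintype_card]

theorem T_algebraMap (a : F) : T (algebraMap F E a) = a + a := by
  rw [Algebra.trace_algebraMap, IsQuad.finrank_eq, two_nsmul]

theorem N_algebraMap (a : F) : N (algebraMap F E a) = a * a := by
  rw [Algebra.norm_algebraMap, IsQuad.finrank_eq, sq]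

theorem root_of_quad [Fintype F] [Fintype E] {x : E} {t d : F} (ht : T x = t) (hd : N x = d) :
    x * (algebraMap F E t - x) = algebraMap F E d := by
  rw [← ht, ← hd, algebraMap_T, algebraMap_N]; ring

variable [Fintype F] [DecidableEq F] [Fintype E] [DecidableEq E]

/-- Elements of `E` with trace `t` and norm `d`. -/
noncomputable def eroots (t d : F) : Finset E :=
  Finset.univ.filter fun x => T x = t ∧ N x = d

theorem roots_add_eroots_le (t d : F) : (roots t d).card + (eroots (E := E) t d).card ≤ 2 := by
  rcases (eroots (E := E) t d).eq_empty_or_nonempty with h | ⟨x, hx⟩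
  · simpa [h] using card_roots_le t d
  simp only [eroots, mem_filter, mem_univ, true_and] at hx
  have hxq := root_of_quad hx.1 hx.2
  by_cases hxF : ∃ a : F, algebraMap F E a = x
  · obtain ⟨a, rfl⟩ := hxF
    rw [T_algebraMap, N_algebraMap] at hx
    obtain ⟨rfl, rfl⟩ := hx
    have : eroots (E := E) (a + a) (a * a) ⊆ {algebraMap F E a} := by
      intro y hy
      simp only [eroots, mem_filter, mem_univ, true_and] at hy
      have hyq := root_of_quad hy.1 hy.2
      rcases quad_roots hxq hyq with h | h
      · simp [h]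
      · simp [h]
    have := Finset.card_le_card this
    rw [roots_double, Finset.card_singleton] at *
    omega
  · have h0 : roots t d = ∅ := by
      rw [Finset.eq_empty_iff_forall_notMem]
      intro a ha
      simp only [roots, mem_filter, mem_univ, true_and] at ha
      have ha' : algebraMap F E a * (algebraMap F E t - algebraMap F E a) = algebraMap F E d := by
        rw [← map_sub, ← map_mul, ha]
      rcases quad_roots ha' hxq with h | h
      · exact hxF ⟨a, h.symm⟩
      · exact hxF ⟨t - a, by rw [map_sub]; exact h.symm⟩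
    have : eroots (E := E) t d ⊆ {x, algebraMap F E t - x} := by
      intro y hy
      simp only [eroots, mem_filter, mem_univ, true_and] at hy
      simpa using quad_roots hxq (root_of_quad hy.1 hy.2)
    have := (Finset.card_le_card this).trans Finset.card_le_two
    simp [h0]; omega

omit [IsQuad F E] [DecidableEq E] in
theorem sum_eroots {β : Type*} [AddCommMonoid β] (h : F → F → β) :
    ∑ x : E, h (T x) (N x) =
      ∑ t : F, ∑ d : F, (eroots (E := E) t d).card • h t d := by
  have : ∀ t d : F, (eroots (E := E) t d).card • h t d =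
      ∑ x : E, if T x = t then (if N x = d then h t d else 0) else 0 := by
    intro t d
    simp only [← ite_and]
    rw [← Finset.sum_filter, Finset.sum_const]; rfl
  simp only [this]
  conv_rhs => enter [2, t]; rw [Finset.sum_comm]
  rw [Finset.sum_comm]
  refine Finset.sum_congr rfl fun x _ => ?_
  rw [Finset.sum_eq_single (T x) (fun t _ ht => by simp [Ne.symm ht]) (by simp)]
  simp

/-- Every monic quadratic has two roots in `E`, counted with multiplicity. -/
theorem roots_add_eroots (t d : F) : (roots t d).card + (eroots (E := E) t d).card = 2 := by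
  have h1 : ∑ p : F × F, ((roots p.1 p.2).card + (eroots (E := E) p.1 p.2).card) =
      ∑ _p : F × F, 2 := by
    rw [Finset.sum_add_distrib, Fintype.sum_prod_type, Fintype.sum_prod_type]
    have a := sum_roots (F := F) (fun _ _ => (1 : ℕ))
    have b := sum_eroots (F := F) (E := E) (fun _ _ => (1 : ℕ))
    simp only [smul_eq_mul, mul_one, Finset.sum_const, Finset.card_univ] at a b
    rw [← a, ← b, card_quad (F := F) (E := E), Finset.sum_const, Finset.card_univ,
      Fintype.card_prod, smul_eq_mul]
    ring
  exact (Finset.sum_eq_sum_iff_of_le fun p _ => roots_add_eroots_le p.1 p.2).mp h1 (t, d)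
    (mem_univ _)

/-- Either the roots lie in `F`, or there is a root in `E` outside `F`. -/
theorem roots_cases (E : Type*) [Field E] [Algebra F E] [IsQuad F E] [Fintype E] (t d : F) :
    (∃ a b : F, t = a + b ∧ d = a * b) ∨
      ∃ x : E, (∀ a, algebraMap F E a ≠ x) ∧ Algebra.trace F E x = t ∧
        Algebra.norm F x = d := by
  classical
  rcases (roots t d).eq_empty_or_nonempty with h | ⟨a, ha⟩
  · have h2 := roots_add_eroots (E := E) t d
    rw [h, Finset.card_empty, zero_add] at h2
    obtain ⟨x, hx⟩ := Finset.card_pos.mp (show 0 < (eroots (E := E) t d).card by omega)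
    simp only [eroots, mem_filter, mem_univ, true_and] at hx
    refine Or.inr ⟨x, ?_, hx⟩
    rintro a rfl
    rw [T_algebraMap, N_algebraMap] at hx
    rw [← hx.1, ← hx.2, roots_double] at h
    exact Finset.singleton_ne_empty a h
  · simp only [roots, mem_filter, mem_univ, true_and] at ha
    exact Or.inl ⟨a, t - a, by ring, ha.symm⟩

omit [DecidableEq E] in
theorem roots_eq_empty_of_mem {t d : F} {x : E} (hx : ∀ a, algebraMap F E a ≠ x)
    (ht : T x = t) (hd : N x = d) : roots t d = ∅ := by
  rw [Finset.eq_empty_iff_forall_notMem]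
  intro a ha
  simp only [roots, mem_filter, mem_univ, true_and] at ha
  have ha' : algebraMap F E a * (algebraMap F E t - algebraMap F E a) = algebraMap F E d := by
    rw [← map_sub, ← map_mul, ha]
  rcases quad_roots ha' (root_of_quad ht hd) with h | h
  · exact hx a h.symm
  · exact hx (t - a) (by rw [map_sub]; exact h.symm)

theorem matrix_sum {h : F → F → ℂ} :
    2 * ∑ M : Matrix (Fin 2) (Fin 2) F, h M.trace M.det =
      ((Fintype.card F : ℂ) ^ 2 + Fintype.card F) * ∑ a : F, ∑ b : F, h (a + b) (a * b) +
      ((Fintype.card F : ℂ) ^ 2 - Fintype.card F) * ∑ x : E, h (T x) (N x) := by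
  have h1 : ∑ M : Matrix (Fin 2) (Fin 2) F, h M.trace M.det = ∑ t : F, ∑ d : F,
      ((Finset.univ.filter fun M : Matrix (Fin 2) (Fin 2) F =>
        M.trace = t ∧ M.det = d).card : ℂ) * h t d := by
    rw [← Finset.sum_fiberwise Finset.univ
      (fun M : Matrix (Fin 2) (Fin 2) F => (M.trace, M.det)), Fintype.sum_prod_type]
    refine Finset.sum_congr rfl fun t _ => Finset.sum_congr rfl fun d _ => ?_
    simp only [Prod.mk.injEq]
    rw [Finset.sum_congr rfl (g := fun _ => h t d) fun M hM => by
      simp only [mem_filter, mem_univ, true_and] at hM; rw [hM.1, hM.2],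
      Finset.sum_const, nsmul_eq_mul]
  rw [h1, sum_roots, sum_eroots]
  simp only [Finset.mul_sum, ← Finset.sum_add_distrib, nsmul_eq_mul]
  refine Finset.sum_congr rfl fun t _ => Finset.sum_congr rfl fun d _ => ?_
  have e1 : ((Finset.univ.filter fun M : Matrix (Fin 2) (Fin 2) F =>
        M.trace = t ∧ M.det = d).card : ℂ) + Fintype.card F =
      (Fintype.card F : ℂ) ^ 2 + Fintype.card F * (roots t d).card := by
    exact_mod_cast card_trace_det t d
  have e2 : ((roots t d).card : ℂ) + (eroots (E := E) t d).card = 2 := by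
    exact_mod_cast roots_add_eroots (E := E) t d
  linear_combination (2 * h t d) * e1 -
    (((Fintype.card F : ℂ) ^ 2 - Fintype.card F) * h t d) * e2

end

end Quad

end CfsgLib.KnownB.GL2
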