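import Cfsg.Agent.Lib.KnownB.GL2Irr

/-!
# Classification of the irreducible characters of `GL₂(F)`
-/

set_option autoImplicit false

namespace CfsgLib.KnownB.GL2

open Matrix Finset
open scoped MatrixGroups ComplexConjugate

variable {F : Type*} [Field F] [Fintype F] [DecidableEq F]
variable {E : Type*} [Field E] [Algebra F E] [IsQuad F E] [Fintype E]

local notation "G2" => GL (Fin 2) F
local notation "M2" => Matrix (Fin 2) (Fin 2) F
local notation "q" => (Fintype.card F : ℂ)

theorem IsTbl.ext {f f' : GL (Fin 2) F → ℂ} {A A' B B' : F → ℂ} {C C' : F → F → ℂ} {D D' : E → ℂ}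
    (h : IsTbl E f A B C D) (h' : IsTbl E f' A' B' C' D')
    (hA : ∀ a, a ≠ 0 → A a = A' a) (hB : ∀ a, a ≠ 0 → B a = B' a)
    (hC : ∀ a b, a ≠ 0 → b ≠ 0 → a ≠ b → C a b = C' a b)
    (hD : ∀ x, (∀ a, algebraMap F E a ≠ x) → D x = D' x) : f = f' := by
  funext g
  rcases gl_cases E g with ⟨a, ha, hg⟩ | ⟨hg, a, ha, h1, h2⟩ | ⟨a, b, ha, hb, hab, h1, h2⟩ |
    ⟨x, hx, h1, h2⟩
  · rw [h.scalar g a hg, h'.scalar g a hg, hA a ha]
  · rw [h.double g a hg h1 h2, h'.double g a hg h1 h2, hB a ha]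
  · rw [h.split g a b hab h1 h2, h'.split g a b hab h1 h2, hC a b ha hb hab]
  · rw [h.ell g x hx h1 h2, h'.ell g x hx h1 h2, hD x hx]

theorem IsTbl.add {f f' : GL (Fin 2) F → ℂ} {A A' B B' : F → ℂ} {C C' : F → F → ℂ} {D D' : E → ℂ}
    (h : IsTbl E f A B C D) (h' : IsTbl E f' A' B' C' D') :
    IsTbl E (f + f') (A + A') (B + B') (C + C') (D + D') where
  scalar g a hg := by simp [h.scalar g a hg, h'.scalar g a hg]
  double g a h1 h2 h3 := by simp [h.double g a h1 h2 h3, h'.double g a h1 h2 h3]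
  split g a b h1 h2 h3 := by simp [h.split g a b h1 h2 h3, h'.split g a b h1 h2 h3]
  ell g x h1 h2 h3 := by simp [h.ell g x h1 h2 h3, h'.ell g x h1 h2 h3]

theorem IsTbl.sub {f f' : GL (Fin 2) F → ℂ} {A A' B B' : F → ℂ} {C C' : F → F → ℂ} {D D' : E → ℂ}
    (h : IsTbl E f A B C D) (h' : IsTbl E f' A' B' C' D') :
    IsTbl E (f - f') (A - A') (B - B') (C - C') (D - D') where
  scalar g a hg := by simp [h.scalar g a hg, h'.scalar g a hg]
  double g a h1 h2 h3 := by simp [h.double g a h1 h2 h3, h'.double g a h1 h2 h3]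
  split g a b h1 h2 h3 := by simp [h.split g a b h1 h2 h3, h'.split g a b h1 h2 h3]
  ell g x h1 h2 h3 := by simp [h.ell g x h1 h2 h3, h'.ell g x h1 h2 h3]

omit [Algebra F E] [IsQuad F E] in
theorem I_comm (α β : MulChar F ℂ) : I α β = I β α := by
  obtain ⟨E', _, _, _, _⟩ := exists_quad F
  exact (tbl_I (E := E') α β).ext (tbl_I β α) (fun a _ => by ring) (fun a _ => by ring)
    (fun a b _ _ _ => by ring) (fun x _ => rfl)

theorem X_pow (ν : MulChar E ℂ) : X (F := F) (ν ^ Fintype.card F) = X ν := by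
  refine (tbl_X (F := F) _).ext (tbl_X ν) (fun a _ => ?_) (fun a _ => ?_)
    (fun a b _ _ _ => rfl) (fun x _ => ?_)
  · rw [MulChar.pow_apply' _ Fintype.card_ne_zero, ← map_pow, algebraMap_pow_q]
  · rw [MulChar.pow_apply' _ Fintype.card_ne_zero, ← map_pow, algebraMap_pow_q]
  · rw [MulChar.pow_apply' _ Fintype.card_ne_zero, MulChar.pow_apply' _ Fintype.card_ne_zero,
      ← map_pow, ← map_pow, pow_q_q, add_comm]

omit [Algebra F E] [IsQuad F E] in
theorem I_self (χ : MulChar F ℂ) : I χ χ = St χ + detC χ := by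
  obtain ⟨E', _, _, _, _⟩ := exists_quad F
  refine (tbl_I (E := E') χ χ).ext ((tbl_St χ).add (tbl_detC χ)) (fun a _ => ?_) (fun a _ => ?_)
    (fun a b _ _ _ => ?_) (fun x _ => ?_) <;> simp <;> ring

theorem X_compN (χ : MulChar F ℂ) : X (compN E χ) = St χ - detC χ := by
  refine (tbl_X (F := F) _).ext ((tbl_St χ).sub (tbl_detC χ)) (fun a _ => ?_) (fun a _ => ?_)
    (fun a b _ _ _ => ?_) (fun x _ => ?_)
  · simp [Algebra.norm_algebraMap, IsQuad.finrank_eq]; ring
  · simp [Algebra.norm_algebraMap, IsQuad.finrank_eq]; ring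
  · simp
  · simp [N_pow, -map_pow]; ring

omit [Algebra F E] [IsQuad F E] in
theorem isIrr_of_norm_one {θ : GL (Fin 2) F → ℂ}
    (hg : Cfsg.IsGeneralizedCharacter (GL (Fin 2) F) θ) (hn : Cfsg.classInner θ θ = 1)
    {d : ℕ} (hd : θ 1 = (d : ℂ)) : Cfsg.IsIrrCharacter (GL (Fin 2) F) θ := by
  rcases CfsgLib.Char.isGeneralized_norm_one hg hn with h | h
  · exact h
  · exfalso
    obtain ⟨k, hk⟩ := CfsgLib.Char.char_apply_one_eq_nat (CfsgLib.Char.irr_isCharacter h)
    have h0 := CfsgLib.Char.irr_apply_one_ne_zero h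
    simp only [Pi.neg_apply, hd] at hk h0
    have : ((d + k : ℕ) : ℂ) = 0 := by push_cast; linear_combination -hk
    rw [Nat.cast_eq_zero] at this
    exact h0 (by simp [show d = 0 by omega])

omit [Algebra F E] [IsQuad F E] in
theorem isIrr_I {α β : MulChar F ℂ} (h : α ≠ β) :
    Cfsg.IsIrrCharacter (GL (Fin 2) F) (I α β) := by
  refine isIrr_of_norm_one (CfsgLib.Char.isGeneralized_of_isCharacter (isCharacter_I α β)) ?_
    (d := Fintype.card F + 1) (by simp [I_one])
  rw [inner_I_I]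
  simp [h, Ne.symm h]

theorem isIrr_X {ν : MulChar E ℂ} (h : ν ^ Fintype.card F ≠ ν) :
    Cfsg.IsIrrCharacter (GL (Fin 2) F) (X ν) := by
  refine isIrr_of_norm_one (isGeneralized_X ν) ?_ (d := Fintype.card F - 1) ?_
  · rw [inner_X_X, if_pos rfl, if_neg (Ne.symm h), add_zero]
  · rw [X_one, Nat.cast_sub Fintype.card_pos, Nat.cast_one]

omit [Algebra F E] [IsQuad F E] in
theorem inner_detC_St (χ χ' : MulChar F ℂ) :
    Cfsg.classInner (detC χ) (St χ') = 0 ∧
    Cfsg.classInner (St χ) (St χ') = (if χ = χ' then 1 else 0) ∧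
    Cfsg.classInner (detC χ) (detC χ') = (if χ = χ' then 1 else 0) := by
  classical
  obtain ⟨E', _, _, _, _⟩ := exists_quad F
  set N := compN E' (F := F)
  have e1 : ∀ c : MulChar F ℂ, detC c = (1 / 2 : ℂ) • (I c c - X (compN E' c)) := fun c => by
    rw [I_self, X_compN]; funext g; simp; ring
  have e2 : ∀ c : MulChar F ℂ, St c = (1 / 2 : ℂ) • (I c c + X (compN E' c)) := fun c => by
    rw [I_self, X_compN]; funext g; simp; ring
  have hXI : ∀ (a b : MulChar F ℂ),
      Cfsg.classInner (X (compN E' a)) (I b b) = 0 := fun a b => by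
    rw [← CfsgLib.Char.classInner_conj_symm, inner_I_X, map_zero]
  simp only [e1, e2, CfsgLib.Char.classInner_smul_left, CfsgLib.Char.classInner_smul_right,
    CfsgLib.Char.classInner_sub_left, CfsgLib.Char.classInner_sub_right,
    CfsgLib.Char.classInner_add_left, CfsgLib.Char.classInner_add_right, inner_I_I, inner_X_X,
    inner_I_X, hXI, compN_pow_q, compN_injective.eq_iff, and_self]
  refine ⟨?_, ?_, ?_⟩ <;> split_ifs <;> simp [Complex.conj_ofNat] <;> norm_num

omit [Algebra F E] [IsQuad F E] in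
theorem isIrr_St (χ : MulChar F ℂ) : Cfsg.IsIrrCharacter (GL (Fin 2) F) (St χ) := by
  refine isIrr_of_norm_one (isGeneralized_St χ) ?_ (d := Fintype.card F) (St_one χ)
  rw [(inner_detC_St χ χ).2.1, if_pos rfl]

omit [Algebra F E] [IsQuad F E] [Fintype E] in
theorem scalar_eq_one_iff {g : G2} {a : F} (h : (g : M2) = a • 1) : g = 1 ↔ a = 1 := by
  constructor
  · rintro rfl
    simpa using (congrArg (fun M : M2 => M 0 0) h).symm
  · rintro rfl
    exact Units.ext (by simpa using h)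

/-- The regular character of `GL₂(F)` through the two series. -/
theorem regular_eq [Fintype (MulChar F ℂ)] [Fintype (MulChar E ℂ)] (g : G2) :
    (q + 1) / 2 * ∑ α : MulChar F ℂ, ∑ β : MulChar F ℂ, I α β g +
      (q - 1) / 2 * ∑ ν : MulChar E ℂ, X (F := F) ν g =
      if g = 1 then (q ^ 2 - 1) * (q ^ 2 - q) else 0 := by
  classical
  rcases gl_cases E g with ⟨a, ha, hg⟩ | ⟨hg, a, ha, h1, h2⟩ | ⟨a, b, ha, hb, hab, h1, h2⟩ |
    ⟨x, hx, h1, h2⟩
  · simp only [(tbl_I (E := E) _ _).scalar g a hg, (tbl_X (F := F) (E := E) _).scalar g a hg,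
      ← Finset.mul_sum, ← Finset.sum_mul, sum_chars, card_quad (F := F) (E := E),
      scalar_eq_one_iff hg, map_eq_one_iff _ (algebraMap F E).injective]
    split_ifs
    · push_cast; ring
    · ring
  · have hne : g ≠ 1 := fun h => hg 1 (by simp [h])
    simp only [(tbl_I (E := E) _ _).double g a hg h1 h2,
      (tbl_X (F := F) (E := E) _).double g a hg h1 h2, Finset.sum_neg_distrib,
      ← Finset.mul_sum, ← Finset.sum_mul, sum_chars, card_quad (F := F) (E := E),
      map_eq_one_iff _ (algebraMap F E).injective, if_neg hne]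
    split_ifs
    · push_cast; ring
    · ring
  · have hg := (centralizer_split hab h1 h2).1
    have hne : g ≠ 1 := fun h => hg 1 (by simp [h])
    have h01 : (if a = 1 then q - 1 else 0) * (if b = 1 then q - 1 else 0) = 0 := by
      split_ifs with h3 h4
      · exact absurd (h3.trans h4.symm) hab
      all_goals simp
    simp only [(tbl_I (E := E) _ _).split g a b hab h1 h2,
      (tbl_X (F := F) (E := E) _).split g a b hab h1 h2, Finset.sum_add_distrib,
      ← Finset.mul_sum, ← Finset.sum_mul, sum_chars, if_neg hne, Finset.sum_const_zero]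
    linear_combination (q + 1) * h01
  · have hg := (centralizer_ell hx h1 h2).1
    have hne : g ≠ 1 := fun h => hg 1 (by simp [h])
    have hx1 : x ≠ 1 := fun h => hx 1 (by simp [h])
    have hx1' : x ^ Fintype.card F ≠ 1 := fun h => pow_q_notMem hx 1 (by simp [h])
    simp only [(tbl_I (E := E) _ _).ell g x hx h1 h2,
      (tbl_X (F := F) (E := E) _).ell g x hx h1 h2, Finset.sum_neg_distrib,
      Finset.sum_add_distrib, sum_chars, if_neg hne, if_neg hx1, if_neg hx1',
      Finset.sum_const_zero]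
    ring

omit [Algebra F E] [IsQuad F E] [Fintype E] in
theorem irr_eq_of_classInner_ne {G : Type*} [Group G] [Fintype G] {χ φ : G → ℂ}
    (hχ : Cfsg.IsIrrCharacter G χ) (hφ : Cfsg.IsIrrCharacter G φ)
    (h : Cfsg.classInner χ φ ≠ 0) : χ = φ :=
  by_contra fun hne => h (CfsgLib.Char.irr_classInner_ne hχ hφ hne)

/-- A nonzero class function value at `1` pairs nontrivially with one of the series. -/
theorem exists_pairing {χ : GL (Fin 2) F → ℂ} (hχ : χ 1 ≠ 0) :
    (∃ α β : MulChar F ℂ, Cfsg.classInner χ (I α β) ≠ 0) ∨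
      ∃ ν : MulChar E ℂ, Cfsg.classInner χ (X (F := F) ν) ≠ 0 := by
  classical
  by_contra hc
  push Not at hc
  obtain ⟨hI, hX⟩ := hc
  have := Fintype.ofFinite (MulChar F ℂ)
  have := Fintype.ofFinite (MulChar E ℂ)
  set R : G2 → ℂ := ((q + 1) / 2) • ∑ α : MulChar F ℂ, ∑ β : MulChar F ℂ, I α β +
    ((q - 1) / 2) • ∑ ν : MulChar E ℂ, X (F := F) ν with hR
  have h0 : Cfsg.classInner χ R = 0 := by
    simp [hR, CfsgLib.Char.classInner_add_right, CfsgLib.Char.classInner_smul_right,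
      CfsgLib.Char.classInner_sum_right, hI, hX]
  rw [CfsgLib.Char.classInner_def] at h0
  have hRg : ∀ g, R g = if g = 1 then (q ^ 2 - 1) * (q ^ 2 - q) else 0 := fun g => by
    rw [← regular_eq (E := E) g, hR]
    simp [Finset.sum_apply]
  simp only [hRg, apply_ite (starRingEnd ℂ), map_zero, mul_ite, mul_zero, Finset.sum_ite_eq',
    mem_univ, if_true, map_mul, map_sub, map_pow, map_natCast, map_one, ← card_gl] at h0
  obtain ⟨hq0, hq1, hq2⟩ := q_facts (F := F)
  rcases mul_eq_zero.mp h0 with h | h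
  · simp [Nat.card_pos.ne'] at h
  · rcases mul_eq_zero.mp h with h | h
    · exact hχ h
    · exact (Nat.cast_ne_zero.mpr Nat.card_pos.ne') h

/-- The classification of irreducible characters of `GL₂(F)`. -/
theorem irr_cases (E : Type*) [Field E] [Algebra F E] [IsQuad F E] [Fintype E]
    {χ : GL (Fin 2) F → ℂ} (hχ : Cfsg.IsIrrCharacter (GL (Fin 2) F) χ) :
    (∃ c : MulChar F ℂ, χ = detC c) ∨ (∃ c : MulChar F ℂ, χ = St c) ∨
      (∃ α β : MulChar F ℂ, α ≠ β ∧ χ = I α β) ∨
      ∃ ν : MulChar E ℂ, ν ^ Fintype.card F ≠ ν ∧ χ = X ν := by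
  rcases exists_pairing (E := E) (CfsgLib.Char.irr_apply_one_ne_zero hχ) with
    ⟨α, β, h⟩ | ⟨ν, h⟩
  · by_cases hab : α = β
    · subst hab
      rw [I_self, CfsgLib.Char.classInner_add_right] at h
      by_cases h1 : Cfsg.classInner χ (St α) = 0
      · rw [h1, zero_add] at h
        exact Or.inl ⟨α, irr_eq_of_classInner_ne hχ (isIrr_detC α) h⟩
      · exact Or.inr (Or.inl ⟨α, irr_eq_of_classInner_ne hχ (isIrr_St α) h1⟩)
    · exact Or.inr (Or.inr (Or.inl ⟨α, β, hab, irr_eq_of_classInner_ne hχ (isIrr_I hab) h⟩))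
  · by_cases hν : ν ^ Fintype.card F = ν
    · obtain ⟨c, rfl⟩ := exists_compN hν
      rw [X_compN, CfsgLib.Char.classInner_sub_right] at h
      by_cases h1 : Cfsg.classInner χ (St c) = 0
      · rw [h1, zero_sub, neg_ne_zero] at h
        exact Or.inl ⟨c, irr_eq_of_classInner_ne hχ (isIrr_detC c) h⟩
      · exact Or.inr (Or.inl ⟨c, irr_eq_of_classInner_ne hχ (isIrr_St c) h1⟩)
    · exact Or.inr (Or.inr (Or.inr ⟨ν, hν, irr_eq_of_classInner_ne hχ (isIrr_X hν) h⟩))

theorem I_eq_iff {α β α' β' : MulChar F ℂ} :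
    I α β = I α' β' ↔ (α = α' ∧ β = β') ∨ (α = β' ∧ β = α') := by
  classical
  constructor
  · intro h
    by_contra hc
    push Not at hc
    have h1 := inner_I_I α β α' β'
    rw [if_neg (fun h' => hc.1 h'.1 h'.2), if_neg (fun h' => hc.2 h'.1 h'.2), add_zero, ← h,
      inner_I_I, if_pos ⟨rfl, rfl⟩] at h1
    split_ifs at h1 <;> norm_num at h1
  · rintro (⟨rfl, rfl⟩ | ⟨rfl, rfl⟩)
    · rfl
    · exact I_comm _ _

theorem X_eq_iff {ν μ : MulChar E ℂ} :
    X (F := F) ν = X μ ↔ ν = μ ∨ ν = μ ^ Fintype.card F := by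
  classical
  constructor
  · intro h
    by_contra hc
    push Not at hc
    have h1 := inner_X_X (F := F) ν μ
    rw [if_neg hc.1, if_neg hc.2, add_zero, ← h, inner_X_X, if_pos rfl] at h1
    split_ifs at h1 <;> norm_num at h1
  · rintro (rfl | rfl)
    · rfl
    · exact X_pow μ

end CfsgLib.KnownB.GL2
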