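import Cfsg.Agent.Lib.KnownB.GL2Types

/-!
# Counting the irreducible characters of `GL₂(F)`
-/

set_option autoImplicit false

namespace CfsgLib.KnownB.GL2

open Matrix Finset
open scoped MatrixGroups

theorem two_mul_ncard_image {α β : Type*} [Finite α] (f : α → β) (s : Set α) (σ : α → α)
    (h1 : ∀ a ∈ s, σ a ∈ s) (h2 : ∀ a ∈ s, σ a ≠ a)
    (h3 : ∀ a ∈ s, ∀ b ∈ s, f b = f a ↔ b = a ∨ b = σ a) :
    2 * (f '' s).ncard = s.ncard := by
  classical
  have := Fintype.ofFinite α
  rw [Set.ncard_eq_toFinset_card' s, Set.ncard_eq_toFinset_card', Set.toFinset_image,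
    Finset.card_eq_sum_card_image f s.toFinset]
  rw [Finset.sum_congr rfl (g := fun _ => 2) fun b hb => by
    simp only [Finset.mem_image, Set.mem_toFinset] at hb
    obtain ⟨a, ha, rfl⟩ := hb
    rw [show s.toFinset.filter (fun x => f x = f a) = {a, σ a} from by
      ext x
      simp only [Finset.mem_filter, Set.mem_toFinset, Finset.mem_insert, Finset.mem_singleton]
      constructor
      · rintro ⟨hx, he⟩; exact (h3 a ha x hx).mp he
      · rintro (rfl | rfl)
        · exact ⟨ha, rfl⟩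
        · exact ⟨h1 a ha, (h3 a ha _ (h1 a ha)).mpr (Or.inr rfl)⟩]
    exact Finset.card_pair (Ne.symm (h2 a ha))]
  simp [mul_comm]

variable {F : Type*} [Field F] [Fintype F] [DecidableEq F]

local notation "G2" => GL (Fin 2) F
local notation "M2" => Matrix (Fin 2) (Fin 2) F

theorem card_mulChar : Nat.card (MulChar F ℂ) = Fintype.card F - 1 := by
  rw [MulChar.card_eq_card_units_of_hasEnoughRootsOfUnity, Nat.card_units,
    Nat.card_eq_fintype_card]

/-- The set of linear characters. -/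
def Dset (F : Type*) [Field F] [Fintype F] [DecidableEq F] : Set (GL (Fin 2) F → ℂ) :=
  Set.range (detC (F := F))

/-- The set of Steinberg characters. -/
def Sset (F : Type*) [Field F] [Fintype F] [DecidableEq F] : Set (GL (Fin 2) F → ℂ) :=
  Set.range (St (F := F))

/-- The set of irreducible principal series characters. -/
def Iset (F : Type*) [Field F] [Fintype F] [DecidableEq F] : Set (GL (Fin 2) F → ℂ) :=
  (fun p : MulChar F ℂ × MulChar F ℂ => I p.1 p.2) '' {p | p.1 ≠ p.2}

/-- The set of cuspidal characters. -/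
def Xset (F E : Type*) [Field F] [Fintype F] [DecidableEq F] [Field E] [Algebra F E] [IsQuad F E]
    [Fintype E] : Set (GL (Fin 2) F → ℂ) :=
  (X (F := F) (E := E)) '' {ν | ν ^ Fintype.card F ≠ ν}

theorem detC_injective : Function.Injective (detC (F := F)) := by
  classical
  intro c c' h
  have h1 := (inner_detC_St c c).2.2
  rw [if_pos rfl] at h1
  nth_rw 2 [h] at h1
  rw [(inner_detC_St c c').2.2] at h1
  by_contra hne
  rw [if_neg hne] at h1
  exact zero_ne_one h1

theorem St_injective : Function.Injective (St (F := F)) := by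
  classical
  intro c c' h
  have h1 := (inner_detC_St c c).2.1
  rw [if_pos rfl] at h1
  nth_rw 2 [h] at h1
  rw [(inner_detC_St c c').2.1] at h1
  by_contra hne
  rw [if_neg hne] at h1
  exact zero_ne_one h1

theorem ncard_Dset : (Dset F).ncard = Fintype.card F - 1 := by
  rw [Dset, ← Nat.card_coe_set_eq, Nat.card_range_of_injective detC_injective, card_mulChar]

theorem ncard_Sset : (Sset F).ncard = Fintype.card F - 1 := by
  rw [Sset, ← Nat.card_coe_set_eq, Nat.card_range_of_injective St_injective, card_mulChar]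

theorem ncard_Iset :
    2 * (Iset F).ncard = (Fintype.card F - 1) * (Fintype.card F - 2) := by
  classical
  have := Fintype.ofFinite (MulChar F ℂ)
  rw [Iset, two_mul_ncard_image _ {p : MulChar F ℂ × MulChar F ℂ | p.1 ≠ p.2} Prod.swap
    (fun p hp => Ne.symm hp) (fun p hp h => hp (congrArg Prod.snd h))]
  · rw [Set.ncard_eq_toFinset_card', show Set.toFinset {p : MulChar F ℂ × MulChar F ℂ | p.1 ≠ p.2}
      = (Finset.univ : Finset (MulChar F ℂ)).offDiag from by ext p; simp, Finset.offDiag_card,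
      Finset.card_univ, ← Nat.card_eq_fintype_card, card_mulChar]
    rw [show Fintype.card F - 2 = Fintype.card F - 1 - 1 by omega]
    generalize Fintype.card F - 1 = m
    rw [Nat.mul_sub_one]
  · rintro ⟨a, b⟩ hp ⟨a', b'⟩ hp'
    simp [I_eq_iff]

variable {E : Type*} [Field E] [Algebra F E] [IsQuad F E] [Fintype E]

theorem ncard_Xset : 2 * (Xset F E).ncard = Fintype.card F * (Fintype.card F - 1) := by
  classical
  have hqq : ∀ ν : MulChar E ℂ, (ν ^ Fintype.card F) ^ Fintype.card F = ν := fun ν =>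
    MulChar.ext' fun x => by
      rw [MulChar.pow_apply' _ Fintype.card_ne_zero, MulChar.pow_apply' _ Fintype.card_ne_zero,
        ← map_pow, ← map_pow, pow_q_q]
  rw [Xset, two_mul_ncard_image _ {ν : MulChar E ℂ | ν ^ Fintype.card F ≠ ν}
    (fun ν => ν ^ Fintype.card F)
    (fun ν hν h => hν (by rw [hqq] at h; exact h.symm)) (fun ν hν => hν)]
  · have hr : {ν : MulChar E ℂ | ν ^ Fintype.card F = ν} = Set.range (compN (F := F) E) := by
      ext ν
      exact ⟨fun h => exists_compN h, fun ⟨c, hc⟩ => hc ▸ compN_pow_q c⟩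
    have h := Set.ncard_add_ncard_compl {ν : MulChar E ℂ | ν ^ Fintype.card F = ν}
    rw [Set.compl_ofPred] at h
    rw [hr] at h
    rw [← Nat.card_coe_set_eq, Nat.card_range_of_injective compN_injective, card_mulChar,
      MulChar.card_eq_card_units_of_hasEnoughRootsOfUnity, Nat.card_units,
      Nat.card_eq_fintype_card, card_quad (F := F) (E := E)] at h
    have hq : 1 ≤ Fintype.card F := Fintype.card_pos
    rw [Nat.mul_sub, mul_one, ← sq]
    have := Nat.le_self_pow (show 2 ≠ 0 by norm_num) (Fintype.card F)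
    simp only [ne_eq] at h ⊢
    omega
  · intro ν hν μ hμ
    rw [X_eq_iff]

theorem irr_set_eq :
    {χ : GL (Fin 2) F → ℂ | Cfsg.IsIrrCharacter (GL (Fin 2) F) χ} =
      Dset F ∪ Sset F ∪ Iset F ∪ Xset F E := by
  ext χ
  constructor
  · intro h
    rcases irr_cases E h with ⟨c, rfl⟩ | ⟨c, rfl⟩ | ⟨a, b, hab, rfl⟩ | ⟨ν, hν, rfl⟩
    · exact Or.inl (Or.inl (Or.inl ⟨c, rfl⟩))
    · exact Or.inl (Or.inl (Or.inr ⟨c, rfl⟩))
    · exact Or.inl (Or.inr ⟨(a, b), hab, rfl⟩)
    · exact Or.inr ⟨ν, hν, rfl⟩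
  · rintro (((⟨c, rfl⟩ | ⟨c, rfl⟩) | ⟨p, hp, rfl⟩) | ⟨ν, hν, rfl⟩)
    · exact isIrr_detC c
    · exact isIrr_St c
    · exact isIrr_I hp
    · exact isIrr_X hν

theorem detC_ne_X (c : MulChar F ℂ) {ν : MulChar E ℂ} (hν : ν ^ Fintype.card F ≠ ν) :
    detC c ≠ X (F := F) ν := by
  classical
  intro h
  have h1 : Cfsg.classInner (I c c) (X (F := F) ν) = 0 := inner_I_X c c ν
  have h2 : Cfsg.classInner (X (F := F) (compN E c)) (X (F := F) ν) = 0 := by
    rw [inner_X_X, if_neg, if_neg, add_zero]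
    · intro he
      apply hν
      have hqq : (ν ^ Fintype.card F) ^ Fintype.card F = ν := MulChar.ext' fun x => by
        rw [MulChar.pow_apply' _ Fintype.card_ne_zero, MulChar.pow_apply' _ Fintype.card_ne_zero,
          ← map_pow, ← map_pow, pow_q_q]
      have := congrArg (· ^ Fintype.card F) he
      simp only [compN_pow_q, hqq] at this
      rw [← this, compN_pow_q]
    · rintro rfl; exact hν (compN_pow_q c)
  rw [I_self, CfsgLib.Char.classInner_add_left] at h1
  rw [X_compN, CfsgLib.Char.classInner_sub_left] at h2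
  have h3 : Cfsg.classInner (detC c) (X (F := F) ν) = 0 := by linear_combination (h1 - h2) / 2
  rw [← h, CfsgLib.Char.irr_classInner_self (isIrr_detC c)] at h3
  exact one_ne_zero h3

theorem natCard_irr :
    Nat.card (Cfsg.IrrCharacter (GL (Fin 2) F)) = Fintype.card F ^ 2 - 1 := by
  obtain ⟨E', _, _, _, _⟩ := exists_quad F
  have hfin := fun (s : Set (GL (Fin 2) F → ℂ)) (hs : s ⊆ {χ | Cfsg.IsIrrCharacter _ χ}) =>
    CfsgLib.Char.finite_setOf_isIrr.subset hs
  have he := irr_set_eq (F := F) (E := E')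
  have f1 : (Dset F).Finite := hfin _ (by rw [he]; intro x hx; exact Or.inl (Or.inl (Or.inl hx)))
  have f2 : (Sset F).Finite := hfin _ (by rw [he]; intro x hx; exact Or.inl (Or.inl (Or.inr hx)))
  have f3 : (Iset F).Finite := hfin _ (by rw [he]; intro x hx; exact Or.inl (Or.inr hx))
  have f4 : (Xset F E').Finite := hfin _ (by rw [he]; intro x hx; exact Or.inr hx)
  have hq2 : 2 ≤ Fintype.card F := Fintype.one_lt_card
  have hq : (2 : ℝ) ≤ Fintype.card F := by exact_mod_cast hq2
  have d1 : Disjoint (Dset F) (Sset F) := by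
    rw [Set.disjoint_left]
    rintro _ ⟨c, rfl⟩ ⟨c', h⟩
    have := congrArg Complex.re (congrFun h 1)
    simp [detC_one, St_one] at this
    linarith
  have d2 : Disjoint (Dset F ∪ Sset F) (Iset F) := by
    rw [Set.disjoint_left]
    rintro _ (⟨c, rfl⟩ | ⟨c, rfl⟩) ⟨p, -, h⟩ <;>
    · have := congrArg Complex.re (congrFun h 1)
      simp [detC_one, St_one, I_one] at this
      try linarith
  have d3 : Disjoint (Dset F ∪ Sset F ∪ Iset F) (Xset F E') := by
    rw [Set.disjoint_left]
    rintro _ ((⟨c, rfl⟩ | ⟨c, rfl⟩) | ⟨p, -, rfl⟩) ⟨ν, hν, h⟩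
    · exact detC_ne_X c hν h.symm
    all_goals
      have := congrArg Complex.re (congrFun h 1)
      simp [X_one, St_one, I_one] at this
      try linarith
  show Nat.card {χ : GL (Fin 2) F → ℂ // _} = _
  rw [← Set.coe_ofPred, Nat.card_coe_set_eq, he,
    Set.ncard_union_eq d3 ((f1.union f2).union f3) f4, Set.ncard_union_eq d2 (f1.union f2) f3,
    Set.ncard_union_eq d1 f1 f2, ncard_Dset, ncard_Sset]
  have h3 := ncard_Iset (F := F)
  have h4 := ncard_Xset (F := F) (E := E')
  obtain ⟨k, hk⟩ : ∃ k, Fintype.card F = k + 2 := ⟨Fintype.card F - 2, by omega⟩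
  rw [hk] at h3 h4 ⊢
  simp only [show k + 2 - 1 = k + 1 by omega, show k + 2 - 2 = k by omega] at *
  rw [show (k + 2) ^ 2 = k * k + 4 * k + 4 by ring]
  nlinarith [Nat.sub_add_cancel (show 1 ≤ k * k + 4 * k + 4 by omega)]

theorem natCard_irr_deg (s : Set (GL (Fin 2) F → ℂ)) (d : ℂ)
    (hs : ∀ χ, χ ∈ s ↔ Cfsg.IsIrrCharacter (GL (Fin 2) F) χ ∧ χ 1 = d) :
    Nat.card {χ : Cfsg.IrrCharacter (GL (Fin 2) F) // (χ : GL (Fin 2) F → ℂ) 1 = d} =
      s.ncard := by
  rw [← Nat.card_coe_set_eq]
  exact Nat.card_congr ((Equiv.subtypeSubtypeEquivSubtypeInter _ _).trans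
    (Equiv.subtypeEquivRight fun χ => (hs χ).symm))

end CfsgLib.KnownB.GL2
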