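import Cfsg.Agent.Lib.KnownB.GL2Class
import Cfsg.Agent.Lib.Char.Induce
import Cfsg.Agent.Lib.Char.Column

/-!
# Class functions on `GL₂(F)` given by their values on the four types of classes
-/

set_option autoImplicit false

namespace CfsgLib.KnownB.GL2

open Matrix Finset
open scoped MatrixGroups ComplexConjugate

variable {F : Type*} [Field F] [Fintype F] [DecidableEq F]

local notation "G2" => GL (Fin 2) F
local notation "M2" => Matrix (Fin 2) (Fin 2) F

omit [DecidableEq F] in
theorem card_gl :
    (Nat.card (GL (Fin 2) F) : ℂ) =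
      ((Fintype.card F : ℂ) ^ 2 - 1) * ((Fintype.card F : ℂ) ^ 2 - Fintype.card F) := by
  have hq : 1 ≤ Fintype.card F := Fintype.card_pos
  have h1 : 1 ≤ Fintype.card F ^ 2 := Nat.one_le_pow _ _ hq
  have h2 : Fintype.card F ≤ Fintype.card F ^ 2 := Nat.le_self_pow (by norm_num) _
  rw [Matrix.card_GL_field, Fin.prod_univ_two]
  simp [Nat.cast_sub h1, Nat.cast_sub h2]

/-- The number of nonscalar matrices with trace `t` and determinant `d`, in terms of roots. -/
theorem card_nonScalar (t d : F) [DecidablePred (NonScalar : M2 → Prop)] :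
    ((Finset.univ.filter fun M : M2 => NonScalar M ∧ M.trace = t ∧ M.det = d).card : ℤ) =
      (Fintype.card F : ℤ) ^ 2 + (Fintype.card F : ℤ) * (((roots t d).card : ℤ) - 1)
        - (if (roots t d).card = 1 then 1 else 0) := by
  classical
  have htot := card_trace_det t d
  have hsplit := Finset.card_filter_add_card_filter_not
    (s := Finset.univ.filter fun M : M2 => M.trace = t ∧ M.det = d) (p := fun M => NonScalar M)
  rw [Finset.filter_filter, Finset.filter_filter] at hsplit
  have hsc : (Finset.univ.filter fun M : M2 => (M.trace = t ∧ M.det = d) ∧ ¬ NonScalar M) =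
      ((roots t d).filter fun a => a + a = t).image (fun a => a • (1 : M2)) := by
    ext M
    simp only [mem_filter, mem_univ, true_and, mem_image, roots, NonScalar, not_forall, not_not]
    constructor
    · rintro ⟨⟨ht, hd⟩, a, rfl⟩
      simp at ht hd
      exact ⟨a, ⟨by linear_combination hd - a * ht, by linear_combination ht⟩, rfl⟩
    · rintro ⟨a, ⟨hd, ht⟩, rfl⟩
      refine ⟨⟨?_, ?_⟩, a, rfl⟩
      · simp; linear_combination ht
      · simp; linear_combination hd + a * ht
  have hsc' : (Finset.univ.filter fun M : M2 => (M.trace = t ∧ M.det = d) ∧ ¬ NonScalar M).card =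
      if (roots t d).card = 1 then 1 else 0 := by
    rw [hsc, Finset.card_image_of_injective _ fun a b h => by
      simpa using congrArg (fun M : M2 => M 0 0) h]
    rcases (roots t d).eq_empty_or_nonempty with h | ⟨a, ha⟩
    · simp [h]
    simp only [roots, mem_filter, mem_univ, true_and] at ha
    obtain ⟨b, rfl⟩ : ∃ b, t = a + b := ⟨t - a, by ring⟩
    obtain rfl : d = a * b := by rw [← ha]; ring
    by_cases hab : a = b
    · subst hab
      rw [roots_double]
      simp [Finset.filter_singleton]
    · rw [roots_pair hab, Finset.card_pair hab, if_neg (by norm_num)]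
      simp [Finset.card_eq_zero, Finset.filter_eq_empty_iff, hab, Ne.symm hab]
  have hcomm : (Finset.univ.filter fun M : M2 => (M.trace = t ∧ M.det = d) ∧ NonScalar M) =
      Finset.univ.filter fun M : M2 => NonScalar M ∧ M.trace = t ∧ M.det = d :=
    Finset.filter_congr fun M _ => and_comm
  rw [hsc', hcomm] at hsplit
  generalize (Finset.univ.filter fun M : M2 => NonScalar M ∧ M.trace = t ∧ M.det = d).card = n
    at *
  generalize (Finset.univ.filter fun M : M2 => M.trace = t ∧ M.det = d).card = m at *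
  zify at htot
  split_ifs at hsplit ⊢ with h <;> (zify at hsplit; linarith)

/-- The size of a conjugacy class of a nonscalar element. -/
theorem card_class {g : G2} (hg : NonScalar (g : M2)) :
    (Nat.card (ConjClasses.mk g).carrier : ℤ) =
      (Fintype.card F : ℤ) ^ 2 +
        (Fintype.card F : ℤ) * (((roots (g : M2).trace (g : M2).det).card : ℤ) - 1)
        - (if (roots (g : M2).trace (g : M2).det).card = 1 then 1 else 0) := by
  classical
  rw [← card_nonScalar]
  norm_cast
  rw [← Fintype.card_coe, ← Nat.card_eq_fintype_card]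
  refine Nat.card_congr
    { toFun := fun x => ⟨((x.1 : G2) : M2), ?_⟩
      invFun := fun M => ⟨Matrix.GeneralLinearGroup.mkOfDetNeZero M.1 ?_, ?_⟩
      left_inv := fun x => by ext1; ext1; rfl
      right_inv := fun M => by ext1; rfl }
  · have hc := ConjClasses.mk_eq_mk_iff_isConj.mp (ConjClasses.mem_carrier_iff_mk_eq.mp x.2)
    simp only [mem_filter, mem_univ, true_and]
    exact ⟨isConj_nonScalar hc.symm hg, (isConj_trace_det hc).1, (isConj_trace_det hc).2⟩
  · have := M.2
    simp only [mem_filter, mem_univ, true_and] at this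
    rw [this.2.2]
    exact det_ne_zero g
  · rw [ConjClasses.mem_carrier_iff_mk_eq, ConjClasses.mk_eq_mk_iff_isConj]
    have := M.2
    simp only [mem_filter, mem_univ, true_and] at this
    exact isConj_of_trace_det this.1 hg this.2.1 this.2.2

theorem card_centralizer_mul {g : G2} (hg : NonScalar (g : M2)) :
    (Nat.card (Subgroup.centralizer ({g} : Set G2)) : ℂ) *
      ((Fintype.card F : ℂ) ^ 2 +
        (Fintype.card F : ℂ) * (((roots (g : M2).trace (g : M2).det).card : ℂ) - 1)
        - (if (roots (g : M2).trace (g : M2).det).card = 1 then 1 else 0)) =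
      ((Fintype.card F : ℂ) ^ 2 - 1) * ((Fintype.card F : ℂ) ^ 2 - Fintype.card F) := by
  have h1 := congrArg (fun z : ℤ => (z : ℂ)) (card_class hg)
  push_cast at h1
  rw [← h1, ← card_gl, mul_comm, ← Nat.cast_mul, CfsgLib.Char.natCard_carrier_mul_centralizer]

/-- Values of a function on the classes of scalars (`A`), of nonsemisimple elements (`B`), of
split (`C`) and of elliptic (`D`) elements. -/
structure IsTbl (E : Type*) [Field E] [Algebra F E] (f : GL (Fin 2) F → ℂ) (A B : F → ℂ)
    (C : F → F → ℂ) (D : E → ℂ) : Prop where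
  scalar : ∀ (g : G2) (a : F), (g : M2) = a • 1 → f g = A a
  double : ∀ (g : G2) (a : F), NonScalar (g : M2) → (g : M2).trace = a + a →
    (g : M2).det = a * a → f g = B a
  split : ∀ (g : G2) (a b : F), a ≠ b → (g : M2).trace = a + b → (g : M2).det = a * b →
    f g = C a b
  ell : ∀ (g : G2) (x : E), (∀ a, algebraMap F E a ≠ x) → (g : M2).trace = Algebra.trace F E x →
    (g : M2).det = Algebra.norm F x → f g = D x

variable {E : Type*} [Field E] [Algebra F E]

omit [Fintype F] [DecidableEq F] in
theorem IsTbl.mul {f f' : GL (Fin 2) F → ℂ} {A A' B B' : F → ℂ} {C C' : F → F → ℂ} {D D' : E → ℂ}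
    (h : IsTbl E f A B C D) (h' : IsTbl E f' A' B' C' D') :
    IsTbl E (f * f') (A * A') (B * B') (C * C') (D * D') where
  scalar g a hg := by simp [h.scalar g a hg, h'.scalar g a hg]
  double g a h1 h2 h3 := by simp [h.double g a h1 h2 h3, h'.double g a h1 h2 h3]
  split g a b h1 h2 h3 := by simp [h.split g a b h1 h2 h3, h'.split g a b h1 h2 h3]
  ell g x h1 h2 h3 := by simp [h.ell g x h1 h2 h3, h'.ell g x h1 h2 h3]

omit [Fintype F] [DecidableEq F] in
theorem IsTbl.conjF {f : GL (Fin 2) F → ℂ} {A B : F → ℂ} {C : F → F → ℂ} {D : E → ℂ}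
    (h : IsTbl E f A B C D) :
    IsTbl E (fun g => conj (f g)) (fun a => conj (A a)) (fun a => conj (B a))
      (fun a b => conj (C a b)) (fun x => conj (D x)) where
  scalar g a hg := by simp [h.scalar g a hg]
  double g a h1 h2 h3 := by simp [h.double g a h1 h2 h3]
  split g a b h1 h2 h3 := by simp [h.split g a b h1 h2 h3]
  ell g x h1 h2 h3 := by simp [h.ell g x h1 h2 h3]

variable [IsQuad F E] [Fintype E]

omit [DecidableEq F] in
theorem gl_cases (E : Type*) [Field E] [Algebra F E] [IsQuad F E] [Fintype E] (g : GL (Fin 2) F) :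
    (∃ a : F, a ≠ 0 ∧ (g : M2) = a • 1) ∨
    (NonScalar (g : M2) ∧ ∃ a : F, a ≠ 0 ∧ (g : M2).trace = a + a ∧ (g : M2).det = a * a) ∨
    (∃ a b : F, a ≠ 0 ∧ b ≠ 0 ∧ a ≠ b ∧ (g : M2).trace = a + b ∧ (g : M2).det = a * b) ∨
    (∃ x : E, (∀ a, algebraMap F E a ≠ x) ∧ (g : M2).trace = Algebra.trace F E x ∧
      (g : M2).det = Algebra.norm F x) := by
  classical
  have hd0 := det_ne_zero g
  by_cases hsc : NonScalar (g : M2)
  · rcases roots_cases E (g : M2).trace (g : M2).det with ⟨a, b, ht, hd⟩ | ⟨x, hx, ht, hd⟩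
    · have ha : a ≠ 0 := fun h => hd0 (by rw [hd, h, zero_mul])
      have hb : b ≠ 0 := fun h => hd0 (by rw [hd, h, mul_zero])
      by_cases hab : a = b
      · subst hab
        exact Or.inr (Or.inl ⟨hsc, a, ha, ht, hd⟩)
      · exact Or.inr (Or.inr (Or.inl ⟨a, b, ha, hb, hab, ht, hd⟩))
    · exact Or.inr (Or.inr (Or.inr ⟨x, hx, ht.symm, hd.symm⟩))
  · simp only [NonScalar, not_forall, not_not] at hsc
    obtain ⟨a, ha⟩ := hsc
    refine Or.inl ⟨a, ?_, ha⟩
    rintro rfl
    simp [ha] at hd0

omit [DecidableEq F] in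
theorem IsTbl.eq_of_trace_det {f : GL (Fin 2) F → ℂ} {A B : F → ℂ} {C : F → F → ℂ} {D : E → ℂ}
    (h : IsTbl E f A B C D) {g g' : GL (Fin 2) F} (hg : NonScalar (g : M2))
    (hg' : NonScalar (g' : M2)) (ht : (g : M2).trace = (g' : M2).trace)
    (hd : (g : M2).det = (g' : M2).det) : f g = f g' := by
  rcases gl_cases E g with ⟨a, -, ha⟩ | ⟨-, a, -, h1, h2⟩ | ⟨a, b, -, -, hab, h1, h2⟩ |
    ⟨x, hx, h1, h2⟩
  · exact absurd ha (hg a)
  · rw [h.double g a hg h1 h2, h.double g' a hg' (ht ▸ h1) (hd ▸ h2)]
  · rw [h.split g a b hab h1 h2, h.split g' a b hab (ht ▸ h1) (hd ▸ h2)]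
  · rw [h.ell g x hx h1 h2, h.ell g' x hx (ht ▸ h1) (hd ▸ h2)]

omit [DecidableEq F] in
theorem IsTbl.isClassFunction {f : GL (Fin 2) F → ℂ} {A B : F → ℂ} {C : F → F → ℂ} {D : E → ℂ}
    (h : IsTbl E f A B C D) : Cfsg.IsClassFunction (GL (Fin 2) F) f := by
  intro g x
  have hc : IsConj g (x * g * x⁻¹) := isConj_iff.mpr ⟨x, rfl⟩
  by_cases hg : NonScalar (g : M2)
  · exact h.eq_of_trace_det (isConj_nonScalar hc hg) hg (trace_conj x g) (det_conj x g)
  · simp only [NonScalar, not_forall, not_not] at hg
    obtain ⟨a, ha⟩ := hg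
    rw [scalar_conj ha]

/-- Summation of a class function over `GL₂(F)`. -/
theorem IsTbl.two_mul_sum [Fintype (GL (Fin 2) F)]
    {f : GL (Fin 2) F → ℂ} {A B : F → ℂ} {C : F → F → ℂ} {D : E → ℂ}
    (h : IsTbl E f A B C D) (hA : A 0 = 0) (hB : B 0 = 0) (hC : ∀ a, C a 0 = 0 ∧ C 0 a = 0)
    (hD : D 0 = 0) :
    2 * ∑ g : GL (Fin 2) F, f g =
      2 * ∑ a, A a + 2 * ((Fintype.card F : ℂ) ^ 2 - 1) * ∑ a, B a +
      ((Fintype.card F : ℂ) ^ 2 + Fintype.card F) * (∑ a, ∑ b, C a b - ∑ a, C a a) +
      ((Fintype.card F : ℂ) ^ 2 - Fintype.card F) * (∑ x, D x - ∑ a, D (algebraMap F E a)) := by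
  classical
  let hf : F → F → ℂ := fun t d => if hd : d ≠ 0 then f (compGL t d hd) else 0
  have hf_g : ∀ g : G2, NonScalar (g : M2) → f g = hf (g : M2).trace (g : M2).det := by
    intro g hg
    simp only [hf, ne_eq, det_ne_zero g, not_false_eq_true, dite_true]
    exact h.eq_of_trace_det hg (nonScalar_comp _ _) (by simp) (by simp)
  have hf_ab : ∀ a b : F, hf (a + b) (a * b) = if a = b then B a else C a b := by
    intro a b
    by_cases h0 : a * b = 0
    · simp only [hf, h0, ne_eq, not_true_eq_false, dite_false]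
      rcases mul_eq_zero.mp h0 with rfl | rfl
      · split_ifs with hb
        · simp [hB]
        · simp [(hC b).2]
      · split_ifs with hb
        · subst hb; simp [hB]
        · simp [(hC a).1]
    · simp only [hf, ne_eq, h0, not_false_eq_true, dite_true]
      split_ifs with hab
      · subst hab
        exact h.double _ a (nonScalar_comp _ _) (by simp) (by simp)
      · exact h.split _ a b hab (by simp) (by simp)
  have hf_x : ∀ x : E, hf (Algebra.trace F E x) (Algebra.norm F x) =
      D x + ∑ a : F, if algebraMap F E a = x then B a - D x else 0 := by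
    intro x
    by_cases hx : ∃ a, algebraMap F E a = x
    · obtain ⟨a, rfl⟩ := hx
      rw [T_algebraMap, N_algebraMap, hf_ab, if_pos rfl]
      simp
    · push Not at hx
      rw [Finset.sum_eq_zero (fun a _ => if_neg (hx a)), add_zero]
      have hx0 : x ≠ 0 := fun h0 => hx 0 (by simp [h0])
      have hn : Algebra.norm F x ≠ 0 := by
        intro h0
        have := algebraMap_N (F := F) x
        rw [h0, map_zero] at this
        rcases mul_eq_zero.mp this.symm with h1 | h1
        · exact hx0 h1
        · exact hx0 (eq_zero_of_pow_eq_zero h1)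
      simp only [hf, ne_eq, hn, not_false_eq_true, dite_true]
      exact h.ell _ x hx (by simp) (by simp)
  let Ff : M2 → ℂ := fun M => if hM : M.det ≠ 0 then
    f (Matrix.GeneralLinearGroup.mkOfDetNeZero M hM) else 0
  have e1 : ∑ g : G2, f g = ∑ M : M2, Ff M := by
    rw [← Finset.sum_filter_add_sum_filter_not Finset.univ (fun M : M2 => M.det ≠ 0) Ff,
      Finset.sum_eq_zero (s := Finset.univ.filter fun M : M2 => ¬ M.det ≠ 0) (fun M hM => by
        simp only [mem_filter, mem_univ, true_and] at hM
        simp only [Ff, hM, dite_false]), add_zero]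
    refine Finset.sum_bij' (fun g _ => (g : M2))
      (fun M hM => Matrix.GeneralLinearGroup.mkOfDetNeZero M (by simpa using hM)) ?_ ?_ ?_ ?_ ?_
    · intro g _; simp [det_ne_zero g]
    · simp
    · intro g _; ext1; rfl
    · intro M _; rfl
    · intro g _
      simp only [Ff, ne_eq, det_ne_zero g, not_false_eq_true, dite_true]
      congr 1
      ext1
      rfl
  have e2 : ∀ M : M2, Ff M =
      hf M.trace M.det + ∑ a : F, if a • (1 : M2) = M then A a - B a else 0 := by
    intro M
    by_cases hM : ∃ a : F, a • (1 : M2) = M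
    · obtain ⟨a, rfl⟩ := hM
      rw [Finset.sum_eq_single a (fun b _ hb => if_neg fun he => hb (by
        simpa using congrArg (fun M : M2 => M 0 0) he)) (by simp), if_pos rfl]
      have et : (a • (1 : M2)).trace = a + a := by simp; ring
      have ed : (a • (1 : M2)).det = a * a := by simp; ring
      rw [et, ed, hf_ab, if_pos rfl, add_sub_cancel]
      by_cases ha : a = 0
      · subst ha; simp [Ff, hA]
      · have hd : (a • (1 : M2)).det ≠ 0 := by simp [ha]
        simp only [Ff, dif_pos hd]
        exact h.scalar _ a rfl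
    · push Not at hM
      rw [Finset.sum_eq_zero (fun a _ => if_neg (hM a)), add_zero]
      by_cases hd : M.det ≠ 0
      · simp only [Ff, dif_pos hd]
        exact hf_g _ (fun a ha => hM a ha.symm)
      · simp only [Ff, hf, dif_neg hd]
  rw [e1, Finset.sum_congr rfl (fun M _ => e2 M), Finset.sum_add_distrib, mul_add,
    matrix_sum (E := E), Finset.sum_congr rfl (fun x _ => hf_x x), Finset.sum_add_distrib]
  have e3 : ∑ M : M2, ∑ a : F, (if a • (1 : M2) = M then A a - B a else 0) =
      ∑ a, A a - ∑ a, B a := by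
    rw [Finset.sum_comm, ← Finset.sum_sub_distrib]
    simp
  have e4 : ∑ x : E, ∑ a : F, (if algebraMap F E a = x then B a - D x else 0) =
      ∑ a, B a - ∑ a, D (algebraMap F E a) := by
    rw [Finset.sum_comm, ← Finset.sum_sub_distrib]
    simp
  have e5 : ∑ a : F, ∑ b : F, hf (a + b) (a * b) =
      ∑ a, ∑ b, C a b - ∑ a, C a a + ∑ a, B a := by
    have : ∀ a b : F, hf (a + b) (a * b) = C a b + if a = b then B a - C a a else 0 := by
      intro a b
      rw [hf_ab]
      split_ifs with hab
      · subst hab; ring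
      · rw [add_zero]
    simp only [this, Finset.sum_add_distrib, Finset.sum_ite_eq, mem_univ, if_true,
      Finset.sum_sub_distrib]
    ring
  rw [e3, e4, e5]
  ring

omit [IsQuad F E] [Fintype E] in
/-- The inner product of two functions given by tables. -/
theorem classInner_eq_sum [Fintype (GL (Fin 2) F)] (f f' : GL (Fin 2) F → ℂ) :
    2 * ((Fintype.card F : ℂ) ^ 2 - 1) * ((Fintype.card F : ℂ) ^ 2 - Fintype.card F) *
      Cfsg.classInner f f' = 2 * ∑ g : GL (Fin 2) F, (f * fun g => conj (f' g)) g := by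
  rw [CfsgLib.Char.classInner_def, mul_assoc (2 : ℂ), ← card_gl]
  have h0 : (Nat.card G2 : ℂ) ≠ 0 := by exact_mod_cast Nat.card_pos.ne'
  simp only [Pi.mul_apply]
  field_simp

section Ind

variable {G : Type*} [Group G] [Fintype G]

theorem card_conj_eq (g h : G) [DecidablePred fun x : G => x⁻¹ * g * x = h]
    [Decidable (IsConj g h)] :
    ((Finset.univ.filter fun x : G => x⁻¹ * g * x = h).card : ℂ) =
      if IsConj g h then (Nat.card (Subgroup.centralizer ({g} : Set G)) : ℂ) else 0 := by
  split_ifs with hc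
  · obtain ⟨c, rfl⟩ := isConj_iff.mp hc
    rw [← Fintype.card_coe, ← Nat.card_eq_fintype_card]
    norm_cast
    refine Nat.card_congr
      { toFun := fun x => ⟨x.1 * c, ?_⟩
        invFun := fun y => ⟨y.1 * c⁻¹, ?_⟩
        left_inv := fun x => by ext1; simp
        right_inv := fun y => by ext1; simp }
    · have hx := x.2
      simp only [mem_filter, mem_univ, true_and] at hx
      rw [Subgroup.mem_centralizer_singleton_iff]
      calc x.1 * c * g = x.1 * (c * g * c⁻¹) * c := by group
        _ = x.1 * (x.1⁻¹ * g * x.1) * c := by rw [hx]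
        _ = g * (x.1 * c) := by group
    · have hy := Subgroup.mem_centralizer_singleton_iff.mp y.2
      simp only [mem_filter, mem_univ, true_and]
      calc (y.1 * c⁻¹)⁻¹ * g * (y.1 * c⁻¹) = c * (y.1⁻¹ * (g * y.1)) * c⁻¹ := by group
        _ = c * (y.1⁻¹ * (y.1 * g)) * c⁻¹ := by rw [hy]
        _ = c * g * c⁻¹ := by group
  · rw [Nat.cast_eq_zero, Finset.card_eq_zero, Finset.filter_eq_empty_iff]
    intro x _ hx
    exact hc (isConj_iff.mpr ⟨x⁻¹, by simpa using hx⟩)

theorem indFun_apply_eq (H : Subgroup G) [Fintype H] (θ : H → ℂ) (g : G)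
    [DecidablePred (IsConj g)] :
    Cfsg.indFun H θ g = (Nat.card H : ℂ)⁻¹ * (Nat.card (Subgroup.centralizer ({g} : Set G)) : ℂ) *
      ∑ h : H, if IsConj g (h : G) then θ h else 0 := by
  classical
  rw [CfsgLib.Char.indFun_def, mul_assoc]
  congr 1
  rw [← Finset.sum_fiberwise Finset.univ (fun x : G => x⁻¹ * g * x)]
  have hj : ∀ j : G, ∑ x ∈ Finset.univ.filter (fun x : G => x⁻¹ * g * x = j),
      Cfsg.extendByZero H θ (x⁻¹ * g * x) =
      Cfsg.extendByZero H θ j * if IsConj g j then
        (Nat.card (Subgroup.centralizer ({g} : Set G)) : ℂ) else 0 := by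
    intro j
    rw [Finset.sum_congr rfl (g := fun _ => Cfsg.extendByZero H θ j) fun x hx => by
      simp only [mem_filter, mem_univ, true_and] at hx; rw [hx], Finset.sum_const, nsmul_eq_mul,
      card_conj_eq, mul_comm]
  rw [Finset.sum_congr rfl fun j _ => hj j, CfsgLib.Char.sum_extendByZero_mul, Finset.mul_sum]
  refine Finset.sum_congr rfl fun h _ => ?_
  split_ifs <;> ring

end Ind

end CfsgLib.KnownB.GL2
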