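import Cfsg.Agent.Lib.KnownB.GL2Classify
import Cfsg.Agent.Lib.Char.Perm
import Cfsg.Agent.Lib.Char.Column

/-!
# Elements of `GL₂(F)` described by entries or eigenvectors; consequences
-/

set_option autoImplicit false

namespace CfsgLib.KnownB.GL2

open Matrix Finset
open scoped MatrixGroups

variable {F : Type*} [Field F]

local notation "G2" => GL (Fin 2) F
local notation "M2" => Matrix (Fin 2) (Fin 2) F

theorem diag_data {M : M2} (h01 : M 0 1 = 0) (h10 : M 1 0 = 0) :
    M.trace = M 0 0 + M 1 1 ∧ M.det = M 0 0 * M 1 1 := by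
  simp [trace_fin_two, det_fin_two, h01, h10]

theorem upper_data {M : M2} (h10 : M 1 0 = 0) (he : M 0 0 = M 1 1) (h01 : M 0 1 ≠ 0) :
    NonScalar M ∧ M.trace = M 0 0 + M 0 0 ∧ M.det = M 0 0 * M 0 0 := by
  refine ⟨(nonScalar_iff M).mpr (Or.inl h01), ?_, ?_⟩ <;>
    simp [trace_fin_two, det_fin_two, h10, he]

theorem roots_empty_of_noEig [Fintype F] [DecidableEq F] {M : M2}
    (h : ∀ (c : F) (v : Fin 2 → F), v ≠ 0 → M.mulVec v ≠ c • v) :
    roots M.trace M.det = ∅ := by
  rw [Finset.eq_empty_iff_forall_notMem]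
  intro a ha
  simp only [roots, mem_filter, mem_univ, true_and] at ha
  have hdet : (M - a • (1 : M2)).det = 0 := by
    simp [det_fin_two, trace_fin_two] at ha ⊢
    linear_combination -ha
  obtain ⟨v, hv0, hv⟩ := Matrix.exists_mulVec_eq_zero_iff.mpr hdet
  apply h a v hv0
  rw [Matrix.sub_mulVec, Matrix.smul_mulVec, Matrix.one_mulVec, sub_eq_zero] at hv
  exact hv

theorem ell_of_noEig [Fintype F] (E : Type*) [Field E] [Algebra F E] [IsQuad F E] [Fintype E]
    {M : M2} (h : ∀ (c : F) (v : Fin 2 → F), v ≠ 0 → M.mulVec v ≠ c • v) :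
    ∃ x : E, (∀ a, algebraMap F E a ≠ x) ∧ M.trace = Algebra.trace F E x ∧
      M.det = Algebra.norm F x := by
  classical
  rcases roots_cases E M.trace M.det with ⟨a, b, ht, hd⟩ | ⟨x, hx, h1, h2⟩
  · have : a ∈ roots M.trace M.det := by
      simp only [roots, mem_filter, mem_univ, true_and, ht, hd]; ring
    rw [roots_empty_of_noEig h] at this
    exact absurd this (Finset.notMem_empty a)
  · exact ⟨x, hx, h1.symm, h2.symm⟩

theorem fixedPointCharacter_eq_indFun {G : Type*} [Group G] [Fintype G] (H : Subgroup G) (g : G) :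
    Cfsg.fixedPointCharacter H g = Cfsg.indFun H (fun _ => 1) g := by
  have h := CfsgLib.Char.natCard_fixedBy_eq_indFun (G ⧸ H) ((1 : G) : G ⧸ H) g
  rwa [MulAction.stabilizer_quotient] at h

theorem borel_fixedPoint [Fintype F] [DecidableEq F] (g : G2) :
    Cfsg.fixedPointCharacter (Cfsg.upperTriangularGL 2 F) g = I 1 1 g := by
  rw [fixedPointCharacter_eq_indFun, I]
  congr 1
  funext b
  have hb := mem_borel.mp b.2
  have hd := det_ne_zero (b : G2)
  rw [det_fin_two, hb, mul_zero, sub_zero] at hd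
  rw [one_apply_ne (left_ne_zero_of_mul hd), one_apply_ne (right_ne_zero_of_mul hd), one_mul]

end CfsgLib.KnownB.GL2
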