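import Mathlib.GroupTheory.GroupAction.CardCommute
import Mathlib.GroupTheory.IndexNormal
import Cfsg.Agent.Lib.Char.CliffordApps
import Cfsg.Prelude.Def_Blocks

/-!
# Groups with a cyclic subgroup of index two inverted from outside
-/

set_option autoImplicit false

namespace CfsgLib.KnownB

variable {G : Type*} [Group G]

theorem card_sq_one_cyclic [Finite G] [IsCyclic G] (heven : 2 ∣ Nat.card G) :
    Nat.card {a : G // a * a = 1} = 2 := by
  classical
  have := Fintype.ofFinite G
  rw [Nat.card_eq_fintype_card] at heven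
  obtain ⟨t, ht⟩ := exists_prime_orderOf_dvd_card 2 heven
  have hle : ({a : G | a ^ 2 = 1} : Finset G).card ≤ 2 :=
    IsCyclic.card_pow_eq_one_le two_pos
  have hsub : ({1, t} : Finset G) ⊆ ({a : G | a ^ 2 = 1} : Finset G) := by
    intro x hx
    simp only [Finset.mem_insert, Finset.mem_singleton] at hx
    simp only [Finset.mem_filter, Finset.mem_univ, true_and]
    rcases hx with rfl | rfl
    · exact one_pow 2
    · rw [← ht]; exact pow_orderOf_eq_one x
  have h1t : (1 : G) ≠ t := fun h => by rw [← h, orderOf_one] at ht; omega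
  have := Finset.card_le_card hsub
  rw [Finset.card_pair h1t] at this
  rw [Nat.card_eq_fintype_card, Fintype.card_subtype]
  simp only [← sq]
  omega

theorem card_eq_two_mul_of_coset (A N : Subgroup G) (hle : A ≤ N) {w : G} (hwN : w ∈ N)
    (hwA : w ∉ A) (h : ∀ x ∈ N, x ∉ A → x * w ∈ A) : Nat.card N = 2 * Nat.card A := by
  have hi : (A.subgroupOf N).index = 2 := by
    rw [Subgroup.index_eq_two_iff]
    refine ⟨⟨w, hwN⟩, fun b => ?_⟩
    simp only [Subgroup.mem_subgroupOf, Subgroup.coe_mul, xor_def]
    by_cases hb : (b : G) ∈ A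
    · exact Or.inr ⟨hb, fun h' => hwA ((Subgroup.mul_mem_cancel_left A hb).mp h')⟩
    · exact Or.inl ⟨h b b.2 hb, hb⟩
  rw [← Subgroup.index_mul_card (A.subgroupOf N), hi,
    Nat.card_congr (Subgroup.subgroupOfEquivOfLe hle).toEquiv]

/-- The number of conjugacy classes of a group with a cyclic subgroup of order `n` and index two
inverted by all outside elements. -/
theorem card_conjClasses_inverting [Finite G] (A : Subgroup G) [IsCyclic A] {n : ℕ}
    (hn : Nat.card A = n) (heven : 2 ∣ n) (hG : Nat.card G = 2 * n)
    (hinv : ∀ x ∉ A, ∀ a ∈ A, x * a * x⁻¹ = a⁻¹) :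
    Nat.card (ConjClasses G) = n / 2 + 3 := by
  classical
  have := Fintype.ofFinite G
  have hidx : A.index = 2 := by
    have h := A.index_mul_card
    rw [hn, hG] at h
    have : 0 < n := by rw [← hn]; exact Nat.card_pos
    exact Nat.eq_of_mul_eq_mul_right this h
  have hcomm : ∀ a ∈ A, ∀ b ∈ A, a * b = b * a := by
    intro a ha b hb
    let := IsCyclic.commGroup (α := A)
    exact congrArg Subtype.val (mul_comm (⟨a, ha⟩ : A) ⟨b, hb⟩)
  have hout : ∀ x ∉ A, ∀ a ∈ A, (Commute x a ↔ a * a = 1) := by
    intro x hx a ha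
    have h := hinv x hx a ha
    constructor
    · intro hc
      rw [hc.eq, mul_inv_cancel_right] at h
      exact eq_inv_iff_mul_eq_one.mp h
    · intro h2
      rw [inv_eq_of_mul_eq_one_left h2, mul_inv_eq_iff_eq_mul] at h
      exact h
  have h2 : (Finset.univ.filter fun a : G => a ∈ A ∧ a * a = 1).card = 2 := by
    rw [← Fintype.card_subtype, ← Nat.card_eq_fintype_card,
      ← card_sq_one_cyclic (G := A) (by rwa [hn])]
    exact Nat.card_congr
      ⟨fun a => ⟨⟨a.1, a.2.1⟩, Subtype.ext a.2.2⟩,
        fun a => ⟨a.1.1, a.1.2, congrArg Subtype.val a.2⟩, fun _ => rfl, fun _ => rfl⟩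
  have hA : (Finset.univ.filter fun a : G => a ∈ A).card = n := by
    rw [← hn, Nat.card_eq_fintype_card, Fintype.card_subtype]
  have hC : ∀ g : G, (Finset.univ.filter fun h : G => Commute g h).card =
      if g ∈ A then (if g * g = 1 then 2 * n else n) else 4 := by
    intro g
    split_ifs with hgA hg2
    · rw [← hG, Nat.card_eq_fintype_card, ← Finset.card_univ]
      congr 1
      refine Finset.filter_true_of_mem fun h _ => ?_
      by_cases hh : h ∈ A
      · exact hcomm g hgA h hh
      · exact ((hout h hh g hgA).mpr hg2).symm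
    · rw [← hA]
      congr 1
      refine Finset.filter_congr fun h _ => ⟨fun hc => ?_, fun hh => hcomm g hgA h hh⟩
      by_contra hh
      exact hg2 ((hout h hh g hgA).mp hc.symm)
    · have hsplit : (Finset.univ.filter fun h : G => Commute g h) =
          (Finset.univ.filter fun a : G => a ∈ A ∧ a * a = 1) ∪
          (Finset.univ.filter fun a : G => a ∈ A ∧ a * a = 1).image (g * ·) := by
        ext h
        simp only [Finset.mem_filter, Finset.mem_univ, true_and, Finset.mem_union,
          Finset.mem_image]
        constructor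
        · intro hc
          by_cases hh : h ∈ A
          · exact Or.inl ⟨hh, (hout g hgA h hh).mp hc⟩
          · have hm : g⁻¹ * h ∈ A := by
              rw [Subgroup.mul_mem_iff_of_index_two hidx]
              simp [hgA, hh]
            exact Or.inr ⟨g⁻¹ * h, ⟨hm, (hout g hgA _ hm).mp
              ((Commute.refl g).inv_right.mul_right hc)⟩, by group⟩
        · rintro (⟨hh, h2'⟩ | ⟨a, ⟨ha, h2'⟩, rfl⟩)
          · exact (hout g hgA h hh).mpr h2'
          · exact (Commute.refl g).mul_right ((hout g hgA a ha).mpr h2')
      rw [hsplit, Finset.card_union_of_disjoint, Finset.card_image_of_injective _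
        (mul_right_injective g), h2]
      rw [Finset.disjoint_left]
      intro a ha ha'
      simp only [Finset.mem_filter, Finset.mem_univ, true_and, Finset.mem_image] at ha ha'
      obtain ⟨b, ⟨hb, -⟩, rfl⟩ := ha'
      exact hgA ((Subgroup.mul_mem_cancel_right A hb).mp ha.1)
  have hsum : Nat.card (ConjClasses G) * (2 * n) = (n / 2 + 3) * (2 * n) := by
    rw [← hG, ← card_comm_eq_card_conjClasses_mul_card, hG, Nat.card_eq_fintype_card,
      Fintype.card_subtype, ← Finset.univ_product_univ,
      Finset.card_eq_sum_card_fiberwise (f := Prod.fst) (t := Finset.univ) (fun x _ => by simp)]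
    calc ∑ g : G, _ = ∑ g : G, (if g ∈ A then (if g * g = 1 then 2 * n else n) else 4) := by
          refine Finset.sum_congr rfl fun g _ => ?_
          rw [← hC g]
          refine Finset.card_nbij' Prod.snd (fun h => (g, h)) ?_ ?_ ?_ ?_
          · intro x hx
            simp only [Finset.coe_filter, Finset.mem_univ, true_and, Finset.mem_filter,
              Finset.mem_product, Set.mem_setOf_eq] at hx ⊢
            rw [← hx.2]; exact hx.1
          · intro x hx
            simp only [Finset.coe_filter, Finset.mem_univ, true_and, Finset.mem_filter,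
              Finset.mem_product, Set.mem_setOf_eq] at hx ⊢
            exact ⟨hx, trivial⟩
          · intro x hx
            simp only [Finset.coe_filter, Finset.mem_univ, true_and, Finset.mem_filter,
              Finset.mem_product, Set.mem_setOf_eq] at hx
            exact Prod.ext hx.2.symm rfl
          · intro x _; rfl
      _ = _ := by
          rw [Finset.sum_ite, Finset.sum_ite, Finset.filter_filter, Finset.filter_filter,
            Finset.sum_const, Finset.sum_const, Finset.sum_const, h2, smul_eq_mul, smul_eq_mul,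
            smul_eq_mul]
          have e1 : (Finset.univ.filter fun a : G => a ∈ A ∧ ¬ a * a = 1).card + 2 = n := by
            rw [← hA, ← h2, ← Finset.filter_filter, ← Finset.filter_filter, add_comm]
            exact Finset.card_filter_add_card_filter_not (fun a : G => a * a = 1)
          have e2 : (Finset.univ.filter fun a : G => ¬ a ∈ A).card = n := by
            have h' := Finset.card_filter_add_card_filter_not (s := (Finset.univ : Finset G))
              (fun a : G => a ∈ A)
            rw [hA, Finset.card_univ, ← Nat.card_eq_fintype_card, hG] at h'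
            omega
          obtain ⟨k, rfl⟩ := heven
          rw [e2, show (2 * k) / 2 = k by omega]
          have hk : 1 ≤ k := by omega
          obtain ⟨j, rfl⟩ := Nat.exists_eq_add_of_le hk
          rw [show (Finset.univ.filter fun a : G => a ∈ A ∧ ¬ a * a = 1).card = 2 * j by omega]
          ring
  have : 0 < n := by rw [← hn]; exact Nat.card_pos
  exact Nat.eq_of_mul_eq_mul_right (by omega) hsum

theorem degree_eq_one_or_two [Finite G] (A : Subgroup G) [IsCyclic A] (hidx : A.index = 2)
    (χ : Cfsg.IrrCharacter G) : Cfsg.charDegree (χ : G → ℂ) = 1 ∨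
      Cfsg.charDegree (χ : G → ℂ) = 2 := by
  obtain ⟨m, ρ, hρ, hχ⟩ := χ.2
  have : A.Normal := Subgroup.normal_of_index_eq_two hidx
  have h := CfsgLib.Char.ito_degree_dvd_index ρ A (fun a ha b hb => by
    let := IsCyclic.commGroup (α := A)
    exact congrArg Subtype.val (mul_comm (⟨a, ha⟩ : A) ⟨b, hb⟩))
  have hd : Cfsg.charDegree (χ : G → ℂ) = Module.finrank ℂ (Fin m → ℂ) := by
    rw [Cfsg.charDegree, ← hχ, Representation.char_one, Complex.natCast_re, Nat.floor_natCast]
  rw [hd]
  rw [hidx] at h
  exact (Nat.dvd_prime Nat.prime_two).mp h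

theorem natCard_linear_inverting [Finite G] (A : Subgroup G) [IsCyclic A] {n : ℕ}
    (hn : Nat.card A = n) (heven : 2 ∣ n) (hG : Nat.card G = 2 * n)
    (hinv : ∀ x ∉ A, ∀ a ∈ A, x * a * x⁻¹ = a⁻¹) :
    Nat.card {χ : Cfsg.IrrCharacter G // Cfsg.charDegree (χ : G → ℂ) = 1} = 4 := by
  classical
  have := Fintype.ofFinite G
  have := Fintype.ofFinite (Cfsg.IrrCharacter G)
  have hpos : 0 < n := by rw [← hn]; exact Nat.card_pos
  have hidx : A.index = 2 := by
    have h := A.index_mul_card
    rw [hn, hG] at h
    exact Nat.eq_of_mul_eq_mul_right hpos h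
  have hcl := card_conjClasses_inverting A hn heven hG hinv
  rw [← CfsgLib.Char.irr_card_eq, Nat.card_eq_fintype_card] at hcl
  have hsq : ∑ χ : Cfsg.IrrCharacter G, Cfsg.charDegree (χ : G → ℂ) ^ 2 = 2 * n := by
    have h := CfsgLib.Char.sum_irr_sq (G := G)
    rw [hG] at h
    apply Nat.cast_injective (R := ℂ)
    rw [← h, Nat.cast_sum]
    refine Finset.sum_congr rfl fun χ _ => ?_
    obtain ⟨d, hd⟩ := CfsgLib.Char.char_apply_one_eq_nat (CfsgLib.Char.irr_isCharacter χ.2)
    rw [Nat.cast_pow, Cfsg.charDegree, hd, Complex.natCast_re, Nat.floor_natCast]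
  rw [Nat.card_eq_fintype_card, Fintype.card_subtype]
  set S := Finset.univ.filter fun χ : Cfsg.IrrCharacter G => Cfsg.charDegree (χ : G → ℂ) = 1
  have hsum : ∑ χ : Cfsg.IrrCharacter G, Cfsg.charDegree (χ : G → ℂ) ^ 2 =
      S.card + 4 * (Finset.univ \ S).card := by
    rw [← Finset.sum_sdiff (Finset.subset_univ S), add_comm]
    congr 1
    · rw [Finset.card_eq_sum_ones]
      exact Finset.sum_congr rfl fun χ hχ => by rw [(Finset.mem_filter.mp hχ).2]; norm_num
    · rw [mul_comm, ← smul_eq_mul, ← Finset.sum_const]
      refine Finset.sum_congr rfl fun χ hχ => ?_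
      rw [(degree_eq_one_or_two A hidx χ).resolve_left fun h =>
        (Finset.mem_sdiff.mp hχ).2 (Finset.mem_filter.mpr ⟨Finset.mem_univ _, h⟩)]
      norm_num
  have hc := Finset.card_sdiff_add_card_eq_card (Finset.subset_univ S)
  rw [Finset.card_univ, hcl] at hc
  omega

end CfsgLib.KnownB
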