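import Mathlib
import Cfsg.Agent.Lib.KnownC.MatrixPrimary

/-!
# Semisimple endomorphisms over a finite field, up to conjugacy

An endomorphism is called semisimple here when `f ^ (q ^ N) = f` for some `N > 0`.  Such
endomorphisms are classified by the characteristic polynomial, and their centralisers have
surjective determinant.
-/

set_option autoImplicit false

namespace CfsgLib.KnownB.SSClass

open Polynomial Module

universe u v w

variable {F : Type u} [Field F]

/-- Semisimplicity over a finite field, phrased by Frobenius. -/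
def SS {V : Type v} [AddCommGroup V] [Module F V] (f : Module.End F V) : Prop :=
  ∃ N : ℕ, 0 < N ∧ f ^ (Nat.card F ^ N) = f

section Basic

variable {V : Type v} [AddCommGroup V] [Module F V] {W : Type w} [AddCommGroup W] [Module F W]

theorem pow_pow_fix {A : Type*} [Monoid A] {x : A} {m : ℕ} (h : x ^ m = x) :
    ∀ k, x ^ (m ^ k) = x := by
  intro k
  induction k with
  | zero => rw [pow_zero, pow_one]
  | succ k ih => rw [pow_succ, pow_mul, ih, h]

theorem SS.conj {f : Module.End F V} (h : SS f) (e : V ≃ₗ[F] W) : SS (e.conjRingEquiv f) := by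
  obtain ⟨N, hN, hf⟩ := h
  exact ⟨N, hN, by rw [← map_pow, hf]⟩

theorem coe_pow_restrict {f : Module.End F V} {p : Submodule F V} (hp : ∀ x ∈ p, f x ∈ p) (m : ℕ)
    (x : p) : (((f.restrict hp) ^ m) x : V) = (f ^ m) (x : V) := by
  induction m with
  | zero => rfl
  | succ m ih =>
    rw [pow_succ', pow_succ', Module.End.mul_apply, Module.End.mul_apply, LinearMap.coe_restrict_apply,
      ih]

theorem SS.restrict {f : Module.End F V} (h : SS f) {p : Submodule F V} (hp : ∀ x ∈ p, f x ∈ p) :
    SS (f.restrict hp) := by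
  obtain ⟨N, hN, hf⟩ := h
  refine ⟨N, hN, LinearMap.ext fun x => Subtype.ext ?_⟩
  rw [coe_pow_restrict, hf]
  rfl

theorem SS.prodMap {f : Module.End F V} {g : Module.End F W} (hf : SS f) (hg : SS g) :
    SS (f.prodMap g : Module.End F (V × W)) := by
  obtain ⟨N, hN, hf⟩ := hf
  obtain ⟨M, hM, hg⟩ := hg
  refine ⟨N * M, Nat.mul_pos hN hM, ?_⟩
  have hpow : ∀ m : ℕ, (f.prodMap g : Module.End F (V × W)) ^ m = (f ^ m).prodMap (g ^ m) := by
    intro m
    induction m with
    | zero => exact LinearMap.ext fun x => rfl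
    | succ m ih =>
      rw [pow_succ, pow_succ, pow_succ, ih]
      exact LinearMap.ext fun x => rfl
  rw [hpow, show f ^ (Nat.card F ^ (N * M)) = f by rw [pow_mul]; exact pow_pow_fix hf M,
    show g ^ (Nat.card F ^ (N * M)) = g by rw [mul_comm N M, pow_mul]; exact pow_pow_fix hg N]

theorem SS.isSemisimple [Finite F] [FiniteDimensional F V] {f : Module.End F V} (h : SS f) :
    f.IsSemisimple := by
  obtain ⟨N, hN, hf⟩ := h
  obtain ⟨p, hp⟩ := CharP.exists F
  have : Fact p.Prime := ⟨CharP.char_is_prime F p⟩
  have := Fintype.ofFinite F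
  obtain ⟨m, -, hm⟩ := FiniteField.card F p
  refine Module.End.isSemisimple_of_squarefree_aeval_eq_zero
    (p := (X : F[X]) ^ (Nat.card F ^ N) - X) ?_ ?_
  · refine (galois_poly_separable p (Nat.card F ^ N) ?_).squarefree
    rw [Nat.card_eq_fintype_card, hm, ← pow_mul]
    exact dvd_pow_self p (Nat.mul_ne_zero m.ne_zero hN.ne')
  · rw [map_sub, map_pow, aeval_X, hf, sub_self]

end Basic

section Block

variable [Finite F]

theorem ss_mulLeft_root {P : F[X]} (hP : Irreducible P) :
    SS (LinearMap.mulLeft F (AdjoinRoot.root P)) := by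
  have : Fact (Irreducible P) := ⟨hP⟩
  have : Module.Finite F (AdjoinRoot P) := (AdjoinRoot.powerBasis hP.ne_zero).finite
  have hfin : Finite (AdjoinRoot P) := Module.finite_of_finite F
  have := Fintype.ofFinite (AdjoinRoot P)
  refine ⟨finrank F (AdjoinRoot P), Module.finrank_pos, LinearMap.ext fun x => ?_⟩
  have hpow : ∀ m : ℕ, (LinearMap.mulLeft F (AdjoinRoot.root P)) ^ m =
      LinearMap.mulLeft F (AdjoinRoot.root P ^ m) := fun m => by simp
  rw [hpow, ← Module.natCard_eq_pow_finrank (K := F) (V := AdjoinRoot P), Nat.card_eq_fintype_card,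
    FiniteField.pow_card]

omit [Finite F] in
theorem charpoly_mulLeft_root {P : F[X]} (hP : Irreducible P) (hPm : P.Monic)
    [Module.Finite F (AdjoinRoot P)] :
    (LinearMap.mulLeft F (AdjoinRoot.root P)).charpoly = P := by
  have h := charpoly_leftMulMatrix (AdjoinRoot.powerBasis hP.ne_zero)
  rw [AdjoinRoot.minpoly_powerBasis_gen_of_monic hPm] at h
  refine Eq.trans ?_ h
  rw [← LinearMap.charpoly_toMatrix _ (AdjoinRoot.powerBasis hP.ne_zero).basis,
    Algebra.leftMulMatrix_apply, AdjoinRoot.powerBasis_gen]
  rfl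

/-- Splitting off the block of an irreducible factor of the characteristic polynomial. -/
theorem exists_block {V : Type v} [AddCommGroup V] [Module F V] [FiniteDimensional F V]
    {f : Module.End F V} (hf : SS f) {P : F[X]} (hP : Irreducible P) (hPm : P.Monic)
    (hdvd : P ∣ f.charpoly) :
    ∃ (W : Submodule F V) (hW : ∀ x ∈ W, f x ∈ W) (e : (AdjoinRoot P × W) ≃ₗ[F] V),
      ∀ x, f (e x) = e ((LinearMap.mulLeft F (AdjoinRoot.root P)).prodMap (f.restrict hW) x) := by
  classical
  have : Fact (Irreducible P) := ⟨hP⟩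
  have hmin : P ∣ minpoly F f := by
    let b := Module.finBasis F V
    have h1 := CfsgLib.KnownC.irreducible_dvd_minpoly_of_dvd_charpoly (LinearMap.toMatrixAlgEquiv b f)
      hP (by rw [← LinearMap.charpoly_toMatrix f b] at hdvd; exact hdvd)
    rwa [minpoly.algEquiv_eq] at h1
  obtain ⟨v, hv0, hv⟩ : ∃ v : V, v ≠ 0 ∧ aeval f P v = 0 := by
    obtain ⟨R, hR⟩ := hmin
    have hfi : IsIntegral F f := Algebra.IsIntegral.isIntegral f
    have hne : minpoly F f ≠ 0 := minpoly.ne_zero hfi
    have hR0 : R ≠ 0 := fun h => hne (by rw [hR, h, mul_zero])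
    have hR2 : aeval f R ≠ 0 := by
      intro h
      have h1 := natDegree_le_of_dvd (minpoly.dvd F f h) hR0
      rw [hR, natDegree_mul hP.ne_zero hR0] at h1
      have := hP.natDegree_pos
      omega
    obtain ⟨x, hx⟩ : ∃ x, aeval f R x ≠ 0 := by
      by_contra hc
      push Not at hc
      exact hR2 (LinearMap.ext hc)
    refine ⟨aeval f R x, hx, ?_⟩
    rw [← Module.End.mul_apply, ← map_mul, ← hR, minpoly.aeval]
    rfl
  let ψ : F[X] →ₗ[F] V := (LinearMap.applyₗ v).comp (aeval f).toLinearMap
  let φ : AdjoinRoot P →ₗ[F] V := ψ.comp (AdjoinRoot.modByMonicHom hPm)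
  have hφ : ∀ p : F[X], φ (AdjoinRoot.mk P p) = aeval f p v := by
    intro p
    show aeval f (AdjoinRoot.modByMonicHom hPm (AdjoinRoot.mk P p)) v = _
    rw [AdjoinRoot.modByMonicHom_mk]
    conv_rhs => rw [← Polynomial.modByMonic_add_div p P, mul_comm P]
    rw [map_add, LinearMap.add_apply, map_mul, Module.End.mul_apply, hv, map_zero, add_zero]
  have hinj : Function.Injective φ := by
    rw [← LinearMap.ker_eq_bot, LinearMap.ker_eq_bot']
    intro a ha
    by_contra ha0
    obtain ⟨p, rfl⟩ := AdjoinRoot.mk_surjective a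
    obtain ⟨r, hr⟩ := AdjoinRoot.mk_surjective ((AdjoinRoot.mk P p)⁻¹)
    apply hv0
    have h1 : φ (AdjoinRoot.mk P (r * p)) = φ (AdjoinRoot.mk P 1) :=
      congrArg φ (by rw [map_mul, hr, inv_mul_cancel₀ ha0, map_one])
    rw [hφ] at ha
    rw [hφ, hφ, map_mul, Module.End.mul_apply, ha, map_zero, map_one] at h1
    exact h1.symm
  have hcomm : ∀ a, f (φ a) = φ (AdjoinRoot.root P * a) := by
    intro a
    obtain ⟨p, rfl⟩ := AdjoinRoot.mk_surjective a
    rw [← AdjoinRoot.mk_X, ← map_mul, hφ, hφ, map_mul, aeval_X]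
    rfl
  have hinv : LinearMap.range φ ∈ Module.End.invtSubmodule f := by
    rw [Module.End.mem_invtSubmodule_iff_forall_mem_of_mem]
    rintro _ ⟨a, rfl⟩
    exact ⟨AdjoinRoot.root P * a, (hcomm a).symm⟩
  obtain ⟨W, hW, hc⟩ := (Module.End.isSemisimple_iff.mp hf.isSemisimple) _ hinv
  rw [Module.End.mem_invtSubmodule_iff_forall_mem_of_mem] at hW
  refine ⟨W, hW, ((LinearEquiv.ofInjective φ hinj).prodCongr (LinearEquiv.refl F W)).trans
    (Submodule.prodEquivOfIsCompl _ _ hc), fun x => ?_⟩
  simp [hcomm]

end Block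

section Classify

variable [Finite F]

/-- Semisimple endomorphisms with equal characteristic polynomials are conjugate. -/
theorem exists_conj : ∀ (n : ℕ) {V : Type v} [AddCommGroup V] [Module F V] [FiniteDimensional F V]
    {V' : Type w} [AddCommGroup V'] [Module F V'] [FiniteDimensional F V']
    (f : Module.End F V) (g : Module.End F V'), finrank F V = n → SS f → SS g →
    f.charpoly = g.charpoly → ∃ e : V ≃ₗ[F] V', ∀ x, g (e x) = e (f x) := by
  classical
  intro n
  induction n using Nat.strong_induction_on with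
  | _ n ih =>
    intro V _ _ _ V' _ _ _ f g hn hf hg hfg
    have hn' : finrank F V' = n := by
      rw [← hn, ← f.charpoly_natDegree, hfg, g.charpoly_natDegree]
    rcases Nat.eq_zero_or_pos n with rfl | hpos
    · refine ⟨LinearEquiv.ofFinrankEq _ _ (hn.trans hn'.symm), fun x => ?_⟩
      have := Module.finrank_zero_iff.mp hn'
      exact Subsingleton.elim _ _
    · obtain ⟨P, hPm, hP, hPf⟩ := Polynomial.exists_monic_irreducible_factor f.charpoly (fun hu => by
        have := natDegree_eq_zero_of_isUnit hu
        rw [f.charpoly_natDegree, hn] at this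
        omega)
      obtain ⟨W, hW, e, he⟩ := exists_block hf hP hPm hPf
      obtain ⟨W', hW', e', he'⟩ := exists_block hg hP hPm (hfg ▸ hPf)
      have : Fact (Irreducible P) := ⟨hP⟩
      have : Module.Finite F (AdjoinRoot P) := (AdjoinRoot.powerBasis hP.ne_zero).finite
      have hcp : ∀ {U : Type v} [AddCommGroup U] [Module F U] [FiniteDimensional F U]
          (r : Module.End F U), ((LinearMap.mulLeft F (AdjoinRoot.root P)).prodMap r).charpoly =
            P * r.charpoly := fun r => by
        rw [LinearMap.charpoly_prodMap, charpoly_mulLeft_root hP hPm]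
      have h1 : f.charpoly = P * (f.restrict hW).charpoly := by
        rw [← charpoly_mulLeft_root hP hPm, ← LinearMap.charpoly_prodMap, ← e.charpoly_conj]
        congr 1
        refine LinearMap.ext fun x => ?_
        obtain ⟨y, rfl⟩ := e.surjective x
        rw [he]
        simp [LinearEquiv.conj_apply]
      have h2 : g.charpoly = P * (g.restrict hW').charpoly := by
        rw [← charpoly_mulLeft_root hP hPm, ← LinearMap.charpoly_prodMap, ← e'.charpoly_conj]
        congr 1
        refine LinearMap.ext fun x => ?_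
        obtain ⟨y, rfl⟩ := e'.surjective x
        rw [he']
        simp [LinearEquiv.conj_apply]
      have hfr : finrank F W < n := by
        have hh := congrArg natDegree h1
        rw [f.charpoly_natDegree, natDegree_mul hP.ne_zero (f.restrict hW).charpoly_monic.ne_zero,
          (f.restrict hW).charpoly_natDegree, hn] at hh
        have := hP.natDegree_pos
        omega
      obtain ⟨d, hd⟩ := ih _ hfr (f.restrict hW) (g.restrict hW') rfl (hf.restrict hW)
        (hg.restrict hW') (mul_left_cancel₀ hP.ne_zero (by rw [← h1, ← h2, hfg]))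
      refine ⟨(e.symm.trans ((LinearEquiv.refl F (AdjoinRoot P)).prodCongr d)).trans e', fun x => ?_⟩
      obtain ⟨y, rfl⟩ := e.surjective x
      rw [he]
      simp only [LinearEquiv.trans_apply, LinearEquiv.symm_apply_apply]
      rw [he']
      congr 1
      exact Prod.ext rfl (hd y.2)

/-- Every monic polynomial is the characteristic polynomial of a semisimple endomorphism. -/
theorem exists_ss : ∀ (n : ℕ) (p : F[X]), p.Monic → p.natDegree = n →
    ∃ f : Module.End F (Fin n → F), SS f ∧ f.charpoly = p := by
  classical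
  intro n
  induction n using Nat.strong_induction_on with
  | _ n ih =>
    intro p hp hn
    rcases Nat.eq_zero_or_pos n with rfl | hpos
    · refine ⟨1, ⟨1, one_pos, one_pow _⟩, ?_⟩
      rw [hp.natDegree_eq_zero.mp hn]
      exact ((1 : Module.End F (Fin 0 → F)).charpoly_monic.natDegree_eq_zero).mp
        (by rw [LinearMap.charpoly_natDegree]; simp)
    · obtain ⟨P, hPm, hP, R, rfl⟩ := Polynomial.exists_monic_irreducible_factor p (fun hu => by
        have := natDegree_eq_zero_of_isUnit hu
        omega)
      have hRm : R.Monic := hPm.of_mul_monic_left hp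
      have hdeg := hPm.natDegree_mul hRm
      have hPpos := hP.natDegree_pos
      obtain ⟨g, hg, hgc⟩ := ih R.natDegree (by omega) R hRm rfl
      have : Fact (Irreducible P) := ⟨hP⟩
      have : Module.Finite F (AdjoinRoot P) := (AdjoinRoot.powerBasis hP.ne_zero).finite
      let e : (AdjoinRoot P × (Fin R.natDegree → F)) ≃ₗ[F] (Fin n → F) :=
        LinearEquiv.ofFinrankEq _ _ (by
          rw [Module.finrank_prod, (AdjoinRoot.powerBasis hP.ne_zero).finrank,
            AdjoinRoot.powerBasis_dim, Module.finrank_pi, Module.finrank_pi, Fintype.card_fin,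
            Fintype.card_fin, ← hn, hdeg])
      refine ⟨e.conjRingEquiv ((LinearMap.mulLeft F (AdjoinRoot.root P)).prodMap g),
        ((ss_mulLeft_root hP).prodMap hg).conj e, ?_⟩
      rw [show e.conjRingEquiv ((LinearMap.mulLeft F (AdjoinRoot.root P)).prodMap g) =
        e.conj ((LinearMap.mulLeft F (AdjoinRoot.root P)).prodMap g) from rfl, e.charpoly_conj,
        LinearMap.charpoly_prodMap, charpoly_mulLeft_root hP hPm, hgc]

/-- The centraliser of a semisimple endomorphism has surjective determinant. -/
theorem exists_comm_det {V : Type v} [AddCommGroup V] [Module F V] [FiniteDimensional F V]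
    {f : Module.End F V} (hf : SS f) (hV : 0 < finrank F V) {c : F} (hc : c ≠ 0) :
    ∃ d : Module.End F V, d * f = f * d ∧ LinearMap.det d = c := by
  classical
  obtain ⟨P, hPm, hP, hPf⟩ := Polynomial.exists_monic_irreducible_factor f.charpoly (fun hu => by
    have := natDegree_eq_zero_of_isUnit hu
    rw [f.charpoly_natDegree] at this
    omega)
  obtain ⟨W, hW, e, he⟩ := exists_block hf hP hPm hPf
  have : Fact (Irreducible P) := ⟨hP⟩
  have : Module.Finite F (AdjoinRoot P) := (AdjoinRoot.powerBasis hP.ne_zero).finite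
  have : Finite (AdjoinRoot P) := Module.finite_of_finite F
  obtain ⟨y, hy⟩ := FiniteField.norm_surjective F (AdjoinRoot P) c
  refine ⟨e.conj ((LinearMap.mulLeft F y).prodMap LinearMap.id), LinearMap.ext fun x => ?_, ?_⟩
  · obtain ⟨z, rfl⟩ := e.surjective x
    simp only [Module.End.mul_apply, he, LinearEquiv.conj_apply, LinearMap.comp_apply,
      LinearEquiv.coe_coe, LinearEquiv.symm_apply_apply]
    congr 1
    exact Prod.ext (by simp [mul_left_comm]) rfl
  · rw [LinearEquiv.conj_apply, LinearMap.comp_assoc, LinearMap.det_conj, LinearMap.det_prodMap,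
      LinearMap.det_id, mul_one, ← hy, Algebra.norm_apply]
    rfl

end Classify

end CfsgLib.KnownB.SSClass
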