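import Mathlib
import Cfsg.Agent.Lib.KnownB.SSClass

/-!
The Moebius function of the lattice of invariant subspaces of a semisimple endomorphism over a finite field.
-/

set_option autoImplicit false

namespace CfsgLib.KnownB.InvMobius

open Polynomial Module CfsgLib.KnownB.SSClass UniqueFactorizationMonoid

universe u v w

variable {F : Type u} [Field F] {V : Type v} [AddCommGroup V] [Module F V]

/-- The chains of non-zero invariant subspaces of `U` with largest member `U`. -/
def IsChainTo (f : Module.End F V) (U : Submodule F V) (C : Finset (Submodule F V)) : Prop :=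
  (∀ W ∈ C, W ≠ ⊥ ∧ W ≤ U ∧ ∀ x ∈ W, f x ∈ W) ∧ (∀ W ∈ C, ∀ W' ∈ C, W ≤ W' ∨ W' ≤ W) ∧ (U ≠ ⊥ → U ∈ C)

/-- The alternating number of chains up to `U`. -/
noncomputable def mob (f : Module.End F V) (U : Submodule F V) : ℤ :=
  ∑ᶠ C ∈ {C : Finset (Submodule F V) | IsChainTo f U C}, (-1 : ℤ) ^ C.card

theorem isChainTo_bot_iff (f : Module.End F V) (C : Finset (Submodule F V)) :
    IsChainTo f ⊥ C ↔ C = ∅ := by
  constructor
  · exact fun h => Finset.eq_empty_of_forall_notMem fun W hW => (h.1 W hW).1 (le_bot_iff.1 (h.1 W hW).2.1)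
  · rintro rfl
    exact ⟨by simp, by simp, fun h => absurd rfl h⟩

theorem mob_bot (f : Module.End F V) : mob f ⊥ = 1 := by
  have h : {C : Finset (Submodule F V) | IsChainTo f ⊥ C} = {∅} := Set.ext fun C => isChainTo_bot_iff f C
  rw [mob, h, finsum_mem_singleton, Finset.card_empty, pow_zero]

section Sum

variable [Finite V]

theorem finite_submodules : Finite (Submodule F V) :=
  Finite.of_injective (fun W : Submodule F V => (W : Set V)) SetLike.coe_injective

/-- The defining recursion. -/
theorem sum_mob (f : Module.End F V) {U : Submodule F V} (hU : U ≠ ⊥) (hUi : ∀ x ∈ U, f x ∈ U)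
    [Fintype (Submodule F V)] [DecidablePred fun W : Submodule F V => W ≤ U ∧ ∀ x ∈ W, f x ∈ W] :
    ∑ W ∈ Finset.univ.filter (fun W : Submodule F V => W ≤ U ∧ ∀ x ∈ W, f x ∈ W), mob f W = 0 := by
  classical
  set S := Finset.univ.filter (fun W : Submodule F V => W ≤ U ∧ ∀ x ∈ W, f x ∈ W) with hS
  have hUS : U ∈ S := by simp [hS]; exact hUi
  rw [← Finset.add_sum_erase S _ hUS]
  let CH : Submodule F V → Finset (Finset (Submodule F V)) := fun W => Finset.univ.filter (IsChainTo f W)
  have hmob : ∀ W, mob f W = ∑ C ∈ CH W, (-1 : ℤ) ^ C.card := fun W => by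
    rw [mob]
    exact finsum_mem_eq_sum_of_inter_support_eq _ (by ext C; simp [CH])
  simp only [hmob]
  rw [Finset.sum_sigma' (S.erase U) CH, add_eq_zero_iff_eq_neg, ← Finset.sum_neg_distrib]
  refine (Finset.sum_bij (fun x _ => insert U x.2) ?_ ?_ ?_ ?_).symm
  · rintro ⟨W, C⟩ hx
    simp only [Finset.mem_sigma, Finset.mem_erase, hS, Finset.mem_filter, Finset.mem_univ, true_and, CH] at hx ⊢
    obtain ⟨⟨hne, hle, -⟩, hC⟩ := hx
    refine ⟨fun W' hW' => ?_, fun W' hW' W'' hW'' => ?_, fun _ => Finset.mem_insert_self _ _⟩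
    · rcases Finset.mem_insert.1 hW' with rfl | h
      · exact ⟨hU, le_rfl, hUi⟩
      · exact ⟨(hC.1 W' h).1, (hC.1 W' h).2.1.trans hle, (hC.1 W' h).2.2⟩
    · rcases Finset.mem_insert.1 hW' with rfl | h <;> rcases Finset.mem_insert.1 hW'' with rfl | h'
      · exact Or.inl le_rfl
      · exact Or.inr ((hC.1 W'' h').2.1.trans hle)
      · exact Or.inl ((hC.1 W' h).2.1.trans hle)
      · exact hC.2.1 W' h W'' h'
  · rintro ⟨W, C⟩ hx ⟨W', C'⟩ hx' he
    simp only [Finset.mem_sigma, Finset.mem_erase, hS, Finset.mem_filter, Finset.mem_univ, true_and, CH] at hx hx'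
    obtain ⟨⟨hne, hle, -⟩, hC⟩ := hx
    obtain ⟨⟨hne', hle', -⟩, hC'⟩ := hx'
    have hU' : U ∉ C := fun h => hne (le_antisymm hle (hC.1 U h).2.1)
    have hU'' : U ∉ C' := fun h => hne' (le_antisymm hle' (hC'.1 U h).2.1)
    have hCC : C = C' := by
      have := congrArg (fun T : Finset (Submodule F V) => T.erase U) he
      simpa [Finset.erase_insert hU', Finset.erase_insert hU''] using this
    subst hCC
    have hWW : W = W' := by
      refine le_antisymm ?_ ?_
      · rcases eq_or_ne W ⊥ with rfl | h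
        · exact bot_le
        · exact (hC'.1 W (hC.2.2 h)).2.1
      · rcases eq_or_ne W' ⊥ with rfl | h
        · exact bot_le
        · exact (hC.1 W' (hC'.2.2 h)).2.1
    subst hWW
    rfl
  · intro C hC
    simp only [Finset.mem_filter, Finset.mem_univ, true_and, CH] at hC
    have hUC : U ∈ C := hC.2.2 hU
    -- the largest of the others
    obtain ⟨W, hW1, hW2⟩ : ∃ W : Submodule F V,
        (W ∈ C.erase U ∨ W = ⊥) ∧ ∀ W' ∈ C.erase U, W' ≤ W := by
      rcases (C.erase U).eq_empty_or_nonempty with h | h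
      · exact ⟨⊥, Or.inr rfl, by simp [h]⟩
      · obtain ⟨W, hW, hmax⟩ := Finset.exists_maximal h
        refine ⟨W, Or.inl hW, fun W' hW' => ?_⟩
        rcases hC.2.1 W' (Finset.mem_of_mem_erase hW') W (Finset.mem_of_mem_erase hW) with h' | h'
        · exact h'
        · exact hmax hW' h'
    have hWU : W ≠ U ∧ W ≤ U ∧ ∀ x ∈ W, f x ∈ W := by
      rcases hW1 with h | rfl
      · exact ⟨Finset.ne_of_mem_erase h, (hC.1 W (Finset.mem_of_mem_erase h)).2⟩
      · exact ⟨hU.symm, bot_le, fun x hx => by rw [Submodule.mem_bot] at hx ⊢; rw [hx, map_zero]⟩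
    refine ⟨⟨W, C.erase U⟩, ?_, Finset.insert_erase hUC⟩
    simp only [Finset.mem_sigma, Finset.mem_erase, hS, Finset.mem_filter, Finset.mem_univ, true_and, CH]
    exact ⟨hWU, fun W' hW' => ⟨(hC.1 W' (Finset.mem_of_mem_erase hW')).1, hW2 W' hW',
        (hC.1 W' (Finset.mem_of_mem_erase hW')).2.2⟩,
      fun W' hW' W'' hW'' => hC.2.1 W' (Finset.mem_of_mem_erase hW') W'' (Finset.mem_of_mem_erase hW''),
      fun h => hW1.resolve_right h⟩
  · rintro ⟨W, C⟩ hx
    simp only [Finset.mem_sigma, Finset.mem_erase, hS, Finset.mem_filter, Finset.mem_univ, true_and, CH] at hx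
    obtain ⟨⟨hne, hle, -⟩, hC⟩ := hx
    have hU' : U ∉ C := fun h => hne (le_antisymm hle (hC.1 U h).2.1)
    rw [Finset.card_insert_of_notMem hU', pow_succ, mul_neg_one]

/-- Weisner's lemma for a minimal invariant subspace. -/
theorem weisner (f : Module.End F V) {a : Submodule F V} (ha : a ≠ ⊥) (hai : ∀ x ∈ a, f x ∈ a)
    [Fintype (Submodule F V)] :
    ∀ (n : ℕ) (U : Submodule F V), finrank F U = n → a ≤ U → (∀ x ∈ U, f x ∈ U) →
      ∑ᶠ W ∈ {W : Submodule F V | (∀ x ∈ W, f x ∈ W) ∧ W ⊔ a = U}, mob f W = 0 := by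
  classical
  haveI : Finite V := inferInstance
  intro n
  induction n using Nat.strong_induction_on with
  | _ n ih =>
    intro U hn haU hUi
    have hUb : U ≠ ⊥ := fun h => ha (le_bot_iff.1 (h ▸ haU))
    have hS := sum_mob f hUb hUi
    rw [← Finset.sum_fiberwise_of_maps_to (t := Finset.univ.filter
        (fun U' : Submodule F V => a ≤ U' ∧ U' ≤ U ∧ ∀ x ∈ U', f x ∈ U')) (g := fun W => W ⊔ a)] at hS
    swap
    · intro W hW
      simp only [Finset.mem_filter, Finset.mem_univ, true_and] at hW ⊢
      refine ⟨le_sup_right, sup_le hW.1 haU, fun x hx => ?_⟩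
      obtain ⟨y, hy, z, hz, rfl⟩ := Submodule.mem_sup.1 hx
      rw [map_add]
      exact Submodule.add_mem_sup (hW.2 y hy) (hai z hz)
    have hUmem : U ∈ Finset.univ.filter (fun U' : Submodule F V => a ≤ U' ∧ U' ≤ U ∧ ∀ x ∈ U', f x ∈ U') := by
      simp only [Finset.mem_filter, Finset.mem_univ, true_and]
      exact ⟨haU, le_rfl, hUi⟩
    rw [Finset.sum_eq_single_of_mem U hUmem] at hS
    · refine Eq.trans (finsum_mem_eq_sum_of_inter_support_eq _ ?_) hS
      ext W
      simp only [Set.mem_inter_iff, Finset.coe_filter, Finset.mem_filter, Finset.mem_univ, true_and]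
      exact ⟨fun h => ⟨⟨⟨h.1.2 ▸ le_sup_left, h.1.1⟩, h.1.2⟩, h.2⟩,
        fun h => ⟨⟨h.1.1.2, h.1.2⟩, h.2⟩⟩
    · intro U' hU' hne
      simp only [Finset.mem_filter, Finset.mem_univ, true_and] at hU'
      haveI : Module.Finite F V := Module.Finite.of_finite
      have hlt := Submodule.finrank_lt_finrank_of_lt (lt_of_le_of_ne hU'.2.1 hne)
      refine Eq.trans (Eq.symm (finsum_mem_eq_sum_of_inter_support_eq _ ?_))
        (ih _ (hn ▸ hlt) U' rfl hU'.1 hU'.2.2)
      ext W
      simp only [Set.mem_inter_iff, Finset.coe_filter, Finset.mem_filter, Finset.mem_univ, true_and]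
      exact ⟨fun h => ⟨⟨⟨(h.1.2 ▸ le_sup_left : W ≤ U').trans hU'.2.1, h.1.1⟩, h.1.2⟩, h.2⟩,
        fun h => ⟨⟨h.1.1.2, h.1.2⟩, h.2⟩⟩

end Sum

/-! ### Homomorphisms into a simple block -/

section Hom

variable [Finite F] [DecidableEq F]

/-- The multiplicity of `P` in a polynomial. -/
noncomputable def mult (P χ : F[X]) : ℕ :=
  Multiset.count P (normalizedFactors χ)

theorem mult_mul {P Q χ : F[X]} (hQ : Irreducible Q) (hQm : Q.Monic) (hχ : χ.Monic) :
    (mult P (Q * χ) = mult P χ + 1 ∧ Q = P) ∨ (mult P (Q * χ) = mult P χ ∧ Q ≠ P) := by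
  classical
  have h : normalizedFactors (Q * χ) = Q ::ₘ normalizedFactors χ := by
    rw [normalizedFactors_mul hQ.ne_zero hχ.ne_zero, normalizedFactors_irreducible hQ, hQm.normalize_eq_self,
      Multiset.singleton_add]
  simp only [mult, h]
  rcases eq_or_ne Q P with e | e
  · exact Or.inl ⟨by rw [e, Multiset.count_cons_self], e⟩
  · exact Or.inr ⟨by rw [Multiset.count_cons_of_ne (Ne.symm e)], e⟩

/-- Equivariant maps from `W` to the block of `P`. -/
def homTo (P : F[X]) {W : Type w} [AddCommGroup W] [Module F W] (g : Module.End F W) :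
    Set (W →ₗ[F] AdjoinRoot P) :=
  {h | ∀ w, h (g w) = AdjoinRoot.root P * h w}

theorem card_homTo {P : F[X]} (hP : Irreducible P) (hPm : P.Monic) :
    ∀ (n : ℕ) {W : Type w} [AddCommGroup W] [Module F W] [FiniteDimensional F W] (g : Module.End F W),
      finrank F W = n → SS g →
        Nat.card (homTo P g) = Nat.card F ^ (P.natDegree * mult P g.charpoly) := by
  classical
  have : Fact (Irreducible P) := ⟨hP⟩
  have : Module.Finite F (AdjoinRoot P) := (AdjoinRoot.powerBasis hP.ne_zero).finite
  intro n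
  induction n using Nat.strong_induction_on with
  | _ n ih =>
    intro W _ _ _ g hn hg
    rcases Nat.eq_zero_or_pos n with rfl | hpos
    · have hsub : Subsingleton W := Module.finrank_zero_iff.1 hn
      have h1 : g.charpoly = 1 := by
        refine (LinearMap.charpoly_monic g).natDegree_eq_zero.1 ?_
        rw [g.charpoly_natDegree, hn]
      rw [h1, mult, normalizedFactors_one, Multiset.count_zero, mul_zero, pow_zero, Nat.card_eq_one_iff_unique]
      refine ⟨⟨fun a b => Subtype.ext (LinearMap.ext fun x => ?_)⟩, ⟨⟨0, fun w => by simp⟩⟩⟩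
      rw [Subsingleton.elim x 0, map_zero, map_zero]
    obtain ⟨Q, hQm, hQ, hQd⟩ := exists_monic_irreducible_factor g.charpoly (fun hu => by
      have := natDegree_eq_zero_of_isUnit hu
      rw [g.charpoly_natDegree] at this
      omega)
    obtain ⟨W', hW', e, he⟩ := exists_block hg hQ hQm hQd
    have : Fact (Irreducible Q) := ⟨hQ⟩
    have : Module.Finite F (AdjoinRoot Q) := (AdjoinRoot.powerBasis hQ.ne_zero).finite
    set g' := g.restrict hW' with hg'
    have hchar : g.charpoly = Q * g'.charpoly := by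
      have h1 : g = e.conj ((LinearMap.mulLeft F (AdjoinRoot.root Q)).prodMap g') :=
        LinearMap.ext fun x => by
          obtain ⟨y, rfl⟩ := e.surjective x
          rw [he, LinearEquiv.conj_apply_apply, e.symm_apply_apply]
      rw [h1, LinearEquiv.charpoly_conj, LinearMap.charpoly_prodMap, charpoly_mulLeft_root hQ hQm]
    have hdim : finrank F W' < n := by
      have h1 := congrArg natDegree hchar
      rw [natDegree_mul hQ.ne_zero (LinearMap.charpoly_monic g').ne_zero, g.charpoly_natDegree,
        g'.charpoly_natDegree, hn] at h1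
      have := hQ.natDegree_pos
      omega
    have hih := ih _ hdim g' rfl (hg.restrict hW')
    -- splitting
    let β : (AdjoinRoot Q →ₗ[F] AdjoinRoot P) × (W' →ₗ[F] AdjoinRoot P) → (W →ₗ[F] AdjoinRoot P) :=
      fun x => (x.1.coprod x.2).comp e.symm.toLinearMap
    have hsplit : Nat.card (homTo P g) =
        Nat.card (homTo P (LinearMap.mulLeft F (AdjoinRoot.root Q))) * Nat.card (homTo P g') := by
      rw [← Nat.card_prod]
      refine (Nat.card_congr (Equiv.ofBijective (fun x => (⟨β (x.1.1, x.2.1), fun w => ?_⟩ : homTo P g)) ⟨?_, ?_⟩)).symm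
      · obtain ⟨y, rfl⟩ := e.surjective w
        simp only [β, LinearMap.comp_apply, LinearEquiv.coe_coe, he, e.symm_apply_apply, LinearMap.coprod_apply,
          LinearMap.prodMap_apply, mul_add]
        rw [x.1.2 y.1, x.2.2 y.2]
      · rintro ⟨a, b⟩ ⟨a', b'⟩ h
        have h' := congrArg Subtype.val h
        simp only [β] at h'
        refine Prod.ext (Subtype.ext (LinearMap.ext fun l => ?_)) (Subtype.ext (LinearMap.ext fun l => ?_))
        · simpa using LinearMap.congr_fun h' (e (l, 0))
        · simpa using LinearMap.congr_fun h' (e (0, l))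
      · rintro ⟨h, hh⟩
        refine ⟨(⟨h.comp (e.toLinearMap.comp (LinearMap.inl F _ _)), fun l => ?_⟩,
          ⟨h.comp (e.toLinearMap.comp (LinearMap.inr F _ _)), fun l => ?_⟩), Subtype.ext (LinearMap.ext fun w => ?_)⟩
        · simp only [LinearMap.comp_apply, LinearMap.inl_apply, LinearEquiv.coe_coe]
          rw [← hh, he]
          simp
        · simp only [LinearMap.comp_apply, LinearMap.inr_apply, LinearEquiv.coe_coe]
          rw [← hh, he]
          simp
        · obtain ⟨⟨y₁, y₂⟩, rfl⟩ := e.surjective w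
          simp only [β, LinearMap.comp_apply, LinearEquiv.coe_coe, e.symm_apply_apply, LinearMap.coprod_apply,
            LinearMap.inl_apply, LinearMap.inr_apply, ← map_add, Prod.mk_add_mk, add_zero, zero_add]
    have hpoly : ∀ h : AdjoinRoot Q →ₗ[F] AdjoinRoot P, h ∈ homTo P (LinearMap.mulLeft F (AdjoinRoot.root Q)) →
        ∀ p : F[X], h (AdjoinRoot.mk Q p) = AdjoinRoot.mk P p * h 1 := by
      intro h hh p
      induction p using Polynomial.induction_on with
      | C c =>
        rw [AdjoinRoot.mk_C, AdjoinRoot.mk_C, ← AdjoinRoot.algebraMap_eq, ← AdjoinRoot.algebraMap_eq,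
          Algebra.algebraMap_eq_smul_one, map_smul, ← Algebra.smul_def]
      | add p r hp hr => rw [map_add, map_add, map_add, hp, hr, add_mul]
      | monomial m c hm =>
        rw [pow_succ', mul_left_comm, map_mul, AdjoinRoot.mk_X, map_mul (AdjoinRoot.mk P), AdjoinRoot.mk_X,
          mul_assoc, ← hm]
        exact hh _
    rw [hsplit, hih, hchar]
    rcases mult_mul (P := P) hQ hQm (LinearMap.charpoly_monic g') with ⟨hm, rfl⟩ | ⟨hm, hne⟩
    · rw [hm, Nat.mul_succ, add_comm, pow_add]
      congr 1
      rw [← AdjoinRoot.powerBasis_dim hP.ne_zero, ← (AdjoinRoot.powerBasis hP.ne_zero).finrank,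
        ← Module.natCard_eq_pow_finrank (K := F)]
      refine Nat.card_congr (Equiv.ofBijective (fun h => h.1 1) ⟨fun a b hab => ?_, fun z => ?_⟩)
      · refine Subtype.ext (LinearMap.ext fun l => ?_)
        obtain ⟨p, rfl⟩ := AdjoinRoot.mk_surjective l
        rw [hpoly _ a.2, hpoly _ b.2, show a.1 1 = b.1 1 from hab]
      · exact ⟨⟨LinearMap.mulRight F z, fun w => mul_assoc _ _ _⟩, one_mul z⟩
    · rw [hm]
      suffices h1 : Nat.card (homTo P (LinearMap.mulLeft F (AdjoinRoot.root Q))) = 1 by rw [h1, one_mul]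
      rw [Nat.card_eq_one_iff_unique]
      refine ⟨⟨fun a b => Subtype.ext ?_⟩, ⟨⟨0, fun w => by simp⟩⟩⟩
      have key : ∀ h : AdjoinRoot Q →ₗ[F] AdjoinRoot P, h ∈ homTo P (LinearMap.mulLeft F (AdjoinRoot.root Q)) →
          h = 0 := by
        intro h hh
        have h0 := hpoly h hh Q
        rw [AdjoinRoot.mk_self, map_zero, eq_comm, mul_eq_zero] at h0
        have h1 : h 1 = 0 := h0.resolve_left fun h2 => hne
          (eq_of_monic_of_associated hQm hPm (hP.associated_of_dvd hQ (AdjoinRoot.mk_eq_zero.1 h2)).symm)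
        refine LinearMap.ext fun l => ?_
        obtain ⟨p, rfl⟩ := AdjoinRoot.mk_surjective l
        rw [hpoly h hh, h1, mul_zero, LinearMap.zero_apply]
      rw [key a.1 a.2, key b.1 b.2]

end Hom

/-! ### The value -/

section Value

variable [DecidableEq F]

/-- The value at a polynomial, given as the product over its monic irreducible factors. -/
noncomputable def val (q : ℤ) (s : Multiset F[X]) : ℤ :=
  ∏ P ∈ s.toFinset, (-1) ^ ((P.natDegree - 1) * s.count P) * q ^ (P.natDegree * (s.count P).choose 2)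

theorem val_cons (q : ℤ) (s : Multiset F[X]) (P : F[X]) :
    val q (P ::ₘ s) = (-1) ^ (P.natDegree - 1) *
      q ^ (P.natDegree * s.count P) * val q s := by
  classical
  have hT : ∀ t : Multiset F[X], t ≤ P ::ₘ s →
      val q t = ∏ Q ∈ (P ::ₘ s).toFinset, (-1) ^ ((Q.natDegree - 1) * t.count Q) *
        q ^ (Q.natDegree * (t.count Q).choose 2) := by
    intro t ht
    unfold val
    convert Finset.prod_subset (fun Q hQ => Multiset.mem_toFinset.2
      (Multiset.mem_of_le ht (Multiset.mem_toFinset.1 hQ))) ?_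
    intro Q _ hQ
    rw [Multiset.mem_toFinset] at hQ
    simp [Multiset.count_eq_zero.2 hQ]
  have hPmem : P ∈ (P ::ₘ s).toFinset := by simp
  rw [hT _ le_rfl, hT s (Multiset.le_cons_self _ _), ← Finset.mul_prod_erase _ _ hPmem,
    ← Finset.mul_prod_erase _ _ hPmem, Multiset.count_cons_self]
  rw [Finset.prod_congr rfl (fun Q hQ => by
    rw [Multiset.count_cons_of_ne (Finset.ne_of_mem_erase hQ)])]
  rw [Nat.choose_succ_succ, Nat.choose_one_right, Nat.mul_succ, pow_add, mul_add, pow_add]
  ring

variable [Fintype F] [Finite V]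

theorem card_field_pos : 0 < Nat.card F := Nat.card_pos

/-- The restriction to an invariant subspace. -/
theorem mob_eq (f : Module.End F V) (hf : SS f) :
    ∀ (n : ℕ) (U : Submodule F V) (hU : ∀ x ∈ U, f x ∈ U), finrank F U = n →
      mob f U = (-1) ^ n * val (Nat.card F : ℤ) (normalizedFactors (f.restrict hU).charpoly) := by
  classical
  haveI : Module.Finite F V := Module.Finite.of_finite
  haveI : Finite (Submodule F V) := finite_submodules
  letI : Fintype (Submodule F V) := Fintype.ofFinite _
  intro n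
  induction n using Nat.strong_induction_on with
  | _ n ih =>
    intro U hU hn
    rcases Nat.eq_zero_or_pos n with rfl | hpos
    · have h1 : (f.restrict hU).charpoly = 1 := by
        refine (LinearMap.charpoly_monic _).natDegree_eq_zero.1 ?_
        rw [LinearMap.charpoly_natDegree, hn]
      rw [h1, normalizedFactors_one, Submodule.finrank_eq_zero.1 hn, mob_bot]
      simp [val]
    obtain ⟨P, hPm, hP, hPd⟩ := exists_monic_irreducible_factor (f.restrict hU).charpoly (fun hu => by
      have := natDegree_eq_zero_of_isUnit hu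
      rw [LinearMap.charpoly_natDegree] at this
      omega)
    have : Fact (Irreducible P) := ⟨hP⟩
    haveI : Module.Finite F (AdjoinRoot P) := (AdjoinRoot.powerBasis hP.ne_zero).finite
    obtain ⟨W₀, hW₀, e, he⟩ := exists_block (hf.restrict hU) hP hPm hPd
    set g₀ := (f.restrict hU).restrict hW₀ with hg₀
    let u : (AdjoinRoot P × W₀) →ₗ[F] V := U.subtype.comp e.toLinearMap
    have hu : Function.Injective u := U.injective_subtype.comp e.injective
    have huf : ∀ x, f (u x) = u ((LinearMap.mulLeft F (AdjoinRoot.root P)).prodMap g₀ x) := fun x =>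
      congrArg Subtype.val (he x)
    have hurange : LinearMap.range u = U := by
      show LinearMap.range (U.subtype.comp e.toLinearMap) = U
      rw [LinearMap.range_comp_of_range_eq_top _ e.range, Submodule.range_subtype]
    set L₀ : Submodule F (AdjoinRoot P × W₀) := Submodule.prod ⊤ ⊥ with hL₀
    set a : Submodule F V := L₀.map u with ha
    have hai : ∀ x ∈ a, f x ∈ a := by
      rintro _ ⟨y, hy, rfl⟩
      refine ⟨_, ?_, (huf y).symm⟩
      obtain ⟨-, hy2⟩ := hy
      exact ⟨trivial, (Submodule.mem_bot F).2 (by simp [(Submodule.mem_bot F).1 hy2])⟩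
    have haU : a ≤ U := hurange ▸ LinearMap.map_le_range
    have ha0 : a ≠ ⊥ := by
      intro h
      have h1 : u (1, 0) ∈ a := ⟨(1, 0), ⟨trivial, zero_mem _⟩, rfl⟩
      rw [h, Submodule.mem_bot, ← map_zero u] at h1
      exact one_ne_zero (congrArg Prod.fst (hu h1))
    have hatom : ∀ W : Submodule F V, (∀ x ∈ W, f x ∈ W) → W ⊓ a ≠ ⊥ → a ≤ W := by
      intro W hW hne
      obtain ⟨x, hx, hx0⟩ := Submodule.exists_mem_ne_zero_of_ne_bot hne
      obtain ⟨hxW, ⟨l, z⟩, ⟨-, hz⟩, rfl⟩ := hx
      replace hz := (Submodule.mem_bot F).1 hz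
      change z = 0 at hz
      subst hz
      have hl : l ≠ 0 := fun h => hx0 (by rw [h]; exact map_zero u)
      have hall : ∀ p : F[X], u (AdjoinRoot.mk P p * l, 0) ∈ W := by
        intro p
        induction p using Polynomial.induction_on with
        | C c =>
          rw [AdjoinRoot.mk_C, ← AdjoinRoot.algebraMap_eq, ← Algebra.smul_def]
          rw [show ((c • l, 0) : AdjoinRoot P × W₀) = c • (l, 0) by simp, map_smul]
          exact W.smul_mem c hxW
        | add p r hp hr =>
          rw [map_add, add_mul, show ((AdjoinRoot.mk P p * l + AdjoinRoot.mk P r * l, 0) : AdjoinRoot P × W₀) =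
            (AdjoinRoot.mk P p * l, 0) + (AdjoinRoot.mk P r * l, 0) by simp, map_add]
          exact W.add_mem hp hr
        | monomial m c hm =>
          have h1 := hW _ hm
          rw [huf] at h1
          convert h1 using 2
          simp only [LinearMap.prodMap_apply, LinearMap.mulLeft_apply, map_zero, pow_succ, map_mul, AdjoinRoot.mk_X]
          congr 1
          ring
      rintro _ ⟨⟨l', z⟩, ⟨-, hz⟩, rfl⟩
      replace hz := (Submodule.mem_bot F).1 hz
      change z = 0 at hz
      subst hz
      obtain ⟨p, hp⟩ := AdjoinRoot.mk_surjective (l' * l⁻¹)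
      have h1 := hall p
      rwa [hp, inv_mul_cancel_right₀ hl] at h1
    -- complements
    let graph : (W₀ →ₗ[F] AdjoinRoot P) → Submodule F V := fun h => LinearMap.range (u.comp (h.prod LinearMap.id))
    have hgi : ∀ h ∈ homTo P g₀, ∀ x ∈ graph h, f x ∈ graph h := by
      rintro h hh _ ⟨w, rfl⟩
      refine ⟨g₀ w, ?_⟩
      simp [huf, hh w]
    have hgsup : ∀ h, graph h ⊔ a = U := by
      intro h
      refine le_antisymm (sup_le (hurange ▸ LinearMap.range_comp_le_range _ _) haU) ?_
      rw [← hurange]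
      rintro _ ⟨⟨l, w⟩, rfl⟩
      rw [show ((l, w) : AdjoinRoot P × W₀) = (h w, w) + (l - h w, 0) by simp, map_add]
      exact Submodule.add_mem_sup ⟨w, rfl⟩ ⟨_, ⟨trivial, zero_mem _⟩, rfl⟩
    have hginf : ∀ h, graph h ⊓ a = ⊥ := by
      intro h
      rw [Submodule.eq_bot_iff]
      rintro x ⟨⟨w, rfl⟩, ⟨y, ⟨-, hy⟩, hxy⟩⟩
      replace hy := (Submodule.mem_bot F).1 hy
      have h1 := hu hxy
      have h2 := congrArg Prod.snd h1
      simp only [LinearMap.prod_apply, Function.prod, LinearMap.id_coe, id_eq] at h2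
      rw [hy] at h2
      subst h2
      simp
      exact map_zero u
    have hginj : ∀ h h', graph h = graph h' → h = h' := by
      intro h h' he'
      refine LinearMap.ext fun w => ?_
      have h1 : u.comp (h.prod LinearMap.id) w ∈ graph h' := he' ▸ ⟨w, rfl⟩
      obtain ⟨w', hw'⟩ := h1
      have h2 := hu hw'
      simp only [LinearMap.prod_apply, Function.prod, LinearMap.id_coe, id_eq, Prod.mk.injEq] at h2
      rw [← h2.1, h2.2]
    have hgsurj : ∀ W : Submodule F V, (∀ x ∈ W, f x ∈ W) → W ⊔ a = U → W ⊓ a = ⊥ →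
        ∃ h ∈ homTo P g₀, graph h = W := by
      intro W hWi hWs hWn
      have huniq : ∀ l l' : AdjoinRoot P, ∀ w : W₀, u (l, w) ∈ W → u (l', w) ∈ W → l = l' := by
        intro l l' w h1 h2
        have h3 : u (l - l', 0) ∈ W ⊓ a := ⟨by
          rw [show ((l - l', 0) : AdjoinRoot P × W₀) = (l, w) - (l', w) by simp, map_sub]
          exact W.sub_mem h1 h2, ⟨_, ⟨trivial, zero_mem _⟩, rfl⟩⟩
        rw [hWn, Submodule.mem_bot, ← map_zero u] at h3
        exact sub_eq_zero.1 (congrArg Prod.fst (hu h3))
      have hex : ∀ w : W₀, ∃ l : AdjoinRoot P, u (l, w) ∈ W := by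
        intro w
        have h1 : u (0, w) ∈ W ⊔ a := hWs.symm.le (hurange.le ⟨_, rfl⟩)
        obtain ⟨y, hy, z, ⟨⟨l', z'⟩, ⟨-, hz'⟩, rfl⟩, hyz⟩ := Submodule.mem_sup.1 h1
        replace hz' := (Submodule.mem_bot F).1 hz'
        change z' = 0 at hz'
        subst hz'
        refine ⟨-l', ?_⟩
        rw [show ((-l', w) : AdjoinRoot P × W₀) = (0, w) - (l', 0) by simp, map_sub, ← hyz, add_sub_cancel_right]
        exact hy
      choose h hh using hex
      let hl : W₀ →ₗ[F] AdjoinRoot P :=
        { toFun := h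
          map_add' := fun w w' => huniq _ _ _ (hh _) (by
            rw [show ((h w + h w', w + w') : AdjoinRoot P × W₀) = (h w, w) + (h w', w') from rfl, map_add]
            exact W.add_mem (hh _) (hh _))
          map_smul' := fun c w => huniq _ _ _ (hh _) (by
            rw [show ((RingHom.id F c • h w, c • w) : AdjoinRoot P × W₀) = c • (h w, w) from rfl, map_smul]
            exact W.smul_mem _ (hh _)) }
      refine ⟨hl, fun w => huniq _ _ _ (hh _) ?_, le_antisymm ?_ ?_⟩
      · have h1 := hWi _ (hh w)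
        rw [huf] at h1
        exact h1
      · rintro _ ⟨w, rfl⟩
        exact hh w
      · intro x hx
        obtain ⟨⟨l, w⟩, rfl⟩ : x ∈ LinearMap.range u := hurange.ge (hWs.le (Submodule.mem_sup_left hx))
        exact ⟨w, by simp [hl, huniq _ _ _ (hh w) hx]⟩
    -- charpoly of complements
    have hgchar : ∀ h (hh : h ∈ homTo P g₀), (f.restrict (hgi h hh)).charpoly = g₀.charpoly := by
      intro h hh
      let ε : W₀ ≃ₗ[F] graph h := LinearEquiv.ofInjective (u.comp (h.prod LinearMap.id))
        (hu.comp fun w w' e' => congrArg Prod.snd e')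
      have hεf : f.restrict (hgi h hh) = ε.conj g₀ := LinearMap.ext fun x => by
        obtain ⟨w, rfl⟩ := ε.surjective x
        rw [LinearEquiv.conj_apply_apply, ε.symm_apply_apply]
        refine Subtype.ext ?_
        show f (u (h w, w)) = u (h (g₀ w), g₀ w)
        rw [huf, hh w]
        rfl
      rw [hεf, LinearEquiv.charpoly_conj]
    have hchar : (f.restrict hU).charpoly = P * g₀.charpoly := by
      have h1 : f.restrict hU = e.conj ((LinearMap.mulLeft F (AdjoinRoot.root P)).prodMap g₀) :=
        LinearMap.ext fun x => by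
          obtain ⟨y, rfl⟩ := e.surjective x
          rw [he, LinearEquiv.conj_apply_apply, e.symm_apply_apply]
      rw [h1, LinearEquiv.charpoly_conj, LinearMap.charpoly_prodMap, charpoly_mulLeft_root hP hPm]
    set m := finrank F W₀ with hm
    have hdeg : n = P.natDegree + m := by
      have h1 := congrArg natDegree hchar
      rwa [natDegree_mul hP.ne_zero (LinearMap.charpoly_monic g₀).ne_zero, LinearMap.charpoly_natDegree,
        LinearMap.charpoly_natDegree, hn] at h1
    have hPpos := hP.natDegree_pos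
    have hmobW : ∀ h (_ : h ∈ homTo P g₀),
        mob f (graph h) = (-1) ^ m * val (Nat.card F : ℤ) (normalizedFactors g₀.charpoly) := by
      intro h hh
      have hfr : finrank F (graph h) = m := by
        rw [← LinearMap.charpoly_natDegree (f.restrict (hgi h hh)), hgchar h hh, LinearMap.charpoly_natDegree]
      rw [ih m (by omega) (graph h) (hgi h hh) hfr, hgchar h hh]
    -- Weisner
    have hw := weisner f ha0 hai n U hn haU hU
    have hset : {W : Submodule F V | (∀ x ∈ W, f x ∈ W) ∧ W ⊔ a = U} = insert U (graph '' homTo P g₀) := by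
      ext W
      simp only [Set.mem_insert_iff, Set.mem_image, Set.mem_setOf_eq]
      constructor
      · rintro ⟨hWi, hWs⟩
        by_cases hWn : W ⊓ a = ⊥
        · exact Or.inr (hgsurj W hWi hWs hWn)
        · left
          rwa [sup_eq_left.2 (hatom W hWi hWn)] at hWs
      · rintro (rfl | ⟨h, hh, rfl⟩)
        · exact ⟨hU, sup_eq_left.2 haU⟩
        · exact ⟨hgi h hh, hgsup h⟩
    have hUnot : U ∉ graph '' homTo P g₀ := by
      rintro ⟨h, -, he'⟩
      have h1 := hginf h
      rw [he', inf_eq_right.2 haU] at h1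
      exact ha0 h1
    haveI : Finite (W₀ →ₗ[F] AdjoinRoot P) := by
      haveI : Finite (AdjoinRoot P) := Module.finite_of_finite F
      exact Finite.of_injective _ DFunLike.coe_injective
    rw [hset, finsum_mem_insert _ hUnot (Set.toFinite _), finsum_mem_image (fun h _ h' _ he' => hginj h h' he'),
      finsum_mem_congr rfl hmobW, finsum_mem_eq_finite_toFinset_sum _ (Set.toFinite _), Finset.sum_const,
      nsmul_eq_mul, ← Set.ncard_eq_toFinset_card _ (Set.toFinite _), ← Nat.card_coe_set_eq,
      card_homTo hP hPm m g₀ rfl ((hf.restrict hU).restrict hW₀)] at hw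
    rw [hchar, normalizedFactors_mul hP.ne_zero (LinearMap.charpoly_monic g₀).ne_zero,
      normalizedFactors_irreducible hP, hPm.normalize_eq_self, Multiset.singleton_add, val_cons, hdeg]
    rw [eq_neg_of_add_eq_zero_left hw, mult, Nat.cast_pow]
    obtain ⟨d, hd⟩ : ∃ d, P.natDegree = d + 1 := ⟨P.natDegree - 1, by omega⟩
    rw [hd, Nat.add_sub_cancel, pow_add, pow_succ]
    have hsq : ((-1 : ℤ) ^ d) * (-1) ^ d = 1 := by rw [← mul_pow]; simp
    linear_combination ((-1 : ℤ) ^ m *
      (Nat.card F : ℤ) ^ ((d + 1) * Multiset.count P (normalizedFactors g₀.charpoly)) *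
      val (Nat.card F : ℤ) (normalizedFactors g₀.charpoly)) * hsq

end Value

end CfsgLib.KnownB.InvMobius
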