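import Cfsg.Agent.Lib.KnownB.GLDouble
import Mathlib.RingTheory.PowerSeries.Basic
import Mathlib.RingTheory.MvPolynomial.Basic
import Mathlib.LinearAlgebra.Matrix.Block
import Mathlib.LinearAlgebra.Vandermonde

/-!
# The Jacobi–Trudi / bialternant identity, in the form of alternating counts of matrices
-/

set_option autoImplicit false

namespace CfsgLib.KnownB.JT

open Finset

variable {n : ℕ}

/-- The polynomial ring in `n` variables. -/
local notation "R" => MvPolynomial (Fin n) ℤ

/-- Complete homogeneous symmetric polynomial, as a coefficient. -/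
noncomputable def hh (n b : ℕ) : MvPolynomial (Fin n) ℤ :=
  PowerSeries.coeff b (∏ l : Fin n, PowerSeries.mk fun m => (MvPolynomial.X l : MvPolynomial (Fin n) ℤ) ^ m)

theorem hh_zero : hh n 0 = 1 := by
  rw [hh, PowerSeries.coeff_zero_eq_constantCoeff_apply, map_prod]
  exact Finset.prod_eq_one fun l _ => by
    rw [PowerSeries.constantCoeff_mk, pow_zero]

theorem geom_mul (a : R) :
    (PowerSeries.mk fun m => a ^ m) * (1 - PowerSeries.C a * PowerSeries.X) = 1 := by
  ext1 m
  rw [mul_sub, mul_one, ← mul_assoc, map_sub]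
  cases m with
  | zero => simp
  | succ m =>
    rw [PowerSeries.coeff_succ_mul_X, PowerSeries.coeff_mul_C, PowerSeries.coeff_mk,
      PowerSeries.coeff_mk, PowerSeries.coeff_one, if_neg (Nat.succ_ne_zero m), pow_succ, sub_self]

/-- The cofactor polynomial. -/
noncomputable def cof (i : Fin n) : Polynomial (MvPolynomial (Fin n) ℤ) :=
  ∏ l ∈ (Finset.univ.erase i), (1 - Polynomial.C (MvPolynomial.X l : R) * Polynomial.X)

theorem cof_coeff_eq_zero (i : Fin n) {k : ℕ} (hk : n ≤ k) : (cof i).coeff k = 0 := by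
  refine Polynomial.coeff_eq_zero_of_natDegree_lt (lt_of_le_of_lt ?_ (lt_of_lt_of_le i.pos hk |> fun h => (show n - 1 < k by have := i.pos; omega)))
  refine (Polynomial.natDegree_prod_le _ _).trans ((Finset.sum_le_card_nsmul _ _ 1 fun l _ => ?_).trans ?_)
  · refine (Polynomial.natDegree_sub_le _ _).trans (max_le (by simp) ?_)
    exact (Polynomial.natDegree_C_mul_le _ _).trans Polynomial.natDegree_X_le
  · simp [Finset.card_erase_of_mem]

theorem pow_eq_sum (i : Fin n) (m : ℕ) :
    (MvPolynomial.X i : R) ^ m =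
      ∑ k : Fin n, (if (k : ℕ) ≤ m then hh n (m - k) else 0) * (cof i).coeff k := by
  classical
  let G : Fin n → PowerSeries R := fun l => PowerSeries.mk fun m => (MvPolynomial.X l : R) ^ m
  have h : G i = (∏ l, G l) * (cof i : PowerSeries R) := by
    rw [← Finset.mul_prod_erase _ G (Finset.mem_univ i), mul_assoc, cof,
      ← Polynomial.coeToPowerSeries.ringHom_apply, map_prod, ← Finset.prod_mul_distrib,
      Finset.prod_eq_one, mul_one]
    intro l _
    rw [Polynomial.coeToPowerSeries.ringHom_apply, Polynomial.coe_sub, Polynomial.coe_one,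
      Polynomial.coe_mul, Polynomial.coe_C, Polynomial.coe_X]
    exact geom_mul _
  have h2 := congrArg (PowerSeries.coeff m) h
  rw [PowerSeries.coeff_mk] at h2
  rw [h2, PowerSeries.coeff_mul, ← Finset.Nat.sum_antidiagonal_swap,
    Finset.Nat.sum_antidiagonal_eq_sum_range_succ_mk,
    Fin.sum_univ_eq_sum_range (fun k => (if k ≤ m then hh n (m - k) else 0) * (cof i).coeff k) n]
  simp only [Prod.swap_prod_mk, Polynomial.coeff_coe]
  calc ∑ k ∈ range (m + 1), PowerSeries.coeff (m - k) (∏ l, G l) * (cof i).coeff k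
      = ∑ k ∈ range (m + 1), (if k ≤ m then hh n (m - k) else 0) * (cof i).coeff k :=
        Finset.sum_congr rfl fun k hk => by
          rw [if_pos (Nat.lt_succ_iff.mp (Finset.mem_range.mp hk))]; rfl
    _ = ∑ k ∈ range (max (m + 1) n), (if k ≤ m then hh n (m - k) else 0) * (cof i).coeff k :=
        Finset.sum_subset (Finset.range_mono (le_max_left _ _)) fun k _ hk => by
          rw [if_neg (by simpa using hk), zero_mul]
    _ = _ := (Finset.sum_subset (Finset.range_mono (le_max_right _ _)) fun k _ hk => by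
          rw [cof_coeff_eq_zero i (by simpa using hk), mul_zero]).symm

/-- The Jacobi–Trudi matrix. -/
noncomputable def jtMat (μ : Fin n → ℕ) : Matrix (Fin n) (Fin n) (MvPolynomial (Fin n) ℤ) :=
  Matrix.of fun i k => if (k : ℕ) ≤ μ i then hh n (μ i - k) else 0

/-- The alternant matrix. -/
noncomputable def altMat (μ : Fin n → ℕ) : Matrix (Fin n) (Fin n) (MvPolynomial (Fin n) ℤ) :=
  Matrix.of fun j i => MvPolynomial.X i ^ μ j

theorem altMat_eq (μ : Fin n → ℕ) :
    altMat μ = jtMat μ * Matrix.of fun (k i : Fin n) => (cof i).coeff (k : ℕ) := by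
  refine Matrix.ext fun j i => ?_
  rw [Matrix.mul_apply]
  exact pow_eq_sum i (μ j)

/-- The bialternant identity. -/
theorem det_altMat (μ : Fin n → ℕ) :
    (altMat μ).det = (altMat (fun i : Fin n => (i : ℕ))).det * (jtMat μ).det := by
  have h1 : (jtMat (fun i : Fin n => (i : ℕ))).det = 1 := by
    rw [Matrix.det_of_isLowerTriangular _ (fun i j hij => ?_)]
    · exact Finset.prod_eq_one fun i _ => by simp [jtMat, hh_zero]
    · have : i < j := hij
      show (if (j : ℕ) ≤ (i : ℕ) then _ else _) = _
      rw [if_neg (not_le.mpr (Fin.lt_def.mp this))]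
  rw [altMat_eq μ, altMat_eq fun i : Fin n => (i : ℕ), Matrix.det_mul, Matrix.det_mul, h1, one_mul,
    mul_comm]

theorem det_altMat_eq_sum (μ : Fin n → ℕ) :
    (altMat μ).det = ∑ σ : Equiv.Perm (Fin n), ((Equiv.Perm.sign σ : ℤ) : R) *
      MvPolynomial.monomial (Finsupp.equivFunOnFinite.symm fun i => μ (σ i)) 1 := by
  rw [Matrix.det_apply']
  refine Finset.sum_congr rfl fun σ _ => ?_
  congr 1
  rw [MvPolynomial.monomial_eq, Finsupp.prod_fintype _ _ (fun _ => pow_zero _), map_one, one_mul]
  rfl

theorem det_jtMat_eq_sum (μ : Fin n → ℕ) :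
    (jtMat μ).det = ∑ κ : Equiv.Perm (Fin n), ((Equiv.Perm.sign κ : ℤ) : R) *
      if ∀ i : Fin n, (κ i).val ≤ μ i then ∏ i, hh n (μ i - (κ i).val) else 0 := by
  rw [← Matrix.det_transpose, Matrix.det_apply']
  refine Finset.sum_congr rfl fun κ _ => ?_
  congr 1
  by_cases h : ∀ i : Fin n, (κ i).val ≤ μ i
  · rw [if_pos h]
    exact Finset.prod_congr rfl fun i _ => by simp [jtMat, h i]
  · rw [if_neg h]
    push Not at h
    obtain ⟨i, hi⟩ := h
    exact Finset.prod_eq_zero (Finset.mem_univ i) (by simp [jtMat, not_le.mpr hi])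

theorem coeff_prod_hh (a b : Fin n → ℕ) :
    MvPolynomial.coeff (Finsupp.equivFunOnFinite.symm a) (∏ j, hh n (b j)) =
      (Nat.card (Flag.Margins a b) : ℤ) := by
  classical
  have h1 : ∀ j, hh n (b j) = ∑ l ∈ Finset.finsuppAntidiag (Finset.univ : Finset (Fin n)) (b j),
      MvPolynomial.monomial l (1 : ℤ) := fun j => by
    rw [hh, PowerSeries.coeff_prod]
    refine Finset.sum_congr rfl fun l _ => ?_
    rw [MvPolynomial.monomial_eq, map_one, one_mul, Finsupp.prod_fintype _ _ (fun _ => pow_zero _)]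
    exact Finset.prod_congr rfl fun i _ => by rw [PowerSeries.coeff_mk]
  rw [Finset.prod_congr rfl fun j _ => h1 j, Finset.prod_univ_sum, MvPolynomial.coeff_sum]
  simp only [← MvPolynomial.monomial_sum_one, MvPolynomial.coeff_monomial]
  rw [Finset.sum_boole]
  norm_cast
  rw [← Fintype.card_coe, ← Nat.card_eq_fintype_card]
  refine Nat.card_congr ?_
  refine
    { toFun := fun f => ⟨fun i j => f.1 j i, ?_, ?_⟩
      invFun := fun M => ⟨fun j => Finsupp.equivFunOnFinite.symm fun i => M.1 i j, ?_⟩
      left_inv := fun f => Subtype.ext (funext fun j => Finsupp.ext fun i => rfl)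
      right_inv := fun M => Subtype.ext rfl }
  · intro i
    have := congrArg (fun g => g i) (Finset.mem_filter.mp f.2).2
    simpa using this
  · intro j
    have h := Fintype.mem_piFinset.mp (Finset.mem_filter.mp f.2).1 j
    exact (Finset.mem_finsuppAntidiag.mp h).1
  · refine Finset.mem_filter.mpr ⟨Fintype.mem_piFinset.mpr fun j =>
      Finset.mem_finsuppAntidiag.mpr ⟨M.2.2 j, Finset.subset_univ _⟩, Finsupp.ext fun i => ?_⟩
    simpa using M.2.1 i

/-- Alternating sums of matrix counts form the identity matrix. -/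
theorem alt_margins (lam mu : Fin n → ℕ) (hlam : StrictMono lam) (hmu : StrictMono mu) :
    (∑ κ : Equiv.Perm (Fin n), ∑ κ' : Equiv.Perm (Fin n),
      if (∀ i : Fin n, (κ i).val ≤ lam i) ∧ (∀ i : Fin n, (κ' i).val ≤ mu i) then
        (Equiv.Perm.sign κ : ℤ) * (Equiv.Perm.sign κ' : ℤ) *
          (Nat.card (Flag.Margins (fun i => lam i - (κ i).val) fun i => mu i - (κ' i).val) : ℤ)
      else 0) = if lam = mu then 1 else 0 := by
  classical
  have h := congrArg (MvPolynomial.coeff (Finsupp.equivFunOnFinite.symm lam)) (det_altMat mu)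
  have hL : MvPolynomial.coeff (Finsupp.equivFunOnFinite.symm lam) (altMat mu).det =
      if lam = mu then 1 else 0 := by
    rw [det_altMat_eq_sum, MvPolynomial.coeff_sum, Finset.sum_eq_single 1]
    · rw [← map_intCast (MvPolynomial.C : ℤ →+* R), MvPolynomial.coeff_C_mul,
        MvPolynomial.coeff_monomial, Equiv.Perm.sign_one]
      simp [eq_comm]
    · intro σ _ hσ
      rw [← map_intCast (MvPolynomial.C : ℤ →+* R), MvPolynomial.coeff_C_mul,
        MvPolynomial.coeff_monomial, if_neg, mul_zero]
      intro he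
      have he' : (fun i => mu (σ i)) = lam := Finsupp.equivFunOnFinite.symm.injective he
      apply hσ
      have hs : StrictMono σ := fun a b hab => hmu.lt_iff_lt.mp (by
        have := hlam hab
        rwa [← he'] at this)
      have := (hs.range_inj strictMono_id).mp (by rw [Set.range_id, σ.surjective.range_eq])
      exact Equiv.ext fun i => congrFun this i
    · simp
  rw [hL, det_altMat_eq_sum, det_jtMat_eq_sum, Finset.sum_mul, MvPolynomial.coeff_sum] at h
  rw [h]
  refine Finset.sum_congr rfl fun κ _ => ?_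
  rw [← map_intCast (MvPolynomial.C : ℤ →+* R), mul_assoc, MvPolynomial.coeff_C_mul,
    MvPolynomial.coeff_monomial_mul']
  by_cases hκ : ∀ i : Fin n, (κ i).val ≤ lam i
  · rw [if_pos (show Finsupp.equivFunOnFinite.symm (fun i => (κ i).val) ≤ Finsupp.equivFunOnFinite.symm lam
        from fun i => hκ i), one_mul, MvPolynomial.coeff_sum, Finset.mul_sum]
    refine Finset.sum_congr rfl fun κ' _ => ?_
    rw [← map_intCast (MvPolynomial.C : ℤ →+* R), MvPolynomial.coeff_C_mul]
    by_cases hκ' : ∀ i : Fin n, (κ' i).val ≤ mu i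
    · rw [if_pos ⟨hκ, hκ'⟩, if_pos hκ',
        show Finsupp.equivFunOnFinite.symm lam - Finsupp.equivFunOnFinite.symm (fun i => (κ i).val) =
          Finsupp.equivFunOnFinite.symm (fun i => lam i - (κ i).val) from Finsupp.ext fun i => rfl,
        coeff_prod_hh, mul_assoc]
      simp
    · rw [if_neg fun hh => hκ' hh.2, if_neg hκ', MvPolynomial.coeff_zero, mul_zero, mul_zero]
  · rw [if_neg (fun hh => hκ fun i => hh i), mul_zero]
    exact Finset.sum_eq_zero fun κ' _ => if_neg fun hh => hκ hh.1

end CfsgLib.KnownB.JT
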