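import Mathlib

/-!
Non-trivial words are not laws in symmetric and large alternating groups.
-/

namespace CfsgLib.KnownB

open Equiv

variable {α : Type*}

/-- A non-trivial word of a free group acts non-trivially in some finite symmetric group. -/
theorem exists_perm_lift_ne_one [DecidableEq α] (w : FreeGroup α) (hw : w ≠ 1) :
    ∃ (m : ℕ) (f : α → Perm (Fin m)), FreeGroup.lift f w ≠ 1 := by
  classical
  set L := w.toWord with hL
  let S : Finset (FreeGroup α) := (L.tails.map FreeGroup.mk).toFinset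
  have hsuf : ∀ l : List (α × Bool), l <:+ L → FreeGroup.mk l ∈ S := fun l hl =>
    List.mem_toFinset.2 (List.mem_map.2 ⟨l, List.mem_tails l L |>.2 hl, rfl⟩)
  let e : ∀ x : α, {g : S // FreeGroup.of x * g.1 ∈ S} ≃ {g : S // (FreeGroup.of x)⁻¹ * g.1 ∈ S} :=
    fun x =>
      { toFun := fun g => ⟨⟨_, g.2⟩, by simp⟩
        invFun := fun g => ⟨⟨_, g.2⟩, by simp⟩
        left_inv := fun g => by ext; simp
        right_inv := fun g => by ext; simp }
  let σ : α → Perm S := fun x => (e x).extendSubtype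
  have hσ : ∀ (x : α) (g : S), FreeGroup.of x * g.1 ∈ S → (σ x g).1 = FreeGroup.of x * g.1 := by
    intro x g hg
    simp only [σ, Equiv.extendSubtype_apply_of_mem (e x) g hg]
    rfl
  have h1 : (1 : FreeGroup α) ∈ S := hsuf [] List.nil_suffix
  have key : ∀ l : List (α × Bool), l <:+ L →
      (FreeGroup.lift σ (FreeGroup.mk l) ⟨1, h1⟩).1 =
        FreeGroup.mk l := by
    intro l
    induction l with
    | nil => intro _; rw [← FreeGroup.one_eq_mk, map_one]; rfl
    | cons a l ih =>
      intro hl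
      have hl' : l <:+ L := (List.suffix_cons a l).trans hl
      have hcons : FreeGroup.mk (a :: l) = FreeGroup.mk [a] * FreeGroup.mk l := by
        rw [FreeGroup.mul_mk]; rfl
      have hg : FreeGroup.lift σ (FreeGroup.mk l) ⟨1, h1⟩ =
          ⟨FreeGroup.mk l, hsuf l hl'⟩ := Subtype.ext (ih hl')
      rw [hcons, map_mul, Perm.mul_apply, hg]
      obtain ⟨x, b⟩ := a
      cases b
      · have h0 : FreeGroup.mk [(x, false)] = (FreeGroup.of x)⁻¹ := by
          rw [FreeGroup.of, FreeGroup.inv_mk]; rfl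
        rw [h0] at hcons ⊢
        have hmem : (FreeGroup.of x)⁻¹ * FreeGroup.mk l ∈ S := hcons ▸ hsuf _ hl
        have hgoal : σ x ⟨_, hmem⟩ = ⟨FreeGroup.mk l, hsuf l hl'⟩ := by
          apply Subtype.ext
          rw [hσ x _ (by simpa using hsuf l hl')]
          simp
        rw [map_inv, FreeGroup.lift_apply_of, ← hgoal]
        simp
      · have h0 : FreeGroup.mk [(x, true)] = FreeGroup.of x := rfl
        rw [h0] at hcons ⊢
        rw [FreeGroup.lift_apply_of, hσ x _ (hcons ▸ hsuf _ hl)]
  let ι : S ≃ Fin (Fintype.card S) := Fintype.equivFin S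
  refine ⟨Fintype.card S, fun x => ι.permCongrHom (σ x), fun h => hw ?_⟩
  have h2 : FreeGroup.lift (fun x => ι.permCongrHom (σ x)) =
      (ι.permCongrHom.toMonoidHom).comp (FreeGroup.lift σ) := by
    ext x; simp
  rw [h2, MonoidHom.comp_apply] at h
  have h3 : FreeGroup.lift σ w = 1 := ι.permCongrHom.map_eq_one_iff.1 h
  have := key L (List.suffix_refl L)
  have hLw : FreeGroup.mk L = w := FreeGroup.mk_toWord
  rw [hLw, h3] at this
  rw [← this, Perm.one_apply]

/-- The doubling embedding of `Perm (Fin m)` into the alternating group of degree `n ≥ 2 * m`. -/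
theorem exists_perm_hom_alternating (m n : ℕ) (h : 2 * m ≤ n) :
    ∃ φ : Perm (Fin m) →* alternatingGroup (Fin n), Function.Injective φ := by
  classical
  let ι : Fin m ⊕ Fin m ↪ Fin n := finSumFinEquiv.toEmbedding.trans (Fin.castLEEmb (by lia))
  let ψ : Perm (Fin m) →* Perm (Fin n) :=
    ((Perm.viaEmbeddingHom ι).comp (Perm.sumCongrHom (Fin m) (Fin m))).comp
      ((MonoidHom.id _).prod (MonoidHom.id _))
  have hψ : Function.Injective ψ :=
    ((Perm.viaEmbeddingHom_injective ι).comp Perm.sumCongrHom_injective).comp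
      (fun a b hab => congrArg Prod.fst hab)
  have hmem : ∀ σ, ψ σ ∈ alternatingGroup (Fin n) := by
    intro σ
    rw [Equiv.Perm.mem_alternatingGroup]
    show Perm.sign (Perm.viaEmbedding (σ.sumCongr σ) ι) = 1
    rw [Perm.viaEmbedding, Perm.sign_extendDomain, Perm.sign_sumCongr, ← sq, Int.units_sq]
  exact ⟨ψ.codRestrict _ hmem, fun a b hab => hψ (congrArg Subtype.val hab)⟩

/-- A non-trivial word is not a law in alternating groups of large degree. -/
theorem exists_alternating_lift_ne_one (w : FreeGroup ℕ) (hw : w ≠ 1) :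
    ∃ N : ℕ, ∀ n : ℕ, N ≤ n → ∃ f : ℕ → alternatingGroup (Fin n), FreeGroup.lift f w ≠ 1 := by
  obtain ⟨m, f, hf⟩ := exists_perm_lift_ne_one w hw
  refine ⟨2 * m, fun n hn => ?_⟩
  obtain ⟨φ, hφ⟩ := exists_perm_hom_alternating m n hn
  refine ⟨fun x => φ (f x), fun h => hf ?_⟩
  have h2 : FreeGroup.lift (fun x => φ (f x)) = φ.comp (FreeGroup.lift f) := by ext x; simp
  rw [h2, MonoidHom.comp_apply] at h
  exact hφ (h.trans (map_one φ).symm)

end CfsgLib.KnownB
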