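import Mathlib

/-!
A non-trivial word is not a law in `SL₂(F)` for large finite fields `F`, by a leading-coefficient
(ping-pong at infinity) argument with conjugates of diagonal matrices having distinct eigenlines.
-/

namespace CfsgLib.KnownB

open Matrix Polynomial

universe u

section
variable {F : Type u} [Field F]

/-- Matrix with eigenvalue `s` on `(1, a)` and `s⁻¹` on `(1, b)`. -/
noncomputable def lawMat (a b s : F) : Matrix (Fin 2) (Fin 2) F :=
  ((a - b) * s)⁻¹ • !![-b * s ^ 2 + a, s ^ 2 - 1; -(a * b) * s ^ 2 + a * b, a * s ^ 2 - b]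

theorem lawMat_det {a b s : F} (hab : a ≠ b) (hs : s ≠ 0) : (lawMat a b s).det = 1 := by
  have h : (a - b) * s ≠ 0 := mul_ne_zero (sub_ne_zero.2 hab) hs
  rw [lawMat, Matrix.det_smul, Matrix.det_fin_two_of, Fintype.card_fin]
  field_simp
  ring

theorem lawMat_mul_swap {a b s : F} (hab : a ≠ b) (hs : s ≠ 0) :
    lawMat a b s * lawMat b a s = 1 := by
  have h : (a - b) ≠ 0 := sub_ne_zero.2 hab
  have h' : (b - a) ≠ 0 := sub_ne_zero.2 hab.symm
  ext i j
  fin_cases i <;> fin_cases j <;>
    simp [lawMat, Matrix.mul_apply, Fin.sum_univ_two, Matrix.smul_apply] <;> field_simp <;> ring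

/-- The (unnormalised) second column of a product of `lawMat`s, as polynomials in `s`. -/
noncomputable def lawVec : List (F × F) → F[X] × F[X]
  | [] => (0, 1)
  | ab :: l =>
    (X ^ 2 * ((lawVec l).2 - C ab.2 * (lawVec l).1) + (C ab.1 * (lawVec l).1 - (lawVec l).2),
      X ^ 2 * (C ab.1 * ((lawVec l).2 - C ab.2 * (lawVec l).1)) +
        C ab.2 * (C ab.1 * (lawVec l).1 - (lawVec l).2))

theorem lawVec_natDegree (l : List (F × F)) :
    (lawVec l).1.natDegree ≤ 2 * l.length ∧ (lawVec l).2.natDegree ≤ 2 * l.length := by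
  induction l with
  | nil => simp [lawVec]
  | cons ab l ih =>
    obtain ⟨hp, hq⟩ := ih
    have hC : ∀ (c : F) (f : F[X]), f.natDegree ≤ 2 * l.length → (C c * f).natDegree ≤ 2 * l.length :=
      fun c f hf => le_trans natDegree_mul_le (by rw [natDegree_C]; omega)
    have hX : ∀ f : F[X], f.natDegree ≤ 2 * l.length →
        (X ^ 2 * f).natDegree ≤ 2 * (l.length + 1) :=
      fun f hf => le_trans natDegree_mul_le (by rw [natDegree_X_pow]; omega)
    have hs : ∀ f g : F[X], f.natDegree ≤ 2 * l.length → g.natDegree ≤ 2 * l.length →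
        (f - g).natDegree ≤ 2 * l.length :=
      fun f g hf hg => le_trans (natDegree_sub_le f g) (max_le hf hg)
    have hd := hs _ _ hq (hC ab.2 _ hp)
    have he := hs _ _ (hC ab.1 _ hp) hq
    simp only [lawVec, List.length_cons]
    exact ⟨le_trans (natDegree_add_le _ _) (max_le (hX _ hd) (by omega)),
      le_trans (natDegree_add_le _ _) (max_le (hX _ (hC ab.1 _ hd))
        (le_trans (hC ab.2 _ he) (by omega)))⟩

theorem lawVec_coeff_cons (ab : F × F) (l : List (F × F)) :
    (lawVec (ab :: l)).1.coeff (2 * (l.length + 1)) =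
        (lawVec l).2.coeff (2 * l.length) - ab.2 * (lawVec l).1.coeff (2 * l.length) ∧
      (lawVec (ab :: l)).2.coeff (2 * (l.length + 1)) =
        ab.1 * ((lawVec l).2.coeff (2 * l.length) - ab.2 * (lawVec l).1.coeff (2 * l.length)) := by
  obtain ⟨hp, hq⟩ := lawVec_natDegree l
  have h1 : (lawVec l).1.coeff (2 * (l.length + 1)) = 0 :=
    coeff_eq_zero_of_natDegree_lt (by omega)
  have h2 : (lawVec l).2.coeff (2 * (l.length + 1)) = 0 :=
    coeff_eq_zero_of_natDegree_lt (by omega)
  simp only [lawVec, coeff_add, coeff_sub, coeff_C_mul, h1, h2, mul_zero, sub_zero, add_zero]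
  rw [show 2 * (l.length + 1) = 2 * l.length + 2 by ring, coeff_X_pow_mul, coeff_X_pow_mul]
  simp [coeff_sub, coeff_C_mul]

theorem lawVec_coeff_ne_zero :
    ∀ l : List (F × F), l ≠ [] → l.IsChain (fun x y => y.1 ≠ x.2) →
      ∃ c : F, c ≠ 0 ∧ (lawVec l).1.coeff (2 * l.length) = c ∧
        ∀ ab ∈ l.head?, (lawVec l).2.coeff (2 * l.length) = c * ab.1
  | [], h, _ => absurd rfl h
  | [ab], _, _ => by
    refine ⟨1, one_ne_zero, ?_, fun y hy => ?_⟩
    · simpa [lawVec] using (lawVec_coeff_cons ab []).1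
    · simp at hy
      subst hy
      simpa [lawVec] using (lawVec_coeff_cons ab []).2
  | ab :: cd :: l, _, h => by
    rw [List.isChain_cons_cons] at h
    obtain ⟨c, hc, h1, h2⟩ := lawVec_coeff_ne_zero (cd :: l) (by simp) h.2
    have h2' := h2 cd (by simp)
    obtain ⟨e1, e2⟩ := lawVec_coeff_cons ab (cd :: l)
    rw [h1, h2'] at e1 e2
    refine ⟨c * cd.1 - ab.2 * c, ?_, e1, fun y hy => ?_⟩
    · intro h0
      have : c * (cd.1 - ab.2) = 0 := by linear_combination h0
      rcases mul_eq_zero.1 this with h0 | h0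
      · exact hc h0
      · exact h.1 (sub_eq_zero.1 h0)
    · simp at hy
      subst hy
      exact e2.trans (by ring)

theorem lawMat_prod_column (s : F) (hs : s ≠ 0) :
    ∀ l : List (F × F), (∀ ab ∈ l, ab.1 ≠ ab.2) →
      ∃ k : F, k ≠ 0 ∧ (l.map fun ab => lawMat ab.1 ab.2 s).prod 0 1 = k * (lawVec l).1.eval s ∧
        (l.map fun ab => lawMat ab.1 ab.2 s).prod 1 1 = k * (lawVec l).2.eval s
  | [], _ => ⟨1, one_ne_zero, by simp [lawVec], by simp [lawVec]⟩
  | ab :: l, h => by
    obtain ⟨k, hk, h1, h2⟩ := lawMat_prod_column s hs l (fun x hx => h x (by simp [hx]))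
    have hd : (ab.1 - ab.2) * s ≠ 0 := mul_ne_zero (sub_ne_zero.2 (h ab (by simp))) hs
    refine ⟨((ab.1 - ab.2) * s)⁻¹ * k, mul_ne_zero (inv_ne_zero hd) hk, ?_, ?_⟩
    · rw [List.map_cons, List.prod_cons, Matrix.mul_apply, Fin.sum_univ_two, h1, h2]
      simp [lawMat, lawVec]
      ring
    · rw [List.map_cons, List.prod_cons, Matrix.mul_apply, Fin.sum_univ_two, h1, h2]
      simp [lawMat, lawVec]
      ring

end

/-- A non-trivial word has a non-diagonal value in `SL₂` of every large enough finite field. -/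
theorem exists_sl2_lift_entry_ne_zero (w : FreeGroup ℕ) (hw : w ≠ 1) :
    ∃ N : ℕ, ∀ (F : Type u) [Field F] [Fintype F], N ≤ Fintype.card F →
      ∃ f : ℕ → Matrix.SpecialLinearGroup (Fin 2) F,
        (FreeGroup.lift f w : Matrix (Fin 2) (Fin 2) F) 0 1 ≠ 0 := by
  classical
  set L := w.toWord with hL
  set M := (L.map Prod.fst).sum + 1 with hM
  have hlt : ∀ x ∈ L, x.1 < M := fun x hx =>
    Nat.lt_succ_of_le (List.le_sum_of_mem (List.mem_map_of_mem hx))
  have hLne : L ≠ [] := fun h => hw (FreeGroup.toWord_eq_nil_iff.1 h)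
  refine ⟨2 * M + 2 * L.length + 2, fun F _ _ hcard => ?_⟩
  obtain ⟨e⟩ := Function.Embedding.nonempty_of_card_le (α := Fin M × Bool) (β := F)
    (by simp [Fintype.card_prod]; omega)
  let P : ℕ × Bool → F × F := fun x =>
    if h : x.1 < M then (e (⟨x.1, h⟩, x.2), e (⟨x.1, h⟩, !x.2)) else if x.2 then (1, 0) else (0, 1)
  have hPne : ∀ x, (P x).1 ≠ (P x).2 := by
    intro x
    by_cases h : x.1 < M
    · simp only [P, dif_pos h]
      exact fun he => by simpa using congrArg Prod.snd (e.injective he)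
    · simp only [P, dif_neg h]
      cases x.2 <;> simp
  have hPswap : ∀ i b, P (i, !b) = ((P (i, b)).2, (P (i, b)).1) := by
    intro i b
    by_cases h : i < M <;> cases b <;> simp [P, h]
  have hchain : (L.map P).IsChain (fun x y => y.1 ≠ x.2) := by
    rw [List.isChain_map]
    refine List.IsChain.imp_of_mem_imp (fun x y hx hy hxy => ?_) FreeGroup.isReduced_toWord
    simp only [P, dif_pos (hlt x hx), dif_pos (hlt y hy)]
    intro h
    have h' := e.injective h
    simp only [Prod.mk.injEq, Fin.mk.injEq] at h'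
    have := hxy h'.1.symm
    rw [h'.2] at this
    simp at this
  obtain ⟨c, hc, hcoef, -⟩ := lawVec_coeff_ne_zero (L.map P) (by simpa using hLne) hchain
  set p := (lawVec (L.map P)).1 with hp
  have hpne : p ≠ 0 := fun h => hc (by rw [← hcoef, h, coeff_zero])
  have hdeg : p.natDegree ≤ 2 * L.length := by
    simpa using (lawVec_natDegree (L.map P)).1
  obtain ⟨s, -, hs⟩ := Finset.exists_mem_notMem_of_card_lt_card
    (s := insert 0 p.roots.toFinset) (t := (Finset.univ : Finset F)) (by
      have h1 := Finset.card_insert_le 0 p.roots.toFinset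
      have h2 := p.roots.toFinset_card_le
      have h3 := Polynomial.card_roots' p
      rw [Finset.card_univ]
      omega)
  simp only [Finset.mem_insert, Multiset.mem_toFinset, not_or] at hs
  obtain ⟨hs0, hsr⟩ := hs
  let g : ℕ × Bool → Matrix.SpecialLinearGroup (Fin 2) F := fun x =>
    ⟨lawMat (P x).1 (P x).2 s, lawMat_det (hPne x) hs0⟩
  refine ⟨fun i => g (i, true), ?_⟩
  have hinv : ∀ i, (g (i, true))⁻¹ = g (i, false) := by
    intro i
    refine inv_eq_of_mul_eq_one_right ?_
    apply Subtype.ext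
    have h1 := hPswap i true
    simp only [Bool.not_true] at h1
    simp only [g, Matrix.SpecialLinearGroup.coe_mul, Matrix.SpecialLinearGroup.coe_one, h1]
    exact lawMat_mul_swap (hPne _) hs0
  have hval : ∀ l : List (ℕ × Bool),
      (FreeGroup.lift (fun i => g (i, true)) (FreeGroup.mk l) : Matrix (Fin 2) (Fin 2) F) =
        ((l.map P).map fun ab => lawMat ab.1 ab.2 s).prod := by
    intro l
    rw [FreeGroup.lift_mk]
    induction l with
    | nil => simp
    | cons x l ih =>
      obtain ⟨i, b⟩ := x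
      simp only [List.map_cons, List.prod_cons, Matrix.SpecialLinearGroup.coe_mul, ih]
      cases b
      · simp only [cond_false, hinv]; rfl
      · simp only [cond_true]; rfl
  obtain ⟨k, hk, h1, -⟩ := lawMat_prod_column s hs0 (L.map P)
    (by intro x hx; obtain ⟨y, -, rfl⟩ := List.mem_map.1 hx; exact hPne y)
  rw [← FreeGroup.mk_toWord (x := w), hval, h1]
  refine mul_ne_zero hk fun h0 => hsr ?_
  rw [Polynomial.mem_roots hpne]
  exact h0

/-- A non-trivial word is not a law in `PSL₂(F)` for large finite fields. -/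
theorem exists_psl2_lift_ne_one (w : FreeGroup ℕ) (hw : w ≠ 1) :
    ∃ N : ℕ, ∀ (F : Type u) [Field F] [Fintype F], N ≤ Fintype.card F →
      ∃ f : ℕ → Matrix.ProjectiveSpecialLinearGroup (Fin 2) F, FreeGroup.lift f w ≠ 1 := by
  obtain ⟨N, hN⟩ := exists_sl2_lift_entry_ne_zero.{u} w hw
  refine ⟨N, fun F _ _ hF => ?_⟩
  obtain ⟨f, hf⟩ := hN F hF
  refine ⟨fun i => QuotientGroup.mk' _ (f i), fun h => hf ?_⟩
  have h2 : FreeGroup.lift (fun i => QuotientGroup.mk' (Subgroup.center (Matrix.SpecialLinearGroup (Fin 2) F)) (f i)) =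
      (QuotientGroup.mk' _).comp (FreeGroup.lift f) := by ext x; simp
  have h3 : FreeGroup.lift f w ∈ Subgroup.center (Matrix.SpecialLinearGroup (Fin 2) F) := by
    have := congrArg (fun φ => φ w) h2
    simp only [MonoidHom.comp_apply] at this
    exact (QuotientGroup.eq_one_iff _).1 (this.symm.trans h)
  rw [Matrix.SpecialLinearGroup.mem_center_iff] at h3
  obtain ⟨r, -, hr⟩ := h3
  rw [← hr]
  simp [Matrix.scalar_apply, Matrix.diagonal]

end CfsgLib.KnownB
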