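import Mathlib
import Cfsg.Prelude.Def_Classical
import Cfsg.Agent.Lib.KnownB.ClassicalEmbed

/-!
`A_n` and `SL₂` over the fixed field inside `SU_n`.
-/

namespace CfsgLib.KnownB

open Matrix
open scoped MatrixGroups

universe u
variable {F : Type u} [Field F]

/-- When `|F| = q²`, the map `x ↦ x^q` is a ring endomorphism whose square is the identity. -/
theorem exists_qFrobenius [Fintype F] {q : ℕ} (hF : Fintype.card F = q ^ 2) :
    ∃ σ : F →+* F, (∀ x, σ x = x ^ q) ∧ (∀ x, σ (σ x) = x) ∧ 2 ≤ q := by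
  obtain ⟨p, hchar⟩ := CharP.exists F
  obtain ⟨N, hp, hcard⟩ := FiniteField.card F p
  obtain ⟨k, -, hk⟩ := (Nat.dvd_prime_pow hp).1
    (show q ∣ p ^ (N : ℕ) by rw [← hcard, hF, sq]; exact dvd_mul_right q q)
  haveI := Fact.mk hp
  haveI : CharP F p := hchar
  have h1 : 2 ≤ q := by
    by_contra hlt
    have := Fintype.one_lt_card (α := F)
    rw [hF] at this
    have h' : q ^ 2 ≤ 1 ^ 2 := Nat.pow_le_pow_left (by omega) 2
    omega
  refine ⟨iterateFrobenius F p k, fun x => by rw [iterateFrobenius_def, hk], fun x => ?_, h1⟩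
  rw [iterateFrobenius_def, iterateFrobenius_def, ← hk, ← pow_mul, ← sq, ← hF, FiniteField.pow_card]

/-- A sufficient matrix criterion for membership of `SU`. -/
theorem mem_SU_of_transpose_mul {n q : ℕ} (σ : F →+* F) (hσ : ∀ x, σ x = x ^ q)
    (A : SpecialLinearGroup (Fin n) F)
    (hA : (A : Matrix (Fin n) (Fin n) F)ᵀ * (A : Matrix (Fin n) (Fin n) F).map σ = 1) :
    A ∈ Cfsg.SU n F q := by
  intro u v
  show Cfsg.hermForm n F q ((A : Matrix (Fin n) (Fin n) F) *ᵥ u)
    ((A : Matrix (Fin n) (Fin n) F) *ᵥ v) = Cfsg.hermForm n F q u v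
  have hh : ∀ x y : Fin n → F, Cfsg.hermForm n F q x y = x ⬝ᵥ (σ ∘ y) := by
    intro x y
    simp [Cfsg.hermForm, dotProduct, hσ]
  have hm : σ ∘ ((A : Matrix (Fin n) (Fin n) F) *ᵥ v) =
      (A : Matrix (Fin n) (Fin n) F).map σ *ᵥ (σ ∘ v) := by
    ext i
    simp [Matrix.mulVec, dotProduct, map_sum]
  rw [hh, hh, hm, ← Matrix.vecMul_transpose, ← Matrix.dotProduct_mulVec, Matrix.mulVec_mulVec, hA,
    Matrix.one_mulVec]

/-- `A_n` embeds in `SU_n`. -/
theorem exists_altSU [Fintype F] {n q : ℕ} (hF : Fintype.card F = q ^ 2) :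
    ∃ φ : alternatingGroup (Fin n) →* Cfsg.SU n F q, Function.Injective φ := by
  obtain ⟨σ, hσ, -, -⟩ := exists_qFrobenius hF
  refine ⟨(altSL n).codRestrict _ fun a => mem_SU_of_transpose_mul σ hσ _ ?_,
    fun a b h => altSL_injective n (congrArg Subtype.val h)⟩
  show ((a : Equiv.Perm (Fin n))⁻¹.permMatrix F)ᵀ * ((a : Equiv.Perm (Fin n))⁻¹.permMatrix F).map σ = 1
  rw [transpose_permMatrix]
  have h : ((a : Equiv.Perm (Fin n))⁻¹.permMatrix F).map σ = (a : Equiv.Perm (Fin n))⁻¹.permMatrix F := by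
    ext i j
    simp only [Matrix.map_apply, PEquiv.toMatrix_apply]
    split_ifs <;> simp
  rw [h, ← permMatrix_mul]
  simp

/-- The fixed field of `σ`. -/
abbrev sigmaField (σ : F →+* F) : Subfield F := RingHom.eqLocusField σ (RingHom.id F)

theorem exists_unitary_basis [Fintype F] {q : ℕ} (hF : Fintype.card F = q ^ 2) (σ : F →+* F)
    (hσ : ∀ x, σ x = x ^ q) (hσσ : ∀ x, σ (σ x) = x) (hq : 2 ≤ q) :
    q - 1 ≤ Nat.card (sigmaField σ) ∧ ∃ T : Matrix (Fin 2) (Fin 2) F, IsUnit T.det ∧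
      ∃ δ : F, Tᵀ * T.map σ = δ • !![0, 1; -1, 0] := by
  classical
  obtain ⟨g, hg⟩ := IsCyclic.exists_generator (α := Fˣ)
  have hord : orderOf g = q ^ 2 - 1 := by
    rw [orderOf_eq_card_of_forall_mem_zpowers hg, Nat.card_eq_fintype_card, Fintype.card_units, hF]
  obtain ⟨r, rfl⟩ : ∃ r, q = r + 2 := ⟨q - 2, by omega⟩
  have hsq : (r + 2) ^ 2 - 1 = (r + 1) * (r + 3) := by
    have : (r + 2) ^ 2 = (r + 1) * (r + 3) + 1 := by ring
    omega
  rw [hsq] at hord
  have hfull : (g : F) ^ ((r + 1) * (r + 3)) = 1 := by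
    rw [← hord, ← Units.val_pow_eq_pow_val, pow_orderOf_eq_one, Units.val_one]
  have hne : ∀ i, 0 < i → i < (r + 1) * (r + 3) → (g : F) ^ i ≠ 1 := by
    intro i hi hi2 h
    rw [← Units.val_pow_eq_pow_val] at h
    exact pow_ne_one_of_lt_orderOf hi.ne' (by omega) (Units.ext h)
  refine ⟨?_, ?_⟩
  · have hin : ∀ i : Fin (r + 1), (g : F) ^ ((i : ℕ) * (r + 3)) ∈ sigmaField σ := by
      intro i
      show σ _ = _
      rw [hσ, RingHom.id_apply, ← pow_mul,
        show (i : ℕ) * (r + 3) * (r + 2) = (r + 1) * (r + 3) * i + i * (r + 3) by ring, pow_add,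
        pow_mul, hfull, one_pow, one_mul]
    have := Nat.card_le_card_of_injective (fun i : Fin (r + 1) => (⟨_, hin i⟩ : sigmaField σ))
      (fun i j h => by
        have h' : g ^ ((i : ℕ) * (r + 3)) = g ^ ((j : ℕ) * (r + 3)) :=
          Units.ext (by simpa using congrArg Subtype.val h)
        have hlt : ∀ k : Fin (r + 1), (k : ℕ) * (r + 3) < orderOf g := fun k =>
          hord ▸ Nat.mul_lt_mul_of_pos_right k.2 (by omega)
        exact Fin.ext (Nat.eq_of_mul_eq_mul_right (by omega)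
          (pow_injOn_Iio_orderOf (hlt i) (hlt j) h')))
    simpa using this
  · -- roots of `x^(q+1) = -1` and an element with `σ δ = -δ`
    obtain ⟨ω, δ, hω, hδ0, hδ⟩ :
        ∃ ω δ : F, ω ^ (r + 3) = -1 ∧ δ ≠ 0 ∧ σ δ = -δ := by
      by_cases h2 : ringChar F = 2
      · haveI : CharP F 2 := h2 ▸ ringChar.charP F
        refine ⟨1, 1, ?_, one_ne_zero, ?_⟩
        · rw [one_pow, CharTwo.neg_eq]
        · rw [map_one, CharTwo.neg_eq]
      · have hodd : (r + 2) ^ 2 % 2 = 1 := hF ▸ FiniteField.odd_card_of_char_ne_two h2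
        have hr : Odd (r + 2) := Nat.Odd.of_mul_left (m := r + 2) (n := r + 2)
          (by rw [← sq]; exact Nat.odd_iff.2 hodd)
        obtain ⟨t, ht⟩ : ∃ t, r = 2 * t + 1 := ⟨r / 2, by obtain ⟨s, hs⟩ := hr; omega⟩
        subst ht
        have hhalf : (g : F) ^ ((t + 1) * (2 * t + 1 + 3)) = -1 := by
          have hh : ((g : F) ^ ((t + 1) * (2 * t + 1 + 3))) ^ 2 = 1 := by
            rw [← pow_mul, ← hfull]; congr 1; ring
          rcases sq_eq_one_iff.1 hh with h | h
          · exact absurd h (hne _ (by positivity) (by nlinarith))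
          · exact h
        refine ⟨(g : F) ^ (t + 1), (g : F) ^ (t + 2), by rw [← pow_mul, hhalf],
          pow_ne_zero _ g.ne_zero, ?_⟩
        rw [hσ, ← pow_mul,
          show (t + 2) * (2 * t + 1 + 2) = (t + 1) * (2 * t + 1 + 3) + (t + 2) by ring, pow_add,
          hhalf, neg_one_mul]
    have hω0 : ω ≠ 0 := by rintro rfl; simp [zero_pow] at hω
    set ρ : F := (g : F) ^ (r + 1) with hρ
    have hρ1 : ρ ≠ 1 := hne _ (by omega) (by nlinarith)
    have hρ0 : ρ ≠ 0 := pow_ne_zero _ g.ne_zero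
    have hρq : ρ * σ ρ = 1 := by
      rw [hσ, ← pow_succ', hρ, ← pow_mul, ← hfull]
    have hωq : ω * σ ω = -1 := by rw [hσ, ← pow_succ', hω]
    set A : F := 1 + ω * σ (ω * ρ) with hA
    have hA0 : A ≠ 0 := by
      intro h
      have hs : σ ρ = 1 := by
        rw [hA, map_mul, ← mul_assoc, hωq] at h
        linear_combination -h
      exact hρ1 (by rw [hs, mul_one] at hρq; exact hρq)
    set c : F := σ (δ * A⁻¹) with hc
    refine ⟨!![1, c; ω, ω * ρ * c], ?_, δ, ?_⟩
    · rw [Matrix.det_fin_two_of, isUnit_iff_ne_zero]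
      have hc0 : c ≠ 0 := by
        rw [hc, map_ne_zero_iff _ σ.injective]
        exact mul_ne_zero hδ0 (inv_ne_zero hA0)
      intro h
      have h' : c * ω * (ρ - 1) = 0 := by linear_combination h
      simp [hc0, hω0, sub_ne_zero.2 hρ1] at h'
    · have hcσ : σ c = δ * A⁻¹ := hσσ _
      have e01 : σ c + ω * σ (ω * ρ * c) = δ := by
        rw [map_mul, hcσ]
        have : A * A⁻¹ = 1 := mul_inv_cancel₀ hA0
        rw [hA] at this ⊢
        linear_combination δ * this
      have e10 : c + ω * ρ * c * σ ω = -δ := by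
        have h := congrArg σ e01
        simp only [map_add, map_mul, hσσ, hδ] at h
        linear_combination h
      have e00 : (1 : F) + ω * σ ω = 0 := by rw [hωq, add_neg_cancel]
      have e11 : c * σ c + ω * ρ * c * σ (ω * ρ * c) = 0 := by
        simp only [map_mul]
        linear_combination (c * σ c) * (ρ * σ ρ) * hωq - (c * σ c) * hρq
      ext i j
      fin_cases i <;> fin_cases j <;>
        simp [Matrix.mul_apply, Fin.sum_univ_two, Matrix.smul_apply, map_mul] <;>
        simp only [map_mul] at e01 e10 e00 e11 <;>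
        first | linear_combination e00 | linear_combination e01 | linear_combination e10 |
          linear_combination e11

/-- `SL₂` over a subfield of at least `q - 1` elements embeds in `SU_n`, `n ≥ 2`. -/
theorem exists_sl2SU [Fintype F] {n q : ℕ} (hn : 2 ≤ n) (hF : Fintype.card F = q ^ 2) :
    ∃ F₀ : Subfield F, q - 1 ≤ Nat.card F₀ ∧
      ∃ φ : SpecialLinearGroup (Fin 2) F₀ →* Cfsg.SU n F q, Function.Injective φ := by
  obtain ⟨σ, hσ, hσσ, hq⟩ := exists_qFrobenius hF
  obtain ⟨hcard, T, hT, δ, hTT⟩ := exists_unitary_basis hF σ hσ hσσ hq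
  refine ⟨_, hcard, ?_⟩
  set ι := (sigmaField σ).subtype with hι
  haveI : Invertible T := Matrix.invertibleOfIsUnitDet T hT
  have hTi : ∀ B : Matrix (Fin 2) (Fin 2) F, ⅟T * (T * B) = B := fun B => by
    rw [← Matrix.mul_assoc, invOf_mul_self, Matrix.one_mul]
  let conjT : Matrix (Fin 2) (Fin 2) F →* Matrix (Fin 2) (Fin 2) F :=
    { toFun := fun B => T * B * ⅟T
      map_one' := by simp
      map_mul' := fun A B => by simp only [Matrix.mul_assoc, hTi] }
  let S : SpecialLinearGroup (Fin 2) (sigmaField σ) →* SpecialLinearGroup (Fin 2) F :=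
    { toFun := fun B => ⟨conjT (SpecialLinearGroup.map ι B).1, by
        show (T * _ * ⅟T).det = 1
        rw [det_mul, det_mul, (SpecialLinearGroup.map ι B).2, mul_one, ← det_mul, mul_invOf_self,
          det_one]⟩
      map_one' := Subtype.ext (by simp)
      map_mul' := fun A B => Subtype.ext (by simp [Matrix.map_mul]; rfl) }
  have hS : Function.Injective S := by
    intro A B h
    have h1 : T * (SpecialLinearGroup.map ι A).1 * ⅟T = T * (SpecialLinearGroup.map ι B).1 * ⅟T :=
      congrArg Subtype.val h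
    have h2 := congrArg (fun M => ⅟T * M * T) h1
    simp only [← Matrix.mul_assoc, invOf_mul_self, Matrix.one_mul] at h2
    simp only [Matrix.mul_assoc, invOf_mul_self, Matrix.mul_one] at h2
    ext i j
    exact congrFun (congrFun h2 i) j
  have hblock : ∀ B, (S B).1ᵀ * (S B).1.map σ = 1 := by
    intro B
    have hfix : (SpecialLinearGroup.map ι B).1.map σ = (SpecialLinearGroup.map ι B).1 := by
      ext i j
      exact (B.1 i j).2
    set M := (SpecialLinearGroup.map ι B).1 with hM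
    have hJ : Mᵀ * !![0, 1; -1, 0] * M = !![0, 1; -1, 0] := by
      have hd : M 0 0 * M 1 1 - M 0 1 * M 1 0 = 1 := by
        rw [← Matrix.det_fin_two]; exact (SpecialLinearGroup.map ι B).2
      ext i j
      fin_cases i <;> fin_cases j <;> simp [Matrix.mul_apply, Fin.sum_univ_two] <;>
        first | ring1 | linear_combination hd | linear_combination -hd
    have hinvT : (T.map σ) * (⅟T).map σ = 1 := by
      rw [← Matrix.map_mul, mul_invOf_self]
      exact Matrix.map_one σ (map_zero σ) (map_one σ)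
    show (T * M * ⅟T)ᵀ * (T * M * ⅟T).map σ = 1
    rw [Matrix.map_mul, Matrix.map_mul, hfix, Matrix.transpose_mul, Matrix.transpose_mul]
    calc (⅟T)ᵀ * (Mᵀ * Tᵀ) * (T.map σ * M * (⅟T).map σ)
        = (⅟T)ᵀ * (Mᵀ * (Tᵀ * T.map σ) * M) * (⅟T).map σ := by simp only [Matrix.mul_assoc]
      _ = (⅟T)ᵀ * (Tᵀ * T.map σ) * (⅟T).map σ := by
        rw [hTT, Matrix.mul_smul, Matrix.smul_mul, hJ]
      _ = ((⅟T)ᵀ * Tᵀ) * (T.map σ * (⅟T).map σ) := by simp only [Matrix.mul_assoc]
      _ = 1 := by rw [hinvT, ← Matrix.transpose_mul, mul_invOf_self, Matrix.transpose_one,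
        Matrix.one_mul]
  refine ⟨((blockSL (twoSplit n hn)).comp S).codRestrict _ fun B =>
    mem_SU_of_transpose_mul σ hσ _ ?_,
    fun A B h => hS (blockSL_injective _ (congrArg Subtype.val h))⟩
  show (reindex _ _ (fromBlocks (S B).1 0 0 1))ᵀ * (reindex _ _ (fromBlocks (S B).1 0 0 1)).map σ = 1
  simp only [reindex_apply, Matrix.transpose_submatrix, ← Matrix.submatrix_map,
    Matrix.submatrix_mul_equiv, fromBlocks_transpose, fromBlocks_map, fromBlocks_multiply]
  simp [hblock B, fromBlocks_one, Matrix.map_one σ (map_zero σ) (map_one σ)]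

end CfsgLib.KnownB
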