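import Mathlib
import Cfsg.Prelude.Def_Classical
import Cfsg.Agent.Lib.KnownB.LawsPerm
import Cfsg.Agent.Lib.KnownB.LawsSL2
import Cfsg.Agent.Lib.KnownB.ClassicalEmbed
import Cfsg.Agent.Lib.KnownB.UnitaryEmbed

/-!
A non-trivial word is a law in only finitely many alternating and classical simple groups.
-/

namespace CfsgLib.KnownB

open Matrix
open scoped MatrixGroups

universe u v

section General

variable {α : Type*} {K : Type*} [Group K] {H : Type*} [Group H]

theorem map_lift {G : Type*} [Group G] (φ : K →* G) (f : α → K) (w : FreeGroup α) :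
    φ (FreeGroup.lift f w) = FreeGroup.lift (fun i => φ (f i)) w := by
  have h : φ.comp (FreeGroup.lift f) = FreeGroup.lift (fun i => φ (f i)) :=
    FreeGroup.ext_hom _ _ (fun a => by simp)
  exact DFunLike.congr_fun h w

theorem exists_lift_notMem_center (ψ : K →* H) (hψ : Function.Injective ψ) (w : FreeGroup α)
    (hK : ∃ f : α → K, FreeGroup.lift f w ∉ Subgroup.center K) :
    ∃ g : α → H, FreeGroup.lift g w ∉ Subgroup.center H := by
  obtain ⟨f, hf⟩ := hK
  refine ⟨fun i => ψ (f i), fun h => hf (Subgroup.mem_center_iff.2 fun x => hψ ?_)⟩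
  rw [map_mul, map_mul, map_lift]
  exact Subgroup.mem_center_iff.1 h (ψ x)

theorem exists_lift_notMem_center_commutator (ψ : K →* H) (hψ : Function.Injective ψ)
    (hperf : commutator K = ⊤) (w : FreeGroup α)
    (hK : ∃ f : α → K, FreeGroup.lift f w ∉ Subgroup.center K) :
    ∃ g : α → commutator H, FreeGroup.lift g w ∉ Subgroup.center (commutator H) := by
  refine exists_lift_notMem_center (ψ.codRestrict (commutator H) fun k => ?_)
    (fun a b h => hψ (congrArg Subtype.val h)) w hK
  have hle : (commutator K).map ψ ≤ commutator H := by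
    rw [commutator_def, Subgroup.map_commutator, commutator_def]
    exact Subgroup.commutator_mono le_top le_top
  exact hle (Subgroup.mem_map_of_mem ψ (hperf ▸ Subgroup.mem_top k))

theorem exists_quotient_center_lift_ne_one (w : FreeGroup α)
    (hH : ∃ g : α → H, FreeGroup.lift g w ∉ Subgroup.center H) :
    ∃ g : α → H ⧸ Subgroup.center H, FreeGroup.lift g w ≠ 1 := by
  obtain ⟨g, hg⟩ := hH
  refine ⟨fun i => QuotientGroup.mk' (Subgroup.center H) (g i), fun h => hg ?_⟩
  rw [← map_lift (QuotientGroup.mk' (Subgroup.center H)) g w] at h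
  exact (QuotientGroup.eq_one_iff _).1 h

theorem false_of_law {G Q : Type*} [Group G] [Group Q] (e : G ≃* Q) (w : FreeGroup α)
    (hlaw : ∀ f : α → G, FreeGroup.lift f w = 1) (hQ : ∃ g : α → Q, FreeGroup.lift g w ≠ 1) :
    False := by
  obtain ⟨g, hg⟩ := hQ
  apply hg
  have h := congrArg e.toMonoidHom (hlaw fun i => e.symm (g i))
  rw [map_lift, map_one] at h
  simpa using h

end General

/-- Uniform thresholds: large alternating groups and `SL₂` over large fields have a non-central
value of the word. -/
theorem exists_noncentral_thresholds (w : FreeGroup ℕ) (hw : w ≠ 1) :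
    ∃ N : ℕ,
      (∀ n, N ≤ n → 5 ≤ n ∧ ∃ f : ℕ → alternatingGroup (Fin n),
        FreeGroup.lift f w ∉ Subgroup.center (alternatingGroup (Fin n))) ∧
      (∀ (F : Type u) [Field F] [Fintype F], N ≤ Fintype.card F →
        commutator (SpecialLinearGroup (Fin 2) F) = ⊤ ∧
        ∃ f : ℕ → SpecialLinearGroup (Fin 2) F,
          FreeGroup.lift f w ∉ Subgroup.center (SpecialLinearGroup (Fin 2) F)) := by
  classical
  obtain ⟨N₁, h₁⟩ := exists_alternating_lift_ne_one w hw
  obtain ⟨N₂, h₂⟩ := exists_sl2_lift_entry_ne_zero.{u} w hw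
  refine ⟨max (max N₁ N₂) 5, fun n hn => ⟨by omega, ?_⟩, fun F _ _ hF => ⟨?_, ?_⟩⟩
  · obtain ⟨f, hf⟩ := h₁ n (by omega)
    exact ⟨f, by rwa [alternatingGroup.center_eq_bot (by simp; omega), Subgroup.mem_bot]⟩
  · obtain ⟨a, -, ha⟩ := Finset.exists_mem_notMem_of_card_lt_card (s := ({0, 1, -1} : Finset F))
      (t := Finset.univ) (by
        have := Finset.card_le_three (a := (0 : F)) (b := 1) (c := -1)
        rw [Finset.card_univ]; omega)
    simp only [Finset.mem_insert, Finset.mem_singleton, not_or] at ha
    refine Matrix.SL2.commutator_eq_top ha.1 fun h => ?_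
    rcases sq_eq_one_iff.1 h with h | h
    · exact ha.2.1 h
    · exact ha.2.2 h
  · obtain ⟨f, hf⟩ := h₂ F (by omega)
    refine ⟨f, fun h => hf ?_⟩
    rw [Matrix.SpecialLinearGroup.mem_center_iff] at h
    obtain ⟨r, -, hr⟩ := h
    rw [← hr]; simp [Matrix.scalar_apply, Matrix.diagonal]

/-- The card bound for a group of `d × d` matrices. -/
theorem card_le_of_matrix {d : Type} [Fintype d] [DecidableEq d] {F : Type u} [Field F] [Fintype F]
    {H : Type u} [Group H] (ψ : H → Matrix d d F) (hψ : Function.Injective ψ) {B D : ℕ}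
    (hB : Fintype.card F ≤ B) (hD : Fintype.card d ≤ D) :
    Nat.card (H ⧸ Subgroup.center H) ≤ B ^ (D * D) := by
  haveI := Finite.of_injective ψ hψ
  refine (Nat.card_le_card_of_surjective _ QuotientGroup.mk_surjective).trans
    ((Nat.card_le_card_of_injective ψ hψ).trans ?_)
  have hc : Nat.card (Matrix d d F) = Fintype.card F ^ (Fintype.card d * Fintype.card d) := by
    show Nat.card (d → d → F) = _
    rw [Nat.card_fun, Nat.card_fun, Nat.card_eq_fintype_card, Nat.card_eq_fintype_card, ← pow_mul]
  rw [hc]
  calc Fintype.card F ^ (Fintype.card d * Fintype.card d)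
      ≤ B ^ (Fintype.card d * Fintype.card d) := Nat.pow_le_pow_left hB _
    _ ≤ B ^ (D * D) := Nat.pow_le_pow_right (le_trans Fintype.card_pos hB) (Nat.mul_le_mul hD hD)

/-- A word which is a law bounds the order of alternating and classical simple groups. -/
theorem classical_law_bound (w : FreeGroup ℕ) (hw : w ≠ 1) :
    ∃ N : ℕ, ∀ (G : Type v) [Group G] [Finite G],
      (Cfsg.IsAlternating G ∨ Cfsg.IsPSL G ∨ Cfsg.IsPSp G ∨ Cfsg.IsPSU G ∨ Cfsg.IsPOmegaOdd G ∨
          Cfsg.IsPOmegaPlus G ∨ Cfsg.IsPOmegaMinus G) →
      (∀ f : ℕ → G, FreeGroup.lift f w = 1) → Nat.card G ≤ N := by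
  classical
  obtain ⟨N, hA, hS⟩ := exists_noncentral_thresholds.{0} w hw
  set B := (N + 2) ^ 2 with hB
  set D := 2 * N + 3 with hD
  have hBN : N ≤ B := le_trans (by omega) (Nat.le_self_pow two_ne_zero (N + 2))
  refine ⟨N.factorial + B ^ (D * D), fun G _ _ hG hlaw => ?_⟩
  have key : ∀ {Q : Type}, ∀ [Group Q], (G ≃* Q) → Nat.card Q ≤ B ^ (D * D) →
      Nat.card G ≤ N.factorial + B ^ (D * D) :=
    fun e hQ => (Nat.card_congr e.toEquiv).trans_le (le_add_left hQ)
  rcases hG with ⟨n, -, ⟨e⟩⟩ | ⟨F, _, _, n, hn, -, ⟨e⟩⟩ | ⟨F, _, _, m, hm, -, ⟨e⟩⟩ |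
    ⟨F, _, _, n, q, hF, hn, -, ⟨e⟩⟩ | ⟨F, _, _, m, hm, -, ⟨e⟩⟩ | ⟨F, _, _, m, hm, ⟨e⟩⟩ |
    ⟨F, _, _, m, a, b, hm, -, ⟨e⟩⟩
  · -- alternating
    by_cases h : N ≤ n
    · obtain ⟨h5, f, hf⟩ := hA n h
      refine (false_of_law e w hlaw ⟨f, fun h1 => hf ?_⟩).elim
      rw [h1]; exact one_mem _
    · refine (Nat.card_congr e.toEquiv).trans_le (le_add_right ?_)
      refine (Nat.card_le_card_of_injective _ Subtype.val_injective).trans ?_
      rw [Nat.card_perm, Nat.card_fin]
      exact Nat.factorial_le (by omega)
  · -- PSL
    by_cases h : N ≤ n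
    · obtain ⟨h5, hf⟩ := hA n h
      exact (false_of_law e w hlaw (exists_quotient_center_lift_ne_one w
        (exists_lift_notMem_center (altSL n) (altSL_injective n) w hf))).elim
    by_cases h' : N ≤ Fintype.card F
    · exact (false_of_law e w hlaw (exists_quotient_center_lift_ne_one w
        (exists_lift_notMem_center (blockSL (twoSplit n hn)) (blockSL_injective _) w
          (hS F h').2))).elim
    · exact key e (card_le_of_matrix (fun x => x.1) Subtype.val_injective
        (by omega) (by simp; omega))
  · -- PSp
    by_cases h : N ≤ m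
    · obtain ⟨h5, hf⟩ := hA m h
      exact (false_of_law e w hlaw (exists_quotient_center_lift_ne_one w
        (exists_lift_notMem_center ((glSp m).comp (SpecialLinearGroup.toGL.comp (altSL m)))
          (glSp_injective.comp (toGL_injective.comp (altSL_injective m))) w hf))).elim
    by_cases h' : N ≤ Fintype.card F
    · exact (false_of_law e w hlaw (exists_quotient_center_lift_ne_one w
        (exists_lift_notMem_center
          ((glSp m).comp (SpecialLinearGroup.toGL.comp (blockSL (twoSplit m hm))))
          (glSp_injective.comp (toGL_injective.comp (blockSL_injective _))) w (hS F h').2))).elim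
    · exact key e (card_le_of_matrix (fun x => x.1) Subtype.val_injective
        (by omega) (by simp; omega))
  · -- PSU
    by_cases h : N ≤ n
    · obtain ⟨h5, hf⟩ := hA n h
      obtain ⟨φ, hφ⟩ := exists_altSU (n := n) hF
      exact (false_of_law e w hlaw (exists_quotient_center_lift_ne_one w
        (exists_lift_notMem_center φ hφ w hf))).elim
    by_cases h' : N + 1 ≤ q
    · obtain ⟨F₀, hc, φ, hφ⟩ := exists_sl2SU (n := n) (by omega) hF
      exact (false_of_law e w hlaw (exists_quotient_center_lift_ne_one w
        (exists_lift_notMem_center φ hφ w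
          (hS F₀ (by rw [← Nat.card_eq_fintype_card]; omega)).2))).elim
    · exact key e (card_le_of_matrix (fun x => x.1.1)
        (Subtype.val_injective.comp Subtype.val_injective)
        (by rw [hF]; exact Nat.pow_le_pow_left (by omega) 2) (by simp; omega))
  · -- POmega odd
    by_cases h : N ≤ m
    · obtain ⟨h5, hf⟩ := hA m h
      exact (false_of_law e w hlaw (exists_quotient_center_lift_ne_one w
        (exists_lift_notMem_center_commutator
          ((glOOdd m).comp (SpecialLinearGroup.toGL.comp (altSL m)))
          (glOOdd_injective.comp (toGL_injective.comp (altSL_injective m)))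
          (commutator_alternatingGroup_eq_top (by simp; omega)) w hf))).elim
    by_cases h' : N ≤ Fintype.card F
    · exact (false_of_law e w hlaw (exists_quotient_center_lift_ne_one w
        (exists_lift_notMem_center_commutator
          ((glOOdd m).comp (SpecialLinearGroup.toGL.comp (blockSL (twoSplit m (by omega)))))
          (glOOdd_injective.comp (toGL_injective.comp (blockSL_injective _)))
          (hS F h').1 w (hS F h').2))).elim
    · exact key e (card_le_of_matrix (fun x => x.1.1.1)
        (Units.val_injective.comp (Subtype.val_injective.comp Subtype.val_injective))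
        (by omega) (by simp; omega))
  · -- POmega plus
    by_cases h : N ≤ m
    · obtain ⟨h5, hf⟩ := hA m h
      exact (false_of_law e w hlaw (exists_quotient_center_lift_ne_one w
        (exists_lift_notMem_center_commutator
          ((glOPlus m).comp (SpecialLinearGroup.toGL.comp (altSL m)))
          (glOPlus_injective.comp (toGL_injective.comp (altSL_injective m)))
          (commutator_alternatingGroup_eq_top (by simp; omega)) w hf))).elim
    by_cases h' : N ≤ Fintype.card F
    · exact (false_of_law e w hlaw (exists_quotient_center_lift_ne_one w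
        (exists_lift_notMem_center_commutator
          ((glOPlus m).comp (SpecialLinearGroup.toGL.comp (blockSL (twoSplit m (by omega)))))
          (glOPlus_injective.comp (toGL_injective.comp (blockSL_injective _)))
          (hS F h').1 w (hS F h').2))).elim
    · exact key e (card_le_of_matrix (fun x => x.1.1.1)
        (Units.val_injective.comp (Subtype.val_injective.comp Subtype.val_injective))
        (by omega) (by simp; omega))
  · -- POmega minus
    obtain ⟨k, rfl⟩ : ∃ k, m = k + 1 := ⟨m - 1, by omega⟩
    by_cases h : N ≤ k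
    · obtain ⟨h5, hf⟩ := hA k h
      exact (false_of_law e w hlaw (exists_quotient_center_lift_ne_one w
        (exists_lift_notMem_center_commutator
          ((glOMinus k a b).comp (SpecialLinearGroup.toGL.comp (altSL k)))
          ((glOMinus_injective a b).comp (toGL_injective.comp (altSL_injective k)))
          (commutator_alternatingGroup_eq_top (by simp; omega)) w hf))).elim
    by_cases h' : N ≤ Fintype.card F
    · exact (false_of_law e w hlaw (exists_quotient_center_lift_ne_one w
        (exists_lift_notMem_center_commutator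
          ((glOMinus k a b).comp (SpecialLinearGroup.toGL.comp (blockSL (twoSplit k (by omega)))))
          ((glOMinus_injective a b).comp (toGL_injective.comp (blockSL_injective _)))
          (hS F h').1 w (hS F h').2))).elim
    · exact key e (card_le_of_matrix (fun x => x.1.1.1)
        (Units.val_injective.comp (Subtype.val_injective.comp Subtype.val_injective))
        (by omega) (by simp; omega))

end CfsgLib.KnownB
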