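import Mathlib
import Cfsg.Prelude.Def_Sz
import Cfsg.Agent.Lib.KnownB.SzWord

/-!
A non-trivial word is not a law in large Suzuki groups.
-/

namespace CfsgLib.KnownB.SzW

open Matrix Polynomial
open scoped MatrixGroups

universe u
variable {F : Type u} [Field F]

/-- Abbreviation for `4 × 4` matrices. -/
abbrev M4 (F : Type u) := Matrix (Fin 4) (Fin 4) F

/-- Matrix unit on the diagonal. -/
def ed (i : Fin 4) : M4 F := Matrix.single i i 1

/-- Scaled conjugated torus element as a polynomial with matrix coefficients. -/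
noncomputable def letterPoly (e : ℕ) (g : GL (Fin 4) F) : (M4 F)[X] :=
  Polynomial.C ((g : M4 F) * ed 0 * ((g⁻¹ : GL (Fin 4) F) : M4 F)) * X ^ (2 * e + 2) +
  Polynomial.C ((g : M4 F) * ed 1 * ((g⁻¹ : GL (Fin 4) F) : M4 F)) * X ^ (e + 2) +
  Polynomial.C ((g : M4 F) * ed 2 * ((g⁻¹ : GL (Fin 4) F) : M4 F)) * X ^ e +
  Polynomial.C ((g : M4 F) * ed 3 * ((g⁻¹ : GL (Fin 4) F) : M4 F))

theorem letterPoly_natDegree (e : ℕ) (g : GL (Fin 4) F) :
    (letterPoly e g).natDegree ≤ 2 * e + 2 := by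
  unfold letterPoly
  refine natDegree_add_le_of_degree_le (natDegree_add_le_of_degree_le
    (natDegree_add_le_of_degree_le ?_ ?_) ?_) ?_
  · exact natDegree_C_mul_X_pow_le _ _
  · exact (natDegree_C_mul_X_pow_le _ _).trans (by omega)
  · exact (natDegree_C_mul_X_pow_le _ _).trans (by omega)
  · exact (natDegree_C _).trans_le (Nat.zero_le _)

theorem letterPoly_coeff (e : ℕ) (he : 0 < e) (g : GL (Fin 4) F) :
    (letterPoly e g).coeff (2 * e + 2) = (g : M4 F) * ed 0 * ((g⁻¹ : GL (Fin 4) F) : M4 F) := by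
  simp only [letterPoly, coeff_add, coeff_C_mul_X_pow, coeff_C]
  simp [show 2 * e + 2 ≠ e by omega, show 2 * e ≠ e by omega]

/-- Evaluation at a scalar. -/
noncomputable def evS (s : F) : (M4 F)[X] →+* M4 F :=
  Polynomial.eval₂RingHom' (RingHom.id _) (s • 1) fun a => by
    show Commute a (s • 1)
    exact (Commute.one_right a).smul_right s

theorem evS_letterPoly (e : ℕ) (g : GL (Fin 4) F) {s : F} (hs : s ≠ 0) :
    evS s (letterPoly e g) =
      s ^ (e + 1) • ((g : M4 F) * hMat e s * ((g⁻¹ : GL (Fin 4) F) : M4 F)) := by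
  have h1 : ∀ (A : M4 F) (k : ℕ), evS s (Polynomial.C A * X ^ k) = s ^ k • A := by
    intro A k
    simp [evS, _root_.smul_pow, Matrix.mul_smul]
  have h2 : ∀ A : M4 F, evS s (Polynomial.C A) = A := by
    intro A; simp [evS]
  have hd : s ^ (e + 1) • hMat e s =
      s ^ (2 * e + 2) • (ed 0 : M4 F) + s ^ (e + 2) • ed 1 + s ^ e • ed 2 + ed 3 := by
    ext i j
    fin_cases i <;> fin_cases j <;> simp [hMat, ed, Matrix.single, diagonal] <;>
      field_simp <;> ring
  rw [letterPoly, map_add, map_add, map_add, h1, h1, h1, h2,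
    show s ^ (e + 1) • ((g : M4 F) * hMat e s * ((g⁻¹ : GL (Fin 4) F) : M4 F)) =
      (g : M4 F) * (s ^ (e + 1) • hMat e s) * ((g⁻¹ : GL (Fin 4) F) : M4 F) by
      rw [Matrix.mul_smul, Matrix.smul_mul], hd]
  simp only [Matrix.mul_add, Matrix.add_mul, Matrix.mul_smul, Matrix.smul_mul]

theorem wordPoly_spec (e : ℕ) :
    ∀ l : List (GL (Fin 4) F),
      ((l.map (letterPoly e)).prod).natDegree ≤ (2 * e + 2) * l.length
  | [] => by simp
  | g :: l => by
    rw [List.map_cons, List.prod_cons, List.length_cons, Nat.mul_succ, Nat.add_comm]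
    exact natDegree_mul_le.trans (Nat.add_le_add (letterPoly_natDegree e g) (wordPoly_spec e l))

theorem wordPoly_coeff (e : ℕ) (he : 0 < e) :
    ∀ (g : GL (Fin 4) F) (l : List (GL (Fin 4) F)),
      (g :: l).IsChain (fun x y => ((x⁻¹ * y : GL (Fin 4) F) : M4 F) 0 0 ≠ 0) →
      ∃ (c : F) (h : GL (Fin 4) F), c ≠ 0 ∧
        (((g :: l).map (letterPoly e)).prod).coeff ((2 * e + 2) * (g :: l).length) =
          c • ((g : M4 F) * ed 0 * (h : M4 F))
  | g, [], _ => by
    refine ⟨1, g⁻¹, one_ne_zero, ?_⟩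
    simp [letterPoly_coeff e he]
  | g, g' :: l, hch => by
    rw [List.isChain_cons_cons] at hch
    obtain ⟨c, h, hc, hco⟩ := wordPoly_coeff e he g' l hch.2
    refine ⟨c * ((g⁻¹ * g' : GL (Fin 4) F) : M4 F) 0 0, h, mul_ne_zero hc hch.1, ?_⟩
    rw [List.map_cons, List.prod_cons, show (2 * e + 2) * (g :: g' :: l).length =
        (2 * e + 2) + (2 * e + 2) * (g' :: l).length by simp only [List.length_cons]; ring,
      coeff_mul_add_eq_of_natDegree_le (letterPoly_natDegree e g) (wordPoly_spec e (g' :: l)),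
      letterPoly_coeff e he, hco, Matrix.mul_smul]
    have hE : ∀ A : M4 F, ed 0 * A * ed 0 = A 0 0 • (ed 0 : M4 F) := by
      intro A
      ext i j
      fin_cases i <;> fin_cases j <;> simp [ed, Matrix.single, Matrix.mul_apply, Fin.sum_univ_four]
    have e1 : (g : M4 F) * ed 0 * ((g⁻¹ : GL (Fin 4) F) : M4 F) * ((g' : M4 F) * ed 0 * (h : M4 F)) =
        (g : M4 F) * (ed 0 * ((g⁻¹ * g' : GL (Fin 4) F) : M4 F) * ed 0) * (h : M4 F) := by
      simp only [Units.val_mul, Matrix.mul_assoc]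
    rw [e1, hE, Matrix.mul_smul, Matrix.smul_mul, smul_smul, mul_comm]

/-- The first entry of `x⁻¹ y` for an isometry `x` of the alternating form. -/
theorem inv_mul_apply_zero (x y : GL (Fin 4) F) (hx : x ∈ Cfsg.Lie.Sp4 F) :
    ((x⁻¹ * y : GL (Fin 4) F) : M4 F) 0 0 =
      Cfsg.Lie.altForm4 (fun i => (x : M4 F) i 3) (fun i => (y : M4 F) i 0) := by
  have h := hx (Pi.single 3 1) (((x⁻¹ * y : GL (Fin 4) F) : M4 F) *ᵥ Pi.single 0 1)
  simp only [Units.coeHom_apply, Matrix.mulVec_mulVec, ← Units.val_mul, mul_inv_cancel_left,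
    Matrix.mulVec_single_one] at h
  have hy : (x : M4 F) *ᵥ ((x⁻¹ * y : GL (Fin 4) F) : M4 F).col 0 = (y : M4 F).col 0 := by
    rw [← Matrix.mulVec_single_one, Matrix.mulVec_mulVec, ← Units.val_mul, mul_inv_cancel_left,
      Matrix.mulVec_single_one]
  rw [hy] at h
  refine Eq.trans ?_ h.symm
  simp [Cfsg.Lie.altForm4, Pi.single, Function.update, Matrix.col]

section Elements

variable {e : ℕ}

/-- Point of the root orbit. -/
def pt (e : ℕ) (c : F) : Fin 4 → F := ![1, 0, c, c ^ e]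

variable [CharP F 2] (he : 0 < e) (hee : ∀ x : F, (x ^ e) ^ e = x ^ 2)
  (hpow : ∀ x y : F, (x + y) ^ e = x ^ e + y ^ e)

include he hee hpow in
theorem exists_pair_element {c d : F} (hcd : c ≠ d) :
    ∃ g : GL (Fin 4) F, g ∈ Cfsg.Lie.Sp4 F ∧ g ∈ Cfsg.Lie.Sz F e ∧
      (∃ t : F, t ≠ 0 ∧ ∀ i, (g : M4 F) i 0 = t * pt e c i) ∧
      (∃ t : F, t ≠ 0 ∧ ∀ i, (g : M4 F) i 3 = t * pt e d i) := by
  have h2 : (2 : F) = 0 := two_eq_zero
  set b := c + d with hb
  have hb0 : b ≠ 0 := fun h => hcd (CharTwo.add_eq_zero.1 h)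
  set a : F := b / b ^ e with ha
  have hz : (zMat e c).det ≠ 0 := by
    simp [zMat, Matrix.det_succ_row_zero, Fin.sum_univ_succ, Fin.succAbove]
  have hk : (kMat e a).det ≠ 0 := by
    simp [kMat, Matrix.det_succ_row_zero, Fin.sum_univ_succ, Fin.succAbove]
  set Z := Matrix.GeneralLinearGroup.mkOfDetNeZero _ hz with hZ
  set K := Matrix.GeneralLinearGroup.mkOfDetNeZero _ hk with hK
  have hS : Z * K ∈ Cfsg.Lie.Sz F e :=
    mul_mem (mem_Sz Z (isSz_zMat he hee c)) (mem_Sz K (isSz_kMat he hee a))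
  have hP : Z * K ∈ Cfsg.Lie.Sp4 F :=
    mul_mem (show Z ∈ Cfsg.Lie.Sp4 F from (isSz_zMat he hee c).1)
      (show K ∈ Cfsg.Lie.Sp4 F from (isSz_kMat he hee a).1)
  refine ⟨Z * K, hP, hS, ⟨1, one_ne_zero, fun i => ?_⟩, ⟨a ^ (e + 2), ?_, fun i => ?_⟩⟩
  · show (zMat e c * kMat e a) i 0 = _
    fin_cases i <;> simp [zMat, kMat, pt, Matrix.mul_apply, Fin.sum_univ_four]
  · exact pow_ne_zero _ (div_ne_zero hb0 (pow_ne_zero _ hb0))
  · have hN : a ^ (e + 2) * b ^ e = 1 := by
      rw [ha, div_pow, pow_add, pow_add, hee b, div_mul_eq_mul_div, div_eq_one_iff_eq]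
      · rw [← pow_mul, mul_comm e 2, pow_mul]; ring
      · exact mul_ne_zero (pow_ne_zero _ hb0) (pow_ne_zero _ (pow_ne_zero _ hb0))
    have hNb : a ^ (e + 2) * b = a := by
      calc a ^ (e + 2) * b = a ^ (e + 2) * b ^ e * a := by rw [ha]; field_simp
        _ = a := by rw [hN, one_mul]
    have hadd : b ^ e = c ^ e + d ^ e := hpow c d
    show (zMat e c * kMat e a) i 3 = _
    fin_cases i <;> simp [zMat, kMat, pt, Matrix.mul_apply, Fin.sum_univ_four]
    · linear_combination (a ^ (e + 2) * c) * h2 - hNb + a ^ (e + 2) * hb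
    · linear_combination (a ^ (e + 2) * c ^ e) * h2 - hN + a ^ (e + 2) * hadd

end Elements

theorem hMat_mul {e : ℕ} {s : F} (hs : s ≠ 0) :
    hMat e s * hMat e s⁻¹ = 1 ∧ hMat e s⁻¹ * hMat e s = 1 := by
  constructor <;> (ext i j; fin_cases i <;> fin_cases j <;> simp [hMat] <;> field_simp) <;>
    simp [inv_pow, hs]

theorem wMat_conj_hMat (e : ℕ) (s : F) :
    wMat F * hMat e s * wMat F = hMat e s⁻¹ := by
  ext i j
  fin_cases i <;> fin_cases j <;>
    simp [wMat, hMat, Matrix.mul_apply, Matrix.vecMul, dotProduct, Fin.sum_univ_four, inv_pow]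

theorem wMat_sq : wMat F * wMat F = 1 := by
  ext i j
  fin_cases i <;> fin_cases j <;> simp [wMat, Matrix.mul_apply, Fin.sum_univ_four]

/-- A non-trivial word is not a law in Suzuki groups `Sz(2^(2m+1))` for large `m`. -/
theorem exists_sz_lift_ne_one (w : FreeGroup ℕ) (hw : w ≠ 1) :
    ∃ N : ℕ, ∀ (F : Type u) [Field F] [Fintype F] (m : ℕ), 1 ≤ m → N ≤ m →
      Fintype.card F = 2 ^ (2 * m + 1) →
      ∃ f : ℕ → ↥(Cfsg.Lie.Sz F (2 ^ (m + 1))), FreeGroup.lift f w ≠ 1 := by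
  classical
  set L := w.toWord with hL
  set M := (L.map Prod.fst).sum + 1 with hM
  have hlt : ∀ x ∈ L, x.1 < M := fun x hx =>
    Nat.lt_succ_of_le (List.le_sum_of_mem (List.mem_map_of_mem hx))
  have hLne : L ≠ [] := fun h => hw (FreeGroup.toWord_eq_nil_iff.1 h)
  refine ⟨4 * L.length + 2 * M + 2, fun F _ _ m _ hNm hF => ?_⟩
  set e := 2 ^ (m + 1) with he_def
  have he : 0 < e := pow_pos two_pos _
  haveI : CharP F 2 := by
    obtain ⟨p, hp⟩ := CharP.exists F
    obtain ⟨n, hpp, hn⟩ := FiniteField.card F p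
    have : p ∣ 2 ^ (2 * m + 1) := hF ▸ hn ▸ dvd_pow_self p n.ne_zero
    have := (Nat.prime_dvd_prime_iff_eq hpp Nat.prime_two).1 (hpp.dvd_of_dvd_pow this)
    exact this ▸ hp
  haveI := Fact.mk Nat.prime_two
  have hee : ∀ x : F, (x ^ e) ^ e = x ^ 2 := by
    intro x
    rw [← pow_mul, show e * e = Fintype.card F * 2 by
      rw [hF, he_def, ← pow_add, ← pow_succ]; congr 1; omega,
      pow_mul, FiniteField.pow_card]
  have hpow : ∀ x y : F, (x + y) ^ e = x ^ e + y ^ e := fun x y => add_pow_char_pow x y 2 _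
  have hm : 4 * L.length + 2 * M + 2 < 2 ^ m := lt_of_le_of_lt hNm Nat.lt_two_pow_self
  have hq : Fintype.card F = e * 2 ^ m := by rw [hF, he_def, ← pow_add]; congr 1; omega
  obtain ⟨pp⟩ := Function.Embedding.nonempty_of_card_le (α := Fin M × Bool) (β := F) (by
    simp only [Fintype.card_prod, Fintype.card_fin, Fintype.card_bool, hq]
    calc M * 2 ≤ 2 ^ m := by omega
      _ ≤ e * 2 ^ m := Nat.le_mul_of_pos_left _ he)
  have hsel : ∀ i : Fin M, ∃ g : GL (Fin 4) F, g ∈ Cfsg.Lie.Sp4 F ∧ g ∈ Cfsg.Lie.Sz F e ∧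
      (∃ t : F, t ≠ 0 ∧ ∀ k, (g : M4 F) k 0 = t * pt e (pp (i, true)) k) ∧
      (∃ t : F, t ≠ 0 ∧ ∀ k, (g : M4 F) k 3 = t * pt e (pp (i, false)) k) := fun i =>
    exists_pair_element he hee hpow (pp.injective.ne (by simp))
  choose g hgP hgS hg0 hg3 using hsel
  let wG : GL (Fin 4) F := ⟨wMat F, wMat F, wMat_sq, wMat_sq⟩
  have hwP : wG ∈ Cfsg.Lie.Sp4 F := (isSz_wMat he).1
  -- the conjugating element of a signed letter
  let gs : ℕ × Bool → GL (Fin 4) F := fun x =>
    if h : x.1 < M then (if x.2 then g ⟨x.1, h⟩ else g ⟨x.1, h⟩ * wG)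
    else (if x.2 then 1 else wG)
  have hgsP : ∀ x, gs x ∈ Cfsg.Lie.Sp4 F := by
    rintro ⟨i, b⟩
    simp only [gs]
    split_ifs
    exacts [hgP _, mul_mem (hgP _) hwP, one_mem _, hwP]
  have hcol : ∀ (A : M4 F) k, (A * wMat F) k 0 = A k 3 ∧ (A * wMat F) k 3 = A k 0 := by
    intro A k; simp [wMat, Matrix.mul_apply, Fin.sum_univ_four]
  have hpts : ∀ (i : Fin M) (b : Bool),
      (∃ t : F, t ≠ 0 ∧ ∀ k, (gs (i, b) : M4 F) k 0 = t * pt e (pp (i, b)) k) ∧
      (∃ t : F, t ≠ 0 ∧ ∀ k, (gs (i, b) : M4 F) k 3 = t * pt e (pp (i, !b)) k) := by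
    intro i b
    cases b
    · simp only [gs, i.2, dif_pos, Bool.false_eq_true, if_false, Units.val_mul, Bool.not_false,
        Fin.eta]
      obtain ⟨t, ht, h0⟩ := hg0 i
      obtain ⟨t', ht', h3⟩ := hg3 i
      exact ⟨⟨t', ht', fun k => by rw [show ((wG : GL (Fin 4) F) : M4 F) = wMat F from rfl,
          (hcol _ k).1, h3]⟩,
        ⟨t, ht, fun k => by rw [show ((wG : GL (Fin 4) F) : M4 F) = wMat F from rfl,
          (hcol _ k).2, h0]⟩⟩
    · simp only [gs, i.2, dif_pos, if_true, Bool.not_true, Fin.eta]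
      exact ⟨hg0 i, hg3 i⟩
  have hchain : (L.map gs).IsChain (fun x y => ((x⁻¹ * y : GL (Fin 4) F) : M4 F) 0 0 ≠ 0) := by
    rw [List.isChain_map]
    refine List.IsChain.imp_of_mem_imp (fun x y hx hy hxy => ?_) FreeGroup.isReduced_toWord
    obtain ⟨i, b⟩ := x
    obtain ⟨j, c⟩ := y
    obtain ⟨-, t, ht, h3⟩ := hpts ⟨i, hlt _ hx⟩ b
    obtain ⟨⟨t', ht', h0⟩, -⟩ := hpts ⟨j, hlt _ hy⟩ c
    rw [inv_mul_apply_zero _ _ (hgsP _)]
    set P := pp (⟨i, hlt _ hx⟩, !b) with hP
    set Q := pp (⟨j, hlt _ hy⟩, c) with hQ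
    have hPQ : P ≠ Q := fun h => by
      have h' := pp.injective h
      simp only [Prod.mk.injEq, Fin.mk.injEq] at h'
      have hbc := hxy h'.1
      simp only at hbc
      rw [← hbc] at h'
      simp at h'
    have hB : Cfsg.Lie.altForm4 (fun k => (gs (i, b) : M4 F) k 3) (fun k => (gs (j, c) : M4 F) k 0) =
        t * t' * (P + Q) ^ e := by
      simp only at h3 h0
      simp only [h3, h0, Cfsg.Lie.altForm4, hpow]
      simp [pt]
      ring
    rw [hB]
    exact mul_ne_zero (mul_ne_zero ht ht')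
      (pow_ne_zero _ fun h => hPQ (CharTwo.add_eq_zero.1 h))
  obtain ⟨x0, L', hL'⟩ := List.exists_cons_of_ne_nil hLne
  obtain ⟨c, h, hc, hco⟩ := wordPoly_coeff e he (gs x0) (L'.map gs)
    (by rw [← List.map_cons, ← hL']; exact hchain)
  rw [← List.map_cons, ← hL'] at hco
  set W := ((L.map gs).map (letterPoly e)).prod with hW
  simp only [List.length_map] at hco
  set D := (2 * e + 2) * L.length with hD
  have hWdeg : W.natDegree ≤ D := by
    rw [hD, hW, ← List.length_map (as := L) (f := gs)]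
    exact wordPoly_spec e _
  have hne : c • ((gs x0 : M4 F) * ed 0 * (h : M4 F)) ≠ 0 := by
    refine smul_ne_zero hc fun h0 => ?_
    have := congrArg (fun A => ((gs x0)⁻¹ : GL (Fin 4) F).1 * A * ((h⁻¹ : GL (Fin 4) F) : M4 F)) h0
    simp [← Matrix.mul_assoc] at this
    simpa [ed] using congrFun (congrFun this 0) 0
  obtain ⟨i, j, hij⟩ : ∃ i j, (c • ((gs x0 : M4 F) * ed 0 * (h : M4 F)) : M4 F) i j ≠ 0 := by
    by_contra! hall
    exact hne (Matrix.ext hall)
  set P : F[X] := (∑ n ∈ Finset.range (D + 1), Polynomial.C (W.coeff n i j) * X ^ n) -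
    Polynomial.C ((1 : M4 F) i j) * X ^ ((e + 1) * L.length) with hPdef
  have hpos : 0 < L.length := List.length_pos_of_ne_nil hLne
  have hlow : (e + 1) * L.length < D := Nat.mul_lt_mul_of_pos_right (by omega) hpos
  have hPD : P.coeff D = (c • ((gs x0 : M4 F) * ed 0 * (h : M4 F)) : M4 F) i j := by
    rw [hPdef, coeff_sub, coeff_C_mul_X_pow, if_neg hlow.ne', sub_zero, finsetSum_coeff]
    simp only [coeff_C_mul_X_pow]
    rw [Finset.sum_ite_eq, if_pos (by simp), hco]
  have hP0 : P ≠ 0 := fun h0 => hij (by rw [← hPD, h0, coeff_zero])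
  have hPdeg : P.natDegree ≤ D := by
    refine (natDegree_sub_le _ _).trans (max_le (natDegree_sum_le_of_forall_le _ _ fun n hn => ?_) ?_)
    · exact (natDegree_C_mul_X_pow_le _ _).trans (by simp at hn; omega)
    · exact (natDegree_C_mul_X_pow_le _ _).trans hlow.le
  obtain ⟨s, -, hs⟩ := Finset.exists_mem_notMem_of_card_lt_card
    (s := insert 0 P.roots.toFinset) (t := (Finset.univ : Finset F)) (by
      have h1 := Finset.card_insert_le 0 P.roots.toFinset
      have h2 := P.roots.toFinset_card_le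
      have h3 := Polynomial.card_roots' P
      have h4 : D + 1 < e * 2 ^ m := by
        have h5 : e * (4 * L.length + 2) ≤ e * 2 ^ m := Nat.mul_le_mul_left e (by omega)
        have h6 : 1 ≤ e := he
        have h7 : D + 1 ≤ e * (4 * L.length + 1) := by rw [hD]; nlinarith
        nlinarith
      rw [Finset.card_univ, hq]
      omega)
  simp only [Finset.mem_insert, Multiset.mem_toFinset, not_or] at hs
  obtain ⟨hs0, hsr⟩ := hs
  let H : GL (Fin 4) F := ⟨hMat e s, hMat e s⁻¹, (hMat_mul hs0).1, (hMat_mul hs0).2⟩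
  have hHS : H ∈ Cfsg.Lie.Sz F e := mem_Sz H (isSz_hMat he hee hs0)
  have hwS : wG ∈ Cfsg.Lie.Sz F e := mem_Sz wG (isSz_wMat he)
  have hgsS : ∀ x, gs x * H * (gs x)⁻¹ ∈ Cfsg.Lie.Sz F e := by
    rintro ⟨i, b⟩
    refine mul_mem (mul_mem ?_ hHS) (inv_mem ?_) <;>
    · simp only [gs]
      split_ifs
      exacts [hgS _, mul_mem (hgS _) hwS, one_mem _, hwS]
  let lt : ℕ × Bool → Cfsg.Lie.Sz F e := fun x => ⟨gs x * H * (gs x)⁻¹, hgsS x⟩
  have hconj : wG * H * wG⁻¹ = H⁻¹ := Units.ext (wMat_conj_hMat e s)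
  have hinv : ∀ i, (lt (i, true))⁻¹ = lt (i, false) := by
    intro i
    apply Subtype.ext
    show (gs (i, true) * H * (gs (i, true))⁻¹)⁻¹ = gs (i, false) * H * (gs (i, false))⁻¹
    by_cases hi : i < M
    · simp only [gs, hi, dif_pos, if_true, Bool.false_eq_true, if_false, _root_.mul_inv_rev, inv_inv]
      rw [← hconj]; group
    · simp only [gs, hi, dif_neg, not_false_eq_true, if_true, Bool.false_eq_true, if_false,
        inv_one, one_mul, mul_one, hconj]
  refine ⟨fun i => lt (i, true), fun hone => hsr ?_⟩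
  have hval : ∀ l : List (ℕ × Bool),
      s ^ ((e + 1) * l.length) •
        (((FreeGroup.lift (fun i => lt (i, true)) (FreeGroup.mk l) : Cfsg.Lie.Sz F e) :
          GL (Fin 4) F) : M4 F) = evS s ((l.map gs).map (letterPoly e)).prod := by
    intro l
    rw [FreeGroup.lift_mk]
    induction l with
    | nil => simp
    | cons x l ih =>
      obtain ⟨i, b⟩ := x
      simp only [List.map_cons, List.prod_cons, List.length_cons, map_mul, ← ih,
        evS_letterPoly e _ hs0, Subgroup.coe_mul, Units.val_mul]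
      rw [Nat.mul_succ, Nat.add_comm, pow_add, ← smul_smul, Matrix.smul_mul, Matrix.mul_smul]
      cases b
      · simp only [cond_false, hinv]; rfl
      · simp only [cond_true]; rfl
  have h1 := hval L
  rw [show FreeGroup.mk L = w from FreeGroup.mk_toWord, hone] at h1
  simp only [OneMemClass.coe_one, Units.val_one] at h1
  rw [Polynomial.mem_roots hP0, IsRoot.def, hPdef, eval_sub, eval_finsetSum]
  have h2 : evS s W = ∑ n ∈ Finset.range (D + 1), W.coeff n * (s • 1) ^ n :=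
    Polynomial.eval₂_eq_sum_range' _ (Nat.lt_succ_of_le hWdeg) _
  rw [← hW, h2] at h1
  have h3 := congrFun (congrFun h1 i) j
  simp only [Matrix.sum_apply, Matrix.smul_apply, smul_eq_mul, _root_.smul_pow, one_pow,
    Matrix.mul_smul, Matrix.mul_one] at h3
  simp only [eval_mul, eval_C, eval_pow, eval_X]
  rw [sub_eq_zero, Finset.sum_congr rfl fun n _ => mul_comm _ (s ^ n), mul_comm, h3]

end CfsgLib.KnownB.SzW
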