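import Mathlib

/-!
Functions on `Fin m → F` invariant under shears: the counting in a chart.
-/

set_option autoImplicit false
set_option linter.unusedSectionVars false

namespace CfsgLib.KnownB.MinDeg

variable {F : Type*} [Field F] {m n : ℕ}

/-- A partial map with signs on the coordinates. -/
abbrev Move (m : ℕ) := Fin m → Option (Fin m × ℤ)

/-- The shear of a move. -/
def shear (s : Move m) (t : F) (b : Fin m → F) : Fin m → F := fun w =>
  b w + (s w).elim 0 (fun p => (p.2 : F) * t * b p.1)

/-- The targets of a move are not sources, and the coefficients are signs. -/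
def Proper (s : Move m) : Prop :=
  ∀ w, (s w).elim True (fun p => s p.1 = none ∧ (p.2 = 1 ∨ p.2 = -1))

instance (s : Move m) : Decidable (Proper s) := by
  unfold Proper
  have : ∀ w, Decidable ((s w).elim True (fun p => s p.1 = none ∧ (p.2 = 1 ∨ p.2 = -1))) := fun w => by
    cases s w <;> simp only [Option.elim] <;> infer_instance
  infer_instance

/-- The move hits a coordinate. -/
def Hits (s : Move m) (v : Fin m) : Prop := ∃ w, (s w).elim False (fun p => p.1 = v)

instance (s : Move m) (v : Fin m) : Decidable (Hits s v) := by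
  unfold Hits
  have : ∀ w, Decidable ((s w).elim False (fun p => p.1 = v)) := fun w => by
    cases s w <;> simp only [Option.elim] <;> infer_instance
  infer_instance

theorem sq_sign {M : ℤ} (h : M = 1 ∨ M = -1) : ((M : F) * M = 1) ∧ (M : F) ≠ 0 := by
  rcases h with rfl | rfl <;> simp

theorem shear_eq_of_none {s : Move m} {w : Fin m} (h : s w = none) (t : F) (b : Fin m → F) :
    shear s t b w = b w := by simp [shear, h]

theorem shear_zero (s : Move m) (b : Fin m → F) : shear s 0 b = b := by
  funext w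
  rcases h : s w with _ | p <;> simp [shear, h]

theorem shear_shear {s : Move m} (hs : Proper s) (t u : F) (b : Fin m → F) :
    shear s t (shear s u b) = shear s (t + u) b := by
  funext w
  rcases h : s w with _ | p
  · simp [shear, h]
  · have hp : s p.1 = none := by have := hs w; rw [h] at this; exact this.1
    simp [shear, h, hp]; ring

/-- The shear as a permutation. -/
def shearEquiv {s : Move m} (hs : Proper s) (t : F) : (Fin m → F) ≃ (Fin m → F) where
  toFun := shear s t
  invFun := shear s (-t)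
  left_inv b := by rw [shear_shear hs, neg_add_cancel, shear_zero]
  right_inv b := by rw [shear_shear hs, add_neg_cancel, shear_zero]

theorem shear_ne_of_hits {s : Move m} (hs : Proper s) {v : Fin m} (hv : Hits s v) {t : F} (ht : t ≠ 0)
    {b : Fin m → F} (hb : b v ≠ 0) : shear s t b ≠ b := by
  obtain ⟨w, hw⟩ := hv
  rcases h : s w with _ | ⟨u, M⟩
  · rw [h] at hw; exact hw.elim
  rw [h] at hw
  obtain rfl : u = v := hw
  have hM : M = 1 ∨ M = -1 := by have := hs w; rw [h] at this; exact this.2
  intro he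
  have h1 := congrFun he w
  simp only [shear, h, Option.elim, add_eq_left] at h1
  rcases mul_eq_zero.1 h1 with h2 | h2
  · rcases mul_eq_zero.1 h2 with h3 | h3
    · exact (sq_sign hM).2 h3
    · exact ht h3
  · exact hb h2

/-- The coefficient of a move at a coordinate. -/
def sgn (s : Move m) (v : Fin m) : F := (s v).elim 0 (fun p => (p.2 : F))

/-- A chart: a coordinate, the coordinates next to it with moves, a level function and moves raising the levels. -/
structure Chart (m n : ℕ) where
  /-- the coordinate -/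
  β : Fin m
  /-- the next coordinates -/
  nb : List (Fin m × Fin n)
  /-- the levels -/
  lev : Fin m → ℕ
  /-- moves for the higher levels -/
  up : Fin m → Fin n

namespace Chart

variable (C : Chart m n) (mv : Fin n → Move m)

/-- The next coordinates. -/
def next : Finset (Fin m) := (C.nb.map Prod.fst).toFinset

/-- The decidable conditions on a chart. -/
structure OK : Prop where
  lev_β : C.lev C.β = 0
  lev_zero : ∀ w, C.lev w = 0 → w = C.β
  nodup : (C.nb.map Prod.fst).Nodup
  lev_one : ∀ w, C.lev w = 1 ↔ w ∈ C.next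
  proper : ∀ i, Proper (mv i)
  nb_hit : ∀ p ∈ C.nb, mv p.2 C.β = none ∧ (mv p.2 p.1).elim False (fun r => r.1 = C.β) ∧
    ∀ w, C.lev w = 1 → w ≠ p.1 → mv p.2 w = none
  up_ok : ∀ u, 2 ≤ C.lev u → Hits (mv (C.up u)) u ∧ ∀ w, C.lev w ≤ 1 →
    (mv (C.up u) w).elim True (fun r => C.lev r.1 = 1 ∨ (2 ≤ C.lev r.1 ∧ C.lev r.1 < C.lev u))

/-- The translation with prescribed next coordinates. -/
def trans (y : Fin m → F) (b : Fin m → F) : Fin m → F :=
  C.nb.foldr (fun p b => shear (mv p.2) (sgn (mv p.2) p.1 * y p.1) b) b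

theorem trans_induction (y : Fin m → F) {P : (Fin m → F) → Prop} {b : Fin m → F} (hb : P b)
    (hstep : ∀ p ∈ C.nb, ∀ c, P c → P (shear (mv p.2) (sgn (mv p.2) p.1 * y p.1) c)) : P (C.trans mv y b) := by
  unfold trans
  generalize C.nb = l at hstep
  induction l with
  | nil => simpa using hb
  | cons p l ih =>
    rw [List.foldr_cons]
    exact hstep p List.mem_cons_self _ (ih fun q hq => hstep q (List.mem_cons_of_mem _ hq))

variable {C mv}

/-- The translation as a permutation. -/
theorem exists_equiv (h : C.OK mv) (y : Fin m → F) :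
    ∃ e : (Fin m → F) ≃ (Fin m → F), ∀ b, e b = C.trans mv y b := by
  unfold trans
  generalize C.nb = l
  induction l with
  | nil => exact ⟨Equiv.refl _, fun b => rfl⟩
  | cons p l ih =>
    obtain ⟨e, he⟩ := ih
    exact ⟨e.trans (shearEquiv (h.proper p.2) (sgn (mv p.2) p.1 * y p.1)), fun b => by
      simp [he, shearEquiv]⟩

theorem trans_β (h : C.OK mv) (y b : Fin m → F) : C.trans mv y b C.β = b C.β :=
  C.trans_induction mv y (P := fun c => c C.β = b C.β) rfl fun p hp c hc => by
    show shear _ _ c C.β = _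
    rw [shear_eq_of_none (h.nb_hit p hp).1, hc]

theorem trans_next (h : C.OK mv) (y b : Fin m → F) {v : Fin m} (hv : v ∈ C.next) :
    C.trans mv y b v = b v + y v * b C.β := by
  classical
  suffices ∀ l : List (Fin m × Fin n), (∀ p ∈ l, p ∈ C.nb) → (l.map Prod.fst).Nodup →
      (l.foldr (fun p b => shear (mv p.2) (sgn (mv p.2) p.1 * y p.1) b) b) C.β = b C.β ∧
      (l.foldr (fun p b => shear (mv p.2) (sgn (mv p.2) p.1 * y p.1) b) b) v =
        b v + if v ∈ l.map Prod.fst then y v * b C.β else 0 by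
    have := (this C.nb (fun p hp => hp) h.nodup).2
    rwa [if_pos (List.mem_toFinset.1 hv)] at this
  intro l hl hnd
  induction l with
  | nil => simp
  | cons p l ih =>
    obtain ⟨hb, ihv⟩ := ih (fun q hq => hl q (List.mem_cons_of_mem _ hq)) (List.nodup_cons.1 hnd).2
    obtain ⟨hpβ, hphit, hpone⟩ := h.nb_hit p (hl p List.mem_cons_self)
    have hv1 : C.lev v = 1 := (h.lev_one v).2 hv
    simp only [List.foldr_cons]
    generalize l.foldr (fun p b => shear (mv p.2) (sgn (mv p.2) p.1 * y p.1) b) b = D at hb ihv ⊢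
    refine ⟨by rw [shear_eq_of_none hpβ, hb], ?_⟩
    by_cases hvp : v = p.1
    · subst hvp
      rcases hr : mv p.2 p.1 with _ | ⟨u, M⟩
      · rw [hr] at hphit; exact hphit.elim
      rw [hr] at hphit
      obtain rfl : u = C.β := hphit
      have hM : M = 1 ∨ M = -1 := by have := h.proper p.2 p.1; rw [hr] at this; exact this.2
      have hnot : p.1 ∉ l.map Prod.fst := (List.nodup_cons.1 hnd).1
      rw [if_pos (by simp), shear, hr]
      simp only [Option.elim, sgn, hr]
      rw [hb, ihv, if_neg hnot, add_zero, ← mul_assoc (M : F), (sq_sign hM).1, one_mul]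
    · rw [shear_eq_of_none (hpone v hv1 hvp), ihv]
      simp [hvp]

theorem trans_zero_of_low (y : Fin m → F) (S : Fin m → Prop) (b : Fin m → F) (hb : ∀ w, S w → b w = 0)
    (hS : ∀ p ∈ C.nb, y p.1 ≠ 0 → ∀ w, S w → (mv p.2 w).elim True (fun r => S r.1)) :
    ∀ w, S w → C.trans mv y b w = 0 :=
  C.trans_induction mv y (P := fun c => ∀ w, S w → c w = 0) hb fun p hp c hc w hw => by
    by_cases hy : y p.1 = 0
    · rw [hy, mul_zero, shear_zero]; exact hc w hw
    have h := hS p hp hy w hw
    rcases hr : mv p.2 w with _ | r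
    · rw [shear_eq_of_none hr]; exact hc w hw
    · rw [hr] at h
      simp [shear, hr, hc w hw, hc r.1 h]

end Chart

/-- The invariance properties. -/
structure Inv (mv : Fin n → Move m) (f : (Fin m → F) → ℕ) : Prop where
  inv : ∀ i t b, f (shear (mv i) t b) = f b
  tor : ∀ c : F, c ≠ 0 → ∀ β, ∃ x : Fin m → F, (∀ w, x w ≠ 0) ∧ x β = c ∧ ∀ b, f (x * b) = f b

namespace Inv

variable [Fintype F] [DecidableEq F] {mv : Fin n → Move m} {f : (Fin m → F) → ℕ} (hf : Inv mv f)
  {C : Chart m n}
include hf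

theorem f_trans (y b : Fin m → F) : f (C.trans mv y b) = f b :=
  C.trans_induction mv y (P := fun c => f c = f b) rfl fun p _ c hc => (hf.inv _ _ _).trans hc

omit hf in
/-- The slice. -/
def slice (C : Chart m n) : Finset (Fin m → F) :=
  Finset.univ.filter fun b => b C.β = 1 ∧ ∀ v ∈ C.next, b v = 0

omit hf in
/-- The multiplicity of the slice. -/
def sliceSum (f : (Fin m → F) → ℕ) (C : Chart m n) : ℕ := ∑ b ∈ slice C, f b

theorem fiber_sum (h : C.OK mv) {c : F} (hc : c ≠ 0) (y : Fin m → F) :
    ∑ b ∈ Finset.univ.filter (fun b => b C.β = c ∧ ∀ v ∈ C.next, b v = y v), f b = sliceSum f C := by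
  obtain ⟨x, hx0, hxβ, hx⟩ := hf.tor c hc C.β
  obtain ⟨e, he⟩ := Chart.exists_equiv h (fun v => y v / c)
  symm
  refine Finset.sum_nbij' (fun b => e (x * b)) (fun b => x⁻¹ * e.symm b) ?_ ?_ ?_ ?_ ?_
  · intro b hb
    obtain ⟨hbβ, hbn⟩ := (Finset.mem_filter.1 hb).2
    refine Finset.mem_filter.2 ⟨Finset.mem_univ _, ?_, fun v hv => ?_⟩
    · rw [he, Chart.trans_β h, Pi.mul_apply, hxβ, hbβ, mul_one]
    · rw [he, Chart.trans_next h _ _ hv, Pi.mul_apply, Pi.mul_apply, hxβ, hbβ, hbn v hv, mul_one, mul_zero,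
        zero_add, div_mul_cancel₀ _ hc]
  · intro b hb
    obtain ⟨hbβ, hbn⟩ := (Finset.mem_filter.1 hb).2
    have hβ : e.symm b C.β = c := by rw [← hbβ, ← e.apply_symm_apply b, he, Chart.trans_β h, ← he,
      e.symm_apply_apply]
    refine Finset.mem_filter.2 ⟨Finset.mem_univ _, ?_, fun v hv => ?_⟩
    · rw [Pi.mul_apply, Pi.inv_apply, hxβ, hβ, inv_mul_cancel₀ hc]
    · have h1 := hbn v hv
      rw [← e.apply_symm_apply b, he, Chart.trans_next h _ _ hv, hβ, div_mul_cancel₀ _ hc, add_eq_right] at h1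
      rw [Pi.mul_apply, h1, mul_zero]
  · intro b _
    funext w
    simp [Pi.mul_apply, Pi.inv_apply, hx0 w]
  · intro b _
    show e (x * (x⁻¹ * e.symm b)) = b
    rw [show x * (x⁻¹ * e.symm b) = e.symm b from funext fun w => by simp [hx0 w], e.apply_symm_apply]
  · intro b _
    rw [he, hf.f_trans, hx]

/-- The sum over a chart with some next coordinates vanishing. -/
theorem sum_chart (h : C.OK mv) (Z : Finset (Fin m)) (hZ : Z ⊆ C.next) :
    ∑ b ∈ Finset.univ.filter (fun b : Fin m → F => b C.β ≠ 0 ∧ ∀ v ∈ Z, b v = 0), f b =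
      (Fintype.card F - 1) * Fintype.card F ^ (C.next.card - Z.card) * sliceSum f C := by
  classical
  let key : (Fin m → F) → F × (↥(C.next \ Z) → F) := fun b => (b C.β, fun v => b v)
  let T : Finset (F × (↥(C.next \ Z) → F)) := (Finset.univ.erase (0 : F)) ×ˢ Finset.univ
  rw [← Finset.sum_fiberwise_of_maps_to (g := key) (t := T) (fun b hb => Finset.mem_product.2
    ⟨Finset.mem_erase.2 ⟨(Finset.mem_filter.1 hb).2.1, Finset.mem_univ _⟩, Finset.mem_univ _⟩)]
  rw [Finset.sum_congr rfl (g := fun _ => sliceSum f C) ?_, Finset.sum_const, smul_eq_mul,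
    Finset.card_product, Finset.card_erase_of_mem (Finset.mem_univ _), Finset.card_univ, Finset.card_univ,
    Fintype.card_fun, Fintype.card_coe, Finset.card_sdiff_of_subset hZ]
  rintro ⟨c, g⟩ hcg
  have hc : c ≠ 0 := (Finset.mem_erase.1 (Finset.mem_product.1 hcg).1).1
  let y : Fin m → F := fun v => if hv : v ∈ C.next \ Z then g ⟨v, hv⟩ else 0
  rw [← hf.fiber_sum h hc y, Finset.filter_filter]
  refine Finset.sum_congr (Finset.filter_congr fun b _ => ?_) fun b _ => rfl
  simp only [key, Prod.mk.injEq, funext_iff]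
  constructor
  · rintro ⟨⟨-, hz⟩, hb, hg⟩
    refine ⟨hb, fun v hv => ?_⟩
    by_cases hvZ : v ∈ Z
    · rw [hz v hvZ]; simp [y, hvZ]
    · have hvd : v ∈ C.next \ Z := Finset.mem_sdiff.2 ⟨hv, hvZ⟩
      simp only [y, dif_pos hvd]
      exact hg ⟨v, hvd⟩
  · rintro ⟨hb, hv⟩
    refine ⟨⟨hb.symm ▸ hc, fun v hvZ => ?_⟩, hb, fun v => ?_⟩
    · rw [hv v (hZ hvZ)]; simp [y, hvZ]
    · rw [hv v (Finset.mem_sdiff.1 v.2).1]; simp only [y, dif_pos v.2, Subtype.coe_eta]

theorem sum_chart_all (h : C.OK mv) :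
    ∑ b ∈ Finset.univ.filter (fun b : Fin m → F => b C.β ≠ 0), f b =
      (Fintype.card F - 1) * Fintype.card F ^ C.next.card * sliceSum f C := by
  have := hf.sum_chart h ∅ (Finset.empty_subset _)
  simpa using this

/-- The point of a chart. -/
theorem pure_point (h : C.OK mv) (h1 : sliceSum f C = 1) :
    f (Pi.single C.β 1) = 1 ∧
      ∀ b : Fin m → F, b C.β ≠ 0 → f b ≠ 0 →
        f b = 1 ∧ b = C.trans mv (fun v => b v / b C.β) (Pi.single C.β (b C.β)) := by
  classical
  obtain ⟨b₀, hb₀, hf₀⟩ := Finset.exists_ne_zero_of_sum_ne_zero (show sliceSum f C ≠ 0 by omega)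
  have huniq : ∀ b ∈ slice C, f b ≠ 0 → b = b₀ := fun b hb hne => by
    by_contra hne'
    have h2 := Finset.sum_le_sum_of_subset (f := f) (show ({b, b₀} : Finset (Fin m → F)) ⊆ slice C from
      Finset.insert_subset hb (Finset.singleton_subset_iff.2 hb₀))
    rw [Finset.sum_pair hne'] at h2
    change _ ≤ sliceSum f C at h2
    omega
  obtain ⟨hβ, hn⟩ := (Finset.mem_filter.1 hb₀).2
  have hzero : ∀ k, ∀ u, C.lev u = k → 2 ≤ k → b₀ u = 0 := by
    intro k
    induction k using Nat.strong_induction_on with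
    | _ k ih =>
      intro u hu hk
      by_contra hne
      obtain ⟨hhit, hlow⟩ := h.up_ok u (by omega)
      have hkeep : ∀ w, C.lev w ≤ 1 → shear (mv (C.up u)) 1 b₀ w = b₀ w := fun w hw => by
        have h3 := hlow w hw
        rcases hr : mv (C.up u) w with _ | r
        · exact shear_eq_of_none hr _ _
        rw [hr] at h3
        have : b₀ r.1 = 0 := by
          rcases h3 with h4 | ⟨h4, h5⟩
          · exact hn _ ((h.lev_one _).1 h4)
          · exact ih _ (by omega) _ rfl h4
        simp [shear, hr, this]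
      refine shear_ne_of_hits (h.proper _) hhit one_ne_zero hne (huniq _ ?_ ?_)
      · refine Finset.mem_filter.2 ⟨Finset.mem_univ _, ?_, fun v hv => ?_⟩
        · rw [hkeep _ (by rw [h.lev_β]; omega), hβ]
        · rw [hkeep _ (by rw [(h.lev_one v).2 hv]), hn v hv]
      · rw [hf.inv]; exact hf₀
  have hb₀eq : b₀ = Pi.single C.β 1 := by
    funext w
    rcases eq_or_ne w C.β with rfl | hw
    · rw [hβ, Pi.single_eq_same]
    rw [Pi.single_eq_of_ne hw]
    rcases Nat.lt_or_ge (C.lev w) 2 with h2 | h2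
    · exact hn w ((h.lev_one w).1 (by
        have : C.lev w ≠ 0 := fun h0 => hw (h.lev_zero w h0)
        omega))
    · exact hzero _ w rfl h2
  have hf1 : f (Pi.single C.β 1) = 1 := by
    rw [← hb₀eq]
    have h2 : ∑ b ∈ slice C, f b = f b₀ := by
      refine Finset.sum_eq_single b₀ (fun b hb hne => ?_) (fun hh => absurd hb₀ hh)
      by_contra h0
      exact hne (huniq b hb h0)
    exact h2.symm.trans h1
  refine ⟨hf1, fun b hb hne => ?_⟩
  set c := b C.β
  obtain ⟨x, -, hxβ, hx⟩ := hf.tor c hb C.β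
  have hpt : x * Pi.single C.β 1 = (Pi.single C.β c : Fin m → F) := by
    funext w
    rcases eq_or_ne w C.β with rfl | hw
    · simp [hxβ]
    · simp [Pi.single_eq_of_ne hw]
  set p := C.trans mv (fun v => b v / c) (Pi.single C.β c) with hp
  have hfp : f p = 1 := by rw [hp, hf.f_trans, ← hpt, hx, hf1]
  have hfs := hf.fiber_sum h hb b
  rw [h1] at hfs
  have hmem : ∀ v ∈ C.next, p v = b v := fun v hv => by
    rw [hp, Chart.trans_next h _ _ hv]
    have : v ≠ C.β := fun e => by
      have := (h.lev_one v).2 hv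
      rw [e, h.lev_β] at this
      omega
    rw [Pi.single_eq_of_ne this, Pi.single_eq_same, zero_add, div_mul_cancel₀ _ hb]
  have hpβ : p C.β = c := by rw [hp, Chart.trans_β h, Pi.single_eq_same]
  by_cases hbp : b = p
  · exact ⟨hbp ▸ hfp, hbp⟩
  · exfalso
    have h2 := Finset.sum_le_sum_of_subset (f := f) (show ({b, p} : Finset (Fin m → F)) ⊆
        Finset.univ.filter (fun b' => b' C.β = c ∧ ∀ v ∈ C.next, b' v = b v) from
      Finset.insert_subset (Finset.mem_filter.2 ⟨Finset.mem_univ _, rfl, fun v _ => rfl⟩)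
        (Finset.singleton_subset_iff.2 (Finset.mem_filter.2 ⟨Finset.mem_univ _, hpβ, hmem⟩)))
    rw [Finset.sum_pair hbp, hfp, hfs] at h2
    omega

end Inv

end CfsgLib.KnownB.MinDeg
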