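import Cfsg.Agent.Lib.KnownB.D4MinDegreeCore
import Cfsg.Agent.Lib.KnownB.MinDegShear

/-!
Operator families on `Fin m → F` normalised by shears: dimensions and traces, chart by chart.
-/

set_option autoImplicit false
set_option linter.unusedSectionVars false

namespace CfsgLib.KnownB.MinDeg

open Module CfsgLib.Chev CfsgLib.KnownB.D4Deg

variable {F : Type*} [Field F] [Fintype F] {m n : ℕ} {M : Type*} [AddCommGroup M] [Module ℂ M]
  [FiniteDimensional ℂ M]

/-- The transpose of a shear. -/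
def lsh (s : Move m) (t : F) (a : Fin m → F) : Fin m → F := fun v =>
  a v + ∑ w, (s w).elim 0 (fun p => if p.1 = v then (p.2 : F) * t * a w else 0)

theorem pairing (s : Move m) (t : F) (a b : Fin m → F) :
    ∑ v, b v * lsh s t a v = ∑ w, shear s t b w * a w := by
  simp only [lsh, shear, mul_add, add_mul, Finset.sum_add_distrib, Finset.mul_sum]
  congr 1
  rw [Finset.sum_comm]
  refine Finset.sum_congr rfl fun w _ => ?_
  rcases s w with _ | p
  · simp
  · simp only [Option.elim, mul_ite, mul_zero, Finset.sum_ite_eq, Finset.mem_univ, if_true]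
    ring

theorem lsh_lsh {s : Move m} (hs : Proper s) (t u : F) (a : Fin m → F) :
    lsh s t (lsh s u a) = lsh s (t + u) a := by
  classical
  funext v
  have key : ∀ x : Fin m → F, ∑ w, (Pi.single v 1 : Fin m → F) w * x w = x v := fun x => by
    simp [Pi.single_apply]
  rw [← key (lsh s t _), ← key (lsh s (t + u) a), pairing, pairing, pairing, shear_shear hs, add_comm u t]

theorem lsh_zero (s : Move m) (a : Fin m → F) : lsh s 0 a = a := by
  funext v
  simp only [lsh, add_eq_left]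
  refine Finset.sum_eq_zero fun w _ => ?_
  rcases s w with _ | p <;> simp

/-- The transpose of a shear as a permutation. -/
def lshEquiv {s : Move m} (hs : Proper s) (t : F) : (Fin m → F) ≃ (Fin m → F) where
  toFun := lsh s t
  invFun := lsh s (-t)
  left_inv b := by rw [lsh_lsh hs, neg_add_cancel, lsh_zero]
  right_inv b := by rw [lsh_lsh hs, add_neg_cancel, lsh_zero]

/-- The character attached to a vector. -/
def chr (ψ : AddChar F ℂ) (b : Fin m → F) : AddChar (Fin m → F) ℂ :=
  ψ.compAddMonoidHom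
    { toFun := fun a => ∑ w, b w * a w
      map_zero' := by simp
      map_add' := fun a a' => by simp [mul_add, Finset.sum_add_distrib] }

theorem chr_apply (ψ : AddChar F ℂ) (b a : Fin m → F) : chr ψ b a = ψ (∑ w, b w * a w) := rfl

theorem chr_bijective {ψ : AddChar F ℂ} (hψ : ψ ≠ 1) :
    Function.Bijective (chr ψ : (Fin m → F) → AddChar (Fin m → F) ℂ) := by
  classical
  refine (Fintype.bijective_iff_injective_and_card _).2 ⟨fun b b' h => funext fun w => ?_, ?_⟩
  · by_contra hne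
    refine AddChar.IsPrimitive.of_ne_one hψ (sub_ne_zero.2 hne) (DFunLike.ext _ _ fun t => ?_)
    have h1 := DFunLike.congr_fun h (Pi.single w t)
    simp only [chr_apply, Pi.single_apply, mul_ite, mul_zero, Finset.sum_ite_eq', Finset.mem_univ, if_true] at h1
    rw [AddChar.mulShift_apply, sub_mul, AddChar.one_apply, sub_eq_add_neg, AddChar.map_add_eq_mul,
      h1, ← AddChar.map_add_eq_mul, add_neg_cancel, AddChar.map_zero_eq_one]
  · rw [AddChar.card_eq]

/-- The hypotheses on an operator family. -/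
structure Act (mv : Fin n → Move m) (Y : (Fin m → F) → Module.End ℂ M) (G : Fin n → F → Module.End ℂ M) :
    Prop where
  proper : ∀ i, Proper (mv i)
  add : ∀ a b, Y (a + b) = Y a * Y b
  inv : ∀ i t, G i t * G i (-t) = 1
  conj : ∀ i t a, G i t * Y a = Y (lsh (mv i) t a) * G i t
  tor : ∀ c : F, c ≠ 0 → ∀ β, ∃ x : Fin m → F, (∀ w, x w ≠ 0) ∧ x β = c ∧
    ∃ T T' : Module.End ℂ M, T' * T = 1 ∧ ∀ a, T * Y a = Y (x * a) * T

variable {mv : Fin n → Move m} {Y : (Fin m → F) → Module.End ℂ M} {G : Fin n → F → Module.End ℂ M}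

/-- The projection of a vector. -/
noncomputable def pr (Y : (Fin m → F) → Module.End ℂ M) (ψ : AddChar F ℂ) (b : Fin m → F) : Module.End ℂ M :=
  EigProj.proj Y (chr ψ b)

/-- The multiplicity of a vector. -/
noncomputable def mlt (Y : (Fin m → F) → Module.End ℂ M) (ψ : AddChar F ℂ) (b : Fin m → F) : ℕ :=
  mult Y (chr ψ b)

namespace Act

variable (hA : Act mv Y G) {ψ : AddChar F ℂ} (hψ : ψ ≠ 1)
include hA

theorem trace_pr (b : Fin m → F) : LinearMap.trace ℂ M (pr Y ψ b) = (mlt Y ψ b : ℂ) :=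
  trace_idem (EigProj.isIdem hA.add _)

theorem pr_idem (b : Fin m → F) : pr Y ψ b * pr Y ψ b = pr Y ψ b := EigProj.isIdem hA.add _

theorem pr_eq_zero {b : Fin m → F} (h : mlt Y ψ b = 0) : pr Y ψ b = 0 :=
  LinearMap.range_eq_bot.1 (Submodule.finrank_eq_zero.1 h)

theorem conj_pr (i : Fin n) (t : F) (b : Fin m → F) :
    G i t * pr Y ψ (shear (mv i) t b) = pr Y ψ b * G i t := by
  classical
  simp only [pr, EigProj.proj, mul_smul_comm, smul_mul_assoc, Finset.mul_sum, Finset.sum_mul]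
  congr 1
  refine Fintype.sum_equiv (lshEquiv (hA.proper i) t) _ _ fun a => ?_
  show _ = chr ψ b (-lsh (mv i) t a) • (Y (lsh (mv i) t a) * G i t)
  rw [hA.conj]
  congr 1
  simp only [chr_apply, Pi.neg_apply, mul_neg, Finset.sum_neg_distrib, pairing]

theorem pr_shear (i : Fin n) (t : F) (b : Fin m → F) :
    pr Y ψ (shear (mv i) t b) = G i (-t) * pr Y ψ b * G i t := by
  rw [mul_assoc, ← hA.conj_pr, ← mul_assoc]
  have := hA.inv i (-t)
  rw [neg_neg] at this
  rw [this, one_mul]

theorem mlt_shear (i : Fin n) (t : F) (b : Fin m → F) : mlt Y ψ (shear (mv i) t b) = mlt Y ψ b := by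
  have h : (mlt Y ψ (shear (mv i) t b) : ℂ) = mlt Y ψ b := by
    rw [← hA.trace_pr, ← hA.trace_pr, hA.pr_shear, LinearMap.trace_mul_comm, ← mul_assoc, hA.inv, one_mul]
  exact_mod_cast h

theorem isInv : Inv mv (mlt Y ψ) := by
  refine ⟨fun i t b => hA.mlt_shear i t b, fun c hc β => ?_⟩
  obtain ⟨x, hx0, hxβ, T, T', hT, hTY⟩ := hA.tor c hc β
  refine ⟨x, hx0, hxβ, fun b => ?_⟩
  have h1 : T * pr Y ψ (x * b) = pr Y ψ b * T := by
    classical
    simp only [pr, EigProj.proj, mul_smul_comm, smul_mul_assoc, Finset.mul_sum, Finset.sum_mul]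
    congr 1
    refine Fintype.sum_equiv
      (Equiv.piCongrRight fun w => Equiv.mulLeft₀ (x w) (hx0 w)) _ _ fun a => ?_
    show _ = chr ψ b (-(x * a)) • (Y (x * a) * T)
    rw [hTY]
    congr 1
    simp only [chr_apply, Pi.neg_apply, Pi.mul_apply, mul_neg]
    congr 1
    exact Finset.sum_congr rfl fun w _ => by ring
  have h2 : pr Y ψ (x * b) = T' * pr Y ψ b * T := by rw [mul_assoc, ← h1, ← mul_assoc, hT, one_mul]
  have h : (mlt Y ψ (x * b) : ℂ) = mlt Y ψ b := by
    rw [← hA.trace_pr, ← hA.trace_pr, h2, LinearMap.trace_mul_comm, ← mul_assoc, mul_eq_one_comm.1 hT, one_mul]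
  exact_mod_cast h

include hψ

theorem sum_pr : ∑ b, pr Y ψ b = Y 0 := by
  rw [← sum_proj_eq (Y := Y)]
  exact Fintype.sum_equiv (Equiv.ofBijective _ (chr_bijective hψ)) _ _ fun b => rfl

theorem sum_mlt : ((∑ b, mlt Y ψ b : ℕ) : ℂ) = LinearMap.trace ℂ M (Y 0) := by
  rw [← hA.sum_pr hψ, map_sum, Nat.cast_sum]
  exact Finset.sum_congr rfl fun b _ => (hA.trace_pr b).symm

theorem trace_Y (a : Fin m → F) :
    LinearMap.trace ℂ M (Y a) = ∑ b : Fin m → F, chr ψ b a * (mlt Y ψ b : ℂ) := by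
  rw [trace_eq_sum hA.add]
  exact (Fintype.sum_equiv (Equiv.ofBijective _ (chr_bijective hψ)) _ _ fun b => rfl).symm

/-- The relation between the trace on a coordinate and the dimension moved by it. -/
theorem trace_coord [DecidableEq F] (β : Fin m) {β₀ : ℂ}
    (h : ∀ t : F, t ≠ 0 → LinearMap.trace ℂ M (Y (Pi.single β t)) = β₀) :
    ((Fintype.card F : ℂ) - 1) * β₀ + (Fintype.card F : ℂ) *
        ((∑ b ∈ Finset.univ.filter (fun b : Fin m → F => b β ≠ 0), mlt Y ψ b : ℕ) : ℂ) =
      ((Fintype.card F : ℂ) - 1) * LinearMap.trace ℂ M (Y 0) := by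
  have h1 : ∑ t : F, LinearMap.trace ℂ M (Y (Pi.single β t)) =
      LinearMap.trace ℂ M (Y 0) + ((Fintype.card F : ℂ) - 1) * β₀ := by
    rw [← Finset.add_sum_erase _ _ (Finset.mem_univ (0 : F)), Pi.single_zero,
      Finset.sum_congr rfl fun t ht => h t (Finset.ne_of_mem_erase ht), Finset.sum_const,
      Finset.card_erase_of_mem (Finset.mem_univ _), Finset.card_univ, nsmul_eq_mul,
      Nat.cast_sub (Fintype.card_pos (α := F)), Nat.cast_one]
  have h2 : ∑ t : F, LinearMap.trace ℂ M (Y (Pi.single β t)) = (Fintype.card F : ℂ) *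
      ((∑ b ∈ Finset.univ.filter (fun b : Fin m → F => ¬ b β ≠ 0), mlt Y ψ b : ℕ) : ℂ) := by
    rw [Finset.sum_congr rfl fun t _ => hA.trace_Y hψ _, Finset.sum_comm, Nat.cast_sum, Finset.mul_sum,
      Finset.sum_filter]
    refine Finset.sum_congr rfl fun b _ => ?_
    have hc : ∀ t, chr ψ b (Pi.single β t) = ψ (t * b β) := fun t => by
      simp [chr_apply, Pi.single_apply, mul_comm]
    rw [← Finset.sum_mul, Finset.sum_congr rfl fun t _ => hc t,
      AddChar.sum_mulShift _ (AddChar.IsPrimitive.of_ne_one hψ)]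
    split_ifs <;> simp_all
  have h3 := hA.sum_mlt hψ
  rw [← Finset.sum_filter_add_sum_filter_not Finset.univ (fun b : Fin m → F => b β ≠ 0), Nat.cast_add] at h3
  linear_combination h2 - h1 + (Fintype.card F : ℂ) * h3

omit hψ

/-- A moved vector contributes no trace. -/
theorem trace_moved {i : Fin n} {t : F} {b : Fin m → F} (h : shear (mv i) (-t) b ≠ b) (hψ : ψ ≠ 1) :
    LinearMap.trace ℂ M (G i t * pr Y ψ b) = 0 := by
  classical
  have h1 : G i t * pr Y ψ b = pr Y ψ (shear (mv i) (-t) b) * G i t := by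
    conv_lhs => rw [show b = shear (mv i) t (shear (mv i) (-t) b) by
      rw [shear_shear (hA.proper i), add_neg_cancel, shear_zero]]
    rw [hA.conj_pr]
  have h2 : chr ψ b ≠ chr ψ (shear (mv i) (-t) b) := fun e => h ((chr_bijective hψ).1 e).symm
  rw [← hA.pr_idem b, ← mul_assoc, LinearMap.trace_mul_comm, h1, ← mul_assoc, pr, pr,
    EigProj.proj_mul hA.add, if_neg h2, zero_mul, map_zero]

/-- A vector with multiplicity one fixed by a commutator of two moves. -/
theorem fixed_base {α γ δ : Fin n} {β : Fin m} {c : F} (t : F)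
    (h1 : mlt Y ψ (Pi.single β c) = 1) (hγ : ¬ Hits (mv γ) β) (hδ : ¬ Hits (mv δ) β)
    (hcomm : ∃ u, G γ 1 * G δ u = G δ u * G γ 1 * G α t) :
    G α t * pr Y ψ (Pi.single β c) = pr Y ψ (Pi.single β c) := by
  classical
  set P := pr Y ψ (Pi.single β c) with hP
  have hfix : ∀ i, ¬ Hits (mv i) β → ∀ s : F, shear (mv i) s (Pi.single β c) = Pi.single β c := by
    intro i hi s
    funext w
    rcases hr : mv i w with _ | r
    · exact shear_eq_of_none hr _ _
    have : r.1 ≠ β := fun e => hi ⟨w, by rw [hr]; exact e⟩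
    simp [shear, hr, Pi.single_eq_of_ne this]
  have hcom : ∀ i, ¬ Hits (mv i) β → ∀ s : F, G i s * P = P * G i s := fun i hi s => by
    have := hA.conj_pr (ψ := ψ) i s (Pi.single β c)
    rwa [hfix i hi] at this
  obtain ⟨v, hv0, hv⟩ := finrank_eq_one_iff'.1 (show finrank ℂ (LinearMap.range P) = 1 from h1)
  have hline : ∀ x, ∃ k : ℂ, P x = k • (v : M) := fun x => by
    obtain ⟨k, hk⟩ := hv ⟨P x, x, rfl⟩
    exact ⟨k, (congrArg Subtype.val hk).symm⟩
  have hPv : P v = v := by
    obtain ⟨x, hx⟩ := v.2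
    rw [← hx, ← Module.End.mul_apply, hA.pr_idem]
  have hscal : ∀ A : Module.End ℂ M, A * P = P * A → ∃ k : ℂ, ∀ x, A (P x) = k • P x := by
    intro A hA'
    obtain ⟨k, hk⟩ := hline (A v)
    have hAv : A v = k • (v : M) := by
      rw [← hk]
      conv_lhs => rw [← hPv]
      exact LinearMap.congr_fun hA' v
    refine ⟨k, fun x => ?_⟩
    obtain ⟨l, hl⟩ := hline x
    rw [hl, map_smul, hAv, smul_comm]
  obtain ⟨u, hu⟩ := hcomm
  obtain ⟨k, hk⟩ := hscal _ (hcom γ hγ 1)
  obtain ⟨l, hl⟩ := hscal _ (hcom δ hδ u)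
  have hswap : G γ 1 * G δ u * P = G δ u * G γ 1 * P := by
    refine LinearMap.ext fun x => ?_
    simp only [Module.End.mul_apply, hk, hl, map_smul, smul_comm k l]
  rw [hu, mul_assoc] at hswap
  have hleft : G γ (-1) * G δ (-u) * (G δ u * G γ 1) = 1 := by
    have e1 := hA.inv δ (-u)
    have e2 := hA.inv γ (-1)
    rw [neg_neg] at e1 e2
    rw [mul_assoc (G γ (-1)), ← mul_assoc (G δ (-u)), e1, one_mul, e2]
  have h3 := congrArg (fun A => G γ (-1) * G δ (-u) * A) hswap
  rwa [← mul_assoc _ (G δ u * G γ 1) (G α t * P), ← mul_assoc _ (G δ u * G γ 1) P, hleft, one_mul, one_mul] at h3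

end Act

end CfsgLib.KnownB.MinDeg
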