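import Cfsg.Agent.Lib.KnownB.MinDegLevel
import Cfsg.Agent.Lib.KnownB.SLnSteinberg
import Cfsg.Agent.Lib.Classical.SLMinDegFree
import Cfsg.Agent.Lib.Char.Monomial

/-!
The bottom of a chain: a subsystem of type `A₅`.
-/

set_option autoImplicit false
set_option linter.unusedSectionVars false

namespace CfsgLib.KnownB.MinDeg

open Cfsg.Lie CfsgLib.Chev Module

variable {D : ChevalleyDatum} {F : Type*} [Field F]

/-- The check of a subsystem of type `A₅`. -/
def baseCheck (D : ChevalleyDatum) (R : List ℕ) (rt : Fin 6 → Fin 6 → ℕ) (sg : Fin 6 → Fin 6 → ℤ) : Bool :=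
  R.all (fun r => decide (r < D.nroots) &&
    (List.finRange 6).any fun i => (List.finRange 6).any fun j => decide (i ≠ j) && rt i j == r) &&
  (List.finRange 6).all (fun i => (List.finRange 6).all fun j => decide (i = j) ||
    (R.contains (rt i j) && (sg i j == 1 || sg i j == -1) &&
      (List.finRange 6).all (fun k => (List.finRange 6).all fun l =>
        decide (k = l ∨ i = l ∨ j = k) || commPairB D (rt i j) (rt k l)) &&
      (List.finRange 6).all (fun k => decide (k = i ∨ k = j) ||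
        (commOneB D (rt j k) (rt i j) (rt i k) (-(sg i j * sg j k * sg i k)) &&
          commPairB D (rt i k) (rt i j) && commPairB D (rt j k) (rt i k)))))

/-- The bound for a subsystem of type `A₅`. -/
theorem base_bound [Fintype F] {g : Good D} {R : List ℕ} {rt : Fin 6 → Fin 6 → ℕ} {sg : Fin 6 → Fin 6 → ℤ}
    (hc : HasComm D) (hb : baseCheck D R rt sg = true) :
    LowBound g F R (Classical.SLMinDeg.bigT (Fintype.card F) 5) := by
  classical
  intro M _ _ _ ρ ⟨r, hr, t₀, hne⟩
  simp only [baseCheck, Bool.and_eq_true, List.all_eq_true, Bool.or_eq_true, beq_iff_eq, decide_eq_true_eq,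
    List.mem_finRange, forall_const, List.contains_iff_mem, List.any_eq_true, true_and] at hb
  obtain ⟨hR, hpair⟩ := hb
  have hRlt : ∀ r ∈ R, r < D.nroots := fun r hr => (hR r hr).1
  have hd : ∀ i j, i ≠ j → rt i j ∈ R ∧ (sg i j = 1 ∨ sg i j = -1) :=
    fun i j h => let h' := (hpair i j).resolve_left h; ⟨h'.1.1.1, h'.1.1.2⟩
  let x : Fin 6 → Fin 6 → F → ↥(rootTor g F R) := fun i j t => Xh g R (rt i j) ((sg i j : F) * t)
  obtain ⟨e, he⟩ := SLnSt.present (K := F) 6 (by norm_num)
  let φ' : PresentedGroup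
        ({w : FreeGroup ({ij : Fin 6 × Fin 6 // ij.1 ≠ ij.2} × F) | ∃ (a : {ij : Fin 6 × Fin 6 // ij.1 ≠ ij.2}) (t u : F),
            w = FreeGroup.of (a, t) * FreeGroup.of (a, u) * (FreeGroup.of (a, t + u))⁻¹} ∪
          {w | ∃ (a b : {ij : Fin 6 × Fin 6 // ij.1 ≠ ij.2}) (t u : F), a.1.1 ≠ b.1.2 ∧ a.1.2 ≠ b.1.1 ∧
            w = FreeGroup.of (a, t) * FreeGroup.of (b, u) * (FreeGroup.of (a, t))⁻¹ * (FreeGroup.of (b, u))⁻¹} ∪
          {w | ∃ (a b : {ij : Fin 6 × Fin 6 // ij.1 ≠ ij.2}) (h : a.1.1 ≠ b.1.2) (t u : F), a.1.2 = b.1.1 ∧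
            w = FreeGroup.of (a, t) * FreeGroup.of (b, u) * (FreeGroup.of (a, t))⁻¹ * (FreeGroup.of (b, u))⁻¹ *
              (FreeGroup.of (⟨(a.1.1, b.1.2), h⟩, t * u))⁻¹}) →* ↥(rootTor g F R) :=
    PresentedGroup.toGroup (f := fun p => x p.1.1.1 p.1.1.2 p.2) <| by
      rintro w ((⟨a, t, u, rfl⟩ | ⟨a, b, t, u, h1, h2, rfl⟩) | ⟨a, b, h, t, u, h2, rfl⟩) <;>
        simp only [map_mul, map_inv, FreeGroup.lift_apply_of, x]
      · rw [mul_inv_eq_one, ← Xh_add, mul_add]
      · rw [mul_inv_eq_one, mul_inv_eq_iff_eq_mul]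
        exact (Xh_comm hc hRlt (hd _ _ a.2).1 (hd _ _ b.2).1
          (((((hpair _ _).resolve_left a.2).1.2) _ _).resolve_left (by simp [b.2, h1, h2])) _ _).eq
      · obtain ⟨⟨i, j⟩, hij⟩ := a
        obtain ⟨⟨j', k⟩, hjk⟩ := b
        simp only at h2 hij hjk h
        subst h2
        simp only
        obtain ⟨⟨hone, hp1⟩, hp2⟩ :=
          (((hpair i j).resolve_left hij).2 k).resolve_left (by simp [Ne.symm h, Ne.symm hjk])
        rw [Xh_inv, Xh_inv, Xh_inv, Xh_one hc hRlt (hd j k hjk).1 (hd i j hij).1 (hd i k h).1 hone,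
          mul_assoc (Xh g R (rt j k) _ * Xh g R (rt i j) _),
          (Xh_comm hc hRlt (hd i k h).1 (hd i j hij).1 hp1 _ _).eq, ← mul_assoc,
          mul_assoc (Xh g R (rt j k) _) (Xh g R (rt i j) _), ← Xh_add, add_neg_cancel, Xh_zero, mul_one,
          (Xh_comm hc hRlt (hd j k hjk).1 (hd i k h).1 hp2 _ _).eq,
          mul_assoc (Xh g R (rt i k) _), ← Xh_add, add_neg_cancel, Xh_zero, mul_one, ← Xh_add]
        have h1 := (sq_sign (F := F) (hd i k h).2).1
        convert Xh_zero (g := g) (R := R) (F := F) (rt i k) using 2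
        push_cast
        ring_nf
        have h2 := (sq_sign (F := F) (hd i j hij).2).1
        have h3 := (sq_sign (F := F) (hd j k hjk).2).1
        linear_combination (sg i k : F) * t * u * (sg i j : F) * (sg i j : F) * h3 + (sg i k : F) * t * u * h2
  let φ : Matrix.SpecialLinearGroup (Fin 6) F →* ↥(rootTor g F R) := φ'.comp e.symm.toMonoidHom
  have hφ : ∀ i j, i ≠ j → ∀ t, φ (Classical.SLMinDeg.tt i j t) = x i j t := fun i j h t => by
    have : e.symm (Classical.SLMinDeg.tt i j t) = PresentedGroup.of (⟨(i, j), h⟩, t) := by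
      rw [MulEquiv.symm_apply_eq]
      refine Subtype.ext ?_
      rw [he, Classical.SLMinDeg.tt, dif_pos h]
      rfl
    show φ' (e.symm _) = _
    rw [this]
    exact PresentedGroup.toGroup.of _
  obtain ⟨-, i, j, hij, hrij⟩ := hR r hr
  let σ : Representation ℂ (Matrix.SpecialLinearGroup (Fin 6) F) M := ρ.comp φ
  have hσ : σ (Classical.SLMinDeg.tt i j ((sg i j : F) * t₀)) ≠ 1 := by
    show ρ (φ _) ≠ 1
    rw [hφ i j hij]
    show ρ (Xh g R (rt i j) ((sg i j : F) * ((sg i j : F) * t₀))) ≠ 1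
    rwa [← mul_assoc, (sq_sign (F := F) (hd i j hij).2).1, one_mul, hrij]
  generalize Classical.SLMinDeg.tt i j ((sg i j : F) * t₀) = y at hσ
  obtain ⟨p, hp, hpne⟩ : ∃ p : Subrepresentation σ, p.toRepresentation.IsIrreducible ∧ p.toRepresentation y ≠ 1 := by
    by_contra hh
    push Not at hh
    refine hσ (sub_eq_zero.1 (CfsgLib.Char.eq_zero_of_forall_irreducible σ _ fun p hp v hv => ?_))
    have h1 := congrArg Subtype.val (LinearMap.congr_fun (hh p hp) ⟨v, hv⟩)
    rw [LinearMap.sub_apply, sub_eq_zero]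
    exact h1
  have := hp
  have := CfsgLib.Char.nontrivial_of_isIrreducible p.toRepresentation
  have hfix : ∀ v, (∀ z, p.toRepresentation z v = v) → v = 0 := by
    intro v hv
    by_contra hv0
    let W : Subrepresentation p.toRepresentation :=
      ⟨Submodule.span ℂ {v}, fun z w hw => by
        obtain ⟨c, rfl⟩ := Submodule.mem_span_singleton.1 hw
        rw [map_smul, hv]
        exact Submodule.mem_span_singleton.2 ⟨c, rfl⟩⟩
    rcases hp.eq_bot_or_eq_top W with h | h
    · exact hv0 ((Submodule.mem_bot ℂ).1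
        ((congrArg Subrepresentation.toSubmodule h).le (Submodule.mem_span_singleton_self v)))
    · refine hpne (LinearMap.ext fun w => ?_)
      obtain ⟨c, rfl⟩ := Submodule.mem_span_singleton.1
        ((congrArg Subrepresentation.toSubmodule h).ge (Submodule.mem_top : w ∈ ⊤) : w ∈ Submodule.span ℂ {v})
      rw [map_smul, hv]
      rfl
  refine le_trans ?_ p.toSubmodule.finrank_le
  exact (Classical.SLMinDeg.min_degree (m := 5) (by norm_num) p.toRepresentation hfix).resolve_right
    fun h => by simp [Classical.SLMinDeg.Small] at h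

end CfsgLib.KnownB.MinDeg
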