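import Cfsg.Agent.Lib.KnownB.MinDegAction

/-!
The decomposition of the nonzero vectors into cells, with the dimensions and traces on them.
-/

set_option autoImplicit false
set_option linter.unusedSectionVars false

namespace CfsgLib.KnownB.MinDeg

open Module CfsgLib.Chev CfsgLib.KnownB.D4Deg

variable {F : Type*} [Field F] [Fintype F] [DecidableEq F] {m n : ℕ} {M : Type*} [AddCommGroup M] [Module ℂ M]
  [FiniteDimensional ℂ M]

/-- The vectors with a given first nonzero coordinate. -/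
def cell (F : Type*) [Field F] [Fintype F] [DecidableEq F] {m : ℕ} (β : Fin m) : Finset (Fin m → F) :=
  Finset.univ.filter fun b => b β ≠ 0 ∧ ∀ w < β, b w = 0

/-- The vectors with a nonzero coordinate. -/
def chartSet (F : Type*) [Field F] [Fintype F] [DecidableEq F] {m : ℕ} (β : Fin m) : Finset (Fin m → F) :=
  Finset.univ.filter fun b => b β ≠ 0

/-- The next coordinates after the centre of a chart. -/
def Chart.after (C : Chart m n) : Finset (Fin m) := C.next.filter (C.β < ·)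

/-- The next coordinates before the centre of a chart. -/
def Chart.before (C : Chart m n) : Finset (Fin m) := C.next.filter (· < C.β)

/-- Moves after the centre keep the zeros before it. -/
def Chart.Ordered (C : Chart m n) (mv : Fin n → Move m) : Prop :=
  ∀ p ∈ C.nb, C.β < p.1 → ∀ w < C.β, (mv p.2 w).elim True (fun r => r.1 < C.β)

theorem Chart.not_mem_next {C : Chart m n} {mv : Fin n → Move m} (h : C.OK mv) : C.β ∉ C.next := fun hβ => by
  have := (h.lev_one _).2 hβ
  rw [h.lev_β] at this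
  omega

theorem Chart.card_before {C : Chart m n} {mv : Fin n → Move m} (h : C.OK mv) :
    C.next.card - C.before.card = C.after.card := by
  have h1 : C.after = C.next \ C.before := by
    ext v
    simp only [Chart.after, Chart.before, Finset.mem_sdiff, Finset.mem_filter, not_and, not_lt]
    constructor
    · rintro ⟨hv, hlt⟩; exact ⟨hv, fun _ => hlt.le⟩
    · rintro ⟨hv, hle⟩
      exact ⟨hv, lt_of_le_of_ne (hle hv) fun e => not_mem_next h (e.symm ▸ hv)⟩
  rw [h1, Finset.card_sdiff_of_subset (s := C.before) (t := C.next) (Finset.filter_subset _ _)]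

/-- The decomposition by the first nonzero coordinate. -/
theorem sum_cells {R : Type*} [AddCommMonoid R] (g : (Fin m → F) → R) :
    ∑ b, g b = g 0 + ∑ β, ∑ b ∈ cell F β, g b := by
  classical
  rw [← Finset.add_sum_erase _ _ (Finset.mem_univ (0 : Fin m → F))]
  congr 1
  rw [← Finset.sum_biUnion]
  · refine Finset.sum_congr ?_ fun b _ => rfl
    ext b
    simp only [Finset.mem_erase, Finset.mem_univ, and_true, Finset.mem_biUnion, cell, Finset.mem_filter, true_and]
    constructor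
    · intro hb
      have hne : (Finset.univ.filter fun w => b w ≠ 0).Nonempty := by
        by_contra hh
        rw [Finset.not_nonempty_iff_eq_empty, Finset.filter_eq_empty_iff] at hh
        exact hb (funext fun w => by simpa using hh (Finset.mem_univ w))
      refine ⟨_, (Finset.mem_filter.1 (Finset.min'_mem _ hne)).2, fun w hw => ?_⟩
      by_contra h
      exact absurd (Finset.min'_le _ w (Finset.mem_filter.2 ⟨Finset.mem_univ _, h⟩)) (not_le.2 hw)
    · rintro ⟨β, hβ, -⟩ rfl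
      exact hβ rfl
  · intro β _ β' _ hne
    refine Finset.disjoint_left.2 fun b hb hb' => ?_
    simp only [cell, Finset.mem_filter, Finset.mem_univ, true_and] at hb hb'
    rcases lt_or_gt_of_ne hne with h | h
    · exact hb.1 (hb'.2 _ h)
    · exact hb'.1 (hb.2 _ h)

variable {mv : Fin n → Move m} {Y : (Fin m → F) → Module.End ℂ M} {G : Fin n → F → Module.End ℂ M}

namespace Act

variable (hA : Act mv Y G) {ψ : AddChar F ℂ} (hψ : ψ ≠ 1) {C : Chart m n} (hC : C.OK mv)
include hA hC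

/-- In a multiplicity-free chart the vectors with the early next coordinates zero lie in the cell. -/
theorem eq_zero_before (h1 : Inv.sliceSum (mlt Y ψ) C = 1) (ho : C.Ordered mv) {b : Fin m → F}
    (hb : b C.β ≠ 0) (hne : mlt Y ψ b ≠ 0) (hz : ∀ v ∈ C.before, b v = 0) : ∀ w < C.β, b w = 0 := by
  classical
  obtain ⟨-, hp⟩ := (hA.isInv (ψ := ψ)).pure_point hC h1
  intro w hw
  rw [(hp b hb hne).2]
  refine Chart.trans_zero_of_low (mv := mv) _ (fun w => w < C.β) _
    (fun w hw => Pi.single_eq_of_ne (Fin.ne_of_lt hw) _) (fun p hpm hy w hw => ?_) w hw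
  have hp1 : p.1 ∈ C.next := List.mem_toFinset.2 (List.mem_map.2 ⟨p, hpm, rfl⟩)
  refine ho p hpm ?_ w hw
  rcases lt_trichotomy p.1 C.β with h | h | h
  · exact absurd (hz p.1 (Finset.mem_filter.2 ⟨hp1, h⟩)) fun e => hy (by simp [e])
  · exact absurd (h ▸ hp1) (Chart.not_mem_next hC)
  · exact h

/-- A sum over a cell as a sum over part of the chart. -/
theorem sum_cell_eq {R : Type*} [AddCommMonoid R] (h1 : Inv.sliceSum (mlt Y ψ) C = 1) (ho : C.Ordered mv)
    (g : (Fin m → F) → R) (hg : ∀ b, mlt Y ψ b = 0 → g b = 0) :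
    ∑ b ∈ cell F C.β, g b =
      ∑ b ∈ Finset.univ.filter (fun b : Fin m → F => b C.β ≠ 0 ∧ ∀ v ∈ C.before, b v = 0), g b := by
  classical
  refine Finset.sum_subset (fun b hb => ?_) fun b hb hnb => hg b ?_
  · obtain ⟨hb1, hb2⟩ := (Finset.mem_filter.1 hb).2
    exact Finset.mem_filter.2 ⟨Finset.mem_univ _, hb1, fun v hv => hb2 v (Finset.mem_filter.1 hv).2⟩
  · obtain ⟨hb1, hb2⟩ := (Finset.mem_filter.1 hb).2
    by_contra hne
    exact hnb (Finset.mem_filter.2 ⟨Finset.mem_univ _, hb1, hA.eq_zero_before hC h1 ho hb1 hne hb2⟩)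

/-- The dimension on a cell. -/
theorem cell_mlt (h1 : Inv.sliceSum (mlt Y ψ) C = 1) (ho : C.Ordered mv) :
    ∑ b ∈ cell F C.β, mlt Y ψ b = (Fintype.card F - 1) * Fintype.card F ^ C.after.card := by
  rw [hA.sum_cell_eq hC h1 ho _ fun b hb => hb, (hA.isInv (ψ := ψ)).sum_chart hC C.before (Finset.filter_subset _ _), h1,
    mul_one, Chart.card_before hC]

include hψ

/-- The trace of a move on part of a chart whose free next coordinates commute with it. -/
theorem trace_part (h1 : Inv.sliceSum (mlt Y ψ) C = 1) {α γ δ : Fin n} {t : F}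
    (Z : Finset (Fin m)) (hZ : Z ⊆ C.next) (hcom : ∀ p ∈ C.nb, p.1 ∉ Z → ∀ s, Commute (G p.2 s) (G α t))
    (hγ : ¬ Hits (mv γ) C.β) (hδ : ¬ Hits (mv δ) C.β) (hdec : ∃ u, G γ 1 * G δ u = G δ u * G γ 1 * G α t) :
    ∑ b ∈ Finset.univ.filter (fun b : Fin m → F => b C.β ≠ 0 ∧ ∀ v ∈ Z, b v = 0),
        LinearMap.trace ℂ M (G α t * pr Y ψ b) =
      (((Fintype.card F - 1) * Fintype.card F ^ (C.next.card - Z.card) : ℕ) : ℂ) := by
  classical
  have hI := hA.isInv (ψ := ψ)
  obtain ⟨hbase, hp⟩ := hI.pure_point hC h1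
  have h2 := hI.sum_chart hC Z hZ
  rw [h1, mul_one] at h2
  rw [← h2, Nat.cast_sum]
  refine Finset.sum_congr rfl fun b hb => ?_
  obtain ⟨hb1, hb2⟩ := (Finset.mem_filter.1 hb).2
  by_cases hne : mlt Y ψ b = 0
  · rw [hA.pr_eq_zero hne, mul_zero, map_zero, hne, Nat.cast_zero]
  obtain ⟨-, hbeq⟩ := hp b hb1 hne
  have hc1 : mlt Y ψ (Pi.single C.β (b C.β)) = 1 := by
    obtain ⟨x, -, hxβ, hx⟩ := hI.tor _ hb1 C.β
    have : x * Pi.single C.β 1 = (Pi.single C.β (b C.β) : Fin m → F) := by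
      funext w
      rcases eq_or_ne w C.β with rfl | hw
      · simp [hxβ]
      · simp [Pi.single_eq_of_ne hw]
    rw [← this, hx, hbase]
  have hfix : G α t * pr Y ψ b = pr Y ψ b := by
    rw [hbeq]
    refine C.trans_induction mv _ (P := fun c => G α t * pr Y ψ c = pr Y ψ c)
      (hA.fixed_base t hc1 hγ hδ hdec) fun p hpm c hc => ?_
    by_cases hpZ : p.1 ∈ Z
    · simp only [hb2 _ hpZ, zero_div, mul_zero, shear_zero]; exact hc
    · rw [hA.pr_shear, ← mul_assoc, ← mul_assoc, (hcom p hpm hpZ _).symm.eq, mul_assoc _ (G α t), hc]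
  rw [hfix, hA.trace_pr]

/-- A move hitting the centre has trace zero on the cell. -/
theorem trace_cell_hit {α : Fin n} (hα : Hits (mv α) C.β) {t : F} (ht : t ≠ 0) (S : Finset (Fin m → F))
    (hS : ∀ b ∈ S, b C.β ≠ 0) : ∑ b ∈ S, LinearMap.trace ℂ M (G α t * pr Y ψ b) = 0 :=
  Finset.sum_eq_zero fun _ hb =>
    hA.trace_moved (shear_ne_of_hits (hA.proper α) hα (neg_ne_zero.2 ht) (hS _ hb)) hψ

/-- The trace of a move on a cell. -/
theorem trace_cell (h1 : Inv.sliceSum (mlt Y ψ) C = 1) (ho : C.Ordered mv) {α γ δ : Fin n} {t : F} (ht : t ≠ 0)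
    (hok : ¬ Hits (mv α) C.β → (∀ p ∈ C.nb, C.β < p.1 → ∀ s, Commute (G p.2 s) (G α t)) ∧
      ¬ Hits (mv γ) C.β ∧ ¬ Hits (mv δ) C.β ∧ ∃ u, G γ 1 * G δ u = G δ u * G γ 1 * G α t) :
    ∑ b ∈ cell F C.β, LinearMap.trace ℂ M (G α t * pr Y ψ b) =
      ((if Hits (mv α) C.β then 0 else (Fintype.card F - 1) * Fintype.card F ^ C.after.card : ℕ) : ℂ) := by
  classical
  split_ifs with hα
  · rw [hA.trace_cell_hit hψ hC hα ht _ fun b hb => (Finset.mem_filter.1 hb).2.1]
    simp
  · obtain ⟨hcom, hγ, hδ, hdec⟩ := hok hα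
    rw [hA.sum_cell_eq hC h1 ho _ (fun b hb => by rw [hA.pr_eq_zero hb, mul_zero, map_zero]),
      hA.trace_part hψ hC h1 C.before (Finset.filter_subset _ _) (fun p hp hpZ => hcom p hp ?_) hγ hδ hdec,
      Chart.card_before hC]
    have hp1 : p.1 ∈ C.next := List.mem_toFinset.2 (List.mem_map.2 ⟨p, hp, rfl⟩)
    rcases lt_trichotomy p.1 C.β with h | h | h
    · exact absurd (Finset.mem_filter.2 ⟨hp1, h⟩) hpZ
    · exact absurd (h ▸ hp1) (Chart.not_mem_next hC)
    · exact h

/-- The trace of a move on a chart whose next coordinates it either commutes with or moves. -/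
theorem trace_chart (h1 : Inv.sliceSum (mlt Y ψ) C = 1) {α γ δ : Fin n} {t : F} (ht : t ≠ 0)
    (Z : Finset (Fin m)) (hZ : Z ⊆ C.next) (hhit : ∀ v ∈ Z, Hits (mv α) v)
    (hcom : ∀ p ∈ C.nb, p.1 ∉ Z → ∀ s, Commute (G p.2 s) (G α t))
    (hγ : ¬ Hits (mv γ) C.β) (hδ : ¬ Hits (mv δ) C.β) (hdec : ∃ u, G γ 1 * G δ u = G δ u * G γ 1 * G α t) :
    ∑ b ∈ chartSet F C.β, LinearMap.trace ℂ M (G α t * pr Y ψ b) =
      (((Fintype.card F - 1) * Fintype.card F ^ (C.next.card - Z.card) : ℕ) : ℂ) := by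
  classical
  rw [← hA.trace_part hψ hC h1 Z hZ hcom hγ hδ hdec]
  symm
  refine Finset.sum_subset (fun b hb => Finset.mem_filter.2 ⟨Finset.mem_univ _, (Finset.mem_filter.1 hb).2.1⟩)
    fun b hb hnb => ?_
  have hb1 : b C.β ≠ 0 := (Finset.mem_filter.1 hb).2
  obtain ⟨v, hv, hbv⟩ : ∃ v ∈ Z, b v ≠ 0 := by
    by_contra h
    push Not at h
    exact hnb (Finset.mem_filter.2 ⟨Finset.mem_univ _, hb1, h⟩)
  exact hA.trace_moved (shear_ne_of_hits (hA.proper α) (hhit v hv) (neg_ne_zero.2 ht) hbv) hψ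

end Act

end CfsgLib.KnownB.MinDeg
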