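import Cfsg.Agent.Lib.KnownB.MinDegCells
import Cfsg.Agent.Lib.Chev.TorusH
import Cfsg.Agent.Lib.Chev.CommGood

/-!
Root-element families in a Chevalley group as operator families normalised by shears.
-/

set_option autoImplicit false
set_option linter.unusedSectionVars false

namespace CfsgLib.KnownB.MinDeg

open Cfsg.Lie CfsgLib.Chev Module

variable {D : ChevalleyDatum} {F : Type*} [Field F]

/-- Two commuting root groups. -/
def commPairB (D : ChevalleyDatum) (r s : ℕ) : Bool :=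
  s == r || ((s != D.neg r) && (D.commTerms r s).isEmpty)

/-- Two root groups with one commutator term. -/
def commOneB (D : ChevalleyDatum) (r s k : ℕ) (M : ℤ) : Bool :=
  (s != r) && (s != D.neg r) && (D.commTerms r s == [(k, M, 1, 1)])

/-- The data of a family of root groups normalised by root groups. -/
structure Fam (m n : ℕ) where
  /-- the commuting roots -/
  om : Fin m → ℕ
  /-- the normalising roots -/
  mo : Fin n → ℕ
  /-- the induced moves -/
  mv : Fin n → Move m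
  /-- roots for the torus -/
  tw : Fin m → ℕ

/-- The checks on a family; commutators may fall in the listed central roots. -/
def Fam.check {m n : ℕ} (f : Fam m n) (D : ChevalleyDatum) (z : List ℕ) : Bool :=
  (List.finRange m).all (fun w =>
    decide (f.om w < D.nroots) &&
    (List.finRange m).all (fun v => commPairB D (f.om w) (f.om v) ||
      z.any (fun k => commOneB D (f.om w) (f.om v) k 1 || commOneB D (f.om w) (f.om v) k (-1))) &&
    decide (f.tw w < D.nroots) &&
    (pair D (f.tw w) (f.om w) == 1 || pair D (f.tw w) (f.om w) == -1)) &&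
  (List.finRange n).all (fun i =>
    decide (f.mo i < D.nroots) &&
    (List.finRange m).all (fun w =>
      match f.mv i w with
      | none => commPairB D (f.mo i) (f.om w)
      | some (v, M) => commOneB D (f.om w) (f.mo i) (f.om v) (-M) && commPairB D (f.mo i) (f.om v) &&
          (f.mv i v).isNone && (M == 1 || M == -1)))

/-- A root group element together with a torus. -/
def rootTor (g : Good D) (F : Type*) [Field F] (R : List ℕ) : Subgroup (GL D.Idx F) :=
  Subgroup.closure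
    ({x | ∃ r ∈ R, ∃ t : F, x = g.xG r t} ∪ {x | ∃ r < D.nroots, ∃ c : Fˣ, x = g.hG r c})

variable (g : Good D) (R : List ℕ)

/-- The root elements in the subgroup. -/
noncomputable def Xh (r : ℕ) (t : F) : ↥(rootTor g F R) :=
  if h : r ∈ R then ⟨g.xG r t, Subgroup.subset_closure (Or.inl ⟨r, h, t, rfl⟩)⟩ else 1

/-- The torus elements in the subgroup. -/
noncomputable def Hh (r : ℕ) (c : Fˣ) : ↥(rootTor g F R) :=
  if h : r < D.nroots then ⟨g.hG r c, Subgroup.subset_closure (Or.inr ⟨r, h, c, rfl⟩)⟩ else 1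

variable {g R}

theorem coe_Xh {r : ℕ} (h : r ∈ R) (t : F) : (Xh g R r t : GL D.Idx F) = g.xG r t := by rw [Xh, dif_pos h]

theorem coe_Hh {r : ℕ} (h : r < D.nroots) (c : Fˣ) : (Hh g R r c : GL D.Idx F) = g.hG r c := by rw [Hh, dif_pos h]

theorem Xh_add (r : ℕ) (s t : F) : Xh g R r (s + t) = Xh g R r s * Xh g R r t := by
  by_cases h : r ∈ R
  · exact Subtype.ext (by rw [Subgroup.coe_mul, coe_Xh h, coe_Xh h, coe_Xh h, g.xG_add])
  · simp [Xh, h]

theorem Xh_zero (r : ℕ) : Xh g R r (0 : F) = 1 := by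
  have h : Xh g R r (0 : F) * Xh g R r 0 = Xh g R r 0 := by rw [← Xh_add, add_zero]
  exact mul_eq_left.1 h

theorem Xh_inv (r : ℕ) (t : F) : (Xh g R r t)⁻¹ = Xh g R r (-t) :=
  inv_eq_of_mul_eq_one_right (by rw [← Xh_add, add_neg_cancel, Xh_zero])

variable (hc : HasComm D) (hR : ∀ r ∈ R, r < D.nroots)
include hc hR

theorem Xh_comm {r s : ℕ} (hr : r ∈ R) (hs : s ∈ R) (h : commPairB D r s = true) (t u : F) :
    Commute (Xh g R r t) (Xh g R s u) := by
  refine Subtype.ext ?_
  rw [Subgroup.coe_mul, Subgroup.coe_mul, coe_Xh hr, coe_Xh hs]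
  rcases eq_or_ne s r with rfl | hne
  · rw [g.xG_add, g.xG_add, add_comm]
  simp only [commPairB, Bool.or_eq_true, beq_iff_eq, hne, false_or, Bool.and_eq_true, bne_iff_ne,
    List.isEmpty_iff] at h
  refine Units.ext ?_
  have h1 := g.comm_formula hc (hR r hr) (hR s hs) hne h.1 t u
  rw [ChevalleyDatum.commWord, h.2] at h1
  rw [Units.val_mul, Units.val_mul, g.coe_xG, g.coe_xG, h1, ChevalleyDatum.wordMat]
  simp

theorem Xh_one {r s k : ℕ} {M : ℤ} (hr : r ∈ R) (hs : s ∈ R) (hk : k ∈ R) (h : commOneB D r s k M = true)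
    (t u : F) : Xh g R s u * Xh g R r t = Xh g R r t * Xh g R s u * Xh g R k ((M : F) * -t * u) := by
  refine Subtype.ext ?_
  rw [Subgroup.coe_mul, Subgroup.coe_mul, Subgroup.coe_mul, coe_Xh hr, coe_Xh hs, coe_Xh hk]
  simp only [commOneB, Bool.and_eq_true, bne_iff_ne, beq_iff_eq] at h
  obtain ⟨⟨hne, hneg⟩, ht⟩ := h
  refine Units.ext ?_
  have h1 := g.comm_formula hc (hR r hr) (hR s hs) hne hneg t u
  rw [ChevalleyDatum.commWord, ht] at h1
  rw [Units.val_mul, Units.val_mul, Units.val_mul, g.coe_xG, g.coe_xG, g.coe_xG, h1, ChevalleyDatum.wordMat]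
  simp

theorem Hh_conj {r s : ℕ} (hr : r < D.nroots) (hs : s ∈ R) (c : Fˣ) (t : F) :
    Hh g R r c * Xh g R s t * (Hh g R r c)⁻¹ = Xh g R s (((c ^ pair D r s : Fˣ) : F) * t) := by
  refine Subtype.ext ?_
  rw [Subgroup.coe_mul, Subgroup.coe_mul, Subgroup.coe_inv, coe_Xh hs, coe_Xh hs, coe_Hh hr]
  exact g.hG_conj_xG (hR s hs) c t

/-- A root element is conjugate to one of an adjacent root. -/
theorem isConj_adjacent {s r rn k : ℕ} {M M' : ℤ} (hs : s ∈ R) (hr : r ∈ R) (hrn : rn ∈ R) (hk : k ∈ R)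
    (hM : M = 1 ∨ M = -1) (hM' : M' = 1 ∨ M' = -1)
    (h1 : commOneB D s r k M = true) (h2 : commPairB D rn s = true) (h3 : commOneB D k rn s M' = true)
    (h4 : commPairB D r k = true) (h5 : commPairB D s k = true) {t τ : F} (ht : t ≠ 0) (hτ : τ ≠ 0) :
    IsConj (Xh g R s t) (Xh g R k τ) := by
  obtain ⟨hMM, hM0⟩ := sq_sign (F := F) hM
  obtain ⟨hMM', hM'0⟩ := sq_sign (F := F) hM'
  set a := -τ * (M : F) / t with ha
  set u := t * (M' : F) / τ with hu
  have e1 : Xh g R r a * Xh g R s t * (Xh g R r a)⁻¹ = Xh g R s t * Xh g R k τ := by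
    rw [Xh_one hc hR hs hr hk h1, mul_assoc (Xh g R s t), (Xh_comm hc hR hr hk h4 _ _).eq, ← mul_assoc,
      mul_inv_cancel_right]
    congr 2
    rw [ha]
    field_simp
    (first | linear_combination τ * hMM | linear_combination hMM | linear_combination -hMM | linear_combination (-τ) * hMM)
  have e2 : Xh g R rn u * (Xh g R s t * Xh g R k τ) * (Xh g R rn u)⁻¹ = Xh g R k τ := by
    rw [← mul_assoc, (Xh_comm hc hR hrn hs h2 _ _).eq, mul_assoc (Xh g R s t), Xh_one hc hR hk hrn hs h3,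
      mul_assoc (Xh g R k τ), (Xh_comm hc hR hrn hs h2 _ _).eq, ← mul_assoc, ← mul_assoc, mul_inv_cancel_right,
      (Xh_comm hc hR hs hk h5 _ _).eq, mul_assoc, ← Xh_add]
    have : t + (M' : F) * -τ * u = 0 := by
      rw [hu]; field_simp; linear_combination (-t) * hMM'
    rw [this, Xh_zero, mul_one]
  exact (isConj_iff.2 ⟨_, e1⟩).trans (isConj_iff.2 ⟨_, e2⟩)

/-- A chain of adjacent roots, each new one next to an earlier one. -/
def edgesOK (D : ChevalleyDatum) (R : List ℕ) : List ℕ → List (ℕ × ℕ × ℕ × ℕ) → Bool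
  | _, [] => true
  | seen, (k, s, r, rn) :: E =>
    seen.contains s && R.contains s && R.contains r && R.contains rn && R.contains k &&
    [1, -1].any (fun M => commOneB D s r k M) && [1, -1].any (fun M => commOneB D k rn s M) &&
    commPairB D rn s && commPairB D r k && commPairB D s k && edgesOK D R (k :: seen) E

theorem isConj_edges {r₀ : ℕ} : ∀ (E : List (ℕ × ℕ × ℕ × ℕ)) (seen : List ℕ), edgesOK D R seen E = true →
    (∀ s ∈ seen, s ≠ r₀ → ∀ t τ : F, t ≠ 0 → τ ≠ 0 → IsConj (Xh g R r₀ t) (Xh g R s τ)) →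
    ∀ k ∈ E.map Prod.fst, k ≠ r₀ → ∀ t τ : F, t ≠ 0 → τ ≠ 0 → IsConj (Xh g R r₀ t) (Xh g R k τ) := by
  intro E
  induction E with
  | nil => intro seen _ _ k hk; simp at hk
  | cons e E ih =>
    intro seen hok hseen
    obtain ⟨k, s, r, rn⟩ := e
    simp only [edgesOK, Bool.and_eq_true, List.contains_iff_mem, List.any_eq_true, List.mem_cons,
      List.not_mem_nil, or_false] at hok
    obtain ⟨⟨⟨⟨⟨⟨⟨⟨⟨⟨hs, hsR⟩, hrR⟩, hrnR⟩, hkR⟩, M, hM, h1⟩, M', hM', h3⟩, h2⟩, h4⟩, h5⟩, hrest⟩ := hok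
    have hk : k ≠ r₀ → ∀ t τ : F, t ≠ 0 → τ ≠ 0 → IsConj (Xh g R r₀ t) (Xh g R k τ) := fun _ t τ ht hτ => by
      have hadj : ∀ a b : F, a ≠ 0 → b ≠ 0 → IsConj (Xh g R s a) (Xh g R k b) := fun a b ha hb =>
        isConj_adjacent hc hR hsR hrR hrnR hkR hM hM' h1 h2 h3 h4 h5 ha hb
      rcases eq_or_ne s r₀ with rfl | hs0
      · exact hadj t τ ht hτ
      · exact (hseen s hs hs0 t 1 ht one_ne_zero).trans (hadj 1 τ one_ne_zero hτ)
    intro k' hk' hne
    rcases List.mem_cons.1 hk' with rfl | hk''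
    · exact hk hne
    · refine ih (k :: seen) hrest (fun s' hs' hne' => ?_) k' hk'' hne
      rcases List.mem_cons.1 hs' with rfl | hs''
      · exact hk hne'
      · exact hseen s' hs'' hne'

/-- All root elements of a connected system are conjugate. -/
theorem isConj_roots {r₀ k₁ : ℕ} {E : List (ℕ × ℕ × ℕ × ℕ)} (hok : edgesOK D R [r₀] E = true)
    (hcover : ∀ k ∈ R, k = r₀ ∨ k ∈ E.map Prod.fst) (hk₁ : k₁ ∈ E.map Prod.fst) (hne : k₁ ≠ r₀)
    {k l : ℕ} (hk : k ∈ R) (hl : l ∈ R) {t τ : F} (ht : t ≠ 0) (hτ : τ ≠ 0) :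
    IsConj (Xh g R k t) (Xh g R l τ) := by
  have h := isConj_edges hc hR E [r₀] hok (F := F) (g := g) (fun s hs hne' => absurd (List.mem_singleton.1 hs) hne')
  have hall : ∀ k ∈ R, ∀ t : F, t ≠ 0 → IsConj (Xh g R r₀ (1 : F)) (Xh g R k t) := fun k hk t ht => by
    rcases eq_or_ne k r₀ with rfl | hne'
    · exact (h k₁ hk₁ hne 1 1 one_ne_zero one_ne_zero).trans (h k₁ hk₁ hne t 1 ht one_ne_zero).symm
    · exact h k ((hcover k hk).resolve_left hne') hne' 1 t one_ne_zero ht
  exact (hall k hk t ht).symm.trans (hall l hl τ hτ)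

end CfsgLib.KnownB.MinDeg
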