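import Mathlib

/-!
The exceptional values one below the minimal degrees do not divide the group orders.
-/

set_option autoImplicit false
set_option maxRecDepth 100000
set_option maxHeartbeats 4000000

namespace CfsgLib.KnownB.MinDeg

/-- One factor is replaced by its resultant. -/
theorem dvd_step {n u v f R A X : ℤ} (h : n ∣ A * (f * X)) (he : u * n + v * f = R) : n ∣ A * R * X := by
  obtain ⟨c, hc⟩ := h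
  exact ⟨A * u * X + v * c, by rw [← he]; linear_combination v * hc⟩


theorem degE6_small : ∀ q < 6, 2 ≤ q → ¬ q ^ 11 + q ^ 8 + q ^ 7 + q ^ 5 + q ^ 4 + q - 1 ∣ q ^ 36 * (q ^ 2 - 1) * (q ^ 5 - 1) * (q ^ 6 - 1) * (q ^ 8 - 1) * (q ^ 9 - 1) * (q ^ 12 - 1) := by
  decide +kernel

theorem degE6_not_dvd {q : ℕ} (hq : 2 ≤ q) : ¬ q ^ 11 + q ^ 8 + q ^ 7 + q ^ 5 + q ^ 4 + q - 1 ∣ q ^ 36 * (q ^ 2 - 1) * (q ^ 5 - 1) * (q ^ 6 - 1) * (q ^ 8 - 1) * (q ^ 9 - 1) * (q ^ 12 - 1) := by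
  intro h
  rcases Nat.lt_or_ge q 6 with hlt | hge
  · exact degE6_small q hlt hq h
  have hx : (6 : ℤ) ≤ q := by exact_mod_cast hge
  have h' : ((q ^ 11 + q ^ 8 + q ^ 7 + q ^ 5 + q ^ 4 + q - 1 : ℕ) : ℤ) ∣ ((q ^ 36 * (q ^ 2 - 1) * (q ^ 5 - 1) * (q ^ 6 - 1) * (q ^ 8 - 1) * (q ^ 9 - 1) * (q ^ 12 - 1) : ℕ) : ℤ) := Int.natCast_dvd_natCast.2 h
  rw [Nat.cast_sub (le_add_of_nonneg_of_le (Nat.zero_le _) (by omega : 1 ≤ q))] at h'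
  simp only [Nat.cast_mul, Nat.cast_pow, Nat.cast_add, Nat.cast_one,
    Nat.cast_sub (Nat.one_le_pow 2 q (by omega)), Nat.cast_sub (Nat.one_le_pow 5 q (by omega)), Nat.cast_sub (Nat.one_le_pow 6 q (by omega)), Nat.cast_sub (Nat.one_le_pow 8 q (by omega)), Nat.cast_sub (Nat.one_le_pow 9 q (by omega)), Nat.cast_sub (Nat.one_le_pow 12 q (by omega))] at h'
  generalize (q : ℤ) = x at h' hx
  have hpos : (0 : ℤ) < x ^ 2 - x + 1 := by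
    have e0 : (1 : ℤ) ≤ 1 := le_rfl
    have e1 : (5 : ℤ) ≤ x - 1 := by
      nlinarith [mul_le_mul e0 hx (by norm_num) (le_trans (by norm_num) e0)]
    have e2 : (31 : ℤ) ≤ x ^ 2 - x + 1 := by
      nlinarith [mul_le_mul e1 hx (by norm_num) (le_trans (by norm_num) e1)]
    linarith
  have hcop : IsCoprime (x ^ 11 + x ^ 8 + x ^ 7 + x ^ 5 + x ^ 4 + x - 1) (x ^ 36) :=
    IsCoprime.pow_right ⟨-1, x ^ 10 + x ^ 7 + x ^ 6 + x ^ 4 + x ^ 3 + 1, by ring⟩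
  simp only [mul_assoc] at h'
  have h0 := hcop.dvd_of_dvd_mul_left h'
  obtain ⟨c, hc⟩ := h0
  have h1 : (x ^ 9 + x ^ 8 + x ^ 5 + x ^ 4 + x ^ 3 + x ^ 2 - 1) ∣ 1 * ((x ^ 4 + x ^ 3 - x - 1) * ((x ^ 2 - 1) * ((x ^ 5 - 1) * ((x ^ 8 - 1) * ((x ^ 9 - 1) * ((x ^ 12 - 1) * (1))))))) := by
    refine ⟨c, mul_left_cancel₀ hpos.ne' ?_⟩
    linear_combination hc
  replace h1 := dvd_step h1 (u := 2 * x ^ 3 - x ^ 2 + 4 * x - 3) (v := -2 * x ^ 8 + x ^ 7 - 4 * x ^ 6 + x ^ 5 - x ^ 4 - 3 * x ^ 3 - 5 * x ^ 2 + 3 * x - 7) (R := 10) (by ring)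
  replace h1 := dvd_step h1 (u := 3 * x - 2) (v := -3 * x ^ 8 - x ^ 7 - x ^ 6 - x ^ 5 - 4 * x ^ 4 - 2 * x ^ 3 - 5 * x ^ 2 - 3 * x - 3) (R := 5) (by ring)
  replace h1 := dvd_step h1 (u := 6 * x ^ 4 + x ^ 3 - 4 * x ^ 2 + 16 * x - 14) (v := -6 * x ^ 8 - 7 * x ^ 7 + 3 * x ^ 6 - 12 * x ^ 5 - 8 * x ^ 4 + x ^ 3 - 10 * x ^ 2 - 16 * x - 11) (R := 25) (by ring)
  replace h1 := dvd_step h1 (u := 2 * x ^ 7 + 2 * x ^ 6 - 3 * x ^ 5 + 2 * x ^ 4 + 2 * x ^ 3 - 3 * x ^ 2 + 2 * x - 3) (v := -2 * x ^ 8 - 4 * x ^ 7 + x ^ 6 + x ^ 5 - 6 * x ^ 4 - 3 * x ^ 3 - 2 * x - 2) (R := 5) (by ring)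
  replace h1 := dvd_step h1 (u := 3 * x ^ 8 - 2 * x ^ 7 + 3 * x ^ 6 + 3 * x ^ 5 - 2 * x ^ 4 + 3 * x ^ 3 - 7 * x ^ 2 + 8 * x - 7) (v := -3 * x ^ 8 - x ^ 7 - x ^ 6 - 6 * x ^ 5 - 4 * x ^ 4 - 2 * x ^ 3 - 8 * x - 3) (R := 10) (by ring)
  replace h1 := dvd_step h1 (u := 23 * x ^ 11 + 3 * x ^ 10 - 12 * x ^ 9 + 13 * x ^ 8 + 13 * x ^ 7 + 8 * x ^ 6 - 17 * x ^ 5 + 3 * x ^ 4 + 28 * x ^ 3 - 27 * x ^ 2 + 13 * x - 32) (v := -23 * x ^ 8 - 26 * x ^ 7 + 9 * x ^ 6 - x ^ 5 - 49 * x ^ 4 - 47 * x ^ 3 - 5 * x ^ 2 - 13 * x - 48) (R := 80) (by ring)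
  norm_num only at h1
  have e0 : (1 : ℤ) ≤ 1 := le_rfl
  have e1 : (7 : ℤ) ≤ x + 1 := by
    nlinarith [mul_le_mul e0 hx (by norm_num) (le_trans (by norm_num) e0)]
  have e2 : (42 : ℤ) ≤ x ^ 2 + x := by
    nlinarith [mul_le_mul e1 hx (by norm_num) (le_trans (by norm_num) e1)]
  have e3 : (252 : ℤ) ≤ x ^ 3 + x ^ 2 := by
    nlinarith [mul_le_mul e2 hx (by norm_num) (le_trans (by norm_num) e2)]
  have e4 : (1513 : ℤ) ≤ x ^ 4 + x ^ 3 + 1 := by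
    nlinarith [mul_le_mul e3 hx (by norm_num) (le_trans (by norm_num) e3)]
  have e5 : (9079 : ℤ) ≤ x ^ 5 + x ^ 4 + x + 1 := by
    nlinarith [mul_le_mul e4 hx (by norm_num) (le_trans (by norm_num) e4)]
  have e6 : (54475 : ℤ) ≤ x ^ 6 + x ^ 5 + x ^ 2 + x + 1 := by
    nlinarith [mul_le_mul e5 hx (by norm_num) (le_trans (by norm_num) e5)]
  have e7 : (326851 : ℤ) ≤ x ^ 7 + x ^ 6 + x ^ 3 + x ^ 2 + x + 1 := by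
    nlinarith [mul_le_mul e6 hx (by norm_num) (le_trans (by norm_num) e6)]
  have e8 : (1961106 : ℤ) ≤ x ^ 8 + x ^ 7 + x ^ 4 + x ^ 3 + x ^ 2 + x := by
    nlinarith [mul_le_mul e7 hx (by norm_num) (le_trans (by norm_num) e7)]
  have e9 : (11766635 : ℤ) ≤ x ^ 9 + x ^ 8 + x ^ 5 + x ^ 4 + x ^ 3 + x ^ 2 - 1 := by
    nlinarith [mul_le_mul e8 hx (by norm_num) (le_trans (by norm_num) e8)]
  have h2 := Int.le_of_dvd (by norm_num) h1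
  omega


theorem degE6InE8_small : ∀ q < 377, 2 ≤ q → ¬ q ^ 11 + q ^ 8 + q ^ 7 + q ^ 5 + q ^ 4 + q - 1 ∣ q ^ 120 * (q ^ 2 - 1) * (q ^ 8 - 1) * (q ^ 12 - 1) * (q ^ 14 - 1) * (q ^ 18 - 1) * (q ^ 20 - 1) * (q ^ 24 - 1) * (q ^ 30 - 1) := by
  decide +kernel

theorem degE6InE8_not_dvd {q : ℕ} (hq : 2 ≤ q) : ¬ q ^ 11 + q ^ 8 + q ^ 7 + q ^ 5 + q ^ 4 + q - 1 ∣ q ^ 120 * (q ^ 2 - 1) * (q ^ 8 - 1) * (q ^ 12 - 1) * (q ^ 14 - 1) * (q ^ 18 - 1) * (q ^ 20 - 1) * (q ^ 24 - 1) * (q ^ 30 - 1) := by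
  intro h
  rcases Nat.lt_or_ge q 377 with hlt | hge
  · exact degE6InE8_small q hlt hq h
  have hx : (377 : ℤ) ≤ q := by exact_mod_cast hge
  have h' : ((q ^ 11 + q ^ 8 + q ^ 7 + q ^ 5 + q ^ 4 + q - 1 : ℕ) : ℤ) ∣ ((q ^ 120 * (q ^ 2 - 1) * (q ^ 8 - 1) * (q ^ 12 - 1) * (q ^ 14 - 1) * (q ^ 18 - 1) * (q ^ 20 - 1) * (q ^ 24 - 1) * (q ^ 30 - 1) : ℕ) : ℤ) := Int.natCast_dvd_natCast.2 h
  rw [Nat.cast_sub (le_add_of_nonneg_of_le (Nat.zero_le _) (by omega : 1 ≤ q))] at h'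
  simp only [Nat.cast_mul, Nat.cast_pow, Nat.cast_add, Nat.cast_one,
    Nat.cast_sub (Nat.one_le_pow 2 q (by omega)), Nat.cast_sub (Nat.one_le_pow 8 q (by omega)), Nat.cast_sub (Nat.one_le_pow 12 q (by omega)), Nat.cast_sub (Nat.one_le_pow 14 q (by omega)), Nat.cast_sub (Nat.one_le_pow 18 q (by omega)), Nat.cast_sub (Nat.one_le_pow 20 q (by omega)), Nat.cast_sub (Nat.one_le_pow 24 q (by omega)), Nat.cast_sub (Nat.one_le_pow 30 q (by omega))] at h'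
  generalize (q : ℤ) = x at h' hx
  have hpos : (0 : ℤ) < x ^ 2 - x + 1 := by
    have e0 : (1 : ℤ) ≤ 1 := le_rfl
    have e1 : (376 : ℤ) ≤ x - 1 := by
      nlinarith [mul_le_mul e0 hx (by norm_num) (le_trans (by norm_num) e0)]
    have e2 : (141753 : ℤ) ≤ x ^ 2 - x + 1 := by
      nlinarith [mul_le_mul e1 hx (by norm_num) (le_trans (by norm_num) e1)]
    linarith
  have hcop : IsCoprime (x ^ 11 + x ^ 8 + x ^ 7 + x ^ 5 + x ^ 4 + x - 1) (x ^ 120) :=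
    IsCoprime.pow_right ⟨-1, x ^ 10 + x ^ 7 + x ^ 6 + x ^ 4 + x ^ 3 + 1, by ring⟩
  simp only [mul_assoc] at h'
  have h0 := hcop.dvd_of_dvd_mul_left h'
  obtain ⟨c, hc⟩ := h0
  have h1 : (x ^ 9 + x ^ 8 + x ^ 5 + x ^ 4 + x ^ 3 + x ^ 2 - 1) ∣ 1 * ((x ^ 10 + x ^ 9 - x ^ 7 - x ^ 6 + x ^ 4 + x ^ 3 - x - 1) * ((x ^ 2 - 1) * ((x ^ 8 - 1) * ((x ^ 14 - 1) * ((x ^ 18 - 1) * ((x ^ 20 - 1) * ((x ^ 24 - 1) * ((x ^ 30 - 1) * (1))))))))) := by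
    refine ⟨c, mul_left_cancel₀ hpos.ne' ?_⟩
    linear_combination hc
  replace h1 := dvd_step h1 (u := 2 * x ^ 9 + 9 * x ^ 8 + 4 * x ^ 7 - 3 * x ^ 6 - 10 * x ^ 5 + 12 * x ^ 3 - x ^ 2 + 4 * x - 13) (v := -2 * x ^ 8 - 9 * x ^ 7 - 4 * x ^ 6 + x ^ 5 - x ^ 4 - 13 * x ^ 3 - 15 * x ^ 2 + 3 * x - 7) (R := 20) (by ring)
  replace h1 := dvd_step h1 (u := 3 * x - 2) (v := -3 * x ^ 8 - x ^ 7 - x ^ 6 - x ^ 5 - 4 * x ^ 4 - 2 * x ^ 3 - 5 * x ^ 2 - 3 * x - 3) (R := 5) (by ring)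
  replace h1 := dvd_step h1 (u := 2 * x ^ 7 + 2 * x ^ 6 - 3 * x ^ 5 + 2 * x ^ 4 + 2 * x ^ 3 - 3 * x ^ 2 + 2 * x - 3) (v := -2 * x ^ 8 - 4 * x ^ 7 + x ^ 6 + x ^ 5 - 6 * x ^ 4 - 3 * x ^ 3 - 2 * x - 2) (R := 5) (by ring)
  replace h1 := dvd_step h1 (u := 178 * x ^ 13 + 908 * x ^ 12 - 132 * x ^ 11 + 1008 * x ^ 10 + 238 * x ^ 9 - 117 * x ^ 8 - 807 * x ^ 7 + 1628 * x ^ 6 + 38 * x ^ 5 - 857 * x ^ 4 + 1443 * x ^ 3 - 2517 * x ^ 2 + 2783 * x - 2547) (v := -178 * x ^ 8 - 1086 * x ^ 7 - 776 * x ^ 6 - 876 * x ^ 5 - 1424 * x ^ 4 - 1207 * x ^ 3 - 30 * x ^ 2 - 2783 * x - 3688) (R := 6235) (by ring)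
  replace h1 := dvd_step h1 (u := 477 * x ^ 17 - 123 * x ^ 16 + 112 * x ^ 15 + 447 * x ^ 14 - 213 * x ^ 13 + 212 * x ^ 12 - 363 * x ^ 11 + 317 * x ^ 10 - 48 * x ^ 9 - 33 * x ^ 8 - 173 * x ^ 7 + 332 * x ^ 6 - 3 * x ^ 5 - 83 * x ^ 4 + 232 * x ^ 3 - 673 * x ^ 2 + 867 * x - 988) (v := -477 * x ^ 8 - 354 * x ^ 7 + 11 * x ^ 6 - 559 * x ^ 5 - 711 * x ^ 4 - 353 * x ^ 3 - 315 * x ^ 2 - 867 * x - 492) (R := 1480) (by ring)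
  replace h1 := dvd_step h1 (u := 13394 * x ^ 19 - 4201 * x ^ 18 + 3104 * x ^ 17 + 1859 * x ^ 16 + 5464 * x ^ 15 + 2044 * x ^ 14 - 8726 * x ^ 13 + 7529 * x ^ 12 - 1766 * x ^ 11 + 2689 * x ^ 10 - 7531 * x ^ 9 + 4324 * x ^ 8 - 1546 * x ^ 7 + 7284 * x ^ 6 - 6161 * x ^ 5 - 281 * x ^ 4 + 9874 * x ^ 3 - 14171 * x ^ 2 + 12959 * x - 19786) (v := -13394 * x ^ 8 - 9193 * x ^ 7 + 1097 * x ^ 6 - 4963 * x ^ 5 - 20717 * x ^ 4 - 16701 * x ^ 3 - 5615 * x ^ 2 - 12959 * x - 11989) (R := 31775) (by ring)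
  replace h1 := dvd_step h1 (u := 361 * x ^ 23 + 21 * x ^ 22 - 44 * x ^ 21 + 131 * x ^ 20 + 251 * x ^ 19 - 224 * x ^ 18 + 81 * x ^ 17 - 59 * x ^ 16 + 156 * x ^ 15 + 91 * x ^ 14 - 309 * x ^ 13 + 216 * x ^ 12 - 39 * x ^ 11 + 21 * x ^ 10 - 124 * x ^ 9 + 51 * x ^ 8 - 69 * x ^ 7 + 336 * x ^ 6 - 319 * x ^ 5 + 101 * x ^ 4 + 236 * x ^ 3 - 469 * x ^ 2 + 491 * x - 664) (v := -361 * x ^ 8 - 382 * x ^ 7 + 23 * x ^ 6 - 87 * x ^ 5 - 743 * x ^ 4 - 409 * x ^ 3 - 195 * x ^ 2 - 491 * x - 456) (R := 1120) (by ring)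
  replace h1 := dvd_step h1 (u := 125523 * x ^ 29 - 1117 * x ^ 28 + 29768 * x ^ 27 + 186153 * x ^ 26 + 117413 * x ^ 25 - 149052 * x ^ 24 - 24117 * x ^ 23 + 124643 * x ^ 22 + 72728 * x ^ 21 - 131487 * x ^ 20 - 27 * x ^ 19 - 39092 * x ^ 18 + 201043 * x ^ 17 - 125397 * x ^ 16 - 89512 * x ^ 15 + 163273 * x ^ 14 - 69067 * x ^ 13 + 105268 * x ^ 12 - 183797 * x ^ 11 + 34363 * x ^ 10 + 47248 * x ^ 9 + 43833 * x ^ 8 - 184907 * x ^ 7 + 208628 * x ^ 6 - 48437 * x ^ 5 + 37723 * x ^ 4 + 127008 * x ^ 3 - 425607 * x ^ 2 + 440853 * x - 406612) (v := -125523 * x ^ 8 - 124406 * x ^ 7 - 28651 * x ^ 6 - 215921 * x ^ 5 - 429089 * x ^ 4 - 92767 * x ^ 3 + 18995 * x ^ 2 - 440853 * x - 529588) (R := 936200) (by ring)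
  norm_num only at h1
  have e0 : (1 : ℤ) ≤ 1 := le_rfl
  have e1 : (378 : ℤ) ≤ x + 1 := by
    nlinarith [mul_le_mul e0 hx (by norm_num) (le_trans (by norm_num) e0)]
  have e2 : (142506 : ℤ) ≤ x ^ 2 + x := by
    nlinarith [mul_le_mul e1 hx (by norm_num) (le_trans (by norm_num) e1)]
  have e3 : (53724762 : ℤ) ≤ x ^ 3 + x ^ 2 := by
    nlinarith [mul_le_mul e2 hx (by norm_num) (le_trans (by norm_num) e2)]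
  have e4 : (20254235275 : ℤ) ≤ x ^ 4 + x ^ 3 + 1 := by
    nlinarith [mul_le_mul e3 hx (by norm_num) (le_trans (by norm_num) e3)]
  have e5 : (7635846698676 : ℤ) ≤ x ^ 5 + x ^ 4 + x + 1 := by
    nlinarith [mul_le_mul e4 hx (by norm_num) (le_trans (by norm_num) e4)]
  have e6 : (2878714205400853 : ℤ) ≤ x ^ 6 + x ^ 5 + x ^ 2 + x + 1 := by
    nlinarith [mul_le_mul e5 hx (by norm_num) (le_trans (by norm_num) e5)]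
  have e7 : (1085275255436121582 : ℤ) ≤ x ^ 7 + x ^ 6 + x ^ 3 + x ^ 2 + x + 1 := by
    nlinarith [mul_le_mul e6 hx (by norm_num) (le_trans (by norm_num) e6)]
  have e8 : (409148771299417836414 : ℤ) ≤ x ^ 8 + x ^ 7 + x ^ 4 + x ^ 3 + x ^ 2 + x := by
    nlinarith [mul_le_mul e7 hx (by norm_num) (le_trans (by norm_num) e7)]
  have e9 : (154249086779880524328077 : ℤ) ≤ x ^ 9 + x ^ 8 + x ^ 5 + x ^ 4 + x ^ 3 + x ^ 2 - 1 := by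
    nlinarith [mul_le_mul e8 hx (by norm_num) (le_trans (by norm_num) e8)]
  have h2 := Int.le_of_dvd (by norm_num) h1
  omega


theorem degE7InE8_small : ∀ q < 122, 2 ≤ q → ¬ q ^ 17 + q ^ 13 + q ^ 11 + q ^ 9 + q ^ 7 + q ^ 5 + q - 1 ∣ q ^ 120 * (q ^ 2 - 1) * (q ^ 8 - 1) * (q ^ 12 - 1) * (q ^ 14 - 1) * (q ^ 18 - 1) * (q ^ 20 - 1) * (q ^ 24 - 1) * (q ^ 30 - 1) := by
  decide +kernel

theorem degE7InE8_not_dvd {q : ℕ} (hq : 2 ≤ q) : ¬ q ^ 17 + q ^ 13 + q ^ 11 + q ^ 9 + q ^ 7 + q ^ 5 + q - 1 ∣ q ^ 120 * (q ^ 2 - 1) * (q ^ 8 - 1) * (q ^ 12 - 1) * (q ^ 14 - 1) * (q ^ 18 - 1) * (q ^ 20 - 1) * (q ^ 24 - 1) * (q ^ 30 - 1) := by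
  intro h
  rcases Nat.lt_or_ge q 122 with hlt | hge
  · exact degE7InE8_small q hlt hq h
  have hx : (122 : ℤ) ≤ q := by exact_mod_cast hge
  have h' : ((q ^ 17 + q ^ 13 + q ^ 11 + q ^ 9 + q ^ 7 + q ^ 5 + q - 1 : ℕ) : ℤ) ∣ ((q ^ 120 * (q ^ 2 - 1) * (q ^ 8 - 1) * (q ^ 12 - 1) * (q ^ 14 - 1) * (q ^ 18 - 1) * (q ^ 20 - 1) * (q ^ 24 - 1) * (q ^ 30 - 1) : ℕ) : ℤ) := Int.natCast_dvd_natCast.2 h
  rw [Nat.cast_sub (le_add_of_nonneg_of_le (Nat.zero_le _) (by omega : 1 ≤ q))] at h'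
  simp only [Nat.cast_mul, Nat.cast_pow, Nat.cast_add, Nat.cast_one,
    Nat.cast_sub (Nat.one_le_pow 2 q (by omega)), Nat.cast_sub (Nat.one_le_pow 8 q (by omega)), Nat.cast_sub (Nat.one_le_pow 12 q (by omega)), Nat.cast_sub (Nat.one_le_pow 14 q (by omega)), Nat.cast_sub (Nat.one_le_pow 18 q (by omega)), Nat.cast_sub (Nat.one_le_pow 20 q (by omega)), Nat.cast_sub (Nat.one_le_pow 24 q (by omega)), Nat.cast_sub (Nat.one_le_pow 30 q (by omega))] at h'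
  generalize (q : ℤ) = x at h' hx
  have hpos : (0 : ℤ) < x ^ 6 + x ^ 3 + 1 := by
    have e0 : (1 : ℤ) ≤ 1 := le_rfl
    have e1 : (122 : ℤ) ≤ x := by
      nlinarith [mul_le_mul e0 hx (by norm_num) (le_trans (by norm_num) e0)]
    have e2 : (14884 : ℤ) ≤ x ^ 2 := by
      nlinarith [mul_le_mul e1 hx (by norm_num) (le_trans (by norm_num) e1)]
    have e3 : (1815849 : ℤ) ≤ x ^ 3 + 1 := by
      nlinarith [mul_le_mul e2 hx (by norm_num) (le_trans (by norm_num) e2)]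
    have e4 : (221533578 : ℤ) ≤ x ^ 4 + x := by
      nlinarith [mul_le_mul e3 hx (by norm_num) (le_trans (by norm_num) e3)]
    have e5 : (27027096516 : ℤ) ≤ x ^ 5 + x ^ 2 := by
      nlinarith [mul_le_mul e4 hx (by norm_num) (le_trans (by norm_num) e4)]
    have e6 : (3297305774953 : ℤ) ≤ x ^ 6 + x ^ 3 + 1 := by
      nlinarith [mul_le_mul e5 hx (by norm_num) (le_trans (by norm_num) e5)]
    linarith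
  have hcop : IsCoprime (x ^ 17 + x ^ 13 + x ^ 11 + x ^ 9 + x ^ 7 + x ^ 5 + x - 1) (x ^ 120) :=
    IsCoprime.pow_right ⟨-1, x ^ 16 + x ^ 12 + x ^ 10 + x ^ 8 + x ^ 6 + x ^ 4 + 1, by ring⟩
  simp only [mul_assoc] at h'
  have h0 := hcop.dvd_of_dvd_mul_left h'
  obtain ⟨c, hc⟩ := h0
  have h1 : (x ^ 11 - x ^ 8 + x ^ 7 + x ^ 5 - x ^ 4 + x ^ 3 + x - 1) ∣ 1 * ((x ^ 12 - x ^ 9 + x ^ 3 - 1) * ((x ^ 2 - 1) * ((x ^ 8 - 1) * ((x ^ 12 - 1) * ((x ^ 14 - 1) * ((x ^ 20 - 1) * ((x ^ 24 - 1) * ((x ^ 30 - 1) * (1))))))))) := by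
    refine ⟨c, mul_left_cancel₀ hpos.ne' ?_⟩
    linear_combination hc
  replace h1 := dvd_step h1 (u := 5 * x ^ 11 + 3 * x ^ 10 + 5 * x ^ 9 - 2 * x ^ 8 + 2 * x ^ 7 - 2 * x ^ 6 + 2 * x ^ 5 - 2 * x ^ 4 - 14 * x ^ 3 + 3 * x ^ 2 + 5 * x + 3) (v := -5 * x ^ 10 - 3 * x ^ 9 - 5 * x ^ 8 + 2 * x ^ 7 - 7 * x ^ 6 - x ^ 5 - 12 * x ^ 4 + x ^ 3 + 2 * x ^ 2 - 2 * x - 19) (R := 16) (by ring)
  replace h1 := dvd_step h1 (u := 5 * x + 3) (v := -5 * x ^ 10 - 3 * x ^ 9 - 5 * x ^ 8 + 2 * x ^ 7 - 7 * x ^ 6 - x ^ 5 - 12 * x ^ 4 + x ^ 3 - 14 * x ^ 2 - 2 * x - 19) (R := 16) (by ring)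
  replace h1 := dvd_step h1 (u := 97 * x ^ 7 - 41 * x ^ 6 + 113 * x ^ 5 + 71 * x ^ 4 - 63 * x ^ 3 + 119 * x ^ 2 - 47 * x - 89) (v := -97 * x ^ 10 + 41 * x ^ 9 - 113 * x ^ 8 + 26 * x ^ 7 - 75 * x ^ 6 + 35 * x ^ 5 - 92 * x ^ 4 + 93 * x ^ 3 - 166 * x ^ 2 - 42 * x - 231) (R := 320) (by ring)
  replace h1 := dvd_step h1 (u := 59 * x ^ 11 + 13 * x ^ 10 + 11 * x ^ 9 - 3 * x ^ 8 + 59 * x ^ 7 + 13 * x ^ 6 + 11 * x ^ 5 - 3 * x ^ 4 - 101 * x ^ 3 + 13 * x ^ 2 + 11 * x - 3) (v := -59 * x ^ 10 - 13 * x ^ 9 - 11 * x ^ 8 + 62 * x ^ 7 - 105 * x ^ 6 - 15 * x ^ 5 - 84 * x ^ 4 + 111 * x ^ 3 - 2 * x ^ 2 - 14 * x - 157) (R := 160) (by ring)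
  replace h1 := dvd_step h1 (u := 3 * x ^ 13 + 5 * x ^ 12 + 3 * x ^ 11 + 5 * x ^ 10 + 3 * x ^ 9 + 5 * x ^ 8 + 3 * x ^ 7 - 11 * x ^ 6 + 3 * x ^ 5 + 5 * x ^ 4 - 13 * x ^ 3 + 5 * x ^ 2 + 3 * x - 11) (v := -3 * x ^ 10 - 5 * x ^ 9 - 3 * x ^ 8 - 2 * x ^ 7 - x ^ 6 - 7 * x ^ 5 - 4 * x ^ 4 + 7 * x ^ 3 - 2 * x ^ 2 - 14 * x - 5) (R := 16) (by ring)
  replace h1 := dvd_step h1 (u := 2587 * x ^ 19 + 589 * x ^ 18 - 917 * x ^ 17 + 3101 * x ^ 16 + 2747 * x ^ 15 - 691 * x ^ 14 + 523 * x ^ 13 + 381 * x ^ 12 - 1893 * x ^ 11 + 1229 * x ^ 10 + 2763 * x ^ 9 + 61 * x ^ 8 + 667 * x ^ 7 - 1651 * x ^ 6 - 597 * x ^ 5 + 541 * x ^ 4 - 3173 * x ^ 3 + 2669 * x ^ 2 + 43 * x - 4579) (v := -2587 * x ^ 10 - 589 * x ^ 9 + 917 * x ^ 8 - 514 * x ^ 7 - 4745 * x ^ 6 - 815 * x ^ 5 + 908 * x ^ 4 + 1263 * x ^ 3 - 2626 * x ^ 2 - 4622 *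 x - 4221) (R := 8800) (by ring)
  replace h1 := dvd_step h1 (u := 8867 * x ^ 23 + 5189 * x ^ 22 - 1197 * x ^ 21 - 1259 * x ^ 20 + 10307 * x ^ 19 + 4069 * x ^ 18 - 5517 * x ^ 17 + 2101 * x ^ 16 - 93 * x ^ 15 - 6011 * x ^ 14 + 2323 * x ^ 13 + 8981 * x ^ 12 - 253 * x ^ 11 - 3291 * x ^ 10 + 2803 * x ^ 9 + 821 * x ^ 8 - 1693 * x ^ 7 - 2171 * x ^ 6 + 7123 * x ^ 5 - 2539 * x ^ 4 - 14653 * x ^ 3 + 7909 * x ^ 2 - 717 * x - 9419) (v := -8867 * x ^ 10 - 5189 * x ^ 9 + 1197 * x ^ 8 + 10126 * x ^ 7 - 13985 * x ^ 6 - 10455 * x ^ 5 - 3412 * x ^ 4 + 13143 * x ^ 3 - 8626 * x ^ 2 - 8702 * x - 13941) (R := 23360) (by ring)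
  replace h1 := dvd_step h1 (u := 726377 * x ^ 29 + 383 * x ^ 28 + 124569 * x ^ 27 + 403055 * x ^ 26 + 373737 * x ^ 25 + 407135 * x ^ 24 + 117753 * x ^ 23 - 38033 * x ^ 22 - 162807 * x ^ 21 - 267233 * x ^ 20 + 386345 * x ^ 19 + 164767 * x ^ 18 - 312967 * x ^ 17 + 123743 * x ^ 16 - 185239 * x ^ 15 - 368673 * x ^ 14 + 235321 * x ^ 13 + 335615 * x ^ 12 + 32729 * x ^ 11 + 106943 * x ^ 10 + 68665 * x ^ 9 - 21617 * x ^ 8 + 133193 * x ^ 7 - 206609 * x ^ 6 + 286265 * x ^ 5 - 71585 * x ^ 4 - 938247 * x ^ 3 + 375919 * x ^ 2 - 278439 * x - 579457) (v := -726377 * x ^ 10 - 383 * x ^ 9 - 124569 * x ^ 8 + 323322 * x ^ 7 - 1099731 * x ^ 6 - 282949 * x ^ 5 - 565644 * x ^ 4 + 734709 * x ^ 3 - 654358 * x ^ 2 - 301018 * x - 1363759) (R := 1943216) (by ring)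
  norm_num only at h1
  have e0 : (1 : ℤ) ≤ 1 := le_rfl
  have e1 : (122 : ℤ) ≤ x := by
    nlinarith [mul_le_mul e0 hx (by norm_num) (le_trans (by norm_num) e0)]
  have e2 : (14884 : ℤ) ≤ x ^ 2 := by
    nlinarith [mul_le_mul e1 hx (by norm_num) (le_trans (by norm_num) e1)]
  have e3 : (1815847 : ℤ) ≤ x ^ 3 - 1 := by
    nlinarith [mul_le_mul e2 hx (by norm_num) (le_trans (by norm_num) e2)]
  have e4 : (221533335 : ℤ) ≤ x ^ 4 - x + 1 := by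
    nlinarith [mul_le_mul e3 hx (by norm_num) (le_trans (by norm_num) e3)]
  have e5 : (27027066870 : ℤ) ≤ x ^ 5 - x ^ 2 + x := by
    nlinarith [mul_le_mul e4 hx (by norm_num) (le_trans (by norm_num) e4)]
  have e6 : (3297302158141 : ℤ) ≤ x ^ 6 - x ^ 3 + x ^ 2 + 1 := by
    nlinarith [mul_le_mul e5 hx (by norm_num) (le_trans (by norm_num) e5)]
  have e7 : (402270863293201 : ℤ) ≤ x ^ 7 - x ^ 4 + x ^ 3 + x - 1 := by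
    nlinarith [mul_le_mul e6 hx (by norm_num) (le_trans (by norm_num) e6)]
  have e8 : (49077045321770523 : ℤ) ≤ x ^ 8 - x ^ 5 + x ^ 4 + x ^ 2 - x + 1 := by
    nlinarith [mul_le_mul e7 hx (by norm_num) (le_trans (by norm_num) e7)]
  have e9 : (5987399529256003806 : ℤ) ≤ x ^ 9 - x ^ 6 + x ^ 5 + x ^ 3 - x ^ 2 + x := by
    nlinarith [mul_le_mul e8 hx (by norm_num) (le_trans (by norm_num) e8)]
  have e10 : (730462742569232464333 : ℤ) ≤ x ^ 10 - x ^ 7 + x ^ 6 + x ^ 4 - x ^ 3 + x ^ 2 + 1 := by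
    nlinarith [mul_le_mul e9 hx (by norm_num) (le_trans (by norm_num) e9)]
  have e11 : (89116454593446360648625 : ℤ) ≤ x ^ 11 - x ^ 8 + x ^ 7 + x ^ 5 - x ^ 4 + x ^ 3 + x - 1 := by
    nlinarith [mul_le_mul e10 hx (by norm_num) (le_trans (by norm_num) e10)]
  have h2 := Int.le_of_dvd (by norm_num) h1
  omega


theorem degE8_small : ∀ q < 8, 2 ≤ q → ¬ q ^ 29 + q ^ 23 + q ^ 19 + q ^ 17 + q ^ 13 + q ^ 11 + q ^ 7 + q - 1 ∣ q ^ 120 * (q ^ 2 - 1) * (q ^ 8 - 1) * (q ^ 12 - 1) * (q ^ 14 - 1) * (q ^ 18 - 1) * (q ^ 20 - 1) * (q ^ 24 - 1) * (q ^ 30 - 1) := by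
  decide +kernel

theorem degE8_not_dvd {q : ℕ} (hq : 2 ≤ q) : ¬ q ^ 29 + q ^ 23 + q ^ 19 + q ^ 17 + q ^ 13 + q ^ 11 + q ^ 7 + q - 1 ∣ q ^ 120 * (q ^ 2 - 1) * (q ^ 8 - 1) * (q ^ 12 - 1) * (q ^ 14 - 1) * (q ^ 18 - 1) * (q ^ 20 - 1) * (q ^ 24 - 1) * (q ^ 30 - 1) := by
  intro h
  rcases Nat.lt_or_ge q 8 with hlt | hge
  · exact degE8_small q hlt hq h
  have hx : (8 : ℤ) ≤ q := by exact_mod_cast hge
  have h' : ((q ^ 29 + q ^ 23 + q ^ 19 + q ^ 17 + q ^ 13 + q ^ 11 + q ^ 7 + q - 1 : ℕ) : ℤ) ∣ ((q ^ 120 * (q ^ 2 - 1) * (q ^ 8 - 1) * (q ^ 12 - 1) * (q ^ 14 - 1) * (q ^ 18 - 1) * (q ^ 20 - 1) * (q ^ 24 - 1) * (q ^ 30 - 1) : ℕ) : ℤ) := Int.natCast_dvd_natCast.2 h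
  rw [Nat.cast_sub (le_add_of_nonneg_of_le (Nat.zero_le _) (by omega : 1 ≤ q))] at h'
  simp only [Nat.cast_mul, Nat.cast_pow, Nat.cast_add, Nat.cast_one,
    Nat.cast_sub (Nat.one_le_pow 2 q (by omega)), Nat.cast_sub (Nat.one_le_pow 8 q (by omega)), Nat.cast_sub (Nat.one_le_pow 12 q (by omega)), Nat.cast_sub (Nat.one_le_pow 14 q (by omega)), Nat.cast_sub (Nat.one_le_pow 18 q (by omega)), Nat.cast_sub (Nat.one_le_pow 20 q (by omega)), Nat.cast_sub (Nat.one_le_pow 24 q (by omega)), Nat.cast_sub (Nat.one_le_pow 30 q (by omega))] at h'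
  generalize (q : ℤ) = x at h' hx
  have hpos : (0 : ℤ) < x ^ 8 - x ^ 7 + x ^ 5 - x ^ 4 + x ^ 3 - x + 1 := by
    have e0 : (1 : ℤ) ≤ 1 := le_rfl
    have e1 : (7 : ℤ) ≤ x - 1 := by
      nlinarith [mul_le_mul e0 hx (by norm_num) (le_trans (by norm_num) e0)]
    have e2 : (56 : ℤ) ≤ x ^ 2 - x := by
      nlinarith [mul_le_mul e1 hx (by norm_num) (le_trans (by norm_num) e1)]
    have e3 : (449 : ℤ) ≤ x ^ 3 - x ^ 2 + 1 := by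
      nlinarith [mul_le_mul e2 hx (by norm_num) (le_trans (by norm_num) e2)]
    have e4 : (3591 : ℤ) ≤ x ^ 4 - x ^ 3 + x - 1 := by
      nlinarith [mul_le_mul e3 hx (by norm_num) (le_trans (by norm_num) e3)]
    have e5 : (28729 : ℤ) ≤ x ^ 5 - x ^ 4 + x ^ 2 - x + 1 := by
      nlinarith [mul_le_mul e4 hx (by norm_num) (le_trans (by norm_num) e4)]
    have e6 : (229832 : ℤ) ≤ x ^ 6 - x ^ 5 + x ^ 3 - x ^ 2 + x := by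
      nlinarith [mul_le_mul e5 hx (by norm_num) (le_trans (by norm_num) e5)]
    have e7 : (1838655 : ℤ) ≤ x ^ 7 - x ^ 6 + x ^ 4 - x ^ 3 + x ^ 2 - 1 := by
      nlinarith [mul_le_mul e6 hx (by norm_num) (le_trans (by norm_num) e6)]
    have e8 : (14709241 : ℤ) ≤ x ^ 8 - x ^ 7 + x ^ 5 - x ^ 4 + x ^ 3 - x + 1 := by
      nlinarith [mul_le_mul e7 hx (by norm_num) (le_trans (by norm_num) e7)]
    linarith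
  have hcop : IsCoprime (x ^ 29 + x ^ 23 + x ^ 19 + x ^ 17 + x ^ 13 + x ^ 11 + x ^ 7 + x - 1) (x ^ 120) :=
    IsCoprime.pow_right ⟨-1, x ^ 28 + x ^ 22 + x ^ 18 + x ^ 16 + x ^ 12 + x ^ 10 + x ^ 6 + 1, by ring⟩
  simp only [mul_assoc] at h'
  have h0 := hcop.dvd_of_dvd_mul_left h'
  obtain ⟨c, hc⟩ := h0
  have h1 : (x ^ 21 + x ^ 20 + x ^ 19 - x ^ 16 + x ^ 13 + x ^ 11 + x ^ 9 + x ^ 7 + x ^ 5 + x ^ 3 - 1) ∣ 1 * ((x ^ 22 + x ^ 21 + x ^ 20 - x ^ 17 - x ^ 16 - x ^ 15 + x ^ 7 + x ^ 6 + x ^ 5 - x ^ 2 - x - 1) * ((x ^ 2 - 1) * ((x ^ 8 - 1) * ((x ^ 12 - 1) * ((x ^ 14 - 1) * ((x ^ 18 - 1) * ((x ^ 20 - 1) * ((x ^ 24 - 1) * (1))))))))) := by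
    refine ⟨c, mul_left_cancel₀ hpos.ne' ?_⟩
    linear_combination hc
  replace h1 := dvd_step h1 (u := 10 * x ^ 21 + 153 * x ^ 20 + 37 * x ^ 19 + 44 * x ^ 18 - 26 * x ^ 17 + 34 * x ^ 16 - 116 * x ^ 15 - 119 * x ^ 14 - 7 * x ^ 13 + 70 * x ^ 12 - 70 * x ^ 11 + 7 * x ^ 10 + 119 * x ^ 9 - 119 * x ^ 8 - 7 * x ^ 7 + 80 * x ^ 6 + 83 * x ^ 5 + 44 * x ^ 4 - 26 * x ^ 3 + 44 * x ^ 2 + 27 * x - 235) (v := -10 * x ^ 20 - 153 * x ^ 19 - 37 * x ^ 18 - 44 * x ^ 17 + 26 * x ^ 16 - 34 * x ^ 15 + 106 * x ^ 14 - 34 * x ^ 13 - 30 * x ^ 12 - 114 * x ^ 11 + 86 * x ^ 10 - 194 * x ^ 9 - 50 * x ^ 8 + 41 * x ^ 7 + 3 * x ^ 6 - 228 * x ^ 5 + 119 * x ^ 4 - 119 * x ^ 3 - 17 * x ^ 2 - 73 * x + 46) (R := 189) (by ring)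
  replace h1 := dvd_step h1 (u := 8 * x + 1) (v := -8 * x ^ 20 - 9 * x ^ 19 - 17 * x ^ 18 - 10 * x ^ 17 - 17 * x ^ 16 - 2 * x ^ 15 - 16 * x ^ 14 - 2 * x ^ 13 - 24 * x ^ 12 - 3 * x ^ 11 - 32 * x ^ 10 - 4 * x ^ 9 - 40 * x ^ 8 - 5 * x ^ 7 - 48 * x ^ 6 - 6 * x ^ 5 - 56 * x ^ 4 - 7 * x ^ 3 - 64 * x ^ 2 - 8 * x - 64) (R := 63) (by ring)
  replace h1 := dvd_step h1 (u := 65 * x ^ 7 + 16 * x ^ 6 - 61 * x ^ 5 + 79 * x ^ 4 - 61 * x ^ 3 + 16 * x ^ 2 + 65 * x - 110) (v := -65 * x ^ 20 - 81 * x ^ 19 - 20 * x ^ 18 - 34 * x ^ 17 + 43 * x ^ 16 + 31 * x ^ 15 - 4 * x ^ 14 - 32 * x ^ 13 - 6 * x ^ 12 - 48 * x ^ 11 - 8 * x ^ 10 - 64 * x ^ 9 - 10 * x ^ 8 - 80 * x ^ 7 - 12 * x ^ 6 - 33 * x ^ 5 - 14 * x ^ 4 - 49 * x ^ 3 - 16 * x ^ 2 - 65 * x + 47) (R := 63) (by ring)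
  replace h1 := dvd_step h1 (u := 88 * x ^ 11 - 52 * x ^ 10 + 88 * x ^ 9 - 115 * x ^ 8 + 25 * x ^ 7 + 74 * x ^ 6 - 101 * x ^ 5 + 137 * x ^ 4 - 101 * x ^ 3 + 74 * x ^ 2 + 25 * x - 115) (v := -88 * x ^ 20 - 36 * x ^ 19 - 124 * x ^ 18 + 79 * x ^ 17 + 2 * x ^ 16 + 104 * x ^ 15 - 50 * x ^ 14 - 22 * x ^ 13 - 138 * x ^ 12 - 33 * x ^ 11 - 100 * x ^ 10 + 82 * x ^ 9 - 62 * x ^ 8 + 71 * x ^ 7 - 150 * x ^ 6 + 60 * x ^ 5 - 112 * x ^ 4 - 14 * x ^ 3 - 74 * x ^ 2 - 25 * x - 74) (R := 189) (by ring)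
  replace h1 := dvd_step h1 (u := 71 * x ^ 13 + 64 * x ^ 12 + 8 * x ^ 11 + x ^ 10 - 55 * x ^ 9 - 62 * x ^ 8 + 323 * x ^ 7 - 125 * x ^ 6 - 181 * x ^ 5 + 253 * x ^ 4 - 244 * x ^ 3 + 190 * x ^ 2 + 134 * x - 314) (v := -71 * x ^ 20 - 135 * x ^ 19 - 143 * x ^ 18 - 73 * x ^ 17 + 46 * x ^ 16 + 187 * x ^ 15 - 142 * x ^ 14 - 128 * x ^ 13 - 87 * x ^ 12 - 66 * x ^ 11 + 31 * x ^ 10 + 59 * x ^ 9 - 229 * x ^ 8 - 194 * x ^ 7 + 15 * x ^ 6 + 57 * x ^ 5 - 119 * x ^ 4 - 70 * x ^ 3 - 190 * x ^ 2 - 134 * x - 127) (R := 441) (by ring)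
  replace h1 := dvd_step h1 (u := 2021 * x ^ 17 - 86 * x ^ 16 + 3722 * x ^ 15 - 2858 * x ^ 14 - 184 * x ^ 13 + 1867 * x ^ 12 - 436 * x ^ 11 + 859 * x ^ 10 + 320 * x ^ 9 - 2102 * x ^ 8 + 2840 * x ^ 7 - 401 * x ^ 6 - 2326 * x ^ 5 + 4072 * x ^ 4 - 4783 * x ^ 3 + 2623 * x ^ 2 + 194 * x - 3803) (v := -2021 * x ^ 20 - 1935 * x ^ 19 - 5657 * x ^ 18 - 778 * x ^ 17 - 680 * x ^ 16 + 3196 * x ^ 15 - 1333 * x ^ 14 + 1432 * x ^ 13 - 5622 * x ^ 12 + 825 * x ^ 11 - 4934 * x ^ 10 + 2171 * x ^ 9 - 4813 * x ^ 8 + 52 * x ^ 7 - 4188 * x ^ 6 + 1146 * x ^ 5 - 3878 * x ^ 4 + 980 * x ^ 3 - 2623 * x ^ 2 - 194 * x - 6970) (R := 10773) (by ring)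
  replace h1 := dvd_step h1 (u := 26 * x ^ 19 + 19 * x ^ 18 - 37 * x ^ 17 + 19 * x ^ 16 + 26 * x ^ 15 - 44 * x ^ 14 + 26 * x ^ 13 + 19 * x ^ 12 - 37 * x ^ 11 + 19 * x ^ 10 + 26 * x ^ 9 - 44 * x ^ 8 + 26 * x ^ 7 + 19 * x ^ 6 - 37 * x ^ 5 + 19 * x ^ 4 - 37 * x ^ 3 + 19 * x ^ 2 + 26 * x - 44) (v := -26 * x ^ 20 - 45 * x ^ 19 - 8 * x ^ 18 - x ^ 17 - 8 * x ^ 16 + 25 * x ^ 15 + 11 * x ^ 14 - 38 * x ^ 13 - 15 * x ^ 12 + 6 * x ^ 11 - 41 * x ^ 10 - 13 * x ^ 9 - 4 * x ^ 8 - 32 * x ^ 7 - 30 * x ^ 6 + 12 * x ^ 5 + 7 * x ^ 4 - 7 * x ^ 3 - 19 * x ^ 2 - 26 * x - 19) (R := 63) (by ring)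
  replace h1 := dvd_step h1 (u := 44 * x ^ 23 - 26 * x ^ 22 + 44 * x ^ 21 + 37 * x ^ 20 - 82 * x ^ 19 + 37 * x ^ 18 + 44 * x ^ 17 - 26 * x ^ 16 + 44 * x ^ 15 + 37 * x ^ 14 - 82 * x ^ 13 + 37 * x ^ 12 + 44 * x ^ 11 - 26 * x ^ 10 + 44 * x ^ 9 - 152 * x ^ 8 + 107 * x ^ 7 + 37 * x ^ 6 - 145 * x ^ 5 + 163 * x ^ 4 - 145 * x ^ 3 + 37 * x ^ 2 + 107 * x - 152) (v := -44 * x ^ 20 - 18 * x ^ 19 - 62 * x ^ 18 - 55 * x ^ 17 + x ^ 16 + 52 * x ^ 15 - 25 * x ^ 14 - 11 * x ^ 13 - 69 * x ^ 12 - 111 * x ^ 11 - 50 * x ^ 10 + 41 * x ^ 9 - 31 * x ^ 8 - 59 * x ^ 7 - 75 * x ^ 6 + 30 * x ^ 5 - 56 * x ^ 4 - 7 * x ^ 3 - 37 * x ^ 2 - 107 * x - 37) (R := 189) (by ring)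
  norm_num only at h1
  have e0 : (1 : ℤ) ≤ 1 := le_rfl
  have e1 : (9 : ℤ) ≤ x + 1 := by
    nlinarith [mul_le_mul e0 hx (by norm_num) (le_trans (by norm_num) e0)]
  have e2 : (73 : ℤ) ≤ x ^ 2 + x + 1 := by
    nlinarith [mul_le_mul e1 hx (by norm_num) (le_trans (by norm_num) e1)]
  have e3 : (584 : ℤ) ≤ x ^ 3 + x ^ 2 + x := by
    nlinarith [mul_le_mul e2 hx (by norm_num) (le_trans (by norm_num) e2)]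
  have e4 : (4672 : ℤ) ≤ x ^ 4 + x ^ 3 + x ^ 2 := by
    nlinarith [mul_le_mul e3 hx (by norm_num) (le_trans (by norm_num) e3)]
  have e5 : (37375 : ℤ) ≤ x ^ 5 + x ^ 4 + x ^ 3 - 1 := by
    nlinarith [mul_le_mul e4 hx (by norm_num) (le_trans (by norm_num) e4)]
  have e6 : (299000 : ℤ) ≤ x ^ 6 + x ^ 5 + x ^ 4 - x := by
    nlinarith [mul_le_mul e5 hx (by norm_num) (le_trans (by norm_num) e5)]
  have e7 : (2392000 : ℤ) ≤ x ^ 7 + x ^ 6 + x ^ 5 - x ^ 2 := by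
    nlinarith [mul_le_mul e6 hx (by norm_num) (le_trans (by norm_num) e6)]
  have e8 : (19136001 : ℤ) ≤ x ^ 8 + x ^ 7 + x ^ 6 - x ^ 3 + 1 := by
    nlinarith [mul_le_mul e7 hx (by norm_num) (le_trans (by norm_num) e7)]
  have e9 : (153088008 : ℤ) ≤ x ^ 9 + x ^ 8 + x ^ 7 - x ^ 4 + x := by
    nlinarith [mul_le_mul e8 hx (by norm_num) (le_trans (by norm_num) e8)]
  have e10 : (1224704065 : ℤ) ≤ x ^ 10 + x ^ 9 + x ^ 8 - x ^ 5 + x ^ 2 + 1 := by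
    nlinarith [mul_le_mul e9 hx (by norm_num) (le_trans (by norm_num) e9)]
  have e11 : (9797632520 : ℤ) ≤ x ^ 11 + x ^ 10 + x ^ 9 - x ^ 6 + x ^ 3 + x := by
    nlinarith [mul_le_mul e10 hx (by norm_num) (le_trans (by norm_num) e10)]
  have e12 : (78381060161 : ℤ) ≤ x ^ 12 + x ^ 11 + x ^ 10 - x ^ 7 + x ^ 4 + x ^ 2 + 1 := by
    nlinarith [mul_le_mul e11 hx (by norm_num) (le_trans (by norm_num) e11)]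
  have e13 : (627048481288 : ℤ) ≤ x ^ 13 + x ^ 12 + x ^ 11 - x ^ 8 + x ^ 5 + x ^ 3 + x := by
    nlinarith [mul_le_mul e12 hx (by norm_num) (le_trans (by norm_num) e12)]
  have e14 : (5016387850305 : ℤ) ≤ x ^ 14 + x ^ 13 + x ^ 12 - x ^ 9 + x ^ 6 + x ^ 4 + x ^ 2 + 1 := by
    nlinarith [mul_le_mul e13 hx (by norm_num) (le_trans (by norm_num) e13)]
  have e15 : (40131102802440 : ℤ) ≤ x ^ 15 + x ^ 14 + x ^ 13 - x ^ 10 + x ^ 7 + x ^ 5 + x ^ 3 + x := by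
    nlinarith [mul_le_mul e14 hx (by norm_num) (le_trans (by norm_num) e14)]
  have e16 : (321048822419521 : ℤ) ≤ x ^ 16 + x ^ 15 + x ^ 14 - x ^ 11 + x ^ 8 + x ^ 6 + x ^ 4 + x ^ 2 + 1 := by
    nlinarith [mul_le_mul e15 hx (by norm_num) (le_trans (by norm_num) e15)]
  have e17 : (2568390579356168 : ℤ) ≤ x ^ 17 + x ^ 16 + x ^ 15 - x ^ 12 + x ^ 9 + x ^ 7 + x ^ 5 + x ^ 3 + x := by
    nlinarith [mul_le_mul e16 hx (by norm_num) (le_trans (by norm_num) e16)]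
  have e18 : (20547124634849345 : ℤ) ≤ x ^ 18 + x ^ 17 + x ^ 16 - x ^ 13 + x ^ 10 + x ^ 8 + x ^ 6 + x ^ 4 + x ^ 2 + 1 := by
    nlinarith [mul_le_mul e17 hx (by norm_num) (le_trans (by norm_num) e17)]
  have e19 : (164376997078794760 : ℤ) ≤ x ^ 19 + x ^ 18 + x ^ 17 - x ^ 14 + x ^ 11 + x ^ 9 + x ^ 7 + x ^ 5 + x ^ 3 + x := by
    nlinarith [mul_le_mul e18 hx (by norm_num) (le_trans (by norm_num) e18)]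
  have e20 : (1315015976630358080 : ℤ) ≤ x ^ 20 + x ^ 19 + x ^ 18 - x ^ 15 + x ^ 12 + x ^ 10 + x ^ 8 + x ^ 6 + x ^ 4 + x ^ 2 := by
    nlinarith [mul_le_mul e19 hx (by norm_num) (le_trans (by norm_num) e19)]
  have e21 : (10520127813042864639 : ℤ) ≤ x ^ 21 + x ^ 20 + x ^ 19 - x ^ 16 + x ^ 13 + x ^ 11 + x ^ 9 + x ^ 7 + x ^ 5 + x ^ 3 - 1 := by
    nlinarith [mul_le_mul e20 hx (by norm_num) (le_trans (by norm_num) e20)]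
  have h2 := Int.le_of_dvd (by norm_num) h1
  omega

end CfsgLib.KnownB.MinDeg
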