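import Cfsg.Agent.Lib.KnownB.MinDegLevel

/-!
From a lower bound on all roots to the Chevalley group; sums over the cells as polynomials.
-/

set_option autoImplicit false
set_option linter.unusedSectionVars false

namespace CfsgLib.KnownB.MinDeg

open Cfsg.Lie CfsgLib.Chev Module

variable {D : ChevalleyDatum} {F : Type*} [Field F]

/-- The exponents of the cells. -/
def expoList {m n : ℕ} (C : Fin m → Chart m n) : List ℕ := (List.finRange m).map fun β => (C β).expo

/-- The exponents of the moved cells. -/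
def movedList {m n : ℕ} (f : Fam m n) (C : Fin m → Chart m n) (α : Fin n) : List ℕ :=
  ((List.finRange m).filter fun β => decide (Hits (f.mv α) β)).map fun β => (C β).expo

theorem cellTotal_eq {m n : ℕ} (C : Fin m → Chart m n) {l : List ℕ} (h : expoList C = l) (q : ℕ) :
    cellTotal q C = (q - 1) * (l.map (q ^ ·)).sum := by
  subst h
  rw [cellTotal, ← Finset.mul_sum, expoList, List.map_map, Fin.sum_univ_def]
  rfl

theorem movedTotal_eq {m n : ℕ} (f : Fam m n) (C : Fin m → Chart m n) (α : Fin n) {l : List ℕ}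
    (h : movedList f C α = l) (q : ℕ) : movedTotal q f C α = (q - 1) * (l.map (q ^ ·)).sum := by
  subst h
  rw [movedTotal, movedList, List.map_map, Fin.sum_univ_def]
  induction List.finRange m with
  | nil => simp
  | cons a l ih =>
    by_cases ha : Hits (f.mv α) a
    · simp [ha, ih, mul_add]
    · simp [ha, ih]

theorem not_dvd_rootTor [Fintype F] (g : Good D) {R : List ℕ} (hR : ∀ r ∈ R, r < D.nroots) {T c : ℕ}
    (h : ¬ T ∣ c * Nat.card ↥(D.group F)) : ¬ T ∣ Nat.card ↥(rootTor g F R) := by
  have hle : rootTor g F R ≤ D.group F := by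
    refine (Subgroup.closure_le _).2 ?_
    rintro x (⟨r, hr, t, rfl⟩ | ⟨r, hr, c', rfl⟩)
    · exact g.xG_mem_group (hR r hr) t
    · exact g.diagonal_le_group (g.hG_mem hr c')
  exact fun hd => h (dvd_mul_of_dvd_right (hd.trans (Subgroup.card_dvd_of_le hle)) c)

theorem top_bound [Fintype F] (g : Good D) {R : List ℕ} (hR : ∀ r ∈ R, r < D.nroots)
    (hall : ∀ r, r < D.nroots → r ∈ R) {T : ℕ} (h : LowBound g F R T) {k : ℕ}
    (ρ : Representation ℂ ↥(D.group F) (Fin k → ℂ)) (hρ : ρ.IsIrreducible) (hk : 2 ≤ k) : T ≤ k := by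
  classical
  have hle : rootTor g F R ≤ D.group F := by
    refine (Subgroup.closure_le _).2 ?_
    rintro x (⟨r, hr, t, rfl⟩ | ⟨r, hr, c', rfl⟩)
    · exact g.xG_mem_group (hR r hr) t
    · exact g.diagonal_le_group (g.hG_mem hr c')
  let σ : Representation ℂ ↥(rootTor g F R) (Fin k → ℂ) := ρ.comp (Subgroup.inclusion hle)
  suffices ∃ r ∈ R, ∃ t : F, σ (Xh g R r t) ≠ 1 by simpa using h _ σ this
  by_contra hall'
  push Not at hall'
  have hone : ∀ x : ↥(D.group F), ρ x = 1 := by
    rintro ⟨x, hx⟩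
    induction hx using Subgroup.closure_induction with
    | mem y hy =>
      obtain ⟨r, t, hy⟩ := hy
      have h1 := hall' r (hall r r.2) t
      have h2 : Subgroup.inclusion hle (Xh g R r t) = ⟨y, Subgroup.subset_closure ⟨r, t, hy⟩⟩ := by
        refine Subtype.ext ?_
        rw [Subgroup.coe_inclusion, coe_Xh (hall r r.2)]
        exact Units.ext (by rw [g.coe_xG, hy, ChevalleyDatum.x, dif_pos r.2])
      rw [← h2]
      exact h1
    | one => exact map_one ρ
    | mul a b ha hb iha ihb =>
      show ρ (⟨a, ha⟩ * ⟨b, hb⟩) = 1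
      rw [map_mul, iha, ihb, one_mul]
    | inv a ha iha =>
      show ρ (⟨a, ha⟩⁻¹) = 1
      have h1 : ρ (⟨a, ha⟩⁻¹ * ⟨a, ha⟩) = 1 := by rw [inv_mul_cancel, map_one]
      rwa [map_mul, iha, mul_one] at h1
  let v : Fin k → ℂ := Pi.single ⟨0, by omega⟩ 1
  let W : Subrepresentation ρ := ⟨Submodule.span ℂ {v}, fun x w hw => by rw [hone x]; exact hw⟩
  rcases hρ.eq_bot_or_eq_top W with h' | h'
  · have h1 := congrArg Subrepresentation.toSubmodule h'
    have h2 : v ∈ W.toSubmodule := Submodule.mem_span_singleton_self v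
    rw [h1] at h2
    have h3 := congrFun ((Submodule.mem_bot ℂ).1 h2) ⟨0, by omega⟩
    simp [v] at h3
  · have h1 : Submodule.span ℂ {v} = ⊤ := congrArg Subrepresentation.toSubmodule h'
    have h2 := finrank_span_singleton (K := ℂ) (v := v) (fun h => by
      have h3 := congrFun h ⟨0, by omega⟩
      simp [v] at h3)
    rw [h1, finrank_top, Module.finrank_fin_fun] at h2
    omega

end CfsgLib.KnownB.MinDeg
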