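import Cfsg.Agent.Lib.KnownB.MinDegE6Checks
import Cfsg.Agent.Lib.KnownB.MinDegBottom
import Cfsg.Agent.Lib.KnownB.MinDegTop
import Cfsg.Agent.Lib.KnownB.MinDegOrder
import Cfsg.Agent.Lib.Chev.OrderTables

/-!
The least degree of a nontrivial representation of the Chevalley groups of type `E₆`.
-/

set_option autoImplicit false
set_option maxRecDepth 100000
set_option maxHeartbeats 1000000

namespace CfsgLib.KnownB.MinDeg

open Cfsg.Lie CfsgLib.Chev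

theorem e6_base : baseCheck chevE6 e6BaseRoots e6Rt e6Sg = true := by decide +kernel

theorem e6_expo : expoList e6Charts = [9, 8, 7, 7, 6, 6, 6, 5, 5, 5, 4, 4, 4, 3, 3, 3, 2, 2, 1, 0] := by
  decide +kernel

theorem e6_moved : movedList e6Fam e6Charts 29 = [9, 8, 7, 7, 6, 5] := by decide +kernel

theorem e6_weilExpo : weilExpo e6Weil e6Centre 10 = 7 := by decide +kernel

theorem e6_alpha : e6Fam.mo 29 ∈ e6BaseRoots := by decide +kernel

theorem e6_all : (∀ r ∈ e6Roots, r < chevE6.nroots) ∧ ∀ r, r < chevE6.nroots → r ∈ e6Roots := by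
  decide +kernel

/-- The bound one below the minimum for a subsystem of type `E₆`. -/
theorem sixStep_num {q : ℕ} (hq : 2 ≤ q) :
    q ^ 11 + q ^ 8 + q ^ 7 + q ^ 5 + q ^ 4 + q - 1 ≤ 2 * (q + 1) * ((q - 1) * q ^ 9) ∧
    (q - 1) * (([9, 8, 7, 7, 6, 5] : List ℕ).map (q ^ ·)).sum ≠ q ^ (9 + 1) + (q - 1) * q ^ 7 ∧
    q ^ 11 + q ^ 8 + q ^ 7 + q ^ 5 + q ^ 4 + q - 1 ≤ (q + q ^ 2 + q ^ 3 + q ^ 4 + q ^ 5) +
      (q - 1) * (([9, 8, 7, 7, 6, 6, 6, 5, 5, 5, 4, 4, 4, 3, 3, 3, 2, 2, 1, 0] : List ℕ).map (q ^ ·)).sum +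
        (q - 1) * q ^ (9 + 1) := by
  obtain ⟨p, rfl⟩ : ∃ p, q = p + 1 := ⟨q - 1, by omega⟩
  have hpw : ∀ j, 2 * (p + 1) ^ j ≤ (p + 1) ^ (j + 1) := fun j => by
    rw [pow_succ']; exact Nat.mul_le_mul_right _ hq
  simp only [Nat.add_sub_cancel, List.map_cons, List.map_nil, List.sum_cons, List.sum_nil]
  refine ⟨?_, fun he => ?_, ?_⟩
  · have e : 2 * (p + 1 + 1) * (p * (p + 1) ^ 9) + 2 * (p + 1) ^ 9 = 2 * (p + 1) ^ 11 := by ring
    have : 2 * (p + 1) ^ 10 ≤ (p + 1) ^ 11 := hpw 10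
    have : 2 * (p + 1) ^ 9 ≤ (p + 1) ^ 10 := hpw 9
    have : 2 * (p + 1) ^ 8 ≤ (p + 1) ^ 9 := hpw 8
    have : 2 * (p + 1) ^ 7 ≤ (p + 1) ^ 8 := hpw 7
    have : 2 * (p + 1) ^ 6 ≤ (p + 1) ^ 7 := hpw 6
    have : 2 * (p + 1) ^ 5 ≤ (p + 1) ^ 6 := hpw 5
    have : 2 * (p + 1) ^ 4 ≤ (p + 1) ^ 5 := hpw 4
    have : 2 * (p + 1) ^ 3 ≤ (p + 1) ^ 4 := hpw 3
    have : 2 * (p + 1) ^ 2 ≤ (p + 1) ^ 3 := hpw 2
    have : 2 * (p + 1) ≤ (p + 1) ^ 2 := by simpa using hpw 1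
    omega
  · have e : p * ((p + 1) ^ 9 + ((p + 1) ^ 8 + ((p + 1) ^ 7 + ((p + 1) ^ 7 + ((p + 1) ^ 6 +
        ((p + 1) ^ 5 + 0)))))) + (p + 1) ^ 5 = (p + 1) ^ (9 + 1) + p * (p + 1) ^ 7 := by ring
    have : 0 < (p + 1) ^ 5 := by positivity
    omega
  · refine Nat.sub_le_iff_le_add.2 (le_of_eq ?_)
    ring

variable {F : Type*} [Field F] [Fintype F]

/-- The bound for type `E₆`. -/
theorem min_degree_e6 {k : ℕ} (ρ : Representation ℂ ↥(chevE6.group F) (Fin k → ℂ)) (hρ : ρ.IsIrreducible)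
    (hk : 2 ≤ k) :
    Fintype.card F * (Fintype.card F ^ 6 + Fintype.card F ^ 3 + 1) * (Fintype.card F ^ 4 + 1) ≤ k := by
  have hc : HasComm chevE6 := hasComm_of_mem (by simp)
  have hq : 2 ≤ Fintype.card F := Fintype.one_lt_card
  obtain ⟨h1, h2, h3⟩ := sixStep_num hq
  have h5 : Classical.SLMinDeg.bigT (Fintype.card F) 5 = Fintype.card F + Fintype.card F ^ 2 +
      Fintype.card F ^ 3 + Fintype.card F ^ 4 + Fintype.card F ^ 5 := by
    simp [Classical.SLMinDeg.bigT, Finset.sum_range_succ]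
  have hlow := base_bound (F := F) (g := goodE6) hc e6_base
  rw [h5] at hlow
  have h6 : LowBound goodE6 F e6Roots (Fintype.card F ^ 11 + Fintype.card F ^ 8 + Fintype.card F ^ 7 +
      Fintype.card F ^ 5 + Fintype.card F ^ 4 + Fintype.card F - 1) :=
    heisenberg_step hc e6_conn e6_fam e6_mem e6_heis e6_cell e6_weilFam e6_weilMem e6_weil 0 e6_alpha hlow h1
      (by rw [movedTotal_eq _ _ _ e6_moved, e6_weilExpo]; exact h2)
      (by rw [cellTotal_eq _ e6_expo]; exact h3)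
  have h7 := top_bound goodE6 e6_all.1 e6_all.2 (h6.succ (not_dvd_rootTor goodE6 e6_all.1
    (c := (Fintype.card F - 1).gcd 3) (by rw [card_groupE6]; exact degE6_not_dvd hq))) ρ hρ hk
  refine le_trans (le_of_eq ?_) h7
  rw [Nat.sub_add_cancel (le_add_of_nonneg_of_le (Nat.zero_le _) (le_trans (by norm_num) hq))]
  ring

end CfsgLib.KnownB.MinDeg
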