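import Cfsg.Agent.Lib.KnownB.MinDegE6Tables

/-!
Verification of the root tables of the radicals in `E6`.
-/

set_option autoImplicit false
set_option maxRecDepth 100000
set_option maxHeartbeats 4000000

namespace CfsgLib.KnownB.MinDeg

open Cfsg.Lie

theorem e6_conn : connCheck chevE6 e6Roots 71 46 e6Edges = true := by decide +kernel

theorem e6_fam : e6Fam.check chevE6 [71] = true := by decide +kernel

theorem e6_mem : memCheck e6Fam e6Roots e6BaseRoots = true := by decide +kernel

theorem e6_cell : cellCheck chevE6 e6Fam e6Charts 29 e6Dec 9 = true := by decide +kernel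

theorem e6_heis : heisCheck chevE6 e6Fam e6Roots 71 e6Part = true := by decide +kernel

theorem e6_weilFam : e6Weil.check chevE6 [] = true := by decide +kernel

theorem e6_weilMem : memCheck e6Weil e6Roots [] = true := by decide +kernel

theorem e6_weil : weilCheck chevE6 e6Weil e6Centre 10 11 12 71 (e6Fam.mo 29) 10 = true := by decide +kernel

end CfsgLib.KnownB.MinDeg
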