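import Cfsg.Agent.Lib.KnownB.MinDegE8Checks
import Cfsg.Agent.Lib.KnownB.MinDegE6
import Cfsg.Prelude.Def_ChevE8

/-!
The least degree of a nontrivial representation of the Chevalley groups of type `E₈`.
-/

set_option autoImplicit false
set_option maxRecDepth 100000
set_option maxHeartbeats 2000000

namespace CfsgLib.KnownB.MinDeg

open Cfsg.Lie CfsgLib.Chev

theorem e86_base : baseCheck chevE8 e86BaseRoots e86Rt e86Sg = true := by decide +kernel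

theorem e86_expo : expoList e86Charts = [9, 8, 7, 7, 6, 6, 6, 5, 5, 5, 4, 4, 4, 3, 3, 3, 2, 2, 1, 0] := by
  decide +kernel

theorem e86_moved : movedList e86Fam e86Charts 29 = [9, 8, 7, 7, 6, 5] := by decide +kernel

theorem e86_weilExpo : weilExpo e86Weil e86Centre 10 = 7 := by decide +kernel

theorem e86_alpha : e86Fam.mo 29 ∈ e86BaseRoots := by decide +kernel

theorem e7_expo : expoList e7Charts = [16, 15, 14, 13, 12, 12, 11, 11, 10, 10, 9, 9, 8, 8, 8, 7, 7, 6, 6, 5, 5,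
    4, 4, 3, 2, 1, 0] := by
  decide +kernel

theorem e7_moved : movedList e7Fam e7Charts 71 = [16, 15, 14, 13, 12, 11] := by decide +kernel

theorem e7_alpha : e7Fam.mo 71 ∈ e86Roots := by decide +kernel

theorem e8_expo : expoList e8Charts = [27, 26, 25, 24, 23, 22, 22, 21, 21, 20, 20, 19, 19, 18, 18, 18, 17, 17, 17,
    16, 16, 16, 15, 15, 15, 14, 14, 14, 13, 13, 13, 12, 12, 12, 11, 11, 11, 10, 10, 10, 9, 9, 9, 8, 8, 7, 7, 6, 6,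
    5, 5, 4, 3, 2, 1, 0] := by
  decide +kernel

theorem e8_moved : movedList e8Fam e8Charts 125 = [27, 26, 25, 24, 23, 22, 22, 21, 20, 19, 18, 17] := by
  decide +kernel

theorem e8_weilExpo : weilExpo e8Weil e8Centre 28 = 22 := by decide +kernel

theorem e8_alpha : e8Fam.mo 125 ∈ e7Roots := by decide +kernel

theorem e8_all : (∀ r ∈ e8Roots, r < chevE8.nroots) ∧ (∀ r, r < chevE8.nroots → r ∈ e8Roots) ∧
    (∀ r ∈ e7Roots, r < chevE8.nroots) ∧ ∀ r ∈ e86Roots, r < chevE8.nroots := by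
  decide +kernel

/-- The numerical facts for the abelian step. -/
theorem sevenStep_num {q : ℕ} (hq : 2 ≤ q) :
    q * (q ^ 17 + q ^ 13 + q ^ 11 + q ^ 9 + q ^ 7 + q ^ 5 + q - 1) ≤ 2 * (q + 1) * ((q - 1) * q ^ 16) ∧
    (q - 1) * (([16, 15, 14, 13, 12, 11] : List ℕ).map (q ^ ·)).sum ≠ q ^ (16 + 1) ∧
    q ^ 17 + q ^ 13 + q ^ 11 + q ^ 9 + q ^ 7 + q ^ 5 + q - 1 ≤
      (q ^ 11 + q ^ 8 + q ^ 7 + q ^ 5 + q ^ 4 + q - 1 + 1) +
      (q - 1) * (([16, 15, 14, 13, 12, 12, 11, 11, 10, 10, 9, 9, 8, 8, 8, 7, 7, 6, 6, 5, 5,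
        4, 4, 3, 2, 1, 0] : List ℕ).map (q ^ ·)).sum := by
  obtain ⟨p, rfl⟩ : ∃ p, q = p + 1 := ⟨q - 1, by omega⟩
  have hpw : ∀ j, 2 * (p + 1) ^ j ≤ (p + 1) ^ (j + 1) := fun j => by
    rw [pow_succ']; exact Nat.mul_le_mul_right _ hq
  simp only [Nat.add_sub_cancel, List.map_cons, List.map_nil, List.sum_cons, List.sum_nil]
  refine ⟨?_, fun he => ?_, ?_⟩
  · refine le_trans (Nat.mul_le_mul_left _ (Nat.sub_le _ 1)) ?_
    have e : 2 * (p + 1 + 1) * (p * (p + 1) ^ 16) + 2 * (p + 1) ^ 16 = 2 * (p + 1) ^ 18 := by ring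
    have e' : (p + 1) * ((p + 1) ^ 17 + (p + 1) ^ 13 + (p + 1) ^ 11 + (p + 1) ^ 9 + (p + 1) ^ 7 + (p + 1) ^ 5 +
        (p + 1)) = (p + 1) ^ 18 + (p + 1) ^ 14 + (p + 1) ^ 12 + (p + 1) ^ 10 + (p + 1) ^ 8 + (p + 1) ^ 6 +
          (p + 1) ^ 2 := by ring
    have : 2 * (p + 1) ^ 17 ≤ (p + 1) ^ 18 := hpw 17
    have : 2 * (p + 1) ^ 16 ≤ (p + 1) ^ 17 := hpw 16
    have : 2 * (p + 1) ^ 15 ≤ (p + 1) ^ 16 := hpw 15
    have : 2 * (p + 1) ^ 14 ≤ (p + 1) ^ 15 := hpw 14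
    have : 2 * (p + 1) ^ 13 ≤ (p + 1) ^ 14 := hpw 13
    have : 2 * (p + 1) ^ 12 ≤ (p + 1) ^ 13 := hpw 12
    have : 2 * (p + 1) ^ 11 ≤ (p + 1) ^ 12 := hpw 11
    have : 2 * (p + 1) ^ 10 ≤ (p + 1) ^ 11 := hpw 10
    have : 2 * (p + 1) ^ 9 ≤ (p + 1) ^ 10 := hpw 9
    have : 2 * (p + 1) ^ 8 ≤ (p + 1) ^ 9 := hpw 8
    have : 2 * (p + 1) ^ 7 ≤ (p + 1) ^ 8 := hpw 7
    have : 2 * (p + 1) ^ 6 ≤ (p + 1) ^ 7 := hpw 6
    have : 2 * (p + 1) ^ 5 ≤ (p + 1) ^ 6 := hpw 5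
    have : 2 * (p + 1) ^ 4 ≤ (p + 1) ^ 5 := hpw 4
    have : 2 * (p + 1) ^ 3 ≤ (p + 1) ^ 4 := hpw 3
    have : 2 * (p + 1) ^ 2 ≤ (p + 1) ^ 3 := hpw 2
    have : 2 * (p + 1) ≤ (p + 1) ^ 2 := by simpa using hpw 1
    omega
  · have e : p * ((p + 1) ^ 16 + ((p + 1) ^ 15 + ((p + 1) ^ 14 + ((p + 1) ^ 13 + ((p + 1) ^ 12 +
        ((p + 1) ^ 11 + 0)))))) + (p + 1) ^ 11 = (p + 1) ^ (16 + 1) := by ring
    have : 0 < (p + 1) ^ 11 := Nat.pow_pos (Nat.succ_pos _)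
    omega
  · have h1 : 1 ≤ (p + 1) ^ 11 + (p + 1) ^ 8 + (p + 1) ^ 7 + (p + 1) ^ 5 + (p + 1) ^ 4 + (p + 1) := by
      have : 0 ≤ (p + 1) ^ 11 + (p + 1) ^ 8 + (p + 1) ^ 7 + (p + 1) ^ 5 + (p + 1) ^ 4 := Nat.zero_le _
      omega
    rw [Nat.sub_add_cancel h1]
    refine Nat.sub_le_iff_le_add.2 (le_of_eq ?_)
    ring

/-- The numerical facts for the last step. -/
theorem eightStep_num {q : ℕ} (hq : 2 ≤ q) :
    q ^ 29 + q ^ 23 + q ^ 19 + q ^ 17 + q ^ 13 + q ^ 11 + q ^ 7 + q - 1 ≤ 2 * (q + 1) * ((q - 1) * q ^ 27) ∧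
    (q - 1) * (([27, 26, 25, 24, 23, 22, 22, 21, 20, 19, 18, 17] : List ℕ).map (q ^ ·)).sum ≠
      q ^ (27 + 1) + (q - 1) * q ^ 22 ∧
    q ^ 29 + q ^ 23 + q ^ 19 + q ^ 17 + q ^ 13 + q ^ 11 + q ^ 7 + q - 1 ≤
      (q ^ 17 + q ^ 13 + q ^ 11 + q ^ 9 + q ^ 7 + q ^ 5 + q - 1 + 1) +
      (q - 1) * (([27, 26, 25, 24, 23, 22, 22, 21, 21, 20, 20, 19, 19, 18, 18, 18, 17, 17, 17,
        16, 16, 16, 15, 15, 15, 14, 14, 14, 13, 13, 13, 12, 12, 12, 11, 11, 11, 10, 10, 10, 9, 9, 9, 8, 8, 7, 7, 6,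
        6, 5, 5, 4, 3, 2, 1, 0] : List ℕ).map (q ^ ·)).sum + (q - 1) * q ^ (27 + 1) := by
  obtain ⟨p, rfl⟩ : ∃ p, q = p + 1 := ⟨q - 1, by omega⟩
  have hpw : ∀ j, 2 * (p + 1) ^ j ≤ (p + 1) ^ (j + 1) := fun j => by
    rw [pow_succ']; exact Nat.mul_le_mul_right _ hq
  simp only [Nat.add_sub_cancel, List.map_cons, List.map_nil, List.sum_cons, List.sum_nil]
  refine ⟨?_, fun he => ?_, ?_⟩
  · have e : 2 * (p + 1 + 1) * (p * (p + 1) ^ 27) + 2 * (p + 1) ^ 27 = 2 * (p + 1) ^ 29 := by ring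
    have : 2 * (p + 1) ^ 28 ≤ (p + 1) ^ 29 := hpw 28
    have : 2 * (p + 1) ^ 27 ≤ (p + 1) ^ 28 := hpw 27
    have : 2 * (p + 1) ^ 26 ≤ (p + 1) ^ 27 := hpw 26
    have : 2 * (p + 1) ^ 25 ≤ (p + 1) ^ 26 := hpw 25
    have : 2 * (p + 1) ^ 24 ≤ (p + 1) ^ 25 := hpw 24
    have : 2 * (p + 1) ^ 23 ≤ (p + 1) ^ 24 := hpw 23
    have : 2 * (p + 1) ^ 22 ≤ (p + 1) ^ 23 := hpw 22
    have : 2 * (p + 1) ^ 21 ≤ (p + 1) ^ 22 := hpw 21
    have : 2 * (p + 1) ^ 20 ≤ (p + 1) ^ 21 := hpw 20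
    have : 2 * (p + 1) ^ 19 ≤ (p + 1) ^ 20 := hpw 19
    have : 2 * (p + 1) ^ 18 ≤ (p + 1) ^ 19 := hpw 18
    have : 2 * (p + 1) ^ 17 ≤ (p + 1) ^ 18 := hpw 17
    have : 2 * (p + 1) ^ 16 ≤ (p + 1) ^ 17 := hpw 16
    have : 2 * (p + 1) ^ 15 ≤ (p + 1) ^ 16 := hpw 15
    have : 2 * (p + 1) ^ 14 ≤ (p + 1) ^ 15 := hpw 14
    have : 2 * (p + 1) ^ 13 ≤ (p + 1) ^ 14 := hpw 13
    have : 2 * (p + 1) ^ 12 ≤ (p + 1) ^ 13 := hpw 12
    have : 2 * (p + 1) ^ 11 ≤ (p + 1) ^ 12 := hpw 11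
    have : 2 * (p + 1) ^ 10 ≤ (p + 1) ^ 11 := hpw 10
    have : 2 * (p + 1) ^ 9 ≤ (p + 1) ^ 10 := hpw 9
    have : 2 * (p + 1) ^ 8 ≤ (p + 1) ^ 9 := hpw 8
    have : 2 * (p + 1) ^ 7 ≤ (p + 1) ^ 8 := hpw 7
    have : 2 * (p + 1) ^ 6 ≤ (p + 1) ^ 7 := hpw 6
    have : 2 * (p + 1) ^ 5 ≤ (p + 1) ^ 6 := hpw 5
    have : 2 * (p + 1) ^ 4 ≤ (p + 1) ^ 5 := hpw 4
    have : 2 * (p + 1) ^ 3 ≤ (p + 1) ^ 4 := hpw 3
    have : 2 * (p + 1) ^ 2 ≤ (p + 1) ^ 3 := hpw 2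
    have : 2 * (p + 1) ≤ (p + 1) ^ 2 := by simpa using hpw 1
    omega
  · have e : p * ((p + 1) ^ 27 + ((p + 1) ^ 26 + ((p + 1) ^ 25 + ((p + 1) ^ 24 + ((p + 1) ^ 23 + ((p + 1) ^ 22 +
        ((p + 1) ^ 22 + ((p + 1) ^ 21 + ((p + 1) ^ 20 + ((p + 1) ^ 19 + ((p + 1) ^ 18 + ((p + 1) ^ 17 +
          0)))))))))))) + (p + 1) ^ 17 = (p + 1) ^ (27 + 1) + p * (p + 1) ^ 22 := by ring
    have : 0 < (p + 1) ^ 17 := Nat.pow_pos (Nat.succ_pos _)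
    omega
  · have h1 : 1 ≤ (p + 1) ^ 17 + (p + 1) ^ 13 + (p + 1) ^ 11 + (p + 1) ^ 9 + (p + 1) ^ 7 + (p + 1) ^ 5 +
        (p + 1) := by
      have : 0 ≤ (p + 1) ^ 17 + (p + 1) ^ 13 + (p + 1) ^ 11 + (p + 1) ^ 9 + (p + 1) ^ 7 + (p + 1) ^ 5 :=
        Nat.zero_le _
      omega
    rw [Nat.sub_add_cancel h1]
    refine Nat.sub_le_iff_le_add.2 (le_of_eq ?_)
    ring

variable {F : Type*} [Field F] [Fintype F]

/-- The bound for type `E₈`. -/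
theorem min_degree_e8 {k : ℕ} (ρ : Representation ℂ ↥(chevE8.group F) (Fin k → ℂ)) (hρ : ρ.IsIrreducible)
    (hk : 2 ≤ k) :
    Fintype.card F * (Fintype.card F ^ 12 + 1) * (Fintype.card F ^ 10 + 1) * (Fintype.card F ^ 6 + 1) ≤ k := by
  have hc : HasComm chevE8 := hasComm_of_mem (by simp)
  have hq : 2 ≤ Fintype.card F := Fintype.one_lt_card
  obtain ⟨hall8, hall, hall7, hall6⟩ := e8_all
  obtain ⟨a1, a2, a3⟩ := sixStep_num hq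
  obtain ⟨b1, b2, b3⟩ := sevenStep_num hq
  obtain ⟨c1, c2, c3⟩ := eightStep_num hq
  have h5 : Classical.SLMinDeg.bigT (Fintype.card F) 5 = Fintype.card F + Fintype.card F ^ 2 +
      Fintype.card F ^ 3 + Fintype.card F ^ 4 + Fintype.card F ^ 5 := by
    simp [Classical.SLMinDeg.bigT, Finset.sum_range_succ]
  have hlow := base_bound (F := F) (g := goodE8) hc e86_base
  rw [h5] at hlow
  have h6 : LowBound goodE8 F e86Roots (Fintype.card F ^ 11 + Fintype.card F ^ 8 + Fintype.card F ^ 7 +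
      Fintype.card F ^ 5 + Fintype.card F ^ 4 + Fintype.card F - 1) :=
    heisenberg_step hc e86_conn e86_fam e86_mem e86_heis e86_cell e86_weilFam e86_weilMem e86_weil 0 e86_alpha
      hlow a1 (by rw [movedTotal_eq _ _ _ e86_moved, e86_weilExpo]; exact a2)
      (by rw [cellTotal_eq _ e86_expo]; exact a3)
  have h6' := h6.succ (not_dvd_rootTor goodE8 hall6 (c := 1) (by rw [card_groupE8]; exact degE6InE8_not_dvd hq))
  have h7 : LowBound goodE8 F e7Roots (Fintype.card F ^ 17 + Fintype.card F ^ 13 + Fintype.card F ^ 11 +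
      Fintype.card F ^ 9 + Fintype.card F ^ 7 + Fintype.card F ^ 5 + Fintype.card F - 1) :=
    abelian_step hc e7_conn e7_fam e7_mem e7_cell e7_pair e7_alpha h6' b1
      (by rw [movedTotal_eq _ _ _ e7_moved]; exact b2)
      (by rw [cellTotal_eq _ e7_expo]; exact b3)
  have h7' := h7.succ (not_dvd_rootTor goodE8 hall7 (c := 1) (by rw [card_groupE8]; exact degE7InE8_not_dvd hq))
  have h8 : LowBound goodE8 F e8Roots (Fintype.card F ^ 29 + Fintype.card F ^ 23 + Fintype.card F ^ 19 +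
      Fintype.card F ^ 17 + Fintype.card F ^ 13 + Fintype.card F ^ 11 + Fintype.card F ^ 7 + Fintype.card F - 1) :=
    heisenberg_step hc e8_conn e8_fam e8_mem e8_heis e8_cell e8_weilFam e8_weilMem e8_weil 0 e8_alpha h7' c1
      (by rw [movedTotal_eq _ _ _ e8_moved, e8_weilExpo]; exact c2)
      (by rw [cellTotal_eq _ e8_expo]; exact c3)
  have h9 := top_bound goodE8 hall8 hall
    (h8.succ (not_dvd_rootTor goodE8 hall8 (c := 1) (by rw [card_groupE8]; exact degE8_not_dvd hq))) ρ hρ hk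
  refine le_trans (le_of_eq ?_) h9
  rw [Nat.sub_add_cancel (le_add_of_nonneg_of_le (Nat.zero_le _) (le_trans (by norm_num) hq))]
  ring

end CfsgLib.KnownB.MinDeg
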