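import Cfsg.Agent.Lib.KnownB.MinDegE8Tables

/-!
Verification of the root tables of the radicals in `E8`.
-/

set_option autoImplicit false
set_option maxRecDepth 100000
set_option maxHeartbeats 4000000
-- one check at a time, to bound peak memory
set_option Elab.async false

namespace CfsgLib.KnownB.MinDeg

open Cfsg.Lie CfsgLib.Chev

theorem e8_conn : connCheck chevE8 e8Roots 239 120 e8Edges = true := by decide +kernel

theorem all_of_split {α : Type*} (l : List α) (p : α → Bool) (k : ℕ)
    (h₁ : (l.take k).all p = true) (h₂ : (l.drop k).all p = true) : l.all p = true := by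
  rw [← List.take_append_drop k l, List.all_append, h₁, h₂]; rfl

/-- The check of a root of the family. -/
def e8RootOK (w : Fin 56) : Bool :=
  decide (e8Fam.om w < chevE8.nroots) &&
    (List.finRange 56).all (fun v => commPairB chevE8 (e8Fam.om w) (e8Fam.om v) ||
      [239].any (fun k => commOneB chevE8 (e8Fam.om w) (e8Fam.om v) k 1 ||
        commOneB chevE8 (e8Fam.om w) (e8Fam.om v) k (-1))) &&
    decide (e8Fam.tw w < chevE8.nroots) &&
    (pair chevE8 (e8Fam.tw w) (e8Fam.om w) == 1 || pair chevE8 (e8Fam.tw w) (e8Fam.om w) == -1)

/-- The check of a mover of the family. -/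
def e8MoveOK (i : Fin 126) : Bool :=
  decide (e8Fam.mo i < chevE8.nroots) &&
    (List.finRange 56).all (fun w =>
      match e8Fam.mv i w with
      | none => commPairB chevE8 (e8Fam.mo i) (e8Fam.om w)
      | some (v, M) => commOneB chevE8 (e8Fam.om w) (e8Fam.mo i) (e8Fam.om v) (-M) &&
          commPairB chevE8 (e8Fam.mo i) (e8Fam.om v) &&
          (e8Fam.mv i v).isNone && (M == 1 || M == -1))

theorem e8_fam_root₁ : ((List.finRange 56).take 28).all e8RootOK = true := by decide +kernel

theorem e8_fam_root₂ : ((List.finRange 56).drop 28).all e8RootOK = true := by decide +kernel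

theorem e8_fam_move₁ : (((List.finRange 126).take 64).take 32).all e8MoveOK = true := by
  decide +kernel

theorem e8_fam_move₂ : (((List.finRange 126).take 64).drop 32).all e8MoveOK = true := by
  decide +kernel

theorem e8_fam_move₃ : (((List.finRange 126).drop 64).take 31).all e8MoveOK = true := by
  decide +kernel

theorem e8_fam_move₄ : (((List.finRange 126).drop 64).drop 31).all e8MoveOK = true := by
  decide +kernel

theorem e8_fam : e8Fam.check chevE8 [239] = true := by
  show ((List.finRange 56).all e8RootOK && (List.finRange 126).all e8MoveOK) = true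
  rw [all_of_split _ _ 28 e8_fam_root₁ e8_fam_root₂,
    all_of_split _ _ 64 (all_of_split _ _ 32 e8_fam_move₁ e8_fam_move₂)
      (all_of_split _ _ 31 e8_fam_move₃ e8_fam_move₄)]
  rfl

theorem e8_mem : memCheck e8Fam e8Roots e7Roots = true := by decide +kernel

/-- The check of a cell. -/
def cellCheckAt {m n : ℕ} (D : ChevalleyDatum) (f : Fam m n) (C : Fin m → Chart m n) (α : Fin n)
    (dec : Fin m → Fin n × Fin n) (e : ℕ) (β : Fin m) : Bool :=
    (C β).β == β && (C β).check f.mv && (C β).next.card == e &&
    ((C β).nb.all fun p => decide (p.1 ≤ β) || (List.finRange m).all fun w => decide (β ≤ w) ||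
      match f.mv p.2 w with | none => true | some (v, _) => decide (v < β)) &&
    ((List.finRange m).any (fun w => match f.mv α w with | none => false | some (v, _) => v == β) ||
      (((C β).nb.all fun p => decide (p.1 ≤ β) || commPairB D (f.mo p.2) (f.mo α)) &&
        !(List.finRange m).any (fun w => match f.mv (dec β).1 w with | none => false | some (v, _) => v == β) &&
        !(List.finRange m).any (fun w => match f.mv (dec β).2 w with | none => false | some (v, _) => v == β) &&
        [1, -1].any (fun c => commOneB D (f.mo (dec β).2) (f.mo (dec β).1) (f.mo α) c)))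

theorem e8_cell₁ : (((List.finRange 56).take 28).all
    (cellCheckAt chevE8 e8Fam e8Charts 125 e8Dec 27)) = true := by decide +kernel

theorem e8_cell₂ : (((List.finRange 56).drop 28).all
    (cellCheckAt chevE8 e8Fam e8Charts 125 e8Dec 27)) = true := by decide +kernel

theorem e8_cell : cellCheck chevE8 e8Fam e8Charts 125 e8Dec 27 = true :=
  all_of_split _ _ 28 e8_cell₁ e8_cell₂

theorem e8_heis : heisCheck chevE8 e8Fam e8Roots 239 e8Part = true := by decide +kernel

theorem e8_weilFam : e8Weil.check chevE8 [] = true := by decide +kernel

theorem e8_weilMem : memCheck e8Weil e8Roots [] = true := by decide +kernel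

theorem e8_weil : weilCheck chevE8 e8Weil e8Centre 28 29 30 239 (e8Fam.mo 125) 28 = true := by decide +kernel

theorem e7_conn : connCheck chevE8 e7Roots 226 162 e7Edges = true := by decide +kernel

theorem e7_fam : e7Fam.check chevE8 [] = true := by decide +kernel

theorem e7_mem : memCheck e7Fam e7Roots e86Roots = true := by decide +kernel

theorem e7_cell : cellCheck chevE8 e7Fam e7Charts 71 e7Dec 16 = true := by decide +kernel

theorem e7_pair : pairCheck e7Charts 0 1 = true := by decide +kernel

theorem e86_conn : connCheck chevE8 e86Roots 204 141 e86Edges = true := by decide +kernel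

theorem e86_fam : e86Fam.check chevE8 [204] = true := by decide +kernel

theorem e86_mem : memCheck e86Fam e86Roots e86BaseRoots = true := by decide +kernel

theorem e86_cell : cellCheck chevE8 e86Fam e86Charts 29 e86Dec 9 = true := by decide +kernel

theorem e86_heis : heisCheck chevE8 e86Fam e86Roots 204 e86Part = true := by decide +kernel

theorem e86_weilFam : e86Weil.check chevE8 [] = true := by decide +kernel

theorem e86_weilMem : memCheck e86Weil e86Roots [] = true := by decide +kernel

theorem e86_weil : weilCheck chevE8 e86Weil e86Centre 10 11 12 204 (e86Fam.mo 29) 10 = true := by decide +kernel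

end CfsgLib.KnownB.MinDeg
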