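import Cfsg.Agent.Lib.KnownB.MinDegChevLayer
import Mathlib.GroupTheory.NoncommPiCoprod

/-!
A family of root groups and a projection commuting with it give an operator family.
-/

set_option autoImplicit false
set_option linter.unusedSectionVars false

namespace CfsgLib.KnownB.MinDeg

open Cfsg.Lie CfsgLib.Chev Module

variable {D : ChevalleyDatum} {F : Type*} [Field F] {g : Good D} {R : List ℕ} {m n : ℕ}
  {M : Type*} [AddCommGroup M] [Module ℂ M]

/-- What is asked of the projection. -/
structure Env (f : Fam m n) (z : List ℕ) (ρ : Representation ℂ ↥(rootTor g F R) M) (E : Module.End ℂ M) : Prop where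
  hc : HasComm D
  hR : ∀ r ∈ R, r < D.nroots
  ok : f.check D z = true
  omR : ∀ w, f.om w ∈ R
  moR : ∀ i, f.mo i ∈ R
  zR : ∀ k ∈ z, k ∈ R
  idem : E * E = E
  com_om : ∀ w (t : F), Commute (ρ (Xh g R (f.om w) t)) E
  com_mo : ∀ i (t : F), Commute (ρ (Xh g R (f.mo i) t)) E
  com_tor : ∀ r, r < D.nroots → ∀ c : Fˣ, Commute (ρ (Hh g R r c)) E
  absorb : ∀ k ∈ z, ∀ t : F, ρ (Xh g R k t) * E = E

namespace Env

variable {f : Fam m n} {z : List ℕ} {ρ : Representation ℂ ↥(rootTor g F R) M} {E : Module.End ℂ M}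
  (h : Env f z ρ E)
include h

theorem check_om (w : Fin m) : f.tw w < D.nroots ∧ (pair D (f.tw w) (f.om w) = 1 ∨ pair D (f.tw w) (f.om w) = -1) ∧
    ∀ v, commPairB D (f.om w) (f.om v) = true ∨ ∃ k ∈ z, ∃ c : ℤ, commOneB D (f.om w) (f.om v) k c = true := by
  have h0 := h.ok
  simp only [Fam.check, Bool.and_eq_true, List.all_eq_true, List.mem_finRange, forall_const, decide_eq_true_eq,
    Bool.or_eq_true, beq_iff_eq, List.any_eq_true] at h0
  obtain ⟨⟨⟨-, h1⟩, h2⟩, h3⟩ := h0.1 w
  refine ⟨h2, h3, fun v => (h1 v).imp id ?_⟩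
  rintro ⟨k, hk, hk'⟩
  rcases hk' with hk' | hk'
  · exact ⟨k, hk, 1, hk'⟩
  · exact ⟨k, hk, -1, hk'⟩

theorem check_mo (i : Fin n) (w : Fin m) :
    (f.mv i w = none ∧ commPairB D (f.mo i) (f.om w) = true) ∨
      ∃ v c, f.mv i w = some (v, c) ∧ commOneB D (f.om w) (f.mo i) (f.om v) (-c) = true ∧
        commPairB D (f.mo i) (f.om v) = true ∧ f.mv i v = none ∧ (c = 1 ∨ c = -1) := by
  have h0 := h.ok
  simp only [Fam.check, Bool.and_eq_true, List.all_eq_true, List.mem_finRange, forall_const, decide_eq_true_eq] at h0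
  have h1 := (h0.2 i).2 w
  rcases hm : f.mv i w with _ | ⟨v, c⟩
  · rw [hm] at h1; exact Or.inl ⟨rfl, h1⟩
  · rw [hm] at h1
    simp only [Bool.and_eq_true, Bool.or_eq_true, beq_iff_eq, Option.isNone_iff_eq_none] at h1
    exact Or.inr ⟨v, c, rfl, h1.1.1.1, h1.1.1.2, h1.1.2, h1.2⟩

theorem proper (i : Fin n) : Proper (f.mv i) := fun w => by
  rcases h.check_mo i w with ⟨hn, -⟩ | ⟨v, c, hs, -, -, hv, hc⟩
  · rw [hn]; trivial
  · rw [hs]; exact ⟨hv, hc⟩

theorem absorb' {k : ℕ} (hk : k ∈ z) (t : F) (A : Module.End ℂ M) : A * ρ (Xh g R k t) * E = A * E := by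
  rw [mul_assoc, h.absorb k hk]

theorem om_commute (w v : Fin m) (s t : F) :
    Commute (ρ (Xh g R (f.om w) s) * E + (1 - E)) (ρ (Xh g R (f.om v) t) * E + (1 - E)) := by
  have hxy : ρ (Xh g R (f.om w) s) * ρ (Xh g R (f.om v) t) * E =
      ρ (Xh g R (f.om v) t) * ρ (Xh g R (f.om w) s) * E := by
    obtain ⟨-, -, hp⟩ := h.check_om w
    rw [← map_mul, ← map_mul]
    rcases hp v with hp | ⟨k, hk, c, hc1⟩
    · rw [(Xh_comm h.hc h.hR (h.omR w) (h.omR v) hp s t).eq]
    · rw [Xh_one h.hc h.hR (h.omR w) (h.omR v) (h.zR k hk) hc1 s t, map_mul ρ (_ * _) (Xh g R k _),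
        h.absorb' hk]
  have e1 := (h.com_om v t).eq
  have e2 := (h.com_om w s).eq
  show _ * _ = _ * _
  simp only [mul_add, add_mul, mul_sub, sub_mul, mul_one, one_mul]
  have i1 : ∀ A B : Module.End ℂ M, Commute B E → A * E * (B * E) = A * B * E := fun A B hB => by
    rw [mul_assoc A E, ← mul_assoc E B, ← hB.eq, mul_assoc B, h.idem, ← mul_assoc]
  rw [i1 _ _ (h.com_om v t), i1 _ _ (h.com_om w s), hxy]
  simp only [mul_assoc _ E E, h.idem, ← mul_assoc E, ← e1, ← e2]
  abel

/-- The operators of a coordinate. -/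
noncomputable def coordHom (w : Fin m) : Multiplicative F →* Module.End ℂ M where
  toFun t := ρ (Xh g R (f.om w) (Multiplicative.toAdd t)) * E + (1 - E)
  map_one' := by
    show ρ (Xh g R (f.om w) (0 : F)) * E + (1 - E) = 1
    rw [Xh_zero, map_one, one_mul, add_sub_cancel]
  map_mul' a b := by
    show ρ (Xh g R (f.om w) (Multiplicative.toAdd a + Multiplicative.toAdd b)) * E + (1 - E) = _
    set A := ρ (Xh g R (f.om w) (Multiplicative.toAdd a))
    set B := ρ (Xh g R (f.om w) (Multiplicative.toAdd b))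
    have hB : B * E = E * B := (h.com_om w _).eq
    rw [Xh_add, map_mul]
    simp only [mul_add, add_mul, mul_sub, sub_mul, mul_one, one_mul]
    have i1 : A * E * (B * E) = A * B * E := by
      rw [mul_assoc A E, ← mul_assoc E B, ← hB, mul_assoc B, h.idem, ← mul_assoc]
    rw [i1]
    simp only [mul_assoc _ E E, h.idem, ← mul_assoc E, ← hB]
    abel

/-- The product of the coordinate operators. -/
noncomputable def Phi : (Fin m → Multiplicative F) →* Module.End ℂ M :=
  MonoidHom.noncommPiCoprod (fun w => h.coordHom w)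
    (fun w v _ s t => h.om_commute w v (Multiplicative.toAdd s) (Multiplicative.toAdd t))

/-- The operator family. -/
noncomputable def Y (a : Fin m → F) : Module.End ℂ M :=
  h.Phi (fun w => Multiplicative.ofAdd (a w)) * E

theorem commute_Phi (u : Fin m → Multiplicative F) : Commute (h.Phi u) E := by
  refine Commute.symm (Finset.noncommProd_commute _ _ _ _ fun w _ => ?_)
  show Commute E (ρ _ * E + (1 - E))
  exact ((h.com_om w _).symm.mul_right (Commute.refl E)).add_right
    ((Commute.one_right E).sub_right (Commute.refl E))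

theorem Y_add (a b : Fin m → F) : h.Y (a + b) = h.Y a * h.Y b := by
  rw [Y, Y, Y, mul_assoc, ← mul_assoc E, ← (h.commute_Phi _).eq, mul_assoc _ E E, h.idem, ← mul_assoc, ← map_mul]
  rfl

theorem Y_zero : h.Y 0 = E := by
  rw [Y, show (fun w => Multiplicative.ofAdd ((0 : Fin m → F) w)) = 1 from rfl, map_one, one_mul]

theorem Y_single (w : Fin m) (t : F) : h.Y (Pi.single w t) = ρ (Xh g R (f.om w) t) * E := by
  classical
  have hs : (fun v => Multiplicative.ofAdd ((Pi.single w t : Fin m → F) v)) =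
      Pi.mulSingle w (Multiplicative.ofAdd t) := by
    funext v
    rcases eq_or_ne v w with rfl | hv <;> simp [*]
  rw [Y, hs, Phi]
  erw [MonoidHom.noncommPiCoprod_mulSingle]
  show (ρ (Xh g R (f.om w) t) * E + (1 - E)) * E = _
  rw [add_mul, sub_mul, one_mul, mul_assoc, h.idem, sub_self, add_zero]

/-- Equality of additive families on the coordinates. -/
theorem conj_of_single (A : Module.End ℂ M) (hA : Commute A E) (L : (Fin m → F) → (Fin m → F))
    (hL : ∀ a b, L (a + b) = L a + L b) (hL0 : L 0 = 0)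
    (hs : ∀ w t, A * h.Y (Pi.single w t) = h.Y (L (Pi.single w t)) * A) (a : Fin m → F) :
    A * h.Y a = h.Y (L a) * A := by
  classical
  rw [← Finset.univ_sum_single a]
  induction (Finset.univ : Finset (Fin m)) using Finset.induction_on with
  | empty => rw [Finset.sum_empty, hL0, h.Y_zero, hA.eq]
  | insert w s hw ih => rw [Finset.sum_insert hw, hL, h.Y_add, h.Y_add, ← mul_assoc, hs, mul_assoc, ih, ← mul_assoc]

theorem lsh_add (s : Move m) (t : F) (a b : Fin m → F) : lsh s t (a + b) = lsh s t a + lsh s t b := by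
  funext v
  simp only [lsh, Pi.add_apply]
  rw [add_add_add_comm (a v), ← Finset.sum_add_distrib]
  congr 1
  refine Finset.sum_congr rfl fun w _ => ?_
  rcases s w with _ | p
  · simp
  · simp only [Option.elim]
    split_ifs <;> ring

theorem conjG (i : Fin n) (t : F) (a : Fin m → F) :
    ρ (Xh g R (f.mo i) t) * h.Y a = h.Y (lsh (f.mv i) t a) * ρ (Xh g R (f.mo i) t) := by
  classical
  refine h.conj_of_single _ (h.com_mo i t) (lsh (f.mv i) t) (h.lsh_add _ t) ?_ (fun w u => ?_) a
  · funext v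
    simp [lsh]
    exact Finset.sum_eq_zero fun w _ => by rcases f.mv i w with _ | p <;> simp
  have hlsh : lsh (f.mv i) t (Pi.single w u) =
      Pi.single w u + (f.mv i w).elim 0 (fun p => Pi.single p.1 ((p.2 : F) * t * u)) := by
    funext v
    simp only [lsh, Pi.add_apply]
    congr 1
    rw [Finset.sum_eq_single w]
    · rcases f.mv i w with _ | p
      · simp
      · simp [Option.elim, Pi.single_apply, eq_comm]
    · intro x _ hx
      rcases f.mv i x with _ | p
      · simp
      · simp [Option.elim, Pi.single_eq_of_ne hx]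
    · simp
  rw [hlsh, h.Y_single]
  rcases h.check_mo i w with ⟨hn, hp⟩ | ⟨v, c, hs, hone, hp, -, -⟩
  · rw [hn, Option.elim, add_zero, h.Y_single, ← mul_assoc, ← map_mul,
      (Xh_comm h.hc h.hR (h.moR i) (h.omR w) hp t u).eq, map_mul, mul_assoc, (h.com_mo i t).eq, ← mul_assoc]
  · rw [hs, Option.elim, h.Y_add, h.Y_single, h.Y_single, ← mul_assoc, ← map_mul,
      Xh_one h.hc h.hR (h.omR w) (h.moR i) (h.omR v) hone u t, mul_assoc (Xh g R (f.om w) u),
      (Xh_comm h.hc h.hR (h.moR i) (h.omR v) hp t _).eq, map_mul, map_mul]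
    have hc' : ((-c : ℤ) : F) * -u * t = (c : F) * t * u := by push_cast; ring
    rw [hc']
    set A := ρ (Xh g R (f.om w) u)
    set B := ρ (Xh g R (f.om v) ((c : F) * t * u)) with hB
    set C := ρ (Xh g R (f.mo i) t)
    have e1 : B * E = E * B := (h.com_om v _).eq
    calc A * (B * C) * E = A * (B * (C * E)) := by simp only [mul_assoc]
      _ = A * (B * (E * C)) := by rw [(h.com_mo i t).eq]
      _ = A * (E * (B * E) * C) := by
          rw [show E * (B * E) = B * E by rw [e1, ← mul_assoc, h.idem]]; simp only [mul_assoc]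
      _ = A * E * (B * E) * C := by simp only [mul_assoc]

theorem act [Fintype F] [FiniteDimensional ℂ M] :
    Act f.mv h.Y (fun i t => ρ (Xh g R (f.mo i) t)) where
  proper := h.proper
  add := h.Y_add
  inv i t := by rw [← map_mul, ← Xh_add, add_neg_cancel, Xh_zero, map_one]
  conj := h.conjG
  tor c hc' β := by
    classical
    obtain ⟨htw, hpm, -⟩ := h.check_om β
    let u : Fˣ := if pair D (f.tw β) (f.om β) = 1 then Units.mk0 c hc' else (Units.mk0 c hc')⁻¹
    let x : Fin m → F := fun w => ((u ^ pair D (f.tw β) (f.om w) : Fˣ) : F)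
    refine ⟨x, fun w => Units.ne_zero _, ?_, ρ (Hh g R (f.tw β) u), ρ (Hh g R (f.tw β) u)⁻¹, ?_, ?_⟩
    · rcases hpm with hp | hp
      · simp [x, u, hp]
      · simp [x, u, hp]
    · rw [← map_mul, inv_mul_cancel, map_one]
    · intro a
      refine h.conj_of_single _ (h.com_tor _ htw u) (fun a => x * a) (fun a b => mul_add x a b) (mul_zero x)
        (fun w t => ?_) a
      have hx : x * Pi.single w t = Pi.single w (x w * t) := by
        funext v
        rcases eq_or_ne v w with rfl | hv <;> simp [*]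
      rw [hx, h.Y_single, h.Y_single, ← mul_assoc, ← map_mul,
        show Hh g R (f.tw β) u * Xh g R (f.om w) t = Xh g R (f.om w) (x w * t) * Hh g R (f.tw β) u by
          rw [← Hh_conj h.hc h.hR htw (h.omR w), inv_mul_cancel_right],
        map_mul, mul_assoc, (h.com_tor _ htw u).eq, ← mul_assoc]

/-- The torus commutes with the fixed space of the family. -/
theorem tor_commute_pr [Fintype F] {ψ : AddChar F ℂ} {r : ℕ} (hr : r < D.nroots) (c : Fˣ) :
    Commute (ρ (Hh g R r c)) (pr h.Y ψ 0) := by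
  classical
  let x : Fin m → F := fun w => ((c ^ pair D r (f.om w) : Fˣ) : F)
  have hconj : ∀ a, ρ (Hh g R r c) * h.Y a = h.Y (x * a) * ρ (Hh g R r c) := by
    intro a
    refine h.conj_of_single _ (h.com_tor _ hr c) (fun a => x * a) (fun a b => mul_add x a b) (mul_zero x)
      (fun w t => ?_) a
    have hx : x * Pi.single w t = Pi.single w (x w * t) := by
      funext v
      rcases eq_or_ne v w with rfl | hv <;> simp [*]
    rw [hx, h.Y_single, h.Y_single, ← mul_assoc, ← map_mul,
      show Hh g R r c * Xh g R (f.om w) t = Xh g R (f.om w) (x w * t) * Hh g R r c by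
        rw [← Hh_conj h.hc h.hR hr (h.omR w), inv_mul_cancel_right],
      map_mul, mul_assoc, (h.com_tor _ hr c).eq, ← mul_assoc]
  show _ * _ = _ * _
  simp only [pr, EigProj.proj, mul_smul_comm, smul_mul_assoc, Finset.mul_sum, Finset.sum_mul]
  congr 1
  refine Fintype.sum_equiv
    (Equiv.piCongrRight fun w => Equiv.mulLeft₀ (x w) (Units.ne_zero _)) _ _ fun a => ?_
  show _ = chr ψ 0 (-(x * a)) • (h.Y (x * a) * ρ (Hh g R r c))
  rw [hconj]
  simp [chr_apply]

end Env

end CfsgLib.KnownB.MinDeg
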