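import Cfsg.Agent.Lib.KnownB.MinDegShape
import Cfsg.Agent.Lib.Char.Monomial
import Cfsg.Agent.Lib.Char.Integral

/-!
One step of the induction along a chain of Levi subsystems: an abelian or a Heisenberg radical.
-/

set_option autoImplicit false
set_option linter.unusedSectionVars false

namespace CfsgLib.KnownB.MinDeg

open Cfsg.Lie CfsgLib.Chev CfsgLib.KnownB.D4Deg Module

section General

variable {F : Type*} [Field F] [Fintype F] {M : Type*} [AddCommGroup M] [Module ℂ M] [FiniteDimensional ℂ M]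

/-- The projection on the fixed space of an additive family. -/
noncomputable def fixProj (Z : F → Module.End ℂ M) : Module.End ℂ M := EigProj.proj Z 1

theorem fixProj_eq (Z : F → Module.End ℂ M) : fixProj Z = (Fintype.card F : ℂ)⁻¹ • ∑ t, Z t := by
  simp [fixProj, EigProj.proj]

theorem fixProj_absorb {Z : F → Module.End ℂ M} (hadd : ∀ s t, Z (s + t) = Z s * Z t) (t : F) :
    Z t * fixProj Z = fixProj Z := by
  simpa [fixProj] using EigProj.mul_proj hadd 1 t

theorem commute_fixProj {Z : F → Module.End ℂ M} {A : Module.End ℂ M} (e : F ≃ F)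
    (h : ∀ t, A * Z t = Z (e t) * A) : Commute A (fixProj Z) := by
  show _ = _
  rw [fixProj_eq, mul_smul_comm, smul_mul_assoc, Finset.mul_sum, Finset.sum_mul]
  congr 1
  exact Fintype.sum_equiv e _ _ h

/-- An additive family with constant trace is trivial. -/
theorem trivial_of_trace {Z : F → Module.End ℂ M} (hadd : ∀ s t, Z (s + t) = Z s * Z t) (h0 : Z 0 = 1)
    (h : ∀ t, t ≠ 0 → LinearMap.trace ℂ M (Z t) = finrank ℂ M) (t : F) : Z t = 1 := by
  classical
  have hall : ∀ s, LinearMap.trace ℂ M (Z s) = finrank ℂ M := fun s => by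
    rcases eq_or_ne s 0 with rfl | hs
    · rw [h0, LinearMap.trace_one]
    · exact h s hs
  have h1 : LinearMap.trace ℂ M (fixProj Z) = finrank ℂ M := by
    rw [fixProj_eq, map_smul, map_sum, Finset.sum_congr rfl fun s _ => hall s, Finset.sum_const, Finset.card_univ,
      nsmul_eq_mul, smul_eq_mul, ← mul_assoc, inv_mul_cancel₀ (by simp), one_mul]
  have hid : IsIdempotentElem (fixProj Z) := EigProj.isIdem hadd 1
  rw [trace_idem hid] at h1
  have htop : LinearMap.range (fixProj Z) = ⊤ := Submodule.eq_top_of_finrank_eq (Nat.cast_injective h1)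
  have hP : fixProj Z = 1 := LinearMap.ext fun x => by
    obtain ⟨y, rfl⟩ := (htop.ge (Submodule.mem_top : x ∈ ⊤) : x ∈ LinearMap.range (fixProj Z))
    rw [← Module.End.mul_apply, hid.eq]
    rfl
  simpa [hP] using fixProj_absorb hadd t

theorem trace_isConj {G : Type*} [Group G] (ρ : Representation ℂ G M) {x y : G} (h : IsConj x y) :
    LinearMap.trace ℂ M (ρ x) = LinearMap.trace ℂ M (ρ y) := by
  obtain ⟨c, rfl⟩ := isConj_iff.1 h
  rw [map_mul ρ (c * x), map_mul ρ c, LinearMap.trace_mul_comm, ← mul_assoc, ← map_mul ρ, inv_mul_cancel, map_one,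
    one_mul]

end General

variable {D : ChevalleyDatum} {F : Type*} [Field F]

/-- A lower bound for the degree of the representations with a nontrivial root element. -/
def LowBound (g : Good D) (F : Type*) [Field F] (R : List ℕ) (B : ℕ) : Prop :=
  ∀ (M : Type) [AddCommGroup M] [Module ℂ M] [FiniteDimensional ℂ M]
    (ρ : Representation ℂ ↥(rootTor g F R) M), (∃ r ∈ R, ∃ t : F, ρ (Xh g R r t) ≠ 1) → B ≤ finrank ℂ M

theorem LowBound.succ {g : Good D} {R : List ℕ} {T : ℕ} [Fintype F] (h : LowBound g F R T)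
    (hd : ¬ T ∣ Nat.card ↥(rootTor g F R)) : LowBound g F R (T + 1) := by
  classical
  intro M _ _ _ ρ ⟨r, hr, t, hne⟩
  have : ∃ p : Subrepresentation ρ, p.toRepresentation.IsIrreducible ∧ p.toRepresentation (Xh g R r t) ≠ 1 := by
    by_contra hh
    push Not at hh
    refine hne (sub_eq_zero.1 (CfsgLib.Char.eq_zero_of_forall_irreducible ρ _ fun p hp x hx => ?_))
    have h1 := congrArg Subtype.val (LinearMap.congr_fun (hh p hp) ⟨x, hx⟩)
    rw [LinearMap.sub_apply, sub_eq_zero]
    exact h1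
  obtain ⟨p, hp, hpne⟩ := this
  have := hp
  have h1 := h _ p.toRepresentation ⟨r, hr, t, hpne⟩
  have h2 := CfsgLib.Char.degree_dvd_card p.toRepresentation
  have h3 : finrank ℂ p.toSubmodule ≤ finrank ℂ M := p.toSubmodule.finrank_le
  rcases eq_or_lt_of_le h1 with he | hlt
  · exact absurd (he ▸ h2) hd
  · omega

/-- The check of a connected subsystem. -/
def connCheck (D : ChevalleyDatum) (R : List ℕ) (r₀ k₁ : ℕ) (E : List (ℕ × ℕ × ℕ × ℕ)) : Bool :=
  edgesOK D R [r₀] E && R.all (fun k => k == r₀ || (E.map Prod.fst).contains k) && R.all (fun r => decide (r < D.nroots)) &&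
    (E.map Prod.fst).contains k₁ && k₁ != r₀

/-- The check of the roots of a family. -/
def memCheck {m n : ℕ} (f : Fam m n) (R R' : List ℕ) : Bool :=
  (List.finRange m).all (fun w => R.contains (f.om w)) && (List.finRange n).all (fun i => R.contains (f.mo i)) &&
    R'.all (fun r => (List.ofFn f.mo).contains r)

/-- The check of two coordinates next to each other. -/
def pairCheck {m n : ℕ} (C : Fin m → Chart m n) (β₁ v : Fin m) : Bool :=
  ((C β₁).nb.map Prod.fst).contains v && ((C v).nb.map Prod.fst).contains β₁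

theorem pair_of_check {m n : ℕ} {C : Fin m → Chart m n} {β₁ v : Fin m} (h : pairCheck C β₁ v = true) :
    v ∈ (C β₁).next ∧ β₁ ∈ (C v).next := by
  simpa [pairCheck, Chart.next] using h

section Level

variable [Fintype F] {g : Good D} {R R' : List ℕ} {m n : ℕ} {M : Type} [AddCommGroup M] [Module ℂ M]
  [FiniteDimensional ℂ M] {r₀ k₁ : ℕ} {ed : List (ℕ × ℕ × ℕ × ℕ)}

theorem conn (hc : HasComm D) (hconn : connCheck D R r₀ k₁ ed = true) :
    (∀ r ∈ R, r < D.nroots) ∧
      ∀ {k l : ℕ}, k ∈ R → l ∈ R → ∀ {t τ : F}, t ≠ 0 → τ ≠ 0 → IsConj (Xh g R k t) (Xh g R l τ) := by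
  simp only [connCheck, Bool.and_eq_true, List.all_eq_true, Bool.or_eq_true, beq_iff_eq, decide_eq_true_eq,
    List.contains_iff_mem, bne_iff_ne] at hconn
  obtain ⟨⟨⟨⟨h1, h2⟩, h3⟩, h4⟩, h5⟩ := hconn
  exact ⟨h3, fun hk hl _ _ ht hτ => isConj_roots hc h3 h1 h2 h4 h5 hk hl ht hτ⟩

theorem const_trace (hc : HasComm D) (hconn : connCheck D R r₀ k₁ ed = true)
    (ρ : Representation ℂ ↥(rootTor g F R) M) {r : ℕ} (hr : r ∈ R) :
    ∀ k ∈ R, ∀ t : F, t ≠ 0 →
      LinearMap.trace ℂ M (ρ (Xh g R k t)) = LinearMap.trace ℂ M (ρ (Xh g R r 1)) :=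
  fun _ hk _ ht => trace_isConj ρ ((conn hc hconn).2 hk hr ht one_ne_zero)

theorem false_of_max_trace (hc : HasComm D) (hconn : connCheck D R r₀ k₁ ed = true)
    (ρ : Representation ℂ ↥(rootTor g F R) M) (hne : ∃ r ∈ R, ∃ t : F, ρ (Xh g R r t) ≠ 1) {r : ℕ} (hr : r ∈ R)
    (h : LinearMap.trace ℂ M (ρ (Xh g R r 1)) = finrank ℂ M) : False := by
  obtain ⟨k, hk, t, hkt⟩ := hne
  refine hkt (trivial_of_trace (Z := fun t => ρ (Xh g R k t)) (fun s u => ?_) ?_ (fun u hu => ?_) t)
  · rw [Xh_add, map_mul]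
  · show ρ (Xh g R k 0) = 1
    rw [Xh_zero, map_one]
  · rw [const_trace hc hconn ρ hr k hk u hu, h]

/-- The subgroup of the elements commuting with an operator. -/
def commSub (ρ : Representation ℂ ↥(rootTor g F R) M) (P : Module.End ℂ M) : Subgroup ↥(rootTor g F R) where
  carrier := {y | Commute (ρ y) P}
  one_mem' := by simp
  mul_mem' {a b} ha hb := by
    show Commute (ρ (a * b)) P
    rw [map_mul]
    exact ha.mul_left hb
  inv_mem' {a} ha := by
    show ρ a⁻¹ * P = P * ρ a⁻¹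
    have e1 : ρ a⁻¹ * ρ a = 1 := by rw [← map_mul, inv_mul_cancel, map_one]
    have e2 : ρ a * ρ a⁻¹ = 1 := by rw [← map_mul, mul_inv_cancel, map_one]
    calc ρ a⁻¹ * P = ρ a⁻¹ * (P * (ρ a * ρ a⁻¹)) := by rw [e2, mul_one]
      _ = ρ a⁻¹ * (P * ρ a) * ρ a⁻¹ := by simp only [mul_assoc]
      _ = P * ρ a⁻¹ := by rw [← ha.eq, ← mul_assoc, e1, one_mul]

/-- A projection commuting with a subsystem carries a representation of it. -/
theorem restrict_bound {B : ℕ} (hlow : LowBound g F R' B) (ρ : Representation ℂ ↥(rootTor g F R) M)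
    (hsub : ∀ r ∈ R', r ∈ R) {P : Module.End ℂ M}
    (hX : ∀ r ∈ R', ∀ t : F, Commute (ρ (Xh g R r t)) P)
    (hH : ∀ r, r < D.nroots → ∀ c : Fˣ, Commute (ρ (Hh g R r c)) P)
    {α : ℕ} (hα : α ∈ R') {t : F} (hne : ρ (Xh g R α t) * P ≠ P) :
    B ≤ finrank ℂ (LinearMap.range P) := by
  have hle : rootTor g F R' ≤ (commSub ρ P).map (rootTor g F R).subtype := by
    refine (Subgroup.closure_le _).2 ?_
    rintro x (⟨r, hr, s, rfl⟩ | ⟨r, hr, c, rfl⟩)
    · exact ⟨Xh g R r s, hX r hr s, coe_Xh (hsub r hr) s⟩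
    · exact ⟨Hh g R r c, hH r hr c, coe_Hh hr c⟩
  have hle' : rootTor g F R' ≤ rootTor g F R := hle.trans (Subgroup.map_subtype_le _)
  have hcom : ∀ x : ↥(rootTor g F R'), Commute (ρ (Subgroup.inclusion hle' x)) P := fun x => by
    obtain ⟨y, hy, hyx⟩ := hle x.2
    rwa [show Subgroup.inclusion hle' x = y from Subtype.ext hyx.symm]
  let σ : Representation ℂ ↥(rootTor g F R') ↥(LinearMap.range P) :=
    { toFun := fun x => (ρ (Subgroup.inclusion hle' x)).restrict (p := LinearMap.range P) (q := LinearMap.range P)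
        fun v hv => by
          obtain ⟨w, rfl⟩ := hv
          exact ⟨ρ (Subgroup.inclusion hle' x) w, (LinearMap.congr_fun (hcom x).eq w).symm⟩
      map_one' := by ext v; simp
      map_mul' := fun x y => by ext v; simp }
  refine hlow _ σ ⟨α, hα, t, fun hσ => hne (LinearMap.ext fun v => ?_)⟩
  have h1 := congrArg Subtype.val (LinearMap.congr_fun hσ ⟨P v, v, rfl⟩)
  have h2 : Subgroup.inclusion hle' (Xh g R' α t) = Xh g R α t := by
    refine Subtype.ext ?_
    rw [Subgroup.coe_inclusion, coe_Xh (g := g) (R := R') hα t, coe_Xh (g := g) (R := R) (hsub α hα) t]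
  show ρ (Xh g R α t) (P v) = P v
  rw [← h2]
  exact h1

variable {f : Fam m n} {C : Fin m → Chart m n} {α : Fin n} {dec : Fin m → Fin n × Fin n} {e : ℕ}

theorem mem_of_check (hm : memCheck f R R' = true) :
    (∀ w, f.om w ∈ R) ∧ (∀ i, f.mo i ∈ R) ∧ ∀ r ∈ R', ∃ i, f.mo i = r := by
  simpa [memCheck, List.mem_ofFn', Set.mem_range, and_assoc] using hm

theorem fixed_block {z : List ℕ} {ρ : Representation ℂ ↥(rootTor g F R) M} {E : Module.End ℂ M}
    [DecidableEq F] (h : Env f z ρ E) {ψ : AddChar F ℂ} (hm : memCheck f R R' = true) (hα : f.mo α ∈ R') {B : ℕ}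
    (hlow : LowBound g F R' B) {t : F}
    (hne : LinearMap.trace ℂ M (ρ (Xh g R (f.mo α) t) * pr h.Y ψ 0) ≠ (mlt h.Y ψ 0 : ℂ)) :
    B ≤ mlt h.Y ψ 0 := by
  obtain ⟨-, hmoR, hsub⟩ := mem_of_check hm
  refine restrict_bound hlow ρ (fun r hr => ?_) (fun r hr s => ?_)
    (fun r hr c => h.tor_commute_pr hr c) hα (t := t) fun he => hne ((congrArg (LinearMap.trace ℂ M) he).trans (h.act.trace_pr 0))
  · obtain ⟨i, rfl⟩ := hsub r hr
    exact hmoR i
  · obtain ⟨i, rfl⟩ := hsub r hr
    have := h.act.conj_pr (ψ := ψ) i s 0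
    rwa [show shear (f.mv i) s (0 : Fin m → F) = 0 from funext fun w => by
      rcases hw : f.mv i w with _ | p <;> simp [shear, hw]] at this

/-- The step through an abelian radical. -/
theorem abelian_step (hc : HasComm D) (hconn : connCheck D R r₀ k₁ ed = true) (hf : f.check D [] = true)
    (hm : memCheck f R R' = true) (hk : cellCheck D f C α dec e = true) {β₁ v : Fin m}
    (hpair : pairCheck C β₁ v = true) (hα : f.mo α ∈ R') {B T : ℕ} (hlow : LowBound g F R' B)
    (hbig : Fintype.card F * T ≤ 2 * (Fintype.card F + 1) * ((Fintype.card F - 1) * Fintype.card F ^ e))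
    (hmoved : movedTotal (Fintype.card F) f C α ≠ Fintype.card F ^ (e + 1))
    (htot : T ≤ B + cellTotal (Fintype.card F) C) : LowBound g F R T := by
  classical
  intro M _ _ _ ρ hne
  obtain ⟨hR, -⟩ := conn (g := g) (F := F) hc hconn
  obtain ⟨homR, hmoR, -⟩ := mem_of_check hm
  have h : Env f [] ρ 1 :=
    ⟨hc, hR, hf, homR, hmoR, by simp, one_mul 1, fun _ _ => Commute.one_right _, fun _ _ => Commute.one_right _,
      fun _ _ _ => Commute.one_right _, by simp⟩
  obtain ⟨ψ, hψ⟩ := Fintype.exists_ne_of_one_lt_card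
    (by rw [AddChar.card_eq]; exact Fintype.one_lt_card) (1 : AddChar F ℂ)
  have hq1 : 1 < (Fintype.card F) := Fintype.one_lt_card
  have hqC : ((Fintype.card F) : ℂ) ≠ 0 := by exact_mod_cast (show (Fintype.card F) ≠ 0 by omega)
  have hq1C : ((Fintype.card F) : ℂ) - 1 ≠ 0 := sub_ne_zero.2 (by exact_mod_cast (show (Fintype.card F) ≠ 1 by omega))
  set χ := LinearMap.trace ℂ M (ρ (Xh g R (f.om β₁) 1)) with hχ
  have hconst := const_trace (g := g) hc hconn ρ (homR β₁)
  obtain ⟨S, hrel, -, hpr, hS⟩ := h.shape hψ hk (β₀ := χ) (a := finrank ℂ M) (LinearMap.trace_one ℂ M)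
    (fun w t ht => by rw [mul_one]; exact hconst _ (homR w) t ht) β₁
  obtain ⟨hv1, hv2⟩ := pair_of_check hpair
  have hpr' := hpr v hv1 hv2
  rcases S with _ | _ | S
  · exfalso
    refine false_of_max_trace hc hconn ρ hne (homR β₁) ?_
    rw [mul_zero, Nat.cast_zero, mul_zero, add_zero] at hrel
    exact mul_left_cancel₀ hq1C hrel
  · obtain ⟨htot', htr⟩ := h.totals hψ hk (LinearMap.trace_one ℂ M) hS
    have hχ' : χ + ((Fintype.card F) : ℂ) ^ (e + 1) = finrank ℂ M := by
      refine mul_left_cancel₀ hq1C ?_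
      rw [zero_add, mul_one, Nat.cast_mul, Nat.cast_sub hq1.le, Nat.cast_pow, Nat.cast_one] at hrel
      linear_combination hrel
    have h1 := htr 1 one_ne_zero
    rw [mul_one, hconst _ (hmoR α) 1 one_ne_zero, ← hχ] at h1
    have hB : B ≤ mlt h.Y ψ 0 := by
      refine fixed_block h hm hα hlow (t := 1) fun he => hmoved ?_
      rw [he, ← Nat.cast_add, ← htot'] at h1
      have : (movedTotal (Fintype.card F) f C α : ℂ) = (((Fintype.card F) ^ (e + 1) : ℕ) : ℂ) := by
        push_cast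
        linear_combination h1 - hχ'
      exact_mod_cast this
    omega
  · refine Nat.le_of_mul_le_mul_left (hbig.trans (le_trans ?_ hpr')) (by omega)
    calc 2 * ((Fintype.card F) + 1) * (((Fintype.card F) - 1) * (Fintype.card F) ^ e) = ((Fintype.card F) + 1) * (((Fintype.card F) - 1) * (Fintype.card F) ^ e * 2) := by ring
      _ ≤ _ := by gcongr; omega

/-- The check of a Heisenberg radical. -/
def heisCheck (D : ChevalleyDatum) (f : Fam m n) (R : List ℕ) (θ : ℕ) (part : Fin m → ℕ) : Bool :=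
  R.contains θ &&
  (List.finRange m).all (fun w =>
    R.contains (part w) && commPairB D (f.om w) θ && commPairB D (part w) θ &&
      [1, -1].any (fun c => commOneB D (f.om w) (part w) θ c)) &&
  (List.finRange n).all (fun i => commPairB D (f.mo i) θ)

/-- The check of the maximal abelian family through the centre. -/
def weilCheck {m' n' : ℕ} (D : ChevalleyDatum) (f' : Fam m' n') (C' : Chart m' n') (α' γ δ : Fin n') (θ a k : ℕ) :
    Bool :=
  f'.om C'.β == θ && f'.mo α' == a && C'.check f'.mv && C'.next.card == k &&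
  C'.nb.all (fun p => decide (Hits (f'.mv α') p.1) ||
    commPairB D (f'.mo p.2) (f'.mo α')) &&
  !decide (Hits (f'.mv γ) C'.β) &&
  !decide (Hits (f'.mv δ) C'.β) &&
  [1, -1].any (fun c => commOneB D (f'.mo δ) (f'.mo γ) (f'.mo α') c)

/-- The number of next coordinates fixed by a move. -/
def weilExpo {m' n' : ℕ} (f' : Fam m' n') (C' : Chart m' n') (α' : Fin n') : ℕ :=
  (C'.next.filter fun v => ¬ Hits (f'.mv α') v).card

/-- The trace of a move through the centre. -/
theorem trace_centre {m' n' : ℕ} [DecidableEq F] {f' : Fam m' n'} {C' : Chart m' n'} {α' γ δ : Fin n'}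
    {θ a k : ℕ} {ρ : Representation ℂ ↥(rootTor g F R) M} (h : Env f' [] ρ 1) {ψ : AddChar F ℂ} (hψ : ψ ≠ 1)
    (hw : weilCheck D f' C' α' γ δ θ a k = true) {β₀ : ℂ}
    (htr : ∀ t : F, t ≠ 0 → LinearMap.trace ℂ M (ρ (Xh g R θ t)) = β₀)
    (hβ₀ : (finrank ℂ M : ℂ) - β₀ = (Fintype.card F : ℂ) ^ (k + 1)) {t : F} (ht : t ≠ 0) :
    LinearMap.trace ℂ M (ρ (Xh g R a t)) =
      LinearMap.trace ℂ M (ρ (Xh g R a t) * fixProj fun s => ρ (Xh g R θ s)) +
        (((Fintype.card F - 1) * Fintype.card F ^ weilExpo f' C' α' : ℕ) : ℂ) := by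
  classical
  simp only [weilCheck, Bool.and_eq_true, beq_iff_eq, List.all_eq_true, Bool.or_eq_true, Bool.not_eq_true',
    decide_eq_true_eq, decide_eq_false_iff_not] at hw
  obtain ⟨⟨⟨⟨⟨⟨⟨hθ, ha⟩, hC⟩, hcard⟩, hnb⟩, hγ⟩, hδ⟩, hdec⟩ := hw
  have hok := Chart.ok_of_check h.proper hC
  have hI := h.act.isInv (ψ := ψ)
  have hq1 : 1 < (Fintype.card F) := Fintype.one_lt_card
  have hqC : ((Fintype.card F) : ℂ) ≠ 0 := by exact_mod_cast (show (Fintype.card F) ≠ 0 by omega)
  have hY0 : LinearMap.trace ℂ M (h.Y 0) = (finrank ℂ M : ℂ) := by rw [h.Y_zero, LinearMap.trace_one]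
  have hS : Inv.sliceSum (mlt h.Y ψ) C' = 1 := by
    have h1 := h.act.trace_coord hψ C'.β (β₀ := β₀) fun t ht => by rw [h.Y_single, mul_one, hθ]; exact htr t ht
    rw [hI.sum_chart_all hok, hcard, hY0] at h1
    have h2 : ((((Fintype.card F) - 1) * (Fintype.card F) ^ k * Inv.sliceSum (mlt h.Y ψ) C' : ℕ) : ℂ) = ((((Fintype.card F) - 1) * (Fintype.card F) ^ k * 1 : ℕ) : ℂ) := by
      refine mul_left_cancel₀ hqC ?_
      rw [mul_one, Nat.cast_mul ((Fintype.card F) - 1) ((Fintype.card F) ^ k), Nat.cast_sub hq1.le, Nat.cast_pow, Nat.cast_one]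
      linear_combination h1 + (((Fintype.card F) : ℂ) - 1) * hβ₀
    exact Nat.eq_of_mul_eq_mul_left (Nat.mul_pos (by omega) (pow_pos (by omega) _)) (Nat.cast_injective h2)
  have hsplit : ∀ b : Fin m' → F, (fixProj fun s => ρ (Xh g R θ s)) * pr h.Y ψ b =
      if b C'.β = 0 then pr h.Y ψ b else 0 := fun b => by
    have h1 : ∀ s : F, ρ (Xh g R θ s) * pr h.Y ψ b = ψ (s * b C'.β) • pr h.Y ψ b := fun s => by
      have h2 := EigProj.mul_proj h.act.add (chr ψ b) (Pi.single C'.β s)
      rw [h.Y_single, mul_one, hθ, chr_apply] at h2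
      simpa [pr, Pi.single_apply, mul_comm] using h2
    rw [fixProj_eq, smul_mul_assoc, Finset.sum_mul, Finset.sum_congr rfl fun s _ => h1 s, ← Finset.sum_smul,
      AddChar.sum_mulShift _ (AddChar.IsPrimitive.of_ne_one hψ), smul_smul]
    split_ifs with hb
    · rw [inv_mul_cancel₀ hqC, one_smul]
    · simp
  have hP : (fixProj fun s => ρ (Xh g R θ s)) =
      ∑ b ∈ Finset.univ.filter (fun b : Fin m' → F => ¬ b C'.β ≠ 0), pr h.Y ψ b := by
    conv_lhs => rw [← mul_one (fixProj fun s => ρ (Xh g R θ s)), ← h.Y_zero, ← h.act.sum_pr hψ, Finset.mul_sum,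
      Finset.sum_congr rfl fun b _ => hsplit b]
    rw [Finset.sum_filter]
    refine Finset.sum_congr rfl fun b _ => ?_
    split_ifs <;> simp_all
  have hsum : ρ (Xh g R a t) = ∑ b, ρ (Xh g R a t) * pr h.Y ψ b := by
    rw [← Finset.mul_sum, h.act.sum_pr hψ, h.Y_zero, mul_one]
  conv_lhs => rw [hsum, ← Finset.sum_filter_add_sum_filter_not Finset.univ (fun b : Fin m' → F => b C'.β ≠ 0)]
  rw [map_add, hP, Finset.mul_sum, add_comm]
  congr 1
  rw [map_sum]
  set Z := C'.next.filter fun v => Hits (f'.mv α') v with hZ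
  have hexp : C'.next.card - Z.card = weilExpo f' C' α' := by
    have := Finset.card_filter_add_card_filter_not (s := C'.next) (fun v => Hits (f'.mv α') v)
    rw [← hZ] at this
    unfold weilExpo
    omega
  rw [← hexp, ← ha]
  refine h.act.trace_chart (C := C') (α := α') (γ := γ) (δ := δ) hψ hok hS ht Z (Finset.filter_subset _ _)
    (fun v hv => (Finset.mem_filter.1 hv).2) (fun p hp hpZ s => ?_)
    hγ hδ ?_
  · have hp1 : p.1 ∈ C'.next := List.mem_toFinset.2 (List.mem_map.2 ⟨p, hp, rfl⟩)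
    rcases hnb p hp with hh | hh
    · exact absurd (Finset.mem_filter.2 ⟨hp1, hh⟩) hpZ
    · exact (Xh_comm h.hc h.hR (h.moR _) (h.moR α') hh s t).map ρ
  · simp only [List.any_eq_true, List.mem_cons, List.not_mem_nil, or_false] at hdec
    obtain ⟨c, hc, h10⟩ := hdec
    refine ⟨-(c : F) * t, ?_⟩
    rw [← map_mul, ← map_mul, ← map_mul, Xh_one h.hc h.hR (h.moR _) (h.moR _) (h.moR α') h10]
    congr 3
    have hcc : ((c : ℤ) : F) * c = 1 := (sq_sign hc).1
    linear_combination t * hcc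

/-- The step through a Heisenberg radical. -/
theorem heisenberg_step {m' n' : ℕ} {f' : Fam m' n'} {C' : Chart m' n'} {α' γ δ : Fin n'} {θ : ℕ}
    {part : Fin m → ℕ} (hc : HasComm D) (hconn : connCheck D R r₀ k₁ ed = true) (hf : f.check D [θ] = true)
    (hm : memCheck f R R' = true) (hh : heisCheck D f R θ part = true) (hk : cellCheck D f C α dec e = true)
    (hf' : f'.check D [] = true) (hm' : memCheck f' R [] = true)
    (hw : weilCheck D f' C' α' γ δ θ (f.mo α) (e + 1) = true) (β₁ : Fin m)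
    (hα : f.mo α ∈ R') {B T : ℕ} (hlow : LowBound g F R' B)
    (hbig : T ≤ 2 * (Fintype.card F + 1) * ((Fintype.card F - 1) * Fintype.card F ^ e))
    (hmoved : movedTotal (Fintype.card F) f C α ≠
      Fintype.card F ^ (e + 1) + (Fintype.card F - 1) * Fintype.card F ^ weilExpo f' C' α')
    (htot : T ≤ B + cellTotal (Fintype.card F) C + (Fintype.card F - 1) * Fintype.card F ^ (e + 1)) :
    LowBound g F R T := by
  classical
  intro M _ _ _ ρ hne
  obtain ⟨hR, -⟩ := conn (g := g) (F := F) hc hconn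
  obtain ⟨homR, hmoR, -⟩ := mem_of_check hm
  obtain ⟨homR', hmoR', -⟩ := mem_of_check hm'
  simp only [heisCheck, Bool.and_eq_true, List.all_eq_true, List.mem_finRange, forall_const,
    List.contains_iff_mem, List.any_eq_true, List.mem_cons, List.not_mem_nil, or_false] at hh
  obtain ⟨⟨hθ, hw1⟩, hi1⟩ := hh
  obtain ⟨ψ, hψ⟩ := Fintype.exists_ne_of_one_lt_card
    (by rw [AddChar.card_eq]; exact Fintype.one_lt_card) (1 : AddChar F ℂ)
  have hq1 : 1 < (Fintype.card F) := Fintype.one_lt_card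
  have hqC : ((Fintype.card F) : ℂ) ≠ 0 := by exact_mod_cast (show (Fintype.card F) ≠ 0 by omega)
  have hq1C : ((Fintype.card F) : ℂ) - 1 ≠ 0 := sub_ne_zero.2 (by exact_mod_cast (show (Fintype.card F) ≠ 1 by omega))
  let Z : F → Module.End ℂ M := fun s => ρ (Xh g R θ s)
  have hZadd : ∀ s t, Z (s + t) = Z s * Z t := fun s t => by simp only [Z, Xh_add, map_mul]
  set P := fixProj Z with hPdef
  have hcomθ : ∀ r ∈ R, commPairB D r θ = true → ∀ t : F, Commute (ρ (Xh g R r t)) P := fun r hr hp t =>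
    commute_fixProj (Equiv.refl F) fun s => ((Xh_comm hc hR hr hθ hp t s).map ρ).eq
  have htor : ∀ r, r < D.nroots → ∀ c : Fˣ, Commute (ρ (Hh g R r c)) P := fun r hr c =>
    commute_fixProj (Equiv.mulLeft₀ ((c ^ pair D r θ : Fˣ) : F) (Units.ne_zero _)) fun s => by
      show _ = ρ (Xh g R θ (((c ^ pair D r θ : Fˣ) : F) * s)) * _
      rw [← map_mul, ← map_mul, ← Hh_conj hc hR hr hθ, inv_mul_cancel_right]
  have h : Env f [θ] ρ P :=
    ⟨hc, hR, hf, homR, hmoR, by simpa using hθ, EigProj.isIdem hZadd 1,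
      fun w t => hcomθ _ (homR w) (hw1 w).1.1.2 t, fun i t => hcomθ _ (hmoR i) (hi1 i) t, htor,
      fun k hk t => by obtain rfl := List.mem_singleton.1 hk; exact fixProj_absorb hZadd t⟩
  set χ := LinearMap.trace ℂ M (ρ (Xh g R θ 1)) with hχ
  have hconst := const_trace (g := g) hc hconn ρ hθ
  obtain ⟨a, ha⟩ : ∃ a : ℕ, LinearMap.trace ℂ M P = (a : ℂ) := ⟨_, trace_idem (EigProj.isIdem hZadd 1)⟩
  have hqa : ((Fintype.card F) : ℂ) * a = finrank ℂ M + (((Fintype.card F) : ℂ) - 1) * χ := by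
    rw [← ha, hPdef, fixProj_eq, map_smul, smul_eq_mul, ← mul_assoc, mul_inv_cancel₀ hqC, one_mul, map_sum,
      ← Finset.add_sum_erase _ _ (Finset.mem_univ (0 : F)),
      Finset.sum_congr rfl fun s hs => hconst θ hθ s (Finset.ne_of_mem_erase hs), Finset.sum_const,
      Finset.card_erase_of_mem (Finset.mem_univ _), Finset.card_univ, nsmul_eq_mul, Nat.cast_sub hq1.le,
      Nat.cast_one]
    simp [Z, Xh_zero, hχ]
  have hXP : ∀ w (t : F), t ≠ 0 → LinearMap.trace ℂ M (ρ (Xh g R (f.om w) t) * P) = χ := by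
    intro w t ht
    obtain ⟨⟨⟨hpR, hpw⟩, hpp⟩, c, hc1, hone⟩ := hw1 w
    have key : ∀ s : F, LinearMap.trace ℂ M (ρ (Xh g R (f.om w) t) * Z s) = χ := fun s => by
      have hct : (c : F) * t ≠ 0 := mul_ne_zero (sq_sign hc1).2 ht
      obtain ⟨u, hu⟩ : ∃ u : F, (c : F) * -t * u = s := ⟨-s / ((c : F) * t), by
        have := (sq_sign (F := F) hc1).2
        field_simp⟩
      have he : Xh g R (part w) u * Xh g R (f.om w) t * (Xh g R (part w) u)⁻¹ =
          Xh g R (f.om w) t * Xh g R θ s := by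
        rw [Xh_one hc hR (homR w) hpR hθ hone t u, hu, mul_assoc (Xh g R (f.om w) t),
          (Xh_comm hc hR hpR hθ hpp u s).eq, ← mul_assoc, mul_inv_cancel_right]
      show LinearMap.trace ℂ M (_ * ρ _) = _
      rw [← map_mul, ← trace_isConj ρ (isConj_iff.2 ⟨_, he⟩)]
      exact hconst _ (homR w) t ht
    rw [hPdef, fixProj_eq, mul_smul_comm, map_smul, Finset.mul_sum, map_sum,
      Finset.sum_congr rfl fun s _ => key s, Finset.sum_const, Finset.card_univ, nsmul_eq_mul, smul_eq_mul,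
      ← mul_assoc, inv_mul_cancel₀ hqC, one_mul]
  obtain ⟨S, hrel, hSa, -, hS⟩ := h.shape hψ hk (β₀ := χ) ha hXP β₁
  have hkey : finrank ℂ M = a + (Fintype.card F) * (((Fintype.card F) - 1) * (Fintype.card F) ^ e * S) := by
    have : (finrank ℂ M : ℂ) = ((a + (Fintype.card F) * (((Fintype.card F) - 1) * (Fintype.card F) ^ e * S) : ℕ) : ℂ) := by
      rw [Nat.cast_add, Nat.cast_mul]
      linear_combination (-1 : ℂ) * hqa - hrel
    exact_mod_cast this
  rcases S with _ | _ | S
  · exfalso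
    refine false_of_max_trace hc hconn ρ hne hθ ?_
    rw [mul_zero, mul_zero, add_zero] at hkey
    rw [mul_zero, Nat.cast_zero, mul_zero, add_zero] at hrel
    rw [hkey]
    exact mul_left_cancel₀ hq1C hrel
  · obtain ⟨htot', htr⟩ := h.totals hψ hk ha hS
    have hh1 : (finrank ℂ M : ℂ) = a + ((Fintype.card F) : ℂ) * ((((Fintype.card F) : ℂ) - 1) * ((Fintype.card F) : ℂ) ^ e) := by
      rw [hkey, zero_add, mul_one, Nat.cast_add, Nat.cast_mul, Nat.cast_mul, Nat.cast_sub hq1.le, Nat.cast_pow,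
        Nat.cast_one]
    have hχ' : χ + ((Fintype.card F) : ℂ) ^ (e + 1) = a := by
      refine mul_left_cancel₀ hq1C ?_
      rw [zero_add, mul_one, Nat.cast_mul, Nat.cast_sub hq1.le, Nat.cast_pow, Nat.cast_one] at hrel
      linear_combination hrel
    have h' : Env f' [] ρ 1 :=
      ⟨hc, hR, hf', homR', hmoR', by simp, one_mul 1, fun _ _ => Commute.one_right _,
        fun _ _ => Commute.one_right _, fun _ _ _ => Commute.one_right _, by simp⟩
    have hcen := trace_centre h' hψ hw (β₀ := χ) (fun t ht => hconst θ hθ t ht)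
      (by linear_combination hh1 - hχ') (t := 1) one_ne_zero
    rw [hconst _ (hmoR α) 1 one_ne_zero, ← hχ] at hcen
    have h1 := htr 1 one_ne_zero
    have hB : B ≤ mlt h.Y ψ 0 := by
      refine fixed_block h hm hα hlow (t := 1) fun he => hmoved ?_
      rw [he, ← Nat.cast_add, ← htot'] at h1
      have : (movedTotal (Fintype.card F) f C α : ℂ) =
          (((Fintype.card F) ^ (e + 1) + ((Fintype.card F) - 1) * (Fintype.card F) ^ weilExpo f' C' α' : ℕ) : ℂ) := by
        rw [Nat.cast_add, Nat.cast_pow]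
        change _ + _ = (a : ℂ) at h1
        linear_combination h1 + hcen - hχ'
      exact_mod_cast this
    rw [pow_succ'] at htot
    have h3 : ((Fintype.card F) - 1) * ((Fintype.card F) * (Fintype.card F) ^ e) = (Fintype.card F) * (((Fintype.card F) - 1) * (Fintype.card F) ^ e * (0 + 1)) := by ring
    omega
  · rw [hkey]
    refine hbig.trans ?_
    calc 2 * ((Fintype.card F) + 1) * (((Fintype.card F) - 1) * (Fintype.card F) ^ e) = ((Fintype.card F) - 1) * (Fintype.card F) ^ e * 2 + (Fintype.card F) * (((Fintype.card F) - 1) * (Fintype.card F) ^ e * 2) := by ring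
      _ ≤ a + (Fintype.card F) * (((Fintype.card F) - 1) * (Fintype.card F) ^ e * (S + 1 + 1)) := by
        have h1 : ((Fintype.card F) - 1) * (Fintype.card F) ^ e * 2 ≤ ((Fintype.card F) - 1) * (Fintype.card F) ^ e * (S + 1 + 1) := Nat.mul_le_mul_left _ (by omega)
        exact Nat.add_le_add (h1.trans hSa) (Nat.mul_le_mul_left (Fintype.card F) h1)

end Level

end CfsgLib.KnownB.MinDeg
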