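import Cfsg.Agent.Lib.KnownB.MinDegFamily

/-!
Dimensions and traces for a family with charts at every coordinate.
-/

set_option autoImplicit false
set_option linter.unusedSectionVars false

namespace CfsgLib.KnownB.MinDeg

open Cfsg.Lie CfsgLib.Chev Module

variable {D : ChevalleyDatum} {m n : ℕ}

/-- The check of one chart. -/
def Chart.check (C : Chart m n) (mv : Fin n → Move m) : Bool :=
  C.lev C.β == 0 &&
  (List.finRange m).all (fun w =>
    (C.lev w != 0 || w == C.β) && ((C.lev w == 1) == (C.nb.map Prod.fst).contains w)) &&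
  decide (C.nb.map Prod.fst).Nodup &&
  C.nb.all (fun p =>
    (mv p.2 C.β).isNone &&
    (match mv p.2 p.1 with | none => false | some (v, _) => v == C.β) &&
    (List.finRange m).all (fun w => C.lev w != 1 || w == p.1 || (mv p.2 w).isNone)) &&
  (List.finRange m).all (fun u =>
    decide (C.lev u < 2) ||
    ((List.finRange m).any (fun w => match mv (C.up u) w with | none => false | some (v, _) => v == u) &&
      (List.finRange m).all (fun w => decide (2 ≤ C.lev w) ||
        match mv (C.up u) w with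
        | none => true
        | some (v, _) => C.lev v == 1 || (decide (2 ≤ C.lev v) && decide (C.lev v < C.lev u)))))

theorem hits_iff {s : Move m} {v : Fin m} :
    Hits s v ↔ (List.finRange m).any (fun w => match s w with | none => false | some (u, _) => u == v) = true := by
  rw [List.any_eq_true]
  constructor
  · rintro ⟨w, hw⟩
    refine ⟨w, List.mem_finRange w, ?_⟩
    rcases hs : s w with _ | ⟨u, c⟩
    · rw [hs] at hw; exact hw.elim
    · rw [hs] at hw; simpa using hw
  · rintro ⟨w, -, hw⟩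
    refine ⟨w, ?_⟩
    rcases hs : s w with _ | ⟨u, c⟩
    · rw [hs] at hw; simp at hw
    · rw [hs] at hw; simpa using hw

theorem Chart.ok_of_check {C : Chart m n} {mv : Fin n → Move m} (hp : ∀ i, Proper (mv i))
    (h : C.check mv = true) : C.OK mv := by
  simp only [Chart.check, Bool.and_eq_true, List.all_eq_true, List.mem_finRange, forall_const,
    Bool.or_eq_true, decide_eq_true_eq, beq_iff_eq, bne_iff_ne, List.contains_eq_mem] at h
  obtain ⟨⟨⟨⟨h1, h2⟩, h3⟩, h4⟩, h5⟩ := h
  refine ⟨h1, fun w hw => ((h2 w).1).resolve_left (fun hh => hh hw), h3, fun w => ?_, hp, fun p hpm => ?_,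
    fun u hu => ?_⟩
  · have h6 := (h2 w).2
    rw [Chart.next, List.mem_toFinset]
    constructor
    · intro hw; simpa [hw] using h6
    · intro hw; simpa [hw] using h6
  · obtain ⟨⟨h7, h8⟩, h9⟩ := h4 p hpm
    refine ⟨Option.isNone_iff_eq_none.1 h7, ?_, fun w hw hne => ?_⟩
    · rcases hr : mv p.2 p.1 with _ | ⟨v, c⟩
      · rw [hr] at h8; simp at h8
      · rw [hr] at h8; simpa using h8
    · rcases h9 w with (h10 | h10) | h10
      · exact absurd hw h10
      · exact absurd h10 hne
      · exact Option.isNone_iff_eq_none.1 h10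
  · obtain ⟨h11, h12⟩ := (h5 u).resolve_left (by omega)
    refine ⟨hits_iff.2 h11, fun w hw => ?_⟩
    have h13 := (h12 w).resolve_left (by omega)
    rcases hr : mv (C.up u) w with _ | ⟨v, c⟩
    · trivial
    · rw [hr] at h13; simpa using h13

/-- The check of the cells and of the traces of one move. -/
def cellCheck (D : ChevalleyDatum) (f : Fam m n) (C : Fin m → Chart m n) (α : Fin n)
    (dec : Fin m → Fin n × Fin n) (e : ℕ) : Bool :=
  (List.finRange m).all fun β =>
    (C β).β == β && (C β).check f.mv && (C β).next.card == e &&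
    ((C β).nb.all fun p => decide (p.1 ≤ β) || (List.finRange m).all fun w => decide (β ≤ w) ||
      match f.mv p.2 w with | none => true | some (v, _) => decide (v < β)) &&
    ((List.finRange m).any (fun w => match f.mv α w with | none => false | some (v, _) => v == β) ||
      (((C β).nb.all fun p => decide (p.1 ≤ β) || commPairB D (f.mo p.2) (f.mo α)) &&
        !(List.finRange m).any (fun w => match f.mv (dec β).1 w with | none => false | some (v, _) => v == β) &&
        !(List.finRange m).any (fun w => match f.mv (dec β).2 w with | none => false | some (v, _) => v == β) &&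
        [1, -1].any (fun c => commOneB D (f.mo (dec β).2) (f.mo (dec β).1) (f.mo α) c)))

/-- The exponent of a cell. -/
def Chart.expo (C : Chart m n) : ℕ := C.after.card

/-- The total over the cells. -/
def cellTotal (q : ℕ) (C : Fin m → Chart m n) : ℕ := ∑ β, (q - 1) * q ^ (C β).expo

/-- The total over the cells moved by a move. -/
def movedTotal (q : ℕ) (f : Fam m n) (C : Fin m → Chart m n) (α : Fin n) : ℕ :=
  ∑ β, if Hits (f.mv α) β then (q - 1) * q ^ (C β).expo else 0

namespace Env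

variable {F : Type*} [Field F] [Fintype F] [DecidableEq F] {g : Good D} {R : List ℕ}
  {M : Type*} [AddCommGroup M] [Module ℂ M] [FiniteDimensional ℂ M]
  {f : Fam m n} {z : List ℕ} {ρ : Representation ℂ ↥(rootTor g F R) M} {E : Module.End ℂ M}
  (h : Env f z ρ E) {ψ : AddChar F ℂ} (hψ : ψ ≠ 1) {C : Fin m → Chart m n} {α : Fin n}
  {dec : Fin m → Fin n × Fin n} {e : ℕ} (hk : cellCheck D f C α dec e = true)
include h hk

theorem chart (β : Fin m) : (C β).β = β ∧ (C β).OK f.mv ∧ (C β).next.card = e ∧ (C β).Ordered f.mv := by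
  simp only [cellCheck, List.all_eq_true, List.mem_finRange, forall_const, Bool.and_eq_true, beq_iff_eq] at hk
  obtain ⟨⟨⟨⟨h1, h2⟩, h3⟩, h4⟩, -⟩ := hk β
  refine ⟨h1, Chart.ok_of_check h.proper h2, h3, fun p hp hlt w hw => ?_⟩
  have h5 := h4 p hp
  simp only [Bool.or_eq_true, decide_eq_true_eq, List.all_eq_true, List.mem_finRange, forall_const] at h5
  rw [h1] at hlt hw ⊢
  have h6 := ((h5.resolve_left (not_le.2 hlt)) w).resolve_left (not_le.2 hw)
  rcases hr : f.mv p.2 w with _ | ⟨v, c⟩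
  · trivial
  · rw [hr] at h6; simpa using h6

theorem unmoved (β : Fin m) (hβ : ¬ Hits (f.mv α) β) :
    (∀ p ∈ (C β).nb, β < p.1 → ∀ s t, Commute (ρ (Xh g R (f.mo p.2) s)) (ρ (Xh g R (f.mo α) t))) ∧
      ¬ Hits (f.mv (dec β).1) β ∧ ¬ Hits (f.mv (dec β).2) β ∧
      ∀ t : F, ∃ u, ρ (Xh g R (f.mo (dec β).1) 1) * ρ (Xh g R (f.mo (dec β).2) u) =
        ρ (Xh g R (f.mo (dec β).2) u) * ρ (Xh g R (f.mo (dec β).1) 1) * ρ (Xh g R (f.mo α) t) := by
  simp only [cellCheck, List.all_eq_true, List.mem_finRange, forall_const, Bool.and_eq_true] at hk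
  obtain ⟨-, h5⟩ := hk β
  rw [Bool.or_eq_true] at h5
  have h6 := h5.resolve_left fun hh => hβ (hits_iff.2 hh)
  simp only [Bool.and_eq_true, List.all_eq_true, Bool.or_eq_true, decide_eq_true_eq, Bool.not_eq_true',
    List.any_eq_true, List.mem_cons, List.not_mem_nil, or_false] at h6
  obtain ⟨⟨⟨h7, h8⟩, h9⟩, c, hc, h10⟩ := h6
  refine ⟨fun p hp hlt s t => ?_, fun hh => ?_, fun hh => ?_, fun t => ?_⟩
  · exact (Xh_comm h.hc h.hR (h.moR _) (h.moR α) ((h7 p hp).resolve_left (not_le.2 hlt)) s t).map ρ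
  · rw [hits_iff.1 hh] at h8; exact Bool.noConfusion h8
  · rw [hits_iff.1 hh] at h9; exact Bool.noConfusion h9
  · refine ⟨-(c : F) * t, ?_⟩
    rw [← map_mul, ← map_mul, ← map_mul, Xh_one h.hc h.hR (h.moR _) (h.moR _) (h.moR α) h10]
    congr 3
    have hcc : ((c : ℤ) : F) * c = 1 := (sq_sign hc).1
    linear_combination t * hcc

include hψ

theorem chart_sum (β : Fin m) :
    ∑ b ∈ chartSet F β, mlt h.Y ψ b =
      (Fintype.card F - 1) * Fintype.card F ^ e * Inv.sliceSum (mlt h.Y ψ) (C β) := by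
  obtain ⟨hβ, hok, hcard, -⟩ := h.chart hk β
  have := (h.act.isInv (ψ := ψ)).sum_chart_all hok
  rw [hβ, hcard] at this
  exact this

/-- The dimensions of a family with constant trace on the root elements. -/
theorem shape {β₀ : ℂ} {a : ℕ} (ha : LinearMap.trace ℂ M E = (a : ℂ))
    (htr : ∀ w (t : F), t ≠ 0 → LinearMap.trace ℂ M (ρ (Xh g R (f.om w) t) * E) = β₀) (β₁ : Fin m) :
    ∃ S : ℕ,
      ((Fintype.card F : ℂ) - 1) * β₀ + (Fintype.card F : ℂ) *
          (((Fintype.card F - 1) * Fintype.card F ^ e * S : ℕ) : ℂ) = ((Fintype.card F : ℂ) - 1) * a ∧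
      (Fintype.card F - 1) * Fintype.card F ^ e * S ≤ a ∧
      (∀ v, v ∈ (C β₁).next → β₁ ∈ (C v).next →
        (Fintype.card F + 1) * ((Fintype.card F - 1) * Fintype.card F ^ e * S) ≤ Fintype.card F * a) ∧
      (∀ β, Inv.sliceSum (mlt h.Y ψ) (C β) = S) := by
  classical
  set q := Fintype.card F with hq
  have hq1 : 1 < q := Fintype.one_lt_card
  have hY0 : LinearMap.trace ℂ M (h.Y 0) = (a : ℂ) := by rw [h.Y_zero, ha]
  have hrel : ∀ β, ((q : ℂ) - 1) * β₀ +
      (q : ℂ) * (((q - 1) * q ^ e * Inv.sliceSum (mlt h.Y ψ) (C β) : ℕ) : ℂ) = ((q : ℂ) - 1) * a := fun β => by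
    rw [← hY0, ← h.chart_sum hψ hk β]
    exact h.act.trace_coord hψ β fun t ht => by rw [h.Y_single]; exact htr β t ht
  have hsum : ∑ b, mlt h.Y ψ b = a := by
    have := h.act.sum_mlt hψ
    rw [hY0] at this
    exact_mod_cast this
  refine ⟨Inv.sliceSum (mlt h.Y ψ) (C β₁), hrel β₁, ?_, fun v hv hv' => ?_, fun β => ?_⟩
  · rw [← h.chart_sum hψ hk β₁, ← hsum]
    exact Finset.sum_le_sum_of_subset (Finset.subset_univ _)
  · have hS : Inv.sliceSum (mlt h.Y ψ) (C v) = Inv.sliceSum (mlt h.Y ψ) (C β₁) := by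
      have h1 := (hrel v).trans (hrel β₁).symm
      have h2 := mul_left_cancel₀ (by exact_mod_cast (show q ≠ 0 by omega) : (q : ℂ) ≠ 0) (add_left_cancel h1)
      exact Nat.eq_of_mul_eq_mul_left (Nat.mul_pos (by omega) (pow_pos (by omega) _)) (Nat.cast_injective h2)
    obtain ⟨hvβ, hvok, hvcard, -⟩ := h.chart hk v
    have h3 := (h.act.isInv (ψ := ψ)).sum_chart hvok {β₁} (Finset.singleton_subset_iff.2 hv')
    rw [hvcard, hvβ, Finset.card_singleton, hS] at h3
    have he : 1 ≤ e := by rw [← hvcard]; exact Finset.card_pos.2 ⟨β₁, hv'⟩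
    have h4 : ∑ b ∈ chartSet F β₁, mlt h.Y ψ b +
        ∑ b ∈ Finset.univ.filter (fun b : Fin m → F => b v ≠ 0 ∧ ∀ u ∈ ({β₁} : Finset (Fin m)), b u = 0),
          mlt h.Y ψ b ≤ a := by
      rw [← hsum, ← Finset.sum_union]
      · exact Finset.sum_le_sum_of_subset (Finset.subset_univ _)
      · refine Finset.disjoint_left.2 fun b hb hb' => (Finset.mem_filter.1 hb).2 ?_
        exact (Finset.mem_filter.1 hb').2.2 β₁ (Finset.mem_singleton_self _)
    rw [h.chart_sum hψ hk β₁, h3] at h4
    obtain ⟨e', rfl⟩ : ∃ e', e = e' + 1 := ⟨e - 1, by omega⟩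
    rw [Nat.add_sub_cancel] at h4
    refine le_trans (le_of_eq ?_) (Nat.mul_le_mul_left q h4)
    ring
  · have h1 := (hrel β).trans (hrel β₁).symm
    have h2 := mul_left_cancel₀ (by exact_mod_cast (show q ≠ 0 by omega) : (q : ℂ) ≠ 0) (add_left_cancel h1)
    exact Nat.eq_of_mul_eq_mul_left (Nat.mul_pos (by omega) (pow_pos (by omega) _)) (Nat.cast_injective h2)

/-- The multiplicity-free case. -/
theorem totals {a : ℕ} (ha : LinearMap.trace ℂ M E = (a : ℂ))
    (h1 : ∀ β, Inv.sliceSum (mlt h.Y ψ) (C β) = 1) :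
    a = mlt h.Y ψ 0 + cellTotal (Fintype.card F) C ∧
      ∀ t : F, t ≠ 0 → LinearMap.trace ℂ M (ρ (Xh g R (f.mo α) t) * E) +
          (movedTotal (Fintype.card F) f C α : ℂ) =
        LinearMap.trace ℂ M (ρ (Xh g R (f.mo α) t) * pr h.Y ψ 0) + (cellTotal (Fintype.card F) C : ℂ) := by
  classical
  have hcell : ∀ β, ∑ b ∈ cell F β, mlt h.Y ψ b = (Fintype.card F - 1) * Fintype.card F ^ (C β).expo := fun β => by
    obtain ⟨hβ, hok, -, hord⟩ := h.chart hk β
    have := h.act.cell_mlt hok (h1 β) hord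
    rwa [hβ] at this
  constructor
  · have h2 := h.act.sum_mlt hψ
    rw [h.Y_zero, ha, sum_cells, Finset.sum_congr rfl fun β _ => hcell β] at h2
    exact_mod_cast h2.symm
  intro t ht
  have h2 : ρ (Xh g R (f.mo α) t) * E = ∑ b, ρ (Xh g R (f.mo α) t) * pr h.Y ψ b := by
    rw [← Finset.mul_sum, h.act.sum_pr hψ, h.Y_zero]
  have hc : ∀ β, ∑ b ∈ cell F β, LinearMap.trace ℂ M (ρ (Xh g R (f.mo α) t) * pr h.Y ψ b) =
      ((if Hits (f.mv α) β then 0 else (Fintype.card F - 1) * Fintype.card F ^ (C β).expo : ℕ) : ℂ) := fun β => by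
    obtain ⟨hβ, hok, -, hord⟩ := h.chart hk β
    have hun := h.unmoved hk β
    have := h.act.trace_cell (C := C β) (α := α) (γ := (dec β).1) (δ := (dec β).2) (t := t) hψ hok (h1 β) hord ht
      (by
        rw [hβ]
        exact fun hn => ⟨fun p hp hlt s => (hun hn).1 p hp hlt s t, (hun hn).2.1, (hun hn).2.2.1, (hun hn).2.2.2 t⟩)
    rwa [hβ] at this
  rw [h2, map_sum, sum_cells, add_assoc]
  congr 1
  rw [Finset.sum_congr rfl fun β _ => hc β, cellTotal, movedTotal, ← Nat.cast_sum, ← Nat.cast_add,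
    ← Finset.sum_add_distrib]
  congr 1
  exact Finset.sum_congr rfl fun β _ => by split_ifs <;> simp

end Env

end CfsgLib.KnownB.MinDeg
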