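import Cfsg.Agent.Lib.KnownB.MinDegLevel

/-!
Reading families and charts from lists.
-/

set_option autoImplicit false

namespace CfsgLib.KnownB.MinDeg

/-- An index from a number. -/
def toFin (m : ℕ) [NeZero m] (i : ℕ) : Fin m := Fin.ofNat m i

/-- A digit of a packed number. -/
def digit (base c k : ℕ) : ℕ := c / base ^ k % base

/-- A family from lists; a move is packed with a digit for each coordinate. -/
def famOf (m n : ℕ) [NeZero m] (om mo : List ℕ) (mv : List ℕ) (tw : List ℕ) : Fam m n where
  om w := om.getD w 0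
  mo i := mo.getD i 0
  mv i w :=
    match digit 256 (mv.getD i 0) w with
    | 0 => none
    | d + 1 => some (toFin m (d / 2), if d % 2 = 0 then 1 else -1)
  tw w := tw.getD w 0

/-- A chart from packed lists. -/
def chartOf (m n : ℕ) [NeZero m] [NeZero n] (c : List ℕ) : Chart m n where
  β := toFin m (c.getD 0 0)
  nb := (List.range (c.getD 1 0)).map fun j =>
    (toFin m (digit 65536 (c.getD 2 0) j / 256), toFin n (digit 65536 (c.getD 2 0) j % 256))
  lev w := digit 4 (c.getD 3 0) w
  up w := toFin n (digit 256 (c.getD 4 0) w)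

/-- Charts from a list. -/
def chartsOf (m n : ℕ) [NeZero m] [NeZero n] (l : List (List ℕ)) (β : Fin m) : Chart m n :=
  chartOf m n (l.getD β [])

/-- Decompositions from a list. -/
def decOf (m n : ℕ) [NeZero n] (l : List (ℕ × ℕ)) (β : Fin m) : Fin n × Fin n :=
  (toFin n (l.getD β (0, 0)).1, toFin n (l.getD β (0, 0)).2)

end CfsgLib.KnownB.MinDeg
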