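import Cfsg.Agent.Lib.KnownB.MinDegTwShort

/-!
Operator families on the fixed vectors: dimensions and traces on the cells.
-/

set_option autoImplicit false
set_option linter.unusedSectionVars false

namespace CfsgLib.KnownB.MinDeg

open Module CfsgLib.Chev CfsgLib.KnownB.D4Deg

variable {K : Type*} [Field K] [Fintype K] {m n : ℕ} {M : Type*} [AddCommGroup M] [Module ℂ M]
  [FiniteDimensional ℂ M]

/-- The transpose of the move of a fixed element. -/
def tlsh (φ : K →+* K) (S : Sym m n) (mv : Fin n → Move m) (i : Fin n) (t : K) (a : Fin m → K) : Fin m → K :=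
  if S.rg i = i then lsh (mv i) (t + φ t) a else lsh (mv i) t (lsh (mv (S.rg i)) ((S.eg i : K) * φ t) a)

theorem tpairing (φ : K →+* K) (S : Sym m n) (mv : Fin n → Move m) (i : Fin n) (t : K) (a b : Fin m → K) :
    ∑ w, b w * tlsh φ S mv i t a w = ∑ w, tmove φ S mv i t b w * a w := by
  rw [tlsh, tmove]
  split_ifs
  · rw [pairing]
  · rw [pairing, pairing]

/-- The hypotheses on an operator family on the fixed vectors. -/
structure TAct (φ : K →+* K) (S : Sym m n) (mv : Fin n → Move m) (Y : (Fin m → K) → Module.End ℂ M)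
    (G : Fin n → K → Module.End ℂ M) : Prop where
  good : S.Good φ mv
  proper : ∀ i, Proper (mv i)
  add : ∀ a b, Y (a + b) = Y a * Y b
  ker : ∀ w t, Y (Pi.single (S.rw' w) ((S.ew w : K) * φ t)) = Y (Pi.single w t)
  inv : ∀ i t, G i t * G i (-t) = 1
  conj : ∀ i t a, G i t * Y a = Y (tlsh φ S mv i t a) * G i t
  tor : ∀ β, S.rw' β = β → ∀ c : K, c ≠ 0 → φ c = c → ∃ x : Fin m → K, (∀ w, x w ≠ 0) ∧ x β = c ∧
    ∃ T T' : Module.End ℂ M, T' * T = 1 ∧ ∀ a, T * Y a = Y (x * a) * T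

theorem add_tmove {φ : K →+* K} {S : Sym m n} {mv : Fin n → Move m} (hp : ∀ i, Proper (mv i))
    (i : Fin n) (hfix : S.rg i = i) (t u : K) (b : Fin m → K) :
    tmove φ S mv i t (tmove φ S mv i u b) = tmove φ S mv i (t + u) b := by
  rw [tmove_eq_fix hfix, tmove_eq_fix hfix, tmove_eq_fix hfix, shear_shear (hp i), map_add]
  congr 1
  ring

namespace TAct

variable {φ : K →+* K} {S : Sym m n} {mv : Fin n → Move m} {Y : (Fin m → K) → Module.End ℂ M}
  {G : Fin n → K → Module.End ℂ M} (hA : TAct φ S mv Y G) {ψ : AddChar K ℂ} (hψ : ψ ≠ 1)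
include hA

theorem trace_pr (b : Fin m → K) : LinearMap.trace ℂ M (pr Y ψ b) = (mlt Y ψ b : ℂ) :=
  trace_idem (EigProj.isIdem hA.add _)

theorem pr_idem (b : Fin m → K) : pr Y ψ b * pr Y ψ b = pr Y ψ b := EigProj.isIdem hA.add _

theorem pr_eq_zero {b : Fin m → K} (h : mlt Y ψ b = 0) : pr Y ψ b = 0 :=
  LinearMap.range_eq_bot.1 (Submodule.finrank_eq_zero.1 h)

theorem conj_pr (i : Fin n) (t : K) (b : Fin m → K) :
    G i t * pr Y ψ (tmove φ S mv i t b) = pr Y ψ b * G i t := by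
  classical
  have hbij : Function.Bijective (tlsh φ S mv i t) := by
    unfold tlsh
    split_ifs
    · exact (lshEquiv (hA.proper i) _).bijective
    · exact (lshEquiv (hA.proper i) _).bijective.comp (lshEquiv (hA.proper _) _).bijective
  simp only [pr, EigProj.proj, mul_smul_comm, smul_mul_assoc, Finset.mul_sum, Finset.sum_mul]
  congr 1
  refine Fintype.sum_equiv (Equiv.ofBijective _ hbij) _ _ fun a => ?_
  show _ = chr ψ b (-tlsh φ S mv i t a) • (Y (tlsh φ S mv i t a) * G i t)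
  rw [hA.conj]
  congr 1
  simp only [chr_apply, Pi.neg_apply, mul_neg, Finset.sum_neg_distrib, tpairing]

theorem pr_tmove (i : Fin n) (t : K) (b : Fin m → K) :
    pr Y ψ (tmove φ S mv i t b) = G i (-t) * pr Y ψ b * G i t := by
  rw [mul_assoc, ← hA.conj_pr, ← mul_assoc]
  have := hA.inv i (-t)
  rw [neg_neg] at this
  rw [this, one_mul]

theorem mlt_tmove (i : Fin n) (t : K) (b : Fin m → K) : mlt Y ψ (tmove φ S mv i t b) = mlt Y ψ b := by
  have h : (mlt Y ψ (tmove φ S mv i t b) : ℂ) = mlt Y ψ b := by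
    rw [← hA.trace_pr, ← hA.trace_pr, hA.pr_tmove, LinearMap.trace_mul_comm, ← mul_assoc, hA.inv, one_mul]
  exact_mod_cast h

include hψ

theorem sum_pr : ∑ b, pr Y ψ b = Y 0 := by
  rw [← sum_proj_eq (Y := Y)]
  exact Fintype.sum_equiv (Equiv.ofBijective _ (chr_bijective hψ)) _ _ fun b => rfl

theorem isTInv (hψφ : ∀ x, ψ (φ x) = ψ x) : TInv φ S mv (mlt Y ψ) := by
  classical
  refine ⟨fun b hb w => ?_, fun i t b => hA.mlt_tmove i t b, fun β hβ c hc hcφ => ?_⟩
  · by_contra hne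
    have hd : (S.ew w : K) * φ (b (S.rw' w)) - b w ≠ 0 := by
      intro h0
      refine hne ?_
      have h1 := congrArg φ (sub_eq_zero.1 h0)
      rw [map_mul, map_intCast, hA.good.invol] at h1
      rw [← h1, ← mul_assoc, sign_sq (hA.good.ew_pm w), one_mul]
    obtain ⟨t, ht⟩ : ∃ t, ψ (((S.ew w : K) * φ (b (S.rw' w)) - b w) * t) ≠ 1 := by
      by_contra h
      push Not at h
      exact AddChar.IsPrimitive.of_ne_one hψ hd (DFunLike.ext _ _ fun t => by
        rw [AddChar.mulShift_apply, AddChar.one_apply]; exact h t)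
    have h1 := EigProj.mul_proj hA.add (chr ψ b) (Pi.single (S.rw' w) ((S.ew w : K) * φ t))
    have h2 := EigProj.mul_proj hA.add (chr ψ b) (Pi.single w t)
    rw [hA.ker, h2] at h1
    have hpr : pr Y ψ b ≠ 0 := fun h0 => hb (by
      rw [mlt, mult]
      rw [pr] at h0
      rw [h0, LinearMap.range_zero, finrank_bot])
    have h3 := (smul_left_injective ℂ hpr h1)
    simp only [chr_apply, Pi.single_apply, mul_ite, mul_zero, Finset.sum_ite_eq', Finset.mem_univ, if_true] at h3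
    refine ht ?_
    rw [sub_mul, sub_eq_add_neg, AddChar.map_add_eq_mul, ← hψφ ((S.ew w : K) * φ (b (S.rw' w)) * t), map_mul φ,
      map_mul φ, map_intCast, hA.good.invol, mul_comm (S.ew w : K) (b (S.rw' w)), mul_assoc, ← h3,
      ← AddChar.map_add_eq_mul, add_neg_cancel, AddChar.map_zero_eq_one]
  obtain ⟨x, hx0, hxβ, T, T', hT, hTY⟩ := hA.tor β hβ c hc hcφ
  refine ⟨x, hx0, hxβ, fun b => ?_⟩
  have h1 : T * pr Y ψ (x * b) = pr Y ψ b * T := by
    simp only [pr, EigProj.proj, mul_smul_comm, smul_mul_assoc, Finset.mul_sum, Finset.sum_mul]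
    congr 1
    refine Fintype.sum_equiv
      (Equiv.piCongrRight fun w => Equiv.mulLeft₀ (x w) (hx0 w)) _ _ fun a => ?_
    show _ = chr ψ b (-(x * a)) • (Y (x * a) * T)
    rw [hTY]
    congr 1
    simp only [chr_apply, Pi.neg_apply, Pi.mul_apply, mul_neg]
    congr 1
    exact Finset.sum_congr rfl fun w _ => by ring
  have h2 : pr Y ψ (x * b) = T' * pr Y ψ b * T := by rw [mul_assoc, ← h1, ← mul_assoc, hT, one_mul]
  have h : (mlt Y ψ (x * b) : ℂ) = mlt Y ψ b := by
    rw [← hA.trace_pr, ← hA.trace_pr, h2, LinearMap.trace_mul_comm, ← mul_assoc, mul_eq_one_comm.1 hT, one_mul]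
  exact_mod_cast h

theorem sum_mlt : ((∑ b, mlt Y ψ b : ℕ) : ℂ) = LinearMap.trace ℂ M (Y 0) := by
  rw [← hA.sum_pr hψ, map_sum, Nat.cast_sum]
  exact Finset.sum_congr rfl fun b _ => (hA.trace_pr b).symm

/-- The traces along a coordinate and the dimension not moved by it. -/
theorem trace_line [DecidableEq K] (v : Fin m) :
    ∑ t : K, LinearMap.trace ℂ M (Y (Pi.single v t)) = (Fintype.card K : ℂ) *
      ((∑ b ∈ Finset.univ.filter (fun b : Fin m → K => ¬ b v ≠ 0), mlt Y ψ b : ℕ) : ℂ) := by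
  have htr : ∀ a, LinearMap.trace ℂ M (Y a) = ∑ b : Fin m → K, chr ψ b a * (mlt Y ψ b : ℂ) := fun a => by
    rw [trace_eq_sum hA.add]
    exact (Fintype.sum_equiv (Equiv.ofBijective _ (chr_bijective hψ)) _ _ fun b => rfl).symm
  rw [Finset.sum_congr rfl fun t _ => htr _, Finset.sum_comm, Nat.cast_sum, Finset.mul_sum, Finset.sum_filter]
  refine Finset.sum_congr rfl fun b _ => ?_
  have hc : ∀ t, chr ψ b (Pi.single v t) = ψ (t * b v) := fun t => by
    simp [chr_apply, Pi.single_apply, mul_comm]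
  rw [← Finset.sum_mul, Finset.sum_congr rfl fun t _ => hc t,
    AddChar.sum_mulShift _ (AddChar.IsPrimitive.of_ne_one hψ)]
  split_ifs <;> simp_all

omit hψ

/-- On a fixed coordinate a scalar of trace zero acts trivially. -/
theorem single_trace_zero {β : Fin m} (hβ : S.rw' β = β) {u : K} (hu : u + φ u = 1) {t : K} (ht : t + φ t = 0) :
    Y (Pi.single β t) = Y 0 := by
  have hk : ∀ z, Y (Pi.single β (φ z)) = Y (Pi.single β z) := fun z => by
    have := hA.ker β z
    rwa [hβ, hA.good.ew_fix β hβ, Int.cast_one, one_mul] at this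
  have hφt : φ t = -t := (neg_eq_of_add_eq_zero_right ht).symm
  have e : (Pi.single β t : Fin m → K) = Pi.single β (u * t) + Pi.single β (-φ (u * t)) := by
    rw [← Pi.single_add, map_mul, hφt]
    congr 1
    linear_combination (-t) * hu
  rw [e, hA.add, ← map_neg, hk, ← hA.add, ← Pi.single_add, add_neg_cancel, Pi.single_zero]

include hψ

/-- The relation between the trace on a fixed coordinate and the dimension moved by it. -/
theorem trace_coord [DecidableEq K] {β : Fin m} (hβ : S.rw' β = β) {q : ℕ} (hq : Fintype.card K = q ^ 2)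
    (hfix : (Finset.univ.filter fun c : K => φ c = c).card = q) {u : K} (hu : u + φ u = 1) {β₀ : ℂ}
    (h : ∀ t : K, t + φ t ≠ 0 → LinearMap.trace ℂ M (Y (Pi.single β t)) = β₀) :
    ((q : ℂ) - 1) * β₀ + (q : ℂ) *
        ((∑ b ∈ Finset.univ.filter (fun b : Fin m → K => b β ≠ 0), mlt Y ψ b : ℕ) : ℂ) =
      ((q : ℂ) - 1) * LinearMap.trace ℂ M (Y 0) := by
  classical
  have hq1 : 1 < q := by
    have := Fintype.one_lt_card (α := K)
    rw [hq] at this
    nlinarith
  obtain ⟨δ, hδ0, hδ⟩ : ∃ δ : K, δ ≠ 0 ∧ φ δ = -δ := by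
    obtain ⟨ω, hω⟩ : ∃ ω, φ ω ≠ ω := by
      by_contra hh
      push Not at hh
      rw [Finset.filter_true_of_mem fun x _ => hh x, Finset.card_univ, hq] at hfix
      nlinarith
    exact ⟨ω - φ ω, sub_ne_zero.2 (Ne.symm hω), by rw [map_sub, hA.good.invol, neg_sub]⟩
  have hker : (Finset.univ.filter fun t : K => t + φ t = 0).card = q := by
    rw [← hfix]
    refine Finset.card_nbij' (fun t => t / δ) (fun c => c * δ) ?_ ?_ ?_ ?_
    · intro t ht
      have ht' := neg_eq_of_add_eq_zero_right (Finset.mem_filter.1 ht).2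
      refine Finset.mem_filter.2 ⟨Finset.mem_univ _, ?_⟩
      rw [map_div₀, ← ht', hδ, neg_div_neg_eq]
    · intro c hc
      refine Finset.mem_filter.2 ⟨Finset.mem_univ _, ?_⟩
      rw [map_mul, (Finset.mem_filter.1 hc).2, hδ]; ring
    · intro t _; exact div_mul_cancel₀ t hδ0
    · intro c _; exact mul_div_cancel_right₀ c hδ0
  have h1 : ∑ t : K, LinearMap.trace ℂ M (Y (Pi.single β t)) =
      (q : ℂ) * LinearMap.trace ℂ M (Y 0) + ((q : ℂ) ^ 2 - q) * β₀ := by
    rw [← Finset.sum_filter_add_sum_filter_not Finset.univ (fun t : K => t + φ t = 0),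
      Finset.sum_congr rfl fun t ht => by rw [hA.single_trace_zero hβ hu (Finset.mem_filter.1 ht).2],
      Finset.sum_const, hker, Finset.sum_congr rfl fun t ht => h t (Finset.mem_filter.1 ht).2, Finset.sum_const,
      nsmul_eq_mul, nsmul_eq_mul]
    have h2 := Finset.card_filter_add_card_filter_not (s := (Finset.univ : Finset K)) (fun t : K => t + φ t = 0)
    rw [hker, Finset.card_univ, hq] at h2
    congr 2
    rw [eq_sub_iff_add_eq, ← Nat.cast_pow, ← Nat.cast_add, Nat.cast_inj, ← h2, add_comm]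
  have h2 := hA.trace_line hψ β
  have h3 := hA.sum_mlt hψ
  rw [← Finset.sum_filter_add_sum_filter_not Finset.univ (fun b : Fin m → K => b β ≠ 0), Nat.cast_add] at h3
  rw [h1, hq, Nat.cast_pow] at h2
  refine mul_left_cancel₀ (show (q : ℂ) ≠ 0 by exact_mod_cast (show q ≠ 0 by omega)) ?_
  linear_combination h2 + (q : ℂ) ^ 2 * h3

omit hψ

/-- A moved vector contributes no trace. -/
theorem trace_moved {i : Fin n} {t : K} {b : Fin m → K} (h : tmove φ S mv i (-t) b ≠ b)
    (hfix : S.rg i = i) (hψ : ψ ≠ 1) : LinearMap.trace ℂ M (G i t * pr Y ψ b) = 0 := by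
  classical
  have h1 : G i t * pr Y ψ b = pr Y ψ (tmove φ S mv i (-t) b) * G i t := by
    conv_lhs => rw [show b = tmove φ S mv i t (tmove φ S mv i (-t) b) by
      rw [add_tmove hA.proper i hfix, add_neg_cancel, tmove_eq_fix hfix, map_zero, add_zero, shear_zero]]
    rw [hA.conj_pr]
  have h2 : chr ψ b ≠ chr ψ (tmove φ S mv i (-t) b) := fun e => h ((chr_bijective hψ).1 e).symm
  rw [← hA.pr_idem b, ← mul_assoc, LinearMap.trace_mul_comm, h1, ← mul_assoc, pr, pr,
    EigProj.proj_mul hA.add, if_neg h2, zero_mul, map_zero]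

/-- A vector with multiplicity one fixed by a commutator of two moves. -/
theorem fixed_base {α γ δ : Fin n} {β : Fin m} {c : K} (t : K)
    (h1 : mlt Y ψ (Pi.single β c) = 1)
    (hγ : ¬ Hits (mv γ) β ∧ ¬ Hits (mv (S.rg γ)) β) (hδ : ¬ Hits (mv δ) β ∧ ¬ Hits (mv (S.rg δ)) β)
    (hcomm : ∃ s u, G γ s * G δ u = G δ u * G γ s * G α t) :
    G α t * pr Y ψ (Pi.single β c) = pr Y ψ (Pi.single β c) := by
  classical
  set P := pr Y ψ (Pi.single β c) with hP
  have hsh : ∀ i, ¬ Hits (mv i) β → ∀ s : K, shear (mv i) s (Pi.single β c) = Pi.single β c := by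
    intro i hi s
    funext w
    rcases hr : mv i w with _ | r
    · exact shear_eq_of_none hr _ _
    have : r.1 ≠ β := fun e => hi ⟨w, by rw [hr]; exact e⟩
    simp [shear, hr, Pi.single_eq_of_ne this]
  have hcom : ∀ i, ¬ Hits (mv i) β ∧ ¬ Hits (mv (S.rg i)) β → ∀ s : K, G i s * P = P * G i s := fun i hi s => by
    have h := hA.conj_pr (ψ := ψ) i s (Pi.single β c)
    have e : tmove φ S mv i s (Pi.single β c) = Pi.single β c := by
      unfold tmove
      split_ifs
      · exact hsh i hi.1 _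
      · rw [hsh i hi.1, hsh _ hi.2]
    rwa [e] at h
  obtain ⟨v, hv0, hv⟩ := finrank_eq_one_iff'.1 (show finrank ℂ (LinearMap.range P) = 1 from h1)
  have hline : ∀ x, ∃ k : ℂ, P x = k • (v : M) := fun x => by
    obtain ⟨k, hk⟩ := hv ⟨P x, x, rfl⟩
    exact ⟨k, (congrArg Subtype.val hk).symm⟩
  have hPv : P v = v := by
    obtain ⟨x, hx⟩ := v.2
    rw [← hx, ← Module.End.mul_apply, hA.pr_idem]
  have hscal : ∀ A : Module.End ℂ M, A * P = P * A → ∃ k : ℂ, ∀ x, A (P x) = k • P x := by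
    intro A hA'
    obtain ⟨k, hk⟩ := hline (A v)
    have hAv : A v = k • (v : M) := by
      rw [← hk]
      conv_lhs => rw [← hPv]
      exact LinearMap.congr_fun hA' v
    refine ⟨k, fun x => ?_⟩
    obtain ⟨l, hl⟩ := hline x
    rw [hl, map_smul, hAv, smul_comm]
  obtain ⟨s, u, hu⟩ := hcomm
  obtain ⟨k, hk⟩ := hscal _ (hcom γ hγ s)
  obtain ⟨l, hl⟩ := hscal _ (hcom δ hδ u)
  have hswap : G γ s * G δ u * P = G δ u * G γ s * P := by
    refine LinearMap.ext fun x => ?_
    simp only [Module.End.mul_apply, hk, hl, map_smul, smul_comm k l]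
  rw [hu, mul_assoc] at hswap
  have hleft : G γ (-s) * G δ (-u) * (G δ u * G γ s) = 1 := by
    have e1 := hA.inv δ (-u)
    have e2 := hA.inv γ (-s)
    rw [neg_neg] at e1 e2
    rw [mul_assoc (G γ (-s)), ← mul_assoc (G δ (-u)), e1, one_mul, e2]
  have h3 := congrArg (fun A => G γ (-s) * G δ (-u) * A) hswap
  rwa [← mul_assoc _ (G δ u * G γ s) (G α t * P), ← mul_assoc _ (G δ u * G γ s) P, hleft, one_mul, one_mul] at h3

include hψ

/-- The cell of a fixed coordinate: dimension, and trace of a fixed move. -/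
theorem cell_sums [DecidableEq K] (hψφ : ∀ x, ψ (φ x) = ψ x) {q : ℕ} (hq : Fintype.card K = q ^ 2)
    (hfix : (Finset.univ.filter fun c : K => φ c = c).card = q) {u : K} (hu : u + φ u = 1)
    {C : Chart m n} (hC : C.TOK S mv) (ho : C.Ordered mv)
    (hsym : ∀ v ∈ C.before, S.rw' v ∈ C.before)
    (h1 : Inv.sliceSum (mlt Y ψ) C = 1) {α γ δ : Fin n} (hα : S.rg α = α) {t : K} (ht : t + φ t ≠ 0)
    (hok : ¬ Hits (mv α) C.β → (∀ p ∈ C.nb, C.β < p.1 → ∀ s, Commute (G p.2 s) (G α t)) ∧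
      (¬ Hits (mv γ) C.β ∧ ¬ Hits (mv (S.rg γ)) C.β) ∧ (¬ Hits (mv δ) C.β ∧ ¬ Hits (mv (S.rg δ)) C.β) ∧
      ∃ s u, G γ s * G δ u = G δ u * G γ s * G α t) :
    ∑ b ∈ cell K C.β, mlt Y ψ b = (q - 1) * q ^ C.after.card ∧
    ∑ b ∈ cell K C.β, LinearMap.trace ℂ M (G α t * pr Y ψ b) =
      ((if Hits (mv α) C.β then 0 else (q - 1) * q ^ C.after.card : ℕ) : ℂ) := by
  classical
  have hI := hA.isTInv hψ hψφ
  have hS := hA.good
  obtain ⟨hbase, hp⟩ := hI.pure_point hS hC hu h1
  have hcount := hI.cell_count hS hC hu hq hfix ho hsym h1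
  refine ⟨hcount, ?_⟩
  split_ifs with hhit
  · rw [Nat.cast_zero]
    refine Finset.sum_eq_zero fun b hb => ?_
    refine hA.trace_moved (hI.tmove_ne hS hC hα hhit ?_ (Finset.mem_filter.1 hb).2.1) hα hψ
    rwa [map_neg, ← neg_add, neg_ne_zero]
  obtain ⟨hcom, hγ, hδ, hdec⟩ := hok hhit
  rw [← hcount, Nat.cast_sum]
  refine Finset.sum_congr rfl fun b hb => ?_
  obtain ⟨hb1, hb2⟩ := (Finset.mem_filter.1 hb).2
  by_cases hne : mlt Y ψ b = 0
  · rw [hA.pr_eq_zero hne, mul_zero, map_zero, hne, Nat.cast_zero]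
  obtain ⟨-, hbeq⟩ := hp b hb1 hne
  have hbV := hI.supp b hne
  have hcφ : φ (b C.β) = b C.β := hbV.fix_val hS hC.fix
  have hc1 : mlt Y ψ (Pi.single C.β (b C.β)) = 1 := by
    obtain ⟨x, -, hxβ, hx⟩ := hI.tor C.β hC.fix _ hb1 hcφ
    have : x * Pi.single C.β 1 = (Pi.single C.β (b C.β) : Fin m → K) := by
      funext w
      rcases eq_or_ne w C.β with rfl | hw
      · simp [hxβ]
      · simp [Pi.single_eq_of_ne hw]
    rw [← this, hx, hbase]
  have hyV : InV φ S (fun v => b v / b C.β) := fun w => by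
    simp only [hbV w, map_div₀, hcφ, mul_div_assoc]
  have hfix' : G α t * pr Y ψ b = pr Y ψ b := by
    rw [hbeq]
    refine TInv.trans_ind hS hC hu hyV (P := fun c => G α t * pr Y ψ c = pr Y ψ c)
      (hA.fixed_base t hc1 hγ hδ hdec) fun p hpm hy s c hc => ?_
    have hlt : C.β < p.1 := by
      rcases lt_trichotomy p.1 C.β with h | h | h
      · exact absurd (hb2 _ h) fun e => hy (by simp [e])
      · exact absurd (h ▸ List.mem_toFinset.2 (List.mem_map.2 ⟨p, hpm, rfl⟩)) (Chart.not_mem_next hC.ok)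
      · exact h
    rw [hA.pr_tmove, ← mul_assoc, ← mul_assoc, (hcom p hpm hlt _).symm.eq, mul_assoc _ (G α t), hc]
  rw [hfix', hA.trace_pr]

end TAct

end CfsgLib.KnownB.MinDeg
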