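import Cfsg.Agent.Lib.KnownB.MinDegTwShape
import Cfsg.Agent.Lib.KnownB.MinDegTwTables

/-!
Verification of the root tables for the twisted group of type `E6`.
-/

set_option autoImplicit false
set_option maxRecDepth 100000
set_option maxHeartbeats 4000000

namespace CfsgLib.KnownB.MinDeg

open Cfsg.Lie CfsgLib.Chev

/-- The facts on the symmetry of the roots. -/
def symRootsCheck (D : ChevalleyDatum) (Rm : ℕ → ℕ) (εm : ℕ → ℤ) : Bool :=
  (List.range D.nroots).all fun r =>
    decide (Rm r < D.nroots) && Rm (Rm r) == r && (εm r == 1 || εm r == -1) && εm (Rm r) == εm r &&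
      commPairB D r (Rm r) && (Rm r != r || εm r == 1)

/-- The check that the torus roots at the bottom respect the top family. -/
def torCheck {m n m' n' : ℕ} (D : ChevalleyDatum) (f : Fam m n) (S : Sym m n) (f' : Fam m' n') (S' : Sym m' n') :
    Bool :=
  (List.finRange m').all (fun w => S'.rw' w != w ||
    (List.finRange m).all fun v => pair D (f'.tw w) (f.om (S.rw' v)) == pair D (f'.tw w) (f.om v)) &&
  (List.finRange m').all (fun w => (List.finRange n).any fun i => f.mo i == f'.om w) &&
  (List.finRange n').all (fun i' => (List.finRange n).any fun i => f.mo i == f'.mo i')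

theorem t6_sym : symRootsCheck chevE6 t6R t6E = true := by decide +kernel

theorem t6_fam : tfamCheck chevE6 t6Fam t6Sym t6R t6E 71 = true := by decide +kernel

theorem t6_charts : tchartCheck t6Fam t6Sym t6Charts 9 = true := by decide +kernel

theorem t6_moved : tmovedCheck chevE6 t6Fam t6Sym t6R t6E t6Charts 29 t6Dec = true := by decide +kernel

theorem t6_short : tshortCheck t6Fam t6Sym t6Charts t6Short = true := by decide +kernel

theorem b6_fam : tfamCheck chevE6 b6Fam b6Sym t6R t6E 71 = true := by decide +kernel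

theorem b6_charts : tchartCheck b6Fam b6Sym b6Charts 4 = true := by decide +kernel

theorem b6_join : joinCheck b6Fam b6Sym b6Quad = true := by decide +kernel

theorem b6_tor : torCheck chevE6 t6Fam t6Sym b6Fam b6Sym = true := by decide +kernel

theorem t6_splitα : splitCheck chevE6 t6R t6E 66 23 60 = true := by decide +kernel

theorem t6_splitθ : splitCheck chevE6 t6R t6E 66 50 71 = true := by decide +kernel

theorem t6_unit : unitCheck chevE6 t6R t6E 66 48 60 71 = true := by decide +kernel

theorem t6_edges : edgesOK chevE6 t6Fixed [71] t6Edges = true := by decide +kernel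

theorem t6_fixed :
    (t6Fixed.all fun r => decide (r < chevE6.nroots) && t6R r == r &&
      ([71] ++ t6Edges.map Prod.fst).contains r) = true ∧
    ((List.range chevE6.nroots).all fun r => t6R r != r || t6Fixed.contains r) = true := by
  constructor <;> decide +kernel

theorem t6_expo : tExpo t6Sym t6Charts = [9, 8, 6, 5, 4, 3, 1, 0] ∧
    tMovedExpo t6Fam t6Sym t6Charts 29 = [9, 8, 6, 5] ∧ tExpo b6Sym b6Charts = [4, 2, 0] := by
  refine ⟨?_, ?_, ?_⟩ <;> decide +kernel

theorem t6_spots : t6Fam.om 2 = 66 ∧ t6Fam.mo 29 = 60 ∧ b6Fam.om 0 = 60 ∧ t6Sym.rw' 0 = 0 ∧ t6Sym.rw' 1 = 1 ∧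
    b6Sym.rw' 0 = 0 ∧ t6R 60 = 60 ∧ t6R 71 = 71 ∧ t6R 66 ≠ 66 ∧ t6Sym.rw' 2 = 3 := by
  refine ⟨?_, ?_, ?_, ?_, ?_, ?_, ?_, ?_, ?_, ?_⟩ <;> decide +kernel

theorem t6_zones :
    (t6Charts 0).before = ∅ ∧ (t6Charts 1).before = {0} ∧
      ({2, 3} : Finset (Fin 20)) ⊆ (t6Charts 0).next ∧ ({2, 3} : Finset (Fin 20)) ⊆ (t6Charts 1).next := by
  refine ⟨?_, ?_, ?_, ?_⟩ <;> decide +kernel

end CfsgLib.KnownB.MinDeg
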