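import Cfsg.Agent.Lib.KnownB.MinDegTwFam

/-!
Conjugations between twisted root elements.
-/

set_option autoImplicit false
set_option linter.unusedSectionVars false

namespace CfsgLib.KnownB.MinDeg

open Cfsg.Lie CfsgLib.Chev Module

variable {D : ChevalleyDatum} {F : Type*} [Field F] (g : Good D)

theorem one_xG (hc : HasComm D) {r s k : ℕ} {M : ℤ} (hr : r < D.nroots) (hs : s < D.nroots) (hk : k < D.nroots)
    (h : commOneB D r s k M = true) (t u : F) :
    g.xG s u * g.xG r t = g.xG r t * g.xG s u * g.xG k ((M : F) * -t * u) := by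
  have h1 := congrArg Subtype.val (Xh_one (g := g) (R := allRoots D) hc (fun r hr => mem_allRoots.1 hr)
    (mem_allRoots.2 hr) (mem_allRoots.2 hs) (mem_allRoots.2 hk) h t u)
  simp only [Subgroup.coe_mul, coe_Xh (g := g) (mem_allRoots.2 hr), coe_Xh (g := g) (mem_allRoots.2 hs),
    coe_Xh (g := g) (mem_allRoots.2 hk)] at h1
  exact h1

variable {g} {φ : F →+* F} {Rm : ℕ → ℕ} {εm : ℕ → ℤ} {Γ : Subgroup (GL D.Idx F)}

/-- The check that a pair of roots sums to a fixed root in both ways. -/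
def splitCheck (D : ChevalleyDatum) (Rm : ℕ → ℕ) (εm : ℕ → ℤ) (c a k : ℕ) : Bool :=
  decide (a < D.nroots) && decide (c < D.nroots) && decide (Rm a < D.nroots) && decide (Rm c < D.nroots) &&
    decide (k < D.nroots) && Rm a != a && Rm c != c && Rm k == k &&
    ([1, -1].any fun M => [1, -1].any fun M' =>
      commOneB D c a k M && commOneB D (Rm c) (Rm a) k M' && M' * εm a * εm c == M) &&
    commPairB D a (Rm c) && commPairB D (Rm a) c && commPairB D a k && commPairB D (Rm a) k && commPairB D c k &&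
    commPairB D (Rm c) k && commPairB D a (Rm a) && commPairB D c (Rm c)

/-- The facts contained in the check. -/
structure SplitPair (D : ChevalleyDatum) (Rm : ℕ → ℕ) (εm : ℕ → ℤ) (c a k : ℕ) : Prop where
  alt : a < D.nroots
  clt : c < D.nroots
  alt' : Rm a < D.nroots
  clt' : Rm c < D.nroots
  klt : k < D.nroots
  ane : Rm a ≠ a
  cne : Rm c ≠ c
  kfix : Rm k = k
  one : ∃ M M' : ℤ, (M = 1 ∨ M = -1) ∧ commOneB D c a k M = true ∧ commOneB D (Rm c) (Rm a) k M' = true ∧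
    M' * εm a * εm c = M
  ac' : commPairB D a (Rm c) = true
  a'c : commPairB D (Rm a) c = true
  ak : commPairB D a k = true
  a'k : commPairB D (Rm a) k = true
  ck : commPairB D c k = true
  c'k : commPairB D (Rm c) k = true
  aa : commPairB D a (Rm a) = true
  cc : commPairB D c (Rm c) = true

theorem splitPair_of_check {c a k : ℕ} (h : splitCheck D Rm εm c a k = true) : SplitPair D Rm εm c a k := by
  simp only [splitCheck, Bool.and_eq_true, decide_eq_true_eq, bne_iff_ne, beq_iff_eq, List.any_eq_true,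
    List.mem_cons, List.not_mem_nil, or_false] at h
  obtain ⟨⟨⟨⟨⟨⟨⟨⟨⟨⟨⟨⟨⟨⟨⟨⟨h1, h2⟩, h3⟩, h4⟩, h5⟩, h6⟩, h7⟩, h8⟩, M, hM, M', -, ⟨hA, hB⟩, hC⟩, h10⟩, h11⟩,
    h12⟩, h13⟩, h14⟩, h15⟩, h16⟩, h17⟩ := h
  exact ⟨h1, h2, h3, h4, h5, h6, h7, h8, ⟨M, M', hM, hA, hB, hC⟩, h10, h11, h12, h13, h14, h15, h16, h17⟩

/-- The check of the roots of a subsystem of unitary type. -/
def unitCheck (D : ChevalleyDatum) (Rm : ℕ → ℕ) (εm : ℕ → ℤ) (v n a z : ℕ) : Bool :=
  decide (v < D.nroots) && decide (n < D.nroots) && decide (Rm v < D.nroots) && decide (Rm n < D.nroots) &&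
    decide (a < D.nroots) && decide (z < D.nroots) && Rm v != v && Rm n != n && Rm a == a && Rm z == z &&
    ([1, -1].any fun M => [1, -1].any fun M₂ => [1, -1].any fun N => [1, -1].any fun N₂ =>
      commOneB D a n v M && commOneB D a (Rm n) (Rm v) M₂ && commOneB D (Rm v) n z N &&
        commOneB D v (Rm n) z N₂ && M₂ * εm n * M == εm v && (εm n == 1 || εm n == -1)) &&
    commPairB D n v && commPairB D (Rm n) (Rm v) && commPairB D a v && commPairB D a (Rm v) && commPairB D n z &&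
    commPairB D (Rm n) z && commPairB D v z && commPairB D (Rm v) z && commPairB D a z && commPairB D (Rm v) v

namespace TwGrp

variable (hT : TwGrp g φ Rm εm Γ)
include hT

/-- The commutator of two twisted root elements. -/
theorem split_comm {c a k : ℕ} (h : SplitPair D Rm εm c a k) : ∃ M : ℤ, (M = 1 ∨ M = -1) ∧ ∀ s u : F,
    txG g φ Rm εm a s * txG g φ Rm εm c u =
      txG g φ Rm εm c u * txG g φ Rm εm a s * g.xG k (-(M : F) * (u * s + φ (u * s))) := by
  obtain ⟨M, M', hM, h1, h2, h3⟩ := h.one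
  refine ⟨M, hM, fun s u => ?_⟩
  rw [txG, txG, if_neg h.ane, if_neg h.cne]
  set A := g.xG a s
  set A' := g.xG (Rm a) ((εm a : F) * φ s)
  set C := g.xG c u
  set C' := g.xG (Rm c) ((εm c : F) * φ u)
  have e1 : A * C = C * A * g.xG k ((M : F) * -u * s) := one_xG g hT.hc h.clt h.alt h.klt h1 u s
  have e2 : A' * C' = C' * A' * g.xG k ((M' : F) * -((εm c : F) * φ u) * ((εm a : F) * φ s)) :=
    one_xG g hT.hc h.clt' h.alt' h.klt h2 _ _
  have k1 : Commute A' C := comm_xG g hT.hc h.alt' h.clt h.a'c _ _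
  have k2 : Commute A C' := comm_xG g hT.hc h.alt h.clt' h.ac' _ _
  have k3 : ∀ z, Commute (g.xG k z) C' := fun z => (comm_xG g hT.hc h.clt' h.klt h.c'k _ _).symm
  have k4 : ∀ z, Commute (g.xG k z) A' := fun z => (comm_xG g hT.hc h.alt' h.klt h.a'k _ _).symm
  have h3' : (M' : F) * εm a * εm c = M := by exact_mod_cast congrArg (Int.cast : ℤ → F) h3
  have e3 : -(M : F) * (u * s + φ (u * s)) =
      (M : F) * -u * s + (M' : F) * -((εm c : F) * φ u) * ((εm a : F) * φ s) := by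
    rw [map_mul]; linear_combination (φ u * φ s) * h3'
  rw [e3, ← g.xG_add]
  set z₁ := g.xG k ((M : F) * -u * s)
  set z₂ := g.xG k ((M' : F) * -((εm c : F) * φ u) * ((εm a : F) * φ s))
  have k3' : Commute z₁ C' := k3 _
  have k4' : Commute z₁ A' := k4 _
  clear_value A A' C C' z₁ z₂
  calc A * A' * (C * C') = A * (A' * C) * C' := by simp only [mul_assoc]
    _ = A * C * (A' * C') := by rw [k1.eq]; simp only [mul_assoc]
    _ = C * A * (z₁ * C') * A' * z₂ := by rw [e1, e2]; simp only [mul_assoc]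
    _ = C * (A * C') * (z₁ * A') * z₂ := by rw [k3'.eq]; simp only [mul_assoc]
    _ = C * C' * (A * A') * (z₁ * z₂) := by rw [k4'.eq, k2.eq]; simp only [mul_assoc]

/-- A fixed multiple inside a pair commutator. -/
theorem split_dec {c a k : ℕ} (h : SplitPair D Rm εm c a k) (t : F) :
    ∃ s u, Tx g φ Rm εm Γ a s * Tx g φ Rm εm Γ c u =
      Tx g φ Rm εm Γ c u * Tx g φ Rm εm Γ a s * Tx g φ Rm εm Γ k t := by
  obtain ⟨M, hM, he⟩ := hT.split_comm h
  refine ⟨1, -(M : F) * t, Subtype.ext ?_⟩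
  simp only [Subgroup.coe_mul, hT.coe_Tx h.alt, hT.coe_Tx h.clt, hT.coe_Tx h.klt, he]
  congr 1
  rw [txG, if_pos h.kfix, mul_one, map_mul φ, map_neg, map_intCast]
  congr 1
  linear_combination (t + φ t) * (sq_sign (F := F) hM).1

/-- A pair element is conjugate to its products with a fixed root element. -/
theorem pair_shift {c a k : ℕ} (h : SplitPair D Rm εm c a k) {t : F} (ht : t ≠ 0) {b : F} (hb : φ b = b)
    {y : ↥Γ} (hy : (y : GL D.Idx F) = g.xG k b) :
    IsConj (Tx g φ Rm εm Γ c t) (Tx g φ Rm εm Γ c t * y) := by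
  obtain ⟨u₀, hu₀⟩ := hT.trace
  obtain ⟨M, hM, he⟩ := hT.split_comm h
  obtain ⟨hMM, hM0⟩ := sq_sign (F := F) hM
  set s := -(M : F) * (u₀ * b) / t
  refine isConj_iff.2 ⟨Tx g φ Rm εm Γ a s, ?_⟩
  rw [mul_inv_eq_iff_eq_mul]
  refine Subtype.ext ?_
  simp only [Subgroup.coe_mul, hT.coe_Tx h.alt, hT.coe_Tx h.clt, hy, he]
  have hts : t * s = -(M : F) * (u₀ * b) := mul_div_cancel₀ _ ht
  have e : -(M : F) * (t * s + φ (t * s)) = b := by
    rw [hts, map_mul φ, map_neg, map_intCast, map_mul φ, hb]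
    linear_combination b * (u₀ + φ u₀) * hMM + b * hu₀
  rw [e, mul_assoc, mul_assoc]
  congr 1
  rw [txG, if_neg h.ane]
  exact ((comm_xG g hT.hc h.alt h.klt h.ak _ _).mul_left (comm_xG g hT.hc h.alt' h.klt h.a'k _ _)).eq

/-- A fixed root element is conjugate to its products with a fixed sum. -/
theorem fixed_shift {c a k : ℕ} {M : ℤ} (hM : M = 1 ∨ M = -1) (hclt : c < D.nroots) (halt : a < D.nroots)
    (hklt : k < D.nroots) (ha : Rm a = a) (h1 : commOneB D c a k M = true)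
    (hak : commPairB D a k = true) {x : F} (hx : x ≠ 0) (hxφ : φ x = x) {b : F} (hb : φ b = b) {w y : ↥Γ}
    (hw : (w : GL D.Idx F) = g.xG c x) (hy : (y : GL D.Idx F) = g.xG k b) : IsConj w (w * y) := by
  set s := -(M : F) * b / x
  have hs : φ s = s := by simp [s, map_div₀, hxφ, hb]
  refine isConj_iff.2 ⟨⟨g.xG a s, hT.fixed_xG_mem halt ha hs⟩, ?_⟩
  rw [mul_inv_eq_iff_eq_mul]
  refine Subtype.ext ?_
  simp only [Subgroup.coe_mul, hw, hy, one_xG g hT.hc hclt halt hklt h1]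
  have e : (M : F) * -x * s = b := by
    simp only [s]; field_simp; linear_combination b * (sq_sign (F := F) hM).1
  rw [e, mul_assoc, mul_assoc, (comm_xG g hT.hc halt hklt hak _ _).eq]

/-- Adjacent fixed root elements are conjugate. -/
theorem isConj_adjacent {s r rn k : ℕ} {M M' : ℤ} (hs : s < D.nroots) (hr : r < D.nroots) (hrn : rn < D.nroots)
    (hk : k < D.nroots) (hfr : Rm r = r) (hfrn : Rm rn = rn) (hM : M = 1 ∨ M = -1) (hM' : M' = 1 ∨ M' = -1)
    (h1 : commOneB D s r k M = true) (h2 : commPairB D rn s = true) (h3 : commOneB D k rn s M' = true)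
    (h4 : commPairB D r k = true) (h5 : commPairB D s k = true) {t τ : F} (ht : t ≠ 0) (hτ : τ ≠ 0)
    (htφ : φ t = t) (hτφ : φ τ = τ) {x y : ↥Γ} (hx : (x : GL D.Idx F) = g.xG s t)
    (hy : (y : GL D.Idx F) = g.xG k τ) : IsConj x y := by
  have e : y * x = x * y := Subtype.ext (by
    simp only [Subgroup.coe_mul, hx, hy]; exact (comm_xG g hT.hc hs hk h5 t τ).eq.symm)
  refine (hT.fixed_shift hM hs hr hk hfr h1 h4 ht htφ hτφ hx hy).trans ?_
  rw [← e]
  exact (hT.fixed_shift hM' hk hrn hs hfrn h3 h2 hτ hτφ htφ hy hx).symm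

/-- A pair element times a fixed element is conjugate to a product of fixed elements with a norm. -/
theorem unit_conj {v n a z : ℕ} (h : unitCheck D Rm εm v n a z = true) :
    ∃ κ : ℤ, (κ = 1 ∨ κ = -1) ∧ ∀ t e : F, φ e = e → e ≠ 0 → ∀ y x : ↥Γ,
      (y : GL D.Idx F) = g.xG a e → (x : GL D.Idx F) = g.xG z ((κ : F) * (t * φ t) / e) →
        IsConj (Tx g φ Rm εm Γ v t * y) (y * x) := by
  simp only [unitCheck, Bool.and_eq_true, decide_eq_true_eq, bne_iff_ne, beq_iff_eq, List.any_eq_true,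
    Bool.or_eq_true, List.mem_cons, List.not_mem_nil, or_false] at h
  obtain ⟨⟨⟨⟨⟨⟨⟨⟨⟨⟨⟨⟨⟨⟨⟨⟨⟨⟨⟨⟨hv, hn⟩, hv'⟩, hn'⟩, ha⟩, hz⟩, hvne⟩, hnne⟩, -⟩, -⟩, M, hM, M₂, hM₂, N, hN, N₂, hN₂,
    ⟨⟨⟨⟨h1, h2⟩, h3⟩, h4⟩, h5⟩, h6⟩, p1⟩, p2⟩, p3⟩, p4⟩, p5⟩, p6⟩, p7⟩, p8⟩, p9⟩, p10⟩ := h
  refine ⟨-(N₂ * εm n * M), ?_, fun t e he he0 y x hy hx => ?_⟩
  · rcases hN₂ with rfl | rfl <;> rcases hM with rfl | rfl <;> rcases h6 with h6 | h6 <;> simp [h6]
  set s := (M : F) * t / e with hs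
  refine isConj_iff.2 ⟨Tx g φ Rm εm Γ n s, ?_⟩
  rw [mul_inv_eq_iff_eq_mul]
  refine Subtype.ext ?_
  simp only [Subgroup.coe_mul, hT.coe_Tx hn, hT.coe_Tx hv, hy, hx, txG, if_neg hvne, if_neg hnne]
  set s' := (εm n : F) * φ s with hs'
  set t' := (εm v : F) * φ t with ht'
  obtain ⟨hMM, -⟩ := sq_sign (F := F) hM
  have hx1 : (M : F) * -e * s = -t := by rw [hs]; field_simp; linear_combination (-t) * hMM
  have h5' : (M₂ : F) * εm n * M = εm v := by exact_mod_cast congrArg (Int.cast : ℤ → F) h5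
  have hφs : φ s = (M : F) * φ t / e := by rw [hs, map_div₀, map_mul φ, map_intCast, he]
  have hx2 : (M₂ : F) * -e * s' = -t' := by
    rw [hs', ht', hφs]; field_simp; linear_combination (-(φ t)) * h5'
  have hc : ((-(N₂ * εm n * M) : ℤ) : F) * (t * φ t) / e = (N₂ : F) * -t * s' := by
    rw [hs', hφs]; push_cast; field_simp
  rw [hc]
  have e1 : g.xG (Rm n) s' * g.xG v t = g.xG v t * g.xG (Rm n) s' * g.xG z ((N₂ : F) * -t * s') :=
    one_xG g hT.hc hv hn' hz h4 t s'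
  have e2 : g.xG n s * g.xG (Rm v) t' = g.xG (Rm v) t' * g.xG n s * g.xG z ((N : F) * -t' * s) :=
    one_xG g hT.hc hv' hn hz h3 t' s
  have e3 : g.xG n s * g.xG a e = g.xG a e * g.xG n s * g.xG v (-t) := by
    rw [← hx1]; exact one_xG g hT.hc ha hn hv h1 e s
  have e4 : g.xG (Rm n) s' * g.xG a e = g.xG a e * g.xG (Rm n) s' * g.xG (Rm v) (-t') := by
    rw [← hx2]; exact one_xG g hT.hc ha hn' hv' h2 e s'
  have e5 : g.xG n s * g.xG (Rm v) (-t') = g.xG (Rm v) (-t') * g.xG n s * g.xG z (-((N : F) * -t' * s)) := by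
    rw [one_xG g hT.hc hv' hn hz h3]; congr 2; ring
  set c₁ := g.xG z ((N₂ : F) * -t * s')
  set c₂ := g.xG z ((N : F) * -t' * s)
  set c₃ := g.xG z (-((N : F) * -t' * s))
  set A := g.xG a e
  set V := g.xG v t
  set V₁ := g.xG v (-t)
  set V' := g.xG (Rm v) t'
  set V'₁ := g.xG (Rm v) (-t')
  set X := g.xG n s
  set X' := g.xG (Rm n) s'
  have cX : Commute X V := comm_xG g hT.hc hn hv p1 _ _
  have cX₁ : Commute X V₁ := comm_xG g hT.hc hn hv p1 _ _
  have cX' : Commute X' V' := comm_xG g hT.hc hn' hv' p2 _ _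
  have cX'₁ : Commute X' V'₁ := comm_xG g hT.hc hn' hv' p2 _ _
  have cA : Commute A V := comm_xG g hT.hc ha hv p3 _ _
  have cA' : Commute A V' := comm_xG g hT.hc ha hv' p4 _ _
  have cVV : Commute V' V₁ := comm_xG g hT.hc hv' hv p10 _ _
  have z1 : ∀ w, Commute (g.xG z w) V' := fun w => (comm_xG g hT.hc hv' hz p8 _ _).symm
  have z2 : ∀ w, Commute (g.xG z w) X' := fun w => (comm_xG g hT.hc hn' hz p6 _ _).symm
  have z3 : ∀ w, Commute (g.xG z w) A := fun w => (comm_xG g hT.hc ha hz p9 _ _).symm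
  have z4 : ∀ w, Commute (g.xG z w) X := fun w => (comm_xG g hT.hc hn hz p5 _ _).symm
  have c1a : Commute c₁ V' := z1 _
  have c1A : Commute c₁ A := z3 _
  have c2a : Commute c₂ X' := z2 _
  have c2A : Commute c₂ A := z3 _
  have c1X : Commute c₁ X := z4 _
  have c1X' : Commute c₁ X' := z2 _
  have c3X' : Commute c₃ X' := z2 _
  have c32 : c₃ * c₂ = 1 := by simp only [c₃, c₂]; rw [g.xG_add, neg_add_cancel, g.xG_zero]
  have cV : V * V₁ = 1 := by simp only [V, V₁]; rw [g.xG_add, add_neg_cancel, g.xG_zero]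
  have cV' : V' * V'₁ = 1 := by simp only [V', V'₁]; rw [g.xG_add, add_neg_cancel, g.xG_zero]
  clear_value A V V₁ V' V'₁ X X' c₁ c₂ c₃
  calc X * X' * (V * V' * A) = X * (X' * V) * (V' * A) := by simp only [mul_assoc]
    _ = X * V * X' * (c₁ * V') * A := by rw [e1]; simp only [mul_assoc]
    _ = X * V * (X' * V') * (c₁ * A) := by rw [c1a.eq]; simp only [mul_assoc]
    _ = (X * V) * (V' * X') * (A * c₁) := by rw [cX'.eq, c1A.eq]
    _ = V * (X * V') * (X' * A) * c₁ := by rw [cX.eq]; simp only [mul_assoc]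
    _ = V * V' * X * (c₂ * X') * A * c₁ := by rw [e2]; simp only [mul_assoc]
    _ = V * V' * X * X' * (c₂ * A) * c₁ := by rw [c2a.eq]; simp only [mul_assoc]
    _ = V * V' * X * (X' * A) * (c₂ * c₁) := by rw [c2A.eq]; simp only [mul_assoc]
    _ = V * V' * (X * A) * X' * V'₁ * (c₂ * c₁) := by rw [e4]; simp only [mul_assoc]
    _ = V * (V' * A) * (X * V₁) * (X' * V'₁) * (c₂ * c₁) := by rw [e3]; simp only [mul_assoc]
    _ = (V * A) * (V' * V₁) * (X * V'₁) * X' * (c₂ * c₁) := by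
        rw [cX₁.eq, cX'₁.eq, ← cA'.eq]; simp only [mul_assoc]
    _ = A * V * V₁ * V' * V'₁ * X * (c₃ * X') * (c₂ * c₁) := by
        rw [← cA.eq, e5]
        rw [cVV.eq]; simp only [mul_assoc]
    _ = A * X * X' * (c₃ * c₂) * c₁ := by
        rw [c3X'.eq]
        simp only [mul_assoc]
        rw [← mul_assoc V V₁, cV, one_mul, ← mul_assoc V' V'₁, cV', one_mul]
    _ = A * c₁ * (X * X') := by
        rw [c32, mul_one, mul_assoc A c₁, (c1X.mul_right c1X').eq]; simp only [mul_assoc]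

end TwGrp

end CfsgLib.KnownB.MinDeg
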