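import Cfsg.Agent.Lib.KnownB.MinDegOrder

/-!
The two values below the minimal degree of the twisted group of type `E6` do not divide its order.
-/

set_option autoImplicit false
set_option maxRecDepth 100000
set_option maxHeartbeats 4000000

namespace CfsgLib.KnownB.MinDeg

theorem degTwE6one_small : ∀ q < 6, 2 ≤ q →
    ¬ q ^ 11 + q ^ 7 + q ^ 5 + q - (q ^ 8 + q ^ 4) - 1 ∣ q ^ 36 * (q ^ 2 - 1) * (q ^ 5 + 1) * (q ^ 6 - 1) * (q ^ 8 - 1) * (q ^ 9 + 1) * (q ^ 12 - 1) := by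
  decide +kernel

theorem degTwE6one_not_dvd {q n : ℕ} (hq : 2 ≤ q) (hn : q ^ 11 + q ^ 7 + q ^ 5 + q = n + 1 + (q ^ 8 + q ^ 4)) :
    ¬ n ∣ q ^ 36 * (q ^ 2 - 1) * (q ^ 5 + 1) * (q ^ 6 - 1) * (q ^ 8 - 1) * (q ^ 9 + 1) * (q ^ 12 - 1) := by
  intro h
  rcases Nat.lt_or_ge q 6 with hlt | hge
  · refine degTwE6one_small q hlt hq ?_
    rwa [hn, Nat.add_sub_cancel, Nat.add_sub_cancel]
  have hx : (6 : ℤ) ≤ q := by exact_mod_cast hge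
  have h' := Int.natCast_dvd_natCast.2 h
  have hn' := congrArg (Nat.cast : ℕ → ℤ) hn
  push_cast [Nat.one_le_pow 2 q (by omega), Nat.one_le_pow 6 q (by omega), Nat.one_le_pow 8 q (by omega),
    Nat.one_le_pow 12 q (by omega)] at h' hn'
  generalize (q : ℤ) = x at h' hn' hx
  rw [show (n : ℤ) = x ^ 11 - x ^ 8 + x ^ 7 + x ^ 5 - x ^ 4 + x - 1 by linear_combination -hn'] at h'
  have hpos : (0 : ℤ) < x ^ 4 - x ^ 2 + 1 := by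
    have e0 : (1 : ℤ) ≤ 1 := le_rfl
    have e1 : (6 : ℤ) ≤ x := by
      nlinarith [mul_le_mul e0 hx (by norm_num) (le_trans (by norm_num) e0)]
    have e2 : (35 : ℤ) ≤ x ^ 2 - 1 := by
      nlinarith [mul_le_mul e1 hx (by norm_num) (le_trans (by norm_num) e1)]
    have e3 : (210 : ℤ) ≤ x ^ 3 - x := by
      nlinarith [mul_le_mul e2 hx (by norm_num) (le_trans (by norm_num) e2)]
    have e4 : (1261 : ℤ) ≤ x ^ 4 - x ^ 2 + 1 := by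
      nlinarith [mul_le_mul e3 hx (by norm_num) (le_trans (by norm_num) e3)]
    linarith
  have hcop : IsCoprime (x ^ 11 - x ^ 8 + x ^ 7 + x ^ 5 - x ^ 4 + x - 1) (x ^ 36) :=
    IsCoprime.pow_right ⟨-1, x ^ 10 - x ^ 7 + x ^ 6 + x ^ 4 - x ^ 3 + 1, by ring⟩
  simp only [mul_assoc] at h'
  have h0 := hcop.dvd_of_dvd_mul_left h'
  obtain ⟨c, hc⟩ := h0
  have h1 : (x ^ 7 + x ^ 5 - x ^ 4 + x ^ 3 - x ^ 2 + x - 1) ∣ 1 * ((x ^ 8 + x ^ 6 - x ^ 2 - 1) * ((x ^ 2 - 1) * ((x ^ 5 + 1) * ((x ^ 6 - 1) * ((x ^ 8 - 1) * ((x ^ 9 + 1) * (1))))))) := by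
    refine ⟨c, mul_left_cancel₀ hpos.ne' ?_⟩
    linear_combination hc
  replace h1 := dvd_step h1 (u := 3 * x ^ 7 + 4 * x ^ 6 + 6 * x ^ 5 + x ^ 4 - x ^ 3 + x ^ 2 - 4 * x - 3) (v := -3 * x ^ 6 - 4 * x ^ 5 - 6 * x ^ 4 + 2 * x ^ 3 + 2 * x ^ 2 + x - 4) (R := 7) (by ring)
  replace h1 := dvd_step h1 (u := 4 * x + 3) (v := -4 * x ^ 6 - 3 * x ^ 5 - 8 * x ^ 4 - 2 * x ^ 3 - 9 * x ^ 2 - x - 10) (R := 7) (by ring)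
  replace h1 := dvd_step h1 (u := -3 * x ^ 4 + 3 * x ^ 3 + 4 * x ^ 2 - 4 * x - 3) (v := 3 * x ^ 6 - 3 * x ^ 5 - x ^ 4 - 2 * x ^ 3 + 5 * x ^ 2 - x + 4) (R := 7) (by ring)
  replace h1 := dvd_step h1 (u := 6 * x ^ 5 + x ^ 4 - x ^ 3 + x ^ 2 - x + 1) (v := -6 * x ^ 6 - x ^ 5 - 5 * x ^ 4 + 4 * x ^ 3 - 3 * x ^ 2 + 2 * x - 8) (R := 7) (by ring)
  replace h1 := dvd_step h1 (u := x ^ 7 - x ^ 6 + x ^ 5 - x ^ 4 + x ^ 3 + 6 * x ^ 2 + x - 1) (v := -x ^ 6 + x ^ 5 - 2 * x ^ 4 + 3 * x ^ 3 - 4 * x ^ 2 - 2 * x - 6) (R := 7) (by ring)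
  replace h1 := dvd_step h1 (u := -4 * x ^ 8 - 3 * x ^ 7 + 3 * x ^ 6 + 4 * x ^ 5 - 4 * x ^ 4 - 3 * x ^ 3 + 3 * x ^ 2 - 3 * x - 4) (v := 4 * x ^ 6 + 3 * x ^ 5 + x ^ 4 - 5 * x ^ 3 + 2 * x ^ 2 + x + 3) (R := 7) (by ring)
  norm_num only at h1
  have e0 : (1 : ℤ) ≤ 1 := le_rfl
  have e1 : (6 : ℤ) ≤ x := by
    nlinarith [mul_le_mul e0 hx (by norm_num) (le_trans (by norm_num) e0)]
  have e2 : (37 : ℤ) ≤ x ^ 2 + 1 := by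
    nlinarith [mul_le_mul e1 hx (by norm_num) (le_trans (by norm_num) e1)]
  have e3 : (221 : ℤ) ≤ x ^ 3 + x - 1 := by
    nlinarith [mul_le_mul e2 hx (by norm_num) (le_trans (by norm_num) e2)]
  have e4 : (1327 : ℤ) ≤ x ^ 4 + x ^ 2 - x + 1 := by
    nlinarith [mul_le_mul e3 hx (by norm_num) (le_trans (by norm_num) e3)]
  have e5 : (7961 : ℤ) ≤ x ^ 5 + x ^ 3 - x ^ 2 + x - 1 := by
    nlinarith [mul_le_mul e4 hx (by norm_num) (le_trans (by norm_num) e4)]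
  have e6 : (47767 : ℤ) ≤ x ^ 6 + x ^ 4 - x ^ 3 + x ^ 2 - x + 1 := by
    nlinarith [mul_le_mul e5 hx (by norm_num) (le_trans (by norm_num) e5)]
  have e7 : (286601 : ℤ) ≤ x ^ 7 + x ^ 5 - x ^ 4 + x ^ 3 - x ^ 2 + x - 1 := by
    nlinarith [mul_le_mul e6 hx (by norm_num) (le_trans (by norm_num) e6)]
  have h2 := Int.le_of_dvd (by norm_num) h1
  omega

theorem degTwE6two_small : ∀ q < 76, 2 ≤ q →
    ¬ q ^ 11 + q ^ 7 + q ^ 5 + q - (q ^ 8 + q ^ 4) - 2 ∣ q ^ 36 * (q ^ 2 - 1) * (q ^ 5 + 1) * (q ^ 6 - 1) * (q ^ 8 - 1) * (q ^ 9 + 1) * (q ^ 12 - 1) := by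
  decide +kernel

theorem degTwE6two_not_dvd {q n : ℕ} (hq : 2 ≤ q) (hn : q ^ 11 + q ^ 7 + q ^ 5 + q = n + 2 + (q ^ 8 + q ^ 4)) :
    ¬ n ∣ q ^ 36 * (q ^ 2 - 1) * (q ^ 5 + 1) * (q ^ 6 - 1) * (q ^ 8 - 1) * (q ^ 9 + 1) * (q ^ 12 - 1) := by
  intro h
  rcases Nat.lt_or_ge q 76 with hlt | hge
  · refine degTwE6two_small q hlt hq ?_
    rwa [hn, Nat.add_sub_cancel, Nat.add_sub_cancel]
  have hx : (76 : ℤ) ≤ q := by exact_mod_cast hge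
  have h' := Int.natCast_dvd_natCast.2 h
  have hn' := congrArg (Nat.cast : ℕ → ℤ) hn
  push_cast [Nat.one_le_pow 2 q (by omega), Nat.one_le_pow 6 q (by omega), Nat.one_le_pow 8 q (by omega),
    Nat.one_le_pow 12 q (by omega)] at h' hn'
  generalize (q : ℤ) = x at h' hn' hx
  rw [show (n : ℤ) = x ^ 11 - x ^ 8 + x ^ 7 + x ^ 5 - x ^ 4 + x - 2 by linear_combination -hn'] at h'
  have hpos : (0 : ℤ) < x - 1 := by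
    have e0 : (1 : ℤ) ≤ 1 := le_rfl
    have e1 : (75 : ℤ) ≤ x - 1 := by
      nlinarith [mul_le_mul e0 hx (by norm_num) (le_trans (by norm_num) e0)]
    linarith
  simp only [mul_assoc] at h'
  obtain ⟨c₀, hc₀⟩ := h'
  have hpow : ∀ (j : ℕ) (y : ℤ), (x ^ 11 - x ^ 8 + x ^ 7 + x ^ 5 - x ^ 4 + x - 2) ∣ x ^ j * y → (x ^ 11 - x ^ 8 + x ^ 7 + x ^ 5 - x ^ 4 + x - 2) ∣ 2 ^ j * y := by
    intro j
    induction j with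
    | zero => intro y hy; simpa using hy
    | succ j ih =>
      intro y hy
      rw [pow_succ (n := j) (a := x), mul_assoc (x ^ j)] at hy
      rw [pow_succ (n := j) (a := (2 : ℤ)), mul_assoc ((2 : ℤ) ^ j)]
      obtain ⟨c, hc⟩ := ih (x * y) hy
      exact ⟨(x ^ 10 - x ^ 7 + x ^ 6 + x ^ 4 - x ^ 3 + 1) * c - 2 ^ j * y, by linear_combination (x ^ 10 - x ^ 7 + x ^ 6 + x ^ 4 - x ^ 3 + 1) * hc⟩
  have h0 := hpow 36 _ ⟨c₀, hc₀⟩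
  obtain ⟨c, hc⟩ := h0
  have h1 : (x ^ 10 + x ^ 9 + x ^ 8 + x ^ 6 + x ^ 5 + 2 * x ^ 4 + x ^ 3 + x ^ 2 + x + 2) ∣ 2 ^ 36 * ((x + 1) * ((x ^ 5 + 1) * ((x ^ 6 - 1) * ((x ^ 8 - 1) * ((x ^ 9 + 1) * ((x ^ 12 - 1) * (1))))))) := by
    refine ⟨c, mul_left_cancel₀ hpos.ne' ?_⟩
    linear_combination hc
  replace h1 := dvd_step h1 (u := 1) (v := -x ^ 9 - x ^ 7 + x ^ 6 - 2 * x ^ 5 + x ^ 4 - 3 * x ^ 3 + 2 * x ^ 2 - 3 * x + 2) (R := 4) (by ring)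
  replace h1 := dvd_step h1 (u := -5 * x ^ 4 + x ^ 3 - 9 * x ^ 2 - 7 * x + 19) (v := 5 * x ^ 9 + 4 * x ^ 8 + 13 * x ^ 7 + 15 * x ^ 6 + 2 * x ^ 5 - 13 * x ^ 4 - 5 * x ^ 3 + 6 * x ^ 2 - 5 * x + 6) (R := 44) (by ring)
  replace h1 := dvd_step h1 (u := -13 * x ^ 5 - 10 * x ^ 4 + 11 * x ^ 3 + 14 * x ^ 2 - x + 2) (v := 13 * x ^ 9 + 23 * x ^ 8 + 12 * x ^ 7 - 15 * x ^ 6 - 11 * x ^ 5 + 8 * x ^ 4 + 37 * x ^ 3 + 29 * x ^ 2 - 32) (R := 36) (by ring)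
  replace h1 := dvd_step h1 (u := 2 * x ^ 7 - x ^ 6 + 8 * x ^ 5 - 7 * x ^ 4 + 2 * x ^ 3 - x ^ 2 - 16 * x + 17) (v := -2 * x ^ 9 - x ^ 8 - 9 * x ^ 7 - 5 * x ^ 5 + 5 * x ^ 4 + 4 * x ^ 3 - x ^ 2 - 15 * x - 14) (R := 48) (by ring)
  replace h1 := dvd_step h1 (u := x ^ 8 + x ^ 7 - x ^ 6 - x ^ 5 - x ^ 4 + x ^ 3 + x ^ 2 - x + 1) (v := -x ^ 9 - 2 * x ^ 8 - x ^ 7 + x ^ 6 + 2 * x ^ 5 - x ^ 4 - 3 * x ^ 3 - 2 * x ^ 2 + x + 2) (R := 4) (by ring)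
  replace h1 := dvd_step h1 (u := -22 * x ^ 11 - x ^ 10 + 20 * x ^ 9 + 5 * x ^ 8 + 26 * x ^ 7 - 25 * x ^ 6 - 4 * x ^ 5 - 19 * x ^ 4 + 2 * x ^ 3 + 23 * x ^ 2 - 28 * x + 29) (v := 22 * x ^ 9 + 23 * x ^ 8 + 3 * x ^ 7 - 24 * x ^ 6 - 29 * x ^ 5 + 17 * x ^ 4 + 28 * x ^ 3 + 47 * x ^ 2 - 27 * x - 14) (R := 72) (by ring)
  norm_num only at h1
  have e0 : (1 : ℤ) ≤ 1 := le_rfl
  have e1 : (77 : ℤ) ≤ x + 1 := by
    nlinarith [mul_le_mul e0 hx (by norm_num) (le_trans (by norm_num) e0)]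
  have e2 : (5853 : ℤ) ≤ x ^ 2 + x + 1 := by
    nlinarith [mul_le_mul e1 hx (by norm_num) (le_trans (by norm_num) e1)]
  have e3 : (444828 : ℤ) ≤ x ^ 3 + x ^ 2 + x := by
    nlinarith [mul_le_mul e2 hx (by norm_num) (le_trans (by norm_num) e2)]
  have e4 : (33806929 : ℤ) ≤ x ^ 4 + x ^ 3 + x ^ 2 + 1 := by
    nlinarith [mul_le_mul e3 hx (by norm_num) (le_trans (by norm_num) e3)]
  have e5 : (2569326605 : ℤ) ≤ x ^ 5 + x ^ 4 + x ^ 3 + x + 1 := by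
    nlinarith [mul_le_mul e4 hx (by norm_num) (le_trans (by norm_num) e4)]
  have e6 : (195268821982 : ℤ) ≤ x ^ 6 + x ^ 5 + x ^ 4 + x ^ 2 + x + 2 := by
    nlinarith [mul_le_mul e5 hx (by norm_num) (le_trans (by norm_num) e5)]
  have e7 : (14840430470633 : ℤ) ≤ x ^ 7 + x ^ 6 + x ^ 5 + x ^ 3 + x ^ 2 + 2 * x + 1 := by
    nlinarith [mul_le_mul e6 hx (by norm_num) (le_trans (by norm_num) e6)]
  have e8 : (1127872715768109 : ℤ) ≤ x ^ 8 + x ^ 7 + x ^ 6 + x ^ 4 + x ^ 3 + 2 * x ^ 2 + x + 1 := by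
    nlinarith [mul_le_mul e7 hx (by norm_num) (le_trans (by norm_num) e7)]
  have e9 : (85718326398376285 : ℤ) ≤ x ^ 9 + x ^ 8 + x ^ 7 + x ^ 5 + x ^ 4 + 2 * x ^ 3 + x ^ 2 + x + 1 := by
    nlinarith [mul_le_mul e8 hx (by norm_num) (le_trans (by norm_num) e8)]
  have e10 : (6514592806276597662 : ℤ) ≤ x ^ 10 + x ^ 9 + x ^ 8 + x ^ 6 + x ^ 5 + 2 * x ^ 4 + x ^ 3 + x ^ 2 + x + 2 := by
    nlinarith [mul_le_mul e9 hx (by norm_num) (le_trans (by norm_num) e9)]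
  have h2 := Int.le_of_dvd (by norm_num) h1
  omega

end CfsgLib.KnownB.MinDeg
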