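import Cfsg.Agent.Lib.KnownB.MinDegTwShape

/-!
Sums along trace and norm fibres, conjugacy of fixed root elements, and the bottom bound.
-/

set_option autoImplicit false
set_option linter.unusedSectionVars false

namespace CfsgLib.KnownB.MinDeg

open Cfsg.Lie CfsgLib.Chev CfsgLib.KnownB.D4Deg Module

variable {K : Type*} [Field K] [Fintype K] [DecidableEq K] {φ : K →+* K} {q : ℕ}

/-- The fixed scalars. -/
def fixSet (φ : K →+* K) : Finset K := Finset.univ.filter fun c => φ c = c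

theorem sum_trace (hφ : ∀ x, φ (φ x) = x) (hq : Fintype.card K = q ^ 2) (hfix : (fixSet φ).card = q) {u : K}
    (hu : u + φ u = 1) {R : Type*} [AddCommMonoid R] (h : K → R) :
    ∑ s : K, h (s + φ s) = q • ∑ c ∈ fixSet φ, h c := by
  have hmaps : ∀ s ∈ (Finset.univ : Finset K), s + φ s ∈ fixSet φ := fun s _ =>
    Finset.mem_filter.2 ⟨Finset.mem_univ _, by rw [map_add, hφ, add_comm]⟩
  have hfib : ∀ c ∈ fixSet φ, (Finset.univ.filter fun s : K => s + φ s = c).card =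
      (Finset.univ.filter fun s : K => s + φ s = 0).card := fun c hc => by
    obtain ⟨t, ht⟩ := exists_half hu (Finset.mem_filter.1 hc).2
    refine Finset.card_nbij' (· - t) (· + t) ?_ ?_ (fun a _ => sub_add_cancel a t) fun a _ => add_sub_cancel_right a t
    · intro a ha
      refine Finset.mem_filter.2 ⟨Finset.mem_univ _, ?_⟩
      rw [map_sub]
      linear_combination (Finset.mem_filter.1 ha).2 - ht
    · intro a ha
      refine Finset.mem_filter.2 ⟨Finset.mem_univ _, ?_⟩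
      rw [map_add]
      linear_combination (Finset.mem_filter.1 ha).2 + ht
  have hq0 : q ≠ 0 := fun h0 => by simp [h0] at hq
  have hn := Finset.card_eq_sum_card_fiberwise hmaps
  rw [Finset.card_univ, hq, Finset.sum_congr rfl hfib, Finset.sum_const, hfix, smul_eq_mul, sq] at hn
  rw [← Finset.sum_fiberwise_of_maps_to hmaps, Finset.smul_sum]
  refine Finset.sum_congr rfl fun c hc => ?_
  rw [Finset.sum_congr rfl fun s hs => by rw [(Finset.mem_filter.1 hs).2], Finset.sum_const, hfib c hc,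
    ← Nat.eq_of_mul_eq_mul_left (Nat.pos_of_ne_zero hq0) hn]

theorem sum_norm (hφ : ∀ x, φ (φ x) = x) (hq : Fintype.card K = q ^ 2) (hfix : (fixSet φ).card = q)
    (hsurj : ∀ c, φ c = c → ∃ t, t * φ t = c) {R : Type*} [AddCommMonoid R] (h : K → R) :
    ∑ t ∈ Finset.univ.erase (0 : K), h (t * φ t) = (q + 1) • ∑ c ∈ (fixSet φ).erase 0, h c := by
  have hmaps : ∀ s ∈ Finset.univ.erase (0 : K), s * φ s ∈ (fixSet φ).erase 0 := fun s hs =>
    Finset.mem_erase.2 ⟨mul_ne_zero (Finset.mem_erase.1 hs).1 fun e => (Finset.mem_erase.1 hs).1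
      ((map_eq_zero φ).1 e), Finset.mem_filter.2 ⟨Finset.mem_univ _, by rw [map_mul, hφ, mul_comm]⟩⟩
  have hfib : ∀ c ∈ (fixSet φ).erase 0, ((Finset.univ.erase (0 : K)).filter fun s => s * φ s = c).card =
      ((Finset.univ.erase (0 : K)).filter fun s => s * φ s = 1).card := fun c hc => by
    obtain ⟨hc0, hc'⟩ := Finset.mem_erase.1 hc
    obtain ⟨t, ht⟩ := hsurj c (Finset.mem_filter.1 hc').2
    have ht0 : t ≠ 0 := fun e => hc0 (by rw [← ht, e, zero_mul])
    refine Finset.card_nbij' (· / t) (· * t) ?_ ?_ (fun a _ => div_mul_cancel₀ a ht0)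
      fun a _ => mul_div_cancel_right₀ a ht0
    · intro a ha
      obtain ⟨h1, h2⟩ := Finset.mem_filter.1 ha
      refine Finset.mem_filter.2 ⟨Finset.mem_erase.2 ⟨div_ne_zero (Finset.mem_erase.1 h1).1 ht0, Finset.mem_univ _⟩, ?_⟩
      rw [map_div₀, div_mul_div_comm, h2, ht, div_self hc0]
    · intro a ha
      obtain ⟨h1, h2⟩ := Finset.mem_filter.1 ha
      refine Finset.mem_filter.2 ⟨Finset.mem_erase.2 ⟨mul_ne_zero (Finset.mem_erase.1 h1).1 ht0, Finset.mem_univ _⟩, ?_⟩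
      rw [map_mul, mul_mul_mul_comm, h2, ht, one_mul]
  have hq1 : 1 < q := by
    have := Fintype.one_lt_card (α := K)
    rw [hq] at this
    nlinarith
  have hc1 : ((fixSet φ).erase (0 : K)).card = q - 1 := by
    rw [Finset.card_erase_of_mem (show (0 : K) ∈ fixSet φ from Finset.mem_filter.2 ⟨Finset.mem_univ _, map_zero φ⟩),
      hfix]
  have hn := Finset.card_eq_sum_card_fiberwise hmaps
  rw [Finset.card_erase_of_mem (Finset.mem_univ _), Finset.card_univ, hq, Finset.sum_congr rfl hfib,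
    Finset.sum_const, hc1, smul_eq_mul, show q ^ 2 - 1 = (q - 1) * (q + 1) by
      rw [mul_comm, ← Nat.sq_sub_sq, one_pow]] at hn
  rw [← Finset.sum_fiberwise_of_maps_to hmaps, Finset.smul_sum]
  refine Finset.sum_congr rfl fun c hc => ?_
  rw [Finset.sum_congr rfl fun s hs => by rw [(Finset.mem_filter.1 hs).2], Finset.sum_const, hfib c hc,
    ← Nat.eq_of_mul_eq_mul_left (show 0 < q - 1 by omega) hn]

variable {D : ChevalleyDatum} {g : Good D} {Rm : ℕ → ℕ} {εm : ℕ → ℤ} {Γ : Subgroup (GL D.Idx K)}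

/-- The fixed root elements along a tree are conjugate. -/
theorem isConj_tree (hT : TwGrp g φ Rm εm Γ) {R : List ℕ} (hR : ∀ r ∈ R, r < D.nroots ∧ Rm r = r) {r₀ : ℕ}
    {t₀ : K} (ht₀ : t₀ ≠ 0) (ht₀φ : φ t₀ = t₀) : ∀ (E : List (ℕ × ℕ × ℕ × ℕ)) (seen : List ℕ), edgesOK D R seen E = true →
      (∀ s ∈ seen, s = r₀ ∨ ∀ (τ : K), τ ≠ 0 → φ τ = τ → ∀ x y : ↥Γ, (x : GL D.Idx K) = g.xG r₀ t₀ →
        (y : GL D.Idx K) = g.xG s τ → IsConj x y) →
      ∀ k ∈ E.map Prod.fst, k ≠ r₀ → ∀ (τ : K), τ ≠ 0 → φ τ = τ → ∀ x y : ↥Γ, (x : GL D.Idx K) = g.xG r₀ t₀ →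
        (y : GL D.Idx K) = g.xG k τ → IsConj x y := by
  intro E
  induction E with
  | nil => intro seen _ _ k hk; simp at hk
  | cons e E ih =>
    intro seen hok hseen
    obtain ⟨k, s, r, rn⟩ := e
    simp only [edgesOK, Bool.and_eq_true, List.contains_iff_mem, List.any_eq_true, List.mem_cons,
      List.not_mem_nil, or_false] at hok
    obtain ⟨⟨⟨⟨⟨⟨⟨⟨⟨⟨hs, hsR⟩, hrR⟩, hrnR⟩, hkR⟩, M, hM, h1⟩, M', hM', h3⟩, h2⟩, h4⟩, h5⟩, hrest⟩ := hok
    have hk : ∀ (τ : K), τ ≠ 0 → φ τ = τ → ∀ x y : ↥Γ, (x : GL D.Idx K) = g.xG r₀ t₀ →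
        (y : GL D.Idx K) = g.xG k τ → IsConj x y := by
      intro τ hτ hτφ x y hx hy
      have hz := hT.fixed_xG_mem (hR s hsR).1 (hR s hsR).2 ht₀φ
      have hadj : IsConj (⟨g.xG s t₀, hz⟩ : ↥Γ) y :=
        hT.isConj_adjacent (hR s hsR).1 (hR r hrR).1 (hR rn hrnR).1 (hR k hkR).1 (hR r hrR).2 (hR rn hrnR).2
          hM hM' h1 h2 h3 h4 h5 ht₀ hτ ht₀φ hτφ rfl hy
      rcases hseen s hs with rfl | hc
      · rwa [show x = ⟨g.xG s t₀, hz⟩ from Subtype.ext hx]
      · exact (hc t₀ ht₀ ht₀φ x _ hx rfl).trans hadj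
    intro k' hk'
    rcases List.mem_cons.1 hk' with rfl | hk''
    · exact fun _ => hk
    · refine ih (k :: seen) hrest (fun s' hs' => ?_) k' hk''
      rcases List.mem_cons.1 hs' with rfl | hs''
      · exact Or.inr hk
      · exact hseen s' hs''

variable {m n : ℕ} {f : Fam m n} {S : Sym m n} {M : Type*} [AddCommGroup M] [Module ℂ M] [FiniteDimensional ℂ M]
  {ρ : Representation ℂ ↥Γ M} {θ : ℕ} {E : Module.End ℂ M} {ψ : AddChar K ℂ}

/-- The part fixed by the coordinates is stable under the moves. -/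
theorem zero_commute (hT : TwGrp g φ Rm εm Γ) (hF : TwFam D φ f S Rm εm θ) (hE : TEnv ρ g φ Rm εm θ f S E)
    (i : Fin n) (t : K) :
    Commute (ρ (Tx g φ Rm εm Γ (f.mo i) t)) (pr (twY ρ g φ Rm εm f E) ψ 0) := by
  have h := (tAct hT ρ hF hE).conj_pr (ψ := ψ) i t 0
  have hz : ∀ (s : Move m) (x : K), shear s x (0 : Fin m → K) = 0 := fun s x => funext fun w => by
    rcases hw : s w with _ | p <;> simp [shear, hw]
  rwa [show tmove φ S f.mv i t (0 : Fin m → K) = 0 by unfold tmove; split_ifs <;> simp only [hz]] at h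

/-- The part fixed by the coordinates is stable under a torus. -/
theorem zero_commute_tor (hT : TwGrp g φ Rm εm Γ) (hF : TwFam D φ f S Rm εm θ) {r : ℕ}
    (hpair : ∀ v, pair D r (f.om (S.rw' v)) = pair D r (f.om v)) {u : Kˣ} (huφ : φ u = (u : K)) {h : ↥Γ}
    (hh : (h : GL D.Idx K) = g.hG r u) (hhE : Commute (ρ h) E) :
    Commute (ρ h) (pr (twY ρ g φ Rm εm f E) ψ 0) := by
  classical
  show _ * _ = _ * _
  simp only [pr, EigProj.proj, mul_smul_comm, smul_mul_assoc, Finset.mul_sum, Finset.sum_mul]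
  congr 1
  refine Fintype.sum_equiv
    (Equiv.piCongrRight fun w => Equiv.mulLeft₀ ((u ^ pair D r (f.om w) : Kˣ) : K) (Units.ne_zero _)) _ _
    fun a => ?_
  show _ = chr ψ 0 (-((fun w => ((u ^ pair D r (f.om w) : Kˣ) : K)) * a)) •
    (twY ρ g φ Rm εm f E ((fun w => ((u ^ pair D r (f.om w) : Kˣ) : K)) * a) * ρ h)
  rw [hT.tor_conj ρ hF hpair huφ hh hhE]
  simp [chr_apply]

variable {C : Fin m → Chart m n} {e : ℕ}

/-- A nontrivial module of an abelian family with joined fixed coordinates. -/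
theorem bottom_bound (hT : TwGrp g φ Rm εm Γ) (hF : TwFam D φ f S Rm εm θ) (hE : TEnv ρ g φ Rm εm θ f S E)
    (hψ : ψ ≠ 1) (hψφ : ∀ x, ψ (φ x) = ψ x) (hq : Fintype.card K = q ^ 2) (hfix : (fixSet φ).card = q)
    (hk : tchartCheck f S C e = true) {qd : List (Fin m × Fin m × Fin m × Fin n)} (hj : joinCheck f S qd = true)
    {a : ℕ} (ha : LinearMap.trace ℂ M E = (a : ℂ)) {β₀ : Fin m} {t : K}
    (hne : ρ (Tx g φ Rm εm Γ (f.om β₀) t) * E ≠ E) (hsmall : tTotal q S C ≤ 2 * ((q - 1) * q ^ e)) :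
    tTotal q S C ≤ a := by
  classical
  obtain ⟨u, hu⟩ := hT.trace
  have hA := tAct hT ρ hF hE
  have hI := hA.isTInv hψ hψφ
  have hY0 := twY_zero (ρ := ρ) (E := E) hT hF
  obtain ⟨b, hb, hb0⟩ : ∃ b, mlt (twY ρ g φ Rm εm f E) ψ b ≠ 0 ∧ b ≠ 0 := by
    by_contra hh
    push Not at hh
    have hP : pr (twY ρ g φ Rm εm f E) ψ 0 = E := by
      refine Eq.trans ?_ ((hA.sum_pr hψ).trans hY0)
      exact (Finset.sum_eq_single 0 (fun b _ hb => hA.pr_eq_zero (by_contra fun h => hb (hh b h))) (fun h => absurd (Finset.mem_univ _) h)).symm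
    refine hne ?_
    rw [← twY_single hT hF]
    conv_rhs => rw [← hP]
    rw [← mul_one (twY ρ g φ Rm εm f E (Pi.single β₀ t))]
    have h1 := EigProj.mul_proj hA.add (chr ψ 0) (Pi.single β₀ t)
    simp only [chr_apply, Pi.zero_apply, zero_mul, Finset.sum_const_zero, AddChar.map_zero_eq_one, one_smul] at h1
    rw [mul_one]
    calc twY ρ g φ Rm εm f E (Pi.single β₀ t)
        = twY ρ g φ Rm εm f E (Pi.single β₀ t) * pr (twY ρ g φ Rm εm f E) ψ 0 := by
          rw [hP]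
          have := hA.add (Pi.single β₀ t) 0
          rwa [add_zero, hY0] at this
      _ = pr (twY ρ g φ Rm εm f E) ψ 0 := h1
  have hpos : ∀ β, S.rw' β = β → (C β).β = β ∧
      ∑ c ∈ Finset.univ.filter (fun c : Fin m → K => c β ≠ 0), mlt (twY ρ g φ Rm εm f E) ψ c =
        (q - 1) * q ^ e * Inv.sliceSum (mlt (twY ρ g φ Rm εm f E) ψ) (C β) ∧
      1 ≤ Inv.sliceSum (mlt (twY ρ g φ Rm εm f E) ψ) (C β) := by
    intro β hβ
    obtain ⟨hβ', hC, hcard, -, -⟩ := tchart hA.proper hk hβ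
    have hsum := hI.sum_chart hF.good hC hu hq hfix ∅ (Finset.empty_subset _) (by simp)
    rw [hcard, hβ', Finset.card_empty, Nat.sub_zero] at hsum
    simp only [Finset.notMem_empty, false_imp_iff, implies_true, and_true] at hsum
    refine ⟨hβ', hsum, Nat.one_le_iff_ne_zero.2 fun h0 => ?_⟩
    rw [h0, mul_zero, Finset.sum_eq_zero_iff] at hsum
    obtain ⟨z, hz, hzβ⟩ := join hF.good hA.proper hI hu hj hb hb0 hβ
    exact hz (hsum z (Finset.mem_filter.2 ⟨Finset.mem_univ _, hzβ⟩))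
  have hm := hA.sum_mlt hψ
  rw [hY0, ha, Nat.cast_inj] at hm
  by_cases h1 : ∀ β, S.rw' β = β → Inv.sliceSum (mlt (twY ρ g φ Rm εm f E) ψ) (C β) = 1
  · rw [← hm, sum_cells, tTotal]
    refine le_add_of_nonneg_of_le (Nat.zero_le _) (Finset.sum_le_sum fun β _ => ?_)
    split_ifs with hβ
    · obtain ⟨hβ', hC, -, ho, -⟩ := tchart hA.proper hk hβ
      have := hI.cell_count hF.good hC hu hq hfix ho (before_stable hF.good hA.proper hI hk hβ) (h1 β hβ)
      rw [hβ'] at this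
      exact le_of_eq this.symm
    · exact Nat.zero_le _
  · push Not at h1
    obtain ⟨β, hβ, hne1⟩ := h1
    obtain ⟨-, hsum, hge⟩ := hpos β hβ
    refine hsmall.trans ?_
    rw [← hm, mul_comm 2]
    refine le_trans (le_trans (Nat.mul_le_mul_left _ (show 2 ≤ _ from by omega)) hsum.ge) ?_
    exact Finset.sum_le_sum_of_subset (Finset.subset_univ _)

end CfsgLib.KnownB.MinDeg
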