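import Cfsg.Agent.Lib.KnownB.MinDegTwGroup
import Cfsg.Agent.Lib.KnownB.MinDegTwSums
import Cfsg.Agent.Lib.KnownB.MinDegTwOrder
import Cfsg.Agent.Lib.Chev.TwistHOrders
import Cfsg.Agent.Lib.Classical.UMinDegMain
import Cfsg.Agent.Lib.Char.Integral

/-!
The least degree of a nontrivial representation of the twisted groups of type `E₆`.
-/

set_option autoImplicit false
set_option maxRecDepth 100000
set_option maxHeartbeats 2000000

namespace CfsgLib.KnownB.MinDeg

open Cfsg.Lie CfsgLib.Chev CfsgLib.KnownB.D4Deg Module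

/-- Each fixed coordinate has a fixed partner. -/
theorem t6_partner :
    ((List.finRange 20).all fun β => t6Sym.rw' β != β || (t6Fixed.contains (t6Fam.om β) &&
      t6Fixed.any fun a => commPairB chevE6 a 71 &&
        [1, -1].any fun M => commOneB chevE6 (t6Fam.om β) a 71 M)) = true := by
  decide +kernel

/-- The bound below the minimum and the exceptional values. -/
theorem twE6_num {q : ℕ} (hq : 2 ≤ q) :
    q * (q ^ 6 - q ^ 3 + 1) * (q ^ 4 + 1) ≤ 2 * ((q - 1) * q ^ 9 + q * ((q - 1) * q ^ 9)) ∧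
    q * (q ^ 6 - q ^ 3 + 1) * (q ^ 4 + 1) + (q ^ 8 + q ^ 4) = q ^ 11 + q ^ 7 + q ^ 5 + q ∧
    (q - 1) * (([9, 8, 6, 5] : List ℕ).map (q ^ ·)).sum + q ^ 8 ≠ q ^ 10 + q ^ 7 ∧
    (q - 1) * (([4, 2, 0] : List ℕ).map (q ^ ·)).sum ≤ 2 * ((q - 1) * q ^ 4) ∧
    (q - 1) * (([4, 2, 0] : List ℕ).map (q ^ ·)).sum +
      (q - 1) * (([9, 8, 6, 5, 4, 3, 1, 0] : List ℕ).map (q ^ ·)).sum + q * ((q - 1) * q ^ 9) +
      (q ^ 8 + q ^ 4) + 2 = q ^ 11 + q ^ 7 + q ^ 5 + q := by
  obtain ⟨p, rfl⟩ : ∃ p, q = p + 1 := ⟨q - 1, by omega⟩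
  simp only [Nat.add_sub_cancel, List.map_cons, List.map_nil, List.sum_cons, List.sum_nil]
  have hp : 1 ≤ p := by omega
  have e36 : (p + 1) ^ 3 ≤ (p + 1) ^ 6 := Nat.pow_le_pow_right (by omega) (by norm_num)
  obtain ⟨d, hd⟩ := Nat.exists_eq_add_of_le e36
  rw [show (p + 1) ^ 6 - (p + 1) ^ 3 = d by omega]
  have hT : (p + 1) * (d + 1) * ((p + 1) ^ 4 + 1) + ((p + 1) ^ 8 + (p + 1) ^ 4) =
      (p + 1) ^ 11 + (p + 1) ^ 7 + (p + 1) ^ 5 + (p + 1) := by
    calc _ = (p + 1) * (((p + 1) ^ 3 + d) + 1) * ((p + 1) ^ 4 + 1) := by ring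
      _ = (p + 1) * ((p + 1) ^ 6 + 1) * ((p + 1) ^ 4 + 1) := by rw [← hd]
      _ = _ := by ring
  have h5 : 0 < (p + 1) ^ 5 := Nat.pow_pos (by omega)
  refine ⟨?_, hT, ?_, ?_, ?_⟩
  · have e : 2 * (p * (p + 1) ^ 9 + (p + 1) * (p * (p + 1) ^ 9)) + 2 * (p + 1) ^ 9 = 2 * (p + 1) ^ 11 := by ring
    have a1 : 4 * (p + 1) ^ 9 ≤ (p + 1) ^ 11 := by
      rw [show (p + 1) ^ 11 = (p + 1) ^ 2 * (p + 1) ^ 9 by ring]
      exact Nat.mul_le_mul_right _ (by nlinarith)
    have a2' : 4 * (p + 1) ^ 7 ≤ (p + 1) ^ 9 := by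
      rw [show (p + 1) ^ 9 = (p + 1) ^ 2 * (p + 1) ^ 7 by ring]
      exact Nat.mul_le_mul_right _ (by nlinarith)
    have a3' : 4 * (p + 1) ^ 5 ≤ (p + 1) ^ 7 := by
      rw [show (p + 1) ^ 7 = (p + 1) ^ 2 * (p + 1) ^ 5 by ring]
      exact Nat.mul_le_mul_right _ (by nlinarith)
    have a4 : p + 1 ≤ (p + 1) ^ 5 := Nat.le_self_pow (by norm_num) _
    omega
  · intro h
    have e : p * ((p + 1) ^ 9 + ((p + 1) ^ 8 + ((p + 1) ^ 6 + ((p + 1) ^ 5 + 0)))) + (p + 1) ^ 8 + (p + 1) ^ 5 =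
        (p + 1) ^ 10 + (p + 1) ^ 7 := by ring
    omega
  · have a1 : (p + 1) ^ 2 + 1 ≤ (p + 1) ^ 4 := by
      have : (p + 1) ^ 2 < (p + 1) ^ 4 := Nat.pow_lt_pow_right (by omega) (by norm_num)
      omega
    simp only [pow_zero]
    calc p * ((p + 1) ^ 4 + ((p + 1) ^ 2 + (1 + 0))) ≤ p * (2 * (p + 1) ^ 4) :=
          Nat.mul_le_mul_left _ (by omega)
      _ = _ := by ring
  · ring

variable {K : Type*} [Field K] [Fintype K] {q : ℕ}

/-- The bound for the twisted groups of type `E₆`. -/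
theorem min_degree_twE6 (hq : IsPrimePow q) (hK : Fintype.card K = q ^ 2) {k : ℕ}
    (ρ : Representation ℂ ↥(twistedE6 K q) (Fin k → ℂ)) (hρ : ρ.IsIrreducible) (hk : 2 ≤ k) :
    q * (q ^ 6 - q ^ 3 + 1) * (q ^ 4 + 1) ≤ k := by
  classical
  obtain ⟨φ, hφq, hT, hfix⟩ := exists_twGrp_E6 K hq hK
  have hfix' : (fixSet φ).card = q := hfix
  obtain ⟨u, hu⟩ := hT.trace
  have hφ := hT.invol
  have hq2 : 2 ≤ q := hq.two_le
  have hqC : (q : ℂ) ≠ 0 := by exact_mod_cast (show q ≠ 0 by omega)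
  have hq1C : (q : ℂ) - 1 ≠ 0 := sub_ne_zero.2 (by exact_mod_cast (show q ≠ 1 by omega))
  obtain ⟨hnum1, hnum2, hnum3, hnum4, hnum5⟩ := twE6_num hq2
  obtain ⟨hexp, hmexp, hexp'⟩ := t6_expo
  obtain ⟨hV, hαr, hom0, hr0, hr1, -, -, -, hVne, hr2⟩ := t6_spots
  obtain ⟨hz0, hz1, hzs0, hzs1⟩ := t6_zones
  have hF := twFam_of_check (D := chevE6) hφ t6_fam
  have hF' := twFam_of_check (D := chevE6) hφ b6_fam
  have hθ : 71 < chevE6.nroots := hF.θlt
  -- an invariant additive character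
  obtain ⟨ψ, hψ, hψφ⟩ : ∃ ψ : AddChar K ℂ, ψ ≠ 1 ∧ ∀ c, ψ (φ c) = ψ c := by
    obtain ⟨χ₀, hχ₀⟩ := AddChar.exists_apply_ne_zero.2 (show u + φ u ≠ 0 by rw [hu]; exact one_ne_zero)
    refine ⟨χ₀.compAddMonoidHom (AddMonoidHom.id K + φ.toAddMonoidHom), fun e => hχ₀ ?_, fun c => ?_⟩
    · simpa using DFunLike.congr_fun e u
    · simp [hφ, add_comm]
  -- fixed root elements
  have hmem : ∀ r ∈ t6Fixed, r < chevE6.nroots ∧ t6R r = r := fun r hr => by
    have h1 := t6_fixed.1
    simp only [List.all_eq_true, Bool.and_eq_true, decide_eq_true_eq, beq_iff_eq] at h1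
    exact (h1 r hr).1
  have h71 : 71 ∈ t6Fixed := by
    have h2 := t6_fixed.2
    simp only [List.all_eq_true, List.mem_range, Bool.or_eq_true, bne_iff_ne, List.contains_iff_mem] at h2
    exact (h2 71 hθ).resolve_left (fun h => h hF.θfix)
  set x₁ : ↥(twistedE6 K q) := ⟨goodE6.xG 71 1, hT.fixed_xG_mem hθ hF.θfix (map_one φ)⟩
  set χ : ℂ := LinearMap.trace ℂ (Fin k → ℂ) (ρ x₁) with hχ
  have hE71 : (71 : ℕ) ∉ t6Edges.map Prod.fst := by decide +kernel
  have hconst : ∀ r ∈ t6Fixed, ∀ c : K, c ≠ 0 → φ c = c → ∀ y : ↥(twistedE6 K q),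
      (y : GL chevE6.Idx K) = goodE6.xG r c → LinearMap.trace ℂ (Fin k → ℂ) (ρ y) = χ := by
    intro r hr c hc hcφ y hy
    have htree := fun (t₀ : K) (h0 : t₀ ≠ 0) (h0φ : φ t₀ = t₀) =>
      isConj_tree hT hmem (r₀ := 71) h0 h0φ t6Edges [71] t6_edges fun s hs => Or.inl (List.mem_singleton.1 hs)
    rcases eq_or_ne r 71 with rfl | hne
    · obtain ⟨e₀, he₀, he₀F⟩ : ∃ e₀, e₀ ∈ t6Edges.map Prod.fst ∧ e₀ ∈ t6Fixed :=
        ⟨(t6Edges.map Prod.fst).getD 0 0, by decide +kernel⟩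
      have hne₀ : e₀ ≠ 71 := fun e => hE71 (e ▸ he₀)
      let z : ↥(twistedE6 K q) :=
        ⟨goodE6.xG e₀ 1, hT.fixed_xG_mem (hmem e₀ he₀F).1 (hmem e₀ he₀F).2 (map_one φ)⟩
      have h1 := htree c hc hcφ e₀ he₀ hne₀ 1 one_ne_zero (map_one φ) y z hy rfl
      have h2 := htree 1 one_ne_zero (map_one φ) e₀ he₀ hne₀ 1 one_ne_zero (map_one φ) x₁ z rfl rfl
      exact (trace_isConj ρ h1).trans (trace_isConj ρ h2).symm
    · have h1 := t6_fixed.1
      simp only [List.all_eq_true, Bool.and_eq_true, List.contains_iff_mem, List.singleton_append,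
        List.mem_cons] at h1
      have h2 := htree 1 one_ne_zero (map_one φ) r ((h1 r hr).2.resolve_left hne) hne c hc hcφ x₁ y rfl hy
      exact (trace_isConj ρ h2).symm
  -- the projection on the fixed space of the centre
  set E := centreProj ρ goodE6 φ t6R t6E 71 with hEdef
  have hE := hT.centreEnv ρ hF
  have hidem : IsIdempotentElem E := hT.centre_idem ρ hθ hF.θfix
  obtain ⟨a, ha⟩ : ∃ a : ℕ, LinearMap.trace ℂ _ E = (a : ℂ) := ⟨_, trace_idem hidem⟩
  have hTx71 : ∀ s : K, (Tx goodE6 φ t6R t6E (twistedE6 K q) 71 s : GL chevE6.Idx K) =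
      goodE6.xG 71 (s + φ s) := fun s => by rw [hT.coe_Tx hθ, txG, if_pos hF.θfix]
  have hEtr : ∀ (y : ↥(twistedE6 K q)) (h : K → ℂ),
      (∀ s, LinearMap.trace ℂ _ (ρ (y * Tx goodE6 φ t6R t6E (twistedE6 K q) 71 s)) = h (s + φ s)) →
      (q : ℂ) * LinearMap.trace ℂ _ (ρ y * E) = ∑ c ∈ fixSet φ, h c := by
    intro y h hh
    rw [hEdef, centreProj, fixProj_eq, mul_smul_comm, map_smul, Finset.mul_sum, map_sum,
      Finset.sum_congr rfl fun s _ => by rw [← map_mul, hh s],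
      sum_trace hφ hK hfix' hu, smul_eq_mul, nsmul_eq_mul, hK, Nat.cast_pow]
    field_simp
  have hfix0 : (0 : K) ∈ fixSet φ := Finset.mem_filter.2 ⟨Finset.mem_univ _, map_zero φ⟩
  have hcard1 : (((fixSet φ).erase (0 : K)).card : ℂ) = (q : ℂ) - 1 := by
    rw [Finset.card_erase_of_mem hfix0, hfix', Nat.cast_sub (by omega), Nat.cast_one]
  have hqa : (q : ℂ) * a = k + ((q : ℂ) - 1) * χ := by
    have h1 := hEtr 1 (fun c => if c = 0 then (k : ℂ) else χ) fun s => by
      split_ifs with hs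
      · have e : (1 : ↥(twistedE6 K q)) * Tx goodE6 φ t6R t6E (twistedE6 K q) 71 s = 1 := by
          rw [one_mul]; exact Subtype.ext (by rw [hTx71, hs, goodE6.xG_zero]; rfl)
        rw [e, map_one, LinearMap.trace_one, Module.finrank_fin_fun]
      · rw [one_mul]
        exact hconst 71 h71 _ hs (by rw [map_add, hφ, add_comm]) _ (hTx71 s)
    rw [map_one, one_mul, ha, ← Finset.add_sum_erase _ _ hfix0, if_pos rfl,
      Finset.sum_congr rfl fun c hc => if_neg (Finset.mem_erase.1 hc).1, Finset.sum_const, nsmul_eq_mul,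
      hcard1] at h1
    exact h1
  -- traces on the fixed coordinates
  have htr : ∀ β, t6Sym.rw' β = β → ∀ t : K, t + φ t ≠ 0 →
      LinearMap.trace ℂ _ (ρ (Tx goodE6 φ t6R t6E (twistedE6 K q) (t6Fam.om β) t) * E) = χ := by
    intro β hβ t ht
    have h1 := t6_partner
    simp only [List.all_eq_true, List.mem_finRange, forall_const, Bool.or_eq_true, bne_iff_ne,
      Bool.and_eq_true, List.contains_iff_mem, List.any_eq_true, List.mem_cons, List.not_mem_nil, or_false] at h1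
    obtain ⟨hmF, p, hp, hpc, M, hM, hpo⟩ := (h1 β).resolve_left (fun h => h hβ)
    set w := Tx goodE6 φ t6R t6E (twistedE6 K q) (t6Fam.om β) t
    have hw : (w : GL chevE6.Idx K) = goodE6.xG (t6Fam.om β) (t + φ t) := by
      rw [hT.coe_Tx (hF.om_lt β), txG, if_pos (hmem _ hmF).2]
    have hwφ : φ (t + φ t) = t + φ t := by rw [map_add, hφ, add_comm]
    have h2 := hEtr w (fun _ => χ) fun s => by
      rw [← trace_isConj ρ (hT.fixed_shift hM (hF.om_lt β) (hmem p hp).1 hθ (hmem p hp).2 hpo hpc ht hwφ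
        (by rw [map_add, hφ, add_comm]) hw (hTx71 s))]
      exact hconst _ hmF _ ht hwφ w hw
    rw [Finset.sum_const, hfix', nsmul_eq_mul] at h2
    exact mul_left_cancel₀ hqC h2
  set Y := twY ρ goodE6 φ t6R t6E t6Fam E with hY
  have hA := tAct hT ρ hF hE
  have hI := hA.isTInv hψ hψφ
  have hY0 : Y 0 = E := twY_zero hT hF
  have hshape := fun β hβ => tshape hT hF hE hψ hψφ hK hfix t6_charts ha htr (β := β) hβ
  set Sl := Inv.sliceSum (mlt Y ψ) (t6Charts 0) with hSl
  have hSall : ∀ β, t6Sym.rw' β = β → Inv.sliceSum (mlt Y ψ) (t6Charts β) = Sl := fun β hβ => by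
    have h1 := (hshape β hβ).1.trans (hshape 0 hr0).1.symm
    exact Nat.eq_of_mul_eq_mul_left (Nat.mul_pos (by omega) (pow_pos (by omega) _))
      (Nat.cast_injective (mul_left_cancel₀ hqC (add_left_cancel h1)))
  obtain ⟨hrel, hSa⟩ := hshape 0 hr0
  rw [← hY, ← hSl] at hrel hSa
  have hkey : k = a + q * ((q - 1) * q ^ 9 * Sl) := by
    have h1 : (k : ℂ) = ((a + q * ((q - 1) * q ^ 9 * Sl) : ℕ) : ℂ) := by
      rw [Nat.cast_add, Nat.cast_mul]
      linear_combination (-1 : ℂ) * hqa - hrel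
    exact_mod_cast h1
  have hfaith : ∃ x : ↥(twistedE6 K q), ρ x ≠ 1 := by
    by_contra hh
    push Not at hh
    let v : Fin k → ℂ := Pi.single ⟨0, by omega⟩ 1
    let W : Subrepresentation ρ := ⟨Submodule.span ℂ {v}, fun x w hw => by rw [hh x]; exact hw⟩
    have hv0 : v ≠ 0 := fun h => by
      have h3 := congrFun h ⟨0, by omega⟩
      simp [v] at h3
    rcases hρ.eq_bot_or_eq_top W with h' | h'
    · exact hv0 ((Submodule.mem_bot ℂ).1
        ((congrArg Subrepresentation.toSubmodule h').le (Submodule.mem_span_singleton_self v)))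
    · have h1 : Submodule.span ℂ {v} = ⊤ := congrArg Subrepresentation.toSubmodule h'
      have h2 := finrank_span_singleton (K := ℂ) (v := v) hv0
      rw [h1, finrank_top, Module.finrank_fin_fun] at h2
      omega
  rcases Nat.lt_trichotomy Sl 1 with hS | hS | hS
  · -- no moved part
    exfalso
    have hS0 : Sl = 0 := by omega
    rw [hS0, mul_zero, mul_zero, add_zero] at hkey
    rw [hS0, mul_zero, Nat.cast_zero, mul_zero, add_zero, ← hkey] at hrel
    have hχk : χ = k := mul_left_cancel₀ hq1C hrel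
    have h1 := trivial_of_trace (Z := fun s => ρ (Tx goodE6 φ t6R t6E (twistedE6 K q) 71 s))
      (hT.centre_add ρ hθ hF.θfix) (by
        show ρ _ = 1
        rw [← map_one ρ]
        exact congrArg ρ (Subtype.ext (by rw [hTx71, map_zero, add_zero, goodE6.xG_zero]; rfl))) (fun s _ => by
        rw [Module.finrank_fin_fun]
        rcases eq_or_ne (s + φ s) 0 with hs | hs
        · show LinearMap.trace ℂ _ (ρ _) = _
          rw [show Tx goodE6 φ t6R t6E (twistedE6 K q) 71 s = 1 from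
            Subtype.ext (by rw [hTx71, hs, goodE6.xG_zero]; rfl), map_one, LinearMap.trace_one,
            Module.finrank_fin_fun]
        · exact (hconst 71 h71 _ hs (by rw [map_add, hφ, add_comm]) _ (hTx71 s)).trans hχk) u
    have hx₁ : ρ x₁ = 1 := by
      rwa [show Tx goodE6 φ t6R t6E (twistedE6 K q) 71 u = x₁ from Subtype.ext (by rw [hTx71, hu])] at h1
    have := (twistedE6_simple K hq hK).1
    rcases (MonoidHom.normal_ker ρ).eq_bot_or_eq_top with h | h
    · have h2 : x₁ = 1 := (Subgroup.mem_bot).1 (h ▸ (MonoidHom.mem_ker.2 hx₁))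
      have h3 : goodE6.xG 71 (1 : K) = 1 := congrArg Subtype.val h2
      exact one_ne_zero ((goodE6.x_eq_one_iff hθ (1 : K)).1 (congrArg Units.val h3))
    · obtain ⟨x, hx⟩ := hfaith
      exact hx (MonoidHom.mem_ker.1 (h.ge (Subgroup.mem_top x)))
  · -- one orbit
    have h1 : ∀ β, t6Sym.rw' β = β → Inv.sliceSum (mlt Y ψ) (t6Charts β) = 1 := fun β hβ =>
      (hSall β hβ).trans hS
    set m0 := mlt Y ψ 0 with hm0
    set tot := tTotal q t6Sym t6Charts with htot
    have hatot : a = m0 + tot := ttotal hT hF hE hψ hψφ hK hfix t6_charts t6_short (by rw [← hY, hY0, ha]) h1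
    have hχa : χ + (q : ℂ) ^ 10 = a := by
      refine mul_left_cancel₀ hq1C ?_
      rw [hS, mul_one, Nat.cast_mul, Nat.cast_sub (by omega : 1 ≤ q), Nat.cast_pow, Nat.cast_one] at hrel
      linear_combination hrel
    -- the fixed move and its trace
    set y := Tx goodE6 φ t6R t6E (twistedE6 K q) (t6Fam.mo 29) u with hydef
    have h60 : 60 < chevE6.nroots ∧ t6R 60 = 60 := by decide +kernel
    have hy : (y : GL chevE6.Idx K) = goodE6.xG 60 1 := by
      rw [hydef, hαr, hT.coe_Tx h60.1, txG, if_pos h60.2, hu]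
    let el : K → ↥(twistedE6 K q) := fun c => if hc : φ c = c then ⟨goodE6.xG 71 c, hT.fixed_xG_mem hθ hF.θfix hc⟩ else 1
    have hel : ∀ c, φ c = c → (el c : GL chevE6.Idx K) = goodE6.xG 71 c := fun c hc => by simp [el, dif_pos hc]
    obtain ⟨fv, hfv⟩ : ∃ fv : K → ℂ, ∀ c, fv c = LinearMap.trace ℂ _ (ρ (y * el c)) := ⟨_, fun _ => rfl⟩
    have hαE : (q : ℂ) * LinearMap.trace ℂ _ (ρ y * E) = ∑ c ∈ fixSet φ, fv c := by
      refine hEtr y fv fun s => ?_
      have hs : φ (s + φ s) = s + φ s := by rw [map_add, hφ, add_comm]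
      rw [hfv, show Tx goodE6 φ t6R t6E (twistedE6 K q) 71 s = el (s + φ s) from
        Subtype.ext (by rw [hTx71, hel _ hs])]
    have hf0 : fv 0 = χ := by
      have e : el 0 = 1 := Subtype.ext (by rw [hel 0 (map_zero φ), goodE6.xG_zero]; rfl)
      rw [hfv, e, mul_one]
      exact hconst 60 (by decide +kernel) 1 one_ne_zero (map_one φ) y hy
    obtain ⟨κ, hκ, hunit⟩ := hT.unit_conj t6_unit
    obtain ⟨TV, hTV⟩ : ∃ TV : K → ℂ, ∀ t,
        TV t = LinearMap.trace ℂ _ (ρ (Tx goodE6 φ t6R t6E (twistedE6 K q) 66 t)) := ⟨_, fun _ => rfl⟩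
    have hTVf : ∀ t : K, t ≠ 0 → TV t = fv ((κ : K) * (t * φ t)) := by
      intro t ht
      have hcφ : φ ((κ : K) * (t * φ t)) = (κ : K) * (t * φ t) := by
        rw [map_mul, map_intCast, map_mul, hφ, mul_comm (φ t) t]
      rw [hTV, hfv]
      exact trace_isConj ρ ((hT.pair_shift (splitPair_of_check t6_splitα) ht (map_one φ) hy).trans
        (hunit t 1 (map_one φ) one_ne_zero y (el ((κ : K) * (t * φ t))) hy (by rw [hel _ hcφ, div_one])))
    have hTVE : ∀ t : K, t ≠ 0 →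
        LinearMap.trace ℂ _ (ρ (Tx goodE6 φ t6R t6E (twistedE6 K q) 66 t) * E) = TV t := by
      intro t ht
      refine mul_left_cancel₀ hqC ?_
      rw [hEtr _ (fun _ => TV t) fun s => (trace_isConj ρ (hT.pair_shift (splitPair_of_check t6_splitθ) ht
        (by rw [map_add, hφ, add_comm]) (hTx71 s))).symm.trans (hTV t).symm, Finset.sum_const, hfix', nsmul_eq_mul]
    have hnorm : ∀ c, φ c = c → ∃ t, t * φ t = c := fun c hc => by
      obtain ⟨x, hx⟩ := (CfsgLib.Classical.isHermSpace_hermB hK 0).norm_surj c (by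
        rw [CfsgLib.Classical.qFrob_apply, ← hφq]; exact hc)
      exact ⟨x, by rw [CfsgLib.Classical.qFrob_apply, ← hφq, mul_comm] at hx; exact hx⟩
    have hsumV : ∑ t ∈ Finset.univ.erase (0 : K), TV t = ((q : ℂ) + 1) * ∑ c ∈ (fixSet φ).erase 0, fv c := by
      obtain ⟨hh, hhh⟩ : ∃ hh : K → ℂ, ∀ c, hh c = fv ((κ : K) * c) := ⟨_, fun _ => rfl⟩
      have hn := sum_norm hφ hK hfix' hnorm hh
      rw [nsmul_eq_mul, Nat.cast_add, Nat.cast_one] at hn
      rw [Finset.sum_congr rfl fun t ht => (hTVf t (Finset.mem_erase.1 ht).1).trans (hhh _).symm, hn,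
        Finset.sum_congr rfl fun c _ => hhh c]
      refine congrArg (((q : ℂ) + 1) * ·) ?_
      have hκ2 : ∀ c : K, (κ : K) * ((κ : K) * c) = c := fun c => by
        rw [← mul_assoc, (sq_sign hκ).1, one_mul]
      refine Finset.sum_nbij' (fun c => (κ : K) * c) (fun c => (κ : K) * c) ?_ ?_ (fun c _ => hκ2 c)
        (fun c _ => hκ2 c) fun c _ => rfl <;>
      · intro c hc
        obtain ⟨hc0, hcm⟩ := Finset.mem_erase.1 hc
        refine Finset.mem_erase.2 ⟨mul_ne_zero (sq_sign hκ).2 hc0, Finset.mem_filter.2 ⟨Finset.mem_univ _, ?_⟩⟩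
        rw [map_mul, map_intCast, (Finset.mem_filter.1 hcm).2]
    set Z0 := ∑ b ∈ Finset.univ.filter (fun b : Fin 20 → K => ¬ b 2 ≠ 0), mlt Y ψ b with hZ0
    have hline : ∑ t ∈ Finset.univ.erase (0 : K), TV t + (a : ℂ) = (q : ℂ) ^ 2 * (Z0 : ℂ) := by
      have h2 := hA.trace_line hψ (2 : Fin 20)
      rw [hK, Nat.cast_pow] at h2
      rw [← h2, ← Finset.sum_erase_add _ _ (Finset.mem_univ (0 : K))]
      refine congrArg₂ (· + ·) ?_ ?_
      · refine Finset.sum_congr rfl fun t ht => ?_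
        rw [twY_single hT hF, hV, hTVE t (Finset.mem_erase.1 ht).1]
      · rw [Pi.single_zero, ← hY, hY0, ha]
    -- the part of the support where a moved coordinate vanishes
    have hZ : Z0 + (q - 1) * (q ^ 9 + q ^ 8) = a + (q - 1) * (q ^ 7 + q ^ 6) := by
      let g0 : (Fin 20 → K) → ℕ := fun b => if b 2 = 0 then mlt Y ψ b else 0
      have hZg : Z0 = ∑ b, g0 b := by
        rw [hZ0, Finset.sum_filter]
        exact Finset.sum_congr rfl fun b _ => by by_cases hb : b 2 = 0 <;> simp [g0, hb]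
      have hcell := fun β => cell_mass hF.good hA.proper hI t6_charts hu hK hfix t6_short h1 β
      have hpart : ∀ β : Fin 20, (β = 0 ∨ β = 1) → t6Sym.rw' β = β →
          ∀ Z : Finset (Fin 20), Z ⊆ (t6Charts β).next → (∀ v ∈ Z, t6Sym.rw' v ∈ Z) →
          (∀ w < β, w ∈ Z) → (2 : Fin 20) ∈ Z → (∀ v ∈ Z, v < β ∨ v = 2 ∨ v = 3) →
          ∑ b ∈ cell K β, g0 b = (q - 1) * q ^ (9 - Z.card) := by
        intro β _ hβ Z hZn hZs hlow h2Z hZ'
        obtain ⟨hβ', hC, hcard, -, -⟩ := tchart hA.proper t6_charts hβ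
        have h2 := hI.sum_chart hF.good hC hu hK hfix Z hZn hZs
        rw [hβ', hcard, h1 β hβ, mul_one] at h2
        rw [← h2]
        simp only [g0, ← Finset.sum_filter]
        refine (Finset.sum_subset (fun b hb => ?_) fun b hb hnb => ?_).symm
        · obtain ⟨hb0, hbZ⟩ := (Finset.mem_filter.1 hb).2
          exact Finset.mem_filter.2 ⟨Finset.mem_filter.2 ⟨Finset.mem_univ _, hb0,
            fun w hw => hbZ w (hlow w hw)⟩, hbZ 2 h2Z⟩
        · obtain ⟨hb1, hb2⟩ := Finset.mem_filter.1 hb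
          obtain ⟨hb0, hblow⟩ := (Finset.mem_filter.1 hb1).2
          by_contra hm
          refine hnb (Finset.mem_filter.2 ⟨Finset.mem_univ _, hb0, fun v hv => ?_⟩)
          rcases hZ' v hv with h | rfl | rfl
          · exact hblow v h
          · exact hb2
          · exact hr2 ▸ ((hI.supp b hm).ne_zero_iff hF.good 2).2 hb2
      have hx : ∀ β : Fin 20, ∑ b ∈ cell K β, g0 b +
          (if β = 0 then (q - 1) * q ^ 9 else if β = 1 then (q - 1) * q ^ 8 else 0) =
          ∑ b ∈ cell K β, mlt Y ψ b +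
          (if β = 0 then (q - 1) * q ^ 7 else if β = 1 then (q - 1) * q ^ 6 else 0) := by
        intro β
        rcases eq_or_ne β 0 with rfl | h0
        · rw [if_pos rfl, if_pos rfl, hpart 0 (Or.inl rfl) hr0 {2, 3} hzs0 (by decide +kernel)
            (by decide +kernel) (by decide) (by decide +kernel), hcell, if_pos hr0]
          have he : (t6Charts 0).expo = 9 := by decide +kernel
          rw [he, show ({2, 3} : Finset (Fin 20)).card = 2 by decide, add_comm]
        rcases eq_or_ne β 1 with rfl | h1'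
        · rw [if_neg h0, if_neg h0, if_pos rfl, if_pos rfl, hpart 1 (Or.inr rfl) hr1 {0, 2, 3} ?_
            (by decide +kernel) (by decide +kernel) (by decide) (by decide +kernel), hcell, if_pos hr1]
          · have he : (t6Charts 1).expo = 8 := by decide +kernel
            rw [he, show ({0, 2, 3} : Finset (Fin 20)).card = 3 by decide, add_comm]
          · intro v hv
            rcases Finset.mem_insert.1 hv with rfl | hv
            · exact Finset.filter_subset _ _ (hz1.ge (Finset.mem_singleton_self _))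
            · exact hzs1 hv
        rw [if_neg h0, if_neg h1', if_neg h0, if_neg h1']
        refine congrArg (· + 0) (Finset.sum_congr rfl fun b hb => ?_)
        by_cases hm : mlt Y ψ b = 0
        · simp [g0, hm]
        simp only [g0]
        rw [if_pos]
        obtain ⟨-, hblow⟩ := (Finset.mem_filter.1 hb).2
        by_contra hb2
        have hfx : t6Sym.rw' β = β := by
          by_contra hne
          exact hm (short_cell hF.good hA.proper hI t6_charts hu t6_short h1 hne hb)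
        have hlt : ∀ β : Fin 20, β ≠ 0 → β ≠ 1 → t6Sym.rw' β = β → (2 : Fin 20) < β := by decide +kernel
        exact hb2 (hblow 2 (hlt β h0 h1' hfx))
      have h3 := Finset.sum_congr rfl fun β (_ : β ∈ (Finset.univ : Finset (Fin 20))) => hx β
      rw [Finset.sum_add_distrib, Finset.sum_add_distrib] at h3
      have hind : ∀ x y : ℕ, ∑ β : Fin 20, (if β = 0 then x else if β = 1 then y else 0) = x + y := fun x y => by
        simp [Fin.sum_univ_succ]
      rw [hind, hind] at h3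
      have h4 : a = ∑ b, mlt Y ψ b := by
        have := hA.sum_mlt hψ
        rw [← hY, hY0, ha, Nat.cast_inj] at this
        exact this.symm
      rw [hZg, h4, sum_cells g0, sum_cells (mlt Y ψ), mul_add, mul_add]
      have hg0 : g0 0 = mlt Y ψ 0 := by simp [g0]
      omega
    have htα : LinearMap.trace ℂ _ (ρ y * E) = (a : ℂ) - (q : ℂ) ^ 10 + (q : ℂ) ^ 8 - (q : ℂ) ^ 7 := by
      refine mul_left_cancel₀ (mul_ne_zero hqC (show (q : ℂ) + 1 ≠ 0 by exact_mod_cast Nat.succ_ne_zero q)) ?_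
      rw [← Finset.add_sum_erase _ _ hfix0, hf0] at hαE
      have hZc : (Z0 : ℂ) + ((q : ℂ) - 1) * ((q : ℂ) ^ 9 + (q : ℂ) ^ 8) =
          (a : ℂ) + ((q : ℂ) - 1) * ((q : ℂ) ^ 7 + (q : ℂ) ^ 6) := by
        have := congrArg (Nat.cast : ℕ → ℂ) hZ
        push_cast [Nat.cast_sub (show 1 ≤ q by omega)] at this
        exact this
      linear_combination ((q : ℂ) + 1) * hαE + hline - hsumV + (q : ℂ) ^ 2 * hZc + ((q : ℂ) + 1) * hχa
    -- the fixed part carries a module of the Levi subgroup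
    have hmv := tmoved_trace hT hF hE hψ hψφ hK hfix t6_charts t6_short t6_moved h1
      (t := u) (by rw [hu]; exact one_ne_zero)
    rw [← hY, hY0, tMoved_eq _ _ _ _ hmexp] at hmv
    set P := pr Y ψ 0 with hPdef
    have hne : ρ y * P ≠ P := by
      intro he
      refine hnum3 ?_
      rw [← hydef, he, hA.trace_pr, ← hm0, ← htot, ← Nat.cast_add, ← hatot, htα] at hmv
      have : (((q - 1) * (([9, 8, 6, 5] : List ℕ).map (q ^ ·)).sum + q ^ 8 : ℕ) : ℂ) =
          ((q ^ 10 + q ^ 7 : ℕ) : ℂ) := by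
        rw [Nat.cast_add, Nat.cast_add, Nat.cast_pow, Nat.cast_pow, Nat.cast_pow]
        linear_combination hmv
      exact_mod_cast this
    have htor := b6_tor
    simp only [torCheck, Bool.and_eq_true, List.all_eq_true, List.mem_finRange, forall_const, Bool.or_eq_true,
      bne_iff_ne, beq_iff_eq, List.any_eq_true, true_and] at htor
    obtain ⟨⟨htw, hom⟩, hmo⟩ := htor
    have hPE : TEnv ρ goodE6 φ t6R t6E 71 b6Fam b6Sym P := by
      refine ⟨hA.pr_idem 0, fun s => ?_, fun w t => ?_, fun i t => ?_, fun β hβ c hc h hh => ?_⟩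
      · have h2 := EigProj.mul_proj hA.add (chr ψ 0) (0 : Fin 20 → K)
        simp only [AddChar.map_zero_eq_one, one_smul] at h2
        rw [← hY] at h2
        change Y 0 * P = P at h2
        rw [← h2, hY0, ← mul_assoc, hE.absorb]
      · obtain ⟨i, hi⟩ := hom w
        rw [← hi]
        exact zero_commute hT hF hE i t
      · obtain ⟨i', hi⟩ := hmo i
        rw [← hi]
        exact zero_commute hT hF hE i' t
      · refine zero_commute_tor hT hF ((htw β).resolve_left (fun hh' => hh' hβ)) hc hh ?_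
        refine hT.commute_centre ρ hθ hF.θfix (k := ((c ^ pair chevE6 (b6Fam.tw β) 71 : Kˣ) : K))
          (Units.ne_zero _) (by rw [Units.val_zpow_eq_zpow_val, map_zpow₀, hc]) fun s => ?_
        rw [hh, ← goodE6.hG_conj_xG hθ c s, inv_mul_cancel_right]
    have hmle : tTotal q b6Sym b6Charts ≤ m0 := by
      refine bottom_bound hT hF' hPE hψ hψφ hK hfix' b6_charts b6_join (hA.trace_pr 0) (β₀ := 0) (t := u) ?_ ?_
      · rw [hom0, ← hαr]; exact hne
      · rw [tTotal_eq _ _ hexp']; exact hnum4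
    rw [tTotal_eq _ _ hexp'] at hmle
    rw [htot, tTotal_eq _ _ hexp] at hatot
    rw [hS, mul_one] at hkey
    -- the two exceptional values
    by_contra hlt
    have hdvd : k ∣ q ^ 36 * (q ^ 2 - 1) * (q ^ 5 + 1) * (q ^ 6 - 1) * (q ^ 8 - 1) * (q ^ 9 + 1) *
        (q ^ 12 - 1) := by
      rw [← card_twistedE6 K hq hK]
      refine dvd_mul_of_dvd_right ?_ _
      have := hρ
      have h2 := CfsgLib.Char.degree_dvd_card ρ
      rwa [Module.finrank_fin_fun] at h2
    obtain h2 | h2 : q ^ 11 + q ^ 7 + q ^ 5 + q = k + 2 + (q ^ 8 + q ^ 4) ∨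
        q ^ 11 + q ^ 7 + q ^ 5 + q = k + 1 + (q ^ 8 + q ^ 4) := by omega
    · exact degTwE6two_not_dvd hq2 h2 hdvd
    · exact degTwE6one_not_dvd hq2 h2 hdvd
  · -- several orbits
    have h2 : (q - 1) * q ^ 9 * 2 ≤ (q - 1) * q ^ 9 * Sl := Nat.mul_le_mul_left _ hS
    have h3 : q * ((q - 1) * q ^ 9 * 2) ≤ q * ((q - 1) * q ^ 9 * Sl) := Nat.mul_le_mul_left _ h2
    have e : q * ((q - 1) * q ^ 9 * 2) = 2 * (q * ((q - 1) * q ^ 9)) := by ring
    omega

end CfsgLib.KnownB.MinDeg
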