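import Cfsg.Agent.Lib.KnownB.MinDegTwAct
import Cfsg.Agent.Lib.KnownB.MinDegLevel

/-!
Operator families of a twisted group, modulo a centre, from the untwisted group.
-/

set_option autoImplicit false
set_option linter.unusedSectionVars false

namespace CfsgLib.KnownB.MinDeg

open Cfsg.Lie CfsgLib.Chev Module

variable {D : ChevalleyDatum} {F : Type*} [Field F] (g : Good D) (φ : F →+* F) (Rm : ℕ → ℕ) (εm : ℕ → ℤ)

/-- The twisted root element. -/
noncomputable def txG (r : ℕ) (t : F) : GL D.Idx F :=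
  if Rm r = r then g.xG r (t + φ t) else g.xG r t * g.xG (Rm r) ((εm r : F) * φ t)

/-- All roots. -/
def allRoots (D : ChevalleyDatum) : List ℕ := List.range D.nroots

/-- What is asked of the twisted group. -/
structure TwGrp (Γ : Subgroup (GL D.Idx F)) : Prop where
  hc : HasComm D
  invol : ∀ x, φ (φ x) = x
  trace : ∃ u : F, u + φ u = 1
  le : Γ ≤ rootTor g F (allRoots D)
  mem : ∀ r < D.nroots, ∀ t, txG g φ Rm εm r t ∈ Γ
  fixed : ∀ r < D.nroots, Rm r = r → ∀ c, g.xG r c ∈ Γ → φ c = c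

open scoped Classical in
/-- The twisted root element in the group. -/
noncomputable def Tx (Γ : Subgroup (GL D.Idx F)) (r : ℕ) (t : F) : ↥Γ :=
  if h : txG g φ Rm εm r t ∈ Γ then ⟨_, h⟩ else 1

theorem mem_allRoots {r : ℕ} : r ∈ allRoots D ↔ r < D.nroots := List.mem_range

theorem comm_xG (hc : HasComm D) {r s : ℕ} (hr : r < D.nroots) (hs : s < D.nroots) (h : commPairB D r s = true)
    (t u : F) : Commute (g.xG r t) (g.xG s u) := by
  have h1 := congrArg Subtype.val (Xh_comm (g := g) (R := allRoots D) hc (fun r hr => mem_allRoots.1 hr)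
    (mem_allRoots.2 hr) (mem_allRoots.2 hs) h t u).eq
  simp only [Subgroup.coe_mul, coe_Xh (g := g) (mem_allRoots.2 hr), coe_Xh (g := g) (mem_allRoots.2 hs)] at h1
  exact h1

variable {g φ Rm εm} {Γ : Subgroup (GL D.Idx F)}

namespace TwGrp

variable (hT : TwGrp g φ Rm εm Γ)
include hT

theorem coe_Tx {r : ℕ} (hr : r < D.nroots) (t : F) : (Tx g φ Rm εm Γ r t : GL D.Idx F) = txG g φ Rm εm r t := by
  rw [Tx, dif_pos (hT.mem r hr t)]

theorem fixed_xG_mem {r : ℕ} (hr : r < D.nroots) (hfix : Rm r = r) {c : F} (hc : φ c = c) : g.xG r c ∈ Γ := by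
  obtain ⟨u, hu⟩ := hT.trace
  obtain ⟨t, ht⟩ := exists_half hu hc
  have := hT.mem r hr t
  rwa [txG, if_pos hfix, ht] at this

theorem hG_mem_of_fixed {r : ℕ} (hr : r < D.nroots) (hfix : Rm r = r) (hfix' : Rm (D.neg r) = D.neg r) {c : Fˣ}
    (hc : φ c = (c : F)) : g.hG r c ∈ Γ := by
  have hn : ∀ u : Fˣ, φ u = (u : F) → g.nG r u ∈ Γ := fun u hu =>
    mul_mem (mul_mem (hT.fixed_xG_mem hr hfix hu)
      (hT.fixed_xG_mem (g.neg_lt hr) hfix' (by rw [map_neg, Units.val_inv_eq_inv_val, map_inv₀, hu])))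
      (hT.fixed_xG_mem hr hfix hu)
  rw [g.hG_eq hr]
  exact mul_mem (hn c hc) (hn (-1) (by simp))

end TwGrp

variable {m n : ℕ}

/-- The check of a family against an involution of the roots. -/
def tfamCheck (D : ChevalleyDatum) (f : Fam m n) (S : Sym m n) (Rm : ℕ → ℕ) (εm : ℕ → ℤ) (θ : ℕ) : Bool :=
  f.check D [θ] && S.check f.mv && decide (θ < D.nroots) && Rm θ == θ &&
  (List.finRange m).all (fun w =>
    f.om (S.rw' w) == Rm (f.om w) && S.ew w == εm (f.om w) && ((S.rw' w == w) == (Rm (f.om w) == f.om w)) &&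
      commPairB D (f.om w) θ &&
      (S.rw' w != w || (Rm (f.tw w) == f.tw w && Rm (D.neg (f.tw w)) == D.neg (f.tw w) &&
        (List.finRange m).all fun v => pair D (f.tw w) (f.om (S.rw' v)) == pair D (f.tw w) (f.om v)))) &&
  (List.finRange n).all (fun i =>
    f.mo (S.rg i) == Rm (f.mo i) && S.eg i == εm (f.mo i) && ((S.rg i == i) == (Rm (f.mo i) == f.mo i)) &&
      commPairB D (f.mo i) θ && commPairB D (f.mo i) (f.mo (S.rg i)))

/-- The facts contained in the check. -/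
structure TwFam (D : ChevalleyDatum) (φ : F →+* F) (f : Fam m n) (S : Sym m n) (Rm : ℕ → ℕ) (εm : ℕ → ℤ) (θ : ℕ) : Prop where
  ok : f.check D [θ] = true
  good : S.Good φ f.mv
  θlt : θ < D.nroots
  θfix : Rm θ = θ
  om_rw : ∀ w, f.om (S.rw' w) = Rm (f.om w)
  ew : ∀ w, S.ew w = εm (f.om w)
  om_fix : ∀ w, S.rw' w = w ↔ Rm (f.om w) = f.om w
  om_comm : ∀ w, commPairB D (f.om w) θ = true
  tw : ∀ w, S.rw' w = w → Rm (f.tw w) = f.tw w ∧ Rm (D.neg (f.tw w)) = D.neg (f.tw w) ∧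
    ∀ v, pair D (f.tw w) (f.om (S.rw' v)) = pair D (f.tw w) (f.om v)
  mo_rg : ∀ i, f.mo (S.rg i) = Rm (f.mo i)
  eg : ∀ i, S.eg i = εm (f.mo i)
  mo_fix : ∀ i, S.rg i = i ↔ Rm (f.mo i) = f.mo i
  mo_comm : ∀ i, commPairB D (f.mo i) θ = true
  mo_pair : ∀ i, commPairB D (f.mo i) (f.mo (S.rg i)) = true
  om_lt : ∀ w, f.om w < D.nroots
  tw_lt : ∀ w, f.tw w < D.nroots
  mo_lt : ∀ i, f.mo i < D.nroots

theorem twFam_of_check {φ : F →+* F} (hφ : ∀ x, φ (φ x) = x) {f : Fam m n} {S : Sym m n} {Rm : ℕ → ℕ}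
    {εm : ℕ → ℤ} {θ : ℕ} (h : tfamCheck D f S Rm εm θ = true) : TwFam D φ f S Rm εm θ := by
  simp only [tfamCheck, Bool.and_eq_true, beq_iff_eq, decide_eq_true_eq, List.all_eq_true, List.mem_finRange,
    forall_const, Bool.or_eq_true, bne_iff_ne] at h
  obtain ⟨⟨⟨⟨⟨h1, h2⟩, h3⟩, h4⟩, h5⟩, h6⟩ := h
  have hl := h1
  simp only [Fam.check, Bool.and_eq_true, List.all_eq_true, List.mem_finRange, forall_const,
    decide_eq_true_eq] at hl
  exact ⟨h1, Sym.good_of_check hφ h2, h3, h4, fun w => (h5 w).1.1.1.1, fun w => (h5 w).1.1.1.2,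
    fun w => by rw [← beq_iff_eq, (h5 w).1.1.2, beq_iff_eq], fun w => (h5 w).1.2,
    fun w hw => let h' := (h5 w).2.resolve_left (fun hh => hh hw); ⟨h'.1.1, h'.1.2, h'.2⟩,
    fun i => (h6 i).1.1.1.1, fun i => (h6 i).1.1.1.2,
    fun i => by rw [← beq_iff_eq, (h6 i).1.1.2, beq_iff_eq], fun i => (h6 i).1.2, fun i => (h6 i).2,
    fun w => (hl.1 w).1.1.1, fun w => (hl.1 w).1.2, fun i => (hl.2 i).1⟩

/-- The conjugate of a move. -/
theorem piV_lsh {φ : F →+* F} {S : Sym m n} {mv : Fin n → Move m} (hS : S.Good φ mv) (i : Fin n) (t : F)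
    (a : Fin m → F) :
    (fun v => (S.ew (S.rw' v) : F) * φ (lsh (mv i) t a (S.rw' v))) =
      lsh (mv (S.rg i)) ((S.eg i : F) * φ t) (fun v => (S.ew (S.rw' v) : F) * φ (a (S.rw' v))) := by
  funext v
  simp only [lsh, map_add, map_sum, mul_add, Finset.mul_sum]
  congr 1
  refine Fintype.sum_equiv ⟨S.rw', S.rw', hS.rw_rw, hS.rw_rw⟩ _ _ fun w => ?_
  simp only [Equiv.coe_fn_mk]
  rcases hr : mv i w with _ | ⟨x, c⟩
  · rw [hS.mv_none i w hr]; simp
  rw [hS.mv_some i w x c hr]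
  have hiff : S.rw' x = v ↔ x = S.rw' v :=
    ⟨fun h => by rw [← h, hS.rw_rw], fun h => by rw [h, hS.rw_rw]⟩
  simp only [Option.elim, hiff, hS.rw_rw]
  split_ifs with hx
  · rw [hx, hS.ew_rw v]
    simp only [map_mul, map_intCast, Int.cast_mul]
    linear_combination (-(c : F) * S.ew v * φ t * φ (a w)) * (sign_sq (K := F) (hS.ew_pm w)) +
      (-(c : F) * S.ew v * φ t * φ (a w) * S.ew w * S.ew w) * (sign_sq (K := F) (hS.eg_pm i))
  · simp

variable [Fintype F] {M : Type*} [AddCommGroup M] [Module ℂ M] [FiniteDimensional ℂ M]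

/-- The projection on the fixed space of the centre. -/
noncomputable def centreProj (ρ : Representation ℂ ↥Γ M) (g : Good D) (φ : F →+* F) (Rm : ℕ → ℕ) (εm : ℕ → ℤ)
    (θ : ℕ) : Module.End ℂ M :=
  fixProj fun s => ρ (Tx g φ Rm εm Γ θ s)

/-- The element with given coordinates. -/
noncomputable def coordEl (g : Good D) (φ : F →+* F) (Rm : ℕ → ℕ) (εm : ℕ → ℤ) (Γ : Subgroup (GL D.Idx F))
    (f : Fam m n) (a : Fin m → F) : ↥Γ :=
  ((List.finRange m).map fun w => Tx g φ Rm εm Γ (f.om w) (a w)).prod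

/-- The operators of the twisted family. -/
noncomputable def twY (ρ : Representation ℂ ↥Γ M) (g : Good D) (φ : F →+* F) (Rm : ℕ → ℕ) (εm : ℕ → ℤ)
    (f : Fam m n) (E : Module.End ℂ M) (a : Fin m → F) : Module.End ℂ M :=
  ρ (coordEl g φ Rm εm Γ f a) * E

/-- What is asked of the projection. -/
structure TEnv (ρ : Representation ℂ ↥Γ M) (g : Good D) (φ : F →+* F) (Rm : ℕ → ℕ) (εm : ℕ → ℤ) (θ : ℕ)
    (f : Fam m n) (S : Sym m n) (E : Module.End ℂ M) : Prop where
  idem : E * E = E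
  absorb : ∀ s, ρ (Tx g φ Rm εm Γ θ s) * E = E
  com_om : ∀ w t, Commute (ρ (Tx g φ Rm εm Γ (f.om w) t)) E
  com_mo : ∀ i t, Commute (ρ (Tx g φ Rm εm Γ (f.mo i) t)) E
  com_tor : ∀ β, S.rw' β = β → ∀ (u : Fˣ), φ u = (u : F) → ∀ h : ↥Γ,
    (h : GL D.Idx F) = g.hG (f.tw β) u → Commute (ρ h) E

namespace TwGrp

variable (hT : TwGrp g φ Rm εm Γ) (ρ : Representation ℂ ↥Γ M) {θ : ℕ} (hθ : θ < D.nroots) (hθR : Rm θ = θ)
include hT hθ hθR

theorem centre_add (s t : F) :
    ρ (Tx g φ Rm εm Γ θ (s + t)) = ρ (Tx g φ Rm εm Γ θ s) * ρ (Tx g φ Rm εm Γ θ t) := by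
  rw [← map_mul]
  refine congrArg ρ (Subtype.ext ?_)
  rw [Subgroup.coe_mul, hT.coe_Tx hθ, hT.coe_Tx hθ, hT.coe_Tx hθ, txG, txG, txG, if_pos hθR, if_pos hθR,
    if_pos hθR, g.xG_add, map_add, add_add_add_comm]

theorem centre_idem : centreProj ρ g φ Rm εm θ * centreProj ρ g φ Rm εm θ = centreProj ρ g φ Rm εm θ :=
  EigProj.isIdem (hT.centre_add ρ hθ hθR) 1

/-- The centre is absorbed. -/
theorem absorb_centre {E : Module.End ℂ M} (habs : ∀ s, ρ (Tx g φ Rm εm Γ θ s) * E = E) {x y : ↥Γ} {c : F}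
    (h : (x : GL D.Idx F) = y * g.xG θ c) : ρ x * E = ρ y * E := by
  have hc : φ c = c := by
    refine hT.fixed θ hθ hθR c ?_
    rw [show g.xG θ c = (y : GL D.Idx F)⁻¹ * x by rw [h, inv_mul_cancel_left]]
    exact mul_mem (inv_mem y.2) x.2
  obtain ⟨u, hu⟩ := hT.trace
  obtain ⟨s, hs⟩ := exists_half hu hc
  have e : x = y * Tx g φ Rm εm Γ θ s := by
    refine Subtype.ext ?_
    rw [Subgroup.coe_mul, hT.coe_Tx hθ, txG, if_pos hθR, hs, h]
  rw [e, map_mul, mul_assoc, habs]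

/-- An element normalising the centre commutes with the projection. -/
theorem commute_centre {y : ↥Γ} {k : F} (hk : k ≠ 0) (hkφ : φ k = k)
    (h : ∀ c : F, (y : GL D.Idx F) * g.xG θ c = g.xG θ (k * c) * y) :
    Commute (ρ y) (centreProj ρ g φ Rm εm θ) :=
  commute_fixProj (Equiv.mulLeft₀ k hk) fun s => by
    show _ = ρ (Tx g φ Rm εm Γ θ (k * s)) * _
    rw [← map_mul, ← map_mul]
    refine congrArg ρ (Subtype.ext ?_)
    rw [Subgroup.coe_mul, Subgroup.coe_mul, hT.coe_Tx hθ, hT.coe_Tx hθ, txG, txG, if_pos hθR, if_pos hθR, h,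
      map_mul φ, hkφ, mul_add]

theorem Tx_commute {r : ℕ} (hr : r < D.nroots) (hr' : Rm r < D.nroots) (h1 : commPairB D r θ = true)
    (h2 : commPairB D (Rm r) θ = true) (t : F) :
    Commute (ρ (Tx g φ Rm εm Γ r t)) (centreProj ρ g φ Rm εm θ) :=
  hT.commute_centre ρ hθ hθR one_ne_zero (map_one φ) fun c => by
    rw [one_mul, hT.coe_Tx hr, txG]
    split_ifs
    · exact (comm_xG g hT.hc hr hθ h1 _ _).eq
    · exact ((comm_xG g hT.hc hr hθ h1 _ _).mul_left (comm_xG g hT.hc hr' hθ h2 _ _)).eq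

end TwGrp

/-- The split projection on the regular representation. -/
noncomputable def hatE (g : Good D) (θ : ℕ) :
    Module.End ℂ (MonoidAlgebra ℂ ↥(rootTor g F (allRoots D))) :=
  fixProj fun s : F => Representation.ofMulAction ℂ ↥(rootTor g F (allRoots D)) ↥(rootTor g F (allRoots D))
    (Xh g (allRoots D) θ s)

theorem hatE_add (g : Good D) (θ : ℕ) (s t : F) :
    Representation.ofMulAction ℂ ↥(rootTor g F (allRoots D)) ↥(rootTor g F (allRoots D)) (Xh g (allRoots D) θ (s + t)) =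
      Representation.ofMulAction ℂ _ _ (Xh g (allRoots D) θ s) *
        Representation.ofMulAction ℂ _ _ (Xh g (allRoots D) θ t) := by
  rw [Xh_add, map_mul]

/-- Cosets of the centre are separated. -/
theorem hatE_sep {θ : ℕ} {x y : ↥(rootTor g F (allRoots D))}
    (h : Representation.ofMulAction ℂ _ _ x * hatE (F := F) g θ =
      Representation.ofMulAction ℂ _ _ y * hatE (F := F) g θ) :
    ∃ t : F, x = y * Xh g (allRoots D) θ t := by
  classical
  by_contra hh
  push Not at hh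
  have h1 := congrArg (fun v => MonoidAlgebra.coeff v x) (LinearMap.congr_fun h (MonoidAlgebra.single 1 1))
  simp only [hatE, fixProj_eq, Module.End.mul_apply, LinearMap.smul_apply, LinearMap.coe_sum, Finset.sum_apply,
    Representation.ofMulAction_single, map_smul, map_sum, MonoidAlgebra.coeff_smul, MonoidAlgebra.coeff_sum,
    MonoidAlgebra.coeff_single, Finsupp.smul_apply, Finsupp.finsetSum_apply,
    smul_eq_mul, mul_one, Finsupp.single_apply] at h1
  rw [mul_right_inj' (inv_ne_zero (by simp))] at h1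
  have hL : (1 : ℕ) ≤ (Finset.univ.filter fun t : F => x * Xh g (allRoots D) θ t = x).card :=
    Finset.card_pos.2 ⟨0, Finset.mem_filter.2 ⟨Finset.mem_univ _, by rw [Xh_zero, mul_one]⟩⟩
  rw [Finset.sum_boole, Finset.sum_boole, Nat.cast_inj,
    Finset.filter_false_of_mem (s := Finset.univ) (p := fun t : F => y * Xh g (allRoots D) θ t = x)
      fun t _ e => hh t e.symm, Finset.card_empty] at h1
  omega

theorem splitEnv (hc : HasComm D) {f : Fam m n} {θ : ℕ} (hθ : θ < D.nroots) (hok : f.check D [θ] = true)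
    (homθ : ∀ w, commPairB D (f.om w) θ = true) (hmoθ : ∀ i, commPairB D (f.mo i) θ = true)
    (hom : ∀ w, f.om w < D.nroots) (hmo : ∀ i, f.mo i < D.nroots) :
    Env f [θ] (Representation.ofMulAction ℂ ↥(rootTor g F (allRoots D)) ↥(rootTor g F (allRoots D)))
      (hatE g θ) := by
  set ρ' := Representation.ofMulAction ℂ ↥(rootTor g F (allRoots D)) ↥(rootTor g F (allRoots D))
  have hR : ∀ r ∈ allRoots D, r < D.nroots := fun r hr => mem_allRoots.1 hr
  have hθ' := (mem_allRoots (D := D)).2 hθ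
  have hcom : ∀ r, r < D.nroots → commPairB D r θ = true → ∀ t : F,
      Commute (ρ' (Xh g (allRoots D) r t)) (hatE g θ) := fun r hr hp t =>
    commute_fixProj (Equiv.refl F) fun s => ((Xh_comm hc hR (mem_allRoots.2 hr) hθ' hp t s).map ρ').eq
  exact ⟨hc, hR, hok, fun w => mem_allRoots.2 (hom w), fun i => mem_allRoots.2 (hmo i),
    by simpa using hθ', EigProj.isIdem (hatE_add g θ) 1, fun w t => hcom _ (hom w) (homθ w) t,
    fun i t => hcom _ (hmo i) (hmoθ i) t,
    fun r hr c => commute_fixProj (Equiv.mulLeft₀ ((c ^ pair D r θ : Fˣ) : F) (Units.ne_zero _)) fun s => by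
      show _ = ρ' (Xh g (allRoots D) θ (((c ^ pair D r θ : Fˣ) : F) * s)) * _
      rw [← map_mul, ← map_mul, ← Hh_conj hc hR hr hθ', inv_mul_cancel_right],
    fun k hk t => by
      obtain rfl := List.mem_singleton.1 hk
      exact fixProj_absorb (Z := fun s : F => ρ' (Xh g (allRoots D) k s)) (hatE_add g k) t⟩

namespace TwGrp

/-- A fixed torus element scales the coordinates. -/
theorem tor_conj (hT : TwGrp g φ Rm εm Γ) (ρ : Representation ℂ ↥Γ M) {θ : ℕ} {f : Fam m n} {S : Sym m n}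
    (hF : TwFam D φ f S Rm εm θ) {r : ℕ} (hpair : ∀ v, pair D r (f.om (S.rw' v)) = pair D r (f.om v)) {u : Fˣ}
    (huφ : φ u = (u : F)) {h : ↥Γ} (hh : (h : GL D.Idx F) = g.hG r u) {E : Module.End ℂ M}
    (hhE : Commute (ρ h) E) (a : Fin m → F) :
    ρ h * twY ρ g φ Rm εm f E a =
      twY ρ g φ Rm εm f E ((fun w => ((u ^ pair D r (f.om w) : Fˣ) : F)) * a) * ρ h := by
  set x : Fin m → F := fun w => ((u ^ pair D r (f.om w) : Fˣ) : F)
  have hxφ : ∀ w, φ (x w) = x w := fun w => by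
    simp only [x, Units.val_zpow_eq_zpow_val, map_zpow₀, huφ]
  have hfl := hF.om_lt
  have homR : ∀ w, Rm (f.om w) < D.nroots := fun w => hF.om_rw w ▸ hF.om_lt _
  have hconj : ∀ w t, MulAut.conj h (Tx g φ Rm εm Γ (f.om w) t) = Tx g φ Rm εm Γ (f.om w) (x w * t) := by
    intro w t
    refine Subtype.ext ?_
    rw [MulAut.conj_apply, Subgroup.coe_mul, Subgroup.coe_mul, Subgroup.coe_inv, hT.coe_Tx (hfl w),
      hT.coe_Tx (hfl w), txG, txG, map_mul φ, hxφ, hh]
    split_ifs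
    · rw [g.hG_conj_xG (hfl w), mul_add]
    · rw [← mul_assoc, ← g.hG_conj_xG (hfl w) u t]
      have hx : x w = ((u ^ pair D r (Rm (f.om w)) : Fˣ) : F) := by rw [← hF.om_rw, hpair]
      rw [mul_left_comm (εm (f.om w) : F), hx, ← g.hG_conj_xG (homR w) u]
      simp only [mul_assoc, inv_mul_cancel_left]
  have hel' : h * coordEl g φ Rm εm Γ f a = coordEl g φ Rm εm Γ f (x * a) * h := by
    rw [← mul_inv_eq_iff_eq_mul, ← MulAut.conj_apply, coordEl, map_list_prod, List.map_map]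
    exact congrArg List.prod (List.map_congr_left fun w _ => hconj w (a w))
  show ρ h * (ρ _ * E) = ρ _ * E * ρ h
  rw [← mul_assoc, ← map_mul, hel', map_mul, mul_assoc, hhE.eq, ← mul_assoc]

/-- The projection on the fixed space of the centre is admissible. -/
theorem centreEnv (hT : TwGrp g φ Rm εm Γ) (ρ : Representation ℂ ↥Γ M) {θ : ℕ} {f : Fam m n} {S : Sym m n}
    (hF : TwFam D φ f S Rm εm θ) : TEnv ρ g φ Rm εm θ f S (centreProj ρ g φ Rm εm θ) where
  idem := hT.centre_idem ρ hF.θlt hF.θfix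
  absorb := fixProj_absorb (Z := fun s => ρ (Tx g φ Rm εm Γ θ s)) (hT.centre_add ρ hF.θlt hF.θfix)
  com_om w t := hT.Tx_commute ρ hF.θlt hF.θfix (hF.om_lt w) (hF.om_rw w ▸ hF.om_lt _) (hF.om_comm w)
    (hF.om_rw w ▸ hF.om_comm _) t
  com_mo i t := hT.Tx_commute ρ hF.θlt hF.θfix (hF.mo_lt i) (hF.mo_rg i ▸ hF.mo_lt _) (hF.mo_comm i)
    (hF.mo_rg i ▸ hF.mo_comm _) t
  com_tor β _ u hu h hh := by
    refine hT.commute_centre ρ hF.θlt hF.θfix (k := ((u ^ pair D (f.tw β) θ : Fˣ) : F)) (Units.ne_zero _)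
      (by rw [Units.val_zpow_eq_zpow_val, map_zpow₀, hu]) fun s => ?_
    rw [hh, ← g.hG_conj_xG hF.θlt u s, inv_mul_cancel_right]

end TwGrp

/-- The twisted family is an operator family on the fixed vectors. -/
theorem tAct (hT : TwGrp g φ Rm εm Γ) (ρ : Representation ℂ ↥Γ M) {θ : ℕ} {f : Fam m n}
    {S : Sym m n} (hF : TwFam D φ f S Rm εm θ) {E : Module.End ℂ M} (hE : TEnv ρ g φ Rm εm θ f S E) :
    TAct φ S f.mv (twY ρ g φ Rm εm f E) (fun i t => ρ (Tx g φ Rm εm Γ (f.mo i) t)) := by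
  classical
  have hfl := hF.om_lt
  have hh := splitEnv (g := g) (F := F) hT.hc hF.θlt hF.ok hF.om_comm hF.mo_comm hF.om_lt hF.mo_lt
  set ρ' := Representation.ofMulAction ℂ ↥(rootTor g F (allRoots D)) ↥(rootTor g F (allRoots D))
  set E' := hatE (F := F) g θ
  let ι := Subgroup.inclusion hT.le
  have homR : ∀ w, Rm (f.om w) < D.nroots := fun w => hF.om_rw w ▸ hF.om_lt _
  have hmoR : ∀ i, Rm (f.mo i) < D.nroots := fun i => hF.mo_rg i ▸ hF.mo_lt _
  have hι : ∀ r, r < D.nroots → Rm r < D.nroots → ∀ t, ι (Tx g φ Rm εm Γ r t) =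
      if Rm r = r then Xh g (allRoots D) r (t + φ t)
      else Xh g (allRoots D) r t * Xh g (allRoots D) (Rm r) ((εm r : F) * φ t) := fun r hr hr' t => by
    refine Subtype.ext ?_
    rw [Subgroup.coe_inclusion, hT.coe_Tx hr, txG]
    split_ifs
    · rw [coe_Xh (mem_allRoots.2 hr)]
    · rw [Subgroup.coe_mul, coe_Xh (mem_allRoots.2 hr), coe_Xh (mem_allRoots.2 hr')]
  -- descent from the split family
  have hdesc : ∀ x y : ↥Γ, ρ' (ι x) * E' = ρ' (ι y) * E' →
      ρ x * E = ρ y * E := by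
    intro x y h
    obtain ⟨c, hc⟩ := hatE_sep h
    refine hT.absorb_centre ρ hF.θlt hF.θfix hE.absorb (c := c) ?_
    have := congrArg Subtype.val hc
    rwa [Subgroup.coe_mul, coe_Xh (mem_allRoots.2 hF.θlt)] at this
  have hsingle : ∀ w t, ρ' (ι (Tx g φ Rm εm Γ (f.om w) t)) * E' = hh.Y (piV φ S (Pi.single w t)) := by
    intro w t
    rw [hι _ (hfl w) (homR w)]
    have hpi : piV φ S (Pi.single w t) =
        Pi.single w t + Pi.single (S.rw' w) ((S.ew w : F) * φ t) := by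
      funext v
      simp only [piV, Pi.add_apply, Pi.single_apply]
      congr 1
      by_cases hv : v = S.rw' w
      · rw [hv, hF.good.rw_rw, if_pos rfl, if_pos rfl]
      · have : S.rw' v ≠ w := fun e => hv (by rw [← e, hF.good.rw_rw])
        simp [hv, this]
    rw [hpi, hh.Y_add, hh.Y_single, hh.Y_single]
    by_cases hfix : S.rw' w = w
    · rw [if_pos ((hF.om_fix w).1 hfix), hfix, hF.good.ew_fix w hfix, Int.cast_one, one_mul,
        ← hh.Y_single, ← hh.Y_single, ← hh.Y_single, ← hh.Y_add, ← Pi.single_add]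
    · rw [if_neg (fun e => hfix ((hF.om_fix w).2 e)), map_mul, hF.om_rw w, hF.ew w,
        mul_assoc (ρ' _) E', ← mul_assoc E' (ρ' _) E', ← hF.om_rw w,
        ← (hh.com_om (S.rw' w) _).eq, mul_assoc (ρ' _) E' E', hh.idem, mul_assoc]
  have hpiadd : ∀ a b : Fin m → F, piV φ S (a + b) = piV φ S a + piV φ S b := fun a b => by
    funext v; simp [piV, map_add, mul_add]; ring
  have hpi0 : piV φ S (0 : Fin m → F) = 0 := by funext v; simp [piV]
  have hY : ∀ b, E' * hh.Y b = hh.Y b := fun b =>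
    (congrArg (· * hh.Y b) hh.Y_zero.symm).trans (by rw [← hh.Y_add, zero_add])
  have hel : ∀ a, ρ' (ι (coordEl g φ Rm εm Γ f a)) * E' = hh.Y (piV φ S a) := by
    intro a
    have key : ∀ l : List (Fin m), ρ' (ι (l.map fun w => Tx g φ Rm εm Γ (f.om w) (a w)).prod) * E' =
        hh.Y (piV φ S (l.map fun w => Pi.single w (a w)).sum) := by
      intro l
      induction l with
      | nil =>
        rw [List.map_nil, List.prod_nil, map_one, map_one, one_mul, List.map_nil, List.sum_nil, hpi0, hh.Y_zero]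
      | cons w l ih =>
        rw [List.map_cons, List.prod_cons, map_mul, map_mul, mul_assoc, ih, List.map_cons, List.sum_cons, hpiadd,
          hh.Y_add, ← hsingle, mul_assoc _ E', hY]
    rw [coordEl, key, ← List.sum_toFinset _ (List.nodup_finRange m), List.toFinset_finRange,
      Finset.univ_sum_single]
  have hcomEl : ∀ a, Commute (ρ (coordEl g φ Rm εm Γ f a)) E := by
    intro a
    have key : ∀ l : List (Fin m), Commute (ρ (l.map fun w => Tx g φ Rm εm Γ (f.om w) (a w)).prod) E := by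
      intro l
      induction l with
      | nil => rw [List.map_nil, List.prod_nil, map_one]; exact Commute.one_left _
      | cons w l ih =>
        rw [List.map_cons, List.prod_cons, map_mul]
        exact (hE.com_om w (a w)).mul_left ih
    exact key _
  have hYel : ∀ w t, twY ρ g φ Rm εm f E (Pi.single w t) = ρ (Tx g φ Rm εm Γ (f.om w) t) * E := fun w t =>
    hdesc _ _ (by rw [hel, hsingle])
  refine ⟨hF.good, hh.proper, fun a b => ?_, fun w t => ?_, fun i t => ?_, fun i t a => ?_, fun β hβ c hc hcφ => ?_⟩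
  · show _ = ρ _ * E * (ρ _ * E)
    rw [mul_assoc (ρ _) E, ← mul_assoc E, ← (hcomEl b).eq, mul_assoc (ρ _) E E, hE.idem,
      ← mul_assoc, ← map_mul]
    refine hdesc _ _ ?_
    rw [hel, hpiadd, hh.Y_add, map_mul, map_mul, mul_assoc, hel, ← hel a, mul_assoc _ E', hY]
  · refine hdesc _ _ ?_
    rw [hel, hel]
    congr 1
    funext v
    simp only [piV, Pi.single_apply]
    by_cases hv : v = w
    · subst hv
      have e1 : (v = S.rw' v) ↔ (S.rw' v = v) := eq_comm
      by_cases hf : S.rw' v = v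
      · simp [hf, hF.good.ew_fix v hf, hF.good.invol, add_comm]
      · simp [hf, e1, hF.good.invol, ← mul_assoc, hF.good.ew_rw, sign_sq (hF.good.ew_pm v)]
    · have h1 : S.rw' v ≠ S.rw' w := fun e => hv (by rw [← hF.good.rw_rw v, e, hF.good.rw_rw])
      by_cases hv' : v = S.rw' w
      · subst hv'
        simp [hv, Ne.symm hv, hF.good.rw_rw]
      · have h2 : S.rw' v ≠ w := fun e => hv' (by rw [← e, hF.good.rw_rw])
        simp [hv, hv', h1, h2]
  · show ρ _ * ρ _ = 1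
    rw [← map_mul, ← map_one ρ]
    refine congrArg ρ (Subtype.ext ?_)
    rw [Subgroup.coe_mul, hT.coe_Tx (hF.mo_lt i), hT.coe_Tx (hF.mo_lt i), txG, txG, Subgroup.coe_one]
    split_ifs
    · rw [g.xG_add, map_neg, ← neg_add, add_neg_cancel, g.xG_zero]
    · rw [map_neg, mul_assoc, ← mul_assoc (g.xG (Rm (f.mo i)) _),
        (comm_xG g hT.hc (hmoR i) (hF.mo_lt i) (by
          have := hF.mo_pair (S.rg i); rwa [hF.good.rg_rg, hF.mo_rg] at this) _ _).eq,
        mul_assoc (g.xG (f.mo i) _), ← mul_assoc, g.xG_add, g.xG_add, add_neg_cancel, g.xG_zero, one_mul,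
        mul_neg, add_neg_cancel, g.xG_zero]
  · show ρ _ * (ρ _ * E) = ρ _ * E * ρ _
    set γ := Tx g φ Rm εm Γ (f.mo i) t with hγ
    have hγE : Commute (ρ γ) E := hE.com_mo i t
    rw [← mul_assoc, ← map_mul, mul_assoc (ρ _) E, ← hγE.eq, ← mul_assoc, ← map_mul]
    refine hdesc _ _ ?_
    have hγE' : Commute (ρ' (ι γ)) E' := by
      rw [hι _ (hF.mo_lt i) (hmoR i)]
      split_ifs
      · exact hh.com_mo i _
      · rw [map_mul, ← hF.mo_rg i]
        exact (hh.com_mo i _).mul_left (hh.com_mo _ _)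
    rw [map_mul, map_mul, mul_assoc, hel, map_mul, map_mul, mul_assoc, hγE'.eq, ← mul_assoc, hel]
    set bar : (Fin m → F) → (Fin m → F) := fun a v => (S.ew (S.rw' v) : F) * φ (a (S.rw' v))
    have hpiV : ∀ a : Fin m → F, piV φ S a = a + bar a := fun a => rfl
    rw [hι _ (hF.mo_lt i) (hmoR i), hpiV, hpiV, hh.Y_add, hh.Y_add, ← mul_assoc]
    by_cases hfix : S.rg i = i
    · have hbar : bar (tlsh φ S f.mv i t a) = tlsh φ S f.mv i t (bar a) := by
        simp only [bar, tlsh, if_pos hfix]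
        rw [piV_lsh hF.good, hfix, hF.good.eg_fix i hfix, Int.cast_one, one_mul, map_add, hF.good.invol,
          add_comm (φ t) t]
      rw [if_pos ((hF.mo_fix i).1 hfix), hbar, tlsh, if_pos hfix, hh.conjG, mul_assoc, hh.conjG, ← mul_assoc,
        tlsh, if_pos hfix]
    · rw [if_neg (fun e => hfix ((hF.mo_fix i).2 e)), ← hF.mo_rg i, ← hF.eg i]
      set u := (S.eg i : F) * φ t
      have e1 : ∀ b, ρ' (Xh g (allRoots D) (f.mo i) t * Xh g (allRoots D) (f.mo (S.rg i)) u) * hh.Y b =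
          hh.Y (lsh (f.mv i) t (lsh (f.mv (S.rg i)) u b)) *
            ρ' (Xh g (allRoots D) (f.mo i) t * Xh g (allRoots D) (f.mo (S.rg i)) u) := fun b => by
        rw [map_mul, mul_assoc, hh.conjG, ← mul_assoc, hh.conjG, mul_assoc]
      have e2 : ∀ b, ρ' (Xh g (allRoots D) (f.mo i) t * Xh g (allRoots D) (f.mo (S.rg i)) u) * hh.Y b =
          hh.Y (lsh (f.mv (S.rg i)) u (lsh (f.mv i) t b)) *
            ρ' (Xh g (allRoots D) (f.mo i) t * Xh g (allRoots D) (f.mo (S.rg i)) u) := fun b => by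
        rw [(Xh_comm hT.hc hh.hR (hh.moR i) (hh.moR _) (hF.mo_pair i) t u).eq, map_mul, mul_assoc, hh.conjG,
          ← mul_assoc, hh.conjG, mul_assoc]
      have hbar : bar (tlsh φ S f.mv i t a) = lsh (f.mv (S.rg i)) u (lsh (f.mv i) t (bar a)) := by
        simp only [bar, tlsh, if_neg hfix]
        rw [piV_lsh hF.good, piV_lsh hF.good, hF.good.rg_rg, hF.good.eg_rg, map_mul φ, map_intCast,
          hF.good.invol, ← mul_assoc, sign_sq (hF.good.eg_pm i), one_mul]
      rw [e1, mul_assoc, e2, ← mul_assoc, hbar, tlsh, if_neg hfix]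
  · obtain ⟨hfixr, hfixn, hpair⟩ := hF.tw β hβ
    have hpm : pair D (f.tw β) (f.om β) = 1 ∨ pair D (f.tw β) (f.om β) = -1 := (hh.check_om β).2.1
    let u : Fˣ := if pair D (f.tw β) (f.om β) = 1 then Units.mk0 c hc else (Units.mk0 c hc)⁻¹
    have huφ : φ u = (u : F) := by
      simp only [u]
      split_ifs <;> simp [hcφ]
    let h : ↥Γ := ⟨g.hG (f.tw β) u, hT.hG_mem_of_fixed (hF.tw_lt β) hfixr hfixn huφ⟩
    refine ⟨fun w => ((u ^ pair D (f.tw β) (f.om w) : Fˣ) : F), fun w => Units.ne_zero _, ?_, ρ h, ρ h⁻¹,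
      by rw [← map_mul, inv_mul_cancel, map_one], fun a => ?_⟩
    · rcases hpm with hp | hp <;> simp [u, hp]
    exact hT.tor_conj ρ hF hpair huφ rfl (hE.com_tor β hβ u huφ h rfl) a

end CfsgLib.KnownB.MinDeg
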