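import Cfsg.Agent.Lib.KnownB.MinDegTwChecks
import Cfsg.Agent.Lib.Chev.TwistPerfect
import Cfsg.Agent.Lib.Classical.SemiUnitaryClasses

/-!
The twisted group of type `E6` as a group with twisted root elements.
-/

set_option autoImplicit false
set_option maxHeartbeats 800000
set_option maxRecDepth 100000

namespace CfsgLib.KnownB.MinDeg

open Cfsg.Lie CfsgLib.Chev

/-- Twisted root elements generate inside the twisted group. -/
theorem exists_twGrp_E6 (K : Type*) [Field K] [Fintype K] [DecidableEq K] {q : ℕ} (hq : IsPrimePow q)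
    (hK : Fintype.card K = q ^ 2) :
    ∃ φ : K →+* K, (∀ x, φ x = x ^ q) ∧ TwGrp goodE6 φ t6R t6E (twistedE6 K q) ∧
      (Finset.univ.filter fun c : K => φ c = c).card = q := by
  obtain ⟨A₀, hG, hφ, hS, -, -⟩ := exists_setupE6 K hq hK
  obtain ⟨T, hTρ, hTpi, hTf⟩ := exists_twist_rhoE6 A₀.φ
  have hε : ∀ i : Fin chevE6.rank, nth 1 rhoE6Sign (goodE6.sroot i : ℕ) = 1 ∧
      nth 1 rhoE6Sign (goodE6.nroot (goodE6.sroot i) : ℕ) = 1 := by
    intro i
    have h := allR_upto sign_simple_E6 i.2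
    rw [Int.beq'_eq, ← (checksE6.simple_facts i.2).1] at h
    refine ⟨h, ?_⟩
    show nth 1 rhoE6Sign (chevE6.neg (chevE6.simple i)) = 1
    rw [neg_eq goodE6.lie.pack (goodE6.simple_lt i.2), eps_neg rhoE6_signed (goodE6.simple_lt i.2), h]
  let A : A1Setup goodE6 K := { A₀ with
    T := T
    Tρ := by rw [hTρ, hS]
    Tpi := by rw [hTpi, hS]
    f_simple := fun i t => ⟨by rw [hTf, (hε i).1, Int.cast_one, one_mul],
      by rw [hTf, (hε i).2, Int.cast_one, one_mul]⟩ }
  have hc : HasComm chevE6 := hasComm_of_mem (by simp)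
  set φ := A₀.φ
  have hinv : ∀ x, φ (φ x) = x := fun x => by rw [hφ, hφ, ← pow_mul, ← sq, ← hK, FiniteField.pow_card]
  have hfix : (Finset.univ.filter fun c : K => φ c = c).card = q := by
    rw [← Fintype.card_subtype, ← Nat.card_eq_fintype_card]
    simpa [CfsgLib.Classical.qFrob_apply, hφ] using CfsgLib.Classical.SemiUnitaryClasses.natCard_fixed hK
  have htrace : ∃ u : K, u + φ u = 1 := by
    obtain ⟨c, hc0⟩ : ∃ c : K, c + φ c ≠ 0 := by
      by_contra h
      push Not at h
      have hall : ∀ x, φ x = x := fun x => by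
        have h1 := h 1
        rw [map_one] at h1
        linear_combination h x - x * h1
      rw [Finset.filter_true_of_mem fun x _ => hall x, Finset.card_univ, hK] at hfix
      have := hq.one_lt
      nlinarith
    exact exists_trace_one hinv hc0
  obtain ⟨hsym⟩ : PLift _ := ⟨t6_sym⟩
  simp only [symRootsCheck, List.all_eq_true, List.mem_range, Bool.and_eq_true, decide_eq_true_eq,
    beq_iff_eq, Bool.or_eq_true, bne_iff_ne] at hsym
  have hσ : ∀ (r : ℕ) (hr : r < chevE6.nroots) (t : K) (h : goodE6.xG r t ∈ chevE6.group K),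
      (T.σ ⟨goodE6.xG r t, h⟩ : GL chevE6.Idx K) = goodE6.xG (t6R r) ((t6E r : K) * φ t) := by
    intro r hr t h
    rw [T.σ_xG hr, hTf, hTρ]
    rfl
  have hfixed : ∀ r, r < chevE6.nroots → ∀ t, txG goodE6 φ t6R t6E r t ∈ T.fixed := by
    intro r hr t
    obtain ⟨⟨⟨⟨⟨hR, hRR⟩, hpm⟩, hsy⟩, hcm⟩, hf⟩ := hsym r hr
    rw [txG]
    split_ifs with hfr
    · refine (T.mem_fixed ⟨_, goodE6.xG_mem_group hr _⟩).2 (Subtype.ext ?_)
      show (T.σ ⟨_, _⟩ : GL chevE6.Idx K) = _
      rw [hσ r hr, hfr, hf.resolve_left (fun h => h hfr), Int.cast_one, one_mul, map_add, hinv, add_comm (φ t) t]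
    · refine (T.mem_fixed ⟨_, mul_mem (goodE6.xG_mem_group hr _) (goodE6.xG_mem_group hR _)⟩).2 (Subtype.ext ?_)
      show (T.σ (⟨_, goodE6.xG_mem_group hr t⟩ * ⟨_, goodE6.xG_mem_group hR _⟩) : GL chevE6.Idx K) = _
      rw [map_mul T.σ, Subgroup.coe_mul, hσ r hr, hσ _ hR, hRR, hsy, map_mul φ, map_intCast, hinv, ← mul_assoc,
        sign_sq hpm, one_mul]
      exact (comm_xG goodE6 hc hr hR hcm t _).eq.symm
  have hpos : ∀ x ∈ T.fixed, x ∈ chevE6.posUnipotent K → x ∈ twistedE6 K q := fun x hx hx' => by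
    rw [← hG]
    exact (((A.sys hc).pos_inf_eq hc).ge (Subgroup.mem_inf.2 ⟨hx', hx⟩)).2
  have hgen : ∀ r, half chevE6 ≤ r → r < chevE6.nroots → ∀ t : K, goodE6.xG r t ∈ chevE6.posUnipotent K := by
    intro r h1 h2 t
    rw [goodE6.posUnipotent_eq]
    exact goodE6.mem_rootGen h2 h1 t
  have hhalf : ∀ r < chevE6.nroots, half chevE6 ≤ r ↔ half chevE6 ≤ t6R r := fun r hr => by
    have h := T.ρ_pos_iff ⟨r, hr⟩
    rw [hTρ] at h
    exact h.symm
  obtain ⟨w₀, hw₀, hms, -⟩ := T.exists_longest_fixed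
  obtain ⟨m, hm, -, hma⟩ := (A.sys hc).exists_rep hw₀
  have hneg : ∀ (r : ℕ) (hr : r < chevE6.nroots), r < half chevE6 →
      half chevE6 ≤ (w₀ ⟨r, hr⟩ : ℕ) := by
    intro r hr hlt
    by_contra hcon
    have hmem : ∀ s : Fin chevE6.nroots, half chevE6 ≤ (s : ℕ) → (w₀ s : ℕ) < half chevE6 := fun s hs => by
      obtain ⟨_, -, h⟩ := hms.ge (⟨s.2, hs⟩ : (s : ℕ) < chevE6.nroots ∧ half chevE6 ≤ s)
      exact h
    have hsub : ((Finset.univ.filter fun s : Fin chevE6.nroots => half chevE6 ≤ (s : ℕ)) ∪ {⟨r, hr⟩}).image w₀ ⊆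
        Finset.univ.filter fun s : Fin chevE6.nroots => (s : ℕ) < half chevE6 := by
      intro s hs
      obtain ⟨s', hs', rfl⟩ := Finset.mem_image.1 hs
      refine Finset.mem_filter.2 ⟨Finset.mem_univ _, ?_⟩
      rcases Finset.mem_union.1 hs' with h | h
      · exact hmem _ (Finset.mem_filter.1 h).2
      · rw [Finset.mem_singleton.1 h]; omega
    have h1 := Finset.card_le_card hsub
    rw [Finset.card_image_of_injective _ w₀.injective, Finset.card_union_of_disjoint (by simp [hlt])] at h1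
    have h2 := Finset.card_filter_add_card_filter_not (s := (Finset.univ : Finset (Fin chevE6.nroots)))
      (fun s : Fin chevE6.nroots => half chevE6 ≤ (s : ℕ))
    simp only [not_le, Finset.card_singleton, Finset.card_univ, Fintype.card_fin] at h1 h2
    have h3 : (Finset.univ.filter fun s : Fin chevE6.nroots => (s : ℕ) < half chevE6).card = half chevE6 := by
      rw [Fin.card_filter_val_lt, min_eq_right]
      unfold half
      omega
    have h4 := goodE6.nroots_eq
    unfold half at *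
    omega
  refine ⟨φ, hφ, ⟨hc, hinv, htrace, ?_, fun r hr t => ?_, fun r hr hfr c hcmem => ?_⟩, hfix⟩
  · rw [← hG]
    refine le_trans (A.sys hc).le_group ((Subgroup.closure_le _).2 ?_)
    rintro x ⟨r, t, hx⟩
    have : x = goodE6.xG (r : ℕ) t := Units.ext (by rw [goodE6.coe_xG, hx, ChevalleyDatum.x, dif_pos r.2])
    rw [this]
    exact Subgroup.subset_closure (Or.inl ⟨r, mem_allRoots.2 r.2, t, rfl⟩)
  · by_cases hp : half chevE6 ≤ r
    · refine hpos _ (hfixed r hr t) ?_
      rw [txG]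
      split_ifs
      · exact hgen _ hp hr _
      · exact mul_mem (hgen _ hp hr _) (hgen _ ((hhalf r hr).1 hp) (hsym r hr).1.1.1.1.1 _)
    · have hmfix : m ∈ T.fixed := A.G1_le_fixed hc hm
      have hy : m * txG goodE6 φ t6R t6E r t * m⁻¹ ∈ chevE6.posUnipotent K := by
        have hconj : ∀ s, s < chevE6.nroots → s < half chevE6 → ∀ z,
            m * goodE6.xG s z * m⁻¹ ∈ chevE6.posUnipotent K := by
          intro s hs hlt z
          obtain ⟨c, hc'⟩ := hma ⟨s, hs⟩
          rw [show goodE6.xG s z = goodE6.xG ((⟨s, hs⟩ : Fin chevE6.nroots) : ℕ) z from rfl, hc']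
          exact hgen _ (hneg s hs hlt) (Fin.isLt _) _
        rw [txG]
        split_ifs
        · exact hconj _ hr (not_le.1 hp) _
        · rw [← conj_mul]
          exact mul_mem (hconj _ hr (not_le.1 hp) _)
            (hconj _ (hsym r hr).1.1.1.1.1 (not_le.1 fun h => hp ((hhalf r hr).2 h)) _)
      have h1 := hpos _ (mul_mem (mul_mem hmfix (hfixed r hr t)) (inv_mem hmfix)) hy
      rw [← hG] at h1 ⊢
      have h2 := mul_mem (mul_mem (inv_mem hm) h1) hm
      show _ ∈ (A.sys hc).G1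
      simpa [mul_assoc] using h2
  · rw [← hG] at hcmem
    have hxf := A.G1_le_fixed hc hcmem
    have h1 := congrArg Subtype.val ((T.mem_fixed ⟨_, goodE6.xG_mem_group hr c⟩).1 hxf)
    rw [hσ r hr, hfr, (hsym r hr).2.resolve_left (fun h => h hfr), Int.cast_one, one_mul] at h1
    have h2 : goodE6.xG r (φ c + -c) = 1 := by
      rw [← goodE6.xG_add]
      show goodE6.xG r (φ c) * _ = 1
      rw [show goodE6.xG r (φ c) = goodE6.xG r c from h1, goodE6.xG_add, add_neg_cancel, goodE6.xG_zero]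
    exact sub_eq_zero.1 (by rw [sub_eq_add_neg]; exact (goodE6.x_eq_one_iff hr _).1 (congrArg Units.val h2))

end CfsgLib.KnownB.MinDeg
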