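import Cfsg.Agent.Lib.KnownB.MinDegTwConj
import Cfsg.Agent.Lib.KnownB.MinDegTop

/-!
Dimensions and traces for a twisted family.
-/

set_option autoImplicit false
set_option linter.unusedSectionVars false

namespace CfsgLib.KnownB.MinDeg

open Cfsg.Lie CfsgLib.Chev CfsgLib.KnownB.D4Deg Module

variable {D : ChevalleyDatum} {m n : ℕ}

/-- The check of the charts at the fixed coordinates. -/
def tchartCheck (f : Fam m n) (S : Sym m n) (C : Fin m → Chart m n) (e : ℕ) : Bool :=
  (List.finRange m).all fun β => S.rw' β != β ||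
    ((C β).β == β && (C β).tcheck S f.mv && (C β).next.card == e &&
      ((C β).nb.all fun p => decide (p.1 ≤ β) || (List.finRange m).all fun w => decide (β ≤ w) ||
        match f.mv p.2 w with | none => true | some (v, _) => decide (v < β)) &&
      ((C β).nb.all fun p => decide (p.1 < β) == decide (S.rw' p.1 < β)))

/-- The check of a fixed move at the fixed coordinates. -/
def tmovedCheck (D : ChevalleyDatum) (f : Fam m n) (S : Sym m n) (Rm : ℕ → ℕ) (εm : ℕ → ℤ)
    (C : Fin m → Chart m n) (α : Fin n) (dec : Fin m → Fin n × Fin n) : Bool :=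
  S.rg α == α && (List.finRange m).all fun β => S.rw' β != β ||
    (List.finRange m).any (fun w => match f.mv α w with | none => false | some (v, _) => v == β) ||
    (((C β).nb.all fun p => decide (p.1 ≤ β) ||
        (commPairB D (f.mo p.2) (f.mo α) && commPairB D (Rm (f.mo p.2)) (f.mo α))) &&
      !decide (Hits (f.mv (dec β).1) β) && !decide (Hits (f.mv (S.rg (dec β).1)) β) &&
      !decide (Hits (f.mv (dec β).2) β) && !decide (Hits (f.mv (S.rg (dec β).2)) β) &&
      splitCheck D Rm εm (f.mo (dec β).2) (f.mo (dec β).1) (f.mo α))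

/-- The check that the moved coordinates cannot come first. -/
def tshortCheck (f : Fam m n) (S : Sym m n) (C : Fin m → Chart m n)
    (d : Fin m → Fin m × Fin m × Fin n × Fin n × List (Fin m)) : Bool :=
  (List.finRange m).all fun v => S.rw' v == v || decide (S.rw' v < v) ||
    (S.rw' (d v).1 == (d v).1 && shortCheck S f.mv (C (d v).1) v (d v).2.1 (d v).2.2.1 (d v).2.2.2.1 (d v).2.2.2.2)

/-- The fixed coordinates. -/
def fixedCoords (S : Sym m n) : List (Fin m) := (List.finRange m).filter fun β => S.rw' β == β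

/-- The total over the cells of the fixed coordinates. -/
def tTotal (q : ℕ) (S : Sym m n) (C : Fin m → Chart m n) : ℕ :=
  ∑ β, if S.rw' β = β then (q - 1) * q ^ (C β).expo else 0

/-- The total over the moved cells of the fixed coordinates. -/
def tMoved (q : ℕ) (f : Fam m n) (S : Sym m n) (C : Fin m → Chart m n) (α : Fin n) : ℕ :=
  ∑ β, if S.rw' β = β ∧ Hits (f.mv α) β then (q - 1) * q ^ (C β).expo else 0

/-- The exponents of the cells of the fixed coordinates. -/
def tExpo (S : Sym m n) (C : Fin m → Chart m n) : List ℕ := (fixedCoords S).map fun β => (C β).expo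

/-- The exponents of the moved cells of the fixed coordinates. -/
def tMovedExpo (f : Fam m n) (S : Sym m n) (C : Fin m → Chart m n) (α : Fin n) : List ℕ :=
  ((fixedCoords S).filter fun β => decide (Hits (f.mv α) β)).map fun β => (C β).expo

theorem tTotal_eq (S : Sym m n) (C : Fin m → Chart m n) {l : List ℕ} (h : tExpo S C = l) (q : ℕ) :
    tTotal q S C = (q - 1) * (l.map (q ^ ·)).sum := by
  subst h
  rw [tTotal, tExpo, fixedCoords, List.map_map, Fin.sum_univ_def]
  induction List.finRange m with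
  | nil => simp
  | cons a l ih => by_cases ha : S.rw' a = a <;> simp [ha, ih, mul_add]

theorem tMoved_eq (f : Fam m n) (S : Sym m n) (C : Fin m → Chart m n) (α : Fin n) {l : List ℕ}
    (h : tMovedExpo f S C α = l) (q : ℕ) : tMoved q f S C α = (q - 1) * (l.map (q ^ ·)).sum := by
  subst h
  rw [tMoved, tMovedExpo, fixedCoords, List.filter_filter, List.map_map, Fin.sum_univ_def]
  induction List.finRange m with
  | nil => simp
  | cons a l ih =>
    by_cases ha : S.rw' a = a <;> by_cases hh : Hits (f.mv α) a <;> simp [ha, hh, ih, mul_add]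

variable {K : Type*} [Field K] [Fintype K] [DecidableEq K] {φ : K →+* K} {f : Fam m n} {S : Sym m n}
  {C : Fin m → Chart m n} {e : ℕ}

theorem tchart (hp : ∀ i, Proper (f.mv i)) (hk : tchartCheck f S C e = true) {β : Fin m} (hβ : S.rw' β = β) :
    (C β).β = β ∧ (C β).TOK S f.mv ∧ (C β).next.card = e ∧ (C β).Ordered f.mv ∧
      ∀ v ∈ (C β).next, (v < β ↔ S.rw' v < β) := by
  simp only [tchartCheck, List.all_eq_true, List.mem_finRange, forall_const, Bool.or_eq_true, bne_iff_ne,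
    Bool.and_eq_true, beq_iff_eq] at hk
  obtain ⟨⟨⟨⟨h1, h2⟩, h3⟩, h4⟩, h5⟩ := (hk β).resolve_left (fun h => h hβ)
  refine ⟨h1, Chart.tok_of_check hp h2, h3, fun p hpm hlt w hw => ?_, fun v hv => ?_⟩
  · have h6 := h4 p hpm
    simp only [decide_eq_true_eq] at h6
    rw [h1] at hlt hw ⊢
    have h7 := ((h6.resolve_left (not_le.2 hlt)) w).resolve_left (not_le.2 hw)
    rcases hr : f.mv p.2 w with _ | ⟨v, c⟩
    · trivial
    · rw [hr] at h7; simpa using h7
  · obtain ⟨p, hpm, rfl⟩ := List.mem_map.1 (List.mem_toFinset.1 hv)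
    exact decide_eq_decide.1 (h5 p hpm)

theorem before_stable (hS : S.Good φ f.mv) (hp : ∀ i, Proper (f.mv i)) {F : (Fin m → K) → ℕ}
    (hF : TInv φ S f.mv F) (hk : tchartCheck f S C e = true) {β : Fin m} (hβ : S.rw' β = β) :
    ∀ v ∈ (C β).before, S.rw' v ∈ (C β).before := by
  obtain ⟨h1, hC, -, -, h5⟩ := tchart hp hk hβ
  intro v hv
  obtain ⟨hn, hlt⟩ := Finset.mem_filter.1 hv
  refine Finset.mem_filter.2 ⟨hF.next_stable hS hC v hn, ?_⟩
  rw [h1] at hlt ⊢
  exact (h5 v hn).1 hlt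

/-- Nothing of the support lies in the cell of a moved coordinate. -/
theorem short_cell (hS : S.Good φ f.mv) (hp : ∀ i, Proper (f.mv i)) {F : (Fin m → K) → ℕ}
    (hF : TInv φ S f.mv F) (hk : tchartCheck f S C e = true) {u : K} (hu : u + φ u = 1)
    {d : Fin m → Fin m × Fin m × Fin n × Fin n × List (Fin m)} (hd : tshortCheck f S C d = true)
    (h1 : ∀ β, S.rw' β = β → Inv.sliceSum F (C β) = 1) {v : Fin m} (hv : S.rw' v ≠ v) {b : Fin m → K}
    (hb : b ∈ cell K v) : F b = 0 := by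
  by_contra hne
  obtain ⟨hbv, hlow⟩ := (Finset.mem_filter.1 hb).2
  simp only [tshortCheck, List.all_eq_true, List.mem_finRange, forall_const, Bool.or_eq_true, beq_iff_eq,
    decide_eq_true_eq, Bool.and_eq_true] at hd
  rcases hd v with (h | h) | ⟨hfix, hs⟩
  · exact hv h
  · exact hbv (((hF.supp b hne).ne_zero_iff hS v).1 (hlow _ h))
  · exact hbv (not_first hS hF hp (tchart hp hk hfix).2.1 hu (h1 _ hfix) hs hne hlow)

/-- The mass of a cell. -/
theorem cell_mass (hS : S.Good φ f.mv) (hp : ∀ i, Proper (f.mv i)) {F : (Fin m → K) → ℕ}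
    (hF : TInv φ S f.mv F) (hk : tchartCheck f S C e = true) {u : K} (hu : u + φ u = 1) {q : ℕ}
    (hq : Fintype.card K = q ^ 2) (hfix : (Finset.univ.filter fun c : K => φ c = c).card = q)
    {d : Fin m → Fin m × Fin m × Fin n × Fin n × List (Fin m)} (hd : tshortCheck f S C d = true)
    (h1 : ∀ β, S.rw' β = β → Inv.sliceSum F (C β) = 1) (β : Fin m) :
    ∑ b ∈ cell K β, F b = if S.rw' β = β then (q - 1) * q ^ (C β).expo else 0 := by
  split_ifs with hβ
  · obtain ⟨hβ', hC, -, ho, -⟩ := tchart hp hk hβ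
    have := hF.cell_count hS hC hu hq hfix ho (before_stable hS hp hF hk hβ) (h1 β hβ)
    rwa [hβ'] at this
  · exact Finset.sum_eq_zero fun b hb => short_cell hS hp hF hk hu hd h1 hβ hb

variable {g : Good D} {Rm : ℕ → ℕ} {εm : ℕ → ℤ} {Γ : Subgroup (GL D.Idx K)} {M : Type*} [AddCommGroup M]
  [Module ℂ M] [FiniteDimensional ℂ M] {ρ : Representation ℂ ↥Γ M} {θ : ℕ} {E : Module.End ℂ M}
  {ψ : AddChar K ℂ} {q : ℕ}

theorem twY_zero (hT : TwGrp g φ Rm εm Γ) (hF : TwFam D φ f S Rm εm θ) : twY ρ g φ Rm εm f E 0 = E := by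
  have hz : coordEl g φ Rm εm Γ f 0 = 1 := by
    refine List.prod_eq_one fun x hx => ?_
    obtain ⟨w, -, rfl⟩ := List.mem_map.1 hx
    refine Subtype.ext ?_
    rw [hT.coe_Tx (hF.om_lt w), Subgroup.coe_one, txG, Pi.zero_apply, map_zero, add_zero, mul_zero, g.xG_zero,
      g.xG_zero, mul_one, ite_self]
  rw [twY, hz, map_one, one_mul]

theorem twY_single (hT : TwGrp g φ Rm εm Γ) (hF : TwFam D φ f S Rm εm θ) (β : Fin m) (t : K) :
    twY ρ g φ Rm εm f E (Pi.single β t) = ρ (Tx g φ Rm εm Γ (f.om β) t) * E := by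
  classical
  have hz : ∀ l : List (Fin m), l.Nodup → (l.map fun w => Tx g φ Rm εm Γ (f.om w)
      ((Pi.single β t : Fin m → K) w)).prod = if β ∈ l then Tx g φ Rm εm Γ (f.om β) t else 1 := by
    intro l
    induction l with
    | nil => simp
    | cons w l ih =>
      intro hnd
      obtain ⟨hw, hnd⟩ := List.nodup_cons.1 hnd
      rw [List.map_cons, List.prod_cons, ih hnd]
      rcases eq_or_ne w β with rfl | hne
      · simp [hw]
      · have h0 : Tx g φ Rm εm Γ (f.om w) (0 : K) = 1 := Subtype.ext (by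
          rw [hT.coe_Tx (hF.om_lt w), Subgroup.coe_one, txG, map_zero, add_zero, mul_zero, g.xG_zero,
            g.xG_zero, mul_one, ite_self])
        simp [h0, Ne.symm hne]
  rw [twY, coordEl, hz _ (List.nodup_finRange m), if_pos (List.mem_finRange β)]

section

variable (hT : TwGrp g φ Rm εm Γ) (hF : TwFam D φ f S Rm εm θ) (hE : TEnv ρ g φ Rm εm θ f S E) (hψ : ψ ≠ 1)
  (hψφ : ∀ x, ψ (φ x) = ψ x) (hq : Fintype.card K = q ^ 2)
  (hfix : (Finset.univ.filter fun c : K => φ c = c).card = q) (hk : tchartCheck f S C e = true)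
include hT hF hE hψ hψφ hq hfix hk

/-- The slices of the fixed coordinates under a constant trace. -/
theorem tshape {χ : ℂ} {a : ℕ} (ha : LinearMap.trace ℂ M E = (a : ℂ))
    (htr : ∀ β, S.rw' β = β → ∀ t : K, t + φ t ≠ 0 →
      LinearMap.trace ℂ M (ρ (Tx g φ Rm εm Γ (f.om β) t) * E) = χ) {β : Fin m} (hβ : S.rw' β = β) :
    ((q : ℂ) - 1) * χ + (q : ℂ) *
        (((q - 1) * q ^ e * Inv.sliceSum (mlt (twY ρ g φ Rm εm f E) ψ) (C β) : ℕ) : ℂ) = ((q : ℂ) - 1) * a ∧
      (q - 1) * q ^ e * Inv.sliceSum (mlt (twY ρ g φ Rm εm f E) ψ) (C β) ≤ a := by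
  classical
  obtain ⟨u, hu⟩ := hT.trace
  have hA := tAct hT ρ hF hE
  have hI := hA.isTInv hψ hψφ
  have hY0 : twY ρ g φ Rm εm f E 0 = E := twY_zero hT hF
  have hsingle := twY_single hT hF (ρ := ρ) (E := E) β
  obtain ⟨hβ', hC, hcard, -, -⟩ := tchart hA.proper hk hβ
  have hsum := hI.sum_chart hF.good hC hu hq hfix ∅ (Finset.empty_subset _) (by simp)
  rw [hcard, hβ', Finset.card_empty, Nat.sub_zero] at hsum
  simp only [Finset.notMem_empty, false_imp_iff, implies_true, and_true] at hsum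
  constructor
  · have h1 := hA.trace_coord hψ hβ hq hfix hu (β₀ := χ) fun t ht => by rw [hsingle]; exact htr β hβ t ht
    rw [hY0, ha, hsum] at h1
    exact h1
  · have h2 := hA.sum_mlt hψ
    rw [hY0, ha, Nat.cast_inj] at h2
    rw [← h2, ← hsum]
    exact Finset.sum_le_sum_of_subset (Finset.subset_univ _)

variable {d : Fin m → Fin m × Fin m × Fin n × Fin n × List (Fin m)}

/-- The dimension in the multiplicity-free case. -/
theorem ttotal (hd : tshortCheck f S C d = true) {a : ℕ} (ha : LinearMap.trace ℂ M (twY ρ g φ Rm εm f E 0) = (a : ℂ))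
    (h1 : ∀ β, S.rw' β = β → Inv.sliceSum (mlt (twY ρ g φ Rm εm f E) ψ) (C β) = 1) :
    a = mlt (twY ρ g φ Rm εm f E) ψ 0 + tTotal q S C := by
  obtain ⟨u, hu⟩ := hT.trace
  have hA := tAct hT ρ hF hE
  have h2 := hA.sum_mlt hψ
  rw [ha, Nat.cast_inj, sum_cells] at h2
  rw [← h2, tTotal]
  congr 1
  exact Finset.sum_congr rfl fun β _ =>
    cell_mass hF.good hA.proper (hA.isTInv hψ hψφ) hk hu hq hfix hd h1 β

/-- The trace of a fixed move in the multiplicity-free case. -/
theorem tmoved_trace (hd : tshortCheck f S C d = true) {α : Fin n} {dec : Fin m → Fin n × Fin n}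
    (hm : tmovedCheck D f S Rm εm C α dec = true)
    (h1 : ∀ β, S.rw' β = β → Inv.sliceSum (mlt (twY ρ g φ Rm εm f E) ψ) (C β) = 1) {t : K} (ht : t + φ t ≠ 0) :
    LinearMap.trace ℂ M (ρ (Tx g φ Rm εm Γ (f.mo α) t) * twY ρ g φ Rm εm f E 0) + (tMoved q f S C α : ℂ) =
      LinearMap.trace ℂ M (ρ (Tx g φ Rm εm Γ (f.mo α) t) * pr (twY ρ g φ Rm εm f E) ψ 0) +
        (tTotal q S C : ℂ) := by
  classical
  obtain ⟨u, hu⟩ := hT.trace
  have hA := tAct hT ρ hF hE
  have hI := hA.isTInv hψ hψφ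
  simp only [tmovedCheck, Bool.and_eq_true, List.all_eq_true, List.mem_finRange, forall_const, Bool.or_eq_true,
    beq_iff_eq, bne_iff_ne, decide_eq_true_eq, Bool.not_eq_true', decide_eq_false_iff_not] at hm
  obtain ⟨hα, hm⟩ := hm
  have hc : ∀ β, ∑ b ∈ cell K β,
      LinearMap.trace ℂ M (ρ (Tx g φ Rm εm Γ (f.mo α) t) * pr (twY ρ g φ Rm εm f E) ψ b) =
        ((if S.rw' β = β ∧ ¬ Hits (f.mv α) β then (q - 1) * q ^ (C β).expo else 0 : ℕ) : ℂ) := by
    intro β
    by_cases hβ : S.rw' β = β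
    · obtain ⟨hβ', hC, -, ho, -⟩ := tchart hA.proper hk hβ
      have h4 := (hA.cell_sums hψ hψφ hq hfix hu hC ho (before_stable hF.good hA.proper hI hk hβ) (h1 β hβ)
        (α := α) (γ := (dec β).1) (δ := (dec β).2) hα ht ?_).2
      · rw [hβ'] at h4
        rw [h4]
        by_cases hh : Hits (f.mv α) β <;> simp [hh, hβ, Chart.expo]
      · rw [hβ']
        intro hn
        have h5 := (hm β).resolve_left ?_
        · obtain ⟨⟨⟨⟨⟨h6, h7⟩, h8⟩, h9⟩, h10⟩, h11⟩ := h5
          refine ⟨fun p hp hlt s => ?_, ⟨h7, h8⟩, ⟨h9, h10⟩, ?_⟩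
          · have hp' := (h6 p hp).resolve_left (not_le.2 hlt)
            refine Commute.map (Subtype.ext ?_) ρ
            simp only [Subgroup.coe_mul, hT.coe_Tx (hF.mo_lt _), txG, if_pos ((hF.mo_fix α).1 hα)]
            split_ifs
            · exact (comm_xG g hT.hc (hF.mo_lt _) (hF.mo_lt _) hp'.1 _ _).eq
            · exact ((comm_xG g hT.hc (hF.mo_lt _) (hF.mo_lt _) hp'.1 _ _).mul_left
                (comm_xG g hT.hc (hF.mo_rg p.2 ▸ hF.mo_lt _) (hF.mo_lt _) hp'.2 _ _)).eq
          · obtain ⟨s, u', he⟩ := hT.split_dec (splitPair_of_check h11) t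
            exact ⟨s, u', by simp only [← map_mul, he]⟩
        · rintro (h | h)
          · exact h hβ
          · exact hn (hits_iff.2 h)
    · rw [if_neg (fun h => hβ h.1), Nat.cast_zero]
      refine Finset.sum_eq_zero fun b hb => ?_
      rw [hA.pr_eq_zero (short_cell hF.good hA.proper hI hk hu hd h1 hβ hb), mul_zero, map_zero]
  rw [← hA.sum_pr hψ, Finset.mul_sum, map_sum, sum_cells, Finset.sum_congr rfl fun β _ => hc β, add_assoc,
    tTotal, tMoved, ← Nat.cast_sum, ← Nat.cast_add, ← Finset.sum_add_distrib]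
  congr 2
  exact Finset.sum_congr rfl fun β _ => by
    by_cases h : S.rw' β = β <;> by_cases h' : Hits (f.mv α) β <;> simp [h, h']

end

/-- The check of the coordinates joining the fixed ones. -/
def joinCheck (f : Fam m n) (S : Sym m n) (qd : List (Fin m × Fin m × Fin m × Fin n)) : Bool :=
  (qd.all fun x => S.rw' x.1 == x.1 && quadCheck S f.mv [] x.2.2.1 x.1 x.2.1 x.2.2.2 &&
    (match f.mv (S.rg x.2.2.2) x.1, f.mv x.2.2.2 x.1 with
      | some (_, a), some (_, b) => a * S.eg x.2.2.2 == b * S.ew x.2.2.1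
      | _, _ => false)) &&
  (fixedCoords S).all (fun t => (fixedCoords S).all fun b => t == b || qd.any fun x => x.1 == t && x.2.1 == b) &&
  (List.finRange m).all (fun v => S.rw' v == v || qd.any fun x => x.2.2.1 == v || x.2.2.1 == S.rw' v)

/-- Every orbit outside zero meets each fixed coordinate. -/
theorem join (hS : S.Good φ f.mv) (hp : ∀ i, Proper (f.mv i)) {F : (Fin m → K) → ℕ} (hF : TInv φ S f.mv F)
    {u : K} (hu : u + φ u = 1) {qd : List (Fin m × Fin m × Fin m × Fin n)} (hj : joinCheck f S qd = true)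
    {b : Fin m → K} (hb : F b ≠ 0) (hb0 : b ≠ 0) {β : Fin m} (hβ : S.rw' β = β) :
    ∃ z, F z ≠ 0 ∧ z β ≠ 0 := by
  simp only [joinCheck, fixedCoords, Bool.and_eq_true, List.all_eq_true, List.mem_filter, List.mem_finRange,
    true_and, beq_iff_eq, Bool.or_eq_true, List.any_eq_true, forall_const] at hj
  obtain ⟨⟨hq1, hq2⟩, hq3⟩ := hj
  obtain ⟨y, hfy, w, hw, hyw⟩ : ∃ y, F y ≠ 0 ∧ ∃ w, S.rw' w = w ∧ y w ≠ 0 := by
    obtain ⟨v, hv⟩ : ∃ v, b v ≠ 0 := Function.ne_iff.1 hb0
    rcases hq3 v with h | ⟨⟨top, bot, v', j⟩, hx, hv'⟩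
    · exact ⟨b, hb, v, h, hv⟩
    obtain ⟨⟨htop, hq⟩, hκ⟩ := hq1 _ hx
    simp only at htop hq hκ hv'
    obtain ⟨-, hbot, -, -, -, -, -, -⟩ := quad_facts hq
    have hbv : b v' ≠ 0 := by
      rcases hv' with rfl | rfl
      · exact hv
      · exact fun h => hv (((hF.supp b hb).ne_zero_iff hS v).1 h)
    by_cases hb1 : b bot = 0
    · by_cases hb2 : b top = 0
      · obtain ⟨z, hz, -, -, -, hzt⟩ := quad_lift hS hF hp hq (fun a c ha hc => by
          rw [ha, hc] at hκ; simpa using hκ) hu hb hb1 hbv hb2 (by simp)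
        exact ⟨z, hz, top, htop, hzt⟩
      · exact ⟨b, hb, top, htop, hb2⟩
    · exact ⟨b, hb, bot, hbot, hb1⟩
  by_cases hyβ : y β = 0
  swap
  · exact ⟨y, hfy, hyβ⟩
  rcases hq2 β hβ w hw with h | ⟨⟨top, bot, v, j⟩, hx, h1, h2⟩
  · exact absurd hyβ (h ▸ hyw)
  simp only at h1 h2
  subst h1; subst h2
  obtain ⟨⟨-, hq⟩, -⟩ := hq1 _ hx
  by_cases hv : y v = 0
  · obtain ⟨hne, -, hib, hjb, hiv, ⟨a, b', c, ha, hb', hc⟩, -, -⟩ := quad_facts hq
    refine ⟨tmove φ S f.mv j 1 y, by rwa [hF.inv], ?_⟩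
    rw [tmove_eq_pair hne, map_one, mul_one]
    generalize hX : shear (f.mv j) 1 y = X
    have hv' : y (S.rw' v) = 0 := ((hF.supp y hfy).ne_zero_iff hS v).2 hv
    have hXv : X v = (c : K) * y bot := by simp [← hX, shear, hc, hv]
    have hXt : X top = 0 := by simp [← hX, shear, hb', hyβ, hv']
    simp only [shear, ha, Option.elim, hXt, hXv, zero_add]
    have hc' : c = 1 ∨ c = -1 := by have := hp j v; rw [hc] at this; exact this.2
    have ha' : a = 1 ∨ a = -1 := by have := hp (S.rg j) top; rw [ha] at this; exact this.2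
    exact mul_ne_zero (mul_ne_zero (sq_sign ha').2 (sq_sign (hS.eg_pm j)).2) (mul_ne_zero (sq_sign hc').2 hyw)
  · obtain ⟨z, hz, -, -, -, -, hzt⟩ := quad_kill hS hF hp hq hfy hyw (A := []) (by simp)
    exact ⟨z, hz, hzt hyβ hv⟩

end CfsgLib.KnownB.MinDeg
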