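import Cfsg.Agent.Lib.KnownB.MinDegTwVec

/-!
A vector of the support does not start at a moved coordinate.
-/

set_option autoImplicit false
set_option linter.unusedSectionVars false

namespace CfsgLib.KnownB.MinDeg

variable {K : Type*} [Field K] {m n : ℕ}

/-- Whether a set of coordinates is mapped into itself by a move. -/
def closedB (mv : Move m) (A : List (Fin m)) : Bool :=
  A.all fun w => match mv w with | none => true | some (x, _) => A.contains x

theorem shear_zero_of_closed {s : Move m} {A : List (Fin m)} (h : closedB s A = true) {b : Fin m → K}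
    (hb : ∀ w ∈ A, b w = 0) (t : K) : ∀ w ∈ A, shear s t b w = 0 := by
  intro w hw
  have h1 := List.all_eq_true.1 h w hw
  rcases hr : s w with _ | ⟨x, c⟩
  · rw [shear_eq_of_none hr]; exact hb w hw
  · rw [hr] at h1
    simp only [List.contains_iff_mem] at h1
    simp [shear, hr, hb w hw, hb x h1]

/-- The check of a pair of moves joining two coordinates through an orbit of length two. -/
def quadCheck (S : Sym m n) (mv : Fin n → Move m) (A : List (Fin m)) (v top bot : Fin m) (j : Fin n) : Bool :=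
  S.rg j != j && S.rw' bot == bot && (mv (S.rg j) bot).isNone && (mv j bot).isNone && (mv (S.rg j) v).isNone &&
    (match mv (S.rg j) top, mv j top, mv j v with
      | some (x, _), some (x', _), some (y, _) => x == v && x' == S.rw' v && y == bot
      | _, _, _ => false) &&
    closedB (mv (S.rg j)) A && closedB (mv j) A

variable {φ : K →+* K} {S : Sym m n} {mv : Fin n → Move m} {f : (Fin m → K) → ℕ} (hS : S.Good φ mv)
  (hf : TInv φ S mv f) (hp : ∀ i, Proper (mv i)) {A : List (Fin m)} {v top bot : Fin m} {j : Fin n}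

theorem quad_facts (hq : quadCheck S mv A v top bot j = true) :
    S.rg j ≠ j ∧ S.rw' bot = bot ∧ mv (S.rg j) bot = none ∧ mv j bot = none ∧ mv (S.rg j) v = none ∧
      (∃ a b c, mv (S.rg j) top = some (v, a) ∧ mv j top = some (S.rw' v, b) ∧ mv j v = some (bot, c)) ∧
      closedB (mv (S.rg j)) A = true ∧ closedB (mv j) A = true := by
  simp only [quadCheck, Bool.and_eq_true, bne_iff_ne, beq_iff_eq, Option.isNone_iff_eq_none] at hq
  obtain ⟨⟨⟨⟨⟨⟨⟨h1, h0⟩, h2⟩, h3⟩, h4⟩, h5⟩, h6⟩, h7⟩ := hq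
  refine ⟨h1, h0, h2, h3, h4, ?_, h6, h7⟩
  rcases ha : mv (S.rg j) top with _ | ⟨x, a⟩ <;> rcases hb : mv j top with _ | ⟨x', b⟩ <;>
    rcases hc : mv j v with _ | ⟨y, c⟩ <;> rw [ha, hb, hc] at h5 <;> simp at h5
  obtain ⟨⟨rfl, rfl⟩, rfl⟩ := h5
  exact ⟨a, b, c, rfl, rfl, rfl⟩

include hS hf hp

/-- With the bottom coordinate nonzero, the middle ones can be cleared. -/
theorem quad_kill (hq : quadCheck S mv A v top bot j = true) {b : Fin m → K} (hb : f b ≠ 0)
    (hbot : b bot ≠ 0) (hA : ∀ w ∈ A, b w = 0) :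
    ∃ z : Fin m → K, f z ≠ 0 ∧ z v = 0 ∧ z (S.rw' v) = 0 ∧ z bot = b bot ∧ (∀ w ∈ A, z w = 0) ∧
      (b top = 0 → b v ≠ 0 → z top ≠ 0) := by
  obtain ⟨hne, -, hib, hjb, hiv, ⟨a, b', c, ha, hb', hc⟩, hiA, hjA⟩ := quad_facts hq
  have hc' : c = 1 ∨ c = -1 := by have := hp j v; rw [hc] at this; exact this.2
  have hb1 : b' = 1 ∨ b' = -1 := by have := hp j top; rw [hb'] at this; exact this.2
  set s := -(c : K) * b v / b bot with hs
  have hz : tmove φ S mv j s b = shear (mv (S.rg j)) ((S.eg j : K) * φ s) (shear (mv j) s b) :=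
    tmove_eq_pair hne s b
  generalize ht : (S.eg j : K) * φ s = t at hz
  have hfz : f (tmove φ S mv j s b) ≠ 0 := by rwa [hf.inv]
  have hV := hf.supp _ hfz
  rw [hz] at hfz hV
  generalize hX : shear (mv j) s b = X at hfz hV
  have hXv : X v = 0 := by
    rw [← hX, shear, hc]
    simp only [Option.elim, hs]
    field_simp
    linear_combination (-(b v)) * sign_sq (K := K) hc'
  have hzv : shear (mv (S.rg j)) t X v = 0 := by rw [shear_eq_of_none hiv, hXv]
  refine ⟨_, hfz, hzv, (hV.ne_zero_iff hS v).2 hzv, ?_, ?_, fun htop hv => ?_⟩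
  · rw [shear_eq_of_none hib, ← hX, shear_eq_of_none hjb]
  · exact shear_zero_of_closed hiA (hX ▸ shear_zero_of_closed hjA hA s) t
  · have hvb : b (S.rw' v) ≠ 0 := fun h0 => hv ((hf.supp b hb).ne_zero_iff hS v |>.1 h0)
    have e : shear (mv (S.rg j)) t X top = (b' : K) * s * b (S.rw' v) := by
      rw [shear, ha]
      simp only [Option.elim, hXv, mul_zero, add_zero]
      rw [← hX, shear, hb']
      simp [htop]
    rw [e]
    have hs0 : s ≠ 0 := by
      rw [hs]
      exact div_ne_zero (mul_ne_zero (neg_ne_zero.2 (sq_sign hc').2) hv) hbot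
    exact mul_ne_zero (mul_ne_zero (sq_sign hb1).2 hs0) hvb

/-- With the bottom coordinate zero, the top one can be made nonzero. -/
theorem quad_lift (hq : quadCheck S mv A v top bot j = true)
    (hκ : ∀ a b', mv (S.rg j) top = some (v, a) → mv j top = some (S.rw' v, b') → a * S.eg j = b' * S.ew v)
    {u : K} (hu : u + φ u = 1) {b : Fin m → K} (hb : f b ≠ 0) (hbot : b bot = 0) (hv : b v ≠ 0)
    (htop : b top = 0) (hA : ∀ w ∈ A, b w = 0) :
    ∃ z : Fin m → K, f z ≠ 0 ∧ z bot = 0 ∧ z v = b v ∧ (∀ w ∈ A, z w = 0) ∧ z top ≠ 0 := by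
  obtain ⟨hne, -, hib, hjb, hiv, ⟨a, b', c, ha, hb', hc⟩, hiA, hjA⟩ := quad_facts hq
  set s := u / φ (b v) with hs
  have hz : tmove φ S mv j s b = shear (mv (S.rg j)) ((S.eg j : K) * φ s) (shear (mv j) s b) :=
    tmove_eq_pair hne s b
  generalize ht : (S.eg j : K) * φ s = t at hz
  have hfz : f (tmove φ S mv j s b) ≠ 0 := by rwa [hf.inv]
  rw [hz] at hfz
  generalize hX : shear (mv j) s b = X at hfz
  have hXv : X v = b v := by simp [← hX, shear, hc, hbot]
  refine ⟨_, hfz, ?_, ?_, ?_, ?_⟩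
  · rw [shear_eq_of_none hib, ← hX, shear_eq_of_none hjb, hbot]
  · rw [shear_eq_of_none hiv, hXv]
  · exact shear_zero_of_closed hiA (hX ▸ shear_zero_of_closed hjA hA s) t
  · have h6 := hf.supp b hb v
    have hk : (a : K) * S.eg j = (b' : K) * S.ew v := by
      exact_mod_cast congrArg (Int.cast : ℤ → K) (hκ a b' ha hb')
    have hφ0 : φ (b v) ≠ 0 := fun h => hv ((map_eq_zero φ).1 h)
    have e : shear (mv (S.rg j)) t X top = (b' : K) * S.ew v := by
      rw [shear, ha]
      simp only [Option.elim, hXv]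
      rw [← hX, shear, hb']
      simp only [Option.elim, htop, zero_add, h6, ← ht, hs, map_div₀, hS.invol]
      field_simp
      linear_combination (φ u) * hk + ((b' : K) * S.ew v) * hu
    rw [e]
    have hb1 : b' = 1 ∨ b' = -1 := by have := hp j top; rw [hb'] at this; exact this.2
    exact mul_ne_zero (sq_sign hb1).2 (sq_sign (hS.ew_pm v)).2

/-- The check that a moved coordinate cannot come first. -/
def shortCheck (S : Sym m n) (mv : Fin n → Move m) (C : Chart m n) (v u : Fin m) (j l : Fin n)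
    (A : List (Fin m)) : Bool :=
  decide (C.β < v) && A.all (fun w => decide (w < v)) &&
    quadCheck S mv A v C.β u j && quadCheck S mv A v u C.β l &&
    (match mv (S.rg j) C.β, mv j C.β with
      | some (_, a), some (_, b) => a * S.eg j == b * S.ew v
      | _, _ => false) &&
    !(v :: S.rw' v :: u :: A).contains C.β &&
    C.nb.all (fun p => (v :: S.rw' v :: A).contains p.1 || closedB (mv p.2) (v :: S.rw' v :: u :: A))

/-- The first nonzero coordinate of a vector of the support is fixed. -/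
theorem not_first {C : Chart m n} [Fintype K] [DecidableEq K] (hC : C.TOK S mv) {u' : K} (hu : u' + φ u' = 1)
    (h1 : Inv.sliceSum f C = 1) {u : Fin m} {l : Fin n} (hchk : shortCheck S mv C v u j l A = true)
    {b : Fin m → K} (hb : f b ≠ 0) (hzero : ∀ w < v, b w = 0) : b v = 0 := by
  by_contra hv
  simp only [shortCheck, Bool.and_eq_true, decide_eq_true_eq, List.all_eq_true, Bool.not_eq_true',
    Bool.or_eq_true, List.contains_iff_mem, beq_iff_eq] at hchk
  obtain ⟨⟨⟨⟨⟨⟨hβv, hAv⟩, hq1⟩, hq2⟩, hκ⟩, hβA⟩, hnb⟩ := hchk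
  have hA : ∀ w ∈ A, b w = 0 := fun w hw => hzero w (hAv w hw)
  have hβ0 : b C.β = 0 := hzero _ hβv
  obtain ⟨z, hfz, hz1, hz2, hzu, hzA, hzβ⟩ :
      ∃ z : Fin m → K, f z ≠ 0 ∧ z v = 0 ∧ z (S.rw' v) = 0 ∧ z u ≠ 0 ∧ (∀ w ∈ A, z w = 0) ∧ z C.β ≠ 0 := by
    by_cases hu0 : b u = 0
    · obtain ⟨z, hfz, hzu, hzv, hzA, hzβ⟩ := quad_lift hS hf hp hq1 (fun a b' ha hb' => by
        rw [ha, hb'] at hκ; simpa using hκ) hu hb hu0 hv hβ0 hA
      obtain ⟨y, hfy, hy1, hy2, hyβ, hyA, hyu⟩ := quad_kill hS hf hp hq2 hfz hzβ hzA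
      exact ⟨y, hfy, hy1, hy2, hyu hzu (by rw [hzv]; exact hv), hyA, by rw [hyβ]; exact hzβ⟩
    · obtain ⟨z, hfz, hz1, hz2, hzu, hzA, hzβ⟩ := quad_kill hS hf hp hq1 hb hu0 hA
      exact ⟨z, hfz, hz1, hz2, by rw [hzu]; exact hu0, hzA, hzβ hβ0 hv⟩
  obtain ⟨-, hp'⟩ := hf.pure_point hS hC hu h1
  refine hzu ?_
  rw [(hp' z hzβ hfz).2]
  refine Chart.trans_zero_of_low (mv := mv) _ (fun w => w ∈ v :: S.rw' v :: u :: A) _ (fun w hw => ?_)
    (fun p hpm hy w hw => ?_) u (by simp)
  · refine Pi.single_eq_of_ne (fun e => ?_) _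
    subst e
    rw [List.contains_iff_mem.2 hw] at hβA
    exact Bool.noConfusion hβA
  · have hz' : p.1 ∉ v :: S.rw' v :: A := by
      intro hmem
      have : z p.1 = 0 := by
        simp only [List.mem_cons] at hmem
        rcases hmem with h | h | h
        · rw [h]; exact hz1
        · rw [h]; exact hz2
        · exact hzA _ h
      exact hy (by simp [this])
    have h2 := List.all_eq_true.1 ((hnb p hpm).resolve_left hz') w hw
    rcases hr : mv p.2 w with _ | ⟨x, c⟩
    · trivial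
    · rw [hr] at h2
      exact List.contains_iff_mem.1 h2

end CfsgLib.KnownB.MinDeg
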