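import Cfsg.Agent.Lib.KnownB.MinDegShape

/-!
Vectors fixed by a semilinear involution of the coordinates, with the moves commuting with it.
-/

set_option autoImplicit false
set_option linter.unusedSectionVars false

namespace CfsgLib.KnownB.MinDeg

variable {K : Type*} [Field K] {m n : ℕ}

/-- A signed involution of the coordinates and of the moves. -/
structure Sym (m n : ℕ) where
  /-- the images of the coordinates -/
  rw' : Fin m → Fin m
  /-- the signs of the coordinates -/
  ew : Fin m → ℤ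
  /-- the images of the moves -/
  rg : Fin n → Fin n
  /-- the signs of the moves -/
  eg : Fin n → ℤ

/-- The check of an involution against the moves. -/
def Sym.check (S : Sym m n) (mv : Fin n → Move m) : Bool :=
  (List.finRange m).all (fun w =>
    (S.rw' (S.rw' w) == w) && (S.ew w == 1 || S.ew w == -1) && (S.ew (S.rw' w) == S.ew w) &&
      (S.rw' w != w || S.ew w == 1)) &&
  (List.finRange n).all (fun i =>
    (S.rg (S.rg i) == i) && (S.eg i == 1 || S.eg i == -1) && (S.eg (S.rg i) == S.eg i) &&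
      (S.rg i != i || S.eg i == 1) &&
      (List.finRange m).all (fun w =>
        match mv i w with
        | none => (mv (S.rg i) (S.rw' w)).isNone
        | some (v, c) => mv (S.rg i) (S.rw' w) == some (S.rw' v, c * S.ew v * S.eg i * S.ew w)))

variable (φ : K →+* K) (S : Sym m n)

/-- A fixed vector. -/
def InV (b : Fin m → K) : Prop := ∀ w, b (S.rw' w) = (S.ew w : K) * φ (b w)

/-- The projection on the fixed vectors. -/
def piV (a : Fin m → K) : Fin m → K := fun w => a w + (S.ew (S.rw' w) : K) * φ (a (S.rw' w))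

variable (mv : Fin n → Move m)

/-- The move of a fixed element. -/
def tmove (i : Fin n) (t : K) (b : Fin m → K) : Fin m → K :=
  if S.rg i = i then shear (mv i) (t + φ t) b
  else shear (mv (S.rg i)) ((S.eg i : K) * φ t) (shear (mv i) t b)

/-- The facts contained in the check of an involution. -/
structure Sym.Good : Prop where
  invol : ∀ x, φ (φ x) = x
  rw_rw : ∀ w, S.rw' (S.rw' w) = w
  ew_pm : ∀ w, S.ew w = 1 ∨ S.ew w = -1
  ew_rw : ∀ w, S.ew (S.rw' w) = S.ew w
  ew_fix : ∀ w, S.rw' w = w → S.ew w = 1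
  rg_rg : ∀ i, S.rg (S.rg i) = i
  eg_pm : ∀ i, S.eg i = 1 ∨ S.eg i = -1
  eg_rg : ∀ i, S.eg (S.rg i) = S.eg i
  eg_fix : ∀ i, S.rg i = i → S.eg i = 1
  mv_none : ∀ i w, mv i w = none → mv (S.rg i) (S.rw' w) = none
  mv_some : ∀ i w v c, mv i w = some (v, c) →
    mv (S.rg i) (S.rw' w) = some (S.rw' v, c * S.ew v * S.eg i * S.ew w)

theorem Sym.good_of_check {φ : K →+* K} {S : Sym m n} {mv : Fin n → Move m} (hφ : ∀ x, φ (φ x) = x)
    (h : S.check mv = true) : S.Good φ mv := by
  simp only [Sym.check, Bool.and_eq_true, List.all_eq_true, List.mem_finRange, forall_const, Bool.or_eq_true,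
    beq_iff_eq, bne_iff_ne] at h
  obtain ⟨h1, h2⟩ := h
  refine ⟨hφ, fun w => (h1 w).1.1.1, fun w => (h1 w).1.1.2, fun w => (h1 w).1.2,
    fun w hw => (h1 w).2.resolve_left (fun hh => hh hw), fun i => (h2 i).1.1.1.1, fun i => (h2 i).1.1.1.2,
    fun i => (h2 i).1.1.2, fun i hi => (h2 i).1.2.resolve_left (fun hh => hh hi), fun i w hm => ?_,
    fun i w v c hm => ?_⟩
  · have h3 := (h2 i).2 w
    rw [hm] at h3
    simpa using h3
  · have h3 := (h2 i).2 w
    rw [hm] at h3
    simpa using h3

variable {φ S mv}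

theorem sign_sq {M : ℤ} (h : M = 1 ∨ M = -1) : (M : K) * M = 1 := (sq_sign h).1

/-- The twisted shears compose as translations. -/
theorem tmove_eq_pair {i : Fin n} (hi : S.rg i ≠ i) (t : K) (b : Fin m → K) :
    tmove φ S mv i t b = shear (mv (S.rg i)) ((S.eg i : K) * φ t) (shear (mv i) t b) := if_neg hi

theorem tmove_eq_fix {i : Fin n} (hi : S.rg i = i) (t : K) (b : Fin m → K) :
    tmove φ S mv i t b = shear (mv i) (t + φ t) b := if_pos hi

/-- A scalar with trace one. -/
theorem exists_trace_one (hφ : ∀ x, φ (φ x) = x) {v : K} (hv : v + φ v ≠ 0) : ∃ u : K, u + φ u = 1 := by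
  refine ⟨v / (v + φ v), ?_⟩
  rw [map_div₀, map_add, hφ, add_comm (φ v) v, ← add_div, div_self hv]

/-- Every fixed scalar is a trace. -/
theorem exists_half {u : K} (hu : u + φ u = 1) {c : K} (hc : φ c = c) : ∃ t, t + φ t = c :=
  ⟨u * c, by rw [map_mul, hc, ← add_mul, hu, one_mul]⟩

/-- The list of next coordinates is a list of orbits. -/
def pairedList (S : Sym m n) (mv : Fin n → Move m) : List (Fin m × Fin n) → Bool
  | [] => true
  | [p] => S.rw' p.1 == p.1 && S.rg p.2 == p.2
  | p :: p' :: l =>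
    if S.rw' p.1 == p.1 then (S.rg p.2 == p.2) && pairedList S mv (p' :: l)
    else S.rw' p'.1 == p.1 && S.rg p'.2 == p.2 && S.rg p'.2 != p'.2 &&
      (match mv p.2 p.1, mv p'.2 p'.1 with
        | some (_, c), some (_, c') => c * S.ew p'.1 == S.eg p'.2 * c'
        | _, _ => false) && pairedList S mv l

/-- Invariance properties on the fixed vectors. -/
structure TInv (φ : K →+* K) (S : Sym m n) (mv : Fin n → Move m) (f : (Fin m → K) → ℕ) : Prop where
  supp : ∀ b, f b ≠ 0 → InV φ S b
  inv : ∀ i t b, f (tmove φ S mv i t b) = f b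
  tor : ∀ β, S.rw' β = β → ∀ c : K, c ≠ 0 → φ c = c →
    ∃ x : Fin m → K, (∀ w, x w ≠ 0) ∧ x β = c ∧ ∀ b, f (x * b) = f b

/-- The check of a chart at a fixed coordinate. -/
def Chart.tcheck (C : Chart m n) (S : Sym m n) (mv : Fin n → Move m) : Bool :=
  C.check mv && S.rw' C.β == C.β && pairedList S mv C.nb &&
  (List.finRange m).all fun u => decide (C.lev u < 2) ||
    (S.rg (C.up u) == C.up u ||
      ((List.finRange m).any fun w =>
          (match mv (C.up u) w with | none => false | some (v, _) => v == u) &&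
            ((mv (S.rg (C.up u)) w).isNone ||
              (S.rw' w == w && match mv (C.up u) (S.rw' u) with
                | none => true
                | some (x, _) => decide (2 ≤ C.lev x) && decide (C.lev x < C.lev u)))) &&
      (List.finRange m).all fun w => decide (2 ≤ C.lev w) ||
        match mv (S.rg (C.up u)) w with
        | none => true
        | some (v, _) => C.lev v == 1 ||
            (decide (2 ≤ C.lev v) && decide (C.lev v < C.lev u) && (mv (C.up u) v).isNone))

/-- The facts contained in the check of a chart. -/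
structure Chart.TOK (C : Chart m n) (S : Sym m n) (mv : Fin n → Move m) : Prop where
  ok : C.OK mv
  fix : S.rw' C.β = C.β
  paired : pairedList S mv C.nb = true
  up_conj : ∀ u, 2 ≤ C.lev u → S.rg (C.up u) = C.up u ∨
    ((∃ w, (mv (C.up u) w).elim False (fun p => p.1 = u) ∧ (mv (S.rg (C.up u)) w = none ∨
        (S.rw' w = w ∧ (mv (C.up u) (S.rw' u)).elim True (fun p => 2 ≤ C.lev p.1 ∧ C.lev p.1 < C.lev u)))) ∧
      ∀ w, C.lev w ≤ 1 → (mv (S.rg (C.up u)) w).elim True
        (fun r => C.lev r.1 = 1 ∨ (2 ≤ C.lev r.1 ∧ C.lev r.1 < C.lev u ∧ mv (C.up u) r.1 = none)))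

theorem Chart.tok_of_check {C : Chart m n} (hp : ∀ i, Proper (mv i)) (h : C.tcheck S mv = true) :
    C.TOK S mv := by
  simp only [Chart.tcheck, Bool.and_eq_true, beq_iff_eq, List.all_eq_true, List.mem_finRange, forall_const,
    Bool.or_eq_true, decide_eq_true_eq, List.any_eq_true, Option.isNone_iff_eq_none] at h
  obtain ⟨⟨⟨h1, h2⟩, h3⟩, h4⟩ := h
  refine ⟨Chart.ok_of_check hp h1, h2, h3, fun u hu => ?_⟩
  refine ((h4 u).resolve_left (by omega)).imp id ?_
  rintro ⟨⟨w, -, hw, hwn⟩, hlow⟩
  refine ⟨⟨w, ?_, hwn.imp id (fun hh => ⟨hh.1, ?_⟩)⟩, fun w' hw' => ?_⟩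
  · rcases hr : mv (C.up u) w with _ | ⟨v, c⟩
    · rw [hr] at hw; simp at hw
    · rw [hr] at hw; simpa using hw
  · rcases hr : mv (C.up u) (S.rw' u) with _ | ⟨x, c⟩
    · trivial
    · have h6 := hh.2
      rw [hr] at h6
      simpa using h6
  · have h5 := (hlow w').resolve_left (by omega)
    rcases hr : mv (S.rg (C.up u)) w' with _ | ⟨v, c⟩
    · trivial
    · rw [hr] at h5
      simpa [and_assoc, Option.isNone_iff_eq_none] using h5

theorem InV.fix_val {b : Fin m → K} (hb : InV φ S b) (hS : S.Good φ mv) {w : Fin m} (hw : S.rw' w = w) :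
    φ (b w) = b w := by
  have h := hb w
  rw [hw, hS.ew_fix w hw, Int.cast_one, one_mul] at h
  exact h.symm

theorem InV.ne_zero_iff {b : Fin m → K} (hb : InV φ S b) (hS : S.Good φ mv) (w : Fin m) :
    b (S.rw' w) = 0 ↔ b w = 0 := by
  rw [hb w, mul_eq_zero, map_eq_zero]
  exact or_iff_right (sq_sign (hS.ew_pm w)).2

/-- A set of coordinates stable under the involution carries `q ^ card` fixed vectors. -/
theorem card_sym [Fintype K] [DecidableEq K] {q : ℕ} (hq : Fintype.card K = q ^ 2) (hS : S.Good φ mv)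
    (hne : ∃ x, φ x ≠ x) (A : Finset (Fin m)) (hA : ∀ w ∈ A, S.rw' w ∈ A)
    [DecidablePred fun g : Fin m → K => InV φ S g ∧ ∀ w, w ∉ A → g w = 0] :
    (Finset.univ.filter fun g : Fin m → K => InV φ S g ∧ ∀ w, w ∉ A → g w = 0).card = q ^ A.card := by
  classical
  set V := Finset.univ.filter fun g : Fin m → K => InV φ S g ∧ ∀ w, w ∉ A → g w = 0 with hV
  obtain ⟨ω, hω⟩ := hne
  have hd : ω - φ ω ≠ 0 := sub_ne_zero.2 (Ne.symm hω)
  have hA' : ∀ w, w ∉ A → S.rw' w ∉ A := fun w hw hh => hw (hS.rw_rw w ▸ hA _ hh)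
  let U := Finset.univ.filter fun g : Fin m → K => ∀ w, w ∉ A → g w = 0
  have hU : U.card = Fintype.card K ^ A.card := by
    have : U = Fintype.piFinset fun w => if w ∈ A then (Finset.univ : Finset K) else {0} := by
      ext g
      simp only [U, Finset.mem_filter, Finset.mem_univ, true_and, Fintype.mem_piFinset]
      constructor
      · intro h w
        by_cases hw : w ∈ A
        · simp [hw]
        · simp [hw, h w hw]
      · intro h w hw
        simpa [hw] using h w
    rw [this, Fintype.card_piFinset, Finset.prod_congr rfl fun w _ =>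
      show (if w ∈ A then (Finset.univ : Finset K) else {0}).card = if w ∈ A then Fintype.card K else 1 by
        split_ifs <;> simp, Finset.prod_ite_mem, Finset.univ_inter, Finset.prod_const]
  let bar : (Fin m → K) → (Fin m → K) := fun g w => (S.ew (S.rw' w) : K) * φ (g (S.rw' w))
  have hbarInV : ∀ g, InV φ S g ↔ bar g = g := by
    intro g
    constructor
    · intro h
      funext w
      have h1 := h (S.rw' w)
      rw [hS.rw_rw] at h1
      exact h1.symm
    · intro h w
      have h1 := congrFun h (S.rw' w)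
      simp only [bar, hS.rw_rw] at h1
      exact h1.symm
  have hbb : ∀ g, bar (bar g) = g := fun g => by
    funext w
    simp only [bar, map_mul, map_intCast, hS.rw_rw, hS.invol, hS.ew_rw]
    rw [← mul_assoc, sign_sq (hS.ew_pm w), one_mul]
  have hbs : ∀ (c : K) g w, bar (fun u => c * g u) w = φ c * bar g w := fun c g w => by
    simp only [bar, map_mul]; ring
  have hmem : ∀ g, g ∈ V ↔ bar g = g ∧ ∀ w, w ∉ A → g w = 0 := fun g => by
    simp [hV, hbarInV]
  have hcard : (V ×ˢ V).card = U.card := by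
    refine Finset.card_nbij' (fun p w => p.1 w + ω * p.2 w)
      (fun g => (fun w => (ω * bar g w - φ ω * g w) / (ω - φ ω), fun w => (g w - bar g w) / (ω - φ ω)))
      ?_ ?_ ?_ ?_
    · intro p hp
      obtain ⟨h1, h2⟩ := Finset.mem_product.1 hp
      refine Finset.mem_filter.2 ⟨Finset.mem_univ _, fun w hw => ?_⟩
      simp [((hmem _).1 h1).2 w hw, ((hmem _).1 h2).2 w hw]
    · intro g hg
      have hg0 := (Finset.mem_filter.1 hg).2
      have hb0 : ∀ w, w ∉ A → bar g w = 0 := fun w hw => by simp [bar, hg0 _ (hA' w hw)]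
      have hd' : φ ω - ω ≠ 0 := sub_ne_zero.2 hω
      refine Finset.mem_product.2 ⟨(hmem _).2 ⟨?_, fun w hw => by simp [hg0 w hw, hb0 w hw]⟩,
        (hmem _).2 ⟨?_, fun w hw => by simp [hg0 w hw, hb0 w hw]⟩⟩
      · funext w
        have e : bar (fun u => (ω * bar g u - φ ω * g u) / (ω - φ ω)) w =
            (φ ω * bar (bar g) w - ω * bar g w) / (φ ω - ω) := by
          simp only [bar, map_div₀, map_sub, map_mul, hS.invol]
          ring
        rw [e, hbb, div_eq_div_iff hd' hd]
        ring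
      · funext w
        have e : bar (fun u => (g u - bar g u) / (ω - φ ω)) w = (bar g w - bar (bar g) w) / (φ ω - ω) := by
          simp only [bar, map_div₀, map_sub, hS.invol]
          ring
        rw [e, hbb, div_eq_div_iff hd' hd]
        ring
    · intro p hp
      obtain ⟨h1, h2⟩ := Finset.mem_product.1 hp
      have e1 := ((hmem _).1 h1).1
      have e2 := ((hmem _).1 h2).1
      have hb : ∀ w, bar (fun u => p.1 u + ω * p.2 u) w = p.1 w + φ ω * p.2 w := fun w => by
        conv_rhs => rw [← e1, ← e2]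
        simp only [bar, map_add, map_mul]
        ring
      refine Prod.ext (funext fun w => ?_) (funext fun w => ?_)
      · show (ω * bar (fun u => p.1 u + ω * p.2 u) w - φ ω * (p.1 w + ω * p.2 w)) / (ω - φ ω) = p.1 w
        rw [hb, div_eq_iff hd]; ring
      · show (p.1 w + ω * p.2 w - bar (fun u => p.1 u + ω * p.2 u) w) / (ω - φ ω) = p.2 w
        rw [hb, div_eq_iff hd]; ring
    · intro g _
      funext w
      show (ω * bar g w - φ ω * g w) / (ω - φ ω) + ω * ((g w - bar g w) / (ω - φ ω)) = g w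
      field_simp
      ring
  rw [Finset.card_product, hU, hq, ← pow_mul, mul_comm 2, pow_mul, ← sq] at hcard
  exact Nat.pow_left_injective two_ne_zero hcard

namespace TInv

variable [Fintype K] [DecidableEq K] {f : (Fin m → K) → ℕ} (hS : S.Good φ mv) (hf : TInv φ S mv f)
  {C : Chart m n} (hC : C.TOK S mv)
include hS hf hC

omit [Fintype K] [DecidableEq K] hf in
/-- Translations by fixed parameters are made of fixed moves. -/
theorem trans_ind {u : K} (hu : u + φ u = 1) {y : Fin m → K} (hy : InV φ S y) {P : (Fin m → K) → Prop}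
    {b : Fin m → K} (hb : P b)
    (hstep : ∀ p ∈ C.nb, y p.1 ≠ 0 → ∀ t c, P c → P (tmove φ S mv p.2 t c)) : P (C.trans mv y b) := by
  have key : ∀ l : List (Fin m × Fin n), pairedList S mv l = true → (∀ p ∈ l, p ∈ C.nb) →
      P (l.foldr (fun p b => shear (mv p.2) (sgn (mv p.2) p.1 * y p.1) b) b) := by
    intro l
    induction l using List.twoStepInduction with
    | nil => intro _ _; exact hb
    | singleton p =>
      intro hp hl
      simp only [List.foldr_cons, List.foldr_nil]
      by_cases hy0 : y p.1 = 0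
      · rw [hy0, mul_zero, shear_zero]; exact hb
      simp only [pairedList, Bool.and_eq_true, beq_iff_eq] at hp
      have hc : φ (sgn (mv p.2) p.1 * y p.1) = sgn (mv p.2) p.1 * y p.1 := by
        rw [map_mul, hy.fix_val hS hp.1]
        congr 1
        rcases h : mv p.2 p.1 with _ | r <;> simp [sgn, h]
      obtain ⟨t, ht⟩ := exists_half hu hc
      rw [← ht, ← tmove_eq_fix hp.2]
      exact hstep p (hl p List.mem_cons_self) hy0 _ _ hb
    | cons_cons p p' l ih1 ih2 =>
      intro hp hl
      rw [pairedList] at hp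
      split_ifs at hp with hfix
      · rw [Bool.and_eq_true, beq_iff_eq] at hp
        rw [beq_iff_eq] at hfix
        have hrest := ih2 p' hp.2 fun q hq => hl q (List.mem_cons_of_mem _ hq)
        rw [List.foldr_cons]
        by_cases hy0 : y p.1 = 0
        · rw [hy0, mul_zero, shear_zero]; exact hrest
        have hc : φ (sgn (mv p.2) p.1 * y p.1) = sgn (mv p.2) p.1 * y p.1 := by
          rw [map_mul, hy.fix_val hS hfix]
          congr 1
          rcases h : mv p.2 p.1 with _ | r <;> simp [sgn, h]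
        obtain ⟨t, ht⟩ := exists_half hu hc
        rw [← ht, ← tmove_eq_fix hp.1]
        exact hstep p (hl p List.mem_cons_self) hy0 _ _ hrest
      · simp only [Bool.and_eq_true, beq_iff_eq, bne_iff_ne] at hp
        obtain ⟨⟨⟨⟨h1, h2⟩, h3⟩, h4⟩, h5⟩ := hp
        have hrest := ih1 h5 fun q hq => hl q (List.mem_cons_of_mem _ (List.mem_cons_of_mem _ hq))
        rw [List.foldr_cons, List.foldr_cons]
        have h6 := hy p'.1
        rw [h1] at h6
        by_cases hy0 : y p'.1 = 0
        · rw [hy0, map_zero, mul_zero] at h6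
          rw [hy0, h6, mul_zero, mul_zero, shear_zero, shear_zero]
          exact hrest
        rcases hr : mv p.2 p.1 with _ | ⟨v, c⟩
        · rw [hr] at h4; simp at h4
        rcases hr' : mv p'.2 p'.1 with _ | ⟨v', c'⟩
        · rw [hr, hr'] at h4; simp at h4
        rw [hr, hr'] at h4
        simp only [beq_iff_eq] at h4
        have hkey : sgn (mv p.2) p.1 * y p.1 = (S.eg p'.2 : K) * φ (sgn (mv p'.2) p'.1 * y p'.1) := by
          have h4' : (c : K) * S.ew p'.1 = (S.eg p'.2 : K) * c' := by exact_mod_cast congrArg (Int.cast : ℤ → K) h4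
          simp only [sgn, hr, hr', Option.elim, map_mul, map_intCast]
          rw [h6, ← mul_assoc, h4', mul_assoc]
        rw [hkey]
        conv => arg 1; rw [show p.2 = S.rg p'.2 from h2.symm]
        rw [← tmove_eq_pair h3]
        exact hstep p' (hl p' (List.mem_cons_of_mem _ List.mem_cons_self)) hy0 _ _ hrest
  exact key C.nb hC.paired fun p hp => hp

omit [Fintype K] [DecidableEq K] in
/-- Translations by fixed parameters keep the multiplicities. -/
theorem f_trans {u : K} (hu : u + φ u = 1) {y : Fin m → K} (hy : InV φ S y) (b : Fin m → K) :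
    f (C.trans mv y b) = f b :=
  TInv.trans_ind hS hC hu hy (P := fun c => f c = f b) rfl fun _ _ _ t c hc => (hf.inv _ t c).trans hc

theorem fiber_sum {u : K} (hu : u + φ u = 1) {c : K} (hc : c ≠ 0) (hcφ : φ c = c) {y : Fin m → K}
    (hy : InV φ S y) :
    ∑ b ∈ Finset.univ.filter (fun b => b C.β = c ∧ ∀ v ∈ C.next, b v = y v), f b = Inv.sliceSum f C := by
  obtain ⟨x, hx0, hxβ, hx⟩ := hf.tor C.β hC.fix c hc hcφ
  have h := hC.ok
  have hy' : InV φ S (fun v => y v / c) := fun w => by
    simp only [hy w, map_div₀, hcφ, mul_div_assoc]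
  obtain ⟨e, he⟩ := Chart.exists_equiv h (fun v => y v / c)
  symm
  refine Finset.sum_nbij' (fun b => e (x * b)) (fun b => x⁻¹ * e.symm b) ?_ ?_ ?_ ?_ ?_
  · intro b hb
    obtain ⟨hbβ, hbn⟩ := (Finset.mem_filter.1 hb).2
    refine Finset.mem_filter.2 ⟨Finset.mem_univ _, ?_, fun v hv => ?_⟩
    · rw [he, Chart.trans_β h, Pi.mul_apply, hxβ, hbβ, mul_one]
    · rw [he, Chart.trans_next h _ _ hv, Pi.mul_apply, Pi.mul_apply, hxβ, hbβ, hbn v hv, mul_one, mul_zero,
        zero_add, div_mul_cancel₀ _ hc]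
  · intro b hb
    obtain ⟨hbβ, hbn⟩ := (Finset.mem_filter.1 hb).2
    have hβ : e.symm b C.β = c := by rw [← hbβ, ← e.apply_symm_apply b, he, Chart.trans_β h, ← he,
      e.symm_apply_apply]
    refine Finset.mem_filter.2 ⟨Finset.mem_univ _, ?_, fun v hv => ?_⟩
    · rw [Pi.mul_apply, Pi.inv_apply, hxβ, hβ, inv_mul_cancel₀ hc]
    · have h1 := hbn v hv
      rw [← e.apply_symm_apply b, he, Chart.trans_next h _ _ hv, hβ, div_mul_cancel₀ _ hc, add_eq_right] at h1
      rw [Pi.mul_apply, h1, mul_zero]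
  · intro b _
    funext w
    simp [Pi.mul_apply, Pi.inv_apply, hx0 w]
  · intro b _
    show e (x * (x⁻¹ * e.symm b)) = b
    rw [show x * (x⁻¹ * e.symm b) = e.symm b from funext fun w => by simp [hx0 w], e.apply_symm_apply]
  · intro b _
    rw [he, hf.f_trans hS hC hu hy', hx]

theorem next_stable : ∀ v ∈ C.next, S.rw' v ∈ C.next := by
  intro v hv
  have key : ∀ l : List (Fin m × Fin n), pairedList S mv l = true → ∀ v ∈ l.map Prod.fst, S.rw' v ∈ l.map Prod.fst := by
    intro l
    induction l using List.twoStepInduction with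
    | nil => intro _ v hv; simp at hv
    | singleton p =>
      intro hp v hv
      simp only [pairedList, Bool.and_eq_true, beq_iff_eq] at hp
      simp only [List.map_cons, List.map_nil, List.mem_singleton] at hv ⊢
      rw [hv, hp.1]
    | cons_cons p p' l ih1 ih2 =>
      intro hp v hv
      rw [pairedList] at hp
      split_ifs at hp with hfix
      · rw [Bool.and_eq_true] at hp
        rw [beq_iff_eq] at hfix
        rw [List.map_cons, List.mem_cons] at hv ⊢
        rcases hv with rfl | hv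
        · exact Or.inl hfix
        · exact Or.inr (ih2 p' hp.2 v hv)
      · simp only [Bool.and_eq_true, beq_iff_eq, bne_iff_ne] at hp
        obtain ⟨⟨⟨⟨h1, -⟩, -⟩, -⟩, h5⟩ := hp
        simp only [List.map_cons, List.mem_cons] at hv ⊢
        rcases hv with rfl | rfl | hv
        · rw [← h1, hS.rw_rw]; simp
        · simp [h1]
        · exact Or.inr (Or.inr (ih1 h5 v hv))
  exact List.mem_toFinset.2 (key C.nb hC.paired v (List.mem_toFinset.1 hv))

/-- The sum over a chart with some stable next coordinates vanishing. -/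
theorem sum_chart {u : K} (hu : u + φ u = 1) {q : ℕ} (hq : Fintype.card K = q ^ 2)
    (hfix : (Finset.univ.filter fun c : K => φ c = c).card = q) (Z : Finset (Fin m)) (hZ : Z ⊆ C.next)
    (hZs : ∀ v ∈ Z, S.rw' v ∈ Z) :
    ∑ b ∈ Finset.univ.filter (fun b : Fin m → K => b C.β ≠ 0 ∧ ∀ v ∈ Z, b v = 0), f b =
      (q - 1) * q ^ (C.next.card - Z.card) * Inv.sliceSum f C := by
  classical
  have hq1 : 1 < q := by
    have := Fintype.one_lt_card (α := K)
    rw [hq] at this
    nlinarith
  have hne : ∃ x, φ x ≠ x := by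
    by_contra hh
    push Not at hh
    rw [Finset.filter_true_of_mem fun x _ => hh x, Finset.card_univ, hq] at hfix
    nlinarith
  set A := C.next \ Z with hA
  have hAs : ∀ v ∈ A, S.rw' v ∈ A := fun v hv => by
    obtain ⟨h1, h2⟩ := Finset.mem_sdiff.1 hv
    exact Finset.mem_sdiff.2 ⟨hf.next_stable hS hC v h1, fun h => h2 (hS.rw_rw v ▸ hZs _ h)⟩
  let T := ((Finset.univ.filter fun c : K => φ c = c).erase 0) ×ˢ
    (Finset.univ.filter fun g : Fin m → K => InV φ S g ∧ ∀ w, w ∉ A → g w = 0)
  let key : (Fin m → K) → K × (Fin m → K) := fun b => (b C.β, fun v => if v ∈ A then b v else 0)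
  have hmaps : ∀ b ∈ (Finset.univ.filter fun b : Fin m → K =>
      (b C.β ≠ 0 ∧ ∀ v ∈ Z, b v = 0) ∧ f b ≠ 0), key b ∈ T := by
    intro b hb
    obtain ⟨⟨hb0, -⟩, hne⟩ := (Finset.mem_filter.1 hb).2
    have hV := hf.supp b hne
    refine Finset.mem_product.2 ⟨Finset.mem_erase.2 ⟨hb0, Finset.mem_filter.2
      ⟨Finset.mem_univ _, hV.fix_val hS hC.fix⟩⟩, Finset.mem_filter.2
      ⟨Finset.mem_univ _, fun w => ?_, fun w hw => if_neg hw⟩⟩
    by_cases hw : w ∈ A
    · simp only [key, if_pos hw, if_pos (hAs w hw)]; exact hV w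
    · have hw' : S.rw' w ∉ A := fun h => hw (hS.rw_rw w ▸ hAs _ h)
      simp [key, if_neg hw, if_neg hw']
  rw [← Finset.sum_filter_ne_zero, Finset.filter_filter, ← Finset.sum_fiberwise_of_maps_to hmaps,
    Finset.sum_congr rfl (g := fun _ => Inv.sliceSum f C) ?_, Finset.sum_const, smul_eq_mul,
    Finset.card_product, Finset.card_erase_of_mem (show (0 : K) ∈ Finset.univ.filter fun c : K => φ c = c from
      Finset.mem_filter.2 ⟨Finset.mem_univ _, map_zero φ⟩),
    hfix, card_sym hq hS hne A hAs, hA, Finset.card_sdiff_of_subset hZ]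
  rintro ⟨c, g⟩ hcg
  obtain ⟨hc, hg⟩ := Finset.mem_product.1 hcg
  have hc0 : c ≠ 0 := (Finset.mem_erase.1 hc).1
  have hcφ : φ c = c := (Finset.mem_filter.1 (Finset.mem_erase.1 hc).2).2
  obtain ⟨hgV, hgA⟩ : InV φ S g ∧ ∀ w, w ∉ A → g w = 0 := (Finset.mem_filter.1 hg).2
  rw [← hf.fiber_sum hS hC hu hc0 hcφ hgV, ← Finset.sum_filter_ne_zero (s := Finset.univ.filter _),
    Finset.filter_filter, Finset.filter_filter]
  refine Finset.sum_congr (Finset.filter_congr fun b _ => ?_) fun b _ => rfl
  simp only [key, Prod.mk.injEq, funext_iff]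
  constructor
  · rintro ⟨⟨⟨-, hz⟩, hne⟩, hb, hg'⟩
    refine ⟨⟨hb, fun v hv => ?_⟩, hne⟩
    by_cases hvA : v ∈ A
    · rw [← hg' v, if_pos hvA]
    · rw [hgA v hvA]
      exact hz v (by by_contra hh; exact hvA (Finset.mem_sdiff.2 ⟨hv, hh⟩))
  · rintro ⟨⟨hb, hv⟩, hne⟩
    refine ⟨⟨⟨hb.symm ▸ hc0, fun v hvZ => ?_⟩, hne⟩, hb, fun v => ?_⟩
    · rw [hv v (hZ hvZ), hgA v fun h => (Finset.mem_sdiff.1 h).2 hvZ]
    · by_cases hvA : v ∈ A
      · rw [if_pos hvA, hv v (Finset.mem_sdiff.1 hvA).1]
      · rw [if_neg hvA, hgA v hvA]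

omit [Fintype K] [DecidableEq K] in
theorem tmove_ne {i : Fin n} (hi : S.rg i = i) {v : Fin m} (hv : Hits (mv i) v) {t : K}
    (ht : t + φ t ≠ 0) {b : Fin m → K} (hb : b v ≠ 0) : tmove φ S mv i t b ≠ b := by
  rw [tmove_eq_fix hi]
  exact shear_ne_of_hits (hC.ok.proper i) hv ht hb

theorem pure_point {u : K} (hu : u + φ u = 1) (h1 : Inv.sliceSum f C = 1) :
    f (Pi.single C.β 1) = 1 ∧
      ∀ b : Fin m → K, b C.β ≠ 0 → f b ≠ 0 →
        f b = 1 ∧ b = C.trans mv (fun v => b v / b C.β) (Pi.single C.β (b C.β)) := by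
  classical
  have h := hC.ok
  obtain ⟨b₀, hb₀, hf₀⟩ := Finset.exists_ne_zero_of_sum_ne_zero (show Inv.sliceSum f C ≠ 0 by omega)
  have huniq : ∀ b ∈ Inv.slice C, f b ≠ 0 → b = b₀ := fun b hb hne => by
    by_contra hne'
    have h2 := Finset.sum_le_sum_of_subset (f := f) (show ({b, b₀} : Finset (Fin m → K)) ⊆ Inv.slice C from
      Finset.insert_subset hb (Finset.singleton_subset_iff.2 hb₀))
    rw [Finset.sum_pair hne'] at h2
    change _ ≤ Inv.sliceSum f C at h2
    omega
  obtain ⟨hβ, hn⟩ := (Finset.mem_filter.1 hb₀).2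
  have hzero : ∀ k, ∀ v, C.lev v = k → 2 ≤ k → b₀ v = 0 := by
    intro k
    induction k using Nat.strong_induction_on with
    | _ k ih =>
      intro v hv hk
      by_contra hne
      obtain ⟨hhit, hlow⟩ := h.up_ok v (by omega)
      have hkeep : ∀ (i : Fin n), (∀ w, C.lev w ≤ 1 → (mv i w).elim True
          (fun r => C.lev r.1 = 1 ∨ (2 ≤ C.lev r.1 ∧ C.lev r.1 < C.lev v))) →
          ∀ (t : K) (b : Fin m → K), (∀ w, C.lev w = 1 → b w = 0) →
            (∀ w, 2 ≤ C.lev w → C.lev w < C.lev v → b w = 0) →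
            ∀ w, C.lev w ≤ 1 → shear (mv i) t b w = b w := by
        intro i hi t b hb1 hb2 w hw
        have h3 := hi w hw
        rcases hr : mv i w with _ | r
        · exact shear_eq_of_none hr _ _
        rw [hr] at h3
        have : b r.1 = 0 := by
          rcases h3 with h4 | ⟨h4, h5⟩
          · exact hb1 _ h4
          · exact hb2 _ h4 h5
        simp [shear, hr, this]
      have hz2 : ∀ w, 2 ≤ C.lev w → C.lev w < C.lev v → b₀ w = 0 := fun w hw hlt =>
        ih _ (by omega) w rfl hw
      have hz1 : ∀ w, C.lev w = 1 → b₀ w = 0 := fun w hw => hn w ((h.lev_one w).1 hw)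
      by_cases hfix : S.rg (C.up v) = C.up v
      · have hu' : u + φ u ≠ 0 := by rw [hu]; exact one_ne_zero
        refine hf.tmove_ne hS hC hfix hhit hu' hne (huniq _ ?_ ?_)
        · rw [tmove_eq_fix hfix]
          refine Finset.mem_filter.2 ⟨Finset.mem_univ _, ?_, fun w hw => ?_⟩
          · rw [hkeep _ hlow _ _ hz1 hz2 _ (by rw [h.lev_β]; omega), hβ]
          · rw [hkeep _ hlow _ _ hz1 hz2 _ (by rw [(h.lev_one w).2 hw]), hn w hw]
        · rw [hf.inv]; exact hf₀
      · obtain ⟨⟨w₀, hw₀, hw₀n⟩, hlow'⟩ := (hC.up_conj v (by omega)).resolve_left hfix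
        rcases hr : mv (C.up v) w₀ with _ | ⟨x, c⟩
        · rw [hr] at hw₀; exact hw₀
        rw [hr] at hw₀
        have hxv : x = v := hw₀
        rw [hxv] at hr
        have hc : c = 1 ∨ c = -1 := by have := h.proper (C.up v) w₀; rw [hr] at this; exact this.2
        obtain ⟨s, hs⟩ : ∃ s, tmove φ S mv (C.up v) s b₀ ≠ b₀ := by
          rcases hw₀n with hw₀n | ⟨hww, hlast⟩
          · refine ⟨1, fun he => ?_⟩
            have h5 := congrFun he w₀
            rw [tmove_eq_pair hfix, shear_eq_of_none hw₀n] at h5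
            simp only [shear, hr, Option.elim, add_eq_left, mul_one] at h5
            exact hne ((mul_eq_zero.1 h5).resolve_left (sq_sign hc).2)
          · refine ⟨u / b₀ v, fun he => ?_⟩
            have h5 := congrFun he w₀
            have hS' := hS.mv_some _ _ _ _ hr
            rw [hww, hS.ew_fix w₀ hww, mul_one] at hS'
            have hX : shear (mv (C.up v)) (u / b₀ v) b₀ (S.rw' v) = b₀ (S.rw' v) := by
              rcases hr2 : mv (C.up v) (S.rw' v) with _ | ⟨y, d⟩
              · rw [shear_eq_of_none hr2]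
              rw [hr2] at hlast
              simp [shear, hr2, hz2 y hlast.1 hlast.2]
            rw [tmove_eq_pair hfix] at h5
            generalize hXd : shear (mv (C.up v)) (u / b₀ v) b₀ = X at hX h5
            simp only [shear, hS', Option.elim, hX, Int.cast_mul] at h5
            rw [← hXd, shear, hr] at h5
            have hφ0 : φ (b₀ v) ≠ 0 := fun e => hne ((map_eq_zero φ).1 e)
            simp only [Option.elim, hf.supp b₀ hf₀ v, map_div₀, add_assoc, add_eq_left] at h5
            field_simp at h5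
            have h7 := sq_sign (F := K) (hS.ew_pm v)
            have h8 := sq_sign (F := K) (hS.eg_pm (C.up v))
            have h9 : (c : K) * (u + φ u) = 0 := by
              linear_combination h5 - (c : K) * φ u * (S.eg (C.up v) : K) * (S.eg (C.up v) : K) * h7.1 -
                (c : K) * φ u * h8.1
            rw [hu, mul_one] at h9
            exact (sq_sign hc).2 h9
        refine hs (huniq _ ?_ ?_)
        · rw [tmove_eq_pair hfix]
          have hlow1 : ∀ w, C.lev w ≤ 1 → shear (mv (C.up v)) s b₀ w = b₀ w := hkeep _ hlow _ _ hz1 hz2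
          have hk2 : ∀ w, C.lev w ≤ 1 →
              shear (mv (S.rg (C.up v))) ((S.eg (C.up v) : K) * φ s) (shear (mv (C.up v)) s b₀) w = b₀ w := by
            intro w hw
            have h3 := hlow' w hw
            rcases hr : mv (S.rg (C.up v)) w with _ | r
            · rw [shear_eq_of_none hr, hlow1 w hw]
            rw [hr] at h3
            have hr0 : shear (mv (C.up v)) s b₀ r.1 = 0 := by
              rcases h3 with h4 | ⟨h4, h5⟩
              · rw [hlow1 _ (by rw [h4]), hz1 _ h4]
              · rw [shear_eq_of_none h5.2, hz2 _ h4 h5.1]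
            generalize shear (mv (C.up v)) s b₀ = X at hr0 hlow1 ⊢
            simp [shear, hr, hr0, hlow1 w hw]
          refine Finset.mem_filter.2 ⟨Finset.mem_univ _, ?_, fun w hw => ?_⟩
          · rw [hk2 _ (by rw [h.lev_β]; omega), hβ]
          · rw [hk2 _ (by rw [(h.lev_one w).2 hw]), hn w hw]
        · rw [hf.inv]; exact hf₀
  have hb₀eq : b₀ = Pi.single C.β 1 := by
    funext w
    rcases eq_or_ne w C.β with rfl | hw
    · rw [hβ, Pi.single_eq_same]
    rw [Pi.single_eq_of_ne hw]
    rcases Nat.lt_or_ge (C.lev w) 2 with h2 | h2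
    · exact hn w ((h.lev_one w).1 (by
        have : C.lev w ≠ 0 := fun h0 => hw (h.lev_zero w h0)
        omega))
    · exact hzero _ w rfl h2
  have hf1 : f (Pi.single C.β 1) = 1 := by
    rw [← hb₀eq]
    have h2 : ∑ b ∈ Inv.slice C, f b = f b₀ := by
      refine Finset.sum_eq_single b₀ (fun b hb hne => ?_) (fun hh => absurd hb₀ hh)
      by_contra h0
      exact hne (huniq b hb h0)
    exact h2.symm.trans h1
  refine ⟨hf1, fun b hb hne => ?_⟩
  have hbV := hf.supp b hne
  set c := b C.β with hcdef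
  have hcφ : φ c = c := hbV.fix_val hS hC.fix
  obtain ⟨x, -, hxβ, hx⟩ := hf.tor C.β hC.fix c hb hcφ
  have hpt : x * Pi.single C.β 1 = (Pi.single C.β c : Fin m → K) := by
    funext w
    rcases eq_or_ne w C.β with rfl | hw
    · simp [hxβ]
    · simp [Pi.single_eq_of_ne hw]
  set p := C.trans mv (fun v => b v / c) (Pi.single C.β c) with hp
  have hyV : InV φ S (fun v => b v / c) := fun w => by
    simp only [hbV w, map_div₀, hcφ, mul_div_assoc]
  have hfp : f p = 1 := by rw [hp, hf.f_trans hS hC hu hyV, ← hpt, hx, hf1]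
  have hfs := hf.fiber_sum hS hC hu hb hcφ hbV
  rw [h1] at hfs
  have hmem : ∀ v ∈ C.next, p v = b v := fun v hv => by
    rw [hp, Chart.trans_next h _ _ hv]
    have : v ≠ C.β := fun e => Chart.not_mem_next h (e ▸ hv)
    rw [Pi.single_eq_of_ne this, Pi.single_eq_same, zero_add, div_mul_cancel₀ _ hb]
  have hpβ : p C.β = c := by rw [hp, Chart.trans_β h, Pi.single_eq_same]
  by_cases hbp : b = p
  · exact ⟨hbp ▸ hfp, hbp⟩
  · exfalso
    have h2 := Finset.sum_le_sum_of_subset (f := f) (show ({b, p} : Finset (Fin m → K)) ⊆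
        Finset.univ.filter (fun b' => b' C.β = c ∧ ∀ v ∈ C.next, b' v = b v) from
      Finset.insert_subset (Finset.mem_filter.2 ⟨Finset.mem_univ _, rfl, fun v _ => rfl⟩)
        (Finset.singleton_subset_iff.2 (Finset.mem_filter.2 ⟨Finset.mem_univ _, hpβ, hmem⟩)))
    rw [Finset.sum_pair hbp, hfp, hfs] at h2
    omega

theorem cell_count {u : K} (hu : u + φ u = 1) {q : ℕ} (hq : Fintype.card K = q ^ 2)
    (hfix : (Finset.univ.filter fun c : K => φ c = c).card = q) (ho : C.Ordered mv)
    (hsym : ∀ v ∈ C.before, S.rw' v ∈ C.before) (h1 : Inv.sliceSum f C = 1) :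
    ∑ b ∈ cell K C.β, f b = (q - 1) * q ^ C.after.card := by
  classical
  obtain ⟨-, hp⟩ := hf.pure_point hS hC hu h1
  rw [Finset.sum_subset (s₂ := Finset.univ.filter
      (fun b : Fin m → K => b C.β ≠ 0 ∧ ∀ v ∈ C.before, b v = 0)) ?_ ?_,
    hf.sum_chart hS hC hu hq hfix C.before (Finset.filter_subset _ _) hsym, h1, mul_one,
    Chart.card_before hC.ok]
  · intro b hb
    obtain ⟨hb1, hb2⟩ := (Finset.mem_filter.1 hb).2
    exact Finset.mem_filter.2 ⟨Finset.mem_univ _, hb1, fun v hv => hb2 v (Finset.mem_filter.1 hv).2⟩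
  intro b hb hnb
  obtain ⟨hb1, hb2⟩ := (Finset.mem_filter.1 hb).2
  by_contra hne
  refine hnb (Finset.mem_filter.2 ⟨Finset.mem_univ _, hb1, fun w hw => ?_⟩)
  rw [(hp b hb1 hne).2]
  refine Chart.trans_zero_of_low (mv := mv) _ (fun w => w < C.β) _
    (fun w hw => Pi.single_eq_of_ne (Fin.ne_of_lt hw) _) (fun p hpm hy w hw => ?_) w hw
  have hp1 : p.1 ∈ C.next := List.mem_toFinset.2 (List.mem_map.2 ⟨p, hpm, rfl⟩)
  refine ho p hpm ?_ w hw
  rcases lt_trichotomy p.1 C.β with h | h | h
  · exact absurd (hb2 p.1 (Finset.mem_filter.2 ⟨hp1, h⟩)) fun e => hy (by simp [e])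
  · exact absurd (h ▸ hp1) (Chart.not_mem_next hC.ok)
  · exact h

end TInv

end CfsgLib.KnownB.MinDeg
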