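import Mathlib

/-!
# The number of nilpotent endomorphisms of a finite vector space (Fine–Herstein)

Pairs (nilpotent `f`, vector `v`) are sorted by the chain `v, f v, …`; the resulting recursion
telescopes to `q ^ (n * (n - 1))`.
-/

set_option autoImplicit false

namespace CfsgLib.KnownB.NilCount

open Finset Module

variable (F : Type*) [Field F]

/-- Number of nilpotent endomorphisms of `Fin n → F`. -/
noncomputable def num (n : ℕ) : ℕ := Nat.card {f : Module.End F (Fin n → F) // IsNilpotent f}

variable {F}

theorem num_eq_of_finrank [Finite F] {W : Type*} [AddCommGroup W] [Module F W] [FiniteDimensional F W]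
    {m : ℕ} (h : finrank F W = m) : Nat.card {f : Module.End F W // IsNilpotent f} = num F m := by
  let e : W ≃ₗ[F] (Fin m → F) := LinearEquiv.ofFinrankEq _ _ (by simp [h])
  refine Nat.card_congr (Equiv.subtypeEquiv e.conjRingEquiv.toEquiv fun f => ?_)
  exact ⟨fun hf => hf.map e.conjRingEquiv, fun hf => by
    have := hf.map e.conjRingEquiv.symm
    simpa using this⟩

variable {V : Type*} [AddCommGroup V] [Module F V]

/-- `v` has chain length exactly `k` under `f`. -/
def ChainLen (f : Module.End F V) (v : V) (k : ℕ) : Prop :=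
  (f ^ k) v = 0 ∧ ∀ m < k, (f ^ m) v ≠ 0

theorem ChainLen.linearIndependent {f : Module.End F V} {v : V} {k : ℕ} (h : ChainLen f v k) :
    LinearIndependent F (fun i : Fin k => (f ^ (i : ℕ)) v) := by
  classical
  rw [Fintype.linearIndependent_iff]
  intro c hc
  by_contra hne
  push Not at hne
  have hex : ∃ m : ℕ, ∃ hm : m < k, c ⟨m, hm⟩ ≠ 0 := by
    obtain ⟨i, hi⟩ := hne
    exact ⟨i, i.2, hi⟩
  obtain ⟨hk0, hc0⟩ := Nat.find_spec hex
  set m := Nat.find hex
  have hsum := congrArg (⇑(f ^ (k - 1 - m))) hc
  rw [map_sum, map_zero, Finset.sum_eq_single (⟨m, hk0⟩ : Fin k)] at hsum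
  · rw [map_smul, ← Module.End.mul_apply, ← pow_add,
      show k - 1 - m + m = k - 1 by omega, smul_eq_zero] at hsum
    exact h.2 (k - 1) (by omega) (hsum.resolve_left hc0)
  · intro i _ hi
    rcases Nat.lt_trichotomy (i : ℕ) m with hlt | heq | hgt
    · have : c i = 0 := by
        by_contra hci
        exact Nat.find_min hex hlt ⟨i.2, hci⟩
      rw [this, zero_smul, map_zero]
    · exact absurd (Fin.ext heq) hi
    · rw [map_smul, ← Module.End.mul_apply, ← pow_add,
        show k - 1 - m + (i : ℕ) = ((i : ℕ) - m - 1) + k by omega, pow_add, Module.End.mul_apply,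
        h.1, map_zero, smul_zero]
  · exact fun h' => absurd (Finset.mem_univ _) h'

theorem ChainLen.le_finrank [FiniteDimensional F V] {f : Module.End F V} {v : V} {k : ℕ}
    (h : ChainLen f v k) : k ≤ finrank F V := by
  simpa using h.linearIndependent.fintype_card_le_finrank

theorem ChainLen.unique {f : Module.End F V} {v : V} {j k : ℕ} (hj : ChainLen f v j)
    (hk : ChainLen f v k) : j = k := by
  rcases Nat.lt_trichotomy j k with h | h | h
  · exact absurd hj.1 (hk.2 j h)
  · exact h
  · exact absurd hk.1 (hj.2 k h)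

theorem exists_chainLen {f : Module.End F V} (hf : IsNilpotent f) (v : V) :
    ∃ k, ChainLen f v k := by
  classical
  obtain ⟨m, hm⟩ := hf
  have hex : ∃ k, (f ^ k) v = 0 := ⟨m, by simp [hm]⟩
  exact ⟨Nat.find hex, Nat.find_spec hex, fun j hj => Nat.find_min hex hj⟩

/-- The successor of the `i`-th member of a chain. -/
def succVec {k : ℕ} (u : Fin k → V) (i : Fin k) : V :=
  if h : (i : ℕ) + 1 < k then u ⟨i + 1, h⟩ else 0

theorem pow_chain {f : Module.End F V} {k : ℕ} {u : Fin k → V} (hu : ∀ i, f (u i) = succVec u i)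
    (h0 : 0 < k) : ∀ m : ℕ, (f ^ m) (u ⟨0, h0⟩) = if h : m < k then u ⟨m, h⟩ else 0 := by
  intro m
  induction m with
  | zero => simp [h0]
  | succ m ih =>
    rw [pow_succ', Module.End.mul_apply, ih]
    by_cases h : m < k
    · rw [dif_pos h, hu, succVec]
    · rw [dif_neg h, map_zero, dif_neg (by omega)]

/-- Pairs with chain length `k` correspond to chains with an adapted nilpotent. -/
theorem card_pairs [Finite F] [FiniteDimensional F V] (k : ℕ) :
    Nat.card {x : Module.End F V × V // IsNilpotent x.1 ∧ ChainLen x.1 x.2 k} =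
      Nat.card (Σ u : {u : Fin k → V // LinearIndependent F u},
        {f : Module.End F V // IsNilpotent f ∧ ∀ i, f (u.1 i) = succVec u.1 i}) := by
  classical
  refine Nat.card_congr
    { toFun := fun x => ⟨⟨fun i => (x.1.1 ^ (i : ℕ)) x.1.2, x.2.2.linearIndependent⟩, ⟨x.1.1, x.2.1,
        fun i => ?_⟩⟩
      invFun := fun p => ⟨(p.2.1, if h : 0 < k then p.1.1 ⟨0, h⟩ else 0), p.2.2.1, ?_⟩
      left_inv := ?_
      right_inv := ?_ }
  · rw [succVec]
    show x.1.1 ((x.1.1 ^ (i : ℕ)) x.1.2) = _
    rw [← Module.End.mul_apply, ← pow_succ']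
    split_ifs with h
    · rfl
    · rw [show (i : ℕ) + 1 = k by omega]; exact x.2.2.1
  · obtain ⟨⟨u, hu⟩, f, hf, hfu⟩ := p
    constructor
    · by_cases h : 0 < k
      · simp only [dif_pos h, pow_chain hfu h, dif_neg (lt_irrefl k)]
      · simp only [dif_neg h, map_zero]
    · intro m hm
      simp only [dif_pos (show 0 < k by omega), pow_chain hfu (show 0 < k by omega), dif_pos hm]
      exact hu.ne_zero _
  · rintro ⟨⟨f, v⟩, hf, hc⟩
    refine Subtype.ext (Prod.ext rfl ?_)
    show (if h : 0 < k then (f ^ 0) v else 0) = v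
    split_ifs with h
    · rfl
    · have := hc.1
      rw [show k = 0 by omega] at this
      exact this.symm
  · rintro ⟨⟨u, hu⟩, f, hf, hfu⟩
    refine Sigma.subtype_ext (Subtype.ext (funext fun i => ?_)) rfl
    show (f ^ (i : ℕ)) (if h : 0 < k then u ⟨0, h⟩ else 0) = u i
    rw [dif_pos i.pos, pow_chain hfu i.pos, dif_pos i.2]

/-- The number of nilpotents with a prescribed chain. -/
theorem card_adapted [Finite F] [FiniteDimensional F V] {k : ℕ} (u : Fin k → V)
    (hu : LinearIndependent F u) :
    Nat.card {f : Module.End F V // IsNilpotent f ∧ ∀ i, f (u i) = succVec u i} =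
      Nat.card F ^ (k * (finrank F V - k)) * num F (finrank F V - k) := by
  classical
  set U := Submodule.span F (Set.range u) with hU
  obtain ⟨W, hW⟩ := Submodule.exists_isCompl U
  let bU : Basis (Fin k) F U := Basis.span hu
  have hbU : ∀ i, ((bU i : U) : V) = u i := fun i => congrArg Subtype.val (Basis.span_apply hu i)
  have hsucc : ∀ i, succVec u i ∈ U := by
    intro i
    rw [succVec]
    split_ifs
    · exact Submodule.subset_span ⟨_, rfl⟩
    · exact zero_mem _
  let J : U →ₗ[F] U := bU.constr F fun i => ⟨succVec u i, hsucc i⟩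
  have hJ : ∀ i, ((J (bU i) : U) : V) = succVec u i := fun i => by
    simp [J]
  let e : (U × W) ≃ₗ[F] V := Submodule.prodEquivOfIsCompl U W hW
  have hfrU : finrank F U = k := by
    rw [Module.finrank_eq_card_basis bU, Fintype.card_fin]
  have hfrW : finrank F W = finrank F V - k := by
    have := Submodule.finrank_add_eq_of_isCompl hW
    omega
  let mk : (W →ₗ[F] U) → (W →ₗ[F] W) → Module.End F (U × W) := fun X g =>
    (J.comp (LinearMap.fst F U W) + X.comp (LinearMap.snd F U W)).prod (g.comp (LinearMap.snd F U W))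
  have hmk : ∀ X g (a : U) (b : W), mk X g (a, b) = (J a + X b, g b) := fun X g a b => rfl
  have hsnd : ∀ X g (m : ℕ) (z : U × W), ((mk X g ^ m) z).2 = (g ^ m) z.2 := by
    intro X g m
    induction m with
    | zero => intro z; rfl
    | succ m ih =>
      intro z
      rw [pow_succ', Module.End.mul_apply, pow_succ', Module.End.mul_apply, ← ih]
      rfl
  have hfst : ∀ X g (m : ℕ) (a : U), (mk X g ^ m) (a, 0) = ((J ^ m) a, 0) := by
    intro X g m a
    induction m with
    | zero => rfl
    | succ m ih =>
      rw [pow_succ', Module.End.mul_apply, ih, hmk, map_zero, map_zero, add_zero, pow_succ',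
        Module.End.mul_apply]
  have hJnil : J ^ k = 0 := by
    refine bU.ext fun i => ?_
    have key : ∀ m : ℕ, (((J ^ m) (bU i) : U) : V) =
        if h : (i : ℕ) + m < k then u ⟨i + m, h⟩ else 0 := by
      intro m
      induction m with
      | zero => simp [hbU]
      | succ m ih =>
        rw [pow_succ', Module.End.mul_apply]
        by_cases h : (i : ℕ) + m < k
        · rw [dif_pos h] at ih
          rw [show (J ^ m) (bU i) = bU ⟨i + m, h⟩ from Subtype.ext (ih.trans (hbU _).symm), hJ,
            succVec]
          rfl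
        · rw [dif_neg h] at ih
          rw [show (J ^ m) (bU i) = 0 from Subtype.ext ih, map_zero, dif_neg (by omega)]
          rfl
    refine Subtype.ext ?_
    rw [key, dif_neg (by omega)]
    rfl
  have hnil : ∀ X g, IsNilpotent (mk X g) ↔ IsNilpotent g := by
    intro X g
    constructor
    · rintro ⟨m, hm⟩
      refine ⟨m, LinearMap.ext fun b => ?_⟩
      have := hsnd X g m (0, b)
      rw [hm] at this
      simpa using this.symm
    · rintro ⟨m, hm⟩
      refine ⟨k + m, LinearMap.ext fun z => ?_⟩
      have h2 := hsnd X g m z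
      rw [hm] at h2
      rw [pow_add, Module.End.mul_apply,
        show (mk X g ^ m) z = (((mk X g ^ m) z).1, 0) from Prod.ext rfl (by simpa using h2), hfst,
        hJnil]
      simp
  let E := e.conjRingEquiv
  have hcond : ∀ f : Module.End F V, (∀ i, f (u i) = succVec u i) ↔
      ∀ a : U, E.symm f (a, 0) = (J a, 0) := by
    intro f
    have hE : ∀ z, E.symm f z = e.symm (f (e z)) := fun z => rfl
    have he : ∀ a : U, e (a, 0) = (a : V) := fun a => by simp [e]
    constructor
    · intro h a
      have hlin : f.comp U.subtype = U.subtype.comp J := bU.ext fun i => by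
        simp only [LinearMap.comp_apply, Submodule.subtype_apply, hbU, hJ, h i]
      have := LinearMap.congr_fun hlin a
      simp only [LinearMap.comp_apply, Submodule.subtype_apply] at this
      rw [hE, he, this, ← he, LinearEquiv.symm_apply_apply]
    · intro h i
      have := congrArg e (h (bU i))
      rw [hE, LinearEquiv.apply_symm_apply, he, he, hbU, hJ] at this
      exact this
  let Φ : {f : Module.End F V // IsNilpotent f ∧ ∀ i, f (u i) = succVec u i} ≃
      (W →ₗ[F] U) × {g : Module.End F W // IsNilpotent g} :=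
    { toFun := fun f =>
        ((LinearMap.fst F U W).comp ((E.symm f.1).comp (LinearMap.inr F U W)),
        ⟨(LinearMap.snd F U W).comp ((E.symm f.1).comp (LinearMap.inr F U W)), by
          have hform : E.symm f.1 = mk ((LinearMap.fst F U W).comp ((E.symm f.1).comp
              (LinearMap.inr F U W))) ((LinearMap.snd F U W).comp ((E.symm f.1).comp
              (LinearMap.inr F U W))) := by
            refine LinearMap.ext fun z => ?_
            obtain ⟨a, b⟩ := z
            rw [hmk, show ((a, b) : U × W) = (a, 0) + (0, b) by simp, map_add,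
              (hcond f.1).mp f.2.2 a]
            refine Prod.ext ?_ ?_ <;> simp
          have := f.2.1.map E.symm
          rw [hform] at this
          exact (hnil _ _).mp this⟩)
      invFun := fun p => ⟨E (mk p.1 p.2.1), ((hnil _ _).mpr p.2.2).map E, (hcond _).mpr fun a => by
        rw [RingEquiv.symm_apply_apply, hmk, map_zero, map_zero, add_zero]⟩
      left_inv := fun f => by
        apply Subtype.ext
        apply E.symm.injective
        rw [RingEquiv.symm_apply_apply]
        refine LinearMap.ext fun z => ?_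
        obtain ⟨a, b⟩ := z
        rw [hmk, show ((a, b) : U × W) = (a, 0) + (0, b) by simp, map_add,
          (hcond f.1).mp f.2.2 a]
        refine Prod.ext ?_ ?_ <;> simp
      right_inv := fun p => by
        refine Prod.ext ?_ (Subtype.ext ?_) <;>
          simp only [RingEquiv.symm_apply_apply] <;>
          refine LinearMap.ext fun b => ?_ <;> simp [mk] }
  have : Module.Finite F (W →ₗ[F] U) := inferInstance
  rw [Nat.card_congr Φ, Nat.card_prod, num_eq_of_finrank hfrW,
    Module.natCard_eq_pow_finrank (K := F) (V := W →ₗ[F] U), Module.finrank_linearMap, hfrW, hfrU,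
    mul_comm (finrank F V - k)]

theorem recursion [Finite F] (n : ℕ) :
    num F n * Nat.card F ^ n = ∑ k ∈ range (n + 1),
      (∏ i ∈ range k, (Nat.card F ^ n - Nat.card F ^ i)) *
        (Nat.card F ^ (k * (n - k)) * num F (n - k)) := by
  classical
  have := Fintype.ofFinite F
  set V := Fin n → F
  have hfr : finrank F V = n := by simp [V]
  have : Finite (Module.End F V) := Module.finite_of_finite F
  let P := {x : Module.End F V × V // IsNilpotent x.1}
  have hP : Nat.card P = num F n * Nat.card F ^ n := by
    have e : P ≃ {f : Module.End F V // IsNilpotent f} × V :=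
      ⟨fun x => (⟨x.1.1, x.2⟩, x.1.2), fun y => ⟨(y.1.1, y.2), y.1.2⟩, fun _ => rfl, fun _ => rfl⟩
    rw [Nat.card_congr e, Nat.card_prod, num, Module.natCard_eq_pow_finrank (K := F) (V := V), hfr]
  have hlen : ∀ x : P, ∃! k : Fin (n + 1), ChainLen x.1.1 x.1.2 k := by
    intro x
    obtain ⟨k, hk⟩ := exists_chainLen x.2 x.1.2
    refine ⟨⟨k, Nat.lt_succ_of_le (hfr ▸ hk.le_finrank)⟩, hk, fun j hj => Fin.ext (hj.unique hk)⟩
  let e : P ≃ Σ k : Fin (n + 1), {x : Module.End F V × V // IsNilpotent x.1 ∧ ChainLen x.1 x.2 k} :=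
    { toFun := fun x => ⟨(hlen x).choose, x.1, x.2, (hlen x).choose_spec.1⟩
      invFun := fun p => ⟨p.2.1, p.2.2.1⟩
      left_inv := fun x => rfl
      right_inv := fun p => by
        obtain ⟨k, x, hx, hk⟩ := p
        refine Sigma.subtype_ext ?_ rfl
        exact ((hlen ⟨x, hx⟩).choose_spec.2 k hk).symm }
  rw [← hP, Nat.card_congr e, Nat.card_sigma, ← Fin.sum_univ_eq_sum_range
    (fun k => (∏ i ∈ range k, (Nat.card F ^ n - Nat.card F ^ i)) *
      (Nat.card F ^ (k * (n - k)) * num F (n - k)))]
  refine Finset.sum_congr rfl fun k _ => ?_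
  rw [card_pairs, Nat.card_sigma,
    Finset.sum_congr rfl (fun u _ => card_adapted u.1 u.2), hfr, Finset.sum_const, smul_eq_mul,
    Finset.card_univ, ← Nat.card_eq_fintype_card,
    card_linearIndependent (by rw [hfr]; omega), hfr, ← Nat.card_eq_fintype_card (α := F),
    Fin.prod_univ_eq_prod_range (fun i => Nat.card F ^ n - Nat.card F ^ i)]

theorem telescope (q : ℕ) (hq : 1 ≤ q) (n : ℕ) : ∀ d j : ℕ, j + d = n →
    ∑ i ∈ range (d + 1), (∏ l ∈ range (j + i), (q ^ n - q ^ l)) * q ^ ((d - i) * (n - 1)) =
      (∏ l ∈ range j, (q ^ n - q ^ l)) * q ^ (d * n) := by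
  intro d
  induction d with
  | zero => intro j _; simp
  | succ d ih =>
    intro j hj
    rw [Finset.sum_range_succ']
    have h1 : ∑ i ∈ range (d + 1), (∏ l ∈ range (j + (i + 1)), (q ^ n - q ^ l)) *
        q ^ ((d + 1 - (i + 1)) * (n - 1)) =
        (∏ l ∈ range (j + 1), (q ^ n - q ^ l)) * q ^ (d * n) := by
      rw [← ih (j + 1) (by omega)]
      refine Finset.sum_congr rfl fun i _ => ?_
      rw [show j + (i + 1) = j + 1 + i by omega, Nat.succ_sub_succ]
    rw [h1, Finset.prod_range_succ, Nat.sub_zero, Nat.add_zero, mul_assoc, ← mul_add]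
    congr 1
    obtain ⟨m, rfl⟩ : ∃ m, n = j + (d + 1) := ⟨0, by omega⟩
    have e : (d + 1) * (j + (d + 1) - 1) = j + d * (j + (d + 1)) := by
      rw [show j + (d + 1) - 1 = j + d by omega]; ring
    rw [e, pow_add q j (d * (j + (d + 1))), ← add_mul,
      Nat.sub_add_cancel (Nat.pow_le_pow_right hq (by omega)), ← pow_add]
    congr 1
    ring

theorem num_eq [Finite F] : ∀ n : ℕ, num F n = Nat.card F ^ (n * (n - 1)) := by
  intro n
  induction n using Nat.strong_induction_on with
  | _ n ih =>
    set q := Nat.card F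
    have hq : 1 ≤ q := Nat.card_pos
    rcases Nat.eq_zero_or_pos n with rfl | hn
    · simp only [zero_mul, pow_zero, num]
      rw [Nat.card_eq_one_iff_unique]
      refine ⟨⟨fun f g => Subtype.ext (LinearMap.ext fun x => Subsingleton.elim _ _)⟩,
        ⟨⟨0, IsNilpotent.zero⟩⟩⟩
    · have hrec := recursion (F := F) n
      rw [Finset.sum_range_succ'] at hrec
      simp only [Finset.range_zero, Finset.prod_empty, one_mul, zero_mul, pow_zero,
        Nat.sub_zero] at hrec
      have htel := telescope q hq n n 0 (by omega)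
      simp only [Nat.zero_add, Finset.range_zero, Finset.prod_empty, one_mul] at htel
      rw [Finset.sum_range_succ'] at htel
      simp only [Finset.range_zero, Finset.prod_empty, one_mul, Nat.sub_zero] at htel
      have hsum : ∑ i ∈ range n, (∏ l ∈ range (i + 1), (q ^ n - q ^ l)) *
          (q ^ ((i + 1) * (n - (i + 1))) * num F (n - (i + 1))) =
          ∑ i ∈ range n, (∏ l ∈ range (i + 1), (q ^ n - q ^ l)) * q ^ ((n - (i + 1)) * (n - 1)) := by
        refine Finset.sum_congr rfl fun i hi => ?_
        rw [Finset.mem_range] at hi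
        rw [ih _ (by omega), ← pow_add]
        congr 2
        obtain ⟨d, rfl⟩ : ∃ d, n = i + 1 + d := ⟨n - (i + 1), by omega⟩
        rw [show i + 1 + d - (i + 1) = d by omega, show i + 1 + d - 1 = i + d by omega]
        rcases Nat.eq_zero_or_pos d with rfl | hd
        · simp
        · obtain ⟨d', rfl⟩ : ∃ d', d = d' + 1 := ⟨d - 1, by omega⟩
          rw [show d' + 1 - 1 = d' from rfl]
          ring
      rw [hsum] at hrec
      obtain ⟨m, rfl⟩ : ∃ m, n = m + 1 := ⟨n - 1, by omega⟩
      rw [show m + 1 - 1 = m from rfl] at hrec htel ⊢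
      have hone : 1 < q := Finite.one_lt_card
      have hlt : 1 < q ^ (m + 1) := Nat.one_lt_pow (by omega) hone
      have hsq : q ^ ((m + 1) * (m + 1)) = q ^ ((m + 1) * m) * q ^ (m + 1) := by
        rw [← pow_add]; congr 1
      rw [hsq] at htel
      nlinarith [htel, hrec, hlt]

end CfsgLib.KnownB.NilCount
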