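import Cfsg.Agent.Lib.Classical.OrthSimple

/-!
Root subgroups of an orthogonal group in a frame of hyperbolic pairs, and generation of the group of
Siegel transformations by them.
-/

set_option autoImplicit false
set_option linter.unusedSectionVars false
set_option linter.unusedVariables false

namespace CfsgLib.KnownB.OrthTwoGen

open CfsgLib.Geom CfsgLib.Classical
open QuadraticMap (polar)

variable {F V : Type*} [Field F] [AddCommGroup V] [Module F V] {Q : QuadraticForm F V} {n : ℕ}

/-- The opposite index. -/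
def opp (x : Fin n × Bool) : Fin n × Bool := (x.1, !x.2)

@[simp] theorem opp_opp (x : Fin n × Bool) : opp (opp x) = x := by simp [opp]

@[simp] theorem opp_fst (x : Fin n × Bool) : (opp x).1 = x.1 := rfl

/-- A frame: hyperbolic pairs and their orthogonal complement. -/
structure Frame (Q : QuadraticForm F V) (n : ℕ) where
  v : Fin n × Bool → V
  W : Submodule F V
  sing : ∀ x, Q (v x) = 0
  pair : ∀ x y, polar Q (v x) (v y) = if y = opp x then 1 else 0
  perp : ∀ x, ∀ z ∈ W, polar Q (v x) z = 0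
  decomp : ∀ z, z - ∑ x, polar Q (v (opp x)) z • v x ∈ W

variable (B : Frame Q n)

theorem pair_ne {x y : Fin n × Bool} (h : y ≠ opp x) : polar Q (B.v x) (B.v y) = 0 := by
  rw [B.pair, if_neg h]

theorem pair_opp (x : Fin n × Bool) : polar Q (B.v x) (B.v (opp x)) = 1 := by
  rw [B.pair, if_pos rfl]

theorem pair_opp' (x : Fin n × Bool) : polar Q (B.v (opp x)) (B.v x) = 1 := by
  rw [QuadraticMap.polar_comm]; exact pair_opp B x

theorem pair_self (x : Fin n × Bool) : polar Q (B.v x) (B.v x) = 0 :=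
  polar_self_of_singular Q (B.sing x)

theorem pair_adm {x y : Fin n × Bool} (h : x.1 ≠ y.1) : polar Q (B.v x) (B.v y) = 0 :=
  pair_ne B fun e => h (by rw [e]; rfl)

theorem perp' (x : Fin n × Bool) {z : V} (hz : z ∈ B.W) : polar Q z (B.v x) = 0 := by
  rw [QuadraticMap.polar_comm]; exact B.perp x z hz

/-- A Siegel transformation fixes what is orthogonal to both its vectors. -/
theorem siegel_fix {x w z : V} (hx : Q x = 0) (hw : polar Q x w = 0) (h1 : polar Q x z = 0)
    (h2 : polar Q w z = 0) : (siegel Q x w).1 z = z := by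
  rw [siegel_apply Q hx hw, h1, h2]
  simp

theorem siegel_swap {x y : V} (hx : Q x = 0) (hy : Q y = 0) (hxy : polar Q x y = 0) (t : F) :
    siegel Q x (t • y) = siegel Q y ((-t) • x) := by
  have hyx : polar Q y x = 0 := by rw [QuadraticMap.polar_comm]; exact hxy
  refine quadIsoms_ext Q fun z => ?_
  rw [siegel_apply Q hx (by rw [QuadraticMap.polar_smul_right, hxy, smul_zero]),
    siegel_apply Q hy (by rw [QuadraticMap.polar_smul_right, hyx, smul_zero]), quad_smul, quad_smul,
    hx, hy, QuadraticMap.polar_smul_left, QuadraticMap.polar_smul_left]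
  simp only [smul_eq_mul, mul_zero, zero_mul, add_zero]
  module

theorem siegel_self {x : V} (hx : Q x = 0) (t : F) : siegel Q x (t • x) = 1 := by
  have hxx := polar_self_of_singular Q hx
  refine quadIsoms_ext Q fun z => ?_
  rw [siegel_apply Q hx (by rw [QuadraticMap.polar_smul_right, hxx, smul_zero]), quad_smul, hx,
    QuadraticMap.polar_smul_left]
  show _ = z
  simp only [smul_eq_mul, mul_zero, zero_mul, add_zero]
  module

theorem isom_apply_mul (g h : quadIsoms Q) (z : V) : (g * h).1 z = g.1 (h.1 z) := rfl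

theorem inv_fix {g : quadIsoms Q} {z : V} (h : g.1 z = z) : (g⁻¹).1 z = z := by
  calc (g⁻¹).1 z = (g⁻¹).1 (g.1 z) := by rw [h]
    _ = z := by rw [← isom_apply_mul, inv_mul_cancel]; rfl

/-- An isometry is determined by the frame and the complement. -/
theorem frame_ext {g h : quadIsoms Q} (hv : ∀ x, g.1 (B.v x) = h.1 (B.v x))
    (hW : ∀ z ∈ B.W, g.1 z = h.1 z) : g = h := by
  refine quadIsoms_ext Q fun z => ?_
  rw [show z = (∑ x, polar Q (B.v (opp x)) z • B.v x) + (z - ∑ x, polar Q (B.v (opp x)) z • B.v x)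
    by abel, map_add, map_add, map_sum, map_sum, hW _ (B.decomp z)]
  simp only [map_smul, hv]

variable (H : Subgroup (quadIsoms Q))

/-- A whole root group is in `H`. -/
def Root (a b : Fin n × Bool) : Prop := ∀ t : F, siegel Q (B.v a) (t • B.v b) ∈ H

/-- Some element of a root group is in `H`. -/
def URoot (a b : Fin n × Bool) : Prop := ∃ c : F, c ≠ 0 ∧ siegel Q (B.v a) (c • B.v b) ∈ H

/-- A line of short root elements is in `H`. -/
def SRoot (a : Fin n × Bool) (z : V) : Prop := ∀ t : F, siegel Q (B.v a) (t • z) ∈ H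

variable {B H}

theorem conj_sub {g : quadIsoms Q} {y z : V} (hy : Q y = 0) (hyz : polar Q y z = 0) (hg : g ∈ H)
    (hgy : g.1 y = y) (hS : siegel Q y z ∈ H) : siegel Q y (g.1 z - z) ∈ H := by
  have h1 : polar Q y (g.1 z) = 0 := by
    have := polar_quadIsom g.2 y z
    rw [hgy] at this
    rw [this, hyz]
  have h2 : siegel Q y (g.1 z) ∈ H := by
    have := mul_mem (mul_mem hg hS) (inv_mem hg)
    rwa [siegel_conj, hgy] at this
  rw [sub_eq_add_neg, siegel_add Q hy h1 (by rw [QuadraticMap.polar_neg_right, hyz, neg_zero]),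
    ← siegel_neg Q hy hyz]
  exact mul_mem h2 (inv_mem hS)

theorem Root.symm {a b : Fin n × Bool} (hab : a.1 ≠ b.1) (h : Root B H a b) : Root B H b a :=
  fun t => by
    have := h (-t)
    rwa [siegel_swap (B.sing a) (B.sing b) (pair_adm B hab), neg_neg] at this

theorem URoot.symm {a b : Fin n × Bool} (hab : a.1 ≠ b.1) (h : URoot B H a b) : URoot B H b a := by
  obtain ⟨c, hc, hm⟩ := h
  refine ⟨-c, neg_ne_zero.2 hc, ?_⟩
  rwa [siegel_swap (B.sing a) (B.sing b) (pair_adm B hab)] at hm

/-- The commutator of two root elements. -/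
theorem comp_mem {a b k : Fin n × Bool} (hak : a.1 ≠ k.1) (hkb : k.1 ≠ b.1) (hab : a.1 ≠ b.1)
    {c d : F} (h1 : siegel Q (B.v a) (c • B.v k) ∈ H)
    (h2 : siegel Q (B.v (opp k)) (d • B.v b) ∈ H) :
    siegel Q (B.v a) ((-(d * c)) • B.v b) ∈ H := by
  have hz : polar Q (B.v a) (c • B.v k) = 0 := by
    rw [QuadraticMap.polar_smul_right, pair_adm B hak, smul_zero]
  have hgy : (siegel Q (B.v a) (c • B.v k)).1 (B.v b) = B.v b :=
    siegel_fix (B.sing a) hz (pair_adm B hab)
      (by rw [QuadraticMap.polar_smul_left, pair_adm B hkb, smul_zero])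
  rw [siegel_swap (B.sing (opp k)) (B.sing b) (pair_adm B (by rw [opp_fst]; exact hkb))] at h2
  have h3 := conj_sub (B.sing b)
    (by rw [QuadraticMap.polar_smul_right, pair_adm B (Ne.symm (show (opp k).1 ≠ b.1 from hkb)),
      smul_zero]) h1 hgy h2
  rw [map_smul, siegel_apply Q (B.sing a) hz, pair_adm B (show a.1 ≠ (opp k).1 from hak), quad_smul,
    B.sing k, QuadraticMap.polar_smul_left, pair_opp] at h3
  rw [siegel_swap (B.sing a) (B.sing b) (pair_adm B hab)]
  convert h3 using 2
  simp only [smul_eq_mul]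
  module

theorem Root.comp {a b k : Fin n × Bool} (hak : a.1 ≠ k.1) (hkb : k.1 ≠ b.1) (hab : a.1 ≠ b.1)
    (h1 : Root B H a k) (h2 : URoot B H (opp k) b) : Root B H a b := fun t => by
  obtain ⟨d, hd, hm⟩ := h2
  have := comp_mem hak hkb hab (h1 (-t / d)) hm
  rwa [show -(d * (-t / d)) = t by field_simp] at this

theorem URoot.comp {a b k : Fin n × Bool} (hak : a.1 ≠ k.1) (hkb : k.1 ≠ b.1) (hab : a.1 ≠ b.1)
    (h1 : URoot B H a k) (h2 : URoot B H (opp k) b) : URoot B H a b := by
  obtain ⟨c, hc, hm⟩ := h1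
  obtain ⟨d, hd, hm'⟩ := h2
  exact ⟨_, neg_ne_zero.2 (mul_ne_zero hd hc), comp_mem hak hkb hab hm hm'⟩

theorem Root.unit {a b : Fin n × Bool} (h : Root B H a b) : URoot B H a b := ⟨1, one_ne_zero, h 1⟩

/-- The Coxeter index map. -/
def nx (x : Fin n × Bool) : Fin n × Bool :=
  if h : (x.1 : ℕ) + 1 < n then (⟨(x.1 : ℕ) + 1, h⟩, x.2) else (⟨0, x.1.pos⟩, !x.2)

theorem nx_lt {i : ℕ} (h : i + 1 < n) (s : Bool) :
    nx ((⟨i, by omega⟩ : Fin n), s) = (⟨i + 1, h⟩, s) := dif_pos h

theorem nx_last {i : ℕ} (hi : i < n) (h : i + 1 = n) (s : Bool) :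
    nx ((⟨i, hi⟩ : Fin n), s) = (⟨0, by omega⟩, !s) := dif_neg (by simp; omega)

theorem nx_adm {a b : Fin n × Bool} (h : a.1 ≠ b.1) : (nx a).1 ≠ (nx b).1 := by
  have ha := a.1.2
  have hb := b.1.2
  have h' : (a.1 : ℕ) ≠ (b.1 : ℕ) := fun e => h (Fin.ext e)
  unfold nx
  split_ifs <;> simp [Fin.ext_iff] <;> omega

/-- The data of a Coxeter element in `H`. -/
structure Cox (B : Frame Q n) (H : Subgroup (quadIsoms Q)) where
  w : quadIsoms Q
  κ : Fin n × Bool → F
  r : V → V
  hκ : ∀ x, κ x ≠ 0
  hw : ∀ x, w.1 (B.v x) = κ x • B.v (nx x)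
  hr : ∀ z ∈ B.W, r z ∈ B.W ∧ w.1 z = r z
  mem : w ∈ H

theorem Cox.conj_mem (C : Cox B H) {a : Fin n × Bool} {z : V} (hz : polar Q (B.v a) z = 0)
    (h : siegel Q (B.v a) z ∈ H) : siegel Q (B.v (nx a)) (C.κ a • C.w.1 z) ∈ H := by
  have := mul_mem (mul_mem C.mem h) (inv_mem C.mem)
  rw [siegel_conj, C.hw] at this
  have hp : polar Q (C.w.1 (B.v a)) (C.w.1 z) = 0 := (polar_quadIsom C.w.2 _ _).trans hz
  rw [C.hw, QuadraticMap.polar_smul_left, smul_eq_mul] at hp
  rwa [siegel_smul Q (B.sing _) ((mul_eq_zero.1 hp).resolve_left (C.hκ a))] at this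

theorem Root.step (C : Cox B H) {a b : Fin n × Bool} (hab : a.1 ≠ b.1) (h : Root B H a b) :
    Root B H (nx a) (nx b) := fun t => by
  have := C.conj_mem (by rw [QuadraticMap.polar_smul_right, pair_adm B hab, smul_zero])
    (h (t / (C.κ a * C.κ b)))
  rw [map_smul, C.hw, smul_smul, smul_smul] at this
  rwa [show C.κ a * (t / (C.κ a * C.κ b)) * C.κ b = t by
    have := C.hκ a; have := C.hκ b; field_simp] at this

theorem URoot.step (C : Cox B H) {a b : Fin n × Bool} (hab : a.1 ≠ b.1) (h : URoot B H a b) :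
    URoot B H (nx a) (nx b) := by
  obtain ⟨c, hc, hm⟩ := h
  have := C.conj_mem (by rw [QuadraticMap.polar_smul_right, pair_adm B hab, smul_zero]) hm
  rw [map_smul, C.hw, smul_smul, smul_smul] at this
  exact ⟨_, mul_ne_zero (mul_ne_zero (C.hκ a) hc) (C.hκ b), this⟩

theorem SRoot.step (C : Cox B H) {a : Fin n × Bool} {z : V} (hz : z ∈ B.W) (h : SRoot B H a z) :
    SRoot B H (nx a) (C.r z) := fun t => by
  have := C.conj_mem (by rw [QuadraticMap.polar_smul_right, B.perp a z hz, smul_zero]) (h (t / C.κ a))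
  rwa [map_smul, (C.hr z hz).2, smul_smul, mul_div_cancel₀ _ (C.hκ a)] at this

/-- The closure of one adjacent root under the rules. -/
theorem all_of_rules (hn : 2 ≤ n) (R : Fin n × Bool → Fin n × Bool → Prop)
    (hsym : ∀ a b, a.1 ≠ b.1 → R a b → R b a)
    (hcomp : ∀ a b k, a.1 ≠ k.1 → k.1 ≠ b.1 → a.1 ≠ b.1 → R a k → R (opp k) b → R a b)
    (hstep : ∀ a b, a.1 ≠ b.1 → R a b → R (nx a) (nx b))
    (h0 : R (⟨0, by omega⟩, false) (⟨1, by omega⟩, true)) : ∀ a b, a.1 ≠ b.1 → R a b := by
  have hne : ∀ {i j : ℕ} {hi : i < n} {hj : j < n}, i ≠ j → (⟨i, hi⟩ : Fin n) ≠ ⟨j, hj⟩ :=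
    fun h e => h (congrArg Fin.val e)
  have up : ∀ (i : ℕ) (h : i + 1 < n), R (⟨i, by omega⟩, false) (⟨i + 1, h⟩, true) := by
    intro i
    induction i with
    | zero => exact fun _ => h0
    | succ i ih =>
      intro h
      have := hstep _ _ (hne (by first | omega | (dsimp only; omega))) (ih (by omega))
      rwa [nx_lt (i := i) (by omega), nx_lt (i := i + 1) h] at this
  have wrap : R (⟨n - 1, by omega⟩, false) (⟨0, by omega⟩, false) := by
    have := hstep _ _ (hne (by first | omega | (dsimp only; omega))) (up (n - 2) (by omega))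
    rw [nx_lt (i := n - 2) (by omega), nx_last (i := n - 2 + 1) (by omega) (by omega)] at this
    simpa [show n - 2 + 1 = n - 1 by omega] using this
  have down : ∀ (i : ℕ) (h : i + 1 < n), R (⟨i, by omega⟩, true) (⟨i + 1, h⟩, false) := by
    intro i
    induction i with
    | zero =>
      intro h
      have := hstep _ _ (hne (by first | omega | (dsimp only; omega))) wrap
      rw [nx_last (i := n - 1) (by omega) (by omega), nx_lt (i := 0) h] at this
      simpa using this
    | succ i ih =>
      intro h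
      have := hstep _ _ (hne (by first | omega | (dsimp only; omega))) (ih (by omega))
      rwa [nx_lt (i := i) (by omega), nx_lt (i := i + 1) h] at this
  have wrap' : R (⟨n - 1, by omega⟩, true) (⟨0, by omega⟩, true) := by
    have := hstep _ _ (hne (by first | omega | (dsimp only; omega))) (down (n - 2) (by omega))
    rw [nx_lt (i := n - 2) (by omega), nx_last (i := n - 2 + 1) (by omega) (by omega)] at this
    simpa [show n - 2 + 1 = n - 1 by omega] using this
  have near : ∀ (d i : ℕ) (h : i + (d + 1) < n) (s : Bool),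
      R (⟨i, by omega⟩, s) (⟨i + (d + 1), h⟩, !s) := by
    intro d
    induction d with
    | zero =>
      intro i h s
      cases s
      · exact up i h
      · exact down i h
    | succ d ih =>
      intro i h s
      refine hcomp _ _ (⟨i + (d + 1), by omega⟩, !s) (hne (by first | omega | (dsimp only; omega))) (hne (by first | omega | (dsimp only; omega)))
        (hne (by first | omega | (dsimp only; omega))) (ih i (by omega) s) ?_
      simp only [opp, Bool.not_not]
      cases s
      · exact up _ h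
      · exact down _ h
  have mixed : ∀ (i j : Fin n) (s : Bool), i ≠ j → R (i, s) (j, !s) := by
    intro i j s hij
    rcases Nat.lt_or_gt_of_ne (fun e => hij (Fin.ext e) : (i : ℕ) ≠ j) with h | h
    · obtain ⟨d, hd⟩ : ∃ d, (j : ℕ) = (i : ℕ) + (d + 1) := ⟨(j : ℕ) - i - 1, by omega⟩
      have := near d (i : ℕ) (by omega) s
      rwa [show (⟨(i : ℕ) + (d + 1), by omega⟩ : Fin n) = j from Fin.ext hd.symm] at this
    · obtain ⟨d, hd⟩ : ∃ d, (i : ℕ) = (j : ℕ) + (d + 1) := ⟨(i : ℕ) - j - 1, by omega⟩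
      have := near d (j : ℕ) (by omega) (!s)
      rw [Bool.not_not, show (⟨(j : ℕ) + (d + 1), by omega⟩ : Fin n) = i from Fin.ext hd.symm] at this
      exact hsym _ _ (fun e' => hij e'.symm) this
  have zero : ∀ (i : Fin n) (s : Bool), (i : ℕ) ≠ 0 → R (i, s) (⟨0, by omega⟩, s) := by
    intro i s h
    by_cases hi : (i : ℕ) = n - 1
    · rw [show i = ⟨n - 1, by omega⟩ from Fin.ext hi]
      cases s
      · exact wrap
      · exact wrap'
    · refine hcomp _ _ (⟨n - 1, by omega⟩, !s) (fun e => hi (congrArg Fin.val e)) (hne (by first | omega | (dsimp only; omega)))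
        (fun e => h (congrArg Fin.val e)) (mixed _ _ _ fun e => hi (congrArg Fin.val e)) ?_
      simp only [opp, Bool.not_not]
      cases s
      · exact wrap
      · exact wrap'
  rintro ⟨i, s⟩ ⟨j, t⟩ (hij : i ≠ j)
  by_cases hst : t = !s
  · subst hst; exact mixed i j s hij
  obtain rfl : t = s := by cases s <;> cases t <;> simp at hst ⊢
  by_cases hi : (i : ℕ) = 0
  · have hi' : i = ⟨0, by omega⟩ := Fin.ext hi
    rw [hi']
    exact hsym _ _ (fun e => hij (hi'.trans e.symm)) (zero j t fun e => hij (Fin.ext (hi.trans e.symm)))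
  by_cases hj : (j : ℕ) = 0
  · have hj' : j = ⟨0, by omega⟩ := Fin.ext hj
    rw [hj']
    exact zero i t hi
  refine hcomp _ _ (⟨0, by omega⟩, t) (fun e => hi (congrArg Fin.val e))
    (fun e => hj (congrArg Fin.val e).symm) hij (zero i t hi) ?_
  have := mixed ⟨0, by omega⟩ j (!t) (fun e => hj (congrArg Fin.val e).symm)
  rwa [Bool.not_not] at this

/-- A short root line moves along a long root. -/
theorem SRoot.move {a b : Fin n × Bool} (hab : a.1 ≠ b.1) (hR : ∀ c, c.1 = a.1 → Root B H b c)
    {z : V} (hz : z ∈ B.W) (h : SRoot B H a z) : SRoot B H b z := fun t => by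
  have hzt : polar Q (B.v a) (t • z) = 0 := by
    rw [QuadraticMap.polar_smul_right, B.perp a z hz, smul_zero]
  have hgy : (siegel Q (B.v a) (t • z)).1 (B.v b) = B.v b :=
    siegel_fix (B.sing a) hzt (pair_adm B hab)
      (by rw [QuadraticMap.polar_smul_left, perp' B b hz, smul_zero])
  have hbo : polar Q (B.v b) ((1 : F) • B.v (opp a)) = 0 := by
    rw [QuadraticMap.polar_smul_right, pair_adm B (Ne.symm hab : b.1 ≠ (opp a).1), smul_zero]
  have h1 := conj_sub (B.sing b) hbo (h t) hgy (hR (opp a) rfl 1)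
  rw [one_smul, siegel_apply Q (B.sing a) hzt, pair_opp, QuadraticMap.polar_smul_left,
    perp' B (opp a) hz, smul_zero, one_smul, mul_one, zero_add,
    show B.v (opp a) + t • z - Q (t • z) • B.v a - B.v (opp a) =
      t • z + (-Q (t • z)) • B.v a by module,
    siegel_add Q (B.sing b) (by rw [QuadraticMap.polar_smul_right, B.perp b z hz, smul_zero])
      (by rw [QuadraticMap.polar_smul_right, pair_adm B hab.symm, smul_zero])] at h1
  have h2 := mul_mem h1 (inv_mem (hR a rfl (-Q (t • z))))
  rwa [mul_inv_cancel_right] at h2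

/-- All root groups give every Siegel transformation. -/
theorem siegelGroup_le (hn : 1 ≤ n) (hQ : ∀ x, (∀ y, polar Q x y = 0) → x = 0)
    (hR : ∀ a b, a.1 ≠ b.1 → Root B H a b) (hS : ∀ a, ∀ z ∈ B.W, siegel Q (B.v a) z ∈ H) :
    siegelGroup Q ≤ H := by
  have hall : ∀ a z, polar Q (B.v a) z = 0 → siegel Q (B.v a) z ∈ H := by
    intro a z hz
    let P : AddSubmonoid V :=
      { carrier := {y | polar Q (B.v a) y = 0 ∧ siegel Q (B.v a) y ∈ H}
        add_mem' := fun {y y'} hy hy' =>
          ⟨by rw [QuadraticMap.polar_add_right, hy.1, hy'.1, add_zero],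
            by rw [siegel_add Q (B.sing a) hy.1 hy'.1]; exact mul_mem hy.2 hy'.2⟩
        zero_mem' := ⟨by simp, by rw [siegel_zero]; exact one_mem H⟩ }
    suffices z ∈ P from this.2
    rw [show z = (∑ x, polar Q (B.v (opp x)) z • B.v x) +
      (z - ∑ x, polar Q (B.v (opp x)) z • B.v x) by abel]
    refine add_mem (sum_mem fun x _ => ?_) ⟨B.perp a _ (B.decomp z), hS a _ (B.decomp z)⟩
    by_cases h1 : x = opp a
    · subst h1
      rw [opp_opp, hz, zero_smul]
      exact zero_mem P
    by_cases h2 : x = a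
    · subst h2
      exact ⟨by rw [QuadraticMap.polar_smul_right, pair_self, smul_zero],
        by rw [siegel_self (B.sing x)]; exact one_mem H⟩
    have hadm : a.1 ≠ x.1 := by
      intro e
      obtain ⟨i, s⟩ := a
      obtain ⟨j, t⟩ := x
      obtain rfl : i = j := e
      cases s <;> cases t <;> simp [opp] at h1 h2
    exact ⟨by rw [QuadraticMap.polar_smul_right, pair_adm B hadm, smul_zero], hR a x hadm _⟩
  have hgood : ∀ u z, Q u = 0 → polar Q u z = 0 → ∀ x, polar Q (B.v x) u ≠ 0 →
      siegel Q u z ∈ H := by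
    intro u z hu huz x hx
    set c := polar Q (B.v x) u with hc
    have hxu : polar Q (B.v x) (c⁻¹ • u) = 1 := by
      rw [QuadraticMap.polar_smul_right, smul_eq_mul, ← hc, inv_mul_cancel₀ hx]
    have hd : polar Q (B.v x) (B.v (opp x) - c⁻¹ • u) = 0 := by
      rw [QuadraticMap.polar_sub_right, pair_opp, hxu, sub_self]
    have hg := hall x _ hd
    set g := siegel Q (B.v x) (B.v (opp x) - c⁻¹ • u) with hgdef
    have hmove : g.1 (c⁻¹ • u) = B.v (opp x) :=
      siegel_move Q (B.sing x) hxu (pair_opp B x) (by rw [quad_smul, hu, mul_zero, B.sing])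
    have hgu : g.1 u = c • B.v (opp x) := by
      rw [← hmove, map_smul, smul_smul, mul_inv_cancel₀ hx, one_smul]
    have hp : polar Q (B.v (opp x)) (g.1 z) = 0 := by
      have h' := (polar_quadIsom g.2 u z).trans huz
      rw [hgu, QuadraticMap.polar_smul_left, smul_eq_mul] at h'
      exact (mul_eq_zero.1 h').resolve_left hx
    have h1 : g * siegel Q u z * g⁻¹ ∈ H := by
      rw [siegel_conj, hgu, siegel_smul Q (B.sing _) hp]
      exact hall _ _ (by rw [QuadraticMap.polar_smul_right, hp, smul_zero])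
    simpa [mul_assoc] using mul_mem (mul_mem (inv_mem hg) h1) hg
  rw [siegelGroup, Subgroup.closure_le]
  rintro _ ⟨⟨u, z⟩, rfl⟩
  show siegel Q u z ∈ H
  by_cases h : Q u = 0 ∧ polar Q u z = 0
  swap
  · rw [siegel_of_not Q h]; exact one_mem H
  obtain ⟨hu, huz⟩ := h
  by_cases hex : ∃ x, polar Q (B.v x) u ≠ 0
  · obtain ⟨x, hx⟩ := hex
    exact hgood u z hu huz x hx
  simp only [not_exists, not_not] at hex
  by_cases hu0 : u = 0
  · subst hu0
    have : siegel Q (0 : V) z = 1 := by
      refine quadIsoms_ext Q fun y => ?_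
      rw [siegel_apply Q (map_zero Q) (by simp)]
      show _ = y
      simp
    rw [this]; exact one_mem H
  obtain ⟨y, hy⟩ : ∃ y, polar Q u y ≠ 0 := by
    by_contra hcon
    simp only [not_exists, not_not] at hcon
    exact hu0 (hQ u hcon)
  set w' := y - ∑ x, polar Q (B.v (opp x)) y • B.v x with hw'
  have hw'u : polar Q w' u ≠ 0 := by
    rw [hw', sub_eq_add_neg, QuadraticMap.polar_add_left, QuadraticMap.polar_neg_left]
    have : polar Q (∑ x, polar Q (B.v (opp x)) y • B.v x) u = 0 := by
      rw [← QuadraticMap.polarBilin_apply_apply, map_sum, LinearMap.sum_apply]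
      exact Finset.sum_eq_zero fun x _ => by
        rw [QuadraticMap.polarBilin_apply_apply, QuadraticMap.polar_smul_left, hex, smul_zero]
    rw [this, neg_zero, add_zero, QuadraticMap.polar_comm]
    exact hy
  set x0 : Fin n × Bool := (⟨0, hn⟩, false)
  have hwW : w' ∈ B.W := B.decomp y
  have hg : siegel Q (B.v x0) w' ∈ H := hS x0 w' hwW
  have h1 := hgood ((siegel Q (B.v x0) w').1 u) ((siegel Q (B.v x0) w').1 z)
    (((siegel Q (B.v x0) w').2 u).trans hu) ((polar_quadIsom (siegel Q (B.v x0) w').2 u z).trans huz)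
    (opp x0) (by
      rw [siegel_apply Q (B.sing x0) (B.perp x0 w' hwW), hex, mul_zero, add_zero, zero_smul,
        add_zero, QuadraticMap.polar_sub_right, hex, QuadraticMap.polar_smul_right, pair_opp',
        smul_eq_mul, mul_one, zero_sub]
      exact neg_ne_zero.2 hw'u)
  rw [← siegel_conj] at h1
  simpa [mul_assoc] using mul_mem (mul_mem (inv_mem hg) h1) hg

end CfsgLib.KnownB.OrthTwoGen
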