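import Cfsg.Agent.Lib.KnownB.OrthFrame

/-!
Two generators of the group of Siegel transformations: a commuting product of a root element, a torus
element and a small element of order prime to the characteristic, and a negative cycle.
-/

set_option autoImplicit false
set_option linter.unusedSectionVars false
set_option linter.unusedVariables false

namespace CfsgLib.KnownB.OrthTwoGen

open CfsgLib.Geom CfsgLib.Classical
open QuadraticMap (polar)

variable {F V : Type*} [Field F] [AddCommGroup V] [Module F V] {Q : QuadraticForm F V} {n : ℕ}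
variable (B : Frame Q n)

/-! ### Elements -/

theorem siegel_app_root {x y : Fin n × Bool} (hxy : x.1 ≠ y.1) (t : F) (z : V) :
    (siegel Q (B.v x) (t • B.v y)).1 z =
      z + (polar Q (B.v x) z * t) • B.v y - (t * polar Q (B.v y) z) • B.v x := by
  rw [siegel_apply Q (B.sing x) (by rw [QuadraticMap.polar_smul_right, pair_adm B hxy, smul_zero]),
    quad_smul, B.sing y, mul_zero, zero_mul, add_zero, QuadraticMap.polar_smul_left, smul_eq_mul,
    smul_smul]

theorem siegel_app_short {x : Fin n × Bool} {a : V} (ha : a ∈ B.W) (t : F) (z : V) :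
    (siegel Q (B.v x) (t • a)).1 z = z + (polar Q (B.v x) z * t) • a -
      (t * polar Q a z + t * t * Q a * polar Q (B.v x) z) • B.v x := by
  rw [siegel_apply Q (B.sing x) (by rw [QuadraticMap.polar_smul_right, B.perp x a ha, smul_zero]),
    quad_smul, QuadraticMap.polar_smul_left, smul_eq_mul, smul_smul]

/-- The Weyl element of a pair of frame vectors. -/
noncomputable def nroot (x y : Fin n × Bool) (t : F) : quadIsoms Q :=
  siegel Q (B.v x) (t • B.v y) * siegel Q (B.v (opp x)) (t⁻¹ • B.v (opp y)) *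
    siegel Q (B.v x) (t • B.v y)

theorem nroot_mem (x y : Fin n × Bool) (t : F) : nroot B x y t ∈ siegelGroup Q :=
  mul_mem (mul_mem (siegel_mem Q _ _) (siegel_mem Q _ _)) (siegel_mem Q _ _)

theorem nroot_apply {x y : Fin n × Bool} (hxy : x.1 ≠ y.1) {t : F} (ht : t ≠ 0) :
    (nroot B x y t).1 (B.v x) = t⁻¹ • B.v (opp y) ∧
    (nroot B x y t).1 (B.v y) = (-t⁻¹) • B.v (opp x) ∧
    (nroot B x y t).1 (B.v (opp x)) = t • B.v y ∧
    (nroot B x y t).1 (B.v (opp y)) = (-t) • B.v x ∧
    (∀ c : Fin n × Bool, c.1 ≠ x.1 → c.1 ≠ y.1 → (nroot B x y t).1 (B.v c) = B.v c) ∧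
    ∀ z ∈ B.W, (nroot B x y t).1 z = z := by
  have hxy' : (opp x).1 ≠ (opp y).1 := hxy
  have p1 := pair_self B x
  have p2 := pair_self B y
  have p3 := pair_adm B hxy
  have p4 := pair_adm B hxy.symm
  have p5 := pair_opp B x
  have p6 := pair_opp B y
  have p7 := pair_opp' B x
  have p8 := pair_opp' B y
  have p9 := pair_self B (opp x)
  have p10 := pair_self B (opp y)
  have q1 := pair_adm B (show x.1 ≠ (opp y).1 from hxy)
  have q2 := pair_adm B (show y.1 ≠ (opp x).1 from hxy.symm)
  have q3 := pair_adm B (show (opp x).1 ≠ y.1 from hxy)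
  have q4 := pair_adm B (show (opp y).1 ≠ x.1 from hxy.symm)
  have q5 := pair_adm B hxy'
  have q6 := pair_adm B hxy'.symm
  simp only [nroot, isom_apply_mul, siegel_app_root B hxy, siegel_app_root B hxy']
  refine ⟨?_, ?_, ?_, ?_, fun c hx hy => ?_, fun z hz => ?_⟩
  rotate_left 4
  · have r1 := pair_adm B hx.symm
    have r2 := pair_adm B hy.symm
    have r3 := pair_adm B (show (opp x).1 ≠ c.1 from hx.symm)
    have r4 := pair_adm B (show (opp y).1 ≠ c.1 from hy.symm)
    simp [r1, r2, r3, r4]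
  · simp [B.perp _ z hz]
  all_goals
    simp only [QuadraticMap.polar_add_right, QuadraticMap.polar_sub_right,
      QuadraticMap.polar_smul_right, smul_eq_mul, p1, p2, p3, p4, p5, p6, p7, p8, p9, p10, q1, q2, q3,
      q4, q5, q6, mul_zero, zero_mul, mul_one, one_mul, zero_smul, add_zero, sub_zero, zero_add,
      zero_sub, mul_inv_cancel₀ ht, inv_mul_cancel₀ ht]
    match_scalars <;> field_simp <;> ring

/-- A torus element on two indices. -/
noncomputable def tor (x y : Fin n × Bool) (t : F) : quadIsoms Q :=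
  nroot B x y (-t) * nroot B x y 1

theorem tor_mem (x y : Fin n × Bool) (t : F) : tor B x y t ∈ siegelGroup Q :=
  mul_mem (nroot_mem B _ _ _) (nroot_mem B _ _ _)

theorem tor_apply {x y : Fin n × Bool} (hxy : x.1 ≠ y.1) {t : F} (ht : t ≠ 0) :
    (tor B x y t).1 (B.v x) = t • B.v x ∧
    (tor B x y t).1 (B.v y) = t • B.v y ∧
    (tor B x y t).1 (B.v (opp x)) = t⁻¹ • B.v (opp x) ∧
    (tor B x y t).1 (B.v (opp y)) = t⁻¹ • B.v (opp y) ∧
    (∀ c : Fin n × Bool, c.1 ≠ x.1 → c.1 ≠ y.1 → (tor B x y t).1 (B.v c) = B.v c) ∧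
    ∀ z ∈ B.W, (tor B x y t).1 z = z := by
  obtain ⟨a1, a2, a3, a4, a5, a6⟩ := nroot_apply B hxy (one_ne_zero (α := F))
  obtain ⟨b1, b2, b3, b4, b5, b6⟩ := nroot_apply B hxy (neg_ne_zero.2 ht)
  simp only [tor, isom_apply_mul]
  refine ⟨?_, ?_, ?_, ?_, fun c hx hy => ?_, fun z hz => ?_⟩
  · rw [a1, map_smul, b4, inv_one, one_smul, neg_neg]
  · rw [a2, map_smul, b3, inv_one, neg_smul, one_smul, neg_smul, neg_neg]
  · rw [a3, one_smul, b2, inv_neg, neg_neg]
  · rw [a4, neg_smul, one_smul, map_neg, b1, inv_neg, neg_smul, neg_neg]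
  · rw [a5 c hx hy, b5 c hx hy]
  · rw [a6 z hz, b6 z hz]

/-- The reflection in the complement. -/
noncomputable def refl (Q : QuadraticForm F V) (a z : V) : V := z - (polar Q a z / Q a) • a

/-- The Weyl element of a short root. -/
noncomputable def nshort (x : Fin n × Bool) (a : V) : quadIsoms Q :=
  siegel Q (B.v x) ((1 : F) • a) * siegel Q (B.v (opp x)) ((Q a)⁻¹ • a) *
    siegel Q (B.v x) ((1 : F) • a)

theorem nshort_mem (x : Fin n × Bool) (a : V) : nshort B x a ∈ siegelGroup Q :=
  mul_mem (mul_mem (siegel_mem Q _ _) (siegel_mem Q _ _)) (siegel_mem Q _ _)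

theorem nshort_apply {x : Fin n × Bool} {a : V} (ha : a ∈ B.W) (hα : Q a ≠ 0) :
    (nshort B x a).1 (B.v x) = (-(Q a)⁻¹) • B.v (opp x) ∧
    (nshort B x a).1 (B.v (opp x)) = (-Q a) • B.v x ∧
    (∀ c : Fin n × Bool, c.1 ≠ x.1 → (nshort B x a).1 (B.v c) = B.v c) ∧
    ∀ z ∈ B.W, (nshort B x a).1 z = refl Q a z := by
  have p1 := pair_self B x
  have p5 := pair_opp B x
  have p7 := pair_opp' B x
  have p9 := pair_self B (opp x)
  have w1 := B.perp x a ha
  have w2 := B.perp (opp x) a ha
  have w3 := perp' B x ha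
  have w4 := perp' B (opp x) ha
  have haa : polar Q a a = 2 * Q a := polar_self_two Q a
  simp only [nshort, isom_apply_mul, siegel_app_short B ha]
  refine ⟨?_, ?_, fun c hx => ?_, fun z hz => ?_⟩
  rotate_left 2
  · have r1 := pair_adm B hx.symm
    have r2 := pair_adm B (show (opp x).1 ≠ c.1 from hx.symm)
    have r3 := perp' B c ha
    simp [r1, r2, r3]
  · have r1 := B.perp x z hz
    have r2 := B.perp (opp x) z hz
    simp only [refl, QuadraticMap.polar_add_right, QuadraticMap.polar_sub_right,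
      QuadraticMap.polar_smul_right, smul_eq_mul, p1, p5, p7, p9, w1, w2, w3, w4, haa, r1, r2,
      mul_zero, zero_mul, mul_one, one_mul, zero_smul, add_zero, sub_zero, zero_add, zero_sub]
    match_scalars <;> field_simp <;> ring
  all_goals
    simp only [QuadraticMap.polar_add_right, QuadraticMap.polar_sub_right,
      QuadraticMap.polar_smul_right, smul_eq_mul, p1, p5, p7, p9, w1, w2, w3, w4, haa,
      mul_zero, zero_mul, mul_one, one_mul, zero_smul, add_zero, sub_zero, zero_add, zero_sub]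
    match_scalars <;> field_simp <;> ring

/-- A positive cycle on the first `k + 1` indices. -/
theorem exists_cycle : ∀ k : ℕ, k < n → ∃ g ∈ siegelGroup Q, (∀ z ∈ B.W, g.1 z = z) ∧
    ∀ x : Fin n × Bool, g.1 (B.v x) =
      if h : (x.1 : ℕ) < k ∧ (x.1 : ℕ) + 1 < n then B.v (⟨(x.1 : ℕ) + 1, h.2⟩, x.2)
      else if (x.1 : ℕ) = k then ((-1 : F) ^ k) • B.v (⟨0, x.1.pos⟩, x.2) else B.v x := by
  intro k
  induction k with
  | zero =>
    refine fun hk => ⟨1, one_mem _, fun z _ => rfl, fun x => ?_⟩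
    rw [dif_neg (by omega)]
    split_ifs with h
    · rw [pow_zero, one_smul]
      show B.v x = _
      rw [show (⟨0, x.1.pos⟩ : Fin n) = x.1 from Fin.ext h.symm]
    · rfl
  | succ k ih =>
    intro hk
    obtain ⟨g, hg, hgW, hgv⟩ := ih (by omega)
    have hne : ((⟨k, by omega⟩ : Fin n), false).1 ≠ ((⟨k + 1, hk⟩ : Fin n), true).1 :=
      fun e => by simpa using congrArg Fin.val e
    obtain ⟨a1, a2, a3, a4, a5, a6⟩ := nroot_apply B hne (one_ne_zero (α := F))
    refine ⟨g * nroot B _ _ 1, mul_mem hg (nroot_mem B _ _ _),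
      fun z hz => by rw [isom_apply_mul, a6 z hz, hgW z hz], fun x => ?_⟩
    rw [isom_apply_mul]
    simp only [opp, Bool.not_false, Bool.not_true] at a1 a2 a3 a4
    simp only [inv_one, one_smul, neg_smul] at a1 a2 a3 a4
    obtain ⟨i, s⟩ := x
    by_cases h1 : (i : ℕ) = k
    · have hi' : i = ⟨k, by omega⟩ := Fin.ext h1
      simp only [hi']
      rw [dif_pos (show k < k + 1 ∧ k + 1 < n from ⟨by omega, hk⟩)]
      have hfix : ∀ s', g.1 (B.v ((⟨k + 1, hk⟩ : Fin n), s')) = B.v (⟨k + 1, hk⟩, s') := fun s' => by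
        rw [hgv, dif_neg (by simp), if_neg (by simp)]
      cases s
      · rw [a1, hfix]
      · rw [a3, hfix]
    by_cases h2 : (i : ℕ) = k + 1
    · have hi' : i = ⟨k + 1, hk⟩ := Fin.ext h2
      simp only [hi']
      rw [dif_neg (by simp)]
      simp only [if_true]
      have hz : ∀ s', g.1 (B.v ((⟨k, by omega⟩ : Fin n), s')) =
          ((-1 : F) ^ k) • B.v (⟨0, by omega⟩, s') := fun s' => by
        rw [hgv, dif_neg (by simp), if_pos rfl]
      cases s
      · rw [a4, map_neg, hz, pow_succ, mul_neg, mul_one, neg_smul]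
      · rw [a2, map_neg, hz, pow_succ, mul_neg, mul_one, neg_smul]
    rw [a5 (i, s) (fun e => h1 (congrArg Fin.val e)) (fun e => h2 (congrArg Fin.val e)), hgv]
    dsimp only
    by_cases h3 : (i : ℕ) < k
    · rw [dif_pos ⟨h3, by omega⟩, dif_pos ⟨by omega, by omega⟩]
    · rw [dif_neg (by omega), if_neg h1, dif_neg (by omega), if_neg h2]

/-- A negative cycle on all indices, acting by a reflection on the complement. -/
theorem exists_coxeter (hn : 2 ≤ n) {a : V} (ha : a ∈ B.W) (hα : Q a ≠ 0) :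
    ∃ w ∈ siegelGroup Q, ∃ κ : Fin n × Bool → F, (∀ x, κ x ≠ 0) ∧
      (∀ x, w.1 (B.v x) = κ x • B.v (nx x)) ∧
      ∀ z ∈ B.W, refl Q a z ∈ B.W ∧ w.1 z = refl Q a z := by
  obtain ⟨g, hg, hgW, hgv⟩ := exists_cycle B (n - 1) (by omega)
  set x0 : Fin n × Bool := (⟨0, by omega⟩, false) with hx0
  obtain ⟨a1, a2, a3, a4⟩ := nshort_apply B (x := x0) ha hα
  have key : ∀ x, ∃ c : F, c ≠ 0 ∧ (nshort B x0 a * g).1 (B.v x) = c • B.v (nx x) := by
    rintro ⟨i, s⟩
    rw [isom_apply_mul, hgv]
    have := i.2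
    by_cases h : (i : ℕ) + 1 < n
    · rw [dif_pos (by dsimp only; exact ⟨by omega, h⟩), nx_lt (i := (i : ℕ)) h s,
        a3 _ (fun e => by simpa [hx0] using congrArg Fin.val e)]
      exact ⟨1, one_ne_zero, by rw [one_smul]⟩
    · rw [dif_neg (by dsimp only; omega), if_pos (by dsimp only; omega),
        nx_last (i := (i : ℕ)) i.2 (by omega) s, map_smul]
      simp only [hx0, opp, Bool.not_false] at a1 a2
      cases s
      · refine ⟨(-1) ^ (n - 1) * -(Q a)⁻¹, mul_ne_zero (by simp) (by simpa using hα), ?_⟩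
        rw [hx0, a1, smul_smul]
        rfl
      · refine ⟨(-1) ^ (n - 1) * -Q a, mul_ne_zero (by simp) (by simpa using hα), ?_⟩
        rw [hx0, a2, smul_smul]
        rfl
  choose κ hκ hκv using key
  exact ⟨_, mul_mem (nshort_mem B x0 a) hg, κ, hκ, hκv, fun z hz =>
    ⟨sub_mem hz (B.W.smul_mem _ ha), by rw [isom_apply_mul, hgW z hz, a4 z hz]⟩⟩

/-! ### Small facts -/

theorem refl_refl {a : V} (hα : Q a ≠ 0) (z : V) : refl Q a (refl Q a z) = z := by
  simp only [refl, QuadraticMap.polar_sub_right, QuadraticMap.polar_smul_right, smul_eq_mul,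
    polar_self_two Q a]
  match_scalars <;> field_simp <;> ring

theorem pow_fix {g : quadIsoms Q} {z : V} {c : F} (h : g.1 z = c • z) :
    ∀ k : ℕ, (g ^ k).1 z = c ^ k • z := by
  intro k
  induction k with
  | zero => rw [pow_zero, pow_zero, one_smul]; rfl
  | succ k ih => rw [pow_succ, isom_apply_mul, h, map_smul, ih, smul_smul, pow_succ']

theorem siegel_pow {x w : V} (hx : Q x = 0) (hw : polar Q x w = 0) :
    ∀ k : ℕ, siegel Q x w ^ k = siegel Q x ((k : F) • w) := by
  intro k
  induction k with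
  | zero => rw [pow_zero, Nat.cast_zero, zero_smul, siegel_zero]
  | succ k ih =>
    rw [pow_succ, ih, Nat.cast_succ, add_smul, one_smul,
      siegel_add Q hx (by rw [QuadraticMap.polar_smul_right, hw, smul_zero]) hw]

theorem commute_siegel {g : quadIsoms Q} {x w : V} (h1 : g.1 x = x) (h2 : g.1 w = w) :
    Commute g (siegel Q x w) := by
  have := siegel_conj Q g x w
  rw [h1, h2, mul_inv_eq_iff_eq_mul] at this
  exact this

variable [Fintype F]

theorem exists_sq_add (c : F) : ∃ s t : F, s * s + t * t = c := by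
  classical
  by_cases h : ringChar F = 2
  · obtain ⟨s, hs⟩ := FiniteField.isSquare_of_char_two h c
    exact ⟨s, 0, by rw [hs]; simp⟩
  · open Polynomial in
    obtain ⟨a, b, hab⟩ := FiniteField.exists_root_sum_quadratic (R := F) (f := X ^ 2)
      (g := X ^ 2 - C c) (degree_X_pow 2) (degree_X_pow_sub_C (by decide) _)
      (FiniteField.odd_card_of_char_ne_two h)
    simp at hab
    exact ⟨a, b, by linear_combination hab⟩

theorem natCast_pow_mul (M : ℕ) (hM : (M : F) ≠ 0) :
    ((M * M ^ (Fintype.card F - 2) : ℕ) : F) = 1 := by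
  have hq : 2 ≤ Fintype.card F := Fintype.one_lt_card
  rw [← pow_succ', show Fintype.card F - 2 + 1 = Fintype.card F - 1 by omega, Nat.cast_pow,
    FiniteField.pow_card_sub_one_eq_one _ hM]

/-- Splitting a commuting product of a `p`-element and an element of order prime to `p`. -/
theorem split_product {H : Subgroup (quadIsoms Q)} {x w : V} (hx : Q x = 0) (hw : polar Q x w = 0)
    {h : quadIsoms Q} (hcomm : Commute (siegel Q x w) h) {M : ℕ} (hM : (M : F) ≠ 0) (hh : h ^ M = 1)
    (hA : siegel Q x w * h ∈ H) : siegel Q x w ∈ H ∧ h ∈ H := by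
  have h1 : (siegel Q x w * h) ^ (M * M ^ (Fintype.card F - 2)) = siegel Q x w := by
    rw [pow_mul, hcomm.mul_pow, hh, mul_one, ← pow_mul, siegel_pow hx hw, natCast_pow_mul M hM,
      one_smul]
  have hu : siegel Q x w ∈ H := h1 ▸ pow_mem hA _
  exact ⟨hu, by simpa using mul_mem (inv_mem hu) hA⟩

/-- An element of order prime to the characteristic sending `e` to a multiple of `f`. -/
theorem exists_small {x : Fin n × Bool} {a : V} (ha : a ∈ B.W) (hα : Q a ≠ 0) :
    ∃ K ∈ siegelGroup Q, K.1 (B.v x) = (-(Q a)⁻¹) • B.v (opp x) ∧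
      (∀ c : Fin n × Bool, c.1 ≠ x.1 → K.1 (B.v c) = B.v c) ∧
      (∀ g : quadIsoms Q, g.1 (B.v x) = B.v x → g.1 (B.v (opp x)) = B.v (opp x) → g.1 a = a →
        Commute g K) ∧
      ∃ N : ℕ, (N : F) ≠ 0 ∧ K ^ N = 1 := by
  have hcomm : ∀ (g : quadIsoms Q) (t : F), g.1 (B.v x) = B.v x → g.1 (B.v (opp x)) = B.v (opp x) →
      g.1 a = a → Commute g (siegel Q (B.v x) (t • a)) ∧ Commute g (siegel Q (B.v (opp x)) (t • a)) :=
    fun g t h1 h2 h3 =>
      ⟨commute_siegel h1 (by rw [map_smul, h3]), commute_siegel h2 (by rw [map_smul, h3])⟩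
  obtain ⟨a1, a2, a3, a4⟩ := nshort_apply B (x := x) ha hα
  by_cases h2 : (2 : F) = 0
  swap
  · refine ⟨nshort B x a, nshort_mem B x a, a1, a3, fun g g1 g2 g3 =>
      ((hcomm g 1 g1 g2 g3).1.mul_right (hcomm g _ g1 g2 g3).2).mul_right (hcomm g 1 g1 g2 g3).1,
      2, by exact_mod_cast h2, frame_ext B (fun c => ?_) fun z hz => ?_⟩
    · rw [sq, isom_apply_mul]
      show _ = B.v c
      by_cases hc : c.1 = x.1
      · obtain rfl | rfl : c = x ∨ c = opp x := by
          obtain ⟨i, s⟩ := c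
          obtain ⟨j, t⟩ := x
          obtain rfl : i = j := hc
          cases s <;> cases t <;> simp [opp]
        · rw [a1, map_smul, a2, smul_smul, neg_mul_neg, inv_mul_cancel₀ hα, one_smul]
        · rw [a2, map_smul, a1, smul_smul, neg_mul_neg, mul_inv_cancel₀ hα, one_smul]
      · rw [a3 c hc, a3 c hc]
    · rw [sq, isom_apply_mul, a4 z hz, a4 (refl Q a z) (sub_mem hz (B.W.smul_mem _ ha)), refl_refl hα]
      rfl
  set α := Q a with hαdef
  set M := siegel Q (B.v x) ((1 : F) • a) * siegel Q (B.v (opp x)) (α⁻¹ • a) with hM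
  have p1 := pair_self B x
  have p5 := pair_opp B x
  have p7 := pair_opp' B x
  have p9 := pair_self B (opp x)
  have w1 := B.perp x a ha
  have w2 := B.perp (opp x) a ha
  have w3 := perp' B x ha
  have w4 := perp' B (opp x) ha
  have haa : polar Q a a = 0 := by rw [polar_self_two, h2, zero_mul]
  have hneg : ∀ y : V, -y = y := fun y => by
    rw [neg_eq_iff_add_eq_zero, ← two_smul F, h2, zero_smul]
  have hone : (-1 : F) = 1 := by linear_combination -h2
  have happ : ∀ z, M.1 z = (siegel Q (B.v x) ((1 : F) • a)).1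
      ((siegel Q (B.v (opp x)) (α⁻¹ • a)).1 z) := fun z => rfl
  simp only [siegel_app_short B ha, ← hαdef] at happ
  have m1 : M.1 (B.v x) = α⁻¹ • B.v (opp x) := by
    rw [happ]
    simp only [QuadraticMap.polar_add_right, QuadraticMap.polar_sub_right,
      QuadraticMap.polar_smul_right, smul_eq_mul, p1, p5, p7, p9, w1, w2, w3, w4, haa,
      mul_zero, zero_mul, mul_one, one_mul, zero_smul, add_zero, sub_zero, zero_add, zero_sub]
    match_scalars <;> field_simp <;> grind
  have m2 : M.1 (B.v (opp x)) = B.v (opp x) + a + α • B.v x := by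
    rw [happ]
    simp only [QuadraticMap.polar_add_right, QuadraticMap.polar_sub_right,
      QuadraticMap.polar_smul_right, smul_eq_mul, p1, p5, p7, p9, w1, w2, w3, w4, haa,
      mul_zero, zero_mul, mul_one, one_mul, zero_smul, add_zero, sub_zero, zero_add, zero_sub]
    rw [sub_eq_add_neg, hneg, one_smul]
  have m4 : ∀ z ∈ B.W, M.1 z =
      z + (polar Q a z / α) • B.v (opp x) + (polar Q a z / α) • a := by
    intro z hz
    have r1 := B.perp x z hz
    have r2 := B.perp (opp x) z hz
    rw [happ]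
    simp only [QuadraticMap.polar_add_right, QuadraticMap.polar_sub_right,
      QuadraticMap.polar_smul_right, smul_eq_mul, p1, p5, p7, p9, w1, w2, w3, w4, haa, r1, r2,
      mul_zero, zero_mul, mul_one, one_mul, zero_smul, add_zero, sub_zero, zero_add, zero_sub]
    match_scalars <;> field_simp
    all_goals grind
  have m3 : ∀ c : Fin n × Bool, c.1 ≠ x.1 → M.1 (B.v c) = B.v c := fun c hc => by
    have r1 := pair_adm B (Ne.symm hc)
    have r2 := pair_adm B (show (opp x).1 ≠ c.1 from Ne.symm hc)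
    have r3 := perp' B c ha
    rw [happ]
    simp [r1, r2, r3]
  have ma : M.1 a = a := by
    rw [m4 a ha, haa]
    simp
  refine ⟨M, mul_mem (siegel_mem Q _ _) (siegel_mem Q _ _), ?_, m3, fun g g1 g2 g3 =>
    (hcomm g 1 g1 g2 g3).1.mul_right (hcomm g _ g1 g2 g3).2, 3, ?_, frame_ext B (fun c => ?_)
    fun z hz => ?_⟩
  · rw [m1, neg_smul, hneg]
  · rw [Nat.cast_ofNat, show (3 : F) = 2 + 1 by norm_num, h2, zero_add]
    exact one_ne_zero
  · show _ = B.v c
    rw [pow_succ, sq, isom_apply_mul, isom_apply_mul]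
    by_cases hc : c.1 = x.1
    · obtain rfl | rfl : c = x ∨ c = opp x := by
        obtain ⟨i, s⟩ := c
        obtain ⟨j, t⟩ := x
        obtain rfl : i = j := hc
        cases s <;> cases t <;> simp [opp]
      · simp only [m1, m2, ma, map_smul, map_add]
        match_scalars <;> field_simp <;> grind
      · simp only [m1, m2, ma, map_smul, map_add]
        match_scalars <;> field_simp
        all_goals grind
    · rw [m3 c hc, m3 c hc, m3 c hc]
  · show _ = z
    rw [pow_succ, sq, isom_apply_mul, isom_apply_mul]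
    simp only [m4 z hz, m1, m2, ma, map_smul, map_add]
    match_scalars <;> field_simp
    all_goals grind

/-- Scaling one root element by squares gives the whole root group. -/
theorem root_of_scale {H : Subgroup (quadIsoms Q)} {a : Fin n × Bool} {z : V}
    (hz : polar Q (B.v a) z = 0) {ξ : Fˣ} (hξ : ∀ y : Fˣ, y ∈ Subgroup.zpowers ξ)
    (hscale : ∀ t : F, siegel Q (B.v a) (t • z) ∈ H →
      siegel Q (B.v a) (((ξ : F) * (ξ : F) * t) • z) ∈ H)
    {c : F} (hc : c ≠ 0) (h1 : siegel Q (B.v a) (c • z) ∈ H) :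
    ∀ t : F, siegel Q (B.v a) (t • z) ∈ H := by
  have hpow : ∀ k : ℕ, siegel Q (B.v a) (((ξ : F) ^ k * (ξ : F) ^ k * c) • z) ∈ H := by
    intro k
    induction k with
    | zero => simpa using h1
    | succ k ih =>
      have := hscale _ ih
      convert this using 3
      ring
  have hsq : ∀ s : F, siegel Q (B.v a) ((s * s * c) • z) ∈ H := by
    intro s
    rcases eq_or_ne s 0 with hs | hs
    · rw [hs]; simp only [mul_zero, zero_mul, zero_smul, siegel_zero]; exact one_mem H
    obtain ⟨k, hk⟩ : ∃ k : ℕ, ξ ^ k = Units.mk0 s hs :=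
      (mem_powers_iff_mem_zpowers.2 (hξ _) : _)
    have : s = (ξ : F) ^ k := by rw [← Units.val_pow_eq_pow_val, hk, Units.val_mk0]
    rw [this]
    exact hpow k
  intro t
  obtain ⟨s, s', hs⟩ := exists_sq_add (t / c)
  rw [show t = s * s * c + s' * s' * c by rw [← add_mul, hs, div_mul_cancel₀ _ hc], add_smul,
    siegel_add Q (B.sing a) (by rw [QuadraticMap.polar_smul_right, hz, smul_zero])
      (by rw [QuadraticMap.polar_smul_right, hz, smul_zero])]
  exact mul_mem (hsq s) (hsq s')

/-- Two generators when there are at least three hyperbolic pairs. -/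
theorem gen_three (hn : 3 ≤ n) (hQ : ∀ x, (∀ y, polar Q x y = 0) → x = 0) {a v : V} (ha : a ∈ B.W)
    (hv : v ∈ B.W) (hα : Q a ≠ 0) (hspan : ∀ z ∈ B.W, ∃ s t : F, z = s • v + t • refl Q a v) :
    ∃ A ∈ siegelGroup Q, ∃ b ∈ siegelGroup Q, siegelGroup Q ≤ Subgroup.closure {A, b} := by
  classical
  obtain ⟨ξ, hξ⟩ := IsCyclic.exists_generator (α := Fˣ)
  set q := Fintype.card F with hq
  have hq2 : 2 ≤ q := Fintype.one_lt_card
  set e0 : Fin n × Bool := (⟨0, by omega⟩, false) with he0
  set f1 : Fin n × Bool := (⟨1, by omega⟩, true) with hf1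
  set e1 : Fin n × Bool := (⟨1, by omega⟩, false) with he1
  set e2 : Fin n × Bool := (⟨2, by omega⟩, false) with he2
  have h01 : e0.1 ≠ e1.1 := fun e => by simpa [he0, he1] using congrArg Fin.val e
  have h01' : e0.1 ≠ f1.1 := h01
  have h02 : e0.1 ≠ e2.1 := fun e => by simpa [he0, he2] using congrArg Fin.val e
  have h12 : e1.1 ≠ e2.1 := fun e => by simpa [he1, he2] using congrArg Fin.val e
  have hξ0 : (ξ : F) ≠ 0 := ξ.ne_zero
  obtain ⟨t1, t2, t3, t4, t5, t6⟩ := tor_apply B h01 hξ0
  set h := tor B e0 e1 (ξ : F) with hh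
  have hf1' : opp e1 = f1 := rfl
  obtain ⟨K, hK, hK1, hK3, hKc, N, hN, hKN⟩ := exists_small B (x := e2) ha hα
  set k := siegel Q (B.v e2) v with hk
  have hkp : polar Q (B.v e2) v = 0 := B.perp e2 v hv
  have hkfix : ∀ c : Fin n × Bool, c.1 ≠ e2.1 → k.1 (B.v c) = B.v c := fun c hc =>
    siegel_fix (B.sing e2) hkp (pair_adm B hc.symm) (perp' B c hv)
  set g := k * K * k⁻¹ with hg
  have hgfix : ∀ c : Fin n × Bool, c.1 ≠ e2.1 → g.1 (B.v c) = B.v c := fun c hc => by
    rw [hg, isom_apply_mul, isom_apply_mul, inv_fix (hkfix c hc), hK3 c hc, hkfix c hc]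
  have hhk : Commute h k := commute_siegel (t5 e2 h02.symm h12.symm) (t6 v hv)
  have hhg : Commute h g := by
    rw [hg]
    exact (hhk.mul_right (hKc h (t5 e2 h02.symm h12.symm) (t5 (opp e2) h02.symm h12.symm)
      (t6 a ha))).mul_right hhk.inv_right
  have hgN : g ^ N = 1 := by rw [hg, conj_pow, hKN, mul_one, mul_inv_cancel]
  have hhq : h ^ (q - 1) = 1 := by
    have hval : ∀ (z : V) (c : F), c ≠ 0 → h.1 z = c • z → (h ^ (q - 1)).1 z = z := fun z c hc e => by
      rw [pow_fix e, FiniteField.pow_card_sub_one_eq_one c hc, one_smul]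
    refine frame_ext B (fun c => ?_) fun z hz => hval z 1 one_ne_zero (by rw [t6 z hz, one_smul])
    show _ = B.v c
    have hc' : ∀ y : Fin n × Bool, c.1 = y.1 → c = y ∨ c = opp y := fun y e => by
      obtain ⟨i, s⟩ := c
      obtain ⟨j, t⟩ := y
      obtain rfl : i = j := e
      cases s <;> cases t <;> simp [opp]
    by_cases c0 : c.1 = e0.1
    · rcases hc' e0 c0 with rfl | rfl
      · exact hval _ _ hξ0 t1
      · exact hval _ _ (inv_ne_zero hξ0) t3
    by_cases c1 : c.1 = e1.1
    · rcases hc' e1 c1 with rfl | rfl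
      · exact hval _ _ hξ0 t2
      · exact hval _ _ (inv_ne_zero hξ0) t4
    exact hval _ 1 one_ne_zero (by rw [t5 c c0 c1, one_smul])
  have hu : polar Q (B.v e0) (B.v f1) = 0 := pair_adm B h01'
  set u := siegel Q (B.v e0) (B.v f1) with hudef
  have huh : Commute u h := by
    refine Commute.symm ?_
    have hc := siegel_conj Q h (B.v e0) (B.v f1)
    rw [t1, ← hf1', t4, siegel_smul Q (B.sing e0) (by
      rw [QuadraticMap.polar_smul_right, hf1', hu, smul_zero]), smul_smul, mul_inv_cancel₀ hξ0,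
      one_smul, hf1', mul_inv_eq_iff_eq_mul] at hc
    exact hc
  have hug : Commute u g :=
    (commute_siegel (hgfix e0 h02) (hgfix f1 h12)).symm
  obtain ⟨w, hw, κ, hκ, hwv, hwW⟩ := exists_coxeter B (by omega) ha hα
  refine ⟨u * (h * g), mul_mem (siegel_mem Q _ _) (mul_mem (tor_mem B _ _ _)
    (mul_mem (mul_mem (siegel_mem Q _ _) hK) (inv_mem (siegel_mem Q _ _)))), w, hw, ?_⟩
  set H := Subgroup.closure {u * (h * g), w} with hH
  have hAH : u * (h * g) ∈ H := Subgroup.subset_closure (by simp)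
  let C : Cox B H := ⟨w, κ, refl Q a, hκ, hwv, hwW, Subgroup.subset_closure (by simp)⟩
  have hM : (((q - 1) * N : ℕ) : F) ≠ 0 := by
    rw [Nat.cast_mul, Nat.cast_sub (by omega : 1 ≤ q), FiniteField.cast_card_eq_zero, Nat.cast_one,
      zero_sub]
    exact mul_ne_zero (neg_ne_zero.2 one_ne_zero) hN
  obtain ⟨huH, hhgH⟩ := split_product (B.sing e0) hu (huh.mul_right hug) hM (by
    rw [hhg.mul_pow, pow_mul, hhq, one_pow, mul_comm, pow_mul, hgN, one_pow, mul_one]) hAH
  have hU : ∀ a b, a.1 ≠ b.1 → URoot B H a b :=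
    all_of_rules (by omega) _ (fun a b hab h => h.symm hab)
      (fun a b k h1 h2 h3 h4 h5 => h4.comp h1 h2 h3 h5) (fun a b hab h => h.step C hab)
      ⟨1, one_ne_zero, by rw [one_smul]; exact huH⟩
  have hgh01 : ∀ z : Fin n × Bool, z.1 = e0.1 ∨ z.1 = e1.1 → g.1 (B.v z) = B.v z := fun z hz =>
    hgfix z (by rcases hz with e | e <;> rw [e] <;> assumption)
  have hR01 : Root B H e0 e1 := by
    obtain ⟨c, hc, hm⟩ := hU e0 e1 h01
    refine root_of_scale B (pair_adm B h01) hξ (fun t ht => ?_) hc hm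
    have := mul_mem (mul_mem hhgH ht) (inv_mem hhgH)
    have e' : ∀ z, (h * g).1 z = h.1 (g.1 z) := fun z => rfl
    rw [siegel_conj, e', e', map_smul g.1, hgh01 e0 (Or.inl rfl),
      hgh01 e1 (Or.inr rfl), map_smul, t1, t2,
      siegel_smul Q (B.sing e0) (by
        rw [QuadraticMap.polar_smul_right, QuadraticMap.polar_smul_right, pair_adm B h01, smul_zero,
          smul_zero]), smul_smul, smul_smul] at this
    convert this using 3
    ring
  have hR0f : Root B H e0 f1 :=
    (hR01.comp h01 h12 h02 (hU _ e2 h12)).comp h02 (Ne.symm h12) h01' (hU _ f1 (Ne.symm h12))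
  have hR : ∀ a b, a.1 ≠ b.1 → Root B H a b :=
    all_of_rules (by omega) _ (fun a b hab h => h.symm hab)
      (fun a b k h1 h2 h3 h4 h5 => h4.comp h1 h2 h3 h5.unit) (fun a b hab h => h.step C hab) hR0f
  have hhH : h ∈ H := by
    have hn' : ∀ t : F, nroot B e0 e1 t ∈ H := fun t =>
      mul_mem (mul_mem (hR _ _ h01 t) (hR (opp e0) (opp e1) h01 t⁻¹)) (hR _ _ h01 t)
    exact mul_mem (hn' _) (hn' _)
  have hgH : g ∈ H := by simpa using mul_mem (inv_mem hhH) hhgH
  have hS1 : SRoot B H f1 v := by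
    intro t
    have hge : g.1 (B.v e2) = (-(Q a)⁻¹) • (B.v (opp e2) + v - Q v • B.v e2) := by
      rw [hg, isom_apply_mul, isom_apply_mul, inv_fix (siegel_fix (B.sing e2) hkp (pair_self B e2)
        (perp' B e2 hv)), hK1, map_smul, hk, siegel_apply Q (B.sing e2) hkp, pair_opp,
        perp' B (opp e2) hv, one_smul, mul_one, zero_add]
    have h1 := mul_mem (mul_mem hgH (hR f1 e2 h12 (-(Q a) * t))) (inv_mem hgH)
    rw [siegel_conj, map_smul, hgfix f1 h12, hge, smul_smul,
      show -(Q a) * t * -(Q a)⁻¹ = t by field_simp,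
      show t • (B.v (opp e2) + v - Q v • B.v e2) =
        t • v + (t • B.v (opp e2) + (-(t * Q v)) • B.v e2) by module] at h1
    have h12' : f1.1 ≠ e2.1 := h12
    rw [siegel_add Q (B.sing f1) (by rw [QuadraticMap.polar_smul_right, B.perp f1 v hv, smul_zero])
      (by rw [QuadraticMap.polar_add_right, QuadraticMap.polar_smul_right,
        QuadraticMap.polar_smul_right, pair_adm B (show f1.1 ≠ (opp e2).1 from h12'),
        pair_adm B h12', smul_zero, smul_zero, add_zero]),
      siegel_add Q (B.sing f1) (by rw [QuadraticMap.polar_smul_right,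
        pair_adm B (show f1.1 ≠ (opp e2).1 from h12'), smul_zero])
      (by rw [QuadraticMap.polar_smul_right, pair_adm B h12', smul_zero])] at h1
    have h2 := mul_mem h1 (inv_mem (mul_mem (hR f1 (opp e2) h12' t) (hR f1 e2 h12' (-(t * Q v)))))
    rwa [mul_inv_cancel_right] at h2
  have hmove : ∀ {z : V}, z ∈ B.W → ∀ a : Fin n × Bool, SRoot B H a z → ∀ b, SRoot B H b z := by
    intro z hz a hs b
    by_cases hab : a.1 = b.1
    · obtain ⟨k, hk⟩ : ∃ k : Fin n, k ≠ a.1 := by
        by_cases h : a.1 = ⟨0, by omega⟩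
        · exact ⟨⟨1, by omega⟩, fun e => by simpa [h] using congrArg Fin.val e⟩
        · exact ⟨⟨0, by omega⟩, fun e => h e.symm⟩
      have h1 : SRoot B H (k, false) z :=
        hs.move (Ne.symm hk) (fun c hc => hR _ _ (by show k ≠ c.1; rw [hc]; exact hk)) hz
      exact h1.move (by show k ≠ b.1; rw [← hab]; exact hk)
        (fun c hc => hR _ _ (by rw [hc]; exact fun e => hk (e.symm.trans hab.symm))) hz
    · exact hs.move hab (fun c hc => hR _ _ (by rw [hc]; exact fun e => hab e.symm)) hz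
  have hSv : ∀ b, SRoot B H b v := hmove hv f1 hS1
  have hSr : ∀ b, SRoot B H b (refl Q a v) :=
    hmove (hwW v hv).1 (nx f1) (SRoot.step C hv hS1)
  refine siegelGroup_le (by omega) hQ hR fun b z hz => ?_
  obtain ⟨s, t, rfl⟩ := hspan z hz
  rw [siegel_add Q (B.sing b) (by rw [QuadraticMap.polar_smul_right, B.perp b v hv, smul_zero])
    (by rw [QuadraticMap.polar_smul_right, B.perp b _ (hwW v hv).1, smul_zero])]
  exact mul_mem (hSv b s) (hSr b t)

/-- Two generators when the complement is a line, in odd characteristic. -/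
theorem gen_line (hn : 2 ≤ n) (h2 : (2 : F) ≠ 0) (hQ : ∀ x, (∀ y, polar Q x y = 0) → x = 0) {a : V}
    (ha : a ∈ B.W) (hα : Q a ≠ 0) (hspan : ∀ z ∈ B.W, ∃ s : F, z = s • a) :
    ∃ A ∈ siegelGroup Q, ∃ b ∈ siegelGroup Q, siegelGroup Q ≤ Subgroup.closure {A, b} := by
  classical
  obtain ⟨ξ, hξ⟩ := IsCyclic.exists_generator (α := Fˣ)
  set q := Fintype.card F with hq
  have hq2 : 2 ≤ q := Fintype.one_lt_card
  set e0 : Fin n × Bool := (⟨0, by omega⟩, false) with he0
  set e1 : Fin n × Bool := (⟨1, by omega⟩, false) with he1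
  have h01 : e0.1 ≠ e1.1 := fun e => by simpa [he0, he1] using congrArg Fin.val e
  have h01' : (opp e0).1 ≠ e1.1 := h01
  have hξ0 : (ξ : F) ≠ 0 := ξ.ne_zero
  obtain ⟨t1, t2, t3, t4, t5, t6⟩ := tor_apply B h01 hξ0
  obtain ⟨s1, s2, s3, s4, s5, s6⟩ := tor_apply B h01' hξ0
  rw [opp_opp] at s3
  set h := tor B e0 e1 (ξ : F) * tor B (opp e0) e1 (ξ : F) with hh
  have hv0 : h.1 (B.v e0) = B.v e0 := by
    rw [hh, isom_apply_mul, s3, map_smul, t1, smul_smul, inv_mul_cancel₀ hξ0, one_smul]
  have hv0' : h.1 (B.v (opp e0)) = B.v (opp e0) := by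
    rw [hh, isom_apply_mul, s1, map_smul, t3, smul_smul, mul_inv_cancel₀ hξ0, one_smul]
  have hv1 : h.1 (B.v e1) = ((ξ : F) * ξ) • B.v e1 := by
    rw [hh, isom_apply_mul, s2, map_smul, t2, smul_smul]
  have hv1' : h.1 (B.v (opp e1)) = ((ξ : F)⁻¹ * (ξ : F)⁻¹) • B.v (opp e1) := by
    rw [hh, isom_apply_mul, s4, map_smul, t4, smul_smul]
  have hvW : ∀ z ∈ B.W, h.1 z = z := fun z hz => by rw [hh, isom_apply_mul, s6 z hz, t6 z hz]
  have hhq : h ^ (q - 1) = 1 := by
    have hval : ∀ (z : V) (c : F), c ≠ 0 → h.1 z = c • z → (h ^ (q - 1)).1 z = z := fun z c hc e => by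
      rw [pow_fix e, FiniteField.pow_card_sub_one_eq_one c hc, one_smul]
    refine frame_ext B (fun c => ?_) fun z hz => hval z 1 one_ne_zero (by rw [hvW z hz, one_smul])
    show _ = B.v c
    have hc' : ∀ y : Fin n × Bool, c.1 = y.1 → c = y ∨ c = opp y := fun y e => by
      obtain ⟨i, s⟩ := c
      obtain ⟨j, t⟩ := y
      obtain rfl : i = j := e
      cases s <;> cases t <;> simp [opp]
    by_cases c0 : c.1 = e0.1
    · rcases hc' e0 c0 with rfl | rfl
      · exact hval _ 1 one_ne_zero (by rw [hv0, one_smul])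
      · exact hval _ 1 one_ne_zero (by rw [hv0', one_smul])
    by_cases c1 : c.1 = e1.1
    · rcases hc' e1 c1 with rfl | rfl
      · exact hval _ _ (mul_ne_zero hξ0 hξ0) hv1
      · exact hval _ _ (mul_ne_zero (inv_ne_zero hξ0) (inv_ne_zero hξ0)) hv1'
    exact hval _ 1 one_ne_zero (by
      rw [hh, isom_apply_mul, s5 c c0 c1, t5 c c0 c1, one_smul])
  have hu : polar Q (B.v e0) a = 0 := B.perp e0 a ha
  obtain ⟨w, hw, κ, hκ, hwv, hwW⟩ := exists_coxeter B hn ha hα
  refine ⟨siegel Q (B.v e0) a * h, mul_mem (siegel_mem Q _ _)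
    (mul_mem (tor_mem B _ _ _) (tor_mem B _ _ _)), w, hw, ?_⟩
  set H := Subgroup.closure {siegel Q (B.v e0) a * h, w} with hH
  let C : Cox B H := ⟨w, κ, refl Q a, hκ, hwv, hwW, Subgroup.subset_closure (by simp)⟩
  have hM : ((q - 1 : ℕ) : F) ≠ 0 := by
    rw [Nat.cast_sub (by omega : 1 ≤ q), FiniteField.cast_card_eq_zero, Nat.cast_one, zero_sub]
    exact neg_ne_zero.2 one_ne_zero
  obtain ⟨huH, hhH⟩ := split_product (B.sing e0) hu (commute_siegel hv0 (hvW a ha)).symm hM hhq
    (Subgroup.subset_closure (by simp) : siegel Q (B.v e0) a * h ∈ H)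
  have hra : refl Q a a = (-1 : F) • a := by
    rw [refl, polar_self_two, mul_div_cancel_right₀ _ hα]
    module
  have hnx0 : nx e0 = e1 := nx_lt (i := 0) (by omega) false
  have hS1 : SRoot B H e1 a := by
    have h1 := C.conj_mem hu huH
    rw [hnx0, (hwW a ha).2, hra, smul_smul] at h1
    refine root_of_scale B (B.perp e1 a ha) hξ (fun t ht => ?_) (mul_ne_zero (hκ e0) (by simp)) h1
    have := mul_mem (mul_mem hhH ht) (inv_mem hhH)
    rwa [siegel_conj, map_smul, hv1, hvW a ha,
      siegel_smul Q (B.sing e1) (by rw [QuadraticMap.polar_smul_right, B.perp e1 a ha, smul_zero]),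
      smul_smul] at this
  have hstep : ∀ b, SRoot B H b a → SRoot B H (nx b) a := fun b hb t => by
    have := SRoot.step C ha hb (-t)
    rwa [show C.r a = (-1 : F) • a from hra, smul_smul, neg_mul_neg, mul_one] at this
  have upS : ∀ (i : ℕ) (hi : i + 1 < n) (s : Bool), SRoot B H (⟨1, by omega⟩, s) a →
      SRoot B H (⟨i + 1, hi⟩, s) a := by
    intro i
    induction i with
    | zero => exact fun hi s h => h
    | succ i ih =>
      intro hi s h
      have := hstep _ (ih (by omega) s h)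
      rwa [nx_lt (i := i + 1) hi] at this
  have h0T : SRoot B H (⟨0, by omega⟩, true) a := by
    have := hstep _ (upS (n - 2) (by omega) false hS1)
    rwa [nx_last (i := n - 2 + 1) (by omega) (by omega)] at this
  have h1T : SRoot B H (⟨1, by omega⟩, true) a := by
    have := hstep _ h0T
    rwa [nx_lt (i := 0) (by omega)] at this
  have h0F : SRoot B H (⟨0, by omega⟩, false) a := by
    have := hstep _ (upS (n - 2) (by omega) true h1T)
    rwa [nx_last (i := n - 2 + 1) (by omega) (by omega)] at this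
  have hS : ∀ b, SRoot B H b a := by
    rintro ⟨⟨i, hi⟩, s⟩
    cases i with
    | zero => cases s <;> assumption
    | succ i => cases s <;> [exact upS i hi false hS1; exact upS i hi true h1T]
  refine siegelGroup_le (B := B) (show 1 ≤ n by omega) hQ (fun x y hxy => ?_) fun b z hz => ?_
  · refine Root.symm hxy.symm fun t => ?_
    have hd : (-2 : F) * Q a ≠ 0 := mul_ne_zero (neg_ne_zero.2 h2) hα
    set s := t / (-2 * Q a) with hs
    have hsa : polar Q (B.v x) (s • a) = 0 := by
      rw [QuadraticMap.polar_smul_right, B.perp x a ha, smul_zero]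
    have hfix : (siegel Q (B.v x) (s • a)).1 (B.v y) = B.v y :=
      siegel_fix (B.sing x) hsa (pair_adm B hxy)
        (by rw [QuadraticMap.polar_smul_left, perp' B y ha, smul_zero])
    have h1 := conj_sub (B.sing y) (by rw [QuadraticMap.polar_smul_right, B.perp y a ha, smul_zero])
      (hS x s) hfix (hS y 1)
    rw [one_smul, siegel_apply Q (B.sing x) hsa, B.perp x a ha, QuadraticMap.polar_smul_left,
      polar_self_two, zero_smul, add_zero, mul_zero, add_zero, smul_eq_mul] at h1
    convert h1 using 2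
    rw [hs]
    match_scalars <;> field_simp <;> ring
  · obtain ⟨s, rfl⟩ := hspan z hz
    exact hS b s

end CfsgLib.KnownB.OrthTwoGen
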