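import Cfsg.Agent.Lib.KnownB.OrthTwoGen
import Cfsg.Agent.Lib.Classical.OrthOmega

/-!
The standard orthogonal groups of dimension at least five have two generators.
-/

set_option autoImplicit false
set_option linter.unusedSectionVars false

namespace CfsgLib.KnownB.OrthTwoGen

open CfsgLib.Geom CfsgLib.Classical
open QuadraticMap (polar)

variable {F : Type*} [Field F] {ι : Type} [Fintype ι] [DecidableEq ι] {n : ℕ}

/-- A frame of coordinate vectors. -/
noncomputable def coordFrame (Q : QuadraticForm F (ι → F)) (e : Fin n × Bool → ι)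
    (he : Function.Injective e) (hs : ∀ x, Q (Pi.single (e x) 1) = 0)
    (hp : ∀ x z, polar Q (Pi.single (e x) 1) z = z (e (opp x))) : Frame Q n where
  v x := Pi.single (e x) 1
  W := ⨅ x, LinearMap.ker (LinearMap.proj (e x) : (ι → F) →ₗ[F] F)
  sing := hs
  pair x y := by
    rw [hp, Pi.single_apply]
    simp only [he.eq_iff, eq_comm]
  perp x z hz := by
    rw [hp]
    exact (Submodule.mem_iInf _).1 hz (opp x)
  decomp z := by
    refine (Submodule.mem_iInf _).2 fun y => ?_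
    rw [LinearMap.mem_ker, LinearMap.proj_apply, Pi.sub_apply, Finset.sum_apply,
      Finset.sum_eq_single y]
    · rw [Pi.smul_apply, hp, opp_opp, Pi.single_eq_same, smul_eq_mul, mul_one, sub_self]
    · intro x _ hx
      rw [Pi.smul_apply, Pi.single_eq_of_ne (fun h => hx (he h).symm), smul_zero]
    · simp

theorem coordFrame_mem {Q : QuadraticForm F (ι → F)} {e : Fin n × Bool → ι} {he hs hp} {z : ι → F}
    (hz : z ∈ (coordFrame Q e he hs hp).W) (x : Fin n × Bool) : z (e x) = 0 :=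
  (Submodule.mem_iInf _).1 hz x

/-- Two generators of the Siegel group give two generators of `PΩ`. -/
theorem pomega_of_siegel [Finite F] (Q : QuadraticForm F (ι → F))
    (hQ : ∀ x, (∀ y, polar Q x y = 0) → x = 0) (h5 : 5 ≤ Fintype.card ι)
    (h : ∃ A ∈ siegelGroup Q, ∃ b ∈ siegelGroup Q, siegelGroup Q ≤ Subgroup.closure {A, b}) :
    ∃ g k : Cfsg.POmega F (⇑Q), Subgroup.closure ({g, k} : Set (Cfsg.POmega F (⇑Q))) = ⊤ := by
  obtain ⟨A, hA, b, hb, hle⟩ := h
  have hc : commutator (quadIsoms Q) = siegelGroup Q :=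
    commutator_eq_siegelGroup Q hQ (by rwa [Module.finrank_fintype_fun_eq_card])
  rw [← hc] at hA hb hle
  have htop : Subgroup.closure {(⟨A, hA⟩ : commutator (quadIsoms Q)), ⟨b, hb⟩} = ⊤ := by
    refine Subgroup.map_injective (commutator (quadIsoms Q)).subtype_injective
      (le_antisymm (Subgroup.map_mono le_top) ?_)
    rw [MonoidHom.map_closure, Set.image_pair, ← MonoidHom.range_eq_map, Subgroup.range_subtype]
    exact hle
  refine ⟨QuotientGroup.mk' _ (omegaEquiv Q ⟨A, hA⟩), QuotientGroup.mk' _ (omegaEquiv Q ⟨b, hb⟩), ?_⟩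
  have h := congrArg (Subgroup.map ((QuotientGroup.mk'
    (Subgroup.center ↥(Cfsg.Omega F (⇑Q)))).comp (omegaEquiv Q).toMonoidHom)) htop
  rw [MonoidHom.map_closure, Set.image_pair] at h
  exact h.trans (Subgroup.map_top_of_surjective _
    ((QuotientGroup.mk'_surjective _).comp (omegaEquiv Q).surjective))

variable [Fintype F]

/-- The index map of the hyperbolic coordinates in odd dimension. -/
def oddIdx {m : ℕ} (x : Fin m × Bool) : Unit ⊕ (Fin m ⊕ Fin m) :=
  .inr (if x.2 then .inr x.1 else .inl x.1)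

theorem pomega_odd_two_gen (hodd : Odd (Fintype.card F)) (m : ℕ) (hm : 2 ≤ m) :
    ∃ g k : Cfsg.POmega F (Cfsg.quadFormOdd m F),
      Subgroup.closure ({g, k} : Set (Cfsg.POmega F (Cfsg.quadFormOdd m F))) = ⊤ := by
  have h2 : (2 : F) ≠ 0 := two_ne_zero_of_odd hodd
  have hQ := qfOdd_sep (F := F) h2 m
  rw [← qfOdd_coe]
  refine pomega_of_siegel _ hQ (by simp; omega) ?_
  let B := coordFrame (qfOdd m F) (oddIdx (m := m))
    (by rintro ⟨i, _ | _⟩ ⟨j, _ | _⟩ h <;> simpa [oddIdx] using h)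
    (by rintro ⟨i, _ | _⟩ <;> simp [oddIdx, qfOdd_apply, Cfsg.quadFormOdd, Pi.single_apply])
    (by rintro ⟨i, _ | _⟩ z <;> simp [oddIdx, opp, polar_qfOdd, Pi.single_apply])
  refine gen_line B hm h2 hQ (a := Pi.single (.inl ()) 1) ((Submodule.mem_iInf _).2 fun x => ?_) ?_ ?_
  · simp [oddIdx]
  · simp [qfOdd_apply, Cfsg.quadFormOdd, Pi.single_apply]
  · intro z hz
    refine ⟨z (.inl ()), funext fun i => ?_⟩
    rcases i with ⟨⟩ | i | i
    · simp
    · simpa [oddIdx] using coordFrame_mem hz (i, false)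
    · simpa [oddIdx] using coordFrame_mem hz (i, true)

/-- The index map of all but the last hyperbolic pair. -/
def plusIdx {k : ℕ} (x : Fin k × Bool) : Fin (k + 1) ⊕ Fin (k + 1) :=
  if x.2 then .inr x.1.castSucc else .inl x.1.castSucc

theorem pomega_plus_two_gen (m : ℕ) (hm : 4 ≤ m) :
    ∃ g k : Cfsg.POmega F (Cfsg.quadFormPlus m F),
      Subgroup.closure ({g, k} : Set (Cfsg.POmega F (Cfsg.quadFormPlus m F))) = ⊤ := by
  obtain ⟨k, rfl⟩ : ∃ k, m = k + 1 := ⟨m - 1, by omega⟩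
  have hQ := qfPlus_sep (F := F) (k + 1)
  rw [← qfPlus_coe]
  refine pomega_of_siegel _ hQ (by simp; omega) ?_
  let B := coordFrame (qfPlus (k + 1) F) (plusIdx (k := k))
    (by rintro ⟨i, _ | _⟩ ⟨j, _ | _⟩ h <;> simpa [plusIdx] using h)
    (by rintro ⟨i, _ | _⟩ <;> simp [plusIdx, qfPlus_apply, Cfsg.quadFormPlus, Pi.single_apply])
    (by rintro ⟨i, _ | _⟩ z <;> simp [plusIdx, opp, polar_qfPlus, Pi.single_apply])
  set l := Fin.last k
  set a : Fin (k + 1) ⊕ Fin (k + 1) → F := Pi.single (.inl l) 1 + Pi.single (.inr l) 1 with ha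
  set v : Fin (k + 1) ⊕ Fin (k + 1) → F := Pi.single (.inl l) 1 with hv
  have hl : ∀ i : Fin k, i.castSucc ≠ l := fun i => (Fin.castSucc_lt_last i).ne
  have hQa : qfPlus (k + 1) F a = 1 := by
    simp [ha, hv, qfPlus_apply, Cfsg.quadFormPlus, Pi.single_apply]
  have hr : refl (qfPlus (k + 1) F) a v = -Pi.single (.inr l) 1 := by
    have hp : polar (qfPlus (k + 1) F) a v = 1 := by
      rw [polar_qfPlus]
      simp [ha, hv, Pi.single_apply]
    rw [refl, hQa, hp, ha, hv]
    module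
  refine gen_three B (by omega) hQ (a := a) (v := v) ((Submodule.mem_iInf _).2 fun x => ?_)
    ((Submodule.mem_iInf _).2 fun x => ?_) (by rw [hQa]; exact one_ne_zero) fun z hz => ?_
  · rcases x with ⟨i, _ | _⟩ <;> simp [ha, hv, plusIdx, Pi.single_apply, hl]
  · rcases x with ⟨i, _ | _⟩ <;> simp [hv, plusIdx, Pi.single_apply, hl]
  refine ⟨z (.inl l), -z (.inr l), funext fun i => ?_⟩
  rw [hr]
  rcases i with i | i <;> refine Fin.lastCases ?_ (fun i => ?_) i
  · simp [hv, l]
  · simpa [hv, plusIdx, Pi.single_apply, hl] using coordFrame_mem hz (i, false)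
  · simp [hv, l]
  · simpa [hv, plusIdx, Pi.single_apply, hl] using coordFrame_mem hz (i, true)

/-- The index map of the hyperbolic coordinates of minus type. -/
def minusIdx {k : ℕ} (x : Fin k × Bool) : (Fin k ⊕ Fin k) ⊕ Fin 2 :=
  .inl (if x.2 then .inr x.1 else .inl x.1)

theorem pomega_minus_two_gen (k : ℕ) (hk : 3 ≤ k) (a b : F)
    (hab : ∀ z₁ z₂ : F, z₁ ^ 2 + a * z₁ * z₂ + b * z₂ ^ 2 = 0 → z₁ = 0 ∧ z₂ = 0) :
    ∃ g h : Cfsg.POmega F (Cfsg.quadFormMinus k F a b),
      Subgroup.closure ({g, h} : Set (Cfsg.POmega F (Cfsg.quadFormMinus k F a b))) = ⊤ := by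
  have hQ := qfMinus_sep (F := F) k hab
  rw [← qfMinus_coe]
  refine pomega_of_siegel _ hQ (by simp; omega) ?_
  let B := coordFrame (qfMinus k F a b) (minusIdx (k := k))
    (by rintro ⟨i, _ | _⟩ ⟨j, _ | _⟩ h <;> simpa [minusIdx] using h)
    (by rintro ⟨i, _ | _⟩ <;> simp [minusIdx, qfMinus_apply, Cfsg.quadFormMinus, Pi.single_apply])
    (by rintro ⟨i, _ | _⟩ z <;> simp [minusIdx, opp, polar_qfMinus, Pi.single_apply])
  have hW : ∀ z : (Fin k ⊕ Fin k) ⊕ Fin 2 → F, (∀ i, z (.inl i) = 0) → z ∈ B.W := fun z hz =>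
    (Submodule.mem_iInf _).2 fun x => hz _
  set A : (Fin k ⊕ Fin k) ⊕ Fin 2 → F := Pi.single (.inr 0) 1 with hA
  set E : (Fin k ⊕ Fin k) ⊕ Fin 2 → F := Pi.single (.inr 1) 1 with hE
  have hQA : qfMinus k F a b A = 1 := by
    simp [hA, qfMinus_apply, Cfsg.quadFormMinus]
  have hpA : polar (qfMinus k F a b) A A = 2 := by rw [polar_qfMinus]; simp [hA]
  have hpE : polar (qfMinus k F a b) A E = a := by rw [polar_qfMinus]; simp [hA, hE]
  have hz2 : ∀ z ∈ B.W, z = z (.inr 0) • A + z (.inr 1) • E := fun z hz => funext fun i => by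
    rcases i with (i | i) | i
    · simpa [hA, hE, minusIdx] using coordFrame_mem hz (i, false)
    · simpa [hA, hE, minusIdx] using coordFrame_mem hz (i, true)
    · fin_cases i <;> simp [hA, hE]
  have hAW : A ∈ B.W := hW _ fun i => by simp [hA]
  have hEW : E ∈ B.W := hW _ fun i => by simp [hE]
  by_cases ha : a = 0
  · have h2 : (2 : F) ≠ 0 := (two_ne_zero_or_ne_zero hab).resolve_right (not_not.2 ha)
    refine gen_three B hk hQ hAW (add_mem hAW hEW) (by rw [hQA]; exact one_ne_zero) fun z hz =>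
      ⟨(z (.inr 0) + z (.inr 1)) / 2, (z (.inr 1) - z (.inr 0)) / 2, ?_⟩
    conv_lhs => rw [hz2 z hz]
    rw [refl, hQA, QuadraticMap.polar_add_right, hpA, hpE, ha]
    match_scalars <;> field_simp <;> ring
  · refine gen_three B hk hQ hAW hEW (by rw [hQA]; exact one_ne_zero) fun z hz =>
      ⟨z (.inr 1) + z (.inr 0) / a, -(z (.inr 0) / a), ?_⟩
    conv_lhs => rw [hz2 z hz]
    rw [refl, hQA, hpE]
    match_scalars <;> field_simp <;> ring

end CfsgLib.KnownB.OrthTwoGen
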