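import Cfsg.Agent.Lib.KnownB.SSMatrix
import Mathlib.FieldTheory.Finite.Extension
import Mathlib.Algebra.Polynomial.SpecificDegree

/-!
# Every non-identity element of `PSL₃(q)` is a product of two conjugates of one semisimple element

The class is that of the polynomial `(X - r)(X² - uX + 1/r)`, with the second factor irreducible,
`u ≠ 0` and `r + u ≠ ru + 1/r`.  A non-central element is cyclic or a rank-one perturbation of a
scalar; in both cases a factorisation is written down.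
-/

set_option autoImplicit false
set_option linter.unusedSimpArgs false

namespace CfsgLib.KnownB.PSL3Cover

open Polynomial Matrix
open scoped MatrixGroups

universe u

variable {F : Type u} [Field F]

local notation "M3" => Matrix (Fin 3) (Fin 3) F
local notation "SL3" => Matrix.SpecialLinearGroup (Fin 3) F

/-- The monic cubic with constant term `-1`. -/
noncomputable def cubic (s t : F) : F[X] :=
  X ^ 3 - Polynomial.C s * X ^ 2 + Polynomial.C t * X - 1

/-- The sum of the principal 2-minors. -/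
def sigma2 (A : M3) : F :=
  A 0 0 * A 1 1 - A 0 1 * A 1 0 + (A 0 0 * A 2 2 - A 0 2 * A 2 0) + (A 1 1 * A 2 2 - A 1 2 * A 2 1)

theorem charpoly_three (A : M3) : A.charpoly = X ^ 3 - Polynomial.C A.trace * X ^ 2 +
    Polynomial.C (sigma2 A) * X - Polynomial.C A.det := by
  rw [Matrix.charpoly, Matrix.det_fin_three, Matrix.det_fin_three, Matrix.trace_fin_three, sigma2]
  simp [Matrix.charmatrix_apply]
  ring

theorem charpoly_eq_cubic {A : M3} {s t : F} (hs : A.trace = s) (ht : sigma2 A = t)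
    (hd : A.det = 1) : A.charpoly = cubic s t := by
  rw [charpoly_three, hs, ht, hd, map_one, cubic]

/-- Completing a nonzero row to an invertible matrix. -/
theorem exists_row (φ : Fin 3 → F) (hφ : φ ≠ 0) :
    ∃ Q : GL (Fin 3) F, ∀ j, (Q : M3) 0 j = φ j := by
  obtain ⟨i, hi⟩ := Function.ne_iff.mp hφ
  fin_cases i
  · let Q : M3 := !![φ 0, φ 1, φ 2; 0, 1, 0; 0, 0, 1]
    refine ⟨Matrix.GeneralLinearGroup.mkOfDetNeZero Q (by simpa [Q, Matrix.det_fin_three] using hi),
      fun j => ?_⟩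
    fin_cases j <;> simp [Q]
  · let Q : M3 := !![φ 0, φ 1, φ 2; 1, 0, 0; 0, 0, 1]
    refine ⟨Matrix.GeneralLinearGroup.mkOfDetNeZero Q (by simpa [Q, Matrix.det_fin_three] using hi),
      fun j => ?_⟩
    fin_cases j <;> simp [Q]
  · let Q : M3 := !![φ 0, φ 1, φ 2; 1, 0, 0; 0, 1, 0]
    refine ⟨Matrix.GeneralLinearGroup.mkOfDetNeZero Q (by simpa [Q, Matrix.det_fin_three] using hi),
      fun j => ?_⟩
    fin_cases j <;> simp [Q]

/-- An invertible matrix with given values on a row vector and given middle column. -/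
theorem exists_adapted (w φ : Fin 3 → F) (hw : w ≠ 0) (hφ : φ ≠ 0) (c₁ c₃ : F)
    (h : φ ⬝ᵥ w ≠ 0 ∨ c₃ ≠ 0) :
    ∃ P : GL (Fin 3) F, (P : M3) *ᵥ ![0, 1, 0] = w ∧
      φ ᵥ* (P : M3) = ![c₁, φ ⬝ᵥ w, c₃] := by
  obtain ⟨Q, hQ⟩ := exists_row φ hφ
  set v := (Q : M3) *ᵥ w with hv
  have hv0 : v 0 = φ ⬝ᵥ w := by
    rw [hv, Matrix.mulVec, show (fun j => (Q : M3) 0 j) = φ from funext hQ]
  obtain ⟨R, hR1, hR0⟩ : ∃ R : GL (Fin 3) F, (R : M3) *ᵥ ![0, 1, 0] = v ∧
      (fun j => (R : M3) 0 j) = ![c₁, v 0, c₃] := by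
    have hvne : v ≠ 0 := fun h0 => hw (by
      have := congrArg (((Q⁻¹ : GL (Fin 3) F) : M3) *ᵥ ·) h0
      simpa [hv, Matrix.mulVec_mulVec, ← Units.val_mul] using this)
    by_cases hc : v 0 = 0
    · have h3 : c₃ ≠ 0 := h.resolve_left (by rw [← hv0]; exact not_not.mpr hc)
      by_cases h2 : v 2 = 0
      · have h1 : v 1 ≠ 0 := fun h1 => hvne (funext fun i => by fin_cases i <;> assumption)
        let R : M3 := !![c₁, v 0, c₃; 0, v 1, 0; 1, v 2, 0]
        refine ⟨Matrix.GeneralLinearGroup.mkOfDetNeZero R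
          (by simp [R, Matrix.det_fin_three, hc, h2, h3, h1]), ?_, ?_⟩
        · funext i; fin_cases i <;> simp [R, Matrix.mulVec, dotProduct, Fin.sum_univ_three]
        · funext i; fin_cases i <;> simp [R]
      · let R : M3 := !![c₁, v 0, c₃; 1, v 1, 0; 0, v 2, 0]
        refine ⟨Matrix.GeneralLinearGroup.mkOfDetNeZero R
          (by simp [R, Matrix.det_fin_three, hc, h2, h3]), ?_, ?_⟩
        · funext i; fin_cases i <;> simp [R, Matrix.mulVec, dotProduct, Fin.sum_univ_three]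
        · funext i; fin_cases i <;> simp [R]
    · let R : M3 := !![c₁, v 0, c₃; c₁ / v 0 * v 1 + 1, v 1, c₃ / v 0 * v 1;
        c₁ / v 0 * v 2, v 2, c₃ / v 0 * v 2 + 1]
      refine ⟨Matrix.GeneralLinearGroup.mkOfDetNeZero R (by
          have : R.det = -v 0 := by
            simp [R, Matrix.det_fin_three]
            field_simp
            ring
          rw [this]; exact neg_ne_zero.mpr hc), ?_, ?_⟩
      · funext i; fin_cases i <;> simp [R, Matrix.mulVec, dotProduct, Fin.sum_univ_three]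
      · funext i; fin_cases i <;> simp [R]
  refine ⟨Q⁻¹ * R, ?_, ?_⟩
  · rw [Units.val_mul, ← Matrix.mulVec_mulVec, hR1, hv, Matrix.mulVec_mulVec, ← Units.val_mul,
      inv_mul_cancel, Units.val_one, Matrix.one_mulVec]
  · have hrow : φ = ![1, 0, 0] ᵥ* (Q : M3) := by
      funext j; simp [Matrix.vecMul, dotProduct, Fin.sum_univ_three, hQ]
    rw [← hv0, ← hR0]
    conv_lhs => rw [hrow]
    rw [Matrix.vecMul_vecMul, ← Units.val_mul, mul_inv_cancel_left]
    funext j
    simp [Matrix.vecMul, dotProduct, Fin.sum_univ_three]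

/-- A factorisation: `A = D⁻¹ E` with `D` in the class of `f̃` and `E` in that of `f`. -/
def Good (s t : F) (A : M3) : Prop :=
  ∃ D : M3, D.charpoly = cubic t s ∧ (D * A).charpoly = cubic s t

theorem good_conj {s t : F} {A : M3} (h : Good s t A) (P : GL (Fin 3) F) :
    Good s t ((P : M3) * A * ((P⁻¹ : GL (Fin 3) F) : M3)) := by
  obtain ⟨D, h1, h2⟩ := h
  refine ⟨(P : M3) * D * ((P⁻¹ : GL (Fin 3) F) : M3), ?_, ?_⟩
  · rw [Matrix.coe_units_inv, Matrix.charpoly_units_conj, h1]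
  · have : (P : M3) * D * ((P⁻¹ : GL (Fin 3) F) : M3) * ((P : M3) * A * ((P⁻¹ : GL (Fin 3) F) : M3)) =
        (P : M3) * (D * A) * ((P⁻¹ : GL (Fin 3) F) : M3) := by
      simp only [mul_assoc]
      rw [← mul_assoc ((P⁻¹ : GL (Fin 3) F) : M3) (P : M3), ← Units.val_mul, inv_mul_cancel,
        Units.val_one, one_mul]
    rw [this, Matrix.coe_units_inv, Matrix.charpoly_units_conj, h2]

theorem good_rankOne {s t : F} (a : F) (w φ : Fin 3 → F) (hw : w ≠ 0) (hφ : φ ≠ 0)
    (hdet : (a • (1 : M3) + Matrix.vecMulVec w φ).det = 1)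
    (h : φ ⬝ᵥ w ≠ 0 ∨ s ≠ a * t) : Good s t (a • (1 : M3) + Matrix.vecMulVec w φ) := by
  obtain ⟨c, hc⟩ : ∃ c, φ ⬝ᵥ w = c := ⟨_, rfl⟩
  rw [hc] at h
  obtain ⟨P, hP1, hP2⟩ := exists_adapted w φ hw hφ ((a + c) * (s - a * t)) (s - a * t)
    (hc ▸ h.imp id sub_ne_zero.mpr)
  rw [hc] at hP2
  set A' : M3 := !![a, 0, 0; (a + c) * (s - a * t), a + c, s - a * t; 0, 0, a] with hA'
  have hA : a • (1 : M3) + Matrix.vecMulVec w φ = (P : M3) * A' * ((P⁻¹ : GL (Fin 3) F) : M3) := by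
    have e : A' = a • (1 : M3) + Matrix.vecMulVec ![0, 1, 0] ![(a + c) * (s - a * t), c, s - a * t] := by
      ext i j; fin_cases i <;> fin_cases j <;> simp [hA', Matrix.vecMulVec_apply]
    have e2 : φ = ![(a + c) * (s - a * t), c, s - a * t] ᵥ* ((P⁻¹ : GL (Fin 3) F) : M3) := by
      rw [← hP2, Matrix.vecMul_vecMul, ← Units.val_mul, mul_inv_cancel, Units.val_one,
        Matrix.vecMul_one]
    rw [e, Matrix.mul_add, Matrix.add_mul, Matrix.mul_vecMulVec, Matrix.vecMulVec_mul, hP1, ← e2,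
      Matrix.mul_smul, Matrix.smul_mul, mul_one, ← Units.val_mul, mul_inv_cancel, Units.val_one]
  have hab : a * a * (a + c) = 1 := by
    rw [hA, Matrix.det_mul, Matrix.det_mul, mul_comm, ← mul_assoc, ← Matrix.det_mul, ← Units.val_mul,
      inv_mul_cancel, Units.val_one, Matrix.det_one, one_mul] at hdet
    rw [← hdet, hA']
    simp [Matrix.det_fin_three]
    ring
  rw [hA]
  refine good_conj ⟨!![0, 0, 1; 1, 0, -s; 0, 1, t], ?_, ?_⟩ P
  · apply charpoly_eq_cubic <;>
      simp [Matrix.trace_fin_three, sigma2, Matrix.det_fin_three]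
  · apply charpoly_eq_cubic
    · simp [hA', Matrix.trace_fin_three, Matrix.mul_apply, Fin.sum_univ_three]
      ring
    · simp [hA', sigma2, Matrix.mul_apply, Fin.sum_univ_three]
      linear_combination t * hab
    · rw [Matrix.det_mul]
      simp [hA', Matrix.det_fin_three]
      linear_combination hab

theorem good_companion {r u : F} (hr : r ≠ 0) (hu : u ≠ 0) (al be : F) :
    Good (r + u) (r * u + r⁻¹) (!![0, 0, 1; 1, 0, -be; 0, 1, al] : M3) := by
  obtain ⟨s, hs⟩ : ∃ s, s = r + u := ⟨_, rfl⟩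
  obtain ⟨t, ht⟩ : ∃ t, t = r * u + r⁻¹ := ⟨_, rfl⟩
  rw [← hs, ← ht]
  obtain ⟨d2, hd2⟩ : ∃ d2, d2 = ((-r) * (s + r) - r⁻¹ - t) / (r * u) := ⟨_, rfl⟩
  obtain ⟨c3, hc3⟩ : ∃ c3, c3 = r * u := ⟨_, rfl⟩
  have hd : d2 * c3 = (-r) * (s + r) - r⁻¹ - t := by
    rw [hd2, hc3, div_mul_cancel₀ _ (mul_ne_zero hr hu)]
  refine ⟨!![r⁻¹, 0, 0; d2 - al * (-r), 0, -r; be + (s + r) - al * c3, 1, c3], ?_, ?_⟩
  · apply charpoly_eq_cubic
    · simp [Matrix.trace_fin_three]; rw [hc3, ht]; ring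
    · simp [sigma2]; rw [hc3, hs]; field_simp; ring
    · simp [Matrix.det_fin_three, hr]
  · have e : !![r⁻¹, 0, 0; d2 - al * (-r), 0, -r; be + (s + r) - al * c3, 1, c3] *
        (!![0, 0, 1; 1, 0, -be; 0, 1, al] : M3) = !![0, 0, r⁻¹; 0, -r, d2; 1, c3, s + r] := by
      ext i j; fin_cases i <;> fin_cases j <;> simp [Matrix.mul_apply, Fin.sum_univ_three] <;> ring
    rw [e]
    apply charpoly_eq_cubic
    · simp [Matrix.trace_fin_three]
    · simp [sigma2]; linear_combination -hd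
    · simp [Matrix.det_fin_three, hr]

theorem det_scalar_add (a : F) (w φ : Fin 3 → F) :
    (a • (1 : M3) + Matrix.vecMulVec w φ).det = a ^ 3 + a ^ 2 * (φ ⬝ᵥ w) := by
  simp [Matrix.det_fin_three, Matrix.vecMulVec_apply, dotProduct, Fin.sum_univ_three]
  ring

theorem exists_basis (v0 v1 v2 : Fin 3 → F) (h : LinearIndependent F ![v0, v1, v2]) :
    ∃ P : GL (Fin 3) F, (P : M3) *ᵥ ![1, 0, 0] = v0 ∧ (P : M3) *ᵥ ![0, 1, 0] = v1 ∧
      (P : M3) *ᵥ ![0, 0, 1] = v2 := by
  let P : M3 := (Matrix.of ![v0, v1, v2])ᵀ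
  have hu : IsUnit P := Matrix.linearIndependent_cols_iff_isUnit.mp h
  refine ⟨hu.unit, ?_, ?_, ?_⟩ <;>
    (funext i; simp [P, Matrix.mulVec, dotProduct, Fin.sum_univ_three, Matrix.col_apply])

theorem inv_mulVec (P : GL (Fin 3) F) (v : Fin 3 → F) :
    ((P⁻¹ : GL (Fin 3) F) : M3) *ᵥ ((P : M3) *ᵥ v) = v := by
  rw [Matrix.mulVec_mulVec, ← Units.val_mul, inv_mul_cancel, Units.val_one, Matrix.one_mulVec]

theorem conj_conj_inv (P : GL (Fin 3) F) (A : M3) :
    (P : M3) * (((P⁻¹ : GL (Fin 3) F) : M3) * A * (P : M3)) * ((P⁻¹ : GL (Fin 3) F) : M3) = A := by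
  simp only [← mul_assoc, ← Units.val_mul, mul_inv_cancel, Units.val_one, one_mul]
  rw [mul_assoc, ← Units.val_mul, mul_inv_cancel, Units.val_one, mul_one]

/-- A non-central element is cyclic or a rank-one perturbation of a scalar. -/
theorem dichotomy (A : M3) :
    (∃ a : F, A = a • (1 : M3)) ∨
      (∃ (P : GL (Fin 3) F) (g be al : F), A = (P : M3) * !![0, 0, g; 1, 0, -be; 0, 1, al] *
        ((P⁻¹ : GL (Fin 3) F) : M3)) ∨
      ∃ (a : F) (w φ : Fin 3 → F), w ≠ 0 ∧ φ ≠ 0 ∧ A = a • (1 : M3) + Matrix.vecMulVec w φ := by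
  by_cases hcyc : ∃ v : Fin 3 → F, LinearIndependent F ![v, A *ᵥ v, A *ᵥ (A *ᵥ v)]
  · obtain ⟨v, hv⟩ := hcyc
    obtain ⟨P, h0, h1, h2⟩ := exists_basis _ _ _ hv
    obtain ⟨M, hM⟩ : ∃ M, M = ((P⁻¹ : GL (Fin 3) F) : M3) * A * (P : M3) := ⟨_, rfl⟩
    have c0 : M *ᵥ ![1, 0, 0] = ![0, 1, 0] := by
      rw [hM, ← Matrix.mulVec_mulVec, ← Matrix.mulVec_mulVec, h0, ← h1, inv_mulVec]
    have c1 : M *ᵥ ![0, 1, 0] = ![0, 0, 1] := by
      rw [hM, ← Matrix.mulVec_mulVec, ← Matrix.mulVec_mulVec, h1, ← h2, inv_mulVec]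
    refine Or.inr (Or.inl ⟨P, M 0 2, -M 1 2, M 2 2, ?_⟩)
    have e : M = !![0, 0, M 0 2; 1, 0, - -M 1 2; 0, 1, M 2 2] := by
      ext i j
      have a0 := congrFun c0 i
      have a1 := congrFun c1 i
      simp [Matrix.mulVec, dotProduct, Fin.sum_univ_three] at a0 a1
      fin_cases i <;> fin_cases j <;> simp_all
    rw [← e, hM, conj_conj_inv]
  push Not at hcyc
  by_cases heig : ∀ v : Fin 3 → F, ∃ c : F, A *ᵥ v = c • v
  · refine Or.inl ⟨A 0 0, ?_⟩
    have key : ∀ i j : Fin 3, i ≠ j → A i j = 0 ∧ A i i = A j j := by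
      intro i j hij
      obtain ⟨c, hc⟩ := heig (Pi.single j 1)
      obtain ⟨d, hd⟩ := heig (Pi.single i 1)
      obtain ⟨e, he⟩ := heig (Pi.single i 1 + Pi.single j 1)
      have a1 := congrFun hc i
      have a2 := congrFun hd j
      have a3 := congrFun he i
      have a4 := congrFun he j
      simp [Matrix.mulVec_add, Matrix.mulVec_single, hij, hij.symm] at a1 a2 a3 a4
      refine ⟨a1, ?_⟩
      rw [a1] at a3
      rw [a2] at a4
      simp_all
    ext i j
    rcases eq_or_ne i j with rfl | hij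
    · rcases eq_or_ne (0 : Fin 3) i with rfl | h0
      · simp
      · simp [(key 0 i h0).2]
    · simp [hij, (key i j hij).1]
  push Not at heig
  obtain ⟨v, hv⟩ := heig
  have hvw : LinearIndependent F ![v, A *ᵥ v] := by
    rw [LinearIndependent.pair_iff' (fun h => hv 0 (by simp [h]))]
    exact fun c hc => hv c hc.symm
  obtain ⟨z, hz⟩ : ∃ z : Fin 3 → F, z ∉ Submodule.span F (Set.range ![v, A *ᵥ v]) := by
    by_contra hcon
    push Not at hcon
    have h2 := finrank_span_eq_card hvw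
    rw [show Submodule.span F (Set.range ![v, A *ᵥ v]) = ⊤ from eq_top_iff.mpr fun x _ => hcon x,
      finrank_top, Module.finrank_fintype_fun_eq_card] at h2
    simp at h2
  have hbas : LinearIndependent F ![v, A *ᵥ v, z] := by
    rw [linearIndependent_finSucc']
    have e : Fin.init ![v, A *ᵥ v, z] = ![v, A *ᵥ v] := by funext i; fin_cases i <;> rfl
    exact ⟨by rw [e]; exact hvw, by rw [e]; exact hz⟩
  obtain ⟨P, h0, h1, h2⟩ := exists_basis _ _ _ hbas
  obtain ⟨M, hM⟩ : ∃ M, M = ((P⁻¹ : GL (Fin 3) F) : M3) * A * (P : M3) := ⟨_, rfl⟩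
  have hMA : ∀ u, A *ᵥ ((P : M3) *ᵥ u) = (P : M3) *ᵥ (M *ᵥ u) := fun u => by
    rw [hM, Matrix.mulVec_mulVec, Matrix.mulVec_mulVec, ← mul_assoc, ← mul_assoc, ← Units.val_mul,
      mul_inv_cancel, Units.val_one, one_mul]
  have hdep : ∀ u, ¬ LinearIndependent F ![u, M *ᵥ u, M *ᵥ (M *ᵥ u)] := fun u hu => by
    refine hcyc ((P : M3) *ᵥ u) ?_
    rw [hMA, hMA]
    have hinj : Function.Injective (Matrix.mulVecLin (P : M3)) := fun a b hab => by
      have hab' : (P : M3) *ᵥ a = (P : M3) *ᵥ b := hab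
      rw [← inv_mulVec P a, hab', inv_mulVec]
    have := hu.map' (Matrix.mulVecLin (P : M3)) (LinearMap.ker_eq_bot.mpr hinj)
    have e : (Matrix.mulVecLin (P : M3)) ∘ ![u, M *ᵥ u, M *ᵥ (M *ᵥ u)] =
        ![(P : M3) *ᵥ u, (P : M3) *ᵥ (M *ᵥ u), (P : M3) *ᵥ (M *ᵥ (M *ᵥ u))] := by
      funext i; fin_cases i <;> rfl
    exact e ▸ this
  have c0 : M *ᵥ ![1, 0, 0] = ![0, 1, 0] := by
    rw [hM, ← Matrix.mulVec_mulVec, ← Matrix.mulVec_mulVec, h0, ← h1, inv_mulVec]
  obtain ⟨x, y, hxy⟩ : ∃ x y : F, M *ᵥ ![0, 1, 0] = ![y, x, 0] := by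
    have hd := hcyc v
    rw [linearIndependent_finSucc'] at hd
    have e : Fin.init ![v, A *ᵥ v, A *ᵥ (A *ᵥ v)] = ![v, A *ᵥ v] := by funext i; fin_cases i <;> rfl
    rw [e] at hd
    have hmem : A *ᵥ (A *ᵥ v) ∈ Submodule.span F (Set.range ![v, A *ᵥ v]) :=
      not_not.mp fun hn => hd ⟨hvw, hn⟩
    rw [Matrix.range_cons, Matrix.range_cons, Matrix.range_empty, Set.union_empty,
      Set.singleton_union, Submodule.mem_span_pair] at hmem
    obtain ⟨y, x, hyx⟩ := hmem
    refine ⟨x, y, ?_⟩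
    rw [hM, ← Matrix.mulVec_mulVec, ← Matrix.mulVec_mulVec, h1, ← hyx, Matrix.mulVec_add,
      Matrix.mulVec_smul, Matrix.mulVec_smul]
    conv_lhs => rw [← h1, ← h0, inv_mulVec, inv_mulVec]
    funext i; fin_cases i <;> simp
  obtain ⟨p, q, b, hpq⟩ : ∃ p q b : F, M *ᵥ ![0, 0, 1] = ![p, q, b] :=
    ⟨_, _, _, funext fun i => by fin_cases i <;> rfl⟩
  have hMe : M = !![0, y, p; 1, x, q; 0, 0, b] := by
    ext i j
    have a0 := congrFun c0 i
    have a1 := congrFun hxy i
    have a2 := congrFun hpq i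
    simp [Matrix.mulVec, dotProduct, Fin.sum_univ_three] at a0 a1 a2
    fin_cases i <;> fin_cases j <;> simp_all
  have hG : ∀ l m : F, (y * m + p - b * l) ^ 2 + x * (y * m + p - b * l) * (l + x * m + q - b * m) -
      y * (l + x * m + q - b * m) ^ 2 = 0 := by
    intro l m
    by_contra hne
    apply hdep ![l, m, 1]
    have hN : LinearIndependent F (Matrix.of ![![l, m, 1], M *ᵥ ![l, m, 1],
        M *ᵥ (M *ᵥ ![l, m, 1])]).row := by
      rw [Matrix.linearIndependent_rows_iff_isUnit, Matrix.isUnit_iff_isUnit_det, isUnit_iff_ne_zero]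
      intro h0
      apply hne
      rw [← h0, hMe]
      simp [Matrix.det_fin_three, Matrix.mulVec, dotProduct, Fin.sum_univ_three]
      ring
    exact hN
  have hy : y = b * b - b * x := by
    by_contra hne
    have hd : y + b * x - b * b ≠ 0 := fun h => hne (by linear_combination h)
    obtain ⟨m, hm⟩ : ∃ m, m = (1 - p - b * q) / (y + b * x - b * b) := ⟨_, rfl⟩
    have hm' : m * (y + b * x - b * b) = 1 - p - b * q := by rw [hm, div_mul_cancel₀ _ hd]
    have := hG (-q - (x - b) * m) m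
    rw [show y * m + p - b * (-q - (x - b) * m) = 1 by linear_combination hm',
      show (-q - (x - b) * m) + x * m + q - b * m = 0 by ring] at this
    simp at this
  have hp : p = -(b * q) := by
    have := hG (-q) 0
    rw [show (-q + x * 0 + q - b * 0) = 0 by ring] at this
    have : (y * 0 + p - b * -q) ^ 2 = 0 := by simpa using this
    linear_combination pow_eq_zero_iff two_ne_zero |>.mp this
  refine Or.inr (Or.inr ⟨b, (P : M3) *ᵥ ![-b, 1, 0],
    ![1, x - b, q] ᵥ* ((P⁻¹ : GL (Fin 3) F) : M3), fun h => ?_, fun h => ?_, ?_⟩)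
  · have := congrFun (congrArg (((P⁻¹ : GL (Fin 3) F) : M3) *ᵥ ·) h) 1
    simp [inv_mulVec] at this
  · have := congrFun (congrArg (· ᵥ* (P : M3)) h) 0
    simp [Matrix.vecMul_vecMul, ← Units.val_mul] at this
  · have e : M = b • (1 : M3) + Matrix.vecMulVec ![-b, 1, 0] ![1, x - b, q] := by
      rw [hMe]
      ext i j; fin_cases i <;> fin_cases j <;> simp [Matrix.vecMulVec_apply, hp, hy] <;> ring
    rw [← conj_conj_inv P A, ← hM, e, Matrix.mul_add, Matrix.add_mul, Matrix.mul_vecMulVec,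
      Matrix.vecMulVec_mul, Matrix.mul_smul, Matrix.smul_mul, mul_one, ← Units.val_mul,
      mul_inv_cancel, Units.val_one]

theorem det_eq_one_of_charpoly {A : M3} {s t : F} (h : A.charpoly = cubic s t) : A.det = 1 := by
  rw [Matrix.det_eq_sign_charpoly_coeff, h, cubic]
  simp
  ring

/-- Parameters for the class. -/
theorem exists_params [Finite F] (h3 : 3 ≤ Nat.card F) :
    ∃ r u : F, r ≠ 0 ∧ u ≠ 0 ∧ r + u ≠ r * u + r⁻¹ ∧ ∀ x : F, x ^ 2 - u * x + r⁻¹ ≠ 0 := by
  classical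
  have := Fintype.ofFinite F
  obtain ⟨r, e, hr0, hr1, hre⟩ : ∃ r e : F, r ≠ 0 ∧ r ≠ 1 ∧ e ^ 2 = -r⁻¹ := by
    by_cases h2 : (2 : F) = 0
    · obtain ⟨r, hr⟩ : ∃ r : F, r ∉ ({0, 1} : Finset F) := by
        by_contra hc
        push Not at hc
        have := Finset.card_le_card (s := Finset.univ) (t := ({0, 1} : Finset F)) fun x _ => hc x
        rw [Finset.card_univ, ← Nat.card_eq_fintype_card] at this
        have h4 := Finset.card_le_two (a := (0 : F)) (b := 1)
        omega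
      simp only [Finset.mem_insert, Finset.mem_singleton, not_or] at hr
      have hinj : Function.Injective fun x : F => x ^ 2 := fun a b hab => by
        have : (a - b) ^ 2 = 0 := by
          have hab' : a ^ 2 = b ^ 2 := hab
          linear_combination hab' + (b ^ 2 - a * b) * h2
        exact sub_eq_zero.mp ((pow_eq_zero_iff two_ne_zero).mp this)
      obtain ⟨e, he⟩ := (Finite.injective_iff_surjective.mp hinj) (-r⁻¹)
      exact ⟨r, e, hr.1, hr.2, he⟩
    · exact ⟨-1, 1, by simp, fun h => h2 (by linear_combination -h), by simp⟩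
  obtain ⟨u, hu⟩ : ∃ u : F, ∀ x : F, x ≠ 0 → x + r⁻¹ / x ≠ u := by
    by_contra hc
    push Not at hc
    choose g hg0 hg using hc
    have hinj : Function.Injective fun v => (⟨g v, hg0 v⟩ : {x : F // x ≠ 0}) := fun a b hab => by
      have hab' : g a = g b := congrArg Subtype.val hab
      rw [← hg a, hab', hg b]
    have h1 := Fintype.card_le_of_injective _ hinj
    have h2 := Fintype.card_subtype_lt (p := fun x : F => x ≠ 0) (x := 0) (by simp)
    omega
  have he0 : e ≠ 0 := fun h => by simp [h, hr0] at hre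
  have hu0 : u ≠ 0 := fun h => hu e he0 (by
    rw [h, show r⁻¹ = -e ^ 2 by rw [hre, neg_neg]]; field_simp; ring)
  refine ⟨r, u, hr0, hu0, fun hst => ?_, fun x hx => ?_⟩
  · have h1 : (1 - r) * (u - (1 + r⁻¹)) = 0 := by
      field_simp at hst ⊢
      linear_combination hst
    rcases mul_eq_zero.mp h1 with h | h
    · exact hr1 (sub_eq_zero.mp h).symm
    · exact hu 1 one_ne_zero (by rw [div_one]; exact (sub_eq_zero.mp h).symm)
  · rcases eq_or_ne x 0 with rfl | hx0
    · simp [hr0] at hx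
    · exact hu x hx0 (by field_simp at hx ⊢; linear_combination hx)

theorem cubic_dvd [Finite F] {r u : F} (hr : r ≠ 0) (hroot : ∀ x : F, x ^ 2 - u * x + r⁻¹ ≠ 0) :
    cubic (r + u) (r * u + r⁻¹) ∣ X ^ Nat.card F ^ 2 - X := by
  have hfac : cubic (r + u) (r * u + r⁻¹) =
      (X - Polynomial.C r) * (X ^ 2 - Polynomial.C u * X + Polynomial.C r⁻¹) := by
    have h1 : Polynomial.C r * Polynomial.C r⁻¹ = (1 : F[X]) := by
      rw [← map_mul, mul_inv_cancel₀ hr, map_one]
    simp only [cubic, map_add, map_mul]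
    linear_combination h1
  obtain ⟨g, hg⟩ : ∃ g : F[X], g = X ^ 2 - Polynomial.C u * X + Polynomial.C r⁻¹ := ⟨_, rfl⟩
  have hdeg : g.natDegree = 2 := by rw [hg]; compute_degree!
  have hirr : Irreducible g := Polynomial.irreducible_of_degree_le_three_of_not_isRoot
    (by simp [hdeg]) fun x hx => hroot x (by simpa [hg] using hx)
  rw [hfac, ← hg]
  refine IsCoprime.mul_dvd ?_ ?_ ((hirr.natDegree_dvd_iff_dvd_X_pow_card_pow_sub_X).mp (by rw [hdeg]))
  · rw [(irreducible_X_sub_C r).coprime_iff_not_dvd, Polynomial.dvd_iff_isRoot]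
    exact fun hx => hroot r (by simpa [hg] using hx)
  · have := Fintype.ofFinite F
    rw [Polynomial.dvd_iff_isRoot]
    simp [Nat.card_eq_fintype_card, FiniteField.pow_card_pow]

theorem main [Fintype F] (p : ℕ) [Fact p.Prime] [CharP F p] (h3 : 3 ≤ Fintype.card F) :
    ∃ x : Matrix.ProjectiveSpecialLinearGroup (Fin 3) F, ¬ p ∣ orderOf x ∧
      ∀ g : Matrix.ProjectiveSpecialLinearGroup (Fin 3) F, g ≠ 1 →
        ∃ u v : Matrix.ProjectiveSpecialLinearGroup (Fin 3) F,
          g = (u * x * u⁻¹) * (v * x * v⁻¹) := by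
  obtain ⟨r, u, hr, hu, hne, hroot⟩ := exists_params (F := F) (by rwa [Nat.card_eq_fintype_card])
  obtain ⟨s, hs⟩ : ∃ s, r + u = s := ⟨_, rfl⟩
  obtain ⟨t, ht⟩ : ∃ t, r * u + r⁻¹ = t := ⟨_, rfl⟩
  have hdvd := cubic_dvd hr hroot
  rw [hs, ht] at hdvd hne
  have hroot' : ∀ x : F, x ^ 2 - r * u * x + r⁻¹⁻¹ ≠ 0 := by
    intro x hx
    rw [inv_inv] at hx
    rcases eq_or_ne x 0 with rfl | hx0
    · simp [hr] at hx
    · exact hroot x⁻¹ (by field_simp; linear_combination hx)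
  have hdvd' := cubic_dvd (inv_ne_zero hr) hroot'
  rw [show r⁻¹ + r * u = t by rw [← ht]; ring,
    show r⁻¹ * (r * u) + r⁻¹⁻¹ = s by rw [inv_mul_cancel_left₀ hr, inv_inv, ← hs]; ring] at hdvd'
  have hpoly : ∀ (f : F[X]), f ∣ X ^ Nat.card F ^ 2 - X → ∀ g : SL3, (g : M3).charpoly = f →
      (orderOf g).Coprime p := by
    intro f hf g hg
    rw [← orderOf_injective Matrix.SpecialLinearGroup.toGL Matrix.SpecialLinearGroup.toGL_injective]
    refine (SSClass.ss_iff_coprime p _).mp ⟨2, two_pos, ?_⟩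
    rw [← map_pow]
    refine congrArg _ ?_
    obtain ⟨c, hc⟩ := hf
    have := congrArg (Polynomial.aeval (g : M3)) hc
    rw [map_mul, ← hg, Matrix.aeval_self_charpoly, zero_mul] at this
    simpa [sub_eq_zero] using this
  have hp' := hpoly _ hdvd
  obtain ⟨x, hx⟩ : ∃ x : SL3, (x : M3) = !![s, 1, 0; -t, 0, 1; 1, 0, 0] :=
    ⟨⟨_, by simp [Matrix.det_fin_three]⟩, rfl⟩
  have hxc : (x : M3).charpoly = cubic s t := by
    rw [hx]
    apply charpoly_eq_cubic <;> simp [Matrix.trace_fin_three, sigma2, Matrix.det_fin_three]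
  obtain ⟨y, hy⟩ : ∃ y : SL3, (y : M3) = !![0, 0, 1; 1, 0, -s; 0, 1, t] :=
    ⟨⟨_, by simp [Matrix.det_fin_three]⟩, rfl⟩
  have hyx : y = x⁻¹ := eq_inv_of_mul_eq_one_left (by
    apply Subtype.ext
    rw [Matrix.SpecialLinearGroup.coe_mul, hy, hx, Matrix.SpecialLinearGroup.coe_one]
    ext i j; fin_cases i <;> fin_cases j <;> simp [Matrix.mul_apply, Fin.sum_univ_three])
  have hyc : (y : M3).charpoly = cubic t s := by
    rw [hy]
    apply charpoly_eq_cubic <;> simp [Matrix.trace_fin_three, sigma2, Matrix.det_fin_three]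
  have hfinal : ∀ A : SL3, Good s t (A : M3) →
      ∃ c d : SL3, A = (c * x * c⁻¹) * (d * x * d⁻¹) := by
    rintro A ⟨D, hD, hE⟩
    obtain ⟨D', hD'⟩ : ∃ D' : SL3, (D' : M3) = D := ⟨⟨D, det_eq_one_of_charpoly hD⟩, rfl⟩
    rw [← hD'] at hD hE
    rw [← Matrix.SpecialLinearGroup.coe_mul] at hE
    obtain ⟨d, hd⟩ := isConj_iff.mp (SSClass.sl_isConj_of_charpoly p (hp' x hxc)
      (hp' _ hE) (hxc.trans hE.symm))
    have hcop : (orderOf D').Coprime p := hpoly _ hdvd' D' hD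
    obtain ⟨c, hc⟩ := isConj_iff.mp (SSClass.sl_isConj_of_charpoly p
      (g := y) (h := D') (by rw [hyx, orderOf_inv]; exact hp' x hxc) hcop (hyc.trans hD.symm))
    refine ⟨c, d, ?_⟩
    rw [hd, show c * x * c⁻¹ = D'⁻¹ by rw [← hc, hyx]; group, inv_mul_cancel_left]
  refine ⟨QuotientGroup.mk x, fun hdiv => ?_, fun g hg => ?_⟩
  · have h1 : p ∣ orderOf x := hdiv.trans (orderOf_map_dvd (QuotientGroup.mk' _) x)
    exact ((Fact.out : p.Prime).coprime_iff_not_dvd.mp (hp' x hxc).symm) h1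
  induction g using QuotientGroup.induction_on with
  | H A =>
    suffices h : ∃ A' : SL3, (QuotientGroup.mk A' :
        Matrix.ProjectiveSpecialLinearGroup (Fin 3) F) = QuotientGroup.mk A ∧ Good s t (A' : M3) by
      obtain ⟨A', e, h'⟩ := h
      obtain ⟨c, d, hcd⟩ := hfinal A' h'
      exact ⟨QuotientGroup.mk c, QuotientGroup.mk d, by rw [← e, hcd]; rfl⟩
    rcases dichotomy (A : M3) with ⟨a, ha⟩ | ⟨P, gg, be, al, hA⟩ | ⟨a, w, φ, hw, hφ, hA⟩
    · exact absurd ((QuotientGroup.eq_one_iff A).mpr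
        (Matrix.SpecialLinearGroup.mem_center_iff.mpr ⟨a, by
          have := A.2
          rw [ha, Matrix.det_smul, Matrix.det_one, mul_one, Fintype.card_fin] at this
          simpa using this, by rw [ha]; simp [Matrix.smul_one_eq_diagonal]⟩)) hg
    · refine ⟨A, rfl, ?_⟩
      have hg1 : gg = 1 := by
        have := A.2
        rw [hA, Matrix.det_mul, Matrix.det_mul, mul_comm, ← mul_assoc, ← Matrix.det_mul,
          ← Units.val_mul, inv_mul_cancel, Units.val_one, Matrix.det_one, one_mul] at this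
        simpa [Matrix.det_fin_three] using this
      rw [hA, hg1, ← hs, ← ht]
      exact good_conj (good_companion hr hu al be) P
    · have hdet : a ^ 3 + a ^ 2 * (φ ⬝ᵥ w) = 1 := by rw [← det_scalar_add, ← hA]; exact A.2
      by_cases hgood : φ ⬝ᵥ w ≠ 0 ∨ s ≠ a * t
      · exact ⟨A, rfl, hA ▸ good_rankOne a w φ hw hφ (hA ▸ A.2) hgood⟩
      · push Not at hgood
        rw [hgood.1, mul_zero, add_zero] at hdet
        have ha0 : a ≠ 0 := fun h => by simp [h] at hdet
        obtain ⟨Z, hZ⟩ : ∃ Z : SL3, (Z : M3) = a⁻¹ • (1 : M3) :=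
          ⟨⟨_, by rw [Matrix.det_smul, Matrix.det_one, mul_one, Fintype.card_fin, inv_pow, hdet,
            inv_one]⟩, rfl⟩
        refine ⟨A * Z, ?_, ?_⟩
        · rw [QuotientGroup.mk_mul, (QuotientGroup.eq_one_iff Z).mpr
            (Matrix.SpecialLinearGroup.mem_center_iff.mpr ⟨a⁻¹, by
              rw [Fintype.card_fin, inv_pow, hdet, inv_one], by
              rw [hZ]; simp [Matrix.smul_one_eq_diagonal]⟩), mul_one]
        · have e : ((A * Z : SL3) : M3) =
              (1 : F) • (1 : M3) + Matrix.vecMulVec (a⁻¹ • w) φ := by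
            rw [Matrix.SpecialLinearGroup.coe_mul, hZ, hA, Matrix.mul_smul, mul_one, smul_add,
              smul_smul, inv_mul_cancel₀ ha0, Matrix.smul_vecMulVec]
          rw [e]
          refine good_rankOne 1 _ φ (smul_ne_zero (inv_ne_zero ha0) hw) hφ (e ▸ (A * Z).2)
            (Or.inr ?_)
          rw [one_mul]
          exact hne

end CfsgLib.KnownB.PSL3Cover
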