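import Mathlib
import Cfsg.Agent.Lib.KnownC.AlgebraEmbed
import Cfsg.Agent.Lib.KnownC.MatrixPrimary

/-!
Adjacency in the prime graph of `PSL_n(q)`: two odd primes different from the characteristic, and an odd prime with
the characteristic.
-/

set_option autoImplicit false

namespace CfsgLib.KnownB.PSLAdjacent

open Polynomial Matrix

variable {F : Type*} [Field F] [Fintype F]

local notation "q" => Fintype.card F

theorem dvd_pow_sub_one_iff {r j : ℕ} :
    r ∣ q ^ j - 1 ↔ orderOf ((q : ℕ) : ZMod r) ∣ j := by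
  rw [orderOf_dvd_iff_pow_eq_one, ← ZMod.natCast_eq_zero_iff, Nat.cast_sub (Nat.one_le_pow _ _ Fintype.card_pos),
    Nat.cast_pow, Nat.cast_one, sub_eq_zero]

theorem natCast_ne_zero {p r : ℕ} [Fact p.Prime] [CharP F p] (hr : r.Prime) (hrp : r ≠ p) : (r : F) ≠ 0 :=
  fun h => hrp ((Nat.prime_dvd_prime_iff_eq (Fact.out) hr).1 ((CharP.cast_eq_zero_iff F p r).1 h)).symm

theorem coprime_card {p r : ℕ} [Fact p.Prime] [CharP F p] (hr : r.Prime) (hrp : r ≠ p) : ¬ r ∣ q := by
  obtain ⟨N, hp, hc⟩ := FiniteField.card F p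
  intro h
  rw [hc] at h
  exact hrp ((Nat.prime_dvd_prime_iff_eq hr hp).1 (hr.dvd_of_dvd_pow h))

/-- Primes dividing `|PSL_n|` divide some `q ^ j - 1`, `j ≤ n`. -/
theorem order_le {p r n : ℕ} [Fact p.Prime] [CharP F p] (hr : r.Prime) (hrp : r ≠ p)
    (hG : r ∣ Nat.card (Matrix.ProjectiveSpecialLinearGroup (Fin n) F)) :
    orderOf ((q : ℕ) : ZMod r) ≤ n := by
  classical
  have h1 : Nat.card (Matrix.ProjectiveSpecialLinearGroup (Fin n) F) ∣
      Nat.card (Matrix.SpecialLinearGroup (Fin n) F) :=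
    Subgroup.card_quotient_dvd_card _
  have h2 : Nat.card (Matrix.SpecialLinearGroup (Fin n) F) ∣ Nat.card (GL (Fin n) F) :=
    Subgroup.card_dvd_of_injective Matrix.SpecialLinearGroup.toGL Matrix.SpecialLinearGroup.toGL_injective
  have h3 := (hG.trans h1).trans h2
  rw [Matrix.card_GL_field] at h3
  obtain ⟨i, -, hi⟩ := (Prime.dvd_finsetProd_iff hr.prime _).1 h3
  have hin := i.2
  have hq : 1 ≤ q := Fintype.card_pos
  have hsplit : q ^ n - q ^ (i : ℕ) = q ^ (i : ℕ) * (q ^ (n - i) - 1) := by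
    rw [Nat.mul_sub, mul_one, ← pow_add, Nat.add_sub_cancel' hin.le]
  rw [hsplit] at hi
  rcases hr.dvd_mul.1 hi with h | h
  · exact absurd (hr.dvd_of_dvd_pow h) (coprime_card hr hrp)
  · exact (Nat.le_of_dvd (by omega) (dvd_pow_sub_one_iff.1 h)).trans (Nat.sub_le _ _)

/-- A polynomial all of whose irreducible factors divide `Q` divides a power of `Q`. -/
theorem dvd_pow_of_factors {f Q : F[X]} (hf : f ≠ 0) (h : ∀ P, Irreducible P → P ∣ f → P ∣ Q) :
    ∃ N, f ∣ Q ^ N ∧ (Squarefree f → f ∣ Q) := by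
  have key : ∀ g : F[X], g ≠ 0 → g ∣ f → ∃ N, g ∣ Q ^ N ∧ (Squarefree f → g ∣ Q) := by
    intro g
    induction g using UniqueFactorizationMonoid.induction_on_prime with
    | h₁ => intro h0; exact absurd rfl h0
    | h₂ g hg => intro _ _; exact ⟨0, hg.dvd, fun _ => hg.dvd⟩
    | h₃ g P hg hP ih =>
      intro _ hd
      obtain ⟨N, hN, hNs⟩ := ih hg ((dvd_mul_left g P).trans hd)
      have hPQ := h P hP.irreducible ((dvd_mul_right P g).trans hd)
      refine ⟨N + 1, by rw [pow_succ']; exact mul_dvd_mul hPQ hN, fun hs => ?_⟩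
      refine IsCoprime.mul_dvd (hP.irreducible.coprime_iff_not_dvd.2 fun hPg => ?_) hPQ (hNs hs)
      exact hP.not_isUnit (hs P ((mul_dvd_mul_left P hPg).trans hd))
  exact key f hf dvd_rfl

/-- The degree of a factor seeing the prime `r`. -/
theorem order_dvd_natDegree {P : F[X]} (hP : Irreducible P) {N r : ℕ} (hr : r.Prime) (hN : 0 < N)
    (h1 : P ∣ X ^ N - 1) (hrN : r ∣ N) (h2 : ¬ P ∣ X ^ (N / r) - 1) :
    orderOf ((q : ℕ) : ZMod r) ∣ P.natDegree := by
  haveI := Fact.mk hP
  haveI : Module.Finite F (AdjoinRoot P) := (AdjoinRoot.powerBasis hP.ne_zero).finite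
  haveI : Finite (AdjoinRoot P) := Module.finite_of_finite F
  set β := AdjoinRoot.root P with hβ
  have hpoly : ∀ j, P ∣ X ^ j - 1 ↔ β ^ j = 1 := fun j => by
    rw [← AdjoinRoot.mk_eq_zero, map_sub, map_pow, AdjoinRoot.mk_X, map_one, sub_eq_zero]
  rw [hpoly] at h1 h2
  have hβ0 : β ≠ 0 := fun h => by rw [h, zero_pow hN.ne'] at h1; exact zero_ne_one h1
  have hdvd : r ∣ orderOf β := by
    by_contra hndvd
    refine h2 (orderOf_dvd_iff_pow_eq_one.1 ?_)
    refine (hr.coprime_iff_not_dvd.2 hndvd).symm.dvd_of_dvd_mul_left ?_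
    rw [Nat.mul_div_cancel' hrN]
    exact orderOf_dvd_of_pow_eq_one h1
  have h3 := orderOf_dvd_natCard (Units.mk0 β hβ0)
  rw [← orderOf_units, Units.val_mk0, Nat.card_units, Module.natCard_eq_pow_finrank (K := F),
    Nat.card_eq_fintype_card, (AdjoinRoot.powerBasis hP.ne_zero).finrank, AdjoinRoot.powerBasis_dim] at h3
  exact dvd_pow_sub_one_iff.1 (hdvd.trans h3)

variable {n : ℕ}

theorem minpoly_natDegree_le (A : Matrix (Fin n) (Fin n) F) : (minpoly F A).natDegree ≤ n :=
  (natDegree_le_of_dvd (Matrix.minpoly_dvd_charpoly A) (Matrix.charpoly_monic A).ne_zero).trans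
    (by rw [Matrix.charpoly_natDegree_eq_dim, Fintype.card_fin])

/-- Images in `PSL`: a trivial power. -/
theorem mk_pow_eq_one_iff {g : Matrix.SpecialLinearGroup (Fin n) F} {k : ℕ} :
    (QuotientGroup.mk g : Matrix.ProjectiveSpecialLinearGroup (Fin n) F) ^ k = 1 ↔
      ∃ c : F, c ^ n = 1 ∧ (g : Matrix (Fin n) (Fin n) F) ^ k = scalar (Fin n) c := by
  rw [← QuotientGroup.mk_pow, QuotientGroup.eq_one_iff, Matrix.SpecialLinearGroup.mem_center_iff,
    Fintype.card_fin, Matrix.SpecialLinearGroup.coe_pow]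
  exact exists_congr fun c => and_congr_right fun _ => eq_comm

/-- Lifting to a matrix of the same order. -/
theorem exists_lift {N : ℕ} (hn : 1 ≤ n) (hcop : N.Coprime (q - 1))
    (x : Matrix.ProjectiveSpecialLinearGroup (Fin n) F) (hx : orderOf x = N) :
    ∃ A : Matrix.SpecialLinearGroup (Fin n) F, orderOf A = N := by
  obtain ⟨g, rfl⟩ := QuotientGroup.mk_surjective x
  refine ⟨g ^ (q - 1), ?_⟩
  have h1 := pow_orderOf_eq_one (QuotientGroup.mk g : Matrix.ProjectiveSpecialLinearGroup (Fin n) F)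
  rw [hx, mk_pow_eq_one_iff] at h1
  obtain ⟨c, hc, hg⟩ := h1
  refine Nat.dvd_antisymm (orderOf_dvd_of_pow_eq_one (Subtype.ext ?_)) ?_
  · rw [← pow_mul, mul_comm, pow_mul, Matrix.SpecialLinearGroup.coe_pow, Matrix.SpecialLinearGroup.coe_pow, hg,
      ← map_pow, FiniteField.pow_card_sub_one_eq_one c (fun h0 => by
        rw [h0, zero_pow (by omega)] at hc; exact zero_ne_one hc), map_one, Matrix.SpecialLinearGroup.coe_one]
  · have h2 : orderOf ((QuotientGroup.mk g : Matrix.ProjectiveSpecialLinearGroup (Fin n) F) ^ (q - 1)) = N := by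
      rw [Nat.Coprime.orderOf_pow (hx ▸ hcop), hx]
    conv_lhs => rw [← h2, ← QuotientGroup.mk_pow]
    exact orderOf_map_dvd (QuotientGroup.mk' _) _

/-- From a matrix of given order prime to `q - 1` to `PSL`. -/
theorem exists_of_gl {N : ℕ} (hn : 1 ≤ n) (hcop : N.Coprime (q - 1)) (B : GL (Fin n) F) (hB : orderOf B = N) :
    ∃ x : Matrix.ProjectiveSpecialLinearGroup (Fin n) F, orderOf x = N := by
  have hdet : (B : Matrix (Fin n) (Fin n) F).det = 1 := by
    have h1 : (B : Matrix (Fin n) (Fin n) F).det ^ N = 1 := by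
      rw [← Matrix.det_pow, ← Units.val_pow_eq_pow_val, ← hB, pow_orderOf_eq_one, Units.val_one,
        Matrix.det_one]
    have h0 : (B : Matrix (Fin n) (Fin n) F).det ≠ 0 :=
      ((Matrix.isUnit_iff_isUnit_det _).1 B.isUnit).ne_zero
    have h2 := FiniteField.pow_card_sub_one_eq_one _ h0
    have h3 : (B : Matrix (Fin n) (Fin n) F).det ^ (Nat.gcd N (q - 1)) = 1 := pow_gcd_eq_one.2 ⟨h1, h2⟩
    rwa [hcop, pow_one] at h3
  set S : Matrix.SpecialLinearGroup (Fin n) F := ⟨B, hdet⟩ with hS
  refine ⟨QuotientGroup.mk S, Nat.dvd_antisymm ?_ ?_⟩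
  · refine orderOf_dvd_of_pow_eq_one ?_
    rw [← QuotientGroup.mk_pow, show S ^ N = 1 from ?_, QuotientGroup.mk_one]
    refine Subtype.ext ?_
    rw [Matrix.SpecialLinearGroup.coe_pow, Matrix.SpecialLinearGroup.coe_one]
    show (B : Matrix (Fin n) (Fin n) F) ^ N = 1
    rw [← Units.val_pow_eq_pow_val, ← hB, pow_orderOf_eq_one, Units.val_one]
  · set o := orderOf (QuotientGroup.mk S : Matrix.ProjectiveSpecialLinearGroup (Fin n) F) with ho
    obtain ⟨c, hc, hSc⟩ := mk_pow_eq_one_iff.1 (pow_orderOf_eq_one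
      (QuotientGroup.mk S : Matrix.ProjectiveSpecialLinearGroup (Fin n) F))
    have hc1 : c ^ N = 1 := by
      have h : ((B : Matrix (Fin n) (Fin n) F) ^ o) ^ N = scalar (Fin n) (c ^ N) := by rw [hSc, map_pow]
      rw [← pow_mul, mul_comm, pow_mul, ← Units.val_pow_eq_pow_val, ← hB, pow_orderOf_eq_one, Units.val_one,
        one_pow, hB] at h
      haveI : Nonempty (Fin n) := ⟨⟨0, hn⟩⟩
      exact Matrix.scalar_inj.1 (h.symm.trans (map_one (scalar (Fin n))).symm)
    have hc2 : c ^ (q - 1) = 1 := FiniteField.pow_card_sub_one_eq_one c (fun h0 => by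
      rw [h0, zero_pow (by omega)] at hc; exact zero_ne_one hc)
    have hc3 : c ^ (Nat.gcd N (q - 1)) = 1 := pow_gcd_eq_one.2 ⟨hc1, hc2⟩
    rw [hcop, pow_one] at hc3
    rw [← hB]
    refine orderOf_dvd_of_pow_eq_one (Units.ext ?_)
    rw [Units.val_pow_eq_pow_val, Units.val_one]
    exact hSc.trans (by rw [hc3, map_one])

/-- A field extension of degree `d` gives all orders dividing `q ^ d - 1`. -/
theorem exists_unit_orderOf (d : ℕ) (hd : d ≠ 0) {N : ℕ} (hN : N ∣ q ^ d - 1) :
    ∃ (L : Type) (_ : Field L) (_ : Algebra F L) (_ : Module.Finite F L),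
      Module.finrank F L = d ∧ ∃ x : Lˣ, orderOf x = N := by
  obtain ⟨p, hchar⟩ := CharP.exists F
  haveI := hchar
  haveI : Fact p.Prime := ⟨CharP.char_is_prime F p⟩
  haveI : NeZero d := ⟨hd⟩
  let L := FiniteField.Extension F p d
  haveI : Finite L := Module.finite_of_finite F
  obtain ⟨ζ, hζ⟩ := IsCyclic.exists_generator (α := Lˣ)
  have hord : orderOf ζ = q ^ d - 1 := by
    rw [orderOf_eq_card_of_forall_mem_zpowers hζ, Nat.card_units, FiniteField.natCard_extension,
      Nat.card_eq_fintype_card]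
  refine ⟨L, inferInstance, inferInstance, inferInstance, FiniteField.finrank_extension F p d,
    ζ ^ ((q ^ d - 1) / N), ?_⟩
  have hpos : 0 < q ^ d - 1 := Nat.sub_pos_of_lt (Nat.one_lt_pow hd Fintype.one_lt_card)
  rw [← hord]
  exact orderOf_pow_orderOf_div (orderOf_pos ζ).ne' (hord ▸ hN)

/-- Two odd primes. -/
theorem adjacent_iff {p : ℕ} [Fact p.Prime] [CharP F p] (hn : 2 ≤ n) {r s : ℕ} (hr : r.Prime) (hs : s.Prime)
    (hrp : r ≠ p) (hsp : s ≠ p) (hrs : r ≠ s)
    (hrG : r ∣ Nat.card (Matrix.ProjectiveSpecialLinearGroup (Fin n) F))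
    (hsG : s ∣ Nat.card (Matrix.ProjectiveSpecialLinearGroup (Fin n) F))
    {k l : ℕ} (hk : k = orderOf ((q : ℕ) : ZMod r)) (hl : l = orderOf ((q : ℕ) : ZMod s))
    (h2k : 2 ≤ k) (hkl : k ≤ l) :
    (∃ x : Matrix.ProjectiveSpecialLinearGroup (Fin n) F, orderOf x = r * s) ↔ (k + l ≤ n ∨ k ∣ l) := by
  have hnr : ¬ r ∣ q - 1 := fun h => by
    have := Nat.le_of_dvd one_pos (hk ▸ dvd_pow_sub_one_iff.1 (by rwa [pow_one]))
    omega
  have hns : ¬ s ∣ q - 1 := fun h => by
    have := Nat.le_of_dvd one_pos (hl ▸ dvd_pow_sub_one_iff.1 (by rwa [pow_one]))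
    omega
  have hcop : (r * s).Coprime (q - 1) :=
    Nat.Coprime.mul_left (hr.coprime_iff_not_dvd.2 hnr) (hs.coprime_iff_not_dvd.2 hns)
  have hcrs : r.Coprime s := (Nat.coprime_primes hr hs).2 hrs
  have hkn : k ≤ n := hk ▸ order_le hr hrp hrG
  have hln : l ≤ n := hl ▸ order_le hs hsp hsG
  constructor
  · rintro ⟨x, hx⟩
    obtain ⟨A, hA⟩ := exists_lift (by omega) hcop x hx
    set M := (A : Matrix (Fin n) (Fin n) F) with hM
    have hint : IsIntegral F M := IsIntegral.of_finite F M
    have hpow : ∀ j, minpoly F M ∣ X ^ j - 1 ↔ r * s ∣ j := fun j => by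
      rw [minpoly.dvd_iff, map_sub, map_pow, aeval_X, map_one, sub_eq_zero, hM,
        ← Matrix.SpecialLinearGroup.coe_pow, ← Matrix.SpecialLinearGroup.coe_one, ← hA, orderOf_dvd_iff_pow_eq_one]
      exact ⟨fun h => Subtype.ext h, fun h => congrArg Subtype.val h⟩
    have hsq : Squarefree (minpoly F M) := by
      refine Squarefree.squarefree_of_dvd ((hpow (r * s)).2 dvd_rfl) ?_
      rw [← C_1]
      exact (Polynomial.separable_X_pow_sub_C 1 (by
        rw [Nat.cast_mul]; exact mul_ne_zero (natCast_ne_zero hr hrp) (natCast_ne_zero hs hsp)) one_ne_zero).squarefree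
    have hfac : ∀ t, 1 < t → t ∣ r * s → ∃ P, Irreducible P ∧ P ∣ minpoly F M ∧ ¬ P ∣ X ^ ((r * s) / t) - 1 := by
      intro t ht htd
      by_contra hno
      push Not at hno
      obtain ⟨N, -, hsd⟩ := dvd_pow_of_factors (minpoly.ne_zero hint) hno
      have h := (hpow _).1 (hsd hsq)
      have hpos : 0 < r * s := Nat.mul_pos hr.pos hs.pos
      exact (Nat.div_lt_self hpos ht).not_ge
        (Nat.le_of_dvd (Nat.div_pos (Nat.le_of_dvd hpos htd) (by omega)) h)
    obtain ⟨P, hP, hPd, hPn⟩ := hfac r hr.one_lt (dvd_mul_right r s)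
    obtain ⟨Q, hQ, hQd, hQn⟩ := hfac s hs.one_lt (dvd_mul_left s r)
    have hkP : k ∣ P.natDegree := hk ▸ order_dvd_natDegree hP hr (Nat.mul_pos hr.pos hs.pos)
      (hPd.trans ((hpow _).2 dvd_rfl)) (dvd_mul_right r s) hPn
    have hlQ : l ∣ Q.natDegree := hl ▸ order_dvd_natDegree hQ hs (Nat.mul_pos hr.pos hs.pos)
      (hQd.trans ((hpow _).2 dvd_rfl)) (dvd_mul_left s r) hQn
    have hPpos := hP.natDegree_pos
    have hQpos := hQ.natDegree_pos
    have hdeg : ∀ R, R ∣ minpoly F M → R.natDegree ≤ n := fun R hR =>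
      (natDegree_le_of_dvd hR (minpoly.ne_zero hint)).trans (minpoly_natDegree_le M)
    by_cases hPQ : P ∣ Q
    · have hassoc := hP.associated_of_dvd hQ hPQ
      rw [← natDegree_eq_of_degree_eq (degree_eq_degree_of_associated hassoc)] at hlQ hQpos
      rcases em (k ∣ l) with h | h
      · exact Or.inr h
      · left
        have hlcm : Nat.lcm k l ∣ P.natDegree := Nat.lcm_dvd hkP hlQ
        have hle := (Nat.le_of_dvd hPpos hlcm).trans (hdeg P hPd)
        obtain ⟨t, ht⟩ := Nat.dvd_lcm_right k l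
        rcases Nat.lt_or_ge t 2 with h' | h'
        · exfalso
          rcases (show t = 0 ∨ t = 1 by omega) with rfl | rfl
          · rw [mul_zero] at ht
            exact absurd ht (Nat.lcm_ne_zero (by omega) (by omega))
          · rw [mul_one] at ht
            exact h (ht ▸ Nat.dvd_lcm_left k l)
        · have : l * 2 ≤ l * t := Nat.mul_le_mul_left _ h'
          omega
    · left
      have h := hdeg (P * Q) ((hP.coprime_iff_not_dvd.2 hPQ).mul_dvd hPd hQd)
      rw [natDegree_mul hP.ne_zero hQ.ne_zero] at h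
      have := Nat.le_of_dvd hPpos hkP
      have := Nat.le_of_dvd hQpos hlQ
      omega
  · intro h
    suffices hB : ∃ B : GL (Fin n) F, orderOf B = r * s by
      obtain ⟨B, hB⟩ := hB
      exact exists_of_gl (by omega) hcop B hB
    rcases h with h | h
    · obtain ⟨L, _, _, _, hL, x, hx⟩ := exists_unit_orderOf (F := F) k (by omega)
        (dvd_pow_sub_one_iff.2 (hk ▸ dvd_rfl) : r ∣ q ^ k - 1)
      obtain ⟨L', _, _, _, hL', y, hy⟩ := exists_unit_orderOf (F := F) l (by omega)
        (dvd_pow_sub_one_iff.2 (hl ▸ dvd_rfl) : s ∣ q ^ l - 1)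
      obtain ⟨φ, hφ⟩ := CfsgLib.KnownC.exists_units_embedding_GL_le (F := F) (L × L') (n := n) (i := k + l)
        (by rw [Module.finrank_prod, hL, hL']) h
      refine ⟨φ (MulEquiv.prodUnits.symm (x, y)), ?_⟩
      rw [orderOf_injective φ hφ, MulEquiv.orderOf_eq, Prod.orderOf, hx, hy, hcrs.lcm_eq_mul]
    · obtain ⟨L, _, _, _, hL, x, hx⟩ := exists_unit_orderOf (F := F) l (by omega)
        (Nat.Coprime.mul_dvd_of_dvd_of_dvd hcrs (dvd_pow_sub_one_iff.2 (hk ▸ h))
          (dvd_pow_sub_one_iff.2 (hl ▸ dvd_rfl)) : r * s ∣ q ^ l - 1)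
      obtain ⟨φ, hφ⟩ := CfsgLib.KnownC.exists_units_embedding_GL_le (F := F) L (n := n) hL hln
      exact ⟨φ x, by rw [orderOf_injective φ hφ, hx]⟩

/-- A unit of order `p` in a two-dimensional algebra. -/
theorem exists_unipotent_unit {p : ℕ} [Fact p.Prime] [CharP F p] :
    ∃ u : (DualNumber F)ˣ, orderOf u = p := by
  have hu : IsUnit (1 + DualNumber.eps : DualNumber F) :=
    IsNilpotent.isUnit_one_add ⟨2, by rw [sq, DualNumber.eps_mul_eps]⟩
  refine ⟨hu.unit, orderOf_eq_prime (Units.ext ?_) ?_⟩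
  · rw [Units.val_pow_eq_pow_val, IsUnit.unit_spec, Units.val_one]
    haveI : CharP (DualNumber F) p := charP_of_injective_algebraMap (algebraMap F (DualNumber F)).injective p
    rw [add_pow_char, one_pow, pow_eq_zero_of_le (Nat.Prime.two_le (Fact.out)) (by
      rw [sq, DualNumber.eps_mul_eps]), add_zero]
  · intro h
    have := congrArg (fun z : DualNumber F => TrivSqZeroExt.snd z) (congrArg Units.val h)
    simp at this

/-- A matrix of order divisible by the characteristic has a repeated factor. -/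
theorem exists_square_factor {M : Matrix (Fin n) (Fin n) F} {N : ℕ} {Q₀ : F[X]} (hQ₀ : Squarefree Q₀)
    (hdvd : minpoly F M ∣ Q₀ ^ N) (hne : aeval M Q₀ ≠ 0) :
    ∃ Q, Irreducible Q ∧ Q * Q ∣ minpoly F M := by
  have hint : IsIntegral F M := IsIntegral.of_finite F M
  by_contra hno
  push Not at hno
  have hsq : Squarefree (minpoly F M) := by
    intro x hx
    by_contra hu
    obtain ⟨Q, hQ, hQx⟩ := WfDvdMonoid.exists_irreducible_factor hu (fun h0 => minpoly.ne_zero hint (by
      rw [h0, zero_mul, zero_dvd_iff] at hx; exact hx))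
    exact hno Q hQ ((mul_dvd_mul hQx hQx).trans hx)
  obtain ⟨-, -, hd⟩ := dvd_pow_of_factors (Q := Q₀) (minpoly.ne_zero hint)
    (fun P hP hPd => hP.prime.dvd_of_dvd_pow (hPd.trans hdvd))
  exact hne ((minpoly.dvd_iff).1 (hd hsq))

theorem linear_part {p : ℕ} [Fact p.Prime] [CharP F p] {M : Matrix (Fin n) (Fin n) F} {a : F} {E : ℕ}
    (h : M.charpoly ∣ (X - C a) ^ n) (hE : n ≤ p ^ E) : M ^ p ^ E = scalar (Fin n) (a ^ p ^ E) := by
  have h1 : M.charpoly ∣ X ^ p ^ E - C (a ^ p ^ E) := by
    rw [C_pow, ← sub_pow_char_pow]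
    exact h.trans (pow_dvd_pow _ hE)
  obtain ⟨R, hR⟩ := h1
  have h2 := congrArg (aeval M) hR
  rw [map_mul, Matrix.aeval_self_charpoly, zero_mul, map_sub, map_pow, aeval_X, aeval_C, sub_eq_zero,
    Matrix.algebraMap_eq_diagonal] at h2
  exact h2

/-- An odd prime and the characteristic. -/
theorem adjacent_char_iff {p : ℕ} [Fact p.Prime] [CharP F p] (hn : 2 ≤ n) {r : ℕ} (hr : r.Prime)
    (hr2 : r ≠ 2) (hrp : r ≠ p) {k : ℕ} (hk : k = orderOf ((q : ℕ) : ZMod r)) :
    (∃ x : Matrix.ProjectiveSpecialLinearGroup (Fin n) F, orderOf x = r * p) ↔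
      ¬ (n - 2 < k ∨ (n = 3 ∧ r = 3 ∧ 3 ∣ q - 1 ∧ ¬ 9 ∣ q - 1)) := by
  classical
  have hp : p.Prime := Fact.out
  haveI := Fact.mk hr
  have hk0 : 0 < k := by
    rw [hk]
    refine orderOf_pos_iff.2 (isOfFinOrder_iff_pow_eq_one.2 ⟨r - 1, Nat.sub_pos_of_lt hr.one_lt, ?_⟩)
    exact ZMod.pow_card_sub_one_eq_one (fun h => coprime_card (F := F) hr hrp
      ((ZMod.natCast_eq_zero_iff _ _).1 h))
  have hrk : r ∣ q ^ k - 1 := dvd_pow_sub_one_iff.2 (hk ▸ dvd_rfl)
  have hcrp : r.Coprime p := (Nat.coprime_primes hr hp).2 hrp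
  have hpq : ¬ p ∣ q - 1 := by
    intro h
    obtain ⟨N, -, hc⟩ := FiniteField.card F p
    have h1 : p ∣ q := by rw [hc]; exact dvd_pow_self p N.pos.ne'
    have h2 := Nat.dvd_sub h1 h
    rw [Nat.sub_sub_self Fintype.card_pos] at h2
    exact hp.one_lt.ne' (Nat.dvd_one.1 h2)
  have hone : r ∣ q - 1 ↔ k = 1 := by
    constructor
    · intro h
      exact Nat.dvd_one.1 (hk ▸ dvd_pow_sub_one_iff.1 (by rwa [pow_one]))
    · rintro rfl; rwa [pow_one] at hrk
  rcases (show k = 1 ∨ 2 ≤ k by omega) with h1 | h1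
  · -- `r ∣ q - 1`
    have hrq : r ∣ q - 1 := hone.2 h1
    subst h1
    constructor
    · rintro ⟨x, hx⟩
      obtain ⟨g, rfl⟩ := QuotientGroup.mk_surjective x
      have hnotP : ∀ E, ¬ (QuotientGroup.mk g : Matrix.ProjectiveSpecialLinearGroup (Fin n) F) ^ p ^ E = 1 := by
        intro E h
        have h' := orderOf_dvd_of_pow_eq_one h
        rw [hx] at h'
        exact hrp ((Nat.prime_dvd_prime_iff_eq hr hp).1 (hr.dvd_of_dvd_pow ((dvd_mul_right r p).trans h')))
      intro hcon
      obtain ⟨c, hc, hgc⟩ := mk_pow_eq_one_iff.1 (hx ▸ pow_orderOf_eq_one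
        (QuotientGroup.mk g : Matrix.ProjectiveSpecialLinearGroup (Fin n) F))
      set M := (g : Matrix (Fin n) (Fin n) F) with hM
      have hc0 : c ≠ 0 := fun h0 => by rw [h0, zero_pow (by omega)] at hc; exact zero_ne_one hc
      obtain ⟨e, he⟩ : ∃ e : F, e ^ p = c := by
        exact Finite.surjective_of_injective (frobenius_inj F p) c
      have hdvd : minpoly F M ∣ (X ^ r - C e) ^ p := by
        refine minpoly.dvd F M ?_
        rw [sub_pow_char, ← pow_mul, ← C_pow, he, map_sub, map_pow, aeval_X, aeval_C, hgc,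
          Matrix.algebraMap_eq_diagonal, sub_eq_zero]
        rfl
      have he0 : e ≠ 0 := fun h0 => by rw [h0, zero_pow hp.ne_zero] at he; exact hc0 he.symm
      obtain ⟨Q, hQ, hQQ⟩ := exists_square_factor (M := M)
        ((Polynomial.separable_X_pow_sub_C e (natCast_ne_zero hr hrp) he0).squarefree) hdvd (by
          intro h
          rw [map_sub, map_pow, aeval_X, aeval_C, Matrix.algebraMap_eq_diagonal, sub_eq_zero] at h
          have hen : e ^ n = 1 := by
            have h' := congrArg Matrix.det h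
            rw [Matrix.det_pow, hM, g.2, one_pow, Matrix.det_diagonal] at h'
            simpa using h'.symm
          have h' := orderOf_dvd_of_pow_eq_one (mk_pow_eq_one_iff.2 ⟨e, hen, h⟩ :
            (QuotientGroup.mk g : Matrix.ProjectiveSpecialLinearGroup (Fin n) F) ^ r = 1)
          rw [hx] at h'
          exact hrp.symm ((Nat.prime_dvd_prime_iff_eq hp hr).1 ((dvd_mul_left p r).trans h')))
      have hQχ : Q * Q ∣ M.charpoly := hQQ.trans (Matrix.minpoly_dvd_charpoly M)
      have hχd : M.charpoly.natDegree = n := by rw [Matrix.charpoly_natDegree_eq_dim, Fintype.card_fin]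
      have hdeg := natDegree_le_of_dvd hQχ (Matrix.charpoly_monic M).ne_zero
      rw [natDegree_mul hQ.ne_zero hQ.ne_zero, hχd] at hdeg
      have hQpos := hQ.natDegree_pos
      have hQ1 : Q.natDegree = 1 := by omega
      obtain ⟨a, ha⟩ := Polynomial.exists_root_of_degree_eq_one (by
        rw [degree_eq_natDegree hQ.ne_zero, hQ1]; rfl : Q.degree = 1)
      have hXa : X - C a ∣ Q := dvd_iff_isRoot.2 ha
      obtain ⟨R, hR⟩ : (X - C a) ^ 2 ∣ M.charpoly := by
        rw [sq]; exact (mul_dvd_mul hXa hXa).trans hQχ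
      have hRm : R.Monic := ((monic_X_sub_C a).pow 2).of_mul_monic_left (hR ▸ Matrix.charpoly_monic M)
      have hdet : (-1) ^ n * M.charpoly.coeff 0 = 1 := by
        have h := Matrix.det_eq_sign_charpoly_coeff M
        rw [Fintype.card_fin] at h
        rw [← h, hM]; exact g.2
      have hRd : R.natDegree = n - 2 := by
        have h := congrArg natDegree hR
        rw [((monic_X_sub_C a).pow 2).natDegree_mul hRm, natDegree_pow, natDegree_X_sub_C, hχd] at h
        omega
      obtain ⟨E, hE⟩ : ∃ E, n ≤ p ^ E := ⟨n, (Nat.lt_pow_self hp.one_lt).le⟩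
      -- all eigenvalues are `a`
      suffices hall : M.charpoly ∣ (X - C a) ^ n by
        refine hnotP E (mk_pow_eq_one_iff.2 ⟨a ^ p ^ E, ?_, linear_part hall hE⟩)
        have h := congrArg Matrix.det (linear_part (p := p) hall hE)
        rw [Matrix.det_pow, hM, g.2, one_pow] at h
        simpa using h.symm
      rcases hcon with hsmall | ⟨h3, hr3, -, h9⟩
      · have hn2 : n = 2 := by omega
        rw [hR, hRm.natDegree_eq_zero.1 (by omega), mul_one, hn2]
      · subst h3
        obtain ⟨b, hb⟩ : ∃ b, R = X - C b := ⟨-R.coeff 0, by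
          rw [map_neg, sub_neg_eq_add]
          exact hRm.eq_X_add_C (by omega)⟩
        have hab : a ^ 2 * b = 1 := by
          rw [hR, hb, mul_coeff_zero, coeff_zero_eq_eval_zero ((X - C a) ^ 2), eval_pow] at hdet
          simp at hdet
          linear_combination hdet
        have ha0 : a ≠ 0 := fun h0 => by rw [h0] at hab; simp at hab
        have hb0 : b ≠ 0 := right_ne_zero_of_mul_eq_one hab
        have hroot : ∀ z, X - C z ∣ M.charpoly → z ^ (r * p) = c := by
          intro z hz
          have h1 : X - C z ∣ minpoly F M :=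
            CfsgLib.KnownC.irreducible_dvd_minpoly_of_dvd_charpoly M (irreducible_X_sub_C z) hz
          have h2 := dvd_iff_isRoot.1 (h1.trans hdvd)
          simp [sub_eq_zero, hp.ne_zero] at h2
          rw [pow_mul, h2, he]
        have hza := hroot a ((dvd_pow_self _ two_ne_zero).trans ⟨R, hR⟩)
        have hzb := hroot b ⟨(X - C a) ^ 2, by rw [hR, hb, mul_comm]⟩
        have ha9 : (a ^ 3) ^ (r * p) = 1 := by
          have : a ^ (r * p) * a ^ (r * p) * b ^ (r * p) = 1 := by
            rw [← mul_pow, ← mul_pow, ← sq, hab, one_pow]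
          rw [← pow_mul, mul_comm 3, pow_mul, pow_succ, sq]
          rwa [hzb, ← hza] at this
        have hqa : a ^ (q - 1) = 1 := FiniteField.pow_card_sub_one_eq_one a ha0
        have ha3 : a ^ 3 = 1 := by
          rw [← pow_mul, hr3] at ha9
          have hg := pow_gcd_eq_one.2 ⟨ha9, hqa⟩
          have hg3 : Nat.gcd (3 * (3 * p)) (q - 1) ∣ 3 := by
            set d := Nat.gcd (3 * (3 * p)) (q - 1)
            have hd1 : d ∣ 9 * p := by
              rw [show 9 * p = 3 * (3 * p) by ring]; exact Nat.gcd_dvd_left _ _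
            have hd2 : d ∣ q - 1 := Nat.gcd_dvd_right _ _
            have hd9 : d ∣ 9 := (Nat.Coprime.dvd_of_dvd_mul_right
              ((hp.coprime_iff_not_dvd.2 fun h => hpq (h.trans hd2)).symm) hd1)
            obtain ⟨j, hj, hjd⟩ := (Nat.dvd_prime_pow Nat.prime_three).1 (show d ∣ 3 ^ 2 from hd9)
            rw [hjd]
            exact (pow_dvd_pow 3 (by
              by_contra hlt
              have : j = 2 := by omega
              exact h9 (by rw [this] at hjd; rw [hjd] at hd2; exact hd2) : j ≤ 1))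
          obtain ⟨t, ht⟩ := hg3
          rw [ht, pow_mul, hg, one_pow]
        have hba : b = a := by
          linear_combination a * hab - b * ha3
        rw [hR, hb, hba, ← pow_succ]
    · intro h
      rw [not_or, not_and, not_and, not_and, not_not] at h
      have hn3 : 3 ≤ n := by omega
      obtain ⟨L₀, hL₀⟩ := IsCyclic.exists_generator (α := Fˣ)
      have hLo : orderOf L₀ = q - 1 := by
        rw [orderOf_eq_card_of_forall_mem_zpowers hL₀, Nat.card_units, Nat.card_eq_fintype_card]
      have hordF : ∀ t, t ∣ q - 1 → ∃ z : Fˣ, orderOf z = t := fun t ht =>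
        ⟨L₀ ^ ((q - 1) / t), by rw [← hLo]; exact orderOf_pow_orderOf_div (orderOf_pos L₀).ne' (hLo ▸ ht)⟩
      -- a diagonal vector: two equal entries, non-scalar, `r`-th power scalar
      obtain ⟨d, e, hde, hd1, hdr⟩ : ∃ d : Fin n → F, ∃ e : F, d ⟨0, by omega⟩ = d ⟨1, by omega⟩ ∧
          (∏ i, d i = 1 ∧ e ^ n = 1 ∧ (∃ i, d i ≠ d ⟨0, by omega⟩)) ∧ ∀ i, d i ^ r = e := by
        obtain ⟨z, hz⟩ := hordF r hrq
        have hzr : (z : F) ^ r = 1 := by
          rw [← Units.val_pow_eq_pow_val, ← hz, pow_orderOf_eq_one, Units.val_one]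
        have hz1 : (z : F) ≠ 1 := fun h' => by
          rw [show z = 1 from Units.ext h', orderOf_one] at hz; exact hr.one_lt.ne hz
        rcases Nat.lt_or_ge n 4 with hn4 | hn4
        · have : n = 3 := by omega
          subst this
          obtain ⟨a, ha1, ha2⟩ : ∃ a : Fˣ, a ^ (3 * r) = 1 ∧ a ^ 3 ≠ 1 := by
            by_cases hr3 : r = 3
            · obtain ⟨a, ha⟩ := hordF 9 (h.2 rfl hr3 (by rwa [hr3] at hrq))
              refine ⟨a, by rw [hr3, show 3 * 3 = 9 from rfl, ← ha, pow_orderOf_eq_one], fun h' => ?_⟩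
              have := Nat.le_of_dvd (by norm_num) (orderOf_dvd_of_pow_eq_one h')
              omega
            · refine ⟨z, by rw [mul_comm, pow_mul, ← hz, pow_orderOf_eq_one, one_pow], fun h' => ?_⟩
              have := orderOf_dvd_of_pow_eq_one h'
              rw [hz] at this
              exact hr3 ((Nat.prime_dvd_prime_iff_eq hr Nat.prime_three).1 this)
          have ha0 : (a : F) ≠ 0 := a.ne_zero
          have haF : (a : F) ^ (3 * r) = 1 := by rw [← Units.val_pow_eq_pow_val, ha1, Units.val_one]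
          have key : (((a : F) ^ 2)⁻¹) ^ r = (a : F) ^ r := by
            rw [inv_pow, ← pow_mul]
            refine inv_eq_of_mul_eq_one_right ?_
            rw [← pow_add, show 2 * r + r = 3 * r by ring, haF]
          refine ⟨![(a : F), a, ((a : F) ^ 2)⁻¹], (a : F) ^ r, rfl, ⟨?_, ?_, ⟨2, ?_⟩⟩, ?_⟩
          · simp [Fin.prod_univ_three]; field_simp
          · rw [← pow_mul, mul_comm, haF]
          · intro h'
            simp at h'
            refine ha2 (Units.ext ?_)
            rw [Units.val_pow_eq_pow_val, Units.val_one]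
            field_simp at h'
            linear_combination -h'
          · intro i; fin_cases i <;> simp [-inv_pow, key]
        · let i2 : Fin n := ⟨2, by omega⟩
          let i3 : Fin n := ⟨3, by omega⟩
          have h23 : i3 ≠ i2 := by simp [i2, i3, Fin.ext_iff]
          refine ⟨fun i => if i = i2 then (z : F) else if i = i3 then (z : F)⁻¹ else 1, 1, ?_,
            ⟨?_, one_pow n, ⟨i2, ?_⟩⟩, fun i => ?_⟩
          · simp [i2, i3, Fin.ext_iff]
          · rw [Finset.prod_eq_mul i2 i3 h23.symm]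
            · rw [if_pos rfl, if_neg h23, if_pos rfl, mul_inv_cancel₀ z.ne_zero]
            · intro c _ hc; rw [if_neg hc.1, if_neg hc.2]
            · simp
            · simp
          · simpa [i2, i3, Fin.ext_iff] using hz1
          · dsimp only
            split_ifs <;> simp [inv_pow, hzr]
      obtain ⟨hprod, hen, i₁, hi₁⟩ := hd1
      set i0 : Fin n := ⟨0, by omega⟩ with hi0
      set j0 : Fin n := ⟨1, by omega⟩ with hj0
      have hij : i0 ≠ j0 := by simp [hi0, hj0, Fin.ext_iff]
      let D : Matrix.SpecialLinearGroup (Fin n) F := ⟨Matrix.diagonal d, by rw [Matrix.det_diagonal, hprod]⟩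
      let T : Matrix.SpecialLinearGroup (Fin n) F :=
        ⟨Matrix.transvection i0 j0 (1 : F), Matrix.det_transvection_of_ne i0 j0 hij 1⟩
      have hcomm : Commute D T := by
        refine Subtype.ext ?_
        show Matrix.diagonal d * Matrix.transvection i0 j0 (1 : F) =
          Matrix.transvection i0 j0 (1 : F) * Matrix.diagonal d
        rw [Matrix.transvection, Matrix.mul_add, Matrix.add_mul, Matrix.mul_one, Matrix.one_mul]
        congr 1
        ext a b
        rw [Matrix.diagonal_mul, Matrix.mul_diagonal, Matrix.single_apply]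
        split_ifs with hab
        · rw [← hab.1, ← hab.2, ← hde, mul_one, one_mul]
        · simp
      have hne0 : ∀ i, d i ≠ 0 := fun i h0 => by
        rw [Finset.prod_eq_zero (Finset.mem_univ i) h0] at hprod; exact zero_ne_one hprod
      have hD : orderOf (QuotientGroup.mk D : Matrix.ProjectiveSpecialLinearGroup (Fin n) F) = r := by
        refine orderOf_eq_prime (mk_pow_eq_one_iff.2 ⟨e, hen, ?_⟩) fun h' => ?_
        · show Matrix.diagonal d ^ r = _
          rw [Matrix.diagonal_pow]
          exact congrArg Matrix.diagonal (funext hdr)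
        · obtain ⟨c, -, hc⟩ := mk_pow_eq_one_iff.1 ((pow_one _).trans h')
          rw [pow_one] at hc
          have h2 := congrFun (congrFun hc i₁) i₁
          have h3 := congrFun (congrFun hc i0) i0
          simp [D] at h2 h3
          exact hi₁ (h2.trans h3.symm)
      have hT : orderOf (QuotientGroup.mk T : Matrix.ProjectiveSpecialLinearGroup (Fin n) F) = p := by
        refine orderOf_eq_prime ?_ fun h' => ?_
        · rw [← QuotientGroup.mk_pow, show T ^ p = 1 from ?_, QuotientGroup.mk_one]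
          refine Subtype.ext ?_
          rw [Matrix.SpecialLinearGroup.coe_pow, Matrix.SpecialLinearGroup.coe_one]
          show Matrix.transvection i0 j0 (1 : F) ^ p = 1
          haveI : Nonempty (Fin n) := ⟨i0⟩
          haveI : CharP (Matrix (Fin n) (Fin n) F) p := Matrix.charP p
          rw [Matrix.transvection, add_pow_char_of_commute p (Commute.one_left _), one_pow,
            pow_eq_zero_of_le hp.two_le (by
              rw [sq]; simp [hij.symm]), add_zero]
        · obtain ⟨c, -, hc⟩ := mk_pow_eq_one_iff.1 ((pow_one _).trans h')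
          rw [pow_one] at hc
          have h2 := congrFun (congrFun hc i0) j0
          simp [T, Matrix.transvection, hij] at h2
      refine ⟨QuotientGroup.mk D * QuotientGroup.mk T, ?_⟩
      show orderOf (QuotientGroup.mk' (Subgroup.center (Matrix.SpecialLinearGroup (Fin n) F)) D *
        QuotientGroup.mk' (Subgroup.center (Matrix.SpecialLinearGroup (Fin n) F)) T) = r * p
      rw [(hcomm.map (QuotientGroup.mk' (Subgroup.center (Matrix.SpecialLinearGroup (Fin n) F)))).orderOf_mul_eq_mul_orderOf_of_coprime]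
      · exact congrArg₂ (· * ·) hD hT
      · show Nat.Coprime (orderOf (QuotientGroup.mk D : Matrix.ProjectiveSpecialLinearGroup (Fin n) F))
          (orderOf (QuotientGroup.mk T : Matrix.ProjectiveSpecialLinearGroup (Fin n) F))
        rw [hD, hT]; exact hcrp
  · -- `r ∤ q - 1`
    have hnr : ¬ r ∣ q - 1 := fun h => by have := hone.1 h; omega
    have hcop : (r * p).Coprime (q - 1) :=
      Nat.Coprime.mul_left (hr.coprime_iff_not_dvd.2 hnr) (hp.coprime_iff_not_dvd.2 hpq)
    constructor
    · rintro ⟨x, hx⟩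
      obtain ⟨A, hA⟩ := exists_lift (by omega) hcop x hx
      set M := (A : Matrix (Fin n) (Fin n) F) with hM
      have hint : IsIntegral F M := IsIntegral.of_finite F M
      have hpow : ∀ j, M ^ j = 1 ↔ r * p ∣ j := fun j => by
        rw [hM, ← Matrix.SpecialLinearGroup.coe_pow, ← Matrix.SpecialLinearGroup.coe_one, ← hA,
          orderOf_dvd_iff_pow_eq_one]
        exact ⟨fun h => Subtype.ext h, fun h => congrArg Subtype.val h⟩
      have hdvd : minpoly F M ∣ (X ^ r - 1) ^ p := by
        refine minpoly.dvd F M ?_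
        rw [sub_pow_char, ← pow_mul, one_pow, map_sub, map_pow, aeval_X, map_one, (hpow _).2 dvd_rfl, sub_self]
      have hsep : Squarefree (X ^ r - 1 : F[X]) := by
        rw [← C_1]
        exact (Polynomial.separable_X_pow_sub_C 1 (natCast_ne_zero hr hrp) one_ne_zero).squarefree
      obtain ⟨Q, hQ, hQQ⟩ := exists_square_factor (M := M) hsep hdvd (by
        rw [map_sub, map_pow, aeval_X, map_one, sub_ne_zero]
        intro h
        have h' := Nat.le_of_dvd hr.pos ((hpow r).1 h)
        have : r * 2 ≤ r * p := Nat.mul_le_mul_left r hp.two_le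
        have := hr.pos
        omega)
      obtain ⟨P, hP, hPd, hP1⟩ : ∃ P, Irreducible P ∧ P ∣ minpoly F M ∧ ¬ P ∣ X - 1 := by
        by_contra hno
        push Not at hno
        obtain ⟨N, hN, -⟩ := dvd_pow_of_factors (minpoly.ne_zero hint) hno
        obtain ⟨E, hE⟩ : ∃ E, N ≤ p ^ E := ⟨N, (Nat.lt_pow_self hp.one_lt).le⟩
        obtain ⟨R, hR⟩ := hN.trans (pow_dvd_pow _ hE)
        have h2 := congrArg (aeval M) hR
        rw [sub_pow_char_pow, one_pow, map_mul, minpoly.aeval, zero_mul, map_sub, map_pow, aeval_X, map_one,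
          sub_eq_zero] at h2
        have h3 := (hpow _).1 h2
        exact hrp ((Nat.prime_dvd_prime_iff_eq hr hp).1 (hr.dvd_of_dvd_pow ((dvd_mul_right r p).trans h3)))
      have hkP : k ∣ P.natDegree := hk ▸ order_dvd_natDegree hP hr hr.pos
        (hP.prime.dvd_of_dvd_pow (hPd.trans hdvd)) dvd_rfl (by rw [Nat.div_self hr.pos, pow_one]; exact hP1)
      have hkd := Nat.le_of_dvd hP.natDegree_pos hkP
      have hQpos := hQ.natDegree_pos
      have hdeg : ∀ R, R ∣ minpoly F M → R.natDegree ≤ n := fun R hR =>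
        (natDegree_le_of_dvd hR (minpoly.ne_zero hint)).trans (minpoly_natDegree_le M)
      rintro (hlt | ⟨h3, hr3, hq3, -⟩)
      · by_cases hPQ : P ∣ Q
        · have h := hdeg (P * P) ((mul_dvd_mul hPQ hPQ).trans hQQ)
          rw [natDegree_mul hP.ne_zero hP.ne_zero] at h
          omega
        · have h := hdeg (P * (Q * Q)) (((hP.coprime_iff_not_dvd.2 hPQ).mul_right
            (hP.coprime_iff_not_dvd.2 hPQ)).mul_dvd hPd hQQ)
          rw [natDegree_mul hP.ne_zero (mul_ne_zero hQ.ne_zero hQ.ne_zero),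
            natDegree_mul hQ.ne_zero hQ.ne_zero] at h
          omega
      · exact hnr (hr3 ▸ hq3)
    · intro h
      rw [not_or] at h
      obtain ⟨L, _, _, _, hL, x, hx⟩ := exists_unit_orderOf (F := F) k (by omega) hrk
      obtain ⟨u, hu⟩ := exists_unipotent_unit (F := F) (p := p)
      haveI : Module.Finite F (DualNumber F) := inferInstanceAs (Module.Finite F (F × F))
      have hdual : Module.finrank F (DualNumber F) = 2 := by
        show Module.finrank F (F × F) = 2
        rw [Module.finrank_prod, Module.finrank_self]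
      obtain ⟨φ, hφ⟩ := CfsgLib.KnownC.exists_units_embedding_GL_le (F := F) (L × DualNumber F) (n := n)
        (i := k + 2) (by rw [Module.finrank_prod, hL, hdual]) (by have := h.1; omega)
      refine exists_of_gl (by omega) hcop (φ (MulEquiv.prodUnits.symm (x, u))) ?_
      rw [orderOf_injective φ hφ, MulEquiv.orderOf_eq, Prod.orderOf, hx, hu, hcrp.lcm_eq_mul]

end CfsgLib.KnownB.PSLAdjacent
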