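import Mathlib

/-!
In the projective special linear groups of degree at least three, a product of two classes is not a
class: the trace of a product of conjugates takes both zero and nonzero values.
-/

set_option autoImplicit false

namespace CfsgLib.KnownB.PSLClassProduct

open Matrix

variable {F : Type*} [Field F] {d : ℕ}

theorem exists_row {S : Submodule F (Fin d → F)} {z : Fin d → F} (hz : z ∉ S) :
    ∃ φ : Fin d → F, φ ⬝ᵥ z = 1 ∧ ∀ s ∈ S, φ ⬝ᵥ s = 0 := by
  obtain ⟨f, hfz, hfS⟩ := Submodule.exists_dual_map_eq_bot_of_notMem hz inferInstance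
  refine ⟨(f z)⁻¹ • fun i => f (Pi.single i 1), ?_, fun s hs => ?_⟩
  all_goals
    have key : ∀ x : Fin d → F, (fun i => f (Pi.single i 1)) ⬝ᵥ x = f x := fun x => by
      conv_rhs => rw [pi_eq_sum_univ' x]
      simp [dotProduct, mul_comm]
    rw [smul_dotProduct, key, smul_eq_mul]
  · exact inv_mul_cancel₀ hfz
  · rw [(Submodule.eq_bot_iff _).1 hfS (f s) ⟨s, hs, rfl⟩, mul_zero]

theorem exists_notMem {S : Submodule F (Fin d → F)} (h : Module.finrank F S < d) :
    ∃ z, z ∉ S := by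
  by_contra hc
  push Not at hc
  rw [Submodule.eq_top_iff'.2 hc, finrank_top, Module.finrank_fin_fun] at h
  exact lt_irrefl _ h

theorem finrank_pair_le (a b : Fin d → F) :
    Module.finrank F (Submodule.span F ({a, b} : Set (Fin d → F))) ≤ 2 := by
  classical
  have h := finrank_span_finset_le_card (R := F) ({a, b} : Finset (Fin d → F))
  rw [Finset.coe_pair] at h
  exact h.trans Finset.card_le_two

/-- The transvection `x ↦ x + (φ x) v`. -/
def tr (v φ : Fin d → F) (h : φ ⬝ᵥ v = 0) : Matrix.SpecialLinearGroup (Fin d) F :=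
  ⟨1 + vecMulVec v φ, by
    rw [vecMulVec_eq Unit, det_one_add_replicateCol_mul_replicateRow, h, add_zero]⟩

theorem tr_apply {v φ : Fin d → F} (h : φ ⬝ᵥ v = 0) (x : Fin d → F) :
    (tr v φ h : Matrix (Fin d) (Fin d) F) *ᵥ x = x + (φ ⬝ᵥ x) • v := by
  show (1 + vecMulVec v φ) *ᵥ x = _
  rw [add_mulVec, one_mulVec, vecMulVec_mulVec]
  congr 1
  ext i
  simp [mul_comm]

theorem mul_ap (g h : Matrix.SpecialLinearGroup (Fin d) F) (x : Fin d → F) :
    ((g * h : Matrix.SpecialLinearGroup (Fin d) F) : Matrix (Fin d) (Fin d) F) *ᵥ x =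
      (g : Matrix (Fin d) (Fin d) F) *ᵥ ((h : Matrix (Fin d) (Fin d) F) *ᵥ x) := by
  rw [Matrix.SpecialLinearGroup.coe_mul, ← mulVec_mulVec]

theorem inv_ap (g : Matrix.SpecialLinearGroup (Fin d) F) (x : Fin d → F) :
    ((g⁻¹ : Matrix.SpecialLinearGroup (Fin d) F) : Matrix (Fin d) (Fin d) F) *ᵥ
      ((g : Matrix (Fin d) (Fin d) F) *ᵥ x) = x := by
  rw [← mul_ap, inv_mul_cancel, Matrix.SpecialLinearGroup.coe_one, one_mulVec]

theorem move {S : Submodule F (Fin d → F)} {x y : Fin d → F}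
    (h : x ∉ S ⊔ Submodule.span F {y - x}) :
    ∃ g : Matrix.SpecialLinearGroup (Fin d) F, (g : Matrix (Fin d) (Fin d) F) *ᵥ x = y ∧
      ∀ s ∈ S, (g : Matrix (Fin d) (Fin d) F) *ᵥ s = s := by
  obtain ⟨φ, hx, hS⟩ := exists_row h
  have h0 : φ ⬝ᵥ (y - x) = 0 := hS _ (Submodule.mem_sup_right (Submodule.mem_span_singleton_self _))
  refine ⟨tr (y - x) φ h0, by rw [tr_apply, hx, one_smul, add_sub_cancel], fun s hs => ?_⟩
  rw [tr_apply, hS s (Submodule.mem_sup_left hs), zero_smul, add_zero]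

/-- `SL` moves any vector outside a line (or zero space) to any other, fixing it. -/
theorem move_two {S : Submodule F (Fin d → F)} (hS : Module.finrank F S + 2 ≤ d) {x y : Fin d → F}
    (hx : x ∉ S) (hy : y ∉ S) :
    ∃ g : Matrix.SpecialLinearGroup (Fin d) F, (g : Matrix (Fin d) (Fin d) F) *ᵥ x = y ∧
      ∀ s ∈ S, (g : Matrix (Fin d) (Fin d) F) *ᵥ s = s := by
  have step : ∀ a b, a ∉ S → b ∉ S ⊔ Submodule.span F {a} →
      ∃ g : Matrix.SpecialLinearGroup (Fin d) F, (g : Matrix (Fin d) (Fin d) F) *ᵥ a = b ∧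
        ∀ s ∈ S, (g : Matrix (Fin d) (Fin d) F) *ᵥ s = s := by
    intro a b ha hb
    refine move fun h => hb ?_
    obtain ⟨s, hs, t, ht, e⟩ := Submodule.mem_sup.1 h
    obtain ⟨c, rfl⟩ := Submodule.mem_span_singleton.1 ht
    rcases eq_or_ne c 0 with rfl | hc
    · rw [zero_smul, add_zero] at e
      exact absurd (e ▸ hs) ha
    · have hb' : b = c⁻¹ • ((1 + c) • a - s) := by
        rw [← eq_sub_iff_add_eq'] at e
        rw [eq_inv_smul_iff₀ hc, add_smul, one_smul]
        rw [smul_sub] at e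
        linear_combination (norm := module) e
      rw [hb']
      exact Submodule.smul_mem _ _ (Submodule.sub_mem _
        (Submodule.mem_sup_right (Submodule.smul_mem _ _ (Submodule.mem_span_singleton_self _)))
        (Submodule.mem_sup_left hs))
  by_cases h : y ∈ S ⊔ Submodule.span F {x}
  · obtain ⟨z, hz⟩ := exists_notMem (S := S ⊔ Submodule.span F {x}) (by
      have h1 := Submodule.finrank_add_le_finrank_add_finrank S (Submodule.span F {x})
      have h2 : Module.finrank F (Submodule.span F {x}) ≤ 1 := by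
        rw [finrank_span_singleton (show x ≠ 0 from fun h0 => hx (h0 ▸ S.zero_mem))]
      omega)
    have hzS : z ∉ S := fun h' => hz (Submodule.mem_sup_left h')
    have hzy : y ∉ S ⊔ Submodule.span F {z} := by
      intro h'
      obtain ⟨s, hs, t, ht, e⟩ := Submodule.mem_sup.1 h'
      obtain ⟨c, rfl⟩ := Submodule.mem_span_singleton.1 ht
      rcases eq_or_ne c 0 with rfl | hc
      · rw [zero_smul, add_zero] at e
        exact hy (e ▸ hs)
      · refine hz ((Submodule.smul_mem_iff _ hc).1 ?_)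
        rw [show c • z = y - s by rw [← e, add_sub_cancel_left]]
        exact Submodule.sub_mem _ h (Submodule.mem_sup_left hs)
    obtain ⟨g₁, e1, f1⟩ := step x z hx hz
    obtain ⟨g₂, e2, f2⟩ := step z y hzS hzy
    refine ⟨g₂ * g₁, ?_, fun s hs => ?_⟩
    · exact (mul_ap _ _ _).trans (by rw [e1, e2])
    · exact (mul_ap _ _ _).trans (by rw [f1 s hs, f2 s hs])
  · exact step x y hx h

/-- Transitivity on independent pairs. -/
theorem move_pair (hd : 3 ≤ d) {u₀ u₁ v₀ v₁ : Fin d → F} (hu₀ : u₀ ≠ 0) (hv₀ : v₀ ≠ 0)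
    (hu : u₁ ∉ Submodule.span F {u₀}) (hv : v₁ ∉ Submodule.span F {v₀}) :
    ∃ g : Matrix.SpecialLinearGroup (Fin d) F,
      (g : Matrix (Fin d) (Fin d) F) *ᵥ u₀ = v₀ ∧ (g : Matrix (Fin d) (Fin d) F) *ᵥ u₁ = v₁ := by
  obtain ⟨g, hg, -⟩ := move_two (S := (⊥ : Submodule F (Fin d → F)))
    (by rw [finrank_bot]; omega) (by simpa using hu₀) (by simpa using hv₀)
  have hne : (g : Matrix (Fin d) (Fin d) F) *ᵥ u₁ ∉ Submodule.span F {v₀} := by
    intro h
    obtain ⟨c, hc⟩ := Submodule.mem_span_singleton.1 h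
    refine hu (Submodule.mem_span_singleton.2 ⟨c, ?_⟩)
    have := congrArg (((g⁻¹ : Matrix.SpecialLinearGroup (Fin d) F) : Matrix (Fin d) (Fin d) F) *ᵥ ·) hc
    simp only [mulVec_smul, inv_ap] at this
    have e := inv_ap g u₀
    rw [hg] at e
    rw [e] at this
    exact this
  obtain ⟨h, e, f⟩ := move_two (S := Submodule.span F {v₀})
    (by rw [finrank_span_singleton hv₀]; omega) hne hv
  refine ⟨h * g, ?_, ?_⟩
  · exact (mul_ap _ _ _).trans (by rw [hg, f _ (Submodule.mem_span_singleton_self _)])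
  · exact (mul_ap _ _ _).trans (by rw [e])

theorem exists_cyclic_vec {A : Matrix.SpecialLinearGroup (Fin d) F}
    (hA : A ∉ Subgroup.center (Matrix.SpecialLinearGroup (Fin d) F)) :
    ∃ u : Fin d → F, u ≠ 0 ∧ (A : Matrix (Fin d) (Fin d) F) *ᵥ u ∉ Submodule.span F {u} := by
  by_contra hc
  push Not at hc
  have hev : ∀ u : Fin d → F, ∃ c : F, c • u = (A : Matrix (Fin d) (Fin d) F) *ᵥ u := fun u => by
    rcases eq_or_ne u 0 with rfl | hu
    · exact ⟨0, by simp⟩
    · exact Submodule.mem_span_singleton.1 (hc u hu)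
  refine hA (Subgroup.mem_center_iff.2 fun g => Subtype.ext ?_)
  show (g : Matrix (Fin d) (Fin d) F) * A = A * g
  choose c hcv using fun i => hev (Pi.single i (1 : F))
  have hentry : ∀ i j, (A : Matrix (Fin d) (Fin d) F) i j = if i = j then c j else 0 := fun i j => by
    have := congrFun (hcv j) i
    simp only [mulVec_single_one, Pi.smul_apply, Matrix.col_apply, Pi.single_apply, smul_eq_mul,
      mul_ite, mul_one, mul_zero] at this
    exact this.symm
  have hconst : ∀ i j, c i = c j := by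
    intro i j
    by_cases hij : i = j
    · rw [hij]
    obtain ⟨e, he⟩ := hev (Pi.single i (1 : F) + Pi.single j 1)
    rw [mulVec_add, ← hcv i, ← hcv j] at he
    have h1 := congrFun he i
    have h2 := congrFun he j
    simp [Pi.single_apply, hij, Ne.symm hij] at h1 h2
    rw [← h1, ← h2]
  ext i j
  simp only [Matrix.mul_apply, hentry, mul_ite, ite_mul, mul_zero, zero_mul, Finset.sum_ite_eq',
    Finset.sum_ite_eq, Finset.mem_univ, if_true]
  rw [mul_comm, hconst i j]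

/-- The trace of a product of conjugates takes every value. -/
theorem exists_trace (hd : 3 ≤ d) {A B : Matrix.SpecialLinearGroup (Fin d) F}
    (hA : A ∉ Subgroup.center (Matrix.SpecialLinearGroup (Fin d) F))
    (hB : B ∉ Subgroup.center (Matrix.SpecialLinearGroup (Fin d) F)) (t : F) :
    ∃ g h : Matrix.SpecialLinearGroup (Fin d) F, Matrix.trace
      ((g * A * g⁻¹ * (h * B * h⁻¹) : Matrix.SpecialLinearGroup (Fin d) F) : Matrix (Fin d) (Fin d) F) = t := by
  obtain ⟨v, hv, hw⟩ := exists_cyclic_vec hB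
  obtain ⟨u, hu, huA⟩ := exists_cyclic_vec hA
  set w := (B : Matrix (Fin d) (Fin d) F) *ᵥ v with hwdef
  set W := Submodule.span F ({v, w} : Set (Fin d → F)) with hW
  have hvW : v ∈ W := Submodule.subset_span (by simp)
  have hwW : w ∈ W := Submodule.subset_span (by simp)
  obtain ⟨x, hx⟩ := exists_notMem (S := W) (lt_of_le_of_lt (finrank_pair_le v w) (by omega))
  have hxv : x ∉ Submodule.span F {v} := fun h => hx (Submodule.span_mono (by simp) h)
  obtain ⟨g, hgu, hgA⟩ := move_pair hd hu hv huA hxv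
  have hAv : ∀ g : Matrix.SpecialLinearGroup (Fin d) F, (g : Matrix (Fin d) (Fin d) F) *ᵥ u = v →
      ((g * A * g⁻¹ : Matrix.SpecialLinearGroup (Fin d) F) : Matrix (Fin d) (Fin d) F) *ᵥ v =
        (g : Matrix (Fin d) (Fin d) F) *ᵥ ((A : Matrix (Fin d) (Fin d) F) *ᵥ u) := fun g hg => by
    rw [mul_ap, mul_ap, ← hg, inv_ap]
  -- a conjugate of `A` fitting `v` and `w`
  obtain ⟨A', hA', hout⟩ : ∃ A' : Matrix.SpecialLinearGroup (Fin d) F, (∃ g, A' = g * A * g⁻¹) ∧
      (B : Matrix (Fin d) (Fin d) F) *ᵥ ((A' : Matrix (Fin d) (Fin d) F) *ᵥ v) -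
        (A' : Matrix (Fin d) (Fin d) F) *ᵥ w ∉ W := by
    set A₀ := g * A * g⁻¹ with hA₀
    have hA₀v : (A₀ : Matrix (Fin d) (Fin d) F) *ᵥ v = x := by rw [hA₀, hAv g hgu, hgA]
    by_cases h0 : (B : Matrix (Fin d) (Fin d) F) *ᵥ x - (A₀ : Matrix (Fin d) (Fin d) F) *ᵥ w ∈ W
    swap
    · exact ⟨A₀, ⟨g, rfl⟩, by rwa [hA₀v]⟩
    have hwS : w ∉ Submodule.span F ({v, x} : Set (Fin d → F)) := by
      intro h
      obtain ⟨a, b, e⟩ := Submodule.mem_span_pair.1 h
      rcases eq_or_ne b 0 with rfl | hb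
      · rw [zero_smul, add_zero] at e
        exact hw (Submodule.mem_span_singleton.2 ⟨a, e⟩)
      · refine hx ((Submodule.smul_mem_iff _ hb).1 ?_)
        rw [show b • x = w - a • v by rw [← e, add_sub_cancel_left]]
        exact W.sub_mem hwW (W.smul_mem _ hvW)
    obtain ⟨ψ, hψw, hψ⟩ := exists_row hwS
    have hψv : ψ ⬝ᵥ v = 0 := hψ v (Submodule.subset_span (by simp))
    have hψx : ψ ⬝ᵥ x = 0 := hψ x (Submodule.subset_span (by simp))
    set s := tr v ψ hψv with hs
    refine ⟨s * A₀ * s⁻¹, ⟨s * g, by rw [hA₀]; group⟩, ?_⟩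
    have hsv : (s : Matrix (Fin d) (Fin d) F) *ᵥ v = v := by
      rw [hs, tr_apply, hψv, zero_smul, add_zero]
    have hsx : (s : Matrix (Fin d) (Fin d) F) *ᵥ x = x := by
      rw [hs, tr_apply, hψx, zero_smul, add_zero]
    have hconj : ∀ y, ((s * A₀ * s⁻¹ : Matrix.SpecialLinearGroup (Fin d) F) : Matrix (Fin d) (Fin d) F) *ᵥ
        ((s : Matrix (Fin d) (Fin d) F) *ᵥ y) =
          (s : Matrix (Fin d) (Fin d) F) *ᵥ ((A₀ : Matrix (Fin d) (Fin d) F) *ᵥ y) := fun y => by
      rw [← mul_ap, ← mul_ap, inv_mul_cancel_right]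
    have e1 := hconj v
    rw [hsv, hA₀v, hsx] at e1
    have e2 := hconj (w - v)
    rw [show (s : Matrix (Fin d) (Fin d) F) *ᵥ (w - v) = w by
        rw [mulVec_sub, hsv, hs, tr_apply, hψw, one_smul, add_sub_cancel_right],
      mulVec_sub, hA₀v, mulVec_sub, hsx, hs, tr_apply] at e2
    rw [e1, e2]
    intro hmem
    refine hx ?_
    set a := (A₀ : Matrix (Fin d) (Fin d) F) *ᵥ w
    have h := W.add_mem (W.sub_mem hmem h0) (W.smul_mem (ψ ⬝ᵥ a) hvW)
    convert h using 1
    module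
  obtain ⟨g₁, rfl⟩ := hA'
  set A' := g₁ * A * g₁⁻¹
  obtain ⟨φ, hφ, hφW⟩ := exists_row hout
  have hφv : φ ⬝ᵥ v = 0 := hφW v hvW
  have hφw : φ ⬝ᵥ w = 0 := hφW w hwW
  -- a one parameter family
  set Am := (A' : Matrix (Fin d) (Fin d) F)
  set Bm := (B : Matrix (Fin d) (Fin d) F)
  set c := t - Matrix.trace (Am * Bm)
  set T := tr (c • v) φ (by rw [dotProduct_smul, hφv, smul_zero])
  refine ⟨g₁, T, ?_⟩
  have hT : (T : Matrix (Fin d) (Fin d) F) = 1 + c • vecMulVec v φ := by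
    show (1 + vecMulVec (c • v) φ) = _
    rw [smul_vecMulVec]
  have hTi : ((T⁻¹ : Matrix.SpecialLinearGroup (Fin d) F) : Matrix (Fin d) (Fin d) F) =
      1 - c • vecMulVec v φ := by
    have hN : vecMulVec v φ * vecMulVec v φ = 0 := by
      rw [vecMulVec_mul_vecMulVec, hφv]; ext i j; simp [vecMulVec]
    have h1 : ((T⁻¹ : Matrix.SpecialLinearGroup (Fin d) F) : Matrix (Fin d) (Fin d) F) *
        (T : Matrix (Fin d) (Fin d) F) = 1 := by
      rw [← Matrix.SpecialLinearGroup.coe_mul, inv_mul_cancel, Matrix.SpecialLinearGroup.coe_one]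
    have h2 : (T : Matrix (Fin d) (Fin d) F) * (1 - c • vecMulVec v φ) = 1 := by
      rw [hT, add_mul, one_mul, mul_sub, mul_one, smul_mul_smul_comm, hN, smul_zero, sub_zero,
        sub_add_cancel]
    exact left_inv_eq_right_inv h1 h2
  have hNBN : vecMulVec v φ * Bm * vecMulVec v φ = 0 := by
    rw [mul_assoc, mul_vecMulVec, vecMulVec_mul_vecMulVec, show φ ⬝ᵥ Bm *ᵥ v = 0 from hφw]
    ext i j; simp [vecMulVec]
  have hB' : ((T * B * T⁻¹ : Matrix.SpecialLinearGroup (Fin d) F) : Matrix (Fin d) (Fin d) F) =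
      Bm + c • (vecMulVec v φ * Bm) - c • (Bm * vecMulVec v φ) := by
    rw [Matrix.SpecialLinearGroup.coe_mul, Matrix.SpecialLinearGroup.coe_mul, hT, hTi, add_mul, one_mul,
      smul_mul_assoc, mul_sub, mul_one, mul_smul_comm, add_mul, smul_mul_assoc, hNBN, smul_zero,
      add_zero]
  rw [show g₁ * A * g₁⁻¹ * (T * B * T⁻¹) = A' * (T * B * T⁻¹) from rfl, Matrix.SpecialLinearGroup.coe_mul, hB']
  have t1 : Matrix.trace (Am * (vecMulVec v φ * Bm)) = φ ⬝ᵥ (Bm *ᵥ (Am *ᵥ v)) := by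
    rw [← mul_assoc, mul_vecMulVec, vecMulVec_mul, trace_vecMulVec, dotProduct_comm, ← dotProduct_mulVec]
  have t2 : Matrix.trace (Am * (Bm * vecMulVec v φ)) = φ ⬝ᵥ (Am *ᵥ w) := by
    rw [mul_vecMulVec, mul_vecMulVec, trace_vecMulVec, dotProduct_comm]
  rw [mul_sub, mul_add, mul_smul_comm, mul_smul_comm, trace_sub, trace_add, trace_smul, trace_smul,
    t1, t2, smul_eq_mul, smul_eq_mul, add_sub_assoc, ← mul_sub, ← dotProduct_sub, hφ, mul_one]
  exact add_sub_cancel _ _

/-- A product of two nontrivial classes is not a class. -/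
theorem not_single_class (hd : 3 ≤ d) (a b : Matrix.ProjectiveSpecialLinearGroup (Fin d) F)
    (ha : a ≠ 1) (hb : b ≠ 1) :
    ∃ g h : Matrix.ProjectiveSpecialLinearGroup (Fin d) F,
      ¬ IsConj (a * b) (g * a * g⁻¹ * (h * b * h⁻¹)) := by
  obtain ⟨A, rfl⟩ := QuotientGroup.mk_surjective a
  obtain ⟨B, rfl⟩ := QuotientGroup.mk_surjective b
  rw [Ne, QuotientGroup.eq_one_iff] at ha hb
  set t₀ := Matrix.trace ((A * B : Matrix.SpecialLinearGroup (Fin d) F) : Matrix (Fin d) (Fin d) F)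
  have hkey : ∀ g h : Matrix.SpecialLinearGroup (Fin d) F,
      IsConj ((A : Matrix.ProjectiveSpecialLinearGroup (Fin d) F) * B)
        ((g : Matrix.ProjectiveSpecialLinearGroup (Fin d) F) * A * (g : Matrix.ProjectiveSpecialLinearGroup (Fin d) F)⁻¹ *
          ((h : Matrix.ProjectiveSpecialLinearGroup (Fin d) F) * B * (h : Matrix.ProjectiveSpecialLinearGroup (Fin d) F)⁻¹)) →
      ∃ r : F, r ≠ 0 ∧ Matrix.trace
        ((g * A * g⁻¹ * (h * B * h⁻¹) : Matrix.SpecialLinearGroup (Fin d) F) : Matrix (Fin d) (Fin d) F) = r * t₀ := by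
    intro g h hc
    obtain ⟨y, hy⟩ := isConj_iff.1 hc
    obtain ⟨Y, rfl⟩ := QuotientGroup.mk_surjective y
    simp only [← QuotientGroup.mk_inv, ← QuotientGroup.mk_mul] at hy
    rw [QuotientGroup.eq] at hy
    obtain ⟨r, hr, hr'⟩ := Matrix.SpecialLinearGroup.mem_center_iff.1 hy
    refine ⟨r, fun h0 => ?_, ?_⟩
    · rw [h0, zero_pow (by rw [Fintype.card_fin]; omega)] at hr
      exact zero_ne_one hr
    · set Z := (Y * (A * B) * Y⁻¹)⁻¹ * (g * A * g⁻¹ * (h * B * h⁻¹)) with hZ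
      have e : g * A * g⁻¹ * (h * B * h⁻¹) = Y * (A * B) * Y⁻¹ * Z := by rw [hZ]; group
      rw [e, Matrix.SpecialLinearGroup.coe_mul, ← hr', scalar_apply, ← smul_one_eq_diagonal, mul_smul_comm,
        mul_one, trace_smul, smul_eq_mul, Matrix.SpecialLinearGroup.coe_mul, Matrix.SpecialLinearGroup.coe_mul,
        trace_mul_cycle, ← Matrix.SpecialLinearGroup.coe_mul Y⁻¹ Y, inv_mul_cancel, Matrix.SpecialLinearGroup.coe_one,
        one_mul]
  by_contra hcon
  push Not at hcon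
  obtain ⟨g₀, h₀, e₀⟩ := exists_trace hd ha hb (0 : F)
  obtain ⟨g₁, h₁, e₁⟩ := exists_trace hd ha hb (1 : F)
  obtain ⟨r₀, hr₀, f₀⟩ := hkey g₀ h₀ (hcon _ _)
  obtain ⟨r₁, hr₁, f₁⟩ := hkey g₁ h₁ (hcon _ _)
  rw [e₀] at f₀
  rw [e₁, (mul_eq_zero.1 f₀.symm).resolve_left hr₀, mul_zero] at f₁
  exact one_ne_zero f₁

end CfsgLib.KnownB.PSLClassProduct
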