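import Mathlib
import Cfsg.Prelude.Def_Classical
import Cfsg.Agent.Lib.KnownC.SympSpectrum
import Cfsg.Agent.Lib.KnownB.PSLAdjacent
import Cfsg.Agent.Lib.Classical.AltOrder
import Cfsg.Agent.Lib.Geom.Symp

/-!
Adjacency in the prime graph of `PSp_2n(q)`: two odd primes different from the characteristic, and an odd prime with
the characteristic.
-/

set_option autoImplicit false

namespace CfsgLib.KnownB.PSpAdjacent

open Polynomial Matrix CfsgLib.Classical.SemiPalin CfsgLib.KnownC CfsgLib.KnownC.SympSpectrum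

variable {F : Type*} [Field F] [Fintype F] {n : ℕ}

local notation "q" => Fintype.card F
local notation "π" => QuotientGroup.mk' (Subgroup.center (Matrix.symplecticGroup (Fin n) F))

/-! ### `η` -/

/-- `η k` is `k` for odd `k` and `k / 2` for even `k`. -/
def IsEta (k η : ℕ) : Prop := (Odd k ∧ η = k) ∨ (Even k ∧ 2 * η = k)

theorem dvd_of_dvd_two_mul {k η i : ℕ} (h : IsEta k η) (hi : k ∣ 2 * i) : η ∣ i := by
  rcases h with ⟨ho, rfl⟩ | ⟨-, rfl⟩
  · exact (ho.coprime_two_right).dvd_of_dvd_mul_left hi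
  · exact (Nat.mul_dvd_mul_iff_left (by omega)).1 hi

theorem sq_eq {k η : ℕ} (h : IsEta k η) : k = if Odd k then η else 2 * η := by
  rcases h with ⟨ho, rfl⟩ | ⟨he, rfl⟩
  · rw [if_pos ho]
  · rw [if_neg (Nat.not_odd_iff_even.2 he)]

theorem order_pos {p r : ℕ} [Fact p.Prime] [CharP F p] (hr : r.Prime) (hrp : r ≠ p) :
    0 < orderOf ((q : ℕ) : ZMod r) := by
  haveI := Fact.mk hr
  refine orderOf_pos_iff.2 (isOfFinOrder_iff_pow_eq_one.2 ⟨r - 1, Nat.sub_pos_of_lt hr.one_lt, ?_⟩)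
  exact ZMod.pow_card_sub_one_eq_one (fun h => PSLAdjacent.coprime_card (F := F) hr hrp
    ((ZMod.natCast_eq_zero_iff _ _).1 h))

theorem dvd_plus_of_even {r k η j : ℕ} (hr : r.Prime) (hk : k = orderOf ((q : ℕ) : ZMod r)) (hk0 : 0 < k)
    (hη : 2 * η = k) (hj : Odd j) : r ∣ q ^ (η * j) + 1 := by
  haveI := Fact.mk hr
  rw [← ZMod.natCast_eq_zero_iff, Nat.cast_add, Nat.cast_pow, Nat.cast_one, add_eq_zero_iff_eq_neg, pow_mul]
  have h : ((q : ℕ) : ZMod r) ^ η = -1 := by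
    have h1 : ((q : ℕ) : ZMod r) ^ η * ((q : ℕ) : ZMod r) ^ η = 1 := by
      rw [← pow_add, ← two_mul, hη, hk, pow_orderOf_eq_one]
    refine (mul_self_eq_one_iff.1 h1).resolve_left fun h2 => ?_
    have := Nat.le_of_dvd (by omega) (hk ▸ orderOf_dvd_of_pow_eq_one h2)
    omega
  rw [h, hj.neg_one_pow]

theorem exists_eta_dvd {r k i : ℕ} (hr : r.Prime) (hr2 : r ≠ 2) (hk : k = orderOf ((q : ℕ) : ZMod r))
    {η : ℕ} (hη : IsEta k η) (h : r ∣ q ^ i + 1) : Even k ∧ ∃ a, Odd a ∧ i = η * a := by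
  have hq : 1 ≤ q ^ i := Nat.one_le_pow _ _ Fintype.card_pos
  have h2i : k ∣ 2 * i := by
    refine hk ▸ PSLAdjacent.dvd_pow_sub_one_iff.1 ?_
    obtain ⟨c, hc⟩ : q ^ i + 1 ∣ q ^ (2 * i) - 1 := ⟨q ^ i - 1, by
      rw [mul_comm 2 i, pow_mul, sq, ← Nat.mul_self_sub_mul_self_eq]⟩
    exact h.trans ⟨c, hc⟩
  have hni : ¬ k ∣ i := by
    intro hi
    have h1 : r ∣ q ^ i - 1 := PSLAdjacent.dvd_pow_sub_one_iff.2 (hk ▸ hi)
    have h2 := Nat.dvd_sub h h1
    rw [show q ^ i + 1 - (q ^ i - 1) = 2 by omega] at h2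
    exact hr2 ((Nat.prime_dvd_prime_iff_eq hr Nat.prime_two).1 h2)
  rcases hη with ⟨ho, rfl⟩ | ⟨he, rfl⟩
  · exact absurd ((ho.coprime_two_right).dvd_of_dvd_mul_left h2i) hni
  · obtain ⟨a, rfl⟩ := (Nat.mul_dvd_mul_iff_left (by omega : 0 < 2)).1 h2i
    refine ⟨he, a, Nat.not_even_iff_odd.1 fun ⟨b, hb⟩ => hni ⟨b, by rw [hb]; ring⟩, rfl⟩

/-- Primes dividing `|PSp_2n|` have `η ≤ n`. -/
theorem eta_le {p r k η : ℕ} [Fact p.Prime] [CharP F p] (hr : r.Prime) (hrp : r ≠ p)
    (hG : r ∣ Nat.card (Cfsg.PSp n F)) (hk : k = orderOf ((q : ℕ) : ZMod r)) (hη : IsEta k η) : η ≤ n := by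
  have h1 : Nat.card (Cfsg.PSp n F) ∣ Nat.card (Matrix.symplecticGroup (Fin n) F) :=
    Subgroup.card_quotient_dvd_card _
  have h2 := hG.trans h1
  have hcard : Nat.card ↥(Matrix.symplecticGroup (Fin n) F) = q ^ (n ^ 2) *
      ∏ i ∈ Finset.range n, (q ^ (2 * (i + 1)) - 1) := by
    rw [← Nat.card_congr (CfsgLib.Geom.spEquiv n F).toEquiv]
    exact CfsgLib.Classical.card_formIsoms_alt (CfsgLib.Geom.sympBilin n F)
      CfsgLib.Geom.sympBilin_self CfsgLib.Geom.sympBilin_sep n (by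
        rw [Module.finrank_fintype_fun_eq_card, Fintype.card_sum, Fintype.card_fin]; ring)
  rw [hcard] at h2
  rcases hr.dvd_mul.1 h2 with h | h
  · exact absurd (hr.dvd_of_dvd_pow h) (PSLAdjacent.coprime_card hr hrp)
  · obtain ⟨i, hi, hd⟩ := (Prime.dvd_finsetProd_iff hr.prime _).1 h
    have h3 := dvd_of_dvd_two_mul hη (hk ▸ PSLAdjacent.dvd_pow_sub_one_iff.1 hd)
    exact (Nat.le_of_dvd (by omega) h3).trans (Finset.mem_range.1 hi)

/-! ### Orders in `Sp` and in `PSp` -/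

theorem orderOf_mk (hn : 1 ≤ n) {g : Matrix.symplecticGroup (Fin n) F} (h : Odd (orderOf g) ∨ (2 : F) = 0) :
    orderOf (π g) = orderOf g := by
  refine Nat.dvd_antisymm (orderOf_map_dvd _ _) ?_
  rcases h with h | h
  · exact (h.coprime_two_right).dvd_of_dvd_mul_left (orderOf_dvd_two_mul hn g)
  · obtain ⟨c, hc, hs⟩ := sign_of_mk_eq_one hn (g ^ orderOf (π g)) (by rw [map_pow, pow_orderOf_eq_one])
    have h1 : c = 1 := by
      have h2 : (c - 1) * (c - 1) = 0 := by linear_combination hc + (1 - c) * h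
      exact sub_eq_zero.1 (mul_self_eq_zero.1 h2)
    rw [h1, one_smul] at hs
    exact orderOf_dvd_of_pow_eq_one (Subtype.ext hs)

theorem exists_lift (hn : 1 ≤ n) {N : ℕ} (h : Odd N ∨ (2 : F) = 0) (x : Cfsg.PSp n F) (hx : orderOf x = N) :
    ∃ g : Matrix.symplecticGroup (Fin n) F, orderOf g = N := by
  obtain ⟨g, rfl⟩ := QuotientGroup.mk'_surjective _ x
  rcases h with h | h
  · have hcop : Nat.Coprime (orderOf (π g)) 2 := hx ▸ h.coprime_two_right
    have h1 : orderOf (π g ^ 2) = N := by rw [Nat.Coprime.orderOf_pow hcop, hx]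
    refine ⟨g ^ 2, Nat.dvd_antisymm (orderOf_dvd_of_pow_eq_one ?_) ?_⟩
    · rw [← pow_mul]
      exact orderOf_dvd_iff_pow_eq_one.1 (hx ▸ orderOf_dvd_two_mul hn g)
    · rw [← map_pow] at h1
      exact h1 ▸ orderOf_map_dvd _ _
  · exact ⟨g, by rw [← orderOf_mk hn (Or.inr h), hx]⟩

theorem range_iff (hn : 1 ≤ n) {N : ℕ} (h : Odd N ∨ (2 : F) = 0) :
    N ∈ Set.range (orderOf : Cfsg.PSp n F → ℕ) ↔ ∃ g : Matrix.symplecticGroup (Fin n) F, orderOf g = N :=
  ⟨fun ⟨x, hx⟩ => exists_lift hn h x hx, fun ⟨g, hg⟩ => ⟨π g, by rw [orderOf_mk hn (hg ▸ h), hg]⟩⟩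

theorem spSum₂_injective (a b : ℕ) : Function.Injective (spSum₂ (F := F) a b) := by
  refine (injective_iff_map_eq_one _).2 fun ⟨s, u⟩ h => ?_
  obtain ⟨h1, h2⟩ := spSum₂_eq_smul (s := s) (u := u) (c := (1 : F)) (by rw [one_smul]; exact congrArg Subtype.val h)
  rw [one_smul] at h1 h2
  exact Prod.ext (Subtype.ext h1) (Subtype.ext h2)

theorem exists_pad {m N : ℕ} (hm : m ≤ n) (s : Matrix.symplecticGroup (Fin m) F) (hs : orderOf s = N) :
    ∃ g : Matrix.symplecticGroup (Fin n) F, orderOf g = N := by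
  obtain ⟨j, rfl⟩ := Nat.exists_eq_add_of_le hm
  refine ⟨spSum₂ m j (s, 1), ?_⟩
  rw [orderOf_injective _ (spSum₂_injective m j), Prod.orderOf, hs, orderOf_one, Nat.lcm_one_right]

theorem exists_sum {a b M N : ℕ} (hab : a + b ≤ n) (hMN : M.Coprime N) (s : Matrix.symplecticGroup (Fin a) F)
    (hs : orderOf s = M) (u : Matrix.symplecticGroup (Fin b) F) (hu : orderOf u = N) :
    ∃ g : Matrix.symplecticGroup (Fin n) F, orderOf g = M * N :=
  exists_pad hab (spSum₂ a b (s, u))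
    (by rw [orderOf_injective _ (spSum₂_injective a b), Prod.orderOf, hs, hu, hMN.lcm_eq_mul])

theorem exists_of_dvd_plus (p : ℕ) [Fact p.Prime] [CharP F p] {m N : ℕ} (hm : 1 ≤ m)
    (h : N ∣ q ^ m + 1) : ∃ s : Matrix.symplecticGroup (Fin m) F, orderOf s = N := by
  obtain ⟨s, hs⟩ := exists_orderOf_plus (F := F) p m hm
  exact ⟨s ^ (orderOf s / N), orderOf_pow_orderOf_div (by omega) (hs ▸ h)⟩

theorem exists_of_dvd_minus (p : ℕ) [Fact p.Prime] [CharP F p] {m N : ℕ} (hm : 1 ≤ m)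
    (h : N ∣ q ^ m - 1) : ∃ s : Matrix.symplecticGroup (Fin m) F, orderOf s = N := by
  obtain ⟨s, hs⟩ := exists_orderOf_minus (F := F) p m hm
  have : 1 < q ^ m := Nat.one_lt_pow (by omega) Fintype.one_lt_card
  exact ⟨s ^ (orderOf s / N), orderOf_pow_orderOf_div (by omega) (hs ▸ h)⟩

theorem exists_block (p : ℕ) [Fact p.Prime] [CharP F p] {r k η : ℕ} (hr : r.Prime)
    (hk : k = orderOf ((q : ℕ) : ZMod r)) (hk0 : 0 < k) (hη : IsEta k η) :
    ∃ s : Matrix.symplecticGroup (Fin η) F, orderOf s = r := by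
  rcases hη with ⟨-, rfl⟩ | ⟨-, hη⟩
  · exact exists_of_dvd_minus p hk0 (PSLAdjacent.dvd_pow_sub_one_iff.2 (hk ▸ dvd_rfl))
  · exact exists_of_dvd_plus p (by omega) (by simpa using dvd_plus_of_even hr hk hk0 hη odd_one)

/-! ### Factors of the characteristic polynomial -/

theorem prime_dvd_of_dvd {P : F[X]} {N m r : ℕ} (hP : Irreducible P) (hr : r.Prime)
    (h1 : P ∣ X ^ N - 1) (hrN : r ∣ N) (h2 : ¬ P ∣ X ^ (N / r) - 1) (h3 : P ∣ X ^ m - 1) : r ∣ m := by
  haveI := Fact.mk hP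
  have hpoly : ∀ j, P ∣ X ^ j - 1 ↔ (AdjoinRoot.root P) ^ j = 1 := fun j => by
    rw [← AdjoinRoot.mk_eq_zero, map_sub, map_pow, AdjoinRoot.mk_X, map_one, sub_eq_zero]
  rw [hpoly] at h1 h2 h3
  by_contra hm
  refine h2 (orderOf_dvd_iff_pow_eq_one.1 ?_)
  have hd := Nat.dvd_gcd (orderOf_dvd_of_pow_eq_one h1) (orderOf_dvd_of_pow_eq_one h3)
  refine hd.trans ?_
  refine Nat.Coprime.dvd_of_dvd_mul_left ?_ ((Nat.gcd_dvd_left N m).trans (dvd_of_eq (Nat.mul_div_cancel' hrN).symm))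
  exact ((hr.coprime_iff_not_dvd.2 hm).coprime_dvd_right (Nat.gcd_dvd_right N m)).symm

/-- A self-reciprocal irreducible is a divisor of `X² - 1` or has degree `2i` and divides `X^(q^i+1) - 1`. -/
theorem self_cases {P : F[X]} (hP : Irreducible P) (h0 : P.coeff 0 ≠ 0)
    (ht : tilde (RingHom.id F) P = P) :
    P ∣ X ^ 2 - 1 ∨ ∃ i, 1 ≤ i ∧ P.natDegree = 2 * i ∧ P ∣ X ^ (q ^ i + 1) - 1 := by
  have := Fact.mk hP
  let K := AdjoinRoot P
  have : Module.Finite F K := (AdjoinRoot.powerBasis hP.ne_zero).finite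
  have : Finite K := Module.finite_of_finite F
  set β : K := AdjoinRoot.root P with hβ
  have hβ0 : β ≠ 0 := root_ne_zero h0
  have hinvroot : aeval β⁻¹ P = 0 :=
    aeval_inv_root h0 (by rw [ht, hβ, AdjoinRoot.aeval_eq, AdjoinRoot.mk_self]) hβ0
  let τ : K →ₐ[F] K := AdjoinRoot.liftAlgHom P (Algebra.ofId F K) β⁻¹ (by simpa [aeval_def] using hinvroot)
  have hτ : τ β = β⁻¹ := AdjoinRoot.liftAlgHom_root P _ _ _
  let τ' : K ≃ₐ[F] K := AlgEquiv.ofBijective τ
    ⟨τ.toRingHom.injective, Finite.injective_iff_surjective.1 τ.toRingHom.injective⟩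
  obtain ⟨⟨i, hi⟩, hpow⟩ := (FiniteField.bijective_frobeniusAlgEquivOfAlgebraic_pow F K).2 τ'
  have hd : Module.finrank F K = P.natDegree := by
    rw [(AdjoinRoot.powerBasis hP.ne_zero).finrank, AdjoinRoot.powerBasis_dim]
  rw [hd] at hi
  have hβi : β ^ q ^ i = β⁻¹ := by
    have h1 := DFunLike.congr_fun hpow β
    rw [AlgEquiv.coe_pow, FiniteField.coe_frobeniusAlgEquivOfAlgebraic_iterate] at h1
    exact h1.trans hτ
  have hplus : P ∣ X ^ (q ^ i + 1) - C 1 :=
    dvd_of_root_pow (by rw [map_one, pow_succ, hβi, inv_mul_cancel₀ hβ0])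
  rw [map_one] at hplus
  rcases Nat.eq_zero_or_pos i with rfl | hipos
  · exact Or.inl hplus
  · refine Or.inr ⟨i, hipos, ?_, hplus⟩
    have hfix : β ^ q ^ (i + i) = β := by
      rw [pow_add, pow_mul, hβi, inv_pow, hβi, inv_inv]
    have hone : (FiniteField.frobeniusAlgEquivOfAlgebraic F K) ^ (i + i) = 1 := by
      refine AlgEquiv.coe_algHom_injective (AdjoinRoot.algHom_ext ?_)
      show ((FiniteField.frobeniusAlgEquivOfAlgebraic F K) ^ (i + i)) β = β
      rw [AlgEquiv.coe_pow, FiniteField.coe_frobeniusAlgEquivOfAlgebraic_iterate]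
      exact hfix
    have hdvd := orderOf_dvd_of_pow_eq_one hone
    rw [FiniteField.orderOf_frobeniusAlgEquivOfAlgebraic, hd] at hdvd
    obtain ⟨t, ht'⟩ := hdvd
    rcases t with _ | _ | t
    · omega
    · omega
    · nlinarith

/-- The self-reciprocal product belonging to an irreducible. -/
noncomputable def cls (P : F[X]) : F[X] :=
  @ite _ (tilde (RingHom.id F) P = P) (_root_.Classical.propDecidable _) P (P * tilde (RingHom.id F) P)

theorem isCoprime_of_ne {P Q : F[X]} (hP : Irreducible P) (hQ : Irreducible Q) (hPm : P.Monic) (hQm : Q.Monic)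
    (h : P ≠ Q) : IsCoprime P Q :=
  hP.coprime_iff_not_dvd.2 fun hd => h (eq_of_monic_of_associated hPm hQm (hP.associated_of_dvd hQ hd))

section

variable {χ P : F[X]} (hχt : tilde (RingHom.id F) χ = χ) (hP : Irreducible P) (hPm : P.Monic)
  (h0 : P.coeff 0 ≠ 0)

include hχt in
theorem tilde_dvd {f : F[X]} (hd : f ∣ χ) : tilde (RingHom.id F) f ∣ χ := by
  obtain ⟨w, hw⟩ := hd
  exact ⟨tilde (RingHom.id F) w, by rw [← tilde_mul, ← hw, hχt]⟩

include hP hPm h0 in
theorem coprime_tilde (h : tilde (RingHom.id F) P ≠ P) : IsCoprime P (tilde (RingHom.id F) P) :=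
  isCoprime_of_ne hP (tilde_irreducible _ (fun _ => rfl) hPm h0 hP) hPm (tilde_facts _ hPm h0).1 (Ne.symm h)

include hχt hP hPm h0 in
theorem cls_dvd (hd : P ∣ χ) : cls P ∣ χ := by
  unfold cls
  split_ifs with h
  · exact hd
  · exact (coprime_tilde hP hPm h0 h).mul_dvd hd (tilde_dvd hχt hd)

include hP hPm h0 in
theorem cls_monic : (cls P).Monic ∧ Irreducible P := by
  unfold cls
  split_ifs with h
  · exact ⟨hPm, hP⟩
  · exact ⟨hPm.mul (tilde_facts _ hPm h0).1, hP⟩

include hP hPm h0 in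
theorem cls_coprime {Q : F[X]} (hQ : Irreducible Q) (hQm : Q.Monic) (hne : Q ≠ P)
    (hne' : Q ≠ tilde (RingHom.id F) P) : IsCoprime Q (cls P) := by
  unfold cls
  split_ifs with h
  · exact isCoprime_of_ne hQ hP hQm hPm hne
  · exact (isCoprime_of_ne hQ hP hQm hPm hne).mul_right
      (isCoprime_of_ne hQ (tilde_irreducible _ (fun _ => rfl) hPm h0 hP) hQm (tilde_facts _ hPm h0).1 hne')

include hP hPm h0 in
theorem cls_coprime_cls {Q : F[X]} (hQ : Irreducible Q) (hQm : Q.Monic) (hQ0 : Q.coeff 0 ≠ 0) (hne : Q ≠ P)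
    (hne' : Q ≠ tilde (RingHom.id F) P) : IsCoprime (cls Q) (cls P) := by
  have h1 := cls_coprime hP hPm h0 hQ hQm hne hne'
  rw [cls]
  split_ifs with h
  · exact h1
  · refine h1.mul_left (cls_coprime hP hPm h0 (tilde_irreducible _ (fun _ => rfl) hQm hQ0 hQ)
      (tilde_facts _ hQm hQ0).1 (fun he => hne' ?_) fun he => hne ?_)
    · rw [← he, tilde_tilde _ (fun _ => rfl) hQm hQ0]
    · rw [← tilde_tilde (RingHom.id F) (fun _ => rfl) hQm hQ0, he, tilde_tilde _ (fun _ => rfl) hPm h0]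

include hP hPm h0 in
/-- The degree of the class of a factor seeing `r`. -/
theorem cls_shape {N r k η : ℕ} (hr : r.Prime) (hr2 : r ≠ 2) (hk : k = orderOf ((q : ℕ) : ZMod r))
    (hη : IsEta k η) (hN : 0 < N) (h1 : P ∣ X ^ N - 1) (hrN : r ∣ N) (h2 : ¬ P ∣ X ^ (N / r) - 1) :
    ∃ d, 0 < d ∧ η ∣ d ∧ (cls P).natDegree = 2 * d ∧
      ((tilde (RingHom.id F) P = P ∧ P.natDegree = 2 * d ∧ Even k ∧ ∃ a, Odd a ∧ d = η * a) ∨
        (tilde (RingHom.id F) P ≠ P ∧ P.natDegree = d ∧ k ∣ d)) := by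
  by_cases h : tilde (RingHom.id F) P = P
  · rcases self_cases hP h0 h with hd | ⟨i, hi, hdeg, hd⟩
    · exact absurd ((Nat.prime_dvd_prime_iff_eq hr Nat.prime_two).1 (prime_dvd_of_dvd hP hr h1 hrN h2 hd)) hr2
    · obtain ⟨he, a, ha, hia⟩ := exists_eta_dvd hr hr2 hk hη (prime_dvd_of_dvd hP hr h1 hrN h2 hd)
      exact ⟨i, hi, ⟨a, hia⟩, by rw [cls, if_pos h, hdeg], Or.inl ⟨h, hdeg, he, a, ha, hia⟩⟩
  · have hkd : k ∣ P.natDegree := hk ▸ PSLAdjacent.order_dvd_natDegree hP hr hN h1 hrN h2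
    refine ⟨P.natDegree, hP.natDegree_pos, dvd_of_dvd_two_mul hη (hkd.mul_left 2), ?_, Or.inr ⟨h, rfl, hkd⟩⟩
    rw [cls, if_neg h, hPm.natDegree_mul (tilde_facts _ hPm h0).1, (tilde_facts _ hPm h0).2.1, two_mul]

end

theorem charpoly_facts (g : Matrix.symplecticGroup (Fin n) F) :
    g.1.charpoly.Monic ∧ g.1.charpoly.natDegree = 2 * n ∧ g.1.charpoly.coeff 0 = 1 ∧
      tilde (RingHom.id F) g.1.charpoly = g.1.charpoly := by
  have hm := g.1.charpoly_monic
  have hrev : g.1.charpoly.reverse = g.1.charpoly := CfsgLib.Classical.SemiSympExists.charpoly_symp g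
  have h0 := coeff_zero_of_rev hrev hm
  refine ⟨hm, by rw [Matrix.charpoly_natDegree_eq_dim, card_symp_index], h0, ?_⟩
  rw [tilde, srev, Polynomial.map_id, RingHom.id_apply, h0, inv_one, map_one, one_mul, hrev]

theorem coeff_zero_ne {g : Matrix.symplecticGroup (Fin n) F} {P : F[X]} (hd : P ∣ g.1.charpoly) :
    P.coeff 0 ≠ 0 := fun h => by
  obtain ⟨w, hw⟩ := hd
  have := (charpoly_facts g).2.2.1
  rw [hw, mul_coeff_zero, h, zero_mul] at this
  exact zero_ne_one this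

theorem exists_monic_factor {f : F[X]} (hf : f ≠ 0) {R : F[X]} (h : ¬ f ∣ R ∧ Squarefree f) :
    ∃ P : F[X], P.Monic ∧ Irreducible P ∧ P ∣ f ∧ ¬ P ∣ R := by
  classical
  by_contra hno
  push Not at hno
  obtain ⟨N, -, hs⟩ := PSLAdjacent.dvd_pow_of_factors (Q := R) hf (fun P hP hPd => by
    have h1 := associated_normalize P
    exact h1.dvd.trans (hno (normalize P) (monic_normalize hP.ne_zero) (h1.irreducible hP) (h1.dvd'.trans hPd)))
  exact h.1 (hs h.2)

/-! ### Two odd primes -/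

theorem adjacent_iff {p : ℕ} [Fact p.Prime] [CharP F p] (hn : 2 ≤ n) {r s : ℕ} (hr : r.Prime) (hs : s.Prime)
    (hr2 : r ≠ 2) (hs2 : s ≠ 2) (hrp : r ≠ p) (hsp : s ≠ p) (hrs : r ≠ s)
    (hsG : s ∣ Nat.card (Cfsg.PSp n F))
    {k l ηk ηl : ℕ} (hk : k = orderOf ((q : ℕ) : ZMod r)) (hl : l = orderOf ((q : ℕ) : ZMod s))
    (hηk : IsEta k ηk) (hηl : IsEta l ηl) (hkl : ηk ≤ ηl) :
    r * s ∈ Set.range (orderOf : Cfsg.PSp n F → ℕ) ↔ (ηk + ηl ≤ n ∨ ∃ t : ℕ, Odd t ∧ l = k * t) := by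
  have hk0 : 0 < k := hk ▸ order_pos hr hrp
  have hl0 : 0 < l := hl ▸ order_pos hs hsp
  have hcrs : r.Coprime s := (Nat.coprime_primes hr hs).2 hrs
  have hln : ηl ≤ n := eta_le hs hsp hsG hl hηl
  have hodd : Odd (r * s) := (hr.odd_of_ne_two hr2).mul (hs.odd_of_ne_two hs2)
  rw [range_iff (by omega) (Or.inl hodd)]
  constructor
  · rintro ⟨g, hg⟩
    obtain ⟨hχm, hχd, hχ0, hχt⟩ := charpoly_facts g
    have hint : IsIntegral F g.1 := IsIntegral.of_finite F g.1
    have hpow : ∀ j, minpoly F g.1 ∣ X ^ j - 1 ↔ r * s ∣ j := fun j => by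
      rw [minpoly.dvd_iff, map_sub, map_pow, aeval_X, map_one, sub_eq_zero, ← hg, orderOf_dvd_iff_pow_eq_one,
        ← SubmonoidClass.coe_pow]
      exact ⟨fun h => Subtype.ext h, fun h => congrArg Subtype.val h⟩
    have hsq : Squarefree (minpoly F g.1) := by
      refine Squarefree.squarefree_of_dvd ((hpow (r * s)).2 dvd_rfl) ?_
      rw [← C_1]
      exact (Polynomial.separable_X_pow_sub_C 1 (by
        rw [Nat.cast_mul]; exact mul_ne_zero (PSLAdjacent.natCast_ne_zero hr hrp)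
          (PSLAdjacent.natCast_ne_zero hs hsp)) one_ne_zero).squarefree
    have hpos : 0 < r * s := Nat.mul_pos hr.pos hs.pos
    have hfac : ∀ t, 1 < t → t ∣ r * s →
        ∃ P : F[X], P.Monic ∧ Irreducible P ∧ P ∣ minpoly F g.1 ∧ ¬ P ∣ X ^ ((r * s) / t) - 1 := by
      intro t ht htd
      refine exists_monic_factor (minpoly.ne_zero hint) ⟨fun h => ?_, hsq⟩
      exact (Nat.div_lt_self hpos ht).not_ge
        (Nat.le_of_dvd (Nat.div_pos (Nat.le_of_dvd hpos htd) (by omega)) ((hpow _).1 h))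
    obtain ⟨P, hPm, hP, hPμ, hPn⟩ := hfac r hr.one_lt (dvd_mul_right r s)
    obtain ⟨Q, hQm, hQ, hQμ, hQn⟩ := hfac s hs.one_lt (dvd_mul_left s r)
    have hPχ := hPμ.trans (Matrix.minpoly_dvd_charpoly g.1)
    have hQχ := hQμ.trans (Matrix.minpoly_dvd_charpoly g.1)
    have hP0 := coeff_zero_ne hPχ
    have hQ0 := coeff_zero_ne hQχ
    obtain ⟨d, hd0, hηd, hdd, hPsh⟩ := cls_shape hP hPm hP0 hr hr2 hk hηk hpos
      (hPμ.trans ((hpow _).2 dvd_rfl)) (dvd_mul_right r s) hPn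
    obtain ⟨e, he0, hηe, hee, hQsh⟩ := cls_shape hQ hQm hQ0 hs hs2 hl hηl hpos
      (hQμ.trans ((hpow _).2 dvd_rfl)) (dvd_mul_left s r) hQn
    have hPc := cls_dvd hχt hP hPm hP0 hPχ
    by_cases hsame : Q = P ∨ Q = tilde (RingHom.id F) P
    · rcases em (ηk + ηl ≤ n) with h | h
      · exact Or.inl h
      right
      have hdn : 2 * d ≤ 2 * n := by
        rw [← hdd, ← hχd]; exact natDegree_le_of_dvd hPc hχm.ne_zero
      have hQP : Q.natDegree = P.natDegree := by
        rcases hsame with h' | h' <;> rw [h']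
        exact (tilde_facts _ hPm hP0).2.1
      have hself : tilde (RingHom.id F) Q = Q ↔ tilde (RingHom.id F) P = P := by
        rcases hsame with h' | h' <;> rw [h']
        rw [tilde_tilde _ (fun _ => rfl) hPm hP0]
        exact eq_comm
      rcases hPsh with ⟨hPt, hPdeg, hke, a, ha, hda⟩ | ⟨hPt, hPdeg, hkd⟩
      · rcases hQsh with ⟨-, hQdeg, hle, b, hb, heb⟩ | ⟨hQt, -, -⟩
        · have hde : d = e := by omega
          have hb1 : b = 1 := by
            obtain ⟨c, rfl⟩ := hb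
            rcases Nat.eq_zero_or_pos c with rfl | hc
            · rfl
            · exfalso
              have : ηl * 3 ≤ e := heb ▸ Nat.mul_le_mul_left ηl (by omega)
              omega
          refine ⟨a, ha, ?_⟩
          have hk2 : 2 * ηk = k := by
            rcases hηk with ⟨ho, -⟩ | ⟨-, h'⟩
            · exact absurd hke (Nat.not_even_iff_odd.2 ho)
            · exact h'
          have hl2 : 2 * ηl = l := by
            rcases hηl with ⟨ho, -⟩ | ⟨-, h'⟩
            · exact absurd hle (Nat.not_even_iff_odd.2 ho)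
            · exact h'
          rw [← hk2, ← hl2, mul_assoc, ← hda, hde, heb, hb1, mul_one]
        · exact absurd (hself.2 hPt) hQt
      · rcases hQsh with ⟨hQt, -, -⟩ | ⟨-, hQdeg, hld⟩
        · exact absurd (hself.1 hQt) hPt
        · have hde : d = e := by omega
          obtain ⟨c, hc⟩ := hld
          have hlo : Odd l ∧ ηl = l := by
            rcases hηl with h' | ⟨-, h'⟩
            · exact h'
            · exfalso
              rcases Nat.eq_zero_or_pos c with rfl | hc0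
              · omega
              · have : l * 1 ≤ l * c := Nat.mul_le_mul_left l hc0
                omega
          have hc1 : c = 1 := by
            rcases (show c = 0 ∨ c = 1 ∨ 2 ≤ c by omega) with rfl | rfl | hc2
            · omega
            · rfl
            · exfalso
              have : l * 2 ≤ l * c := Nat.mul_le_mul_left l hc2
              omega
          obtain ⟨t, ht⟩ := hkd
          rw [hde, hc, hc1, mul_one] at ht
          exact ⟨t, (Nat.odd_mul.1 (ht ▸ hlo.1)).2, ht⟩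
    · rw [not_or] at hsame
      left
      have hQc := cls_dvd hχt hQ hQm hQ0 hQχ
      have h := natDegree_le_of_dvd ((cls_coprime_cls hP hPm hP0 hQ hQm hQ0 hsame.1 hsame.2).mul_dvd hQc hPc)
        hχm.ne_zero
      rw [(cls_monic hQ hQm hQ0).1.natDegree_mul (cls_monic hP hPm hP0).1, hdd, hee, hχd] at h
      have := Nat.le_of_dvd hd0 hηd
      have := Nat.le_of_dvd he0 hηe
      omega
  · rintro (h | ⟨t, ht, hlt⟩)
    · obtain ⟨a, ha⟩ := exists_block (F := F) p hr hk hk0 hηk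
      obtain ⟨b, hb⟩ := exists_block (F := F) p hs hl hl0 hηl
      exact exists_sum h hcrs a ha b hb
    · have hpar : ηl = ηk * t ∧ (Odd k ↔ Odd l) := by
        have hiff : Odd k ↔ Odd l := by rw [hlt, Nat.odd_mul]; exact ⟨fun h => ⟨h, ht⟩, fun h => h.1⟩
        refine ⟨?_, hiff⟩
        rcases hηk with ⟨ho, h1⟩ | ⟨he, h1⟩ <;> rcases hηl with ⟨ho', h2⟩ | ⟨he', h2⟩
        · rw [h1, h2, hlt]
        · exact absurd (hiff.1 ho) (Nat.not_odd_iff_even.2 he')
        · exact absurd (hiff.2 ho') (Nat.not_odd_iff_even.2 he)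
        · rw [← h1, ← h2, mul_assoc] at hlt
          omega
      have hηl0 : 1 ≤ ηl := by rcases hηl with ⟨-, h2⟩ | ⟨-, h2⟩ <;> omega
      suffices hb : ∃ b : Matrix.symplecticGroup (Fin ηl) F, orderOf b = r * s by
        obtain ⟨b, hb⟩ := hb
        exact exists_pad hln b hb
      rcases hηl with ⟨ho', h2⟩ | ⟨he', h2⟩
      · refine exists_of_dvd_minus p hηl0 (hcrs.mul_dvd_of_dvd_of_dvd
          (PSLAdjacent.dvd_pow_sub_one_iff.2 ?_) (PSLAdjacent.dvd_pow_sub_one_iff.2 ?_))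
        · rw [← hk, h2, hlt]; exact dvd_mul_right k t
        · rw [← hl, h2]
      · refine exists_of_dvd_plus p hηl0 (hcrs.mul_dvd_of_dvd_of_dvd ?_ ?_)
        · rcases hηk with ⟨ho, -⟩ | ⟨-, h1⟩
          · exact absurd (hpar.2.1 ho) (Nat.not_odd_iff_even.2 he')
          · rw [hpar.1]; exact dvd_plus_of_even hr hk hk0 h1 ht
        · simpa using dvd_plus_of_even hs hl hl0 h2 odd_one

/-! ### An odd prime and the characteristic -/

theorem adjacent_char_iff {p : ℕ} [Fact p.Prime] [CharP F p] (hn : 2 ≤ n) {r : ℕ} (hr : r.Prime) (hr2 : r ≠ 2)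
    (hrp : r ≠ p) {k η : ℕ} (hk : k = orderOf ((q : ℕ) : ZMod r)) (hη : IsEta k η) :
    r * p ∈ Set.range (orderOf : Cfsg.PSp n F → ℕ) ↔ η + 1 ≤ n := by
  classical
  have hp : p.Prime := Fact.out
  have hk0 : 0 < k := hk ▸ order_pos hr hrp
  have hcrp : r.Coprime p := (Nat.coprime_primes hr hp).2 hrp
  have hcase : Odd (r * p) ∨ (2 : F) = 0 := by
    rcases hp.eq_two_or_odd' with rfl | h
    · exact Or.inr (by exact_mod_cast CharP.cast_eq_zero F 2)
    · exact Or.inl ((hr.odd_of_ne_two hr2).mul h)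
  rw [range_iff (by omega) hcase]
  constructor
  · rintro ⟨g, hg⟩
    obtain ⟨hχm, hχd, hχ0, hχt⟩ := charpoly_facts g
    haveI : Nonempty (Fin n) := ⟨⟨0, by omega⟩⟩
    haveI : CharP (Matrix (Fin n ⊕ Fin n) (Fin n ⊕ Fin n) F) p :=
      charP_of_injective_algebraMap (algebraMap F _).injective p
    set M := g.1 with hM
    have hint : IsIntegral F M := IsIntegral.of_finite F M
    have hval : ∀ j, M ^ j = 1 ↔ r * p ∣ j := fun j => by
      rw [← hg, orderOf_dvd_iff_pow_eq_one, hM, ← SubmonoidClass.coe_pow]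
      exact ⟨fun h => Subtype.ext h, fun h => congrArg Subtype.val h⟩
    have hdvd : minpoly F M ∣ (X ^ r - 1) ^ p := by
      refine minpoly.dvd F M ?_
      rw [sub_pow_char, ← pow_mul, one_pow, map_sub, map_pow, aeval_X, map_one, (hval _).2 dvd_rfl, sub_self]
    have hXr : Squarefree (X ^ r - 1 : F[X]) := by
      rw [← C_1]
      exact (Polynomial.separable_X_pow_sub_C 1 (PSLAdjacent.natCast_ne_zero hr hrp) one_ne_zero).squarefree
    have hne : aeval M (X ^ r - 1 : F[X]) ≠ 0 := by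
      intro h
      rw [map_sub, map_pow, aeval_X, map_one, sub_eq_zero] at h
      have h' := (hval r).1 h
      exact hrp.symm ((Nat.prime_dvd_prime_iff_eq hp hr).1 ((dvd_mul_left p r).trans h'))
    -- a repeated factor
    obtain ⟨Q, hQm, hQ, hQQ⟩ : ∃ Q : F[X], Q.Monic ∧ Irreducible Q ∧ Q * Q ∣ minpoly F M := by
      by_contra hno
      push Not at hno
      have hsq : Squarefree (minpoly F M) := by
        intro x hx
        by_contra hu
        obtain ⟨Q, hQ, hQx⟩ := WfDvdMonoid.exists_irreducible_factor hu (fun h0 => minpoly.ne_zero hint (by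
          rw [h0, zero_mul, zero_dvd_iff] at hx; exact hx))
        have h1 := associated_normalize Q
        exact hno (normalize Q) (monic_normalize hQ.ne_zero) (h1.irreducible hQ)
          ((mul_dvd_mul (h1.dvd'.trans hQx) (h1.dvd'.trans hQx)).trans hx)
      obtain ⟨-, -, hd⟩ := PSLAdjacent.dvd_pow_of_factors (Q := (X ^ r - 1 : F[X])) (minpoly.ne_zero hint)
        (fun P hP hPd => hP.prime.dvd_of_dvd_pow (hPd.trans hdvd))
      exact hne ((minpoly.dvd_iff).1 (hd hsq))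
    -- a factor seeing `r`
    obtain ⟨P, hPm, hP, hPμ, hPn⟩ : ∃ P : F[X], P.Monic ∧ Irreducible P ∧ P ∣ minpoly F M ∧ ¬ P ∣ X - 1 := by
      by_contra hno
      push Not at hno
      obtain ⟨N, hN, -⟩ := PSLAdjacent.dvd_pow_of_factors (Q := (X - 1 : F[X])) (minpoly.ne_zero hint)
        (fun P hP hPd => by
          have h1 := associated_normalize P
          exact h1.dvd.trans (hno (normalize P) (monic_normalize hP.ne_zero) (h1.irreducible hP)
            (h1.dvd'.trans hPd)))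
      have h0 : (M - 1) ^ N = 0 := by
        have := (minpoly.dvd_iff).1 hN
        rwa [map_pow, map_sub, aeval_X, map_one] at this
      have h1 : M ^ p ^ N = 1 := by
        refine sub_eq_zero.1 ?_
        have h2 : (M - 1) ^ p ^ N = 0 := pow_eq_zero_of_le (Nat.lt_pow_self hp.one_lt).le h0
        rwa [sub_pow_char_pow_of_commute p N (Commute.one_right M), one_pow] at h2
      exact hrp ((Nat.prime_dvd_prime_iff_eq hr hp).1 (hr.dvd_of_dvd_pow ((dvd_mul_right r p).trans ((hval _).1 h1))))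
    have hPχ := hPμ.trans (Matrix.minpoly_dvd_charpoly M)
    have hQχ := hQQ.trans (Matrix.minpoly_dvd_charpoly M)
    have hP0 := coeff_zero_ne hPχ
    obtain ⟨d, hd0, hηd, hdd, hPsh⟩ := cls_shape hP hPm hP0 hr hr2 hk hη hr.pos
      (hP.prime.dvd_of_dvd_pow (hPμ.trans hdvd)) dvd_rfl (by rw [Nat.div_self hr.pos, pow_one]; exact hPn)
    have hPc := cls_dvd hχt hP hPm hP0 hPχ
    have hηd' := Nat.le_of_dvd hd0 hηd
    have hQpos := hQ.natDegree_pos
    by_cases hsame : Q = P ∨ Q = tilde (RingHom.id F) P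
    · rcases hPsh with ⟨hPt, hPdeg, -, -⟩ | ⟨hPt, hPdeg, -⟩
      · have hQP : Q = P := by rcases hsame with h | h <;> simp [h, hPt]
        have h := natDegree_le_of_dvd hQχ hχm.ne_zero
        rw [hQm.natDegree_mul hQm, hQP, hPdeg, hχd] at h
        omega
      · have h2 : P * P ∣ M.charpoly ∧ tilde (RingHom.id F) P * tilde (RingHom.id F) P ∣ M.charpoly := by
          have h3 := tilde_dvd hχt hQχ
          rw [tilde_mul] at h3
          rcases hsame with h | h
          · subst h; exact ⟨hQχ, h3⟩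
          · rw [h, tilde_tilde _ (fun _ => rfl) hPm hP0] at h3
            exact ⟨h3, h ▸ hQχ⟩
        have hc := coprime_tilde hP hPm hP0 hPt
        have h := natDegree_le_of_dvd (((hc.mul_right hc).mul_left (hc.mul_right hc)).mul_dvd h2.1 h2.2)
          hχm.ne_zero
        obtain ⟨hTm, hTd, -⟩ := tilde_facts (RingHom.id F) hPm hP0
        rw [(hPm.mul hPm).natDegree_mul (hTm.mul hTm), hPm.natDegree_mul hPm, hTm.natDegree_mul hTm, hTd,
          hPdeg, hχd] at h
        omega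
    · rw [not_or] at hsame
      have hc := cls_coprime hP hPm hP0 hQ hQm hsame.1 hsame.2
      have h := natDegree_le_of_dvd ((hc.mul_left hc).mul_dvd hQχ hPc) hχm.ne_zero
      rw [(hQm.mul hQm).natDegree_mul (cls_monic hP hPm hP0).1, hQm.natDegree_mul hQm, hdd, hχd] at h
      omega
  · intro h
    obtain ⟨a, ha⟩ := exists_block (F := F) p hr hk hk0 hη
    obtain ⟨u, hu⟩ := exists_orderOf_unipotent (F := F) p 1 le_rfl
    have hE : Nat.clog p (2 * 1) ≠ 0 := (Nat.clog_pos hp.one_lt (by norm_num)).ne'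
    have hu' : orderOf (u ^ (orderOf u / p)) = p :=
      orderOf_pow_orderOf_div (by rw [hu]; exact pow_ne_zero _ hp.ne_zero) (hu ▸ dvd_pow_self p hE)
    exact exists_sum h hcrp a ha _ hu'

end CfsgLib.KnownB.PSpAdjacent
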