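import Mathlib
import Cfsg.Prelude.Def_Classical
import Cfsg.Agent.Lib.KnownC.UnitarySpectrum
import Cfsg.Agent.Lib.Classical.SUOrder
import Cfsg.Agent.Lib.Classical.HermOrder
import Cfsg.Agent.Lib.KnownB.PSpAdjacent

/-!
Centralisers of elements of order `p` in `PSU_m(q)`: their orders involve only primes of `|SU_(m-2)(q)|`.
-/

set_option autoImplicit false

namespace CfsgLib.KnownB.PSUCentralP

open Matrix Polynomial CfsgLib.Classical CfsgLib.Classical.SemiPalin CfsgLib.KnownC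
  CfsgLib.KnownC.UnitarySpectrum

variable {F : Type*} [Field F] [Fintype F] {q m : ℕ} (hF : Fintype.card F = q ^ 2)

include hF in
/-- Factors of `|SU_N|`. -/
theorem dvd_card_su {N : ℕ} (hN : 2 ≤ N) :
    q ∣ Nat.card (Cfsg.SU N F q) ∧ q + 1 ∣ Nat.card (Cfsg.SU N F q) ∧
      ∀ j, 2 ≤ j → j ≤ N →
        (if Odd j then q ^ j + 1 else q ^ j - 1) ∣ Nat.card (Cfsg.SU N F q) := by
  have hcard : Nat.card (Cfsg.SU N F q) = q ^ (N * (N - 1) / 2) *
      ∏ i ∈ Finset.range (N - 1), (if Even (i + 1) then q ^ (i + 1 + 1) + 1 else q ^ (i + 1 + 1) - 1) := by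
    have h1 := card_su_mul hF (n := N) (by omega)
    rw [card_gu hF, show N = N - 1 + 1 by omega, Finset.prod_range_succ'] at h1
    simp only [Even.zero, if_true, zero_add, pow_one] at h1
    rw [show N - 1 + 1 = N by omega] at h1
    refine Nat.eq_of_mul_eq_mul_left (Nat.succ_pos q) (h1.trans ?_)
    show _ = (q + 1) * _
    ring
  have hfac : ∀ j, 2 ≤ j → j ≤ N → (if Odd j then q ^ j + 1 else q ^ j - 1) ∣ Nat.card (Cfsg.SU N F q) := by
    intro j hj hjN
    rw [hcard]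
    refine Dvd.dvd.mul_left (dvd_trans (dvd_of_eq ?_) (Finset.dvd_prod_of_mem _ (Finset.mem_range.2 (show j - 2 < N - 1 by omega)))) _
    rw [show j - 2 + 1 + 1 = j by omega]
    refine if_congr ?_ rfl rfl
    rw [show j - 2 + 1 = j - 1 by omega, Nat.odd_iff, Nat.even_iff]
    omega
  refine ⟨?_, ?_, hfac⟩
  · rw [hcard]
    have : 2 ≤ N * (N - 1) := le_trans (by omega) (Nat.le_mul_of_pos_right N (by omega))
    exact Dvd.dvd.mul_right (dvd_pow_self q (by omega)) _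
  · refine dvd_trans ?_ (hfac 2 le_rfl hN)
    rw [if_neg (by decide)]
    exact ⟨q - 1, by rw [← Nat.sq_sub_sq q 1, one_pow]⟩

include hF in
theorem exists_small (p : ℕ) [Fact p.Prime] [CharP F p] (hm : 4 ≤ m) {r : ℕ} (hr : r.Prime) (hrp : r ≠ p)
    (g : Cfsg.SU m F q) (hg : orderOf g = r * p) :
    ∃ j, 1 ≤ j ∧ j ≤ m - 2 ∧ ((Odd j ∧ r ∣ q ^ j + 1) ∨ (Even j ∧ r ∣ q ^ j - 1)) := by
  classical
  have hp : p.Prime := Fact.out
  obtain ⟨a, hq⟩ : ∃ a, q = p ^ a := by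
    obtain ⟨N, -, hN⟩ := FiniteField.card F p
    obtain ⟨i, -, hi⟩ := (Nat.dvd_prime_pow hp).1 (show q ∣ p ^ (N : ℕ) by rw [← hN, hF]; exact dvd_pow_self q (by norm_num))
    exact ⟨i, hi⟩
  set σ := qFrob hF with hσ
  haveI : Nonempty (Fin m) := ⟨⟨0, by omega⟩⟩
  haveI : CharP (Matrix (Fin m) (Fin m) F) p :=
    charP_of_injective_algebraMap (algebraMap F _).injective p
  set M := mat g with hM
  set χ := M.charpoly with hχdef
  have hχm : χ.Monic := Matrix.charpoly_monic _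
  have hχd : χ.natDegree = m := by rw [hχdef, Matrix.charpoly_natDegree_eq_dim, Fintype.card_fin]
  have hχ0 : χ.coeff 0 ≠ 0 := fun h => by
    have hd := Matrix.det_eq_sign_charpoly_coeff M
    rw [← hχdef, h, mul_zero, hM, g.1.2] at hd
    exact one_ne_zero hd
  have hχt : tilde σ χ = χ := by
    obtain ⟨G₀, hG₀⟩ : ∃ G₀ : GL (Fin m) F, (G₀ : Matrix (Fin m) (Fin m) F) = M :=
      ⟨Matrix.SpecialLinearGroup.toGL (g : Matrix.SpecialLinearGroup (Fin m) F), rfl⟩
    have hgu : G₀ ∈ Cfsg.GU m F q := by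
      rw [SemiUnitary.mem_gu_iff hF, hG₀]
      exact (CfsgLib.Classical.mem_su_iff hF _).1 g.2
    have h := SemiUnitaryExists.tilde_charpoly hF hgu
    rw [hG₀] at h
    exact h
  have hint : IsIntegral F M := IsIntegral.of_finite F M
  have hval : ∀ j, M ^ j = 1 ↔ r * p ∣ j := fun j => by
    rw [← hg, orderOf_dvd_iff_pow_eq_one, hM, ← mat_pow, ← mat_one]
    exact ⟨fun h => mat_inj h, fun h => congrArg mat h⟩
  have hdvd : minpoly F M ∣ (X ^ r - 1) ^ p := by
    refine minpoly.dvd F M ?_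
    rw [sub_pow_char, ← pow_mul, one_pow, map_sub, map_pow, aeval_X, map_one, (hval _).2 dvd_rfl, sub_self]
  have hXr : Squarefree (X ^ r - 1 : F[X]) := by
    rw [← C_1]
    exact (Polynomial.separable_X_pow_sub_C 1 (PSLAdjacent.natCast_ne_zero hr hrp) one_ne_zero).squarefree
  have hne : aeval M (X ^ r - 1 : F[X]) ≠ 0 := by
    intro h
    rw [map_sub, map_pow, aeval_X, map_one, sub_eq_zero] at h
    exact hrp.symm ((Nat.prime_dvd_prime_iff_eq hp hr).1 ((dvd_mul_left p r).trans ((hval r).1 h)))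
  obtain ⟨Q, hQm, hQ, hQQ⟩ : ∃ Q : F[X], Q.Monic ∧ Irreducible Q ∧ Q * Q ∣ minpoly F M := by
    obtain ⟨Q, hQ, hQQ⟩ := PSLAdjacent.exists_square_factor hXr hdvd hne
    have h1 := associated_normalize Q
    exact ⟨normalize Q, monic_normalize hQ.ne_zero, h1.irreducible hQ, (mul_dvd_mul h1.dvd' h1.dvd').trans hQQ⟩
  obtain ⟨P, hPm, hP, hPμ, hPn⟩ : ∃ P : F[X], P.Monic ∧ Irreducible P ∧ P ∣ minpoly F M ∧ ¬ P ∣ X - 1 := by
    by_contra hno
    push Not at hno
    obtain ⟨N, hN, -⟩ := PSLAdjacent.dvd_pow_of_factors (Q := (X - 1 : F[X])) (minpoly.ne_zero hint)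
      (fun P hP hPd => by
        have h1 := associated_normalize P
        exact h1.dvd.trans (hno (normalize P) (monic_normalize hP.ne_zero) (h1.irreducible hP)
          (h1.dvd'.trans hPd)))
    have h0 : (M - 1) ^ N = 0 := by
      have := (minpoly.dvd_iff).1 hN
      rwa [map_pow, map_sub, aeval_X, map_one] at this
    have h1 : M ^ p ^ N = 1 := by
      refine sub_eq_zero.1 ?_
      have h2 : (M - 1) ^ p ^ N = 0 := pow_eq_zero_of_le (Nat.lt_pow_self hp.one_lt).le h0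
      rwa [sub_pow_char_pow_of_commute p N (Commute.one_right M), one_pow] at h2
    exact hrp ((Nat.prime_dvd_prime_iff_eq hr hp).1
      (hr.dvd_of_dvd_pow ((dvd_mul_right r p).trans ((hval _).1 h1))))
  have hPX : P ∣ X ^ r - 1 := hP.prime.dvd_of_dvd_pow (hPμ.trans hdvd)
  have hPχ : P ∣ χ := hPμ.trans (Matrix.minpoly_dvd_charpoly M)
  have hQχ : Q * Q ∣ χ := hQQ.trans (Matrix.minpoly_dvd_charpoly M)
  have hP0 : P.coeff 0 ≠ 0 := fun h => hχ0 (by
    obtain ⟨w, hw⟩ := hPχ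
    rw [hw, mul_coeff_zero, h, zero_mul])
  have hQpos := hQ.natDegree_pos
  have hPpos := hP.natDegree_pos
  by_cases ht : tilde σ P = P
  · -- self-conjugate: odd degree `D`, `r ∣ q ^ D + 1`
    haveI := Fact.mk hP
    obtain ⟨hodd, hroot⟩ := self_tilde_root hF hq hP0 ht
    have hd : P ∣ X ^ (q ^ P.natDegree + 1) - 1 := by
      rw [← AdjoinRoot.mk_eq_zero, map_sub, map_pow, AdjoinRoot.mk_X, map_one, hroot, sub_self]
    have hdiv : r ∣ q ^ P.natDegree + 1 :=
      PSpAdjacent.prime_dvd_of_dvd hP hr hPX dvd_rfl (by rw [Nat.div_self hr.pos, pow_one]; exact hPn) hd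
    refine ⟨P.natDegree, hP.natDegree_pos, ?_, Or.inl ⟨hodd, hdiv⟩⟩
    by_cases hQP : Q = P
    · have h := natDegree_le_of_dvd hQχ hχm.ne_zero
      rw [hQm.natDegree_mul hQm, hQP, hχd] at h
      omega
    · have hc := PSpAdjacent.isCoprime_of_ne hQ hP hQm hPm hQP
      have h := natDegree_le_of_dvd ((hc.mul_left hc).mul_dvd hQχ hPχ) hχm.ne_zero
      rw [(hQm.mul hQm).natDegree_mul hPm, hQm.natDegree_mul hQm, hχd] at h
      omega
  · -- a pair: `r ∣ q ^ (2 j) - 1`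
    obtain ⟨hTm, hTd, -⟩ := tilde_facts σ hPm hP0
    have hT := tilde_irreducible σ (qFrob_qFrob hF) hPm hP0 hP
    have hdiv : r ∣ q ^ (2 * P.natDegree) - 1 := by
      rw [pow_mul, ← hF]
      refine PSLAdjacent.dvd_pow_sub_one_iff.2 (PSLAdjacent.order_dvd_natDegree hP hr hr.pos hPX dvd_rfl ?_)
      rw [Nat.div_self hr.pos, pow_one]
      exact hPn
    refine ⟨2 * P.natDegree, by omega, ?_, Or.inr ⟨even_two_mul _, hdiv⟩⟩
    have htd : ∀ f : F[X], f ∣ χ → tilde σ f ∣ χ := fun f hf => by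
      obtain ⟨w, hw⟩ := hf
      exact ⟨tilde σ w, by rw [← tilde_mul, ← hw, hχt]⟩
    have hc : IsCoprime P (tilde σ P) := PSpAdjacent.isCoprime_of_ne hP hT hPm hTm (Ne.symm ht)
    by_cases hsame : Q = P ∨ Q = tilde σ P
    · have h2 : P * P ∣ χ ∧ tilde σ P * tilde σ P ∣ χ := by
        have h3 := htd _ hQχ
        rw [tilde_mul] at h3
        rcases hsame with h | h
        · subst h; exact ⟨hQχ, h3⟩
        · rw [h, tilde_tilde _ (qFrob_qFrob hF) hPm hP0] at h3
          exact ⟨h3, h ▸ hQχ⟩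
      have h := natDegree_le_of_dvd (((hc.mul_right hc).mul_left (hc.mul_right hc)).mul_dvd h2.1 h2.2) hχm.ne_zero
      rw [(hPm.mul hPm).natDegree_mul (hTm.mul hTm), hPm.natDegree_mul hPm, hTm.natDegree_mul hTm, hTd, hχd] at h
      omega
    · rw [not_or] at hsame
      have hcQ : IsCoprime Q (P * tilde σ P) :=
        (PSpAdjacent.isCoprime_of_ne hQ hP hQm hPm hsame.1).mul_right
          (PSpAdjacent.isCoprime_of_ne hQ hT hQm hTm hsame.2)
      have h := natDegree_le_of_dvd ((hcQ.mul_left hcQ).mul_dvd hQχ (hc.mul_dvd hPχ (htd _ hPχ))) hχm.ne_zero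
      rw [(hQm.mul hQm).natDegree_mul (hPm.mul hTm), hQm.natDegree_mul hQm, hPm.natDegree_mul hTm, hTd, hχd] at h
      omega

include hF in
theorem primeFactors_subset (p : ℕ) [Fact p.Prime] [CharP F p] (hm : 4 ≤ m) (a b : Cfsg.PSU m F q)
    (ha : orderOf a = p) (hab : Commute a b) :
    (orderOf b).primeFactors ⊆ (Nat.card ↥(Cfsg.SU (m - 2) F q)).primeFactors := by
  classical
  intro r hr
  obtain ⟨hrp', hrb, -⟩ := Nat.mem_primeFactors.1 hr
  obtain ⟨hqd, hq1, hfac⟩ := dvd_card_su hF (N := m - 2) (by omega)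
  refine Nat.mem_primeFactors.2 ⟨hrp', ?_, Nat.card_pos.ne'⟩
  rcases eq_or_ne r p with rfl | hrp
  · have : r ∣ q := by
      obtain ⟨N, -, hN⟩ := FiniteField.card F r
      exact hrp'.dvd_of_dvd_pow (hF ▸ hN ▸ dvd_pow_self r N.ne_zero)
    exact this.trans hqd
  set b' := b ^ (orderOf b / r) with hb'
  have hob : orderOf b' = r := orderOf_pow_orderOf_div (orderOf_pos b).ne' hrb
  have hoab : orderOf (b' * a) = r * p := by
    rw [(hab.symm.pow_left _).orderOf_mul_eq_mul_orderOf_of_coprime, hob, ha]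
    rw [hob, ha]
    exact (Nat.coprime_primes hrp' Fact.out).2 hrp
  obtain ⟨g, hg⟩ := QuotientGroup.mk'_surjective _ (b' * a)
  have hdiv : r * p ∣ orderOf g := hoab ▸ hg ▸ orderOf_map_dvd _ g
  obtain ⟨j, hj1, hjN, hj⟩ := exists_small hF p hm hrp' hrp (g ^ (orderOf g / (r * p)))
    (orderOf_pow_orderOf_div (orderOf_pos g).ne' hdiv)
  rcases Nat.lt_or_ge j 2 with hj2 | hj2
  · obtain rfl : j = 1 := by omega
    rcases hj with ⟨-, h⟩ | ⟨h, -⟩
    · exact (by simpa using h : r ∣ q + 1).trans hq1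
    · exact absurd h (by decide)
  · refine dvd_trans ?_ (hfac j hj2 hjN)
    rcases hj with ⟨ho, h⟩ | ⟨he, h⟩
    · rwa [if_pos ho]
    · rwa [if_neg (Nat.not_odd_iff_even.2 he)]

end CfsgLib.KnownB.PSUCentralP
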