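import Cfsg.Agent.Lib.Classical.SLGen
import Mathlib.RingTheory.IntegralDomain
import Mathlib.LinearAlgebra.Matrix.Block
import Mathlib.LinearAlgebra.Matrix.Permutation

/-!
# `SL_n(q)` is generated by three conjugate regular unipotent elements

`u` is upper bidiagonal, `v = g u g⁻¹` lower bidiagonal and `u' = y u y⁻¹ = u (1 + E_{1n})`.
The transvection `1 + E_{1n}` then spreads over the field and over all root subgroups.
-/

set_option autoImplicit false
set_option linter.unusedSectionVars false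
set_option linter.unusedSimpArgs false

namespace CfsgLib.KnownB.RegUnip

open Matrix CfsgLib.Classical

universe u

variable {F : Type u} [Field F]

section Calc

variable {ι : Type*} [Fintype ι] [DecidableEq ι]

local notation "SLi" => Matrix.SpecialLinearGroup ι F
local notation "Mi" => Matrix ι ι F

/-- `H` contains the map `1 + P φ`. -/
def R (H : Subgroup SLi) (P φ : ι → F) : Prop := ∃ h ∈ H, (h : Mi) = 1 + vecMulVec P φ

theorem vv_mul {P φ Q ψ : ι → F} : vecMulVec P φ * vecMulVec Q ψ = (φ ⬝ᵥ Q) • vecMulVec P ψ := by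
  ext i j
  simp only [Matrix.mul_apply, vecMulVec_apply, Matrix.smul_apply, smul_eq_mul, dotProduct,
    Finset.sum_mul]
  exact Finset.sum_congr rfl fun k _ => by ring

theorem vv_mul_zero {P φ Q ψ : ι → F} (h : φ ⬝ᵥ Q = 0) : vecMulVec P φ * vecMulVec Q ψ = 0 := by
  rw [vv_mul, h, zero_smul]

variable {H : Subgroup (Matrix.SpecialLinearGroup ι F)}

theorem R_zero (φ : ι → F) : R H 0 φ := ⟨1, one_mem _, by simp⟩

theorem R_add {P Q φ : ι → F} (hQ : φ ⬝ᵥ Q = 0) (h1 : R H P φ) (h2 : R H Q φ) : R H (P + Q) φ := by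
  obtain ⟨a, ha, ea⟩ := h1
  obtain ⟨b, hb, eb⟩ := h2
  refine ⟨a * b, mul_mem ha hb, ?_⟩
  rw [Matrix.SpecialLinearGroup.coe_mul, ea, eb]
  simp only [add_mul, mul_add, one_mul, mul_one, vv_mul_zero hQ, add_zero, add_vecMulVec]
  abel

theorem R_add' {P φ ψ : ι → F} (hP : φ ⬝ᵥ P = 0) (h1 : R H P φ) (h2 : R H P ψ) :
    R H P (φ + ψ) := by
  obtain ⟨a, ha, ea⟩ := h1
  obtain ⟨b, hb, eb⟩ := h2
  refine ⟨a * b, mul_mem ha hb, ?_⟩
  rw [Matrix.SpecialLinearGroup.coe_mul, ea, eb]
  simp only [add_mul, mul_add, one_mul, mul_one, vv_mul_zero hP, add_zero, vecMulVec_add]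
  abel

theorem R_neg {P φ : ι → F} (hP : φ ⬝ᵥ P = 0) (h1 : R H P φ) : R H (-P) φ := by
  obtain ⟨a, ha, ea⟩ := h1
  refine ⟨a⁻¹, inv_mem ha, ?_⟩
  obtain ⟨b, hb⟩ : ∃ b : Mi, b = 1 + vecMulVec (-P) φ := ⟨_, rfl⟩
  have h : (a : Mi) * b = 1 := by
    rw [ea, hb]
    simp only [add_mul, mul_add, one_mul, mul_one,
      vv_mul_zero (show φ ⬝ᵥ (-P) = 0 by simp [hP]), add_zero]
    rw [neg_vecMulVec]
    abel
  have h' : ((a⁻¹ : SLi) : Mi) * (a : Mi) = 1 := by
    rw [← Matrix.SpecialLinearGroup.coe_mul, inv_mul_cancel, Matrix.SpecialLinearGroup.coe_one]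
  rw [← hb]
  calc ((a⁻¹ : SLi) : Mi) = ((a⁻¹ : SLi) : Mi) * ((a : Mi) * b) := by rw [h, mul_one]
    _ = b := by rw [← mul_assoc, h', one_mul]

theorem R_sub {P Q φ : ι → F} (hQ : φ ⬝ᵥ Q = 0) (h1 : R H P φ) (h2 : R H Q φ) : R H (P - Q) φ := by
  rw [sub_eq_add_neg]
  exact R_add (by simp [hQ]) h1 (R_neg hQ h2)

theorem R_smul_comm {P φ : ι → F} (c : F) (h : R H (c • P) φ) : R H P (c • φ) := by
  obtain ⟨a, ha, ea⟩ := h
  exact ⟨a, ha, by rw [ea, smul_vecMulVec, vecMulVec_smul]⟩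

theorem R_smul_comm' {P φ : ι → F} (c : F) (h : R H P (c • φ)) : R H (c • P) φ := by
  obtain ⟨a, ha, ea⟩ := h
  exact ⟨a, ha, by rw [ea, smul_vecMulVec, vecMulVec_smul]⟩

theorem R_conj {g : SLi} (hg : g ∈ H) {P φ : ι → F} (h : R H P φ) :
    R H ((g : Mi) *ᵥ P) (φ ᵥ* ((g⁻¹ : SLi) : Mi)) := by
  obtain ⟨a, ha, ea⟩ := h
  refine ⟨g * a * g⁻¹, mul_mem (mul_mem hg ha) (inv_mem hg), ?_⟩
  rw [Matrix.SpecialLinearGroup.coe_mul, Matrix.SpecialLinearGroup.coe_mul, ea, mul_add, add_mul,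
    mul_one, ← Matrix.SpecialLinearGroup.coe_mul, mul_inv_cancel, Matrix.SpecialLinearGroup.coe_one,
    mul_vecMulVec, vecMulVec_mul]

theorem R_comm {P φ Q ψ : ι → F} (hP : φ ⬝ᵥ P = 0) (hQ : ψ ⬝ᵥ Q = 0) (hφQ : φ ⬝ᵥ Q = 0)
    (h1 : R H P φ) (h2 : R H Q ψ) : R H ((-(ψ ⬝ᵥ P)) • Q) φ := by
  obtain ⟨a', ha', ea'⟩ := R_neg hP h1
  obtain ⟨b', hb', eb'⟩ := R_neg hQ h2
  obtain ⟨a, ha, ea⟩ := h1
  obtain ⟨b, hb, eb⟩ := h2
  refine ⟨a * b * a' * b', mul_mem (mul_mem (mul_mem ha hb) ha') hb', ?_⟩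
  simp only [Matrix.SpecialLinearGroup.coe_mul, ea, eb, ea', eb', neg_vecMulVec, add_mul, mul_add,
    one_mul, mul_one, mul_neg, neg_mul, neg_neg, vv_mul, hP, hQ, hφQ, zero_smul, smul_vecMulVec,
    neg_smul, smul_mul_assoc, mul_smul_comm, smul_smul, mul_zero, zero_mul, smul_zero, neg_zero,
    add_zero, zero_add]
  abel

/-- All transvections with axis `φ` lie in `H`. -/
def Full (H : Subgroup SLi) (φ : ι → F) : Prop := ∀ P, φ ⬝ᵥ P = 0 → R H P φ

theorem full_conj {g : SLi} (hg : g ∈ H) {φ : ι → F} (h : Full H φ) :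
    Full H (φ ᵥ* (g : Mi)) := by
  intro P hP
  have h0 : φ ⬝ᵥ ((g : Mi) *ᵥ P) = 0 := by rw [dotProduct_mulVec]; exact hP
  have := R_conj (inv_mem hg) (h _ h0)
  rwa [inv_inv, mulVec_mulVec, ← Matrix.SpecialLinearGroup.coe_mul, inv_mul_cancel,
    Matrix.SpecialLinearGroup.coe_one, one_mulVec] at this

theorem eq_top_of_full (h : ∀ j : ι, Full H (Pi.single j (1 : F))) : H = ⊤ := by
  refine sl_transvection_induction H fun i j hij c => ?_
  obtain ⟨a, ha, ea⟩ := h j (Pi.single i c) (by simp [hij.symm])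
  convert ha using 1
  refine Subtype.ext ?_
  rw [ea]
  ext r s
  simp [Matrix.SpecialLinearGroup.transvection, Matrix.transvection, Matrix.single_apply,
    vecMulVec_apply, Pi.single_apply]
  by_cases hr : r = i <;> by_cases hs : s = j <;> simp [hr, hs, Ne.symm]

end Calc

variable {m : ℕ}

local notation "SN" => Matrix.SpecialLinearGroup (Fin (m + 1)) F
local notation "MN" => Matrix (Fin (m + 1)) (Fin (m + 1)) F

/-- Coordinate vector. -/
def e (i : Fin (m + 1)) : Fin (m + 1) → F := Pi.single i 1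

theorem e_dot (i j : Fin (m + 1)) : e (F := F) i ⬝ᵥ e j = if i = j then 1 else 0 := by
  simp [e, Pi.single_apply, eq_comm]

/-- The index `k`, taken modulo `m + 1`. -/
def ix (m k : ℕ) : Fin (m + 1) := Fin.ofNat (m + 1) k

theorem ix_val {k : ℕ} (hk : k ≤ m) : (ix m k : ℕ) = k := Nat.mod_eq_of_lt (by omega)

theorem ix_eq_iff {j k : ℕ} (hj : j ≤ m) (hk : k ≤ m) : ix m j = ix m k ↔ j = k := by
  rw [Fin.ext_iff, ix_val hj, ix_val hk]

theorem ix_coe (i : Fin (m + 1)) : ix m (i : ℕ) = i := Fin.ext (ix_val (by omega))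

theorem e_ix_dot {j k : ℕ} (hj : j ≤ m) (hk : k ≤ m) :
    e (F := F) (ix m j) ⬝ᵥ e (ix m k) = if j = k then 1 else 0 := by
  rw [e_dot]
  exact if_congr (ix_eq_iff hj hk) rfl rfl

/-- Upper bidiagonal matrix. -/
def upB (a : ℕ → F) : MN :=
  Matrix.of fun i j => if i = j then 1 else if (j : ℕ) = i + 1 then a i else 0

/-- Lower bidiagonal matrix. -/
def loB (b : ℕ → F) : MN :=
  Matrix.of fun i j => if i = j then 1 else if (i : ℕ) = j + 1 then b j else 0

theorem upB_mulVec_e (a : ℕ → F) {k : ℕ} (hk : k + 1 ≤ m) :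
    (upB a : MN) *ᵥ e (ix m (k + 1)) = e (ix m (k + 1)) + a k • e (ix m k) := by
  funext r
  simp only [e, Matrix.mulVec_single, MulOpposite.op_one, one_smul, Matrix.col_apply, upB,
    Matrix.of_apply, Pi.add_apply, Pi.smul_apply, Pi.single_apply, smul_eq_mul, mul_ite, mul_one,
    mul_zero, Fin.ext_iff, ix_val hk, ix_val (show k ≤ m by omega)]
  by_cases h1 : (r : ℕ) = k + 1
  · simp [h1]
  · by_cases h2 : (r : ℕ) = k
    · simp [h2]
    · simp [h1, h2, Ne.symm h2]

theorem upB_mulVec_e_zero (a : ℕ → F) : (upB a : MN) *ᵥ e (ix m 0) = e (ix m 0) := by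
  funext r
  simp only [e, Matrix.mulVec_single, MulOpposite.op_one, one_smul, Matrix.col_apply, upB,
    Matrix.of_apply, Pi.single_apply, Fin.ext_iff, ix_val (Nat.zero_le m)]
  split_ifs <;> first | rfl | omega | contradiction

theorem e_last_vecMul_upB (a : ℕ → F) : e (ix m m) ᵥ* (upB a : MN) = e (ix m m) := by
  funext c
  simp only [e, Matrix.single_vecMul, one_smul, Matrix.row_apply, upB, Matrix.of_apply,
    Pi.single_apply, Fin.ext_iff, ix_val le_rfl]
  have := c.isLt
  split_ifs <;> first | rfl | omega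

theorem loB_mulVec_e (b : ℕ → F) {k : ℕ} (hk : k + 1 ≤ m) :
    (loB b : MN) *ᵥ e (ix m k) = e (ix m k) + b k • e (ix m (k + 1)) := by
  funext r
  simp only [e, Matrix.mulVec_single, MulOpposite.op_one, one_smul, Matrix.col_apply, loB,
    Matrix.of_apply, Pi.add_apply, Pi.smul_apply, Pi.single_apply, smul_eq_mul, mul_ite, mul_one,
    mul_zero, Fin.ext_iff, ix_val hk, ix_val (show k ≤ m by omega)]
  by_cases h1 : (r : ℕ) = k + 1
  · simp [h1]
  · by_cases h2 : (r : ℕ) = k
    · simp [h2]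
    · simp [h1, h2]

theorem e_vecMul_loB (b : ℕ → F) {k : ℕ} (hk : k + 1 ≤ m) :
    e (ix m (k + 1)) ᵥ* (loB b : MN) = e (ix m (k + 1)) + b k • e (ix m k) := by
  funext c
  simp only [e, Matrix.single_vecMul, one_smul, Matrix.row_apply, loB, Matrix.of_apply, Pi.add_apply,
    Pi.smul_apply, Pi.single_apply, smul_eq_mul, mul_ite, mul_one, mul_zero, Fin.ext_iff, ix_val hk,
    ix_val (show k ≤ m by omega)]
  by_cases h1 : (c : ℕ) = k + 1
  · simp [h1]
  · by_cases h2 : (c : ℕ) = k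
    · simp [h2]
    · simp [h1, h2, Ne.symm h1, Ne.symm h2]

section Engine

variable (hm : 2 ≤ m) {H : Subgroup (Matrix.SpecialLinearGroup (Fin (m + 1)) F)}
  {u v : Matrix.SpecialLinearGroup (Fin (m + 1)) F} (hu : u ∈ H) (hv : v ∈ H) {a b : ℕ → F}
  (hua : (u : Matrix (Fin (m + 1)) (Fin (m + 1)) F) = upB a)
  (hvb : (v : Matrix (Fin (m + 1)) (Fin (m + 1)) F) = loB b)

include hm hu hv hua hvb in
theorem mul_closed {c : F} (h1 : R H (e (ix m 0)) (e (ix m m)))
    (hc : R H (c • e (ix m 0)) (e (ix m m))) :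
    R H ((((v⁻¹ : SN) : MN) (ix m m) (ix m 0) * b 0 * a 0 * c) • e (ix m 0)) (e (ix m m)) ∧
    (∀ k, k + 1 < m →
      R H ((((v⁻¹ : SN) : MN) (ix m m) (ix m 0) * c) • (e (ix m k) + b k • e (ix m (k + 1))))
        (e (ix m m)) ∨ ¬ R H (e (ix m k)) (e (ix m m))) := by
  obtain ⟨κ, hκ⟩ : ∃ κ, ((v⁻¹ : SN) : MN) (ix m m) (ix m 0) = κ := ⟨_, rfl⟩
  rw [hκ]
  have hl0 : ∀ {k : ℕ}, k < m → e (F := F) (ix m m) ⬝ᵥ e (ix m k) = 0 := fun {k} hk => by
    rw [e_ix_dot le_rfl hk.le, if_neg hk.ne']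
  have gen : ∀ k, k + 1 < m → R H (e (ix m k)) (e (ix m m)) →
      R H (-((κ * c) • (e (ix m k) + b k • e (ix m (k + 1))))) (e (ix m m)) := by
    intro k hk hR
    have h2 := R_conj hv hR
    rw [hvb, loB_mulVec_e b (by omega)] at h2
    have h3 := R_comm (H := H) (P := c • e (ix m 0)) (φ := e (ix m m))
      (Q := e (ix m k) + b k • e (ix m (k + 1))) (ψ := e (ix m m) ᵥ* ((v⁻¹ : SN) : MN))
      (by rw [dotProduct_smul, hl0 (by omega), smul_zero])
      (by
        rw [← loB_mulVec_e b (by omega), ← hvb, dotProduct_mulVec, vecMul_vecMul,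
          ← Matrix.SpecialLinearGroup.coe_mul, inv_mul_cancel, Matrix.SpecialLinearGroup.coe_one,
          vecMul_one, hl0 (by omega)])
      (by rw [dotProduct_add, dotProduct_smul, hl0 (by omega), hl0 hk, smul_zero, add_zero])
      hc h2
    rw [dotProduct_smul, ← dotProduct_mulVec] at h3
    have e0 : e (ix m m) ⬝ᵥ (((v⁻¹ : SN) : MN) *ᵥ e (ix m 0)) = κ := by
      rw [← hκ]; simp [e, Matrix.mulVec_single]
    rw [e0, neg_smul, smul_eq_mul, mul_comm c κ] at h3
    exact h3
  refine ⟨?_, fun k hk => ?_⟩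
  · have h4 := gen 0 (by omega) h1
    have h5 := R_conj (inv_mem hu) h4
    rw [inv_inv, hua, e_last_vecMul_upB] at h5
    have hu0 : ((u⁻¹ : SN) : MN) *ᵥ e (ix m 0) = e (ix m 0) := by
      conv_lhs => rw [← upB_mulVec_e_zero a, ← hua, mulVec_mulVec,
        ← Matrix.SpecialLinearGroup.coe_mul, inv_mul_cancel, Matrix.SpecialLinearGroup.coe_one,
        one_mulVec]
    have hu1 : ((u⁻¹ : SN) : MN) *ᵥ e (ix m (0 + 1)) = e (ix m (0 + 1)) - a 0 • e (ix m 0) := by
      have := congrArg (((u⁻¹ : SN) : MN) *ᵥ ·) (upB_mulVec_e a (show 0 + 1 ≤ m by omega))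
      simp only [← hua, mulVec_mulVec, ← Matrix.SpecialLinearGroup.coe_mul, inv_mul_cancel,
        Matrix.SpecialLinearGroup.coe_one, one_mulVec, mulVec_add, mulVec_smul, hu0] at this
      exact eq_sub_of_add_eq this.symm
    rw [mulVec_neg, mulVec_smul, mulVec_add, mulVec_smul, hu0, hu1] at h5
    have h6 := R_sub (by simp [dotProduct_add, dotProduct_smul, hl0 (show 0 < m by omega),
      hl0 (show 1 < m by omega)]) h5 h4
    convert h6 using 1
    module
  · by_cases hR : R H (e (ix m k)) (e (ix m m))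
    · left
      have h7 := R_neg (by simp [dotProduct_add, dotProduct_smul, hl0 (show k < m by omega),
        hl0 hk]) (gen k hk hR)
      rwa [neg_neg] at h7
    · exact Or.inr hR

variable (hb : ∀ k, k + 1 ≤ m → b k ≠ 0)

include hm hv hvb hb in
theorem full_down {j : ℕ} (hj : j + 1 ≤ m)
    (hup : ∀ i, j + 1 ≤ i → i ≤ m → Full H (e (ix m i))) : Full H (e (ix m j)) := by
  have hfull := full_conj hv (hup (j + 1) le_rfl hj)
  rw [hvb, e_vecMul_loB b hj] at hfull
  have hperp : ∀ P, e (ix m (j + 1)) ⬝ᵥ P = 0 → e (ix m j) ⬝ᵥ P = 0 → R H P (e (ix m j)) := by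
    intro P h1 h2
    have hA := hfull ((b j)⁻¹ • P) (by
      simp [add_dotProduct, smul_dotProduct, dotProduct_smul, h1, h2])
    have hB := hup (j + 1) le_rfl hj (-((b j)⁻¹ • P)) (by simp [dotProduct_smul, h1])
    have hB' : R H ((b j)⁻¹ • P) (-e (ix m (j + 1))) := by
      obtain ⟨x, hx, ex⟩ := hB
      exact ⟨x, hx, by rw [ex, neg_vecMulVec, vecMulVec_neg]⟩
    have hC := R_add' (by simp [add_dotProduct, smul_dotProduct, dotProduct_smul, h1, h2]) hA hB'
    rw [add_neg_cancel_comm] at hC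
    have hD := R_smul_comm' (b j) hC
    rwa [smul_smul, mul_inv_cancel₀ (hb j hj), one_smul] at hD
  have hdiag : ∀ c : F, R H (c • e (ix m (j + 1))) (e (ix m j)) := by
    intro c
    by_cases hlt : j + 2 ≤ m
    · have hP := hperp ((-c) • e (ix m (j + 2)))
        (by rw [dotProduct_smul, e_ix_dot hj hlt, if_neg (by omega), smul_zero])
        (by rw [dotProduct_smul, e_ix_dot (by omega) hlt, if_neg (by omega), smul_zero])
      have hQ := hup (j + 2) (by omega) hlt (e (ix m (j + 1)))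
        (by rw [e_ix_dot hlt hj, if_neg (by omega)])
      have h3 := R_comm (by rw [dotProduct_smul, e_ix_dot (by omega) hlt, if_neg (by omega), smul_zero])
        (by rw [e_ix_dot hlt hj, if_neg (by omega)]) (by rw [e_ix_dot (by omega) hj, if_neg (by omega)])
        hP hQ
      rw [dotProduct_smul, e_ix_dot hlt hlt, if_pos rfl, smul_eq_mul, mul_one, neg_neg] at h3
      exact h3
    · obtain rfl : m = j + 1 := by omega
      obtain ⟨i, rfl⟩ : ∃ i, j = i + 1 := ⟨j - 1, by omega⟩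
      have hf2 := full_conj hv hfull
      rw [hvb, add_vecMul, smul_vecMul, e_vecMul_loB b hj, e_vecMul_loB b (by omega)] at hf2
      obtain ⟨t, ht⟩ : ∃ t, t = b (i + 1) * b i := ⟨_, rfl⟩
      have ht0 : t ≠ 0 := ht ▸ mul_ne_zero (hb _ hj) (hb _ (by omega))
      have hQ := hf2 (e (ix (i + 1 + 1) (i + 1 + 1)) - t⁻¹ • e (ix (i + 1 + 1) i)) (by
        simp only [add_dotProduct, smul_dotProduct, dotProduct_sub, dotProduct_smul,
          e_ix_dot le_rfl le_rfl, e_ix_dot le_rfl (show i ≤ i + 1 + 1 by omega),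
          e_ix_dot (show i + 1 ≤ i + 1 + 1 by omega) le_rfl,
          e_ix_dot (show i + 1 ≤ i + 1 + 1 by omega) (show i ≤ i + 1 + 1 by omega),
          e_ix_dot (show i ≤ i + 1 + 1 by omega) le_rfl,
          e_ix_dot (show i ≤ i + 1 + 1 by omega) (show i ≤ i + 1 + 1 by omega)]
        simp [show ¬ i + 1 + 1 = i by omega, show ¬ i = i + 1 + 1 by omega, ← mul_assoc, ← ht, ht0])
      have hperp0 : ∀ d : F, R H (d • e (ix (i + 1 + 1) i)) (e (ix (i + 1 + 1) (i + 1))) := fun d =>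
        hperp _ (by rw [dotProduct_smul, e_ix_dot le_rfl (by omega), if_neg (by omega), smul_zero])
          (by rw [dotProduct_smul, e_ix_dot (by omega) (by omega), if_neg (by omega), smul_zero])
      have h3 := R_comm
        (by rw [dotProduct_smul, e_ix_dot (by omega) (by omega), if_neg (by omega), smul_zero])
        (by
          simp only [add_dotProduct, smul_dotProduct, dotProduct_sub, dotProduct_smul,
            e_ix_dot le_rfl le_rfl, e_ix_dot le_rfl (show i ≤ i + 1 + 1 by omega),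
            e_ix_dot (show i + 1 ≤ i + 1 + 1 by omega) le_rfl,
            e_ix_dot (show i + 1 ≤ i + 1 + 1 by omega) (show i ≤ i + 1 + 1 by omega),
            e_ix_dot (show i ≤ i + 1 + 1 by omega) le_rfl,
            e_ix_dot (show i ≤ i + 1 + 1 by omega) (show i ≤ i + 1 + 1 by omega)]
          simp [show ¬ i + 1 + 1 = i by omega, show ¬ i = i + 1 + 1 by omega, ← mul_assoc, ← ht, ht0])
        (by
          rw [dotProduct_sub, dotProduct_smul, e_ix_dot (by omega) le_rfl,
            e_ix_dot (by omega) (by omega), if_neg (by omega), if_neg (by omega), smul_zero, sub_zero])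
        (hperp0 (-(c / t))) hQ
      have hval : (e (ix (i + 1 + 1) (i + 1 + 1)) + b (i + 1) • e (ix (i + 1 + 1) (i + 1)) +
          b (i + 1) • (e (ix (i + 1 + 1) (i + 1)) + b i • e (ix (i + 1 + 1) i))) ⬝ᵥ
            ((-(c / t)) • e (ix (i + 1 + 1) i)) = -c := by
        simp only [add_dotProduct, smul_dotProduct, dotProduct_smul,
          e_ix_dot le_rfl (show i ≤ i + 1 + 1 by omega),
          e_ix_dot (show i + 1 ≤ i + 1 + 1 by omega) (show i ≤ i + 1 + 1 by omega),
          e_ix_dot (show i ≤ i + 1 + 1 by omega) (show i ≤ i + 1 + 1 by omega)]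
        simp [show ¬ i + 1 + 1 = i by omega]
        rw [ht] at ht0 ⊢
        obtain ⟨n1, n2⟩ := mul_ne_zero_iff.mp ht0
        field_simp
      rw [hval, neg_neg] at h3
      have h4 := R_add (by
        rw [dotProduct_smul, e_ix_dot (by omega) (by omega), if_neg (by omega), smul_zero]) h3
        (hperp0 (c * t⁻¹))
      convert h4 using 1
      module
  intro P hP
  obtain ⟨c, hc⟩ : ∃ c, e (ix m (j + 1)) ⬝ᵥ P = c := ⟨_, rfl⟩
  have h1 := hperp (P - c • e (ix m (j + 1)))
    (by rw [dotProduct_sub, dotProduct_smul, e_ix_dot hj hj, if_pos rfl, hc, smul_eq_mul, mul_one,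
      sub_self])
    (by rw [dotProduct_sub, dotProduct_smul, e_ix_dot (by omega) hj, if_neg (by omega), hP,
      smul_zero, sub_zero])
  have h2 := R_add (by rw [dotProduct_smul, e_ix_dot (by omega) hj, if_neg (by omega), smul_zero])
    h1 (hdiag c)
  rwa [sub_add_cancel] at h2

include hm hu hv hua hvb hb in
theorem engine [Finite F] (ha0 : a 0 ≠ 0) (h1 : R H (e (ix m 0)) (e (ix m m))) {ζ : F} (hζ0 : ζ ≠ 0)
    (hζ : ∀ x : F, x ≠ 0 → ∃ k : ℕ, x = ζ ^ k)
    (hμ : ∃ ε : F, (ε = 1 ∨ ε = -1) ∧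
      ((v⁻¹ : SN) : MN) (ix m m) (ix m 0) * b 0 * a 0 = ε * ζ) : H = ⊤ := by
  obtain ⟨ε, hε, hμ⟩ := hμ
  have hl0 : ∀ {k : ℕ}, k < m → e (F := F) (ix m m) ⬝ᵥ e (ix m k) = 0 := fun {k} hk => by
    rw [e_ix_dot le_rfl hk.le, if_neg hk.ne']
  have hneg : ∀ c : F, R H (c • e (ix m 0)) (e (ix m m)) → R H ((-c) • e (ix m 0)) (e (ix m m)) :=
    fun c hc => by
      rw [neg_smul]
      exact R_neg (by rw [dotProduct_smul, hl0 (by omega), smul_zero]) hc
  have hk : ∀ k : ℕ, R H ((ε * ζ) ^ k • e (ix m 0)) (e (ix m m)) := by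
    intro k
    induction k with
    | zero => rwa [pow_zero, one_smul]
    | succ k ih =>
      have h := (mul_closed hm hu hv hua hvb h1 ih).1
      rwa [hμ, ← pow_succ'] at h
  have hall : ∀ c : F, R H (c • e (ix m 0)) (e (ix m m)) := by
    intro c
    rcases eq_or_ne c 0 with rfl | hc
    · rw [zero_smul]; exact R_zero _
    obtain ⟨k, rfl⟩ := hζ c hc
    rcases hε with rfl | rfl
    · simpa using hk k
    · rcases Nat.even_or_odd k with he | ho
      · simpa [neg_one_mul, he.neg_pow] using hk k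
      · simpa [neg_one_mul, ho.neg_pow] using hneg _ (hk k)
  have hκ : ((v⁻¹ : SN) : MN) (ix m m) (ix m 0) ≠ 0 := by
    intro h0
    rw [h0, zero_mul, zero_mul, eq_comm, mul_eq_zero] at hμ
    rcases hμ with h | h
    · rcases hε with rfl | rfl <;> simp at h
    · exact hζ0 h
  have hbase : ∀ k, k < m → ∀ c : F, R H (c • e (ix m k)) (e (ix m m)) := by
    intro k
    induction k with
    | zero => exact fun _ c => hall c
    | succ k ih =>
      intro hk c
      have hR := ih (by omega) 1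
      rw [one_smul] at hR
      obtain ⟨d, hd⟩ : ∃ d, d = c / (((v⁻¹ : SN) : MN) (ix m m) (ix m 0) * b k) := ⟨_, rfl⟩
      have h := ((mul_closed hm hu hv hua hvb h1 (hall d)).2 k hk).resolve_right (not_not.mpr hR)
      have h2 := R_sub (by rw [dotProduct_smul, hl0 (by omega), smul_zero]) h
        (ih (by omega) (((v⁻¹ : SN) : MN) (ix m m) (ix m 0) * d))
      rw [smul_add, add_sub_cancel_left, smul_smul] at h2
      convert h2 using 3
      have := hb k (by omega)
      rw [hd]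
      field_simp
  have hlast : Full H (e (ix m m)) := by
    intro P hP
    have hsum : P = ∑ i : Fin (m + 1), P i • e i := by
      funext r; simp [e, Pi.single_apply]
    rw [hsum]
    refine And.right (Finset.sum_induction (fun i => P i • e i)
      (fun Q => e (ix m m) ⬝ᵥ Q = 0 ∧ R H Q (e (ix m m))) ?_ ⟨dotProduct_zero _, R_zero _⟩
      fun i _ => ?_)
    · exact fun A B hA hB => ⟨by rw [dotProduct_add, hA.1, hB.1, add_zero], R_add hB.1 hA.2 hB.2⟩
    · rcases eq_or_ne i (ix m m) with rfl | hi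
      · have : P (ix m m) = 0 := by simpa [e] using hP
        rw [this, zero_smul]
        exact ⟨dotProduct_zero _, R_zero _⟩
      · have hi' : (i : ℕ) < m := by
          have := i.isLt
          have : (i : ℕ) ≠ m := fun h => hi (by rw [← ix_coe i, h])
          omega
        refine ⟨?_, ?_⟩
        · rw [dotProduct_smul, e_dot, if_neg (Ne.symm hi), smul_zero]
        · have := hbase (i : ℕ) hi' (P i)
          rwa [ix_coe] at this
  have hdown : ∀ d j, j ≤ m → m ≤ j + d → Full H (e (ix m j)) := by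
    intro d
    induction d with
    | zero => intro j h1 h2; obtain rfl : j = m := (by omega); exact hlast
    | succ d ih =>
      intro j h1 h2
      by_cases hj : j = m
      · subst hj; exact hlast
      · exact full_down hm hv hvb hb (by omega) fun i hi hi' => ih i hi' (by omega)
  refine eq_top_of_full fun j => ?_
  have := hdown m (j : ℕ) (by omega) (by omega)
  rwa [ix_coe] at this

end Engine

section Regular

theorem upB_sub_one_apply (a : ℕ → F) (i j : Fin (m + 1)) :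
    ((upB a : MN) - 1) i j = if (j : ℕ) = i + 1 then a i else 0 := by
  simp only [Matrix.sub_apply, upB, Matrix.of_apply, Matrix.one_apply, Fin.ext_iff]
  split_ifs <;> first | omega | simp

theorem upB_nilpotent (a : ℕ → F) : IsNilpotent ((upB a : MN) - 1) := by
  refine ⟨m + 1, ?_⟩
  have key : ∀ k (i j : Fin (m + 1)), (j : ℕ) < i + k → (((upB a : MN) - 1) ^ k) i j = 0 := by
    intro k
    induction k with
    | zero =>
      intro i j h
      rw [pow_zero, Matrix.one_apply, if_neg (fun e => by rw [e] at h; omega)]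
    | succ k ih =>
      intro i j h
      rw [pow_succ, Matrix.mul_apply]
      refine Finset.sum_eq_zero fun l _ => ?_
      rcases Nat.lt_or_ge (l : ℕ) (i + k) with hl | hl
      · rw [ih i l hl, zero_mul]
      · rw [upB_sub_one_apply, if_neg (by omega), mul_zero]
  ext i j
  exact key _ i j (by have := j.isLt; omega)

theorem upB_pow_ne_zero {a : ℕ → F} (ha : ∀ k, k + 1 ≤ m → a k ≠ 0) :
    ((upB a : MN) - 1) ^ m ≠ 0 := by
  have key : ∀ k, k ≤ m → (((upB a : MN) - 1) ^ k) (ix m 0) (ix m k) ≠ 0 := by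
    intro k
    induction k with
    | zero => intro _; simp
    | succ k ih =>
      intro hk
      rw [pow_succ, Matrix.mul_apply, Finset.sum_eq_single (ix m k)]
      · rw [upB_sub_one_apply, ix_val hk, ix_val (show k ≤ m by omega), if_pos rfl]
        exact mul_ne_zero (ih (by omega)) (ha k hk)
      · intro l _ hl
        rw [upB_sub_one_apply, ix_val hk, if_neg (fun h => hl (Fin.ext (by
          rw [ix_val (show k ≤ m by omega)]; omega))), mul_zero]
      · simp
  intro h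
  exact key m le_rfl (by rw [h]; rfl)

theorem upB_inv_entry {u : SN} {a : ℕ → F} (hua : (u : MN) = upB a) (k : ℕ) (hk : k ≤ m) :
    ((u⁻¹ : SN) : MN) (ix m 0) (ix m k) = ∏ i ∈ Finset.range k, (-a i) := by
  have h1 : ∀ i, e (ix m 0) ⬝ᵥ (((u⁻¹ : SN) : MN) *ᵥ ((u : MN) *ᵥ e i)) =
      if ix m 0 = i then (1 : F) else 0 := fun i => by
    rw [mulVec_mulVec, ← Matrix.SpecialLinearGroup.coe_mul, inv_mul_cancel,
      Matrix.SpecialLinearGroup.coe_one, one_mulVec, e_dot]
  have hent : ∀ i, e (ix m 0) ⬝ᵥ (((u⁻¹ : SN) : MN) *ᵥ e i) = ((u⁻¹ : SN) : MN) (ix m 0) i :=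
    fun i => by simp [e, Matrix.mulVec_single]
  induction k with
  | zero =>
    have := h1 (ix m 0)
    rw [hua, upB_mulVec_e_zero, hent, if_pos rfl] at this
    rw [this, Finset.prod_range_zero]
  | succ k ih =>
    have := h1 (ix m (k + 1))
    rw [hua, upB_mulVec_e a hk, mulVec_add, mulVec_smul, dotProduct_add, dotProduct_smul, hent, hent,
      if_neg (fun h => by rw [ix_eq_iff (Nat.zero_le m) hk] at h; omega), ih (by omega),
      smul_eq_mul] at this
    rw [Finset.prod_range_succ]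
    linear_combination this

theorem exists_three [Fintype F] (hm : 2 ≤ m) :
    ∃ u g y : SN, (IsNilpotent ((u : MN) - 1) ∧ ((u : MN) - 1) ^ m ≠ 0) ∧
      Subgroup.closure ({u, g * u * g⁻¹, y * u * y⁻¹} : Set SN) = ⊤ := by
  classical
  obtain ⟨z, hz⟩ := IsCyclic.exists_generator (α := Fˣ)
  obtain ⟨ζ, hζdef⟩ : ∃ ζ : F, ζ = (z : F) := ⟨_, rfl⟩
  have hζ0 : ζ ≠ 0 := hζdef ▸ z.ne_zero
  have hζ : ∀ x : F, x ≠ 0 → ∃ k : ℕ, x = ζ ^ k := fun x hx => by
    obtain ⟨k, hk⟩ : ∃ k : ℕ, z ^ k = Units.mk0 x hx := by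
      have := hz (Units.mk0 x hx)
      rw [← mem_powers_iff_mem_zpowers] at this
      exact this
    exact ⟨k, by rw [hζdef, ← Units.val_pow_eq_pow_val, hk, Units.val_mk0]⟩
  obtain ⟨a, ha⟩ : ∃ a : ℕ → F, a = fun k => if k = 0 then ζ ^ 2 else 1 := ⟨_, rfl⟩
  have ha0 : ∀ k, a k ≠ 0 := fun k => by
    rw [ha]; dsimp only; split_ifs <;> simp [hζ0]
  have hdetu : (upB a : MN).det = 1 := by
    rw [Matrix.det_of_isUpperTriangular]
    · exact Finset.prod_eq_one fun i _ => by simp [upB]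
    · intro i j hij
      have hlt : (j : ℕ) < i := hij
      simp only [upB, Matrix.of_apply]
      rw [if_neg (fun h => by rw [h] at hlt; omega), if_neg (by omega)]
  obtain ⟨u, hua⟩ : ∃ u : SN, (u : MN) = upB a := ⟨⟨_, hdetu⟩, rfl⟩
  obtain ⟨σ, hσ⟩ : ∃ σ : F, σ = ((Equiv.Perm.sign (Fin.revPerm : Equiv.Perm (Fin (m + 1))) : ℤ) : F) :=
    ⟨_, rfl⟩
  have hσ1 : σ = 1 ∨ σ = -1 := by
    rcases Int.units_eq_one_or (Equiv.Perm.sign (Fin.revPerm : Equiv.Perm (Fin (m + 1)))) with h | h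
    · left; rw [hσ, h]; simp
    · right; rw [hσ, h]; simp
  have hσ0 : σ ≠ 0 := by rcases hσ1 with h | h <;> simp [h]
  obtain ⟨c, hc⟩ : ∃ c : ℕ → F, c = fun k => if k = 0 then σ / ζ else if k = m then ζ else 1 :=
    ⟨_, rfl⟩
  have hc0 : ∀ k, c k ≠ 0 := fun k => by
    rw [hc]; dsimp only; split_ifs <;> simp [hζ0, hσ0]
  let G : MN := (Fin.revPerm : Equiv.Perm (Fin (m + 1))).permMatrix F *
    Matrix.diagonal fun i : Fin (m + 1) => c i
  have hGapp : ∀ i j : Fin (m + 1), G i j = if i.rev = j then c j else 0 := fun i j => by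
    simp only [G]
    rw [Matrix.mul_diagonal, Equiv.Perm.permMatrix, PEquiv.toMatrix_apply]
    by_cases h : i.rev = j <;> simp [h, Equiv.toPEquiv_apply]
  have hdetG : G.det = 1 := by
    rw [Matrix.det_mul, Matrix.det_permutation, Matrix.det_diagonal, ← hσ,
      Fin.prod_univ_eq_prod_range (fun k => c k) (m + 1), Finset.prod_range_succ, hc]
    dsimp only
    rw [if_neg (show m ≠ 0 by omega), if_pos rfl]
    obtain ⟨m', rfl⟩ : ∃ m', m = m' + 1 := ⟨m - 1, by omega⟩
    rw [Finset.prod_range_succ', Finset.prod_eq_one (fun k hk => by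
      rw [Finset.mem_range] at hk
      rw [if_neg (by omega), if_neg (by omega)]), if_pos rfl]
    rcases hσ1 with h | h <;> rw [h] <;> field_simp
  obtain ⟨g, hg⟩ : ∃ g : SN, (g : MN) = G := ⟨⟨_, hdetG⟩, rfl⟩
  obtain ⟨b, hb⟩ : ∃ b : ℕ → F, b = fun k => a (m - k - 1) * c (m - k - 1) / c (m - k) := ⟨_, rfl⟩
  have hvb : ((g * u * g⁻¹ : SN) : MN) = loB b := by
    have key : G * (upB a : MN) = (loB b : MN) * G := by
      ext i j
      have l1 : (G * (upB a : MN)) i j = c i.rev * (upB a : MN) i.rev j := by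
        rw [Matrix.mul_apply, Finset.sum_eq_single i.rev]
        · rw [hGapp, if_pos rfl]
        · intro l _ hl; rw [hGapp, if_neg (Ne.symm hl), zero_mul]
        · simp
      have l2 : ((loB b : MN) * G) i j = (loB b : MN) i j.rev * c j := by
        rw [Matrix.mul_apply, Finset.sum_eq_single j.rev]
        · rw [hGapp, if_pos (Fin.rev_rev j)]
        · intro l _ hl
          rw [hGapp, if_neg (fun h => hl (by rw [← h, Fin.rev_rev])), mul_zero]
        · simp
      rw [l1, l2]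
      simp only [upB, loB, Matrix.of_apply, Fin.ext_iff, Fin.val_rev]
      have := i.isLt
      have := j.isLt
      by_cases h1 : m + 1 - ((i : ℕ) + 1) = (j : ℕ)
      · rw [if_pos h1, if_pos (by omega), mul_one, one_mul, h1]
      · rw [if_neg h1, if_neg (show ¬ (i : ℕ) = m + 1 - ((j : ℕ) + 1) by omega)]
        by_cases h2 : (j : ℕ) = m + 1 - ((i : ℕ) + 1) + 1
        · rw [if_pos h2, if_pos (by omega), hb]
          dsimp only
          rw [show m - (m + 1 - ((j : ℕ) + 1)) - 1 = m + 1 - ((i : ℕ) + 1) by omega,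
            show m - (m + 1 - ((j : ℕ) + 1)) = (j : ℕ) by omega, div_mul_cancel₀ _ (hc0 _), mul_comm]
        · rw [if_neg h2, if_neg (by omega), mul_zero, zero_mul]
    rw [Matrix.SpecialLinearGroup.coe_mul, Matrix.SpecialLinearGroup.coe_mul, hg, hua, key, mul_assoc,
      ← hg, ← Matrix.SpecialLinearGroup.coe_mul, mul_inv_cancel, Matrix.SpecialLinearGroup.coe_one,
      mul_one]
  have hb0 : ∀ k, k + 1 ≤ m → b k ≠ 0 := fun k _ => by
    rw [hb]; exact div_ne_zero (mul_ne_zero (ha0 _) (hc0 _)) (hc0 _)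
  have hne : ix m 1 ≠ ix m m := fun h => by rw [ix_eq_iff (by omega) le_rfl] at h; omega
  obtain ⟨y, hy⟩ : ∃ y : SN, (y : MN) =
      1 + vecMulVec ((-(1 / a 0)) • e (ix m 1)) (e (ix m m)) := by
    refine ⟨Matrix.SpecialLinearGroup.transvection hne (-(1 / a 0)), ?_⟩
    ext r s
    simp [Matrix.SpecialLinearGroup.transvection, Matrix.transvection, Matrix.single_apply,
      vecMulVec_apply, e, Pi.single_apply]
    by_cases hr : r = ix m 1 <;> by_cases hs : s = ix m m <;> simp [hr, hs, Ne.symm]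
  refine ⟨u, g, y, ⟨hua ▸ upB_nilpotent a, hua ▸ upB_pow_ne_zero fun k _ => ha0 k⟩, ?_⟩
  set H := Subgroup.closure ({u, g * u * g⁻¹, y * u * y⁻¹} : Set SN) with hH
  have hu : u ∈ H := Subgroup.subset_closure (by simp)
  have hv : g * u * g⁻¹ ∈ H := Subgroup.subset_closure (by simp)
  have hu' : y * u * y⁻¹ ∈ H := Subgroup.subset_closure (by simp)
  have hl : ∀ {k : ℕ}, k < m → e (F := F) (ix m m) ⬝ᵥ e (ix m k) = 0 := fun {k} hk => by
    rw [e_ix_dot le_rfl hk.le, if_neg hk.ne']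
  have h1 : R H (e (ix m 0)) (e (ix m m)) := by
    obtain ⟨x, hx⟩ : ∃ x : SN, x = u⁻¹ * (y * u * y⁻¹) := ⟨_, rfl⟩
    refine ⟨x, hx ▸ mul_mem (inv_mem hu) hu', ?_⟩
    have e1 : u * x * y = y * u := by rw [hx]; group
    have e2 : (u : MN) * (1 + vecMulVec (e (ix m 0)) (e (ix m m))) * (y : MN) =
        (y : MN) * (u : MN) := by
      rw [hua, hy]
      simp only [mul_add, add_mul, mul_one, one_mul, mul_vecMulVec, vecMulVec_mul, mulVec_smul,
        upB_mulVec_e_zero, upB_mulVec_e a (show 0 + 1 ≤ m by omega), e_last_vecMul_upB, vv_mul,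
        dotProduct_smul, hl (show 1 < m by omega), smul_zero, zero_smul, add_zero]
      simp only [smul_add, smul_smul, add_vecMulVec, smul_vecMulVec]
      rw [show (-(1 / a 0)) * a 0 = -1 by field_simp [ha0 0]]
      have hz0 : vecMulVec (e (ix m 0)) (e (ix m m)) *ᵥ e (ix m 1) = (0 : Fin (m + 1) → F) := by
        rw [vecMulVec_mulVec, hl (show 1 < m by omega)]
        simp
      simp only [hz0, zero_vecMulVec, smul_zero, zero_add, add_zero]
      module
    have e1' : (u : MN) * (x : MN) * (y : MN) = (y : MN) * (u : MN) := by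
      rw [← Matrix.SpecialLinearGroup.coe_mul, ← Matrix.SpecialLinearGroup.coe_mul, e1,
        Matrix.SpecialLinearGroup.coe_mul]
    have hyu : IsUnit (y : MN) := (Matrix.isUnit_iff_isUnit_det _).mpr (by rw [y.2]; exact isUnit_one)
    have huu : IsUnit (u : MN) := (Matrix.isUnit_iff_isUnit_det _).mpr (by rw [u.2]; exact isUnit_one)
    exact huu.mul_left_cancel (hyu.mul_right_cancel (e1'.trans e2.symm))
  refine engine hm hu hv hua hvb hb0 (ha0 0) h1 hζ0 hζ ?_
  have hκ : (((g * u * g⁻¹)⁻¹ : SN) : MN) (ix m m) (ix m 0) * c m =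
      c 0 * ((u⁻¹ : SN) : MN) (ix m 0) (ix m m) := by
    have e1 : (g * u * g⁻¹)⁻¹ * g = g * u⁻¹ := by group
    have e2 := congrArg (fun x : SN => (x : MN) (ix m m) (ix m m)) e1
    simp only [Matrix.SpecialLinearGroup.coe_mul, hg] at e2
    have r0 : (ix m m).rev = ix m 0 := Fin.ext (by
      rw [Fin.val_rev, ix_val le_rfl, ix_val (Nat.zero_le m)]; omega)
    rw [Matrix.mul_apply, Matrix.mul_apply, Finset.sum_eq_single (ix m 0),
      Finset.sum_eq_single (ix m 0)] at e2
    · rw [hGapp, hGapp, if_pos (by rw [← r0, Fin.rev_rev]), if_pos r0, ix_val le_rfl,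
        ix_val (Nat.zero_le m)] at e2
      exact e2
    · intro l _ hl'; rw [hGapp, r0, if_neg (Ne.symm hl'), zero_mul]
    · simp
    · intro l _ hl'
      rw [hGapp, if_neg (fun h => hl' (by rw [← Fin.rev_rev l, h, r0])), mul_zero]
    · simp
  rw [upB_inv_entry hua m le_rfl] at hκ
  have hprod : ∏ i ∈ Finset.range m, (-a i) = (-1) ^ m * ζ ^ 2 := by
    rw [Finset.prod_neg, Finset.card_range]
    congr 1
    rw [Finset.prod_eq_single 0]
    · simp [ha]
    · intro i _ hi; simp [ha, hi]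
    · simp; omega
  have hκ' : (((g * u * g⁻¹)⁻¹ : SN) : MN) (ix m m) (ix m 0) = c 0 * ((-1) ^ m * ζ ^ 2) / c m := by
    rw [eq_div_iff (hc0 m), hκ, hprod]
  refine ⟨σ * (-1) ^ m, ?_, ?_⟩
  · rcases hσ1 with h | h <;> rcases neg_one_pow_eq_or F m with h' | h' <;> simp [h, h']
  · rw [hκ', hb, ha, hc]
    dsimp only
    rw [if_neg (show m - 0 - 1 ≠ 0 by omega), if_neg (show m - 0 - 1 ≠ m by omega),
      if_neg (show m - 0 ≠ 0 by omega), if_pos (show m - 0 = m by omega),
      if_neg (show m ≠ 0 by omega), if_pos rfl, if_pos rfl]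
    simp only [if_true, if_neg (show m - 0 - 1 ≠ 0 by omega)]
    field_simp

end Regular

end CfsgLib.KnownB.RegUnip
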