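import Cfsg.Agent.Lib.KnownB.SL2Class

/-!
# Irreducible characters of `SL₂(F)` as constituents of restrictions from `GL₂(F)`
-/

set_option autoImplicit false

namespace CfsgLib.KnownB.SL2

open Matrix Finset CfsgLib.KnownB.GL2
open scoped MatrixGroups ComplexConjugate

variable {F : Type*} [Field F] [Fintype F] [DecidableEq F]
variable {E : Type*} [Field E] [Algebra F E] [IsQuad F E] [Fintype E]

local notation "G2" => GL (Fin 2) F
local notation "S2" => Matrix.SpecialLinearGroup (Fin 2) F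
local notation "M2" => Matrix (Fin 2) (Fin 2) F
local notation "q" => (Fintype.card F : ℂ)

/-- Restriction of a function from `GL₂` to `SL₂`. -/
noncomputable def res (f : GL (Fin 2) F → ℂ) : Matrix.SpecialLinearGroup (Fin 2) F → ℂ :=
  fun s => f (ι s)

theorem res_apply (f : GL (Fin 2) F → ℂ) (s : S2) : res f s = f (ι s) := rfl

/-- The principal series of `SL₂`. -/
noncomputable def P (α : MulChar F ℂ) : Matrix.SpecialLinearGroup (Fin 2) F → ℂ :=
  Cfsg.indFun ((Cfsg.upperTriangularGL 2 F).comap Matrix.SpecialLinearGroup.toGL)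
    (fun b => α (((b : S2) : M2) 0 0))

/-- The Steinberg character of `SL₂`. -/
noncomputable def St0 : Matrix.SpecialLinearGroup (Fin 2) F → ℂ := res (St 1)

/-- Restrictions of cuspidal characters. -/
noncomputable def C (ν : MulChar E ℂ) : Matrix.SpecialLinearGroup (Fin 2) F → ℂ := res (X ν)

/-- `ν` is trivial on the elements of norm one. -/
def TrivC (F : Type*) [Field F] {E : Type*} [Field E] [Algebra F E] (ν : MulChar E ℂ) : Prop :=
  ∀ x : E, Algebra.norm F x = 1 → ν x = 1

section Torus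

omit [DecidableEq F] in
theorem ne_zero_of_norm_one {x : E} (h : Algebra.norm F x = 1) : x ≠ 0 := by
  rintro rfl
  rw [(N_eq_zero (F := F) (E := E)).mpr rfl] at h
  exact zero_ne_one h

omit [DecidableEq F] in
theorem pow_q_of_norm_one {x : E} (h : Algebra.norm F x = 1) : x ^ Fintype.card F = x⁻¹ := by
  have h1 := algebraMap_N (F := F) x
  rw [h, map_one] at h1
  exact eq_inv_of_mul_eq_one_right h1.symm

omit [DecidableEq F] in
theorem norm_inv_one {x : E} (h : Algebra.norm F x = 1) : Algebra.norm F x⁻¹ = 1 := by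
  have h1 := map_mul (Algebra.norm F) x⁻¹ x
  rw [inv_mul_cancel₀ (ne_zero_of_norm_one h), map_one, h, mul_one] at h1
  exact h1.symm

theorem trivC_compN (c : MulChar F ℂ) : TrivC F (compN E c) := fun x hx => by simp [hx]

theorem trivC_iff {ν : MulChar E ℂ} : TrivC F ν ↔ ∃ c : MulChar F ℂ, compN E c = ν := by
  refine ⟨fun h => exists_compN (MulChar.ext' fun x => ?_), ?_⟩
  · rcases eq_or_ne x 0 with rfl | hx
    · rw [MulChar.pow_apply' _ Fintype.card_ne_zero]
      simp [MulChar.map_zero, Fintype.card_ne_zero]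
    · have hn : Algebra.norm F (x ^ Fintype.card F / x) = 1 := by
        have h1 := map_mul (Algebra.norm F) (x ^ Fintype.card F / x) x
        rw [div_mul_cancel₀ _ hx, N_pow] at h1
        exact (mul_eq_right₀ (fun h0 => hx ((N_eq_zero (F := F)).mp h0))).mp h1.symm
      have h1 := h _ hn
      rw [MulChar.pow_apply' _ Fintype.card_ne_zero, ← map_pow]
      calc ν (x ^ Fintype.card F) = ν (x ^ Fintype.card F / x) * ν x := by
            rw [← map_mul, div_mul_cancel₀ _ hx]
        _ = ν x := by rw [h1, one_mul]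
  · rintro ⟨c, rfl⟩; exact trivC_compN c

theorem not_fixed_of_not_trivC {ν : MulChar E ℂ} (h : ¬ TrivC F ν) : ν ^ Fintype.card F ≠ ν :=
  fun he => h (trivC_iff.mpr (exists_compN he))

theorem trivC_inv_mul_pow {ν μ : MulChar E ℂ} :
    TrivC F (ν⁻¹ * μ ^ Fintype.card F) ↔ TrivC F (ν * μ) := by
  have key : ∀ x : E, Algebra.norm F x = 1 →
      (ν⁻¹ * μ ^ Fintype.card F) x = (ν * μ) x⁻¹ := fun x hx => by
    rw [MulChar.mul_apply, MulChar.mul_apply, MulChar.inv_apply',
      MulChar.pow_apply' _ Fintype.card_ne_zero, ← map_pow, pow_q_of_norm_one hx]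
  constructor
  · intro h x hx
    have := h x⁻¹ (norm_inv_one hx)
    rwa [key _ (norm_inv_one hx), inv_inv] at this
  · intro h x hx
    rw [key x hx]
    exact h _ (norm_inv_one hx)

end Torus

section Twist

theorem detC_mul_I (c α β : MulChar F ℂ) : detC c * I α β = I (c * α) (c * β) := by
  obtain ⟨E', _, _, _, _⟩ := exists_quad F
  refine ((tbl_detC (E := E') c).mul (tbl_I α β)).ext (tbl_I _ _) (fun a _ => ?_) (fun a _ => ?_)
    (fun a b _ _ _ => ?_) (fun x _ => ?_) <;> simp <;> ring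

theorem detC_mul_X (c : MulChar F ℂ) (ν : MulChar E ℂ) :
    detC c * X ν = X (ν * compN E c) := by
  refine ((tbl_detC (F := F) (E := E) c).mul (tbl_X ν)).ext (tbl_X _) (fun a _ => ?_)
    (fun a _ => ?_) (fun a b _ _ _ => ?_) (fun x _ => ?_)
  · simp [Algebra.norm_algebraMap, IsQuad.finrank_eq]; ring
  · simp [Algebra.norm_algebraMap, IsQuad.finrank_eq]; ring
  · simp
  · simp [N_pow, -map_pow]; ring

theorem detC_mul_St (c : MulChar F ℂ) : detC c * St 1 = St c := by
  funext g
  simp [detC, St, MulChar.one_apply (det_ne_zero g).isUnit]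

theorem res_detC (c : MulChar F ℂ) : res (detC c) = fun _ => 1 := by
  funext s; simp [res, detC]

theorem res_St (c : MulChar F ℂ) : res (St c) = St0 := by
  funext s; simp [res, St, St0]

theorem res_mul (f g : GL (Fin 2) F → ℂ) : res (f * g) = res f * res g := rfl

/-- Inner products of restrictions. -/
theorem classInner_res [Fintype (MulChar F ℂ)] (f g : GL (Fin 2) F → ℂ) :
    Cfsg.classInner (res f) (res g) = ∑ c : MulChar F ℂ, Cfsg.classInner (detC c * f) g := by
  obtain ⟨hq0, hq1, hq2⟩ := q_facts (F := F)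
  have hs : (Nat.card S2 : ℂ) ≠ 0 := by exact_mod_cast Nat.card_pos.ne'
  have hg : (Nat.card G2 : ℂ) = (Nat.card S2 : ℂ) * (q - 1) := by rw [card_gl, card_sl]
  simp only [CfsgLib.Char.classInner_def, res]
  rw [← Finset.mul_sum, Finset.sum_comm, sum_sl (fun x => f x * conj (g x)), hg, mul_inv,
    mul_assoc]
  congr 1
  rw [Finset.mul_sum]
  refine Finset.sum_congr rfl fun x _ => ?_
  simp only [Pi.mul_apply, detC, mul_assoc, ← Finset.sum_mul, sum_chars]
  split_ifs
  · field_simp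
  · simp

end Twist

section Borel

/-- Triangular elements of `SL₂`. -/
noncomputable def ut (p : Fˣ × F) :
    ((Cfsg.upperTriangularGL 2 F).comap (Matrix.SpecialLinearGroup.toGL (n := Fin 2) (R := F))) :=
  ⟨⟨!![(p.1 : F), p.2; 0, ((p.1⁻¹ : Fˣ) : F)], by simp [det_fin_two]⟩,
    mem_borel.mpr rfl⟩

omit [Fintype F] [DecidableEq F] in
theorem ut_bijective : Function.Bijective (ut (F := F)) := by
  constructor
  · rintro ⟨a, n⟩ ⟨a', n'⟩ h
    have h' := congrArg (fun x : (Cfsg.upperTriangularGL 2 F).comap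
      (Matrix.SpecialLinearGroup.toGL (n := Fin 2) (R := F)) => ((x : S2) : M2)) h
    have e1 := congrFun (congrFun h' 0) 0
    have e3 := congrFun (congrFun h' 0) 1
    simp [ut] at e1 e3
    simp [Units.ext e1, e3]
  · rintro ⟨s, hs⟩
    have h10 : (s : M2) 1 0 = 0 := mem_borel.mp hs
    have hd := s.2
    rw [det_fin_two, h10, mul_zero, sub_zero] at hd
    refine ⟨(⟨(s : M2) 0 0, (s : M2) 1 1, hd, by rw [mul_comm]; exact hd⟩, (s : M2) 0 1), ?_⟩
    refine Subtype.ext (Subtype.ext ?_)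
    ext i j
    fin_cases i <;> fin_cases j <;> simp [ut, h10]

omit [DecidableEq F] in
theorem card_borel_sl :
    (Nat.card ((Cfsg.upperTriangularGL 2 F).comap
      (Matrix.SpecialLinearGroup.toGL (n := Fin 2) (R := F))) : ℂ) = q * (q - 1) := by
  rw [← Nat.card_eq_of_bijective _ (ut_bijective (F := F)), Nat.card_prod, Nat.card_units,
    Nat.card_eq_fintype_card, Nat.cast_mul, Nat.cast_sub Fintype.card_pos, Nat.cast_one]
  ring

theorem res_I (α : MulChar F ℂ) : res (I α 1) = P α := by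
  classical
  obtain ⟨hq0, hq1, hq2⟩ := q_facts (F := F)
  funext s
  rw [res, I, P, CfsgLib.Char.indFun_def, CfsgLib.Char.indFun_def, card_borel, card_borel_sl,
    ← Function.Bijective.sum_comp (decompose_bijective (F := F)), Fintype.sum_prod_type]
  simp only
  rw [Finset.mul_sum, Finset.mul_sum]
  refine Finset.sum_congr rfl fun y _ => ?_
  have key : ∀ d : Fˣ, Cfsg.extendByZero (Cfsg.upperTriangularGL 2 F)
      (fun b => α (((b : G2) : M2) 0 0) * (1 : MulChar F ℂ) (((b : G2) : M2) 1 1))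
      ((ι y * dgl d)⁻¹ * ι s * (ι y * dgl d)) =
      Cfsg.extendByZero ((Cfsg.upperTriangularGL 2 F).comap Matrix.SpecialLinearGroup.toGL)
        (fun b => α (((b : S2) : M2) 0 0)) (y⁻¹ * s * y) := by
    intro d
    set t := y⁻¹ * s * y
    have e : (ι y * dgl d)⁻¹ * ι s * (ι y * dgl d) = (dgl d)⁻¹ * ι t * dgl d := by
      simp only [t, map_mul, map_inv]; group
    have hinv : (dgl d)⁻¹ = dgl d⁻¹ := by
      refine inv_eq_of_mul_eq_one_right (Units.ext ?_)
      simp only [Units.val_mul, Units.val_one, coe_dgl]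
      ext i j
      fin_cases i <;> fin_cases j <;> simp [Matrix.mul_apply, Fin.sum_univ_two]
    have hm : (((dgl d)⁻¹ * ι t * dgl d : G2) : M2) =
        !![(t : M2) 0 0, (t : M2) 0 1 * d; (d⁻¹ : Fˣ) * (t : M2) 1 0, (t : M2) 1 1] := by
      rw [hinv]
      simp only [Units.val_mul, coe_dgl, coe_ι]
      ext i j
      fin_cases i <;> fin_cases j <;>
        simp [Matrix.mul_apply, Matrix.vecMul, dotProduct, Fin.sum_univ_two, mul_comm]
    rw [e]
    by_cases h10 : (t : M2) 1 0 = 0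
    · have h1 : (dgl d)⁻¹ * ι t * dgl d ∈ Cfsg.upperTriangularGL 2 F :=
        mem_borel.mpr (by simp [hm, h10])
      have h2 : t ∈ (Cfsg.upperTriangularGL 2 F).comap Matrix.SpecialLinearGroup.toGL :=
        mem_borel.mpr h10
      rw [CfsgLib.Char.extendByZero_of_mem _ h1, CfsgLib.Char.extendByZero_of_mem _ h2]
      simp only [hm, Matrix.of_apply, Matrix.cons_val', Matrix.cons_val_zero, Matrix.cons_val_one,
        Matrix.empty_val', Matrix.cons_val_fin_one]
      rw [GL2.one_apply_ne, mul_one]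
      intro h11
      have := t.2
      rw [det_fin_two, h10, h11] at this
      simp at this
    · have h1 : (dgl d)⁻¹ * ι t * dgl d ∉ Cfsg.upperTriangularGL 2 F := fun h => h10 (by
        simpa [hm] using mem_borel.mp h)
      have h2 : t ∉ (Cfsg.upperTriangularGL 2 F).comap Matrix.SpecialLinearGroup.toGL := fun h =>
        h10 (mem_borel.mp h)
      rw [CfsgLib.Char.extendByZero_of_not_mem _ h1, CfsgLib.Char.extendByZero_of_not_mem _ h2]
  rw [Finset.sum_congr rfl (fun d _ => key d), Finset.sum_const, Finset.card_univ,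
    Fintype.card_units, nsmul_eq_mul, Nat.cast_sub Fintype.card_pos, Nat.cast_one]
  field_simp

theorem res_I_general (α β : MulChar F ℂ) : res (I α β) = P (α * β⁻¹) := by
  rw [← res_I]
  have h : detC β * I (α * β⁻¹) 1 = I α β := by rw [detC_mul_I]; simp [mul_comm, mul_left_comm]
  rw [← h, res_mul, res_detC]
  funext s; simp

end Borel

section Values

omit [DecidableEq F] in
theorem sl_cases (E : Type*) [Field E] [Algebra F E] [IsQuad F E] [Fintype E] (s : S2) :
    (∃ a : F, a * a = 1 ∧ (s : M2) = a • 1) ∨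
    (NonScalar (s : M2) ∧ ∃ a : F, a * a = 1 ∧ (s : M2).trace = a + a) ∨
    (∃ a b : F, a * b = 1 ∧ a ≠ b ∧ (s : M2).trace = a + b) ∨
    (∃ x : E, (∀ a, algebraMap F E a ≠ x) ∧ Algebra.norm F x = 1 ∧
      (s : M2).trace = Algebra.trace F E x) := by
  rcases gl_cases E (ι s) with ⟨a, -, ha⟩ | ⟨hg, a, -, h1, h2⟩ | ⟨a, b, -, -, hab, h1, h2⟩ |
    ⟨x, hx, h1, h2⟩
  · exact Or.inl ⟨a, by rw [← (scalar_trace_det ha).2]; exact det_ι s, ha⟩
  · exact Or.inr (Or.inl ⟨hg, a, by rw [← h2]; exact det_ι s, h1⟩)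
  · exact Or.inr (Or.inr (Or.inl ⟨a, b, by rw [← h2]; exact det_ι s, hab, h1⟩))
  · exact Or.inr (Or.inr (Or.inr ⟨x, hx, by rw [← h2]; exact det_ι s, h1⟩))

theorem P_scalar (α : MulChar F ℂ) {s : S2} {a : F} (h : (s : M2) = a • 1) :
    P α s = (q + 1) * α a := by
  obtain ⟨E', _, _, _, _⟩ := exists_quad F
  rw [← res_I, res, (tbl_I (E := E') α 1).scalar (ι s) a h,
    one_apply_ne (scalar_trace_det (g := ι s) h).1, mul_one]

theorem P_double (α : MulChar F ℂ) {s : S2} {a : F} (hs : NonScalar (s : M2)) (ha : a * a = 1)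
    (ht : (s : M2).trace = a + a) : P α s = α a := by
  obtain ⟨E', _, _, _, _⟩ := exists_quad F
  rw [← res_I, res, (tbl_I (E := E') α 1).double (ι s) a hs ht (by rw [det_ι, ha]),
    one_apply_ne (left_ne_zero_of_mul_eq_one ha), mul_one]

theorem P_split (α : MulChar F ℂ) {s : S2} {a b : F} (hab : a * b = 1) (hne : a ≠ b)
    (ht : (s : M2).trace = a + b) : P α s = α a + α b := by
  obtain ⟨E', _, _, _, _⟩ := exists_quad F
  rw [← res_I, res, (tbl_I (E := E') α 1).split (ι s) a b hne ht (by rw [det_ι, hab]),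
    one_apply_ne (left_ne_zero_of_mul_eq_one hab), one_apply_ne (right_ne_zero_of_mul_eq_one hab),
    mul_one, mul_one]

theorem P_ell (α : MulChar F ℂ) {s : S2} {x : E} (hx : ∀ a, algebraMap F E a ≠ x)
    (hn : Algebra.norm F x = 1) (ht : (s : M2).trace = Algebra.trace F E x) : P α s = 0 := by
  rw [← res_I, res, (tbl_I (E := E) α 1).ell (ι s) x hx ht (by rw [det_ι, hn])]

theorem C_scalar (ν : MulChar E ℂ) {s : S2} {a : F} (h : (s : M2) = a • 1) :
    C (F := F) ν s = (q - 1) * ν (algebraMap F E a) :=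
  (tbl_X (F := F) ν).scalar (ι s) a h

theorem C_double (ν : MulChar E ℂ) {s : S2} {a : F} (hs : NonScalar (s : M2)) (ha : a * a = 1)
    (ht : (s : M2).trace = a + a) : C (F := F) ν s = -ν (algebraMap F E a) :=
  (tbl_X (F := F) ν).double (ι s) a hs ht (by rw [det_ι, ha])

theorem C_split (ν : MulChar E ℂ) {s : S2} {a b : F} (hab : a * b = 1) (hne : a ≠ b)
    (ht : (s : M2).trace = a + b) : C (F := F) ν s = 0 :=
  (tbl_X (F := F) ν).split (ι s) a b hne ht (by rw [det_ι, hab])

theorem C_ell (ν : MulChar E ℂ) {s : S2} {x : E} (hx : ∀ a, algebraMap F E a ≠ x)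
    (hn : Algebra.norm F x = 1) (ht : (s : M2).trace = Algebra.trace F E x) :
    C (F := F) ν s = -(ν x + ν x⁻¹) := by
  rw [C, res, (tbl_X (F := F) ν).ell (ι s) x hx ht (by rw [det_ι, hn]), pow_q_of_norm_one hn]

theorem P_one (α : MulChar F ℂ) : P α 1 = q + 1 := by
  rw [P_scalar α (a := 1) (by simp)]; simp

theorem C_one (ν : MulChar E ℂ) : C (F := F) ν 1 = q - 1 := by
  rw [C, res, map_one, X_one]

theorem St0_one : St0 (1 : S2) = q := by
  rw [St0, res, map_one, St_one]

theorem P_trivial : P (1 : MulChar F ℂ) = St0 + fun _ => 1 := by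
  rw [← res_I, I_self]
  funext s; simp [res, St0, detC]

theorem St0_apply (s : S2) : St0 s = P (1 : MulChar F ℂ) s - 1 := by
  rw [P_trivial]; simp

theorem C_of_trivC {ν : MulChar E ℂ} (h : TrivC F ν) : C (F := F) ν = St0 - fun _ => 1 := by
  obtain ⟨c, rfl⟩ := trivC_iff.mp h
  rw [C, X_compN, ← res_St c, ← res_detC c]
  rfl

end Values

section Inner

open Classical

theorem inner_P_P (α β : MulChar F ℂ) :
    Cfsg.classInner (P α) (P β) = (if α = β then 1 else 0) + (if α * β = 1 then 1 else 0) := by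
  have := Fintype.ofFinite (MulChar F ℂ)
  rw [← res_I, ← res_I, classInner_res]
  simp only [detC_mul_I, inner_I_I, Finset.sum_add_distrib, mul_one]
  congr 1
  · rw [Finset.sum_eq_single (1 : MulChar F ℂ)]
    · simp
    · intro c _ hc; rw [if_neg (fun h => hc h.2)]
    · simp
  · rw [Finset.sum_eq_single β]
    · simp [mul_comm]
    · intro c _ hc; rw [if_neg (fun h => hc h.2)]
    · simp

theorem inner_C_C (ν μ : MulChar E ℂ) :
    Cfsg.classInner (C (F := F) ν) (C μ) =
      (if TrivC F (ν⁻¹ * μ) then 1 else 0) + (if TrivC F (ν * μ) then 1 else 0) := by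
  have := Fintype.ofFinite (MulChar F ℂ)
  rw [C, C, classInner_res]
  simp only [detC_mul_X, inner_X_X, Finset.sum_add_distrib]
  have key : ∀ ρ : MulChar E ℂ, (∑ c : MulChar F ℂ, if ν * compN E c = ρ then (1 : ℂ) else 0) =
      if TrivC F (ν⁻¹ * ρ) then 1 else 0 := by
    intro ρ
    by_cases h : TrivC F (ν⁻¹ * ρ)
    · rw [if_pos h]
      obtain ⟨c, hc⟩ := trivC_iff.mp h
      rw [Finset.sum_eq_single c]
      · rw [if_pos]; rw [hc, mul_inv_cancel_left]
      · intro d _ hd
        rw [if_neg]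
        intro he
        apply hd
        apply compN_injective (E := E)
        rw [hc, ← he, inv_mul_cancel_left]
      · simp
    · rw [if_neg h]
      refine Finset.sum_eq_zero fun c _ => if_neg fun he => h ?_
      rw [← he, inv_mul_cancel_left]
      exact trivC_compN c
  rw [key, key]
  simp only [trivC_inv_mul_pow]

theorem inner_P_C (α : MulChar F ℂ) (ν : MulChar E ℂ) :
    Cfsg.classInner (P α) (C (F := F) ν) = 0 := by
  have := Fintype.ofFinite (MulChar F ℂ)
  rw [← res_I, C, classInner_res]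
  refine Finset.sum_eq_zero fun c _ => ?_
  rw [detC_mul_I, inner_I_X]

theorem isIrr_St0 : Cfsg.IsIrrCharacter S2 (St0 (F := F)) := by
  have := Fintype.ofFinite (MulChar F ℂ)
  refine CfsgLib.Char.isIrrCharacter_iff.mpr
    ⟨CfsgLib.Char.isCharacter_comp (CfsgLib.Char.irr_isCharacter (isIrr_St 1)) ι, ?_⟩
  rw [St0, classInner_res]
  simp only [detC_mul_St, (inner_detC_St _ _).2.1]
  simp

theorem isCharacter_P (α : MulChar F ℂ) : Cfsg.IsCharacter S2 (P α) := by
  rw [← res_I]
  exact CfsgLib.Char.isCharacter_comp (isCharacter_I α 1) ι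

theorem isCharacter_C {ν : MulChar E ℂ} (h : ¬ TrivC F ν) :
    Cfsg.IsCharacter S2 (C (F := F) ν) :=
  CfsgLib.Char.isCharacter_comp
    (CfsgLib.Char.irr_isCharacter (isIrr_X (not_fixed_of_not_trivC h))) ι

theorem isIrr_P_iff {α : MulChar F ℂ} : Cfsg.IsIrrCharacter S2 (P α) ↔ α ^ 2 ≠ 1 := by
  rw [CfsgLib.Char.isIrrCharacter_iff, inner_P_P, if_pos rfl, ← sq]
  constructor
  · rintro ⟨-, h⟩ hα
    rw [if_pos hα] at h
    norm_num at h
  · intro h
    exact ⟨isCharacter_P α, by rw [if_neg h, add_zero]⟩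

theorem isIrr_C {ν : MulChar E ℂ} (h : ¬ TrivC F (ν ^ 2)) :
    Cfsg.IsIrrCharacter S2 (C (F := F) ν) := by
  have h1 : ¬ TrivC F ν := fun h1 => h fun x hx => by
    rw [MulChar.pow_apply' _ two_ne_zero, h1 x hx, one_pow]
  refine CfsgLib.Char.isIrrCharacter_iff.mpr ⟨isCharacter_C h1, ?_⟩
  rw [inner_C_C, if_pos, if_neg (by rwa [← sq]), add_zero]
  intro x hx
  rw [inv_mul_cancel]
  exact MulChar.one_apply (ne_zero_of_norm_one hx).isUnit

end Inner

section Classify

theorem exists_pairing_sl (E : Type*) [Field E] [Algebra F E] [IsQuad F E] [Fintype E]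
    {χ : S2 → ℂ} (hχ : χ 1 ≠ 0) :
    (∃ α : MulChar F ℂ, Cfsg.classInner χ (P α) ≠ 0) ∨
      ∃ ν : MulChar E ℂ, Cfsg.classInner χ (C (F := F) ν) ≠ 0 := by
  classical
  by_contra hc
  push Not at hc
  obtain ⟨hP, hX⟩ := hc
  have := Fintype.ofFinite (MulChar F ℂ)
  have := Fintype.ofFinite (MulChar E ℂ)
  set R : S2 → ℂ := ((q + 1) / 2) • ∑ α : MulChar F ℂ, ∑ β : MulChar F ℂ, P (α * β⁻¹) +
    ((q - 1) / 2) • ∑ ν : MulChar E ℂ, C (F := F) ν with hR
  have h0 : Cfsg.classInner χ R = 0 := by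
    simp [hR, CfsgLib.Char.classInner_add_right, CfsgLib.Char.classInner_smul_right,
      CfsgLib.Char.classInner_sum_right, hP, hX]
  rw [CfsgLib.Char.classInner_def] at h0
  have hRg : ∀ s, R s = if s = 1 then (q ^ 2 - 1) * (q ^ 2 - q) else 0 := fun s => by
    have h := regular_eq (E := E) (ι s)
    simp only [show (ι s = 1) ↔ s = 1 from map_eq_one_iff _ ι_injective] at h
    rw [← h, hR]
    simp [Finset.sum_apply, ← res_I_general, res, C]
  simp only [hRg, apply_ite (starRingEnd ℂ), map_zero, mul_ite, mul_zero, Finset.sum_ite_eq',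
    mem_univ, if_true, ← card_gl, map_natCast] at h0
  rcases mul_eq_zero.mp h0 with h | h
  · simp [Nat.card_pos.ne'] at h
  · rcases mul_eq_zero.mp h with h | h
    · exact hχ h
    · exact (Nat.cast_ne_zero.mpr Nat.card_pos.ne') h

theorem irr_cases_sl (E : Type*) [Field E] [Algebra F E] [IsQuad F E] [Fintype E]
    {χ : S2 → ℂ} (hχ : Cfsg.IsIrrCharacter S2 χ) :
    χ = (fun _ => 1) ∨ χ = St0 ∨ (∃ α : MulChar F ℂ, α ^ 2 ≠ 1 ∧ χ = P α) ∨
      (∃ ν : MulChar E ℂ, ¬ TrivC F (ν ^ 2) ∧ χ = C ν) ∨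
      (∃ α : MulChar F ℂ, α ≠ 1 ∧ α ^ 2 = 1 ∧ Cfsg.classInner χ (P α) ≠ 0) ∨
      ∃ ν : MulChar E ℂ, ¬ TrivC F ν ∧ TrivC F (ν ^ 2) ∧
        Cfsg.classInner χ (C (F := F) ν) ≠ 0 := by
  rcases exists_pairing_sl E (CfsgLib.Char.irr_apply_one_ne_zero hχ) with ⟨α, h⟩ | ⟨ν, h⟩
  · by_cases h2 : α ^ 2 = 1
    · by_cases h1 : α = 1
      · subst h1
        rw [P_trivial, CfsgLib.Char.classInner_add_right] at h
        by_cases h3 : Cfsg.classInner χ St0 = 0
        · rw [h3, zero_add] at h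
          exact Or.inl (irr_eq_of_classInner_ne hχ CfsgLib.Char.isIrrCharacter_one h)
        · exact Or.inr (Or.inl (irr_eq_of_classInner_ne hχ isIrr_St0 h3))
      · exact Or.inr (Or.inr (Or.inr (Or.inr (Or.inl ⟨α, h1, h2, h⟩))))
    · exact Or.inr (Or.inr (Or.inl ⟨α, h2,
        irr_eq_of_classInner_ne hχ (isIrr_P_iff.mpr h2) h⟩))
  · by_cases h2 : TrivC F (ν ^ 2)
    · by_cases h1 : TrivC F ν
      · rw [C_of_trivC h1, CfsgLib.Char.classInner_sub_right] at h
        by_cases h3 : Cfsg.classInner χ St0 = 0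
        · rw [h3, zero_sub, neg_ne_zero] at h
          exact Or.inl (irr_eq_of_classInner_ne hχ CfsgLib.Char.isIrrCharacter_one h)
        · exact Or.inr (Or.inl (irr_eq_of_classInner_ne hχ isIrr_St0 h3))
      · exact Or.inr (Or.inr (Or.inr (Or.inr (Or.inr ⟨ν, h1, h2, h⟩))))
    · exact Or.inr (Or.inr (Or.inr (Or.inl ⟨ν, h2,
        irr_eq_of_classInner_ne hχ (isIrr_C h2) h⟩)))

end Classify

end CfsgLib.KnownB.SL2
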