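import Cfsg.Agent.Lib.KnownB.SL2Split

/-!
# The four exceptional irreducible characters of `SL₂(F)`, `q` odd
-/

set_option autoImplicit false

namespace CfsgLib.KnownB.SL2

open Matrix Finset CfsgLib.KnownB.GL2
open scoped MatrixGroups ComplexConjugate

variable {F : Type*} [Field F] [Fintype F] [DecidableEq F]
variable {E : Type*} [Field E] [Algebra F E] [IsQuad F E] [Fintype E]

local notation "G2" => GL (Fin 2) F
local notation "S2" => Matrix.SpecialLinearGroup (Fin 2) F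
local notation "M2" => Matrix (Fin 2) (Fin 2) F
local notation "q" => (Fintype.card F : ℂ)

section Quadratic

variable (F) in
/-- The quadratic character with values in `ℂ`. -/
noncomputable def sgnC : MulChar F ℂ := (quadraticChar F).ringHomComp (Int.castRingHom ℂ)

theorem sgnC_apply {a : F} (ha : a ≠ 0) :
    (IsSquare a → sgnC F a = 1) ∧ (¬ IsSquare a → sgnC F a = -1) := by
  refine ⟨fun h => ?_, fun h => ?_⟩
  · simp [sgnC, (quadraticChar_one_iff_isSquare ha).mpr h]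
  · simp [sgnC, quadraticChar_neg_one_iff_not_isSquare.mpr h]

theorem sgnC_ne_one (hodd : Odd (Fintype.card F)) : sgnC F ≠ 1 :=
  (MulChar.ringHomComp_ne_one_iff (RingHom.injective_int _)).mpr
    (quadraticChar_ne_one (ringChar_ne_two hodd))

theorem sgnC_sq : sgnC F ^ 2 = 1 :=
  ((quadraticChar_isQuadratic F).comp _).sq_eq_one

theorem eq_sgnC (hodd : Odd (Fintype.card F)) {α : MulChar F ℂ} (h1 : α ≠ 1) (h2 : α ^ 2 = 1) :
    α = sgnC F := by
  obtain ⟨e⟩ := MulChar.mulEquiv_units F ℂ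
  have key : ∀ β : MulChar F ℂ, β ≠ 1 → β ^ 2 = 1 → (e β : F) = -1 := by
    intro β hb1 hb2
    have h : (e β : F) * (e β : F) = 1 := by
      rw [← Units.val_mul, ← map_mul, ← sq, hb2, map_one, Units.val_one]
    rcases mul_self_eq_one_iff.mp h with h' | h'
    · exact absurd (e.map_eq_one_iff.mp (Units.ext h')) hb1
    · exact h'
  exact e.injective (Units.ext ((key α h1 h2).trans (key _ (sgnC_ne_one hodd) sgnC_sq).symm))

omit [DecidableEq F] in
theorem card_units_quad : Nat.card Eˣ = (Fintype.card F + 1) * (Fintype.card F - 1) := by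
  rw [Nat.card_units, Nat.card_eq_fintype_card, card_quad (F := F) (E := E)]
  rcases Fintype.card F with _ | k
  · simp
  · simp; ring_nf; omega

omit [DecidableEq F] in
/-- Elements of norm one are powers `g^((q-1)j)` of a generator `g`. -/
theorem exists_pow_of_norm_one {g : Eˣ} (hg : ∀ x, x ∈ Submonoid.powers g) {x : E}
    (hx : Algebra.norm F x = 1) :
    ∃ j : ℕ, x = ((g : E) ^ (Fintype.card F - 1)) ^ j := by
  obtain ⟨k, hk⟩ := hg (Units.mk0 x (ne_zero_of_norm_one hx))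
  have hk' : (g : E) ^ k = x := by
    rw [← Units.val_pow_eq_pow_val]; exact congrArg Units.val hk
  have hord : orderOf g = (Fintype.card F + 1) * (Fintype.card F - 1) := by
    rw [← card_units_quad (E := E)]
    refine orderOf_eq_card_of_forall_mem_zpowers fun y => ?_
    obtain ⟨i, hi⟩ := hg y
    exact ⟨(i : ℤ), by simpa using hi⟩
  have h1 : g ^ (k * (Fintype.card F + 1)) = 1 := by
    refine Units.ext ?_
    rw [Units.val_pow_eq_pow_val, pow_mul, hk', pow_succ', ← algebraMap_N (F := F), hx, map_one,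
      Units.val_one]
  have h2 := orderOf_dvd_of_pow_eq_one h1
  rw [hord, mul_comm k, Nat.mul_dvd_mul_iff_left (by omega)] at h2
  obtain ⟨j, rfl⟩ := h2
  exact ⟨j, by rw [← hk', pow_mul]⟩

omit [DecidableEq F] in
theorem exists_nu0 (hodd : Odd (Fintype.card F)) :
    ∃ ν : MulChar E ℂ, ¬ TrivC F ν ∧ TrivC F (ν ^ 2) := by
  classical
  obtain ⟨e⟩ := MulChar.mulEquiv_units E ℂ
  obtain ⟨g, hg⟩ := IsCyclic.exists_monoid_generator (α := Eˣ)
  have hord : orderOf g = (Fintype.card F + 1) * (Fintype.card F - 1) := by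
    rw [← card_units_quad (E := E)]
    refine orderOf_eq_card_of_forall_mem_zpowers fun y => ?_
    obtain ⟨i, hi⟩ := hg y
    exact ⟨(i : ℤ), by simpa using hi⟩
  obtain ⟨m, hm⟩ := hodd.add_one.two_dvd
  have hq2 : 2 ≤ Fintype.card F := Fintype.one_lt_card
  refine ⟨e.symm (g ^ m), fun h => ?_, ?_⟩
  · obtain ⟨c, hc⟩ := trivC_iff.mp h
    have h1 := compN_pow_q (E := E) c
    rw [show Fintype.card F = (Fintype.card F - 1) + 1 by omega, pow_succ, mul_eq_right] at h1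
    rw [hc, ← map_pow, MulEquiv.map_eq_one_iff, ← pow_mul] at h1
    have h2 := orderOf_dvd_of_pow_eq_one h1
    rw [hord, hm] at h2
    have h3 := Nat.le_of_dvd (Nat.mul_pos (by omega) (by omega)) h2
    nlinarith [Nat.mul_pos (show 0 < m by omega) (show 0 < Fintype.card F - 1 by omega)]
  · refine trivC_iff.mpr (exists_compN ?_)
    rw [← map_pow]
    have h1 : ((g ^ m) ^ 2) ^ (Fintype.card F - 1) = 1 := by
      rw [← pow_mul, ← pow_mul, show m * (2 * (Fintype.card F - 1)) = 2 * m * (Fintype.card F - 1) by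
        ring, ← hm, ← hord, pow_orderOf_eq_one]
    rw [show Fintype.card F = (Fintype.card F - 1) + 1 by omega, pow_succ, ← map_pow, h1, map_one,
      one_mul]

omit [DecidableEq F] in
/-- The values on the norm-one group of a character whose square is trivial there. -/
theorem nu0_apply (hodd : Odd (Fintype.card F)) {ν : MulChar E ℂ} (h1 : ¬ TrivC F ν)
    (h2 : TrivC F (ν ^ 2)) {x : E} (hx : Algebra.norm F x = 1) :
    (x ^ ((Fintype.card F + 1) / 2) = 1 → ν x = 1) ∧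
      (x ^ ((Fintype.card F + 1) / 2) ≠ 1 → ν x = -1) := by
  classical
  obtain ⟨g, hg⟩ := IsCyclic.exists_monoid_generator (α := Eˣ)
  have hord : orderOf g = (Fintype.card F + 1) * (Fintype.card F - 1) := by
    rw [← card_units_quad (E := E)]
    refine orderOf_eq_card_of_forall_mem_zpowers fun y => ?_
    obtain ⟨i, hi⟩ := hg y
    exact ⟨(i : ℤ), by simpa using hi⟩
  obtain ⟨m, hm⟩ := hodd.add_one.two_dvd
  have hm2 : (Fintype.card F + 1) / 2 = m := by omega
  have hq2 : 2 ≤ Fintype.card F := Fintype.one_lt_card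
  set w : E := (g : E) ^ (Fintype.card F - 1) with hw
  have hwn : Algebra.norm F w = 1 := by
    apply (algebraMap F E).injective
    rw [algebraMap_N, map_one, ← pow_succ', hw, ← pow_mul,
      show (Fintype.card F - 1) * (Fintype.card F + 1) = orderOf g by rw [hord, mul_comm],
      ← Units.val_pow_eq_pow_val, pow_orderOf_eq_one, Units.val_one]
  have hνw : ν w = -1 := by
    have h := h2 w hwn
    rw [MulChar.pow_apply' _ two_ne_zero, sq] at h
    rcases mul_self_eq_one_iff.mp h with h' | h'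
    · exfalso
      apply h1
      intro y hy
      obtain ⟨j, rfl⟩ := exists_pow_of_norm_one hg hy
      rw [map_pow, h', one_pow]
    · exact h'
  have hwm : w ^ m = -1 := by
    have hsq : w ^ m * w ^ m = 1 := by
      rw [← pow_add, hw, ← pow_mul, show (Fintype.card F - 1) * (m + m) = orderOf g by
        rw [hord, hm]; ring, ← Units.val_pow_eq_pow_val, pow_orderOf_eq_one, Units.val_one]
    rcases mul_self_eq_one_iff.mp hsq with h' | h'
    · exfalso
      rw [hw, ← pow_mul, ← Units.val_pow_eq_pow_val, Units.val_eq_one] at h'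
      have h3 := Nat.le_of_dvd
        (Nat.mul_pos (show 0 < Fintype.card F - 1 by omega) (show 0 < m by omega))
        (orderOf_dvd_of_pow_eq_one h')
      rw [hord, hm] at h3
      nlinarith [Nat.mul_pos (show 0 < m by omega) (show 0 < Fintype.card F - 1 by omega)]
    · exact h'
  obtain ⟨j, rfl⟩ := exists_pow_of_norm_one hg hx
  have hne : (-1 : E) ≠ 1 := by
    intro h
    have hF : (-1 : F) = 1 := (algebraMap F E).injective (by simpa using h)
    exact two_ne hodd (by linear_combination -hF)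
  rw [hm2, ← pow_mul, mul_comm, pow_mul, hwm, map_pow, hνw]
  rcases Nat.even_or_odd j with hj | hj
  · simp [hj.neg_one_pow]
  · simp [hj.neg_one_pow, hne]

theorem C_eq_of_nu0 (hodd : Odd (Fintype.card F)) {ν μ : MulChar E ℂ} (h1 : ¬ TrivC F ν)
    (h2 : TrivC F (ν ^ 2)) (h1' : ¬ TrivC F μ) (h2' : TrivC F (μ ^ 2)) :
    C (F := F) ν = C μ := by
  have heq : ∀ x : E, Algebra.norm F x = 1 → ν x = μ x := fun x hx => by
    obtain ⟨a1, a2⟩ := nu0_apply hodd h1 h2 hx
    obtain ⟨b1, b2⟩ := nu0_apply hodd h1' h2' hx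
    by_cases h : x ^ ((Fintype.card F + 1) / 2) = 1
    · rw [a1 h, b1 h]
    · rw [a2 h, b2 h]
  funext s
  rcases sl_cases E s with ⟨a, ha, hs⟩ | ⟨hs, a, ha, ht⟩ | ⟨a, b, hab, hne, ht⟩ | ⟨x, hx, hn, ht⟩
  · rw [C_scalar ν hs, C_scalar μ hs, heq _ (by rw [N_algebraMap, ha])]
  · rw [C_double ν hs ha ht, C_double μ hs ha ht, heq _ (by rw [N_algebraMap, ha])]
  · rw [C_split ν hab hne ht, C_split μ hab hne ht]
  · rw [C_ell ν hx hn ht, C_ell μ hx hn ht, heq x hn, heq _ (norm_inv_one hn)]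

end Quadratic

section Constituents

variable {G : Type*} [Group G] [Fintype G]

omit [Field F] [Fintype F] [DecidableEq F] [Field E] [Fintype E] in
theorem exists_two_constituents {Φ : G → ℂ} (hΦ : Cfsg.IsCharacter G Φ)
    (h : Cfsg.classInner Φ Φ = 2) :
    ∃ χ₁ χ₂ : G → ℂ, Cfsg.IsIrrCharacter G χ₁ ∧ Cfsg.IsIrrCharacter G χ₂ ∧ χ₁ ≠ χ₂ ∧
      Φ = χ₁ + χ₂ := by
  classical
  have := Fintype.ofFinite (Cfsg.IrrCharacter G)
  have hcl := CfsgLib.Char.isCharacter_isClassFunction hΦ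
  choose k hk using fun χ : Cfsg.IrrCharacter G =>
    CfsgLib.Char.classInner_isCharacter_nat hΦ (CfsgLib.Char.irr_isCharacter χ.2)
  rw [CfsgLib.Char.classInner_eq_sum_mul hcl Φ] at h
  simp only [hk, map_natCast] at h
  have h' : ∑ χ, k χ * k χ = 2 := by exact_mod_cast h
  have hle : ∀ χ, k χ ≤ 1 := fun χ => by
    have := Finset.single_le_sum (f := fun χ => k χ * k χ) (fun _ _ => Nat.zero_le _)
      (Finset.mem_univ χ)
    simp only [h'] at this
    nlinarith
  have hcard : (Finset.univ.filter fun χ => k χ = 1).card = 2 := by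
    rw [Finset.card_filter, ← h']
    refine Finset.sum_congr rfl fun χ _ => ?_
    have := hle χ
    interval_cases k χ <;> simp
  obtain ⟨a, b, hab, hs⟩ := Finset.card_eq_two.mp hcard
  refine ⟨a.1, b.1, a.2, b.2, fun h => hab (Subtype.ext h), ?_⟩
  rw [CfsgLib.Char.classFunction_eq_sum hcl, ← Finset.sum_pair (f := fun χ :
      Cfsg.IrrCharacter G => (χ : G → ℂ)) hab, ← hs, Finset.sum_filter]
  refine Finset.sum_congr rfl fun χ _ => ?_
  rw [hk]
  have := hle χ
  interval_cases k χ <;> simp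

omit [Field F] [Fintype F] [DecidableEq F] [Field E] [Fintype E] in
theorem eq_or_eq_of_pairing {χ χ₁ χ₂ : G → ℂ} (hχ : Cfsg.IsIrrCharacter G χ)
    (h1 : Cfsg.IsIrrCharacter G χ₁) (h2 : Cfsg.IsIrrCharacter G χ₂)
    (h : Cfsg.classInner χ (χ₁ + χ₂) ≠ 0) : χ = χ₁ ∨ χ = χ₂ := by
  by_contra hc
  push Not at hc
  rw [CfsgLib.Char.classInner_add_right, CfsgLib.Char.irr_classInner_ne hχ h1 hc.1,
    CfsgLib.Char.irr_classInner_ne hχ h2 hc.2, add_zero] at h
  exact h rfl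

end Constituents

section Halves

/-- `χ₁, χ₂` are the two halves of `Φ`, exchanged by `outer ε`. -/
structure Halves (ε : Fˣ) (Φ χ₁ χ₂ : Matrix.SpecialLinearGroup (Fin 2) F → ℂ) : Prop where
  irr₁ : Cfsg.IsIrrCharacter S2 χ₁
  irr₂ : Cfsg.IsIrrCharacter S2 χ₂
  ne : χ₁ ≠ χ₂
  sum : Φ = χ₁ + χ₂
  swap : ∀ s, χ₁ (outer ε s) = χ₂ s

theorem Halves.swap' {ε : Fˣ} {Φ χ₁ χ₂ : S2 → ℂ} (h : Halves ε Φ χ₁ χ₂)
    (hinv : ∀ s, Φ (outer ε s) = Φ s) (s : S2) : χ₂ (outer ε s) = χ₁ s := by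
  have h1 := hinv s
  rw [h.sum] at h1
  simp only [Pi.add_apply, h.swap] at h1
  linear_combination h1

theorem sum_outer {β : Type*} [AddCommMonoid β] (ε : Fˣ) (f : S2 → β) :
    ∑ s, f (outer ε s) = ∑ s, f s :=
  Function.Bijective.sum_comp (outer_bijective ε) f

theorem inner_anti_inv (ε : Fˣ) {D χ : S2 → ℂ} (hD : ∀ s, D (outer ε s) = -D s)
    (hχ : ∀ s, χ (outer ε s) = χ s) : Cfsg.classInner D χ = 0 := by
  rw [CfsgLib.Char.classInner_def]
  have h := sum_outer ε (fun s => D s * conj (χ s))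
  simp only [hD, hχ, neg_mul, Finset.sum_neg_distrib] at h
  rw [show ∑ s, D s * conj (χ s) = 0 by linear_combination -(1 / 2 : ℂ) * h, mul_zero]

open Classical in
/-- The difference of the indicators of the two classes of `u₀` type. -/
noncomputable def D1 (ε : Fˣ) : S2 → ℂ :=
  fun s => (if IsConj s u₀ then 1 else 0) - (if IsConj s (outer ε u₀) then 1 else 0)

theorem D1_facts (hodd : Odd (Fintype.card F)) (ε : Fˣ) (hε : ¬ IsSquare (ε : F)) :
    Cfsg.IsClassFunction S2 (D1 ε) ∧ (∀ s, D1 ε (outer ε s) = -D1 ε s) ∧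
      D1 ε u₀ = 1 ∧ D1 ε (zz * u₀) = 0 := by
  classical
  refine ⟨fun g h => ?_, fun s => ?_, ?_, ?_⟩
  · have : ∀ t, IsConj (h * g * h⁻¹) t ↔ IsConj g t := fun t =>
      ⟨fun hc => (isConj_iff.mpr ⟨h, rfl⟩).trans hc,
        fun hc => (isConj_iff.mpr ⟨h, rfl⟩).symm.trans hc⟩
    simp only [D1, this]
  · have e1 : IsConj (outer ε s) u₀ ↔ IsConj s (outer ε u₀) := by
      rw [← isConj_outer_iff ε (t := outer ε u₀)]
      exact ⟨fun h => h.trans (isConj_outer_outer_u₀ ε).symm,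
        fun h => h.trans (isConj_outer_outer_u₀ ε)⟩
    simp only [D1, e1, isConj_outer_iff]
    ring
  · simp only [D1, if_pos (IsConj.refl (u₀ : S2)), if_neg (not_isConj_u₀_outer ε hε), sub_zero]
  · have hne : ∀ t : S2, (t : M2).trace = 1 + 1 → ¬ IsConj (zz * u₀) t := fun t ht hc => by
      have h := (isConj_trace_det (MonoidHom.map_isConj ι hc)).1
      rw [coe_ι, coe_ι, (zz_mul_dbl u₀_dbl.1 u₀_dbl.2).2, ht] at h
      apply two_ne hodd
      have : (2 : F) * 2 = 0 := by linear_combination -h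
      exact mul_self_eq_zero.mp this
    have h2 : ((outer ε u₀ : S2) : M2).trace = 1 + 1 := by rw [outer_trace_det, u₀_dbl.2]
    simp only [D1, if_neg (hne _ u₀_dbl.2), if_neg (hne _ h2), sub_zero]

theorem exists_halves (hodd : Odd (Fintype.card F)) (ε : Fˣ) (hε : ¬ IsSquare (ε : F))
    {Φ Ψ : S2 → ℂ} (hΦ : Cfsg.IsCharacter S2 Φ) (hΦ2 : Cfsg.classInner Φ Φ = 2)
    (hΦi : ∀ s, Φ (outer ε s) = Φ s) (hΨ : Cfsg.IsCharacter S2 Ψ)
    (hΨ2 : Cfsg.classInner Ψ Ψ = 2) (hΨi : ∀ s, Ψ (outer ε s) = Ψ s)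
    (hcover : ∀ χ, Cfsg.IsIrrCharacter S2 χ → (∀ s, χ (outer ε s) = χ s) ∨
      Cfsg.classInner χ Φ ≠ 0 ∨ Cfsg.classInner χ Ψ ≠ 0) :
    ∃ χ₁ χ₂, Halves ε Φ χ₁ χ₂ := by
  classical
  obtain ⟨χ₁, χ₂, h1, h2, hne, hsum⟩ := exists_two_constituents hΦ hΦ2
  have hs := (outer_bijective (F := F) ε).surjective
  have h1' : Cfsg.IsIrrCharacter S2 (χ₁ ∘ outer ε) :=
    CfsgLib.Char.isIrrCharacter_comp_surjective h1 _ hs
  have h2' : Cfsg.IsIrrCharacter S2 (χ₂ ∘ outer ε) :=
    CfsgLib.Char.isIrrCharacter_comp_surjective h2 _ hs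
  have hne' : χ₁ ∘ outer ε ≠ χ₂ ∘ outer ε := fun h => hne (funext fun s => by
    obtain ⟨t, rfl⟩ := hs s; exact congrFun h t)
  have hsum' : Φ = χ₁ ∘ outer ε + χ₂ ∘ outer ε := by
    funext s; rw [← hΦi s, hsum]; rfl
  have hin : Cfsg.classInner (χ₁ ∘ outer ε) (χ₁ + χ₂) ≠ 0 := by
    rw [← hsum, hsum', CfsgLib.Char.classInner_add_right, CfsgLib.Char.irr_classInner_self h1',
      CfsgLib.Char.irr_classInner_ne h1' h2' hne', add_zero]
    exact one_ne_zero
  rcases eq_or_eq_of_pairing h1' h1 h2 hin with hfix | hswap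
  swap
  · exact ⟨χ₁, χ₂, h1, h2, hne, hsum, fun s => congrFun hswap s⟩
  exfalso
  have hfix1 : ∀ s, χ₁ (outer ε s) = χ₁ s := fun s => congrFun hfix s
  have hfix2 : ∀ s, χ₂ (outer ε s) = χ₂ s := fun s => by
    have h := hΦi s
    rw [hsum] at h
    simp only [Pi.add_apply, hfix1] at h
    linear_combination h
  obtain ⟨c₁, c₂, hc1, hc2, hcne, hcsum⟩ := exists_two_constituents hΨ hΨ2
  have hinv : ∀ χ, Cfsg.IsIrrCharacter S2 χ → χ ≠ c₁ → χ ≠ c₂ →
      ∀ s, χ (outer ε s) = χ s := by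
    intro χ hχ hn1 hn2
    rcases hcover χ hχ with h | h | h
    · exact h
    · rw [hsum] at h
      rcases eq_or_eq_of_pairing hχ h1 h2 h with rfl | rfl
      · exact hfix1
      · exact hfix2
    · rw [hcsum] at h
      rcases eq_or_eq_of_pairing hχ hc1 hc2 h with rfl | rfl
      · exact absurd rfl hn1
      · exact absurd rfl hn2
  have := Fintype.ofFinite (Cfsg.IrrCharacter S2)
  have expand : ∀ D : S2 → ℂ, Cfsg.IsClassFunction S2 D → (∀ s, D (outer ε s) = -D s) →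
      ∀ s, D s = Cfsg.classInner D c₁ * (c₁ s - c₂ s) := by
    intro D hD hanti s
    have h0 : Cfsg.classInner D c₁ + Cfsg.classInner D c₂ = 0 := by
      rw [← CfsgLib.Char.classInner_add_right, ← hcsum]
      exact inner_anti_inv ε hanti hΨi
    rw [CfsgLib.Char.classFunction_apply_eq_sum hD, Finset.sum_eq_add (⟨c₁, hc1⟩ : Cfsg.IrrCharacter S2)
      ⟨c₂, hc2⟩ (fun h => hcne (congrArg Subtype.val h)) (fun χ _ hχ => ?_) (by simp) (by simp)]
    · linear_combination (c₂ s) * h0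
    · rw [inner_anti_inv ε hanti (hinv χ.1 χ.2 (fun h => hχ.1 (Subtype.ext h))
        (fun h => hχ.2 (Subtype.ext h))), zero_mul]
  obtain ⟨d1, d2, d3, d4⟩ := D1_facts hodd ε hε
  have hz : ∀ g : S2, g * zz = zz * g := fun g => Subgroup.mem_center_iff.mp zz_mem_center g
  have e1 := expand _ d1 d2
  have e2 := expand (fun s => D1 ε (zz * s))
    (fun g h => by
      show D1 ε (zz * (h * g * h⁻¹)) = D1 ε (zz * g)
      rw [← mul_assoc, ← mul_assoc, ← hz h, mul_assoc h zz g]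
      exact d1 _ h)
    (fun s => by
      show D1 ε (zz * outer ε s) = -D1 ε (zz * s)
      rw [← d2, map_mul, outer_zz])
  have a1 := e1 u₀
  have a2 := e2 u₀
  have a3 := e2 (zz * u₀)
  rw [← mul_assoc, zz_mul_zz, one_mul, d3] at a3
  rw [d3] at a1
  rw [d4] at a2
  rcases mul_eq_zero.mp a2.symm with h | h
  · rw [h, zero_mul] at a3; exact one_ne_zero a3
  · rw [h, mul_zero] at a1; exact one_ne_zero a1

theorem Halves.one_apply {ε : Fˣ} {Φ χ₁ χ₂ : S2 → ℂ} (h : Halves ε Φ χ₁ χ₂) {s : S2}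
    (hs : IsConj s (outer ε s)) : χ₁ s = Φ s / 2 ∧ χ₂ s = Φ s / 2 := by
  have h1 := CfsgLib.Char.isClassFunction_isConj (CfsgLib.Char.irr_isClassFunction h.irr₁) hs
  rw [h.swap] at h1
  rw [h.sum]
  simp only [Pi.add_apply, h1]
  constructor <;> ring

theorem Halves.deg {ε : Fˣ} {Φ χ₁ χ₂ : S2 → ℂ} (h : Halves ε Φ χ₁ χ₂) :
    χ₁ 1 = Φ 1 / 2 ∧ χ₂ 1 = Φ 1 / 2 :=
  h.one_apply (by rw [map_one])

theorem Halves.disc (hodd : Odd (Fintype.card F)) {ε : Fˣ} (hε : ¬ IsSquare (ε : F))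
    {Φ χ₁ χ₂ : S2 → ℂ} (h : Halves ε Φ χ₁ χ₂) (hinv : ∀ s, Φ (outer ε s) = Φ s) :
    (χ₁ u₀ - χ₂ u₀) ^ 2 = (-1 : ℂ) ^ ((Fintype.card F - 1) / 2) * q := by
  classical
  obtain ⟨hq0, hq1, hq2⟩ := q_facts (F := F)
  have hi1 := CfsgLib.Char.irr_isCharacter h.irr₁
  have hi2 := CfsgLib.Char.irr_isCharacter h.irr₂
  set δ : S2 → ℂ := χ₁ - χ₂ with hδ
  have hcl : Cfsg.IsClassFunction S2 δ :=
    CfsgLib.Char.isGeneralized_isClassFunction (CfsgLib.Char.isGeneralized_sub
      (CfsgLib.Char.isGeneralized_of_isCharacter hi1)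
      (CfsgLib.Char.isGeneralized_of_isCharacter hi2))
  have hanti : ∀ s, δ (outer ε s) = -δ s := fun s => by
    simp only [hδ, Pi.sub_apply, h.swap, h.swap' hinv]; ring
  have hn := antiinvariant_norm hodd ε hε hcl hanti
  have hdd : Cfsg.classInner δ δ = 2 := by
    rw [hδ, CfsgLib.Char.classInner_sub_left, CfsgLib.Char.classInner_sub_right,
      CfsgLib.Char.classInner_sub_right, CfsgLib.Char.irr_classInner_self h.irr₁,
      CfsgLib.Char.irr_classInner_self h.irr₂, CfsgLib.Char.irr_classInner_ne h.irr₁ h.irr₂ h.ne,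
      CfsgLib.Char.irr_classInner_ne h.irr₂ h.irr₁ (Ne.symm h.ne)]
    norm_num
  have hcard : (Nat.card S2 : ℂ) = q * (q ^ 2 - 1) := by
    apply mul_right_cancel₀ hq1
    rw [card_sl]; ring
  -- the two values differ by a sign
  obtain ⟨c, hc, hcz⟩ : ∃ c : ℂ, c * c = 1 ∧ δ (zz * u₀) = c * δ u₀ := by
    have hne : χ₁ 1 ≠ 0 := CfsgLib.Char.irr_apply_one_ne_zero h.irr₁
    have hz := h.one_apply (s := zz) (by rw [outer_zz])
    have hd := h.deg
    refine ⟨χ₁ zz / χ₁ 1, ?_, ?_⟩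
    · have := irr_mul_central h.irr₁ zz_mem_center zz
      rw [zz_mul_zz] at this
      field_simp
      linear_combination -this
    · have a1 := irr_mul_central h.irr₁ zz_mem_center u₀
      have a2 := irr_mul_central h.irr₂ zz_mem_center u₀
      rw [hd.2, ← hd.1, hz.2, ← hz.1] at a2
      simp only [hδ, Pi.sub_apply]
      field_simp
      linear_combination a1 - a2
  have hcc : c * conj c = 1 := by
    rcases mul_self_eq_one_iff.mp hc with rfl | rfl <;> simp
  have hnorm : δ u₀ * conj (δ u₀) = q := by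
    rw [hdd, hcard, hcz, map_mul,
      show c * δ u₀ * (conj c * conj (δ u₀)) = c * conj c * (δ u₀ * conj (δ u₀)) by ring,
      hcc, one_mul] at hn
    have : q ^ 2 - 1 ≠ 0 := by
      rw [show q ^ 2 - 1 = (q - 1) * (q + 1) by ring]; exact mul_ne_zero hq1 hq2
    apply mul_left_cancel₀ this
    linear_combination -hn / 2
  have hinvu : (u₀ : S2)⁻¹ = utri 1 (-1) (one_mul 1) := by
    refine inv_eq_of_mul_eq_one_right (Subtype.ext ?_)
    rw [Matrix.SpecialLinearGroup.coe_mul, u₀, coe_utri, coe_utri,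
      Matrix.SpecialLinearGroup.coe_one]
    ext i j
    fin_cases i <;> fin_cases j <;> simp [Matrix.mul_apply, Fin.sum_univ_two]
  have hconj : conj (δ u₀) = δ (utri 1 (-1) (one_mul 1)) := by
    rw [← hinvu, hδ, Pi.sub_apply, Pi.sub_apply, map_sub, CfsgLib.Char.char_inv hi1,
      CfsgLib.Char.char_inv hi2]
  show (δ u₀) ^ 2 = _
  by_cases hsq : IsSquare (-1 : F)
  · have hu : IsConj (utri 1 (-1) (one_mul 1)) (u₀ : S2) :=
      (isConj_utri_iff (one_mul 1) (neg_ne_zero.mpr one_ne_zero) one_ne_zero).mpr (by rwa [mul_one])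
    rw [CfsgLib.Char.isClassFunction_isConj hcl hu] at hconj
    have he : Even ((Fintype.card F - 1) / 2) := by
      have := FiniteField.isSquare_neg_one_iff.mp hsq
      rw [Nat.odd_iff] at hodd
      rw [Nat.even_iff]; omega
    rw [he.neg_one_pow, one_mul, ← hnorm, hconj]; ring
  · have hu : IsConj (utri 1 (-1) (one_mul 1)) (outer ε u₀ : S2) := by
      rw [outer_u₀]
      exact (isConj_utri_iff (one_mul 1) (neg_ne_zero.mpr one_ne_zero) (Units.ne_zero _)).mpr
        ((isSquare_or ε hε (-1)).resolve_left hsq)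
    rw [CfsgLib.Char.isClassFunction_isConj hcl hu, hanti] at hconj
    have he : Odd ((Fintype.card F - 1) / 2) := by
      have : Fintype.card F % 4 = 3 := by
        by_contra hc4; exact hsq (FiniteField.isSquare_neg_one_iff.mpr hc4)
      rw [Nat.odd_iff]; omega
    rw [he.neg_one_pow, ← hnorm, hconj]; ring

theorem nonsquare_exists (hodd : Odd (Fintype.card F)) : ∃ ε : Fˣ, ¬ IsSquare (ε : F) := by
  obtain ⟨a, ha⟩ := FiniteField.exists_nonsquare (ringChar_ne_two hodd)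
  exact ⟨Units.mk0 a (fun h => ha (h ▸ IsSquare.zero)), ha⟩

theorem inner_P_sgn (hodd : Odd (Fintype.card F)) :
    Cfsg.classInner (P (sgnC F)) (P (sgnC F)) = 2 := by
  rw [inner_P_P, if_pos rfl, if_pos (by rw [← sq, sgnC_sq])]
  norm_num

theorem inner_C_nu0 {ν : MulChar E ℂ} (h2 : TrivC F (ν ^ 2)) :
    Cfsg.classInner (C (F := F) ν) (C ν) = 2 := by
  rw [inner_C_C, if_pos, if_pos (by rwa [← sq])]
  · norm_num
  · intro x hx
    rw [inv_mul_cancel]
    exact MulChar.one_apply (ne_zero_of_norm_one hx).isUnit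

theorem cover (hodd : Odd (Fintype.card F)) (ε : Fˣ) {ν : MulChar E ℂ} (h1 : ¬ TrivC F ν)
    (h2 : TrivC F (ν ^ 2)) {χ : S2 → ℂ} (hχ : Cfsg.IsIrrCharacter S2 χ) :
    (∀ s, χ (outer ε s) = χ s) ∨ Cfsg.classInner χ (P (sgnC F)) ≠ 0 ∨
      Cfsg.classInner χ (C (F := F) ν) ≠ 0 := by
  rcases irr_cases_sl E hχ with rfl | rfl | ⟨α, -, rfl⟩ | ⟨μ, -, rfl⟩ | ⟨α, ha, hb, h⟩ |
    ⟨μ, ha, hb, h⟩
  · exact Or.inl fun _ => rfl
  · exact Or.inl (St0_outer ε)
  · exact Or.inl (P_outer α ε)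
  · exact Or.inl (C_outer μ ε)
  · rw [eq_sgnC hodd ha hb] at h; exact Or.inr (Or.inl h)
  · rw [C_eq_of_nu0 hodd ha hb h1 h2] at h; exact Or.inr (Or.inr h)

theorem exists_halves_P (E : Type*) [Field E] [Algebra F E] [IsQuad F E] [Fintype E]
    (hodd : Odd (Fintype.card F)) (ε : Fˣ) (hε : ¬ IsSquare (ε : F)) :
    ∃ χ₁ χ₂, Halves ε (P (sgnC F)) χ₁ χ₂ := by
  obtain ⟨ν, h1, h2⟩ := exists_nu0 (E := E) hodd
  exact exists_halves hodd ε hε (isCharacter_P _) (inner_P_sgn hodd) (P_outer _ ε)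
    (isCharacter_C h1) (inner_C_nu0 h2) (C_outer ν ε) (fun χ hχ => cover hodd ε h1 h2 hχ)

theorem exists_halves_C (hodd : Odd (Fintype.card F)) (ε : Fˣ) (hε : ¬ IsSquare (ε : F))
    {ν : MulChar E ℂ} (h1 : ¬ TrivC F ν) (h2 : TrivC F (ν ^ 2)) :
    ∃ χ₁ χ₂, Halves ε (C (F := F) ν) χ₁ χ₂ := by
  refine exists_halves hodd ε hε (isCharacter_C h1) (inner_C_nu0 h2) (C_outer ν ε)
    (isCharacter_P _) (inner_P_sgn hodd) (P_outer _ ε) (fun χ hχ => ?_)
  rcases cover hodd ε h1 h2 hχ with h | h | h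
  · exact Or.inl h
  · exact Or.inr (Or.inr h)
  · exact Or.inr (Or.inl h)

/-- The complete list for odd `q`. -/
theorem irr_cases_odd (hodd : Odd (Fintype.card F)) (ε : Fˣ) {ν : MulChar E ℂ}
    (h1 : ¬ TrivC F ν) (h2 : TrivC F (ν ^ 2))
    {p₁ p₂ c₁ c₂ : S2 → ℂ} (hP : Halves ε (P (sgnC F)) p₁ p₂)
    (hC : Halves ε (C (F := F) ν) c₁ c₂) {χ : S2 → ℂ} (hχ : Cfsg.IsIrrCharacter S2 χ) :
    χ = (fun _ => 1) ∨ χ = St0 ∨ (∃ α : MulChar F ℂ, α ^ 2 ≠ 1 ∧ χ = P α) ∨
      (∃ μ : MulChar E ℂ, ¬ TrivC F (μ ^ 2) ∧ χ = C μ) ∨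
      χ = p₁ ∨ χ = p₂ ∨ χ = c₁ ∨ χ = c₂ := by
  rcases irr_cases_sl E hχ with h | h | h | h | ⟨α, ha, hb, h⟩ | ⟨μ, ha, hb, h⟩
  · exact Or.inl h
  · exact Or.inr (Or.inl h)
  · exact Or.inr (Or.inr (Or.inl h))
  · exact Or.inr (Or.inr (Or.inr (Or.inl h)))
  · rw [eq_sgnC hodd ha hb, hP.sum] at h
    rcases eq_or_eq_of_pairing hχ hP.irr₁ hP.irr₂ h with h | h
    · exact Or.inr (Or.inr (Or.inr (Or.inr (Or.inl h))))
    · exact Or.inr (Or.inr (Or.inr (Or.inr (Or.inr (Or.inl h)))))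
  · rw [C_eq_of_nu0 hodd ha hb h1 h2, hC.sum] at h
    rcases eq_or_eq_of_pairing hχ hC.irr₁ hC.irr₂ h with h | h
    · exact Or.inr (Or.inr (Or.inr (Or.inr (Or.inr (Or.inr (Or.inl h))))))
    · exact Or.inr (Or.inr (Or.inr (Or.inr (Or.inr (Or.inr (Or.inr h))))))

end Halves

end CfsgLib.KnownB.SL2
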