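import Cfsg.Agent.Lib.KnownB.SL2Split
import Cfsg.Agent.Lib.KnownB.InvGroup
import Cfsg.Agent.Lib.Classical.SLTwoTori
import Cfsg.Agent.Lib.Classical.SLTwoSylowTwo

/-!
# The two tori of `SL₂(F)` (odd `q`), their centralisers and normalisers
-/

set_option autoImplicit false

namespace CfsgLib.KnownB.SL2

open Matrix CfsgLib.KnownB.GL2
open scoped MatrixGroups

variable {F : Type*} [Field F]

local notation "S2" => Matrix.SpecialLinearGroup (Fin 2) F
local notation "M2" => Matrix (Fin 2) (Fin 2) F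

theorem ext_entries {s t : S2} (h00 : (s : M2) 0 0 = (t : M2) 0 0) (h01 : (s : M2) 0 1 = (t : M2) 0 1)
    (h10 : (s : M2) 1 0 = (t : M2) 1 0) (h11 : (s : M2) 1 1 = (t : M2) 1 1) : s = t :=
  Subtype.ext (by ext i j; fin_cases i <;> fin_cases j <;> assumption)

theorem det_entries (s : S2) :
    (s : M2) 0 0 * (s : M2) 1 1 - (s : M2) 0 1 * (s : M2) 1 0 = 1 := by
  rw [← det_fin_two]; exact s.2

theorem coe_inv_entries (s : S2) : ((s⁻¹ : S2) : M2) =
    !![(s : M2) 1 1, -(s : M2) 0 1; -(s : M2) 1 0, (s : M2) 0 0] := by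
  rw [Matrix.SpecialLinearGroup.coe_inv, adjugate_fin_two]

theorem mul_self_eq_one_iff_center (h2 : (2 : F) ≠ 0) {s : S2} :
    s * s = 1 ↔ (s : M2) = 1 ∨ (s : M2) = -1 := by
  constructor
  · intro h
    have e := congrArg (fun x : S2 => (x : M2)) (inv_eq_of_mul_eq_one_left h)
    simp only [coe_inv_entries] at e
    have e00 := congrFun (congrFun e 0) 0
    have e01 := congrFun (congrFun e 0) 1
    have e10 := congrFun (congrFun e 1) 0
    simp at e00 e01 e10
    have z01 : (s : M2) 0 1 = 0 :=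
      (mul_eq_zero.mp (show (2 : F) * (s : M2) 0 1 = 0 by linear_combination -e01)).resolve_left h2
    have z10 : (s : M2) 1 0 = 0 :=
      (mul_eq_zero.mp (show (2 : F) * (s : M2) 1 0 = 0 by linear_combination -e10)).resolve_left h2
    have hd := det_entries s
    rw [z01, e00, zero_mul, sub_zero] at hd
    rcases mul_self_eq_one_iff.mp hd with ha | ha
    · left; rw [eta_fin_two (s : M2), z01, z10, e00, ha, Matrix.one_fin_two]
    · right
      rw [eta_fin_two (s : M2), z01, z10, e00, ha, Matrix.one_fin_two]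
      simp
  · rintro (h | h) <;> refine Subtype.ext ?_ <;>
      simp [Matrix.SpecialLinearGroup.coe_mul, h]

theorem mem_center_of_mul_self (h2 : (2 : F) ≠ 0) {s : S2} (h : s * s = 1) :
    s ∈ Subgroup.center S2 := by
  rw [Matrix.SpecialLinearGroup.mem_center_iff]
  rcases (mul_self_eq_one_iff_center h2).mp h with h' | h'
  · exact ⟨1, by simp, by rw [h', Matrix.scalar_apply, ← Matrix.smul_one_eq_diagonal, one_smul]⟩
  · exact ⟨-1, by simp, by
      rw [h', Matrix.scalar_apply, ← Matrix.smul_one_eq_diagonal, neg_smul, one_smul]⟩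

theorem mem_normalizer_of_inverts {G : Type*} [Group G] {T : Subgroup G} {w : G}
    (hz : w * w ∈ Subgroup.center G) (h : ∀ a ∈ T, w * a * w⁻¹ = a⁻¹) :
    w ∈ Subgroup.normalizer (T : Set G) := by
  rw [Subgroup.mem_normalizer_iff]
  intro t
  refine ⟨fun ht => (h t ht).symm ▸ inv_mem ht, fun ht => ?_⟩
  have h3 : w * (w * t * w⁻¹) * w⁻¹ = t := by
    calc _ = (w * w) * t * (w * w)⁻¹ := by group
      _ = t := by rw [← Subgroup.mem_center_iff.mp hz t, mul_inv_cancel_right]
  have := h _ ht
  rw [h3] at this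
  rw [this]
  exact inv_mem ht

/-- A cyclic self-centralising subgroup of order `n`, inverted by the rest of its normaliser. -/
structure TorusData {G : Type*} [Group G] (T : Subgroup G) (n : ℕ) : Prop where
  cyclic : IsCyclic T
  card : Nat.card T = n
  cent : ∀ g ∈ T, g * g ≠ 1 → Subgroup.centralizer ({g} : Set G) = T
  card_norm : Nat.card (Subgroup.normalizer (T : Set G)) = 2 * n
  inv : ∀ x ∈ Subgroup.normalizer (T : Set G), x ∉ T →
    (∀ a ∈ T, x * a * x⁻¹ = a⁻¹) ∧ (x * x) * (x * x) = 1 ∧ x * x ≠ 1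

variable [Fintype F]

theorem torusData_split (hodd : Odd (Fintype.card F)) (hq : 3 < Fintype.card F) :
    TorusData (Classical.splitTorus F).range (Fintype.card F - 1) ∧
    (∀ s : S2, s ∈ (Classical.splitTorus F).range ↔ (s : M2) 0 1 = 0 ∧ (s : M2) 1 0 = 0) ∧
    (∀ x ∈ Subgroup.normalizer ((Classical.splitTorus F).range : Set S2),
      x ∉ (Classical.splitTorus F).range → ((x * x : S2) : M2) = -1) := by
  classical
  have h2 := two_ne hodd
  set T := (Classical.splitTorus F).range with hT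
  have hmem : ∀ s : S2, s ∈ T ↔ (s : M2) 0 1 = 0 ∧ (s : M2) 1 0 = 0 := by
    intro s
    constructor
    · rintro ⟨u, rfl⟩
      exact ⟨rfl, rfl⟩
    · rintro ⟨h01, h10⟩
      have hd := det_entries s
      rw [h01, zero_mul, sub_zero] at hd
      refine ⟨Units.mk0 ((s : M2) 0 0) (left_ne_zero_of_mul_eq_one hd),
        ext_entries rfl h01.symm h10.symm ?_⟩
      show ((Units.mk0 ((s : M2) 0 0) (left_ne_zero_of_mul_eq_one hd))⁻¹ : Fˣ).val = _
      rw [Units.val_inv_eq_inv_val, Units.val_mk0]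
      exact inv_eq_of_mul_eq_one_right hd
  have hnz : ∀ s ∈ T, s * s ≠ 1 → (s : M2) 0 0 ≠ (s : M2) 1 1 := by
    intro s hs hs2 he
    obtain ⟨h01, h10⟩ := (hmem s).mp hs
    have hd := det_entries s
    rw [h01, zero_mul, sub_zero, ← he] at hd
    apply hs2
    refine Subtype.ext ?_
    rw [Matrix.SpecialLinearGroup.coe_mul, eta_fin_two (s : M2), h01, h10, ← he,
      Matrix.SpecialLinearGroup.coe_one, Matrix.one_fin_two]
    simp [hd]
  have hcent : ∀ g ∈ T, g * g ≠ 1 → Subgroup.centralizer ({g} : Set S2) = T := by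
    intro g hg hg2
    obtain ⟨h01, h10⟩ := (hmem g).mp hg
    ext s
    rw [Subgroup.mem_centralizer_singleton_iff, hmem]
    constructor
    · intro h
      have e := congrArg (fun x : S2 => (x : M2)) h
      simp only [Matrix.SpecialLinearGroup.coe_mul] at e
      have e01 := congrFun (congrFun e 0) 1
      have e10 := congrFun (congrFun e 1) 0
      simp [Matrix.mul_apply, Fin.sum_univ_two, h01, h10] at e01 e10
      have hne := sub_ne_zero.mpr (hnz g hg hg2)
      constructor
      · exact (mul_eq_zero.mp (show ((g : M2) 0 0 - (g : M2) 1 1) * (s : M2) 0 1 = 0 by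
          linear_combination -e01)).resolve_left hne
      · exact (mul_eq_zero.mp (show ((g : M2) 0 0 - (g : M2) 1 1) * (s : M2) 1 0 = 0 by
          linear_combination e10)).resolve_left hne
    · rintro ⟨s01, s10⟩
      refine ext_entries ?_ ?_ ?_ ?_ <;>
        simp [Matrix.mul_apply, Fin.sum_univ_two, h01, h10, s01, s10, mul_comm]
  obtain ⟨a, ha⟩ : ∃ a : Fˣ, a * a ≠ 1 := by
    by_contra hc
    push Not at hc
    have hle : (Finset.univ : Finset F).card ≤ ({0, 1, -1} : Finset F).card :=
      Finset.card_le_card fun x _ => by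
        by_cases hx : x = 0
        · simp [hx]
        · have h := congrArg Units.val (hc (Units.mk0 x hx))
          rw [Units.val_mul, Units.val_mk0, Units.val_one] at h
          rcases mul_self_eq_one_iff.mp h with h | h <;> simp [h]
    have := le_trans hle Finset.card_le_three
    rw [Finset.card_univ] at this
    omega
  have hd2 : Classical.splitTorus F a * Classical.splitTorus F a ≠ 1 := by
    rw [← map_mul, ← map_one (Classical.splitTorus F)]
    exact fun h => ha (Classical.splitTorus_injective h)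
  let w : S2 := ⟨!![0, 1; -1, 0], by simp [det_fin_two_of]⟩
  have hwT : w ∉ T := fun h => by simpa [w] using ((hmem w).mp h).1
  have hanti : ∀ x : S2, x ∈ Subgroup.normalizer (T : Set S2) → x ∉ T →
      (x : M2) 0 0 = 0 ∧ (x : M2) 1 1 = 0 := by
    intro x hx hxT
    have hin := (Subgroup.mem_normalizer_iff.mp hx (Classical.splitTorus F a)).mp ⟨a, rfl⟩
    obtain ⟨e01, e10⟩ := (hmem _).mp hin
    simp only [Matrix.SpecialLinearGroup.coe_mul, coe_inv_entries] at e01 e10
    simp [Classical.splitTorus_coe, Matrix.mul_apply, Fin.sum_univ_two] at e01 e10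
    have hne : (a : F) - (a : F)⁻¹ ≠ 0 := by
      intro h
      apply ha
      ext
      rw [sub_eq_zero] at h
      rw [Units.val_mul, Units.val_one]
      nth_rw 2 [h]
      exact mul_inv_cancel₀ a.ne_zero
    have p01 : (x : M2) 0 0 * (x : M2) 0 1 = 0 :=
      (mul_eq_zero.mp (show ((a : F) - (a : F)⁻¹) * ((x : M2) 0 0 * (x : M2) 0 1) = 0 by
        linear_combination -e01)).resolve_left hne
    have p10 : (x : M2) 1 0 * (x : M2) 1 1 = 0 :=
      (mul_eq_zero.mp (show ((a : F) - (a : F)⁻¹) * ((x : M2) 1 0 * (x : M2) 1 1) = 0 by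
        linear_combination e10)).resolve_left hne
    have hd := det_entries x
    rcases mul_eq_zero.mp p01 with h | h
    · refine ⟨h, (mul_eq_zero.mp p10).resolve_left fun h' => ?_⟩
      rw [h, h', zero_mul, mul_zero, sub_zero] at hd
      exact zero_ne_one hd
    · exfalso
      rcases mul_eq_zero.mp p10 with h' | h'
      · exact hxT ((hmem x).mpr ⟨h, h'⟩)
      · rw [h, h', mul_zero, zero_mul, sub_zero] at hd
        exact zero_ne_one hd
  have hsq : ∀ x : S2, (x : M2) 0 0 = 0 → (x : M2) 1 1 = 0 → ((x * x : S2) : M2) = -1 := by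
    intro x h0 h1
    have hd := det_entries x
    rw [h0, zero_mul, zero_sub] at hd
    rw [Matrix.SpecialLinearGroup.coe_mul]
    ext i j
    fin_cases i <;> fin_cases j <;> simp [Matrix.mul_apply, Fin.sum_univ_two, h0, h1]
    · linear_combination -hd
    · linear_combination -hd
  have hinv : ∀ x : S2, (x : M2) 0 0 = 0 → (x : M2) 1 1 = 0 → ∀ t ∈ T, x * t * x⁻¹ = t⁻¹ := by
    intro x h0 h1 t ht
    obtain ⟨t01, t10⟩ := (hmem t).mp ht
    have hd := det_entries t
    rw [t01, zero_mul, sub_zero] at hd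
    rw [mul_inv_eq_iff_eq_mul]
    refine ext_entries ?_ ?_ ?_ ?_ <;>
      simp [Matrix.mul_apply, Fin.sum_univ_two, adjugate_fin_two, h0, h1, t01, t10, mul_comm]
  have hwN : w ∈ Subgroup.normalizer (T : Set S2) :=
    mem_normalizer_of_inverts (mem_center_of_mul_self h2 (Subtype.ext (by
      rw [Matrix.SpecialLinearGroup.coe_mul, hsq w rfl rfl, neg_one_mul, neg_neg,
        Matrix.SpecialLinearGroup.coe_one]))) (hinv w rfl rfl)
  refine ⟨⟨Classical.isCyclic_splitTorus, Classical.card_splitTorus, hcent, ?_, ?_⟩, hmem,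
    fun x hx hxT => hsq x (hanti x hx hxT).1 (hanti x hx hxT).2⟩
  · rw [← Classical.card_splitTorus (F := F)]
    refine card_eq_two_mul_of_coset T _ Subgroup.le_normalizer hwN hwT fun x hx hxT => ?_
    obtain ⟨h0, h1⟩ := hanti x hx hxT
    rw [hmem, Matrix.SpecialLinearGroup.coe_mul]
    simp [w, Matrix.mul_apply, Fin.sum_univ_two, h0, h1]
  · intro x hx hxT
    obtain ⟨h0, h1⟩ := hanti x hx hxT
    refine ⟨hinv x h0 h1, ?_, fun h => ?_⟩
    · refine Subtype.ext ?_
      rw [Matrix.SpecialLinearGroup.coe_mul, hsq x h0 h1, neg_one_mul, neg_neg,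
        Matrix.SpecialLinearGroup.coe_one]
    · have := hsq x h0 h1
      rw [h, Matrix.SpecialLinearGroup.coe_one] at this
      have h11 := congrFun (congrFun this 0) 0
      simp at h11
      exact h2 (by linear_combination h11)

theorem torusData_nonsplit (hodd : Odd (Fintype.card F)) {δ : F} (hδ : ¬ IsSquare δ) :
    TorusData (Classical.nsTorus (0 : F) (-δ)) (Fintype.card F + 1) ∧
    (∀ s : S2, s ∈ Classical.nsTorus (0 : F) (-δ) ↔
      (s : M2) 0 1 = δ * (s : M2) 1 0 ∧ (s : M2) 1 1 = (s : M2) 0 0) ∧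
    (∀ x ∈ Subgroup.normalizer (Classical.nsTorus (0 : F) (-δ) : Set S2),
      x ∉ Classical.nsTorus (0 : F) (-δ) → ((x * x : S2) : M2) = -1) := by
  classical
  have h2 := two_ne hodd
  have hδ0 : δ ≠ 0 := fun h => hδ (h ▸ IsSquare.zero)
  set T := Classical.nsTorus (0 : F) (-δ) with hT
  have hmem : ∀ s : S2, s ∈ T ↔
      (s : M2) 0 1 = δ * (s : M2) 1 0 ∧ (s : M2) 1 1 = (s : M2) 0 0 := by
    intro s
    constructor
    · rintro ⟨x, y, h⟩
      simp [h]
    · rintro ⟨h01, h11⟩
      refine ⟨(s : M2) 0 0, (s : M2) 1 0, ?_⟩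
      ext i j
      fin_cases i <;> fin_cases j <;> simp [h01, h11]
  have hab : ∀ z₁ z₂ : F, z₁ ^ 2 + (0 : F) * z₁ * z₂ + (-δ) * z₂ ^ 2 = 0 → z₁ = 0 ∧ z₂ = 0 := by
    intro z₁ z₂ h
    by_cases h0 : z₂ = 0
    · exact ⟨by simpa [h0] using h, h0⟩
    · exact absurd ⟨z₁ / z₂, by field_simp; linear_combination -h⟩ hδ
  have hy : ∀ g ∈ T, g * g ≠ 1 → (g : M2) 1 0 ≠ 0 := by
    intro g hg hg2 h0
    obtain ⟨h01, h11⟩ := (hmem g).mp hg
    have hd := det_entries g
    rw [h01, h0, h11] at hd
    simp at hd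
    apply hg2
    refine ext_entries ?_ ?_ ?_ ?_ <;> simp [Matrix.mul_apply, Fin.sum_univ_two, h01, h0, h11, hd]
  have hcent : ∀ g ∈ T, g * g ≠ 1 → Subgroup.centralizer ({g} : Set S2) = T := by
    intro g hg hg2
    obtain ⟨h01, h11⟩ := (hmem g).mp hg
    have hy' := hy g hg hg2
    ext s
    rw [Subgroup.mem_centralizer_singleton_iff, hmem]
    constructor
    · intro h
      have e := congrArg (fun x : S2 => (x : M2)) h
      simp only [Matrix.SpecialLinearGroup.coe_mul] at e
      have e00 := congrFun (congrFun e 0) 0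
      have e10 := congrFun (congrFun e 1) 0
      simp [Matrix.mul_apply, Fin.sum_univ_two, h01, h11] at e00 e10
      constructor
      · exact mul_left_cancel₀ hy' (by
          linear_combination e00)
      · exact mul_left_cancel₀ hy' (by
          linear_combination e10)
    · rintro ⟨s01, s11⟩
      refine ext_entries ?_ ?_ ?_ ?_ <;>
        simp [Matrix.mul_apply, Fin.sum_univ_two, h01, h11, s01, s11] <;> ring
  have hcard : Nat.card T = Fintype.card F + 1 := Classical.card_nsTorus hab
  obtain ⟨g₁, hg₁, hg₁2⟩ : ∃ g ∈ T, g * g ≠ 1 := by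
    by_contra hc
    push Not at hc
    have := @card_sq_one_cyclic T _ _ (Classical.isCyclic_nsTorus hab) (by
      rw [hcard]; exact hodd.add_one.two_dvd)
    rw [Nat.card_congr (Equiv.subtypeUnivEquiv fun a : T => Subtype.ext (hc a a.2)), hcard] at this
    have := Fintype.one_lt_card (α := F)
    omega
  obtain ⟨p, v, hpv⟩ : ∃ p v : F, p ^ 2 - δ * v ^ 2 = -1 := by
    obtain ⟨p, v, h⟩ := FiniteField.exists_root_sum_quadratic (R := F)
      (f := Polynomial.X ^ 2 + Polynomial.C (1 : F)) (g := Polynomial.C (-δ) * Polynomial.X ^ 2)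
      (by rw [Polynomial.degree_add_C (by rw [Polynomial.degree_X_pow]; norm_num),
        Polynomial.degree_X_pow]; rfl)
      (by rw [Polynomial.degree_C_mul_X_pow 2 (neg_ne_zero.mpr hδ0)]; rfl)
      (FiniteField.odd_card_of_char_ne_two (ringChar_ne_two hodd))
    simp at h
    exact ⟨p, v, by linear_combination h⟩
  let w : S2 := ⟨!![p, -δ * v; v, -p], by rw [det_fin_two_of]; linear_combination -hpv⟩
  have hwT : w ∉ T := by
    intro h
    obtain ⟨h01, h11⟩ := (hmem w).mp h
    simp [w] at h01 h11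
    have hp : p = 0 := (mul_eq_zero.mp (show (2 : F) * p = 0 by linear_combination -h11)).resolve_left h2
    have hv : v = 0 := by
      have : (2 : F) * δ * v = 0 := by linear_combination -h01
      simpa [h2, hδ0] using this
    rw [hp, hv] at hpv
    simp at hpv
  have hinv : ∀ x : S2, (x : M2) 0 1 = -δ * (x : M2) 1 0 → (x : M2) 1 1 = -(x : M2) 0 0 →
      ∀ t ∈ T, x * t * x⁻¹ = t⁻¹ := by
    intro x x01 x11 t ht
    obtain ⟨t01, t11⟩ := (hmem t).mp ht
    rw [mul_inv_eq_iff_eq_mul]
    refine ext_entries ?_ ?_ ?_ ?_ <;>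
      simp [Matrix.mul_apply, Fin.sum_univ_two, adjugate_fin_two, x01, x11, t01, t11] <;> ring
  have hsq : ∀ x : S2, (x : M2) 0 1 = -δ * (x : M2) 1 0 → (x : M2) 1 1 = -(x : M2) 0 0 →
      ((x * x : S2) : M2) = -1 := by
    intro x x01 x11
    have hd := det_entries x
    rw [x01, x11] at hd
    rw [Matrix.SpecialLinearGroup.coe_mul]
    ext i j
    fin_cases i <;> fin_cases j <;> simp [Matrix.mul_apply, Fin.sum_univ_two, x01, x11]
    all_goals first | linear_combination -hd | ring
  have hanti : ∀ x : S2, x ∈ Subgroup.normalizer (T : Set S2) → x ∉ T →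
      (x : M2) 0 1 = -δ * (x : M2) 1 0 ∧ (x : M2) 1 1 = -(x : M2) 0 0 := by
    intro x hx hxT
    obtain ⟨y01, y11⟩ := (hmem g₁).mp hg₁
    have hin := (Subgroup.mem_normalizer_iff.mp hx g₁).mp hg₁
    obtain ⟨z01, z11⟩ := (hmem _).mp hin
    have htr : ((x * g₁ * x⁻¹ : S2) : M2).trace = (g₁ : M2).trace := by
      rw [Matrix.SpecialLinearGroup.coe_mul, trace_mul_comm,
        ← Matrix.SpecialLinearGroup.coe_mul, inv_mul_cancel_left]
    obtain ⟨z, hz⟩ : ∃ z : S2, z = x * g₁ * x⁻¹ := ⟨_, rfl⟩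
    rw [← hz] at z01 z11 htr
    simp only [trace_fin_two, z11, y11] at htr
    have h00 : (z : M2) 0 0 = (g₁ : M2) 0 0 :=
      mul_left_cancel₀ h2 (by linear_combination htr)
    have dz := det_entries z
    have dg := det_entries g₁
    rw [z01, z11, h00] at dz
    rw [y01, y11] at dg
    have hy2 : (z : M2) 1 0 * (z : M2) 1 0 = (g₁ : M2) 1 0 * (g₁ : M2) 1 0 :=
      mul_left_cancel₀ hδ0 (by linear_combination dg - dz)
    have hcase : z = g₁ ∨ z = g₁⁻¹ := by
      rcases mul_self_eq_mul_self_iff.mp hy2 with h | h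
      · exact Or.inl (ext_entries h00 (by rw [z01, y01, h]) h (by rw [z11, y11, h00]))
      · right
        refine ext_entries ?_ ?_ ?_ ?_ <;>
          simp [adjugate_fin_two, z01, z11, y01, y11, h00, h]
    rcases hcase with h | h
    · exfalso
      apply hxT
      rw [← hcent g₁ hg₁ hg₁2, Subgroup.mem_centralizer_singleton_iff]
      exact mul_inv_eq_iff_eq_mul.mp (hz ▸ h)
    · rw [hz, mul_inv_eq_iff_eq_mul] at h
      have e := congrArg (fun x : S2 => (x : M2)) h
      simp only [Matrix.SpecialLinearGroup.coe_mul, coe_inv_entries] at e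
      have e00 := congrFun (congrFun e 0) 0
      have e10 := congrFun (congrFun e 1) 0
      simp [Matrix.mul_apply, Fin.sum_univ_two, y01, y11] at e00 e10
      constructor
      · exact mul_left_cancel₀ (hy g₁ hg₁ hg₁2) (by
          linear_combination e00)
      · exact mul_left_cancel₀ (hy g₁ hg₁ hg₁2) (by
          linear_combination e10)
  have hw01 : (w : M2) 0 1 = -δ * (w : M2) 1 0 := rfl
  have hw11 : (w : M2) 1 1 = -(w : M2) 0 0 := rfl
  have hwN : w ∈ Subgroup.normalizer (T : Set S2) :=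
    mem_normalizer_of_inverts (mem_center_of_mul_self h2 (Subtype.ext (by
      rw [Matrix.SpecialLinearGroup.coe_mul, hsq w hw01 hw11, neg_one_mul, neg_neg,
        Matrix.SpecialLinearGroup.coe_one]))) (hinv w hw01 hw11)
  refine ⟨⟨Classical.isCyclic_nsTorus hab, hcard, hcent, ?_, ?_⟩, hmem,
    fun x hx hxT => hsq x (hanti x hx hxT).1 (hanti x hx hxT).2⟩
  · rw [← hcard]
    refine card_eq_two_mul_of_coset T _ Subgroup.le_normalizer hwN hwT fun x hx hxT => ?_
    obtain ⟨x01, x11⟩ := hanti x hx hxT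
    rw [hmem, Matrix.SpecialLinearGroup.coe_mul]
    simp [w, Matrix.mul_apply, Fin.sum_univ_two, x01, x11]
    constructor <;> ring
  · intro x hx hxT
    obtain ⟨x01, x11⟩ := hanti x hx hxT
    refine ⟨hinv x x01 x11, ?_, fun h => ?_⟩
    · refine Subtype.ext ?_
      rw [Matrix.SpecialLinearGroup.coe_mul, hsq x x01 x11, neg_one_mul, neg_neg,
        Matrix.SpecialLinearGroup.coe_one]
    · have := hsq x x01 x11
      rw [h, Matrix.SpecialLinearGroup.coe_one] at this
      have h11 := congrFun (congrFun this 0) 0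
      simp at h11
      exact h2 (by linear_combination h11)

end CfsgLib.KnownB.SL2
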