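import Cfsg.Agent.Lib.KnownB.SL2Deg

/-!
# Elements of order `p` of `SL₂(F)` and their classes
-/

set_option autoImplicit false

namespace CfsgLib.KnownB.SL2

open Matrix Finset CfsgLib.KnownB.GL2
open scoped MatrixGroups

variable {F : Type*} [Field F]

local notation "S2" => Matrix.SpecialLinearGroup (Fin 2) F
local notation "M2" => Matrix (Fin 2) (Fin 2) F

theorem orderOf_eq_p_iff (p : ℕ) [Fact p.Prime] [CharP F p] (s : S2) :
    orderOf s = p ↔ NonScalar (s : M2) ∧ (s : M2).trace = 1 + 1 := by
  have hp : p.Prime := Fact.out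
  constructor
  · intro hk
    have hpow : (s : M2) ^ p = 1 := by
      rw [← Matrix.SpecialLinearGroup.coe_pow, ← hk, pow_orderOf_eq_one,
        Matrix.SpecialLinearGroup.coe_one]
    have hne : (s : M2) ≠ 1 := fun h => hp.one_lt.ne'
      (hk ▸ orderOf_eq_one_iff.mpr (Subtype.ext h))
    have hN : ((s : M2) - 1) ^ p = 0 := by
      rw [sub_pow_char_of_commute p (Commute.one_right _), hpow, one_pow, sub_self]
    have htr : ((s : M2) - 1).trace = 0 :=
      IsNilpotent.eq_zero (Matrix.isNilpotent_trace_of_isNilpotent ⟨p, hN⟩)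
    have ht : (s : M2).trace = 1 + 1 := by
      rw [Matrix.trace_sub, Matrix.trace_one, Fintype.card_fin] at htr
      rw [sub_eq_zero.mp htr]; norm_num
    refine ⟨fun a ha => hne ?_, ht⟩
    have hd : ((s : M2) - 1).det = 0 := by
      have h := congrArg Matrix.det hN
      rw [Matrix.det_pow, Matrix.det_zero] at h
      exact eq_zero_of_pow_eq_zero h
    rw [ha, show a • (1 : M2) - 1 = (a - 1) • 1 by rw [sub_smul, one_smul], Matrix.det_smul,
      Matrix.det_one, mul_one] at hd
    rw [ha, show a = 1 from sub_eq_zero.mp (eq_zero_of_pow_eq_zero hd), one_smul]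
  · rintro ⟨hs, ht⟩
    refine orderOf_eq_prime ?_ (fun h => hs 1 (by
      rw [h, Matrix.SpecialLinearGroup.coe_one, one_smul]))
    have hsq : ((s : M2) - 1) ^ 2 = 0 := by
      have hd := s.2
      rw [det_fin_two] at hd
      rw [trace_fin_two] at ht
      rw [sq]
      ext i j
      fin_cases i <;> fin_cases j <;> simp [Matrix.mul_apply, Fin.sum_univ_two] <;>
        first
          | linear_combination ((s : M2) 0 0) * ht - hd
          | linear_combination ((s : M2) 0 1) * ht
          | linear_combination ((s : M2) 1 0) * ht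
          | linear_combination ((s : M2) 1 1) * ht - hd
    have hN : ((s : M2) - 1) ^ p = 0 := by
      obtain ⟨j, hj⟩ := Nat.exists_eq_add_of_le hp.two_le
      rw [hj, pow_add, hsq, zero_mul]
    rw [sub_pow_char_of_commute p (Commute.one_right _), one_pow, sub_eq_zero] at hN
    exact Subtype.ext (by rw [Matrix.SpecialLinearGroup.coe_pow, hN, Matrix.SpecialLinearGroup.coe_one])

variable [Fintype F] [DecidableEq F]

omit [DecidableEq F] in
theorem odd_of_ne_two (p : ℕ) [Fact p.Prime] [CharP F p] (hp : p ≠ 2) : Odd (Fintype.card F) := by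
  obtain ⟨m, -, hm⟩ := FiniteField.card F p
  rw [hm]
  exact ((Fact.out : p.Prime).odd_of_ne_two hp).pow

open Classical in
theorem natCard_dbl :
    (Nat.card {s : S2 // NonScalar (s : M2) ∧ (s : M2).trace = 1 + 1} : ℤ) =
      (Fintype.card F : ℤ) ^ 2 - 1 := by
  rw [← card_dbl (1 : F) (one_mul 1), Nat.card_eq_fintype_card, Fintype.card_subtype]

omit [Fintype F] [DecidableEq F] in
theorem isConj_dbl {s t : S2} (h : IsConj s t) (hs : NonScalar (s : M2) ∧ (s : M2).trace = 1 + 1) :
    NonScalar (t : M2) ∧ (t : M2).trace = 1 + 1 := by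
  have hc : IsConj (ι s) (ι t) := MonoidHom.map_isConj ι h
  exact ⟨isConj_nonScalar hc hs.1, (isConj_trace_det hc).1.symm.trans hs.2⟩

theorem carrier_card_odd (hodd : Odd (Fintype.card F)) (ε : Fˣ) (hε : ¬ IsSquare (ε : F)) :
    2 * (Nat.card (ConjClasses.mk (u₀ : S2)).carrier : ℤ) = (Fintype.card F : ℤ) ^ 2 - 1 ∧
      Nat.card (ConjClasses.mk (outer ε u₀ : S2)).carrier =
        Nat.card (ConjClasses.mk (u₀ : S2)).carrier := by
  classical
  have heq : Nat.card (ConjClasses.mk (outer ε u₀ : S2)).carrier =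
      Nat.card (ConjClasses.mk (u₀ : S2)).carrier := by
    refine (Nat.card_congr ((Equiv.ofBijective _ (outer_bijective ε)).subtypeEquiv fun s => ?_)).symm
    simp only [ConjClasses.mem_carrier_iff_mk_eq, ConjClasses.mk_eq_mk_iff_isConj,
      Equiv.ofBijective_apply, isConj_outer_iff]
  refine ⟨?_, heq⟩
  rw [← natCard_dbl, two_mul]
  conv_lhs => arg 2; rw [← heq]
  rw [← Nat.cast_add, Nat.cast_inj]
  rw [Nat.card_coe_set_eq, Nat.card_coe_set_eq, ← Set.ncard_union_eq ?_ (Set.toFinite _)
    (Set.toFinite _), ← Nat.card_coe_set_eq]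
  · refine Nat.card_congr (Equiv.subtypeEquivRight fun s => ?_)
    simp only [Set.mem_union, ConjClasses.mem_carrier_iff_mk_eq, ConjClasses.mk_eq_mk_iff_isConj]
    constructor
    · rintro (h | h)
      · exact isConj_dbl h.symm u₀_dbl
      · refine isConj_dbl h.symm ⟨?_, by rw [outer_trace_det, u₀_dbl.2]⟩
        rw [outer_u₀]; exact (utri_data 1 _ (one_mul 1) (Units.ne_zero _)).1
    · rintro ⟨h1, h2⟩
      exact dbl_one_cases ε hε h1 h2
  · rw [Set.disjoint_left]
    intro s hs hs'
    rw [ConjClasses.mem_carrier_iff_mk_eq, ConjClasses.mk_eq_mk_iff_isConj] at hs hs'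
    exact not_isConj_u₀_outer ε hε (hs.symm.trans hs')

end CfsgLib.KnownB.SL2
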