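import Cfsg.Agent.Lib.KnownB.SL2Char

/-!
# `SL₂(F)`, `q` odd: the outer diagonal automorphism and the split classes
-/

set_option autoImplicit false

namespace CfsgLib.KnownB.SL2

open Matrix Finset CfsgLib.KnownB.GL2
open scoped MatrixGroups ComplexConjugate

variable {F : Type*} [Field F] [Fintype F] [DecidableEq F]

local notation "G2" => GL (Fin 2) F
local notation "S2" => Matrix.SpecialLinearGroup (Fin 2) F
local notation "M2" => Matrix (Fin 2) (Fin 2) F
local notation "q" => (Fintype.card F : ℂ)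

omit [DecidableEq F] in
theorem two_ne (hodd : Odd (Fintype.card F)) : (2 : F) ≠ 0 := by
  intro h
  have h1 : ringChar F ≠ 2 := fun hr => by
    have := FiniteField.even_card_iff_char_two.mp hr
    rw [Nat.odd_iff] at hodd
    omega
  exact Ring.two_ne_zero h1 h

omit [DecidableEq F] in
theorem ringChar_ne_two (hodd : Odd (Fintype.card F)) : ringChar F ≠ 2 := fun hr => by
  have := FiniteField.even_card_iff_char_two.mp hr
  rw [Nat.odd_iff] at hodd
  omega

/-- The central element `-1`. -/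
def zz : Matrix.SpecialLinearGroup (Fin 2) F := utri (-1) 0 (by ring)

omit [Fintype F] [DecidableEq F] in
theorem coe_zz : ((zz : S2) : M2) = (-1 : F) • 1 := by
  ext i j
  fin_cases i <;> fin_cases j <;> simp [zz, coe_utri]

omit [Fintype F] [DecidableEq F] in
theorem coe_zz_mul (s : S2) : ((zz * s : S2) : M2) = -(s : M2) := by
  rw [Matrix.SpecialLinearGroup.coe_mul, coe_zz, smul_mul_assoc, one_mul, neg_one_smul]

omit [Fintype F] [DecidableEq F] in
theorem zz_mem_center : (zz : S2) ∈ Subgroup.center S2 := by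
  rw [Subgroup.mem_center_iff]
  intro g
  refine Subtype.ext ?_
  rw [Matrix.SpecialLinearGroup.coe_mul, Matrix.SpecialLinearGroup.coe_mul, coe_zz,
    smul_mul_assoc, mul_smul_comm, one_mul, mul_one]

omit [Fintype F] [DecidableEq F] in
theorem zz_mul_zz : (zz : S2) * zz = 1 := by
  refine Subtype.ext ?_
  rw [coe_zz_mul, coe_zz]
  simp

/-- Conjugation by `diag(1, d)`. -/
noncomputable def outer (d : Fˣ) : Matrix.SpecialLinearGroup (Fin 2) F →*
    Matrix.SpecialLinearGroup (Fin 2) F where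
  toFun s := mkSL (dgl d * ι s * (dgl d)⁻¹) (by rw [GL2.det_conj, det_ι])
  map_one' := ι_injective (by rw [ι_mkSL, map_one, mul_one, mul_inv_cancel])
  map_mul' a b := ι_injective (by rw [ι_mkSL, map_mul ι (mkSL _ _), ι_mkSL, ι_mkSL, map_mul]; group)

omit [Fintype F] [DecidableEq F] in
theorem ι_outer (d : Fˣ) (s : S2) : ι (outer d s) = dgl d * ι s * (dgl d)⁻¹ := ι_mkSL _ _

omit [Fintype F] [DecidableEq F] in
theorem outer_injective (d : Fˣ) : Function.Injective (outer (F := F) d) := fun a b h => by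
  have h' := congrArg ι h
  rw [ι_outer, ι_outer] at h'
  exact ι_injective (mul_left_cancel (mul_right_cancel h'))

theorem outer_bijective (d : Fˣ) : Function.Bijective (outer (F := F) d) :=
  Finite.injective_iff_bijective.mp (outer_injective d)

theorem isConj_outer_iff (d : Fˣ) {s t : S2} : IsConj (outer d s) (outer d t) ↔ IsConj s t := by
  constructor
  · intro h
    obtain ⟨c, hc⟩ := isConj_iff.mp h
    obtain ⟨c', rfl⟩ := (outer_bijective d).2 c
    rw [← map_inv, ← map_mul, ← map_mul] at hc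
    exact isConj_iff.mpr ⟨c', outer_injective d hc⟩
  · exact fun h => MonoidHom.map_isConj _ h

omit [Fintype F] [DecidableEq F] in
theorem coe_outer (d : Fˣ) (s : S2) : ((outer d s : S2) : M2) =
    !![(s : M2) 0 0, (s : M2) 0 1 * (d⁻¹ : Fˣ); d * (s : M2) 1 0, (s : M2) 1 1] := by
  have hinv : (dgl d)⁻¹ = dgl d⁻¹ := by
    refine inv_eq_of_mul_eq_one_right (Units.ext ?_)
    simp only [Units.val_mul, Units.val_one, coe_dgl]
    ext i j
    fin_cases i <;> fin_cases j <;> simp [Matrix.mul_apply, Fin.sum_univ_two]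
  rw [← coe_ι, ι_outer, hinv]
  simp only [Units.val_mul, coe_dgl, coe_ι]
  ext i j
  fin_cases i <;> fin_cases j <;>
    simp [Matrix.mul_apply, Matrix.vecMul, dotProduct, Fin.sum_univ_two, mul_comm]

omit [Fintype F] [DecidableEq F] in
theorem outer_trace_det (d : Fˣ) (s : S2) :
    ((outer d s : S2) : M2).trace = (s : M2).trace := by
  rw [coe_outer]; simp [trace_fin_two]

omit [Fintype F] [DecidableEq F] in
theorem outer_zz (d : Fˣ) : outer d (zz : S2) = zz := by
  refine Subtype.ext ?_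
  rw [coe_outer, coe_zz]
  ext i j
  fin_cases i <;> fin_cases j <;> simp

theorem res_outer {f : GL (Fin 2) F → ℂ} (hf : Cfsg.IsClassFunction (GL (Fin 2) F) f) (d : Fˣ)
    (s : S2) : res f (outer d s) = res f s := by
  rw [res, res, ι_outer, hf]

theorem P_outer (α : MulChar F ℂ) (d : Fˣ) (s : S2) : P α (outer d s) = P α s := by
  rw [← res_I]; exact res_outer (isClassFunction_I α 1) d s

theorem C_outer {E : Type*} [Field E] [Algebra F E] [IsQuad F E] [Fintype E] (ν : MulChar E ℂ)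
    (d : Fˣ) (s : S2) : C (F := F) ν (outer d s) = C ν s :=
  res_outer (CfsgLib.Char.isGeneralized_isClassFunction (isGeneralized_X ν)) d s

theorem St0_outer (d : Fˣ) (s : S2) : St0 (outer d s) = St0 s :=
  res_outer (CfsgLib.Char.irr_isClassFunction (isIrr_St 1)) d s

omit [DecidableEq F] in
theorem isConj_outer_or_double (d : Fˣ) (s : S2) :
    IsConj s (outer d s) ∨
      (NonScalar (s : M2) ∧ ∃ a : F, a * a = 1 ∧ (s : M2).trace = a + a) := by
  classical
  obtain ⟨E, _, _, _, _⟩ := exists_quad F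
  by_cases hs : NonScalar (s : M2)
  · by_cases h4 : (s : M2).trace ^ 2 = 4
    · by_cases h2 : (2 : F) = 0
      · exact Or.inl (isConj_of_isConj_gl (isConj_iff.mpr ⟨dgl d, (ι_outer d s).symm⟩) (Or.inr h2))
      · refine Or.inr ⟨hs, (s : M2).trace / 2, ?_, by field_simp; ring⟩
        field_simp
        linear_combination h4
    · exact Or.inl (isConj_of_isConj_gl (isConj_iff.mpr ⟨dgl d, (ι_outer d s).symm⟩) (Or.inl h4))
  · simp only [GL2.NonScalar, not_forall, not_not] at hs
    obtain ⟨a, ha⟩ := hs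
    refine Or.inl ?_
    have : outer d s = s := ι_injective (by rw [ι_outer]; exact scalar_conj (by rw [coe_ι, ha]))
    rw [this]

/-- The standard unipotent element. -/
def u₀ : Matrix.SpecialLinearGroup (Fin 2) F := utri 1 1 (one_mul 1)

omit [Fintype F] [DecidableEq F] in
theorem outer_u₀ (d : Fˣ) : outer d (u₀ : S2) = utri 1 ((d⁻¹ : Fˣ) : F) (one_mul 1) := by
  refine Subtype.ext ?_
  rw [coe_outer]
  simp [u₀, coe_utri]

theorem isSquare_or (ε : Fˣ) (hε : ¬ IsSquare (ε : F)) (n : F) :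
    IsSquare n ∨ IsSquare (n * ((ε⁻¹ : Fˣ) : F)) := by
  by_cases hn : n = 0
  · subst hn; exact Or.inl ⟨0, by simp⟩
  by_cases hsq : IsSquare n
  · exact Or.inl hsq
  · refine Or.inr ?_
    have hm : n * ((ε⁻¹ : Fˣ) : F) ≠ 0 := mul_ne_zero hn (Units.ne_zero _)
    rw [← quadraticChar_one_iff_isSquare hm, map_mul,
      quadraticChar_neg_one_iff_not_isSquare.mpr hsq,
      quadraticChar_neg_one_iff_not_isSquare.mpr]
    · rfl
    · rintro ⟨r, hr⟩
      apply hε
      refine ⟨r⁻¹, ?_⟩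
      rw [← mul_inv, ← hr]; simp

/-- Nonscalar elements with double eigenvalue `1` fall in two classes. -/
theorem dbl_one_cases (ε : Fˣ) (hε : ¬ IsSquare (ε : F)) {s : S2} (hs : NonScalar (s : M2))
    (ht : (s : M2).trace = 1 + 1) : IsConj s u₀ ∨ IsConj s (outer ε u₀) := by
  obtain ⟨ha, n, hn, hc⟩ := exists_isConj_utri hs ht (by rw [s.2, one_mul])
  rcases isSquare_or ε hε n with h | h
  · exact Or.inl (hc.trans ((isConj_utri_iff (one_mul 1) hn one_ne_zero).mpr (by rwa [mul_one])))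
  · rw [outer_u₀]
    exact Or.inr (hc.trans ((isConj_utri_iff (one_mul 1) hn (Units.ne_zero _)).mpr h))

omit [Fintype F] [DecidableEq F] in
theorem not_isConj_u₀_outer (ε : Fˣ) (hε : ¬ IsSquare (ε : F)) :
    ¬ IsConj (u₀ : S2) (outer ε u₀) := by
  rw [outer_u₀, u₀, isConj_utri_iff (one_mul 1) one_ne_zero (Units.ne_zero _), one_mul]
  rintro ⟨r, hr⟩
  apply hε
  refine ⟨r⁻¹, ?_⟩
  rw [← mul_inv, ← hr]; simp

theorem isConj_outer_outer_u₀ (ε : Fˣ) :
    IsConj (outer ε (outer ε (u₀ : S2))) u₀ := by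
  have h : outer ε (outer ε (u₀ : S2)) = utri 1 (((ε⁻¹ : Fˣ) : F) * ((ε⁻¹ : Fˣ) : F)) (one_mul 1) := by
    refine Subtype.ext ?_
    rw [coe_outer, outer_u₀]
    simp [coe_utri]
  rw [h, u₀, isConj_utri_iff (one_mul 1) (mul_ne_zero (Units.ne_zero _) (Units.ne_zero _))
    one_ne_zero]
  exact ⟨(ε⁻¹ : Fˣ), by ring⟩

theorem card_dbl [DecidablePred (NonScalar : M2 → Prop)] (a : F) (ha : a * a = 1) :
    ((Finset.univ.filter fun s : S2 => NonScalar (s : M2) ∧ (s : M2).trace = a + a).card : ℤ) =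
      (Fintype.card F : ℤ) ^ 2 - 1 := by
  have h := card_nonScalar (a + a) (a * a)
  rw [roots_double, Finset.card_singleton, if_pos rfl] at h
  simp only [Nat.cast_one, sub_self, mul_zero, add_zero] at h
  rw [← h]
  norm_cast
  refine Finset.card_bij' (fun s _ => (s : M2)) (fun M hM => ⟨M, ?_⟩) ?_ ?_ ?_ ?_
  · simp only [mem_filter, mem_univ, true_and] at hM
    rw [hM.2.2, ha]
  · intro s hs
    simp only [mem_filter, mem_univ, true_and] at hs ⊢
    exact ⟨hs.1, hs.2, by rw [s.2, ha]⟩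
  · intro M hM
    simp only [mem_filter, mem_univ, true_and] at hM
    exact Finset.mem_filter.mpr ⟨mem_univ _, hM.1, hM.2.1⟩
  · intro s _; rfl
  · intro M _; rfl

omit [Fintype F] [DecidableEq F] in
theorem isConj_zz_mul {x y : S2} (h : IsConj x y) : IsConj (zz * x) (zz * y) := by
  obtain ⟨c, rfl⟩ := isConj_iff.mp h
  refine isConj_iff.mpr ⟨c, ?_⟩
  rw [← mul_assoc, Subgroup.mem_center_iff.mp zz_mem_center c]
  simp only [mul_assoc]

omit [Fintype F] [DecidableEq F] in
theorem zz_mul_dbl {s : S2} {a : F} (hs : NonScalar (s : M2)) (ht : (s : M2).trace = a + a) :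
    NonScalar ((zz * s : S2) : M2) ∧ ((zz * s : S2) : M2).trace = -a + -a := by
  refine ⟨fun c hc => ?_, ?_⟩
  · rw [coe_zz_mul] at hc
    exact hs (-c) (by rw [neg_smul, ← hc, neg_neg])
  · rw [coe_zz_mul, Matrix.trace_neg, ht]; ring

omit [Fintype F] [DecidableEq F] in
theorem u₀_dbl : NonScalar ((u₀ : S2) : M2) ∧ ((u₀ : S2) : M2).trace = 1 + 1 :=
  ⟨(utri_data 1 1 (one_mul 1) one_ne_zero).1, (utri_data 1 1 (one_mul 1) one_ne_zero).2.1⟩

/-- A class function negated by the outer automorphism is determined by two values. -/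
theorem antiinvariant_cases (ε : Fˣ) (hε : ¬ IsSquare (ε : F))
    {f : S2 → ℂ} (hf : Cfsg.IsClassFunction S2 f) (ha : ∀ s, f (outer ε s) = -f s) (s : S2) :
    (NonScalar (s : M2) ∧ (s : M2).trace = 1 + 1 ∧ (f s = f u₀ ∨ f s = -f u₀)) ∨
    (NonScalar (s : M2) ∧ (s : M2).trace = -1 + -1 ∧
      (f s = f (zz * u₀) ∨ f s = -f (zz * u₀))) ∨
    (¬ (NonScalar (s : M2) ∧ (s : M2).trace = 1 + 1) ∧
      ¬ (NonScalar (s : M2) ∧ (s : M2).trace = -1 + -1) ∧ f s = 0) := by
  by_cases h1 : NonScalar (s : M2) ∧ (s : M2).trace = 1 + 1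
  · refine Or.inl ⟨h1.1, h1.2, ?_⟩
    rcases dbl_one_cases ε hε h1.1 h1.2 with h | h
    · exact Or.inl (CfsgLib.Char.isClassFunction_isConj hf h)
    · exact Or.inr ((CfsgLib.Char.isClassFunction_isConj hf h).trans (ha _))
  by_cases h2 : NonScalar (s : M2) ∧ (s : M2).trace = -1 + -1
  · refine Or.inr (Or.inl ⟨h2.1, h2.2, ?_⟩)
    obtain ⟨hs', ht'⟩ := zz_mul_dbl h2.1 h2.2
    rw [neg_neg] at ht'
    rcases dbl_one_cases ε hε hs' ht' with h | h
    all_goals
      have h' := isConj_zz_mul h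
      rw [← mul_assoc, zz_mul_zz, one_mul] at h'
    · exact Or.inl (CfsgLib.Char.isClassFunction_isConj hf h')
    · refine Or.inr ((CfsgLib.Char.isClassFunction_isConj hf h').trans ?_)
      rw [← ha (zz * u₀), map_mul, outer_zz]
  refine Or.inr (Or.inr ⟨h1, h2, ?_⟩)
  rcases isConj_outer_or_double ε s with h | ⟨hs, a, ha1, ht⟩
  · have h3 := CfsgLib.Char.isClassFunction_isConj hf h
    rw [ha] at h3
    linear_combination h3 / 2
  · exfalso
    have : (a - 1) * (a + 1) = 0 := by linear_combination ha1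
    rcases mul_eq_zero.mp this with h | h
    · exact h1 ⟨hs, by rw [ht, sub_eq_zero.mp h]⟩
    · exact h2 ⟨hs, by rw [ht, eq_neg_of_add_eq_zero_left h]⟩

theorem antiinvariant_norm (hodd : Odd (Fintype.card F)) (ε : Fˣ) (hε : ¬ IsSquare (ε : F))
    {f : S2 → ℂ} (hf : Cfsg.IsClassFunction S2 f) (ha : ∀ s, f (outer ε s) = -f s) :
    (Nat.card S2 : ℂ) * Cfsg.classInner f f =
      (q ^ 2 - 1) * (f u₀ * conj (f u₀) + f (zz * u₀) * conj (f (zz * u₀))) := by
  classical
  have hne : (1 : F) + 1 ≠ -1 + -1 := by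
    intro h
    apply two_ne hodd
    have : (2 : F) * 2 = 0 := by linear_combination h
    exact mul_self_eq_zero.mp this
  have hval : ∀ s : S2, f s * conj (f s) =
      (if NonScalar (s : M2) ∧ (s : M2).trace = 1 + 1 then f u₀ * conj (f u₀) else 0) +
      (if NonScalar (s : M2) ∧ (s : M2).trace = -1 + -1 then
        f (zz * u₀) * conj (f (zz * u₀)) else 0) := by
    intro s
    rcases antiinvariant_cases ε hε hf ha s with ⟨h1, h2, h3⟩ | ⟨h1, h2, h3⟩ | ⟨h1, h2, h0⟩
    · rw [if_pos ⟨h1, h2⟩, if_neg (fun h => hne (h2.symm.trans h.2)), add_zero]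
      rcases h3 with h3 | h3 <;> simp [h3]
    · rw [if_neg (fun h => hne (h.2.symm.trans h2)), if_pos ⟨h1, h2⟩, zero_add]
      rcases h3 with h3 | h3 <;> simp [h3]
    · rw [if_neg h1, if_neg h2, h0]; simp
  have h0 : (Nat.card S2 : ℂ) ≠ 0 := by exact_mod_cast Nat.card_pos.ne'
  rw [CfsgLib.Char.classInner_def, ← mul_assoc, mul_inv_cancel₀ h0, one_mul,
    Finset.sum_congr rfl (fun s _ => hval s), Finset.sum_add_distrib, ← Finset.sum_filter,
    ← Finset.sum_filter, Finset.sum_const, Finset.sum_const, nsmul_eq_mul, nsmul_eq_mul]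
  have e1 : ((Finset.univ.filter fun s : S2 => NonScalar (s : M2) ∧
      (s : M2).trace = 1 + 1).card : ℂ) = q ^ 2 - 1 := by
    exact_mod_cast congrArg (fun z : ℤ => (z : ℂ)) (card_dbl (1 : F) (one_mul 1))
  have e2 : ((Finset.univ.filter fun s : S2 => NonScalar (s : M2) ∧
      (s : M2).trace = -1 + -1).card : ℂ) = q ^ 2 - 1 := by
    exact_mod_cast congrArg (fun z : ℤ => (z : ℂ)) (card_dbl (-1 : F) (by ring))
  rw [e1, e2]
  ring

end CfsgLib.KnownB.SL2
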