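import Cfsg.Agent.Lib.Pres.SLTwo

/-!
# The rank-one Steinberg presentation of `SL₂` over a finite field
-/

set_option autoImplicit false
set_option linter.unusedSectionVars false

namespace CfsgLib.KnownB.SL2St

variable {K : Type*} [Field K]
variable {G : Type*} [Group G]

/-- The two root maps satisfy the rank-one Steinberg relations. -/
structure Rels (e : Bool → K → G) : Prop where
  add : ∀ b t u, e b t * e b u = e b (t + u)
  conj : ∀ b t u, t ≠ 0 →
    (e b t * e (!b) (-t⁻¹) * e b t) * e b u * (e b t * e (!b) (-t⁻¹) * e b t)⁻¹ = e (!b) (-(t⁻¹ ^ 2 * u))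
  gen : Subgroup.closure (Set.range fun p : Bool × K => e p.1 p.2) = ⊤

variable {e : Bool → K → G}

/-- The Weyl elements. -/
def ww (e : Bool → K → G) (t : K) : G := e true t * e false (-t⁻¹) * e true t

/-- The torus elements. -/
def hh (e : Bool → K → G) (t : K) : G := ww e t * (ww e 1)⁻¹

namespace Rels

variable (R : Rels e)
include R

theorem zero (b : Bool) : e b 0 = 1 := by
  have h := R.add b 0 0
  rwa [add_zero, mul_eq_left] at h

theorem neg (b : Bool) (t : K) : e b (-t) = (e b t)⁻¹ :=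
  eq_inv_of_mul_eq_one_left (by rw [R.add, neg_add_cancel, R.zero])

theorem w_x {t : K} (ht : t ≠ 0) (u : K) :
    ww e t * e true u * (ww e t)⁻¹ = e false (-(t⁻¹ ^ 2 * u)) := R.conj true t u ht

theorem w_eq {t : K} (ht : t ≠ 0) : ww e t = e false (-t⁻¹) * e true t * e false (-t⁻¹) := by
  have h := R.w_x ht t
  rw [show t⁻¹ ^ 2 * t = t⁻¹ by field_simp, mul_inv_eq_iff_eq_mul] at h
  refine mul_right_cancel (b := e true t) ?_
  rw [h, ww]
  group

theorem w_y {t : K} (ht : t ≠ 0) (u : K) :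
    ww e t * e false u * (ww e t)⁻¹ = e true (-(t ^ 2 * u)) := by
  have h := R.conj false (-t⁻¹) u (by simpa using ht)
  rw [inv_neg, inv_inv, neg_neg, show (!false) = true from rfl, neg_sq] at h
  rwa [← R.w_eq ht] at h

theorem w_inv (t : K) : (ww e t)⁻¹ = ww e (-t) := by
  simp only [ww, inv_neg, neg_neg, R.neg, _root_.mul_inv_rev, inv_inv, mul_assoc]

theorem w_w {t u : K} (ht : t ≠ 0) (hu : u ≠ 0) :
    ww e t * ww e u * (ww e t)⁻¹ = ww e (t ^ 2 / u) := by
  have h1 : ww e t * ww e u * (ww e t)⁻¹ = (ww e t * e true u * (ww e t)⁻¹) *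
      (ww e t * e false (-u⁻¹) * (ww e t)⁻¹) * (ww e t * e true u * (ww e t)⁻¹) := by
    rw [show ww e u = e true u * e false (-u⁻¹) * e true u from rfl]; group
  rw [h1, R.w_x ht, R.w_y ht, R.w_eq (div_ne_zero (pow_ne_zero 2 ht) hu), inv_div]
  congr 2
  · congr 1; field_simp
  · congr 1; field_simp
  · field_simp

/-- The identity behind the triviality of the symbol. -/
theorem triple {a b : K} (ha : a ≠ 0) (hb : b ≠ 0) (hd : a + b ≠ 0) :
    ww e (-(a ^ 2 / (a + b))) * ww e a * ww e b = ww e (a * b / (a + b)) := by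
  have hy : ∀ s : K, s ≠ 0 → e false (-s⁻¹) = e true (-s) * ww e s * e true (-s) := fun s _ => by
    rw [ww, R.neg true]; group
  have hH : ∀ u, e true (a ^ 2 * u / b ^ 2) * (ww e a * ww e b) = ww e a * ww e b * e true u := by
    intro u
    rw [← eq_mul_inv_iff_mul_eq]
    symm
    calc ww e a * ww e b * e true u * (ww e a * ww e b)⁻¹
        = ww e a * (ww e b * e true u * (ww e b)⁻¹) * (ww e a)⁻¹ := by group
      _ = e true (a ^ 2 * u / b ^ 2) := by
        rw [R.w_x hb, R.w_y ha]; congr 1; field_simp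
  set d := a + b with hd'
  set t := -(a ^ 2 / d) with ht
  have ht0 : t ≠ 0 := neg_ne_zero.2 (div_ne_zero (pow_ne_zero 2 ha) hd)
  set c := a * b / d with hc
  have hc0 : c ≠ 0 := div_ne_zero (mul_ne_zero ha hb) hd
  have e0 : e false (-a⁻¹) * e false (-b⁻¹) = e false (-c⁻¹) := by
    rw [R.add]; congr 1; rw [hc, hd', inv_div]; field_simp; ring
  rw [hy a ha, hy b hb, hy c hc0] at e0
  have e1 : e true (-a) * ww e a * e true (-a) * (e true (-b) * ww e b * e true (-b)) =
      e true (-a) * e false (-t⁻¹) * (ww e a * ww e b * e true (-b)) := by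
    have : ww e a * (e true (-a) * e true (-b)) = e false (-t⁻¹) * ww e a := by
      rw [R.add, ← mul_inv_eq_iff_eq_mul, R.w_x ha]
      congr 1
      rw [ht, hd', inv_neg, inv_div]; field_simp; ring
    calc _ = e true (-a) * (ww e a * (e true (-a) * e true (-b))) * (ww e b * e true (-b)) := by group
      _ = _ := by rw [this]; group
  have e2 : e true (-c) * (ww e t * ww e a * ww e b) * e true (-c) =
      e true (-c) * ww e c * e true (-c) := by
    rw [← e0, e1, ← hH, hy t ht0]
    calc e true (-c) * (ww e t * ww e a * ww e b) * e true (-c)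
        = e true (-c) * ww e t * (ww e a * ww e b * e true (-c)) := by group
      _ = e true (-c) * ww e t * (e true (a ^ 2 * -c / b ^ 2) * (ww e a * ww e b)) := by rw [hH]
      _ = e true (-a + -t) * ww e t * (e true (-t + a ^ 2 * -b / b ^ 2) * (ww e a * ww e b)) := by
        congr 4
        · rw [hc, ht]; field_simp; rw [hd']; ring
        · rw [hc, ht]; field_simp; rw [hd']; ring
      _ = _ := by rw [← R.add, ← R.add]; group
  exact mul_left_cancel (mul_right_cancel e2)

theorem hh_x {t : K} (ht : t ≠ 0) (u : K) : hh e t * e true u * (hh e t)⁻¹ = e true (t ^ 2 * u) := by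
  calc hh e t * e true u * (hh e t)⁻¹
      = ww e t * ((ww e (-1)) * e true u * (ww e (-1))⁻¹) * (ww e t)⁻¹ := by
        rw [← R.w_inv 1, hh]; group
    _ = e true (t ^ 2 * u) := by
        rw [R.w_x (neg_ne_zero.2 one_ne_zero), R.w_y ht]; congr 1; simp

theorem hh_y {t : K} (ht : t ≠ 0) (u : K) :
    hh e t * e false u * (hh e t)⁻¹ = e false ((t ^ 2)⁻¹ * u) := by
  calc hh e t * e false u * (hh e t)⁻¹
      = ww e t * ((ww e (-1)) * e false u * (ww e (-1))⁻¹) * (ww e t)⁻¹ := by
        rw [← R.w_inv 1, hh]; group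
    _ = _ := by
        rw [R.w_y (neg_ne_zero.2 one_ne_zero), R.w_x ht]; congr 1; simp

/-- Elements scaling both root subgroups. -/
def Acts (e : Bool → K → G) (g : G) (l : K) : Prop :=
  ∀ u, g * e true u * g⁻¹ = e true (l * u) ∧ g * e false u * g⁻¹ = e false (l⁻¹ * u)

theorem acts_hh {t : K} (ht : t ≠ 0) : Acts e (hh e t) (t ^ 2) :=
  fun u => ⟨R.hh_x ht u, R.hh_y ht u⟩

theorem acts_pow {g : G} {l : K} (h : Acts e g l) (k : ℕ) : Acts e (g ^ k) (l ^ k) := by
  induction k with
  | zero => intro u; simp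
  | succ k ih =>
    intro u
    constructor
    · calc g ^ (k + 1) * e true u * (g ^ (k + 1))⁻¹ = g ^ k * (g * e true u * g⁻¹) * (g ^ k)⁻¹ := by
            rw [pow_succ]; group
        _ = _ := by rw [(h u).1, (ih _).1, pow_succ, mul_assoc]
    · calc g ^ (k + 1) * e false u * (g ^ (k + 1))⁻¹ = g ^ k * (g * e false u * g⁻¹) * (g ^ k)⁻¹ := by
            rw [pow_succ]; group
        _ = _ := by
            rw [(h u).2, (ih _).2]
            congr 1
            rw [pow_succ, mul_inv, mul_assoc]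

variable [Finite K]

theorem hh_comm {s t : K} (hs : s ≠ 0) (ht : t ≠ 0) : Commute (hh e s) (hh e t) := by
  obtain ⟨ζ, hζ⟩ := IsCyclic.exists_generator (α := Kˣ)
  have key : ∀ s : K, s ≠ 0 → ∃ (k : ℕ) (c : G), c ∈ Subgroup.center G ∧
      hh e s = hh e (ζ : K) ^ k * c := by
    intro s hs
    obtain ⟨k, hk⟩ := (isOfFinOrder_of_finite ζ).mem_powers_iff_mem_zpowers.2 (hζ (Units.mk0 s hs))
    have hk' : (ζ : K) ^ k = s := by rw [← Units.val_pow_eq_pow_val]; exact congrArg Units.val hk
    refine ⟨k, (hh e (ζ : K) ^ k)⁻¹ * hh e s, ?_, (mul_inv_cancel_left _ _).symm⟩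
    have h1 := R.acts_pow (R.acts_hh ζ.ne_zero) k
    rw [← pow_mul, mul_comm, pow_mul, hk'] at h1
    have h2 := R.acts_hh hs
    rw [← Subgroup.centralizer_univ, ← Subgroup.coe_top, ← R.gen, Subgroup.centralizer_closure,
      Subgroup.mem_centralizer_iff]
    rintro _ ⟨⟨b, u⟩, rfl⟩
    have h3 : hh e (ζ : K) ^ k * e b u * (hh e (ζ : K) ^ k)⁻¹ = hh e s * e b u * (hh e s)⁻¹ := by
      cases b
      · rw [(h1 u).2, (h2 u).2]
      · rw [(h1 u).1, (h2 u).1]
    show e b u * ((hh e (ζ : K) ^ k)⁻¹ * hh e s) = (hh e (ζ : K) ^ k)⁻¹ * hh e s * e b u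
    calc _ = (hh e (ζ : K) ^ k)⁻¹ * (hh e (ζ : K) ^ k * e b u * (hh e (ζ : K) ^ k)⁻¹) * hh e s := by group
      _ = _ := by rw [h3]; group
  obtain ⟨i, c, hc, e1⟩ := key s hs
  obtain ⟨j, d, hd, e2⟩ := key t ht
  rw [e1, e2]
  refine Commute.mul_left (Commute.mul_right (Commute.pow_pow_self _ _ _) ?_) ?_
  · exact Subgroup.mem_center_iff.1 hd _
  · exact (Subgroup.mem_center_iff.1 hc _).symm

theorem hh_inv_conj {t : K} (ht : t ≠ 0) :
    ww e 1 * hh e t * (ww e 1)⁻¹ = hh e t⁻¹ := by
  have h := R.w_w one_ne_zero ht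
  rw [one_pow, one_div] at h
  rw [hh, hh, ← h]; group

theorem hh_sq_mul {t s : K} (ht : t ≠ 0) (hs : s ≠ 0) :
    hh e (t ^ 2 * s) = hh e t * (hh e t⁻¹)⁻¹ * hh e s := by
  have h := R.w_w ht (inv_ne_zero hs)
  rw [div_inv_eq_mul] at h
  have e1 : hh e t * hh e s * (hh e t⁻¹)⁻¹ = hh e (t ^ 2 * s) := by
    have h2 := R.hh_inv_conj (inv_ne_zero hs)
    rw [inv_inv] at h2
    rw [← R.hh_inv_conj ht, ← h2, hh, hh, hh, ← h]; group
  rw [← e1, mul_assoc, mul_assoc, (R.hh_comm hs (inv_ne_zero ht)).inv_right.eq]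

theorem hh_one : hh e (1 : K) = 1 := mul_inv_cancel _

theorem hh_square {t s : K} (ht : t ≠ 0) (hs : s ≠ 0) :
    hh e (t ^ 2 * s) = hh e (t ^ 2) * hh e s := by
  have h := R.hh_sq_mul ht one_ne_zero
  rw [mul_one, R.hh_one, mul_one] at h
  rw [R.hh_sq_mul ht hs, h]

theorem hh_sq_inv {t : K} (ht : t ≠ 0) : hh e (t ^ 2) * hh e ((t ^ 2)⁻¹) = 1 := by
  have h := R.hh_square ht (s := (t ^ 2)⁻¹) (inv_ne_zero (pow_ne_zero 2 ht))
  rwa [mul_inv_cancel₀ (pow_ne_zero 2 ht), R.hh_one, eq_comm] at h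

/-- The symbol vanishes: `h(ζ⁻¹) = h(ζ)⁻¹`. -/
theorem hh_mul_inv {ζ : K} (hζ : ζ ≠ 0) : hh e ζ * hh e ζ⁻¹ = 1 := by
  classical
  have := Fintype.ofFinite K
  by_cases hsq : IsSquare ζ
  · obtain ⟨r, rfl⟩ := hsq
    rw [← sq]
    exact R.hh_sq_inv fun h => hζ (by rw [h, mul_zero])
  have h2 : ringChar K ≠ 2 := fun h => hsq (FiniteField.isSquare_of_char_two h ζ)
  -- reduce to one non-square
  suffices hne : ∃ ν : K, ν ≠ 0 ∧ ¬ IsSquare ν ∧ hh e ν * hh e ν⁻¹ = 1 by
    obtain ⟨ν, hν, hνs, hφ⟩ := hne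
    obtain ⟨r, hr⟩ : IsSquare (ζ / ν) := by
      rw [← quadraticChar_one_iff_isSquare (div_ne_zero hζ hν), div_eq_mul_inv, map_mul,
        quadraticChar_neg_one_iff_not_isSquare.2 hsq,
        quadraticChar_neg_one_iff_not_isSquare.2 (fun h => hνs (isSquare_inv.1 h))]
      norm_num
    have hζr : ζ = r ^ 2 * ν := by rw [sq, ← hr, div_mul_cancel₀ _ hν]
    have hr0 : r ≠ 0 := fun h => hζ (by rw [hζr, h]; simp)
    subst hζr
    rw [mul_inv, ← inv_pow, R.hh_square hr0 hν, R.hh_square (inv_ne_zero hr0) (inv_ne_zero hν), inv_pow]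
    have hc := R.hh_comm hν (inv_ne_zero (pow_ne_zero 2 hr0))
    calc _ = hh e (r ^ 2) * (hh e ν * hh e (r ^ 2)⁻¹) * hh e ν⁻¹ := by group
      _ = hh e (r ^ 2) * hh e (r ^ 2)⁻¹ * (hh e ν * hh e ν⁻¹) := by rw [hc.eq]; group
      _ = 1 := by rw [R.hh_sq_inv hr0, hφ, one_mul]
  have hm1 : hh e (-1 : K) = (ww e 1 * ww e 1)⁻¹ := by
    rw [hh, ← R.w_inv 1]; group
  have htr : ∀ {a b : K}, a ≠ 0 → b ≠ 0 → a + b ≠ 0 →
      hh e (-(a ^ 2 / (a + b))) * hh e a⁻¹ * (hh e (-1 : K))⁻¹ * hh e b =
        hh e (a * b / (a + b)) := by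
    intro a b ha hb hd
    rw [← R.hh_inv_conj ha, hm1, hh, hh, hh, hh, inv_inv, ← R.triple ha hb hd]
    group
  by_cases hn : IsSquare (-1 : K)
  · obtain ⟨a, b, ha, hb0, has, hds⟩ : ∃ a b : K, a ≠ 0 ∧ b ≠ 0 ∧ ¬ IsSquare a ∧
        ¬ IsSquare (a + b ^ 2) := by
      by_contra! hno
      set N := Finset.univ.filter fun x : K => ¬ IsSquare x
      have hζN : ζ ∈ N := by simp [N, hsq]
      have hN0 : (0 : K) ∉ N := by simp [N]
      have hsub : ∀ a ∈ insert 0 N, ∀ c ∈ insert 0 N, a - c ∈ insert 0 N := by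
        intro a ha c hc
        simp only [N, Finset.mem_insert, Finset.mem_filter, Finset.mem_univ, true_and] at ha hc ⊢
        by_contra h
        rw [not_or, not_not] at h
        obtain ⟨h0, r, hr⟩ := h
        have hr0 : r ≠ 0 := fun h' => h0 (by rw [hr, h', mul_zero])
        have hac : a = c + r ^ 2 := by rw [sq, ← hr]; ring
        rcases hc with rfl | hc
        · rcases ha with rfl | ha
          · exact h0 (sub_zero 0)
          · exact ha ⟨r, by rw [hac, zero_add, sq]⟩
        rcases ha with rfl | ha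
        · exact hc (by
            have : c = -1 * (r * r) := by linear_combination -hr
            rw [this]; exact hn.mul ⟨r, rfl⟩)
        · exact ha (hac ▸ hno c r (fun h' => hc (h' ▸ IsSquare.zero)) hr0 hc)
      let A : AddSubgroup K := AddSubgroup.ofSub (↑(insert 0 N) : Set K) ⟨0, by simp⟩
        fun a ha c hc => by simpa [sub_eq_add_neg] using hsub a ha c hc
      have hA : Nat.card A = N.card + 1 := by
        rw [show Nat.card A = Nat.card (↑(insert 0 N) : Set K) from rfl, Nat.card_coe_set_eq,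
          Set.ncard_coe_finset, Finset.card_insert_of_notMem hN0]
      have hd : N.card + 1 ∣ Fintype.card K := by
        rw [← hA, ← Nat.card_eq_fintype_card]; exact AddSubgroup.card_addSubgroup_dvd_card A
      have hq : Fintype.card K = 2 * N.card + 1 := by
        have hS : ((Finset.univ.erase (0 : K)).filter fun x => IsSquare x).card = N.card := by
          refine Finset.card_bij (fun x _ => ζ * x) (fun x hx => ?_) (fun x _ y _ h => mul_left_cancel₀ hζ h)
            fun y hy => ⟨y / ζ, ?_, mul_div_cancel₀ y hζ⟩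
          · simp only [Finset.mem_filter, Finset.mem_erase] at hx
            simp only [N, Finset.mem_filter, Finset.mem_univ, true_and]
            intro h
            exact hsq (by simpa [mul_div_assoc, div_self hx.1.1] using h.div hx.2)
          · simp only [N, Finset.mem_filter, Finset.mem_univ, true_and] at hy
            have hy0 : y ≠ 0 := fun h => hy (h ▸ IsSquare.zero)
            simp only [Finset.mem_filter, Finset.mem_erase, Finset.mem_univ, and_true]
            refine ⟨div_ne_zero hy0 hζ, ?_⟩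
            rw [← quadraticChar_one_iff_isSquare (div_ne_zero hy0 hζ), div_eq_mul_inv, map_mul,
              quadraticChar_neg_one_iff_not_isSquare.2 hy,
              quadraticChar_neg_one_iff_not_isSquare.2 (fun h => hsq (isSquare_inv.1 h))]
            norm_num
        have h1 := Finset.card_filter_add_card_filter_not (s := Finset.univ.erase (0 : K))
          (fun x => IsSquare x)
        have h3 : ((Finset.univ.erase (0 : K)).filter fun x => ¬ IsSquare x) = N := by
          ext x
          simp only [N, Finset.mem_filter, Finset.mem_erase, Finset.mem_univ, true_and, and_true]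
          exact ⟨fun h => h.2, fun h => ⟨fun h' => h (h' ▸ IsSquare.zero), h⟩⟩
        rw [hS, h3, Finset.card_erase_of_mem (Finset.mem_univ _), Finset.card_univ] at h1
        have := Fintype.card_pos (α := K)
        omega
      rw [hq] at hd
      have h1 : N.card + 1 ∣ 1 := by
        have := Nat.dvd_sub (dvd_mul_of_dvd_right (dvd_refl (N.card + 1)) 2) hd
        rwa [show 2 * (N.card + 1) - (2 * N.card + 1) = 1 by omega] at this
      have := Finset.card_pos.2 ⟨ζ, hζN⟩
      have := Nat.le_of_dvd one_pos h1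
      omega
    refine ⟨a, ha, has, ?_⟩
    have hd : a + b ^ 2 ≠ 0 := fun h => hds (h ▸ IsSquare.zero)
    obtain ⟨k, hk⟩ : IsSquare (a / (a + b ^ 2)) := by
      rw [← quadraticChar_one_iff_isSquare (div_ne_zero ha hd), div_eq_mul_inv, map_mul,
        quadraticChar_neg_one_iff_not_isSquare.2 has,
        quadraticChar_neg_one_iff_not_isSquare.2 (fun h => hds (isSquare_inv.1 h))]
      norm_num
    have hk0 : k ≠ 0 := fun h => div_ne_zero ha hd (by rw [hk, h, mul_zero])
    obtain ⟨i, hi⟩ := hn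
    have hi0 : i ≠ 0 := fun h => by simp [h] at hi
    have h := htr ha (pow_ne_zero 2 hb0) hd
    rw [show -(a ^ 2 / (a + b ^ 2)) = (i * k) ^ 2 * a by
        rw [mul_pow, sq i, ← hi, sq k, ← hk]; field_simp,
      show a * b ^ 2 / (a + b ^ 2) = k ^ 2 * b ^ 2 by rw [sq k, ← hk]; field_simp,
      R.hh_square (mul_ne_zero hi0 hk0) ha, R.hh_square hk0 (pow_ne_zero 2 hb0),
      mul_pow, sq i, ← hi, mul_comm (-1 : K), R.hh_square hk0 (neg_ne_zero.2 one_ne_zero)] at h
    have h' := mul_right_cancel h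
    have hc1 := (R.hh_comm (neg_ne_zero.2 one_ne_zero) ha).eq
    have hc2 := (R.hh_comm (neg_ne_zero.2 one_ne_zero) (inv_ne_zero ha)).eq
    rw [mul_inv_eq_iff_eq_mul, mul_assoc, mul_assoc] at h'
    have h'' := mul_left_cancel h'
    rw [← mul_assoc, hc1, mul_assoc, hc2, ← mul_assoc] at h''
    exact mul_eq_right.1 h''
  · obtain ⟨s, hs⟩ : ∃ s : K, ¬ IsSquare (1 + s ^ 2) := by
      by_contra! hno
      have hnat : ∀ j : ℕ, IsSquare (j : K) := by
        intro j
        induction j with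
        | zero => simp
        | succ j ih =>
          obtain ⟨r, hr⟩ := ih
          rw [Nat.cast_succ, hr, add_comm, ← sq]
          exact hno r
      obtain ⟨p, hp⟩ := CharP.exists K
      have hpp : p.Prime := ((CharP.char_is_prime_or_zero K p).resolve_right
        (CharP.char_ne_zero_of_finite K p))
      refine hn ?_
      have := hnat (p - 1)
      rwa [Nat.cast_sub hpp.one_le, CharP.cast_eq_zero, Nat.cast_one, zero_sub] at this
    have hs0 : s ≠ 0 := fun h => hs (by simp [h])
    have hb0 : 1 + s ^ 2 ≠ 0 := fun h => hs (h ▸ IsSquare.zero)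
    refine ⟨-1, neg_ne_zero.2 one_ne_zero, hn, ?_⟩
    obtain ⟨β, hβ⟩ : IsSquare (-(1 + s ^ 2)) := by
      rw [← quadraticChar_one_iff_isSquare (neg_ne_zero.2 hb0), ← neg_one_mul, map_mul,
        quadraticChar_neg_one_iff_not_isSquare.2 hn, quadraticChar_neg_one_iff_not_isSquare.2 hs]
      norm_num
    have hβ0 : β ≠ 0 := fun h => neg_ne_zero.2 hb0 (by rw [hβ, h, mul_zero])
    have h := htr (neg_ne_zero.2 one_ne_zero) hb0 (by
      rw [show -1 + (1 + s ^ 2) = s ^ 2 by ring]; exact pow_ne_zero 2 hs0)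
    rw [show -1 + (1 + s ^ 2) = s ^ 2 by ring,
      show -((-1 : K) ^ 2 / s ^ 2) = (s⁻¹) ^ 2 * -1 by field_simp,
      show -1 * (1 + s ^ 2) / s ^ 2 = (s⁻¹) ^ 2 * β ^ 2 by rw [sq β, ← hβ]; field_simp,
      show 1 + s ^ 2 = β ^ 2 * -1 by rw [sq β, ← hβ]; ring,
      inv_neg, inv_one, R.hh_square (inv_ne_zero hs0) (neg_ne_zero.2 one_ne_zero),
      R.hh_square (inv_ne_zero hs0) (pow_ne_zero 2 hβ0),
      R.hh_square hβ0 (neg_ne_zero.2 one_ne_zero)] at h
    rw [inv_neg, inv_one]
    simp only [mul_assoc, mul_inv_cancel_left] at h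
    have h' := mul_left_cancel h
    rw [← mul_assoc, (R.hh_comm (neg_ne_zero.2 one_ne_zero) (pow_ne_zero 2 hβ0)).eq, mul_assoc,
      mul_eq_left] at h'
    exact h'

/-- The group has at most `|SL₂(K)|` elements. -/
theorem card_le [Fintype K] : Finite G ∧ Nat.card G ≤ Fintype.card K * (Fintype.card K ^ 2 - 1) := by
  obtain ⟨ζ, hζ⟩ := IsCyclic.exists_generator (α := Kˣ)
  have hgen : Subgroup.closure ({e true 1, hh e (ζ : K), ww e 1} : Set G) = ⊤ := by
    set C := Subgroup.closure ({e true 1, hh e (ζ : K), ww e 1} : Set G)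
    have hu : e true 1 ∈ C := Subgroup.subset_closure (by simp)
    have hh' : hh e (ζ : K) ∈ C := Subgroup.subset_closure (by simp)
    have hw : ww e 1 ∈ C := Subgroup.subset_closure (by simp)
    have hsq : ∀ s : K, e true (s ^ 2) ∈ C := by
      intro s
      rcases eq_or_ne s 0 with rfl | hs
      · rw [zero_pow two_ne_zero, R.zero]; exact one_mem C
      obtain ⟨k, hk⟩ := (isOfFinOrder_of_finite ζ).mem_powers_iff_mem_zpowers.2 (hζ (Units.mk0 s hs))
      have hk' : (ζ : K) ^ k = s := by rw [← Units.val_pow_eq_pow_val]; exact congrArg Units.val hk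
      have h := (R.acts_pow (R.acts_hh ζ.ne_zero) k 1).1
      rw [mul_one, ← pow_mul, mul_comm, pow_mul, hk'] at h
      rw [← h]
      exact mul_mem (mul_mem (pow_mem hh' _) hu) (inv_mem (pow_mem hh' _))
    have hx : ∀ t : K, e true t ∈ C := by
      intro t
      obtain ⟨a, b, hab⟩ : ∃ a b : K, a ^ 2 + b ^ 2 = t := by
        by_cases h2 : ringChar K = 2
        · obtain ⟨r, rfl⟩ := FiniteField.isSquare_of_char_two h2 t
          exact ⟨r, 0, by ring⟩
        · obtain ⟨a, b, hab⟩ := FiniteField.exists_root_sum_quadratic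
            (f := (Polynomial.X ^ 2 : Polynomial K)) (g := Polynomial.X ^ 2 - Polynomial.C t)
            (Polynomial.degree_X_pow 2) (Polynomial.degree_X_pow_sub_C two_pos t)
            (FiniteField.odd_card_of_char_ne_two h2)
          simp only [Polynomial.eval_pow, Polynomial.eval_X, Polynomial.eval_sub, Polynomial.eval_C] at hab
          exact ⟨a, b, by linear_combination hab⟩
      rw [← hab, ← R.add]
      exact mul_mem (hsq a) (hsq b)
    rw [← top_le_iff, ← R.gen, Subgroup.closure_le]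
    rintro _ ⟨⟨b, t⟩, rfl⟩
    cases b
    · have h := R.w_x one_ne_zero (-t)
      rw [inv_one, one_pow, one_mul, neg_neg] at h
      show e false t ∈ C
      rw [← h]
      exact mul_mem (mul_mem hw (hx _)) (inv_mem hw)
    · exact hx t
  refine (CfsgLib.Pres.card_le_bruhat (hh e (ζ : K)) (e true 1) (ww e 1) ζ hζ (e true)
    (fun c d => (R.add true c d).symm) rfl (R.hh_x ζ.ne_zero) ?_ ?_ ?_ hgen).imp id And.left
  · rw [R.hh_inv_conj ζ.ne_zero]
    exact eq_inv_of_mul_eq_one_right (R.hh_mul_inv ζ.ne_zero)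
  · rw [R.w_x one_ne_zero, inv_one, one_pow, one_mul, R.neg false,
      show ww e (1 : K) = e true 1 * e false (-1) * e true 1 by rw [ww, inv_one], R.neg false]
    group
  · rw [R.w_x one_ne_zero, inv_one, one_pow, one_mul, hh,
      show ww e (ζ : K) = e true (ζ : K) * e false (-(ζ : K)⁻¹) * e true (ζ : K) from rfl]
    group

end Rels

theorem present [Finite K] :
    ∃ e : PresentedGroup
        ({g : FreeGroup (Bool × K) | ∃ (b : Bool) (t u : K), g = FreeGroup.of (b, t) * FreeGroup.of (b, u) * (FreeGroup.of (b, t + u))⁻¹} ∪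
          {g | ∃ (b : Bool) (t u : K), t ≠ 0 ∧
            g = (FreeGroup.of (b, t) * FreeGroup.of (!b, -t⁻¹) * FreeGroup.of (b, t)) * FreeGroup.of (b, u) *
                  (FreeGroup.of (b, t) * FreeGroup.of (!b, -t⁻¹) * FreeGroup.of (b, t))⁻¹ * (FreeGroup.of (!b, -(t⁻¹ ^ 2 * u)))⁻¹})
        ≃* Matrix.SpecialLinearGroup (Fin 2) K,
      (∀ t : K, ((e (PresentedGroup.of (true, t)) : Matrix (Fin 2) (Fin 2) K)) = !![1, t; 0, 1]) ∧
      (∀ t : K, ((e (PresentedGroup.of (false, t)) : Matrix (Fin 2) (Fin 2) K)) = !![1, 0; t, 1]) := by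
  classical
  have := Fintype.ofFinite K
  set rels : Set (FreeGroup (Bool × K)) := _ ∪ _ with hrels
  let f : Bool × K → Matrix.SpecialLinearGroup (Fin 2) K := fun p =>
    if p.1 then ⟨!![1, p.2; 0, 1], by simp [Matrix.det_fin_two_of]⟩
    else ⟨!![1, 0; p.2, 1], by simp [Matrix.det_fin_two_of]⟩
  have hfadd : ∀ b t u, f (b, t) * f (b, u) = f (b, t + u) := by
    intro b t u
    refine Subtype.ext ?_
    rw [Matrix.SpecialLinearGroup.coe_mul]
    cases b <;> ext i j <;> fin_cases i <;> fin_cases j <;>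
      simp [f, Matrix.mul_apply, Fin.sum_univ_two, add_comm]
  have hfconj : ∀ b t u, t ≠ 0 → f (b, t) * f (!b, -t⁻¹) * f (b, t) * f (b, u) =
      f (!b, -(t⁻¹ ^ 2 * u)) * (f (b, t) * f (!b, -t⁻¹) * f (b, t)) := by
    intro b t u ht
    refine Subtype.ext ?_
    simp only [Matrix.SpecialLinearGroup.coe_mul]
    cases b <;> ext i j <;> fin_cases i <;> fin_cases j <;>
      simp [f, Matrix.mul_apply, Fin.sum_univ_two, ht, sq] <;> field_simp <;> ring
  have hrel : ∀ r ∈ rels, FreeGroup.lift f r = 1 := by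
    rintro r (⟨b, t, u, rfl⟩ | ⟨b, t, u, ht, rfl⟩)
    · simp only [map_mul, map_inv, FreeGroup.lift_apply_of]
      rw [hfadd, mul_inv_cancel]
    · simp only [map_mul, map_inv, FreeGroup.lift_apply_of]
      rw [hfconj b t u ht]; group
  let Φ : PresentedGroup rels →* Matrix.SpecialLinearGroup (Fin 2) K := PresentedGroup.toGroup hrel
  have hΦ : ∀ p, Φ (PresentedGroup.of p) = f p := fun p => PresentedGroup.toGroup.of hrel
  have hR : Rels (G := PresentedGroup rels) (fun b t => PresentedGroup.of (b, t)) :=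
    { add := fun b t u => PresentedGroup.mk_eq_mk_of_mul_inv_mem (Or.inl ⟨b, t, u, rfl⟩)
      conj := fun b t u ht => PresentedGroup.mk_eq_mk_of_mul_inv_mem (Or.inr ⟨b, t, u, ht, rfl⟩)
      gen := PresentedGroup.closure_range_of rels }
  have hsurj : Function.Surjective Φ := by
    rw [← MonoidHom.range_eq_top, eq_top_iff]
    intro g _
    have : ∀ i j : Fin 2, ∀ hij : i ≠ j, ∀ c : K,
        Matrix.SpecialLinearGroup.transvection hij c ∈ Φ.range := by
      intro i j hij c
      fin_cases i <;> fin_cases j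
      · exact absurd rfl hij
      · refine ⟨PresentedGroup.of (true, c), ?_⟩
        rw [hΦ]
        refine Subtype.ext ?_
        rw [Matrix.SpecialLinearGroup.transvection_coe]
        ext a b; fin_cases a <;> fin_cases b <;> simp [f, Matrix.transvection]
      · refine ⟨PresentedGroup.of (false, c), ?_⟩
        rw [hΦ]
        refine Subtype.ext ?_
        rw [Matrix.SpecialLinearGroup.transvection_coe]
        ext a b; fin_cases a <;> fin_cases b <;> simp [f, Matrix.transvection]
      · exact absurd rfl hij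
    rw [CfsgLib.Classical.sl_transvection_induction Φ.range this]; trivial
  obtain ⟨hfin, hle⟩ := hR.card_le
  rw [← CfsgLib.Pres.card_sl K] at hle
  refine ⟨MulEquiv.ofBijective Φ ((Nat.bijective_iff_surjective_and_card Φ).2
    ⟨hsurj, le_antisymm hle (Nat.card_le_card_of_surjective _ hsurj)⟩), fun t => ?_, fun t => ?_⟩
  · show ((Φ (PresentedGroup.of (true, t)) : Matrix (Fin 2) (Fin 2) K)) = _
    rw [hΦ]; rfl
  · show ((Φ (PresentedGroup.of (false, t)) : Matrix (Fin 2) (Fin 2) K)) = _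
    rw [hΦ]; rfl

end CfsgLib.KnownB.SL2St
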