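import Cfsg.Agent.Lib.KnownB.SL2Count

/-!
# Cyclic subgroups of order `q + 1` of `SL₂(F)`
-/

set_option autoImplicit false

namespace CfsgLib.KnownB.SL2

open Matrix Finset CfsgLib.KnownB.GL2
open scoped MatrixGroups

variable {F : Type*} [Field F]

local notation "G2" => GL (Fin 2) F
local notation "S2" => Matrix.SpecialLinearGroup (Fin 2) F
local notation "M2" => Matrix (Fin 2) (Fin 2) F

theorem mem_center_iff_scalar {s : S2} :
    s ∈ Subgroup.center S2 ↔ ∃ a : F, (s : M2) = a • 1 := by
  rw [Matrix.SpecialLinearGroup.mem_center_iff]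
  constructor
  · rintro ⟨r, -, hr⟩
    exact ⟨r, by rw [← hr, Matrix.scalar_apply, ← Matrix.smul_one_eq_diagonal]⟩
  · rintro ⟨a, ha⟩
    refine ⟨a, ?_, by rw [ha, Matrix.scalar_apply, ← Matrix.smul_one_eq_diagonal]⟩
    have := s.2
    rw [ha] at this
    simpa using this

variable [Fintype F] [DecidableEq F]
variable {E : Type*} [Field E] [Algebra F E] [IsQuad F E] [Fintype E]

omit [DecidableEq F] in
theorem noEig_of_ell {s : S2} {x : E} (hx : ∀ a, algebraMap F E a ≠ x)
    (hn : Algebra.norm F x = 1) (ht : (s : M2).trace = Algebra.trace F E x) (c : F)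
    (v : Fin 2 → F) (hv : v ≠ 0) : (s : M2).mulVec v ≠ c • v := by
  classical
  intro he
  have hdet : ((s : M2) - c • 1).det = 0 :=
    Matrix.exists_mulVec_eq_zero_iff.mp ⟨v, hv, by
      rw [Matrix.sub_mulVec, Matrix.smul_mulVec, Matrix.one_mulVec, he, sub_self]⟩
  have hr := roots_eq_empty_of_mem hx ht.symm hn
  have : c ∈ roots (s : M2).trace 1 := by
    have h1 := s.2
    rw [det_fin_two] at h1
    simp [det_fin_two] at hdet
    simp only [roots, mem_filter, mem_univ, true_and, trace_fin_two]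
    linear_combination h1 - hdet
  rw [hr] at this
  exact Finset.notMem_empty _ this

omit [DecidableEq F] in
/-- An element of order `q + 1` (`q` odd) has an eigenvalue outside `F`. -/
theorem ell_of_orderOf (E : Type*) [Field E] [Algebra F E] [IsQuad F E] [Fintype E]
    (hodd : Odd (Fintype.card F)) {c : S2} (hc : orderOf c = Fintype.card F + 1) :
    ∃ x : E, (∀ a, algebraMap F E a ≠ x) ∧ Algebra.norm F x = 1 ∧
      (c : M2).trace = Algebra.trace F E x := by
  classical
  have hq3 : 3 ≤ Fintype.card F := by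
    have := Fintype.one_lt_card (α := F)
    rw [Nat.odd_iff] at hodd
    omega
  have key : ∀ k : ℕ, c ^ k = 1 → Nat.gcd (Fintype.card F + 1) k ≤ 2 → False := by
    intro k hk hg
    have h := orderOf_dvd_of_pow_eq_one hk
    rw [hc] at h
    rw [Nat.gcd_eq_left h] at hg
    omega
  have hgl : ∀ (k : ℕ) (d : G2), IsConj (ι c) d → d ^ k = 1 → c ^ k = 1 := by
    intro k d hd hk
    obtain ⟨y, rfl⟩ := isConj_iff.mp hd
    rw [conj_pow, conj_eq_one_iff, ← map_pow, map_eq_one_iff _ ι_injective] at hk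
    exact hk
  rcases sl_cases E c with ⟨a, ha, hs⟩ | ⟨hs, a, ha, ht⟩ | ⟨a, b, hab, hne, ht⟩ | h
  · exfalso
    refine key 2 (Subtype.ext ?_) (Nat.le_of_dvd two_pos (Nat.gcd_dvd_right _ _))
    rw [Matrix.SpecialLinearGroup.coe_pow, hs, Matrix.SpecialLinearGroup.coe_one, sq,
      smul_mul_assoc, one_mul, smul_smul, ha, one_smul]
  · exfalso
    obtain ⟨ha', n, -, hn⟩ := exists_isConj_utri hs ht (by rw [c.2, ha])
    refine key (2 * Fintype.card F) ?_ ?_
    · obtain ⟨p, hp⟩ := CharP.exists F
      have : Fact p.Prime := ⟨CharP.char_is_prime F p⟩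
      obtain ⟨m, hm, hcard⟩ := FiniteField.card F p
      refine hgl _ _ (MonoidHom.map_isConj ι hn) ?_
      rw [← map_pow, map_eq_one_iff _ ι_injective]
      refine Subtype.ext ?_
      rw [Matrix.SpecialLinearGroup.coe_pow, Matrix.SpecialLinearGroup.coe_one, coe_utri]
      have hdec : (!![a, n; 0, a] : M2) = a • 1 + !![0, n; 0, 0] := by
        ext i j; fin_cases i <;> fin_cases j <;> simp
      have hcomm : Commute (a • (1 : M2)) !![0, n; 0, 0] := (Commute.one_left _).smul_left a
      rw [hdec, mul_comm 2, pow_mul]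
      have hN : (!![0, n; 0, 0] : M2) ^ Fintype.card F = 0 := by
        obtain ⟨j, hj⟩ := Nat.exists_eq_add_of_le (show 2 ≤ Fintype.card F by omega)
        rw [hj, pow_add]
        have : (!![0, n; 0, 0] : M2) ^ 2 = 0 := by
          rw [sq]; ext i j; fin_cases i <;> fin_cases j <;> simp [Matrix.mul_apply, Fin.sum_univ_two]
        rw [this, zero_mul]
      rw [hcard] at hN ⊢
      rw [add_pow_char_pow_of_commute p _ hcomm, hN, add_zero, _root_.smul_pow, one_pow, ← hcard,
        FiniteField.pow_card, sq, smul_mul_assoc, one_mul, smul_smul, ha, one_smul]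
    · have hg : Nat.gcd (Fintype.card F + 1) (Fintype.card F) = 1 := by
        rw [Nat.gcd_comm, Nat.gcd_self_add_right, Nat.gcd_one_right]
      exact Nat.le_of_dvd two_pos ((Nat.Coprime.dvd_of_dvd_mul_right
        ((Nat.coprime_iff_gcd_eq_one.mpr hg).coprime_dvd_left (Nat.gcd_dvd_left _ _))
        (Nat.gcd_dvd_right _ _)))
  · exfalso
    have ha : a ≠ 0 := left_ne_zero_of_mul_eq_one hab
    have hb : b ≠ 0 := right_ne_zero_of_mul_eq_one hab
    let d : G2 := Matrix.GeneralLinearGroup.mkOfDetNeZero !![a, 0; 0, b] (by simp [det_fin_two, ha, hb])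
    refine key (Fintype.card F - 1) (hgl _ d ?_ ?_) ?_
    · refine isConj_of_trace_det (centralizer_split hne ht (by rw [det_ι, hab])).1
        ((nonScalar_iff _).mpr (Or.inr (Or.inr (by simpa [d] using hne)))) ?_ ?_
      · rw [coe_ι, ht]; simp [d, trace_fin_two]
      · rw [det_ι, ← hab]; simp [d, det_fin_two]
    · refine Units.ext ?_
      rw [Units.val_pow_eq_pow_val, Units.val_one]
      have : (!![a, 0; 0, b] : M2) = Matrix.diagonal ![a, b] := by
        ext i j; fin_cases i <;> fin_cases j <;> simp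
      show (!![a, 0; 0, b] : M2) ^ (Fintype.card F - 1) = 1
      rw [this, Matrix.diagonal_pow]
      ext i j
      fin_cases i <;> fin_cases j <;>
        simp [FiniteField.pow_card_sub_one_eq_one a ha, FiniteField.pow_card_sub_one_eq_one b hb]
    · have h1 := Nat.dvd_sub (Nat.gcd_dvd_left (Fintype.card F + 1) (Fintype.card F - 1))
        (Nat.gcd_dvd_right (Fintype.card F + 1) (Fintype.card F - 1))
      exact Nat.le_of_dvd two_pos (by rwa [show Fintype.card F + 1 - (Fintype.card F - 1) = 2 by omega] at h1)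
  · exact h

/-- Parametrisation of a cyclic subgroup of order `q + 1` by norm-one elements. -/
theorem exists_torus_param (E : Type*) [Field E] [Algebra F E] [IsQuad F E] [Fintype E]
    (hodd : Odd (Fintype.card F)) (T : Subgroup S2) (hT : IsCyclic T)
    (hcard : Nat.card T = Fintype.card F + 1) :
    ∃ (g : T) (u : Eˣ), (∀ t : T, t ∈ Submonoid.powers g) ∧
      orderOf g = Fintype.card F + 1 ∧ orderOf u = Fintype.card F + 1 ∧
      Algebra.norm F (u : E) = 1 ∧ (∀ k : ℕ, IsConj (ι ((g ^ k : T) : S2)) (emb F E (u ^ k))) := by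
  classical
  obtain ⟨g, hg⟩ := IsCyclic.exists_monoid_generator (α := T)
  have hord : orderOf g = Fintype.card F + 1 := by
    rw [← hcard]
    refine orderOf_eq_card_of_forall_mem_zpowers fun y => ?_
    obtain ⟨i, hi⟩ := hg y
    exact ⟨(i : ℤ), by simpa using hi⟩
  have hord' : orderOf (g : S2) = Fintype.card F + 1 := by rw [Subgroup.orderOf_coe, hord]
  obtain ⟨x, hx, hn, ht⟩ := ell_of_orderOf E hodd hord'
  let u : Eˣ := Units.mk0 x (ne_zero_of_norm_one hn)
  have hc : IsConj (ι (g : S2)) (emb F E u) := by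
    refine isConj_of_trace_det (centralizer_ell hx ht ((det_ι _).trans hn.symm)).1
      ((nonScalar_emb_iff _).mpr hx) ?_ ?_
    · rw [trace_emb]; exact ht
    · rw [det_emb, Units.val_mk0, hn]; exact det_ι _
  obtain ⟨y, hy⟩ := isConj_iff.mp hc
  refine ⟨g, u, hg, hord, ?_, hn, fun k => isConj_iff.mpr ⟨y, ?_⟩⟩
  · rw [← hord', ← orderOf_injective (emb F E) emb_injective u, ← hy,
      ← orderOf_injective (ι (F := F)) ι_injective]
    exact (MulEquiv.orderOf_eq (MulAut.conj y) _)
  · rw [SubgroupClass.coe_pow, map_pow, map_pow, ← hy, conj_pow]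

end CfsgLib.KnownB.SL2
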