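import Cfsg.Agent.Lib.KnownB.RegUnipGen
import Cfsg.Agent.Lib.KnownB.PSL3Cover
import Mathlib.FieldTheory.Finite.Basic

/-!
# `SL₃(q)` is generated by two conjugate regular unipotent elements

With `u` the companion matrix of `(X - 1)³` and `h = [[α, A, B], [0, α⁻², C], [0, 0, α]]` the
element `v = u⁻¹ h` is conjugate to `u` for the right `B`, `C`, and a power of `h` is a transvection.
-/

set_option autoImplicit false
set_option linter.unusedSectionVars false
set_option linter.unusedSimpArgs false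

namespace CfsgLib.KnownB.SL3Reg

open Matrix CfsgLib.KnownB.RegUnip

universe u

variable {F : Type u} [Field F]

local notation "S3" => Matrix.SpecialLinearGroup (Fin 3) F
local notation "M3" => Matrix (Fin 3) (Fin 3) F
local notation "ε" => e (F := F) (m := 2)

/-- The companion matrix of `(X - 1)³`. -/
def compU : Matrix (Fin 3) (Fin 3) F := !![0, 0, 1; 1, 0, -3; 0, 1, 3]

/-- Its inverse. -/
def compUinv : Matrix (Fin 3) (Fin 3) F := !![3, 1, 0; -3, 0, 1; 1, 0, 0]

theorem coe_inv_u {u : Matrix.SpecialLinearGroup (Fin 3) F} (hu : (u : M3) = compU) :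
    ((u⁻¹ : S3) : M3) = compUinv := by
  obtain ⟨w, hw⟩ : ∃ w : S3, (w : M3) = compUinv :=
    ⟨⟨_, by simp [compUinv, Matrix.det_fin_three]⟩, rfl⟩
  have h : w = u⁻¹ := eq_inv_of_mul_eq_one_left (Subtype.ext (by
    rw [Matrix.SpecialLinearGroup.coe_mul, hw, hu, Matrix.SpecialLinearGroup.coe_one]
    ext i j; fin_cases i <;> fin_cases j <;> simp [compU, compUinv, Matrix.mul_apply, Fin.sum_univ_three]))
  rw [← h, hw]

section Spread

variable {H : Subgroup (Matrix.SpecialLinearGroup (Fin 3) F)}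
  {u h : Matrix.SpecialLinearGroup (Fin 3) F}
  (hu : u ∈ H) (hh : h ∈ H) (hue : (u : Matrix (Fin 3) (Fin 3) F) = compU) {α β A B C : F}
  (hhe : (h : Matrix (Fin 3) (Fin 3) F) = !![α, A, B; 0, β, C; 0, 0, α])

include hu hue in
theorem conj_u {a b : F} (hR : R H (a • ε 0 + b • ε 1) (ε 2)) :
    R H (a • ε 1 + b • ε 2) (ε 0) := by
  have h1 := R_conj hu hR
  rw [hue, coe_inv_u hue] at h1
  convert h1 using 1
  · funext i; fin_cases i <;> simp [compU, e, Matrix.mulVec, dotProduct, Fin.sum_univ_three]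
  · funext i; fin_cases i <;> simp [compUinv, e, Matrix.vecMul, dotProduct, Fin.sum_univ_three]

include hu hue in
theorem conj_u_inv {c : F} (hR : R H (c • ε 1) (ε 0)) : R H (c • ε 0) (ε 2) := by
  have h1 := R_conj (inv_mem hu) hR
  rw [inv_inv, hue, coe_inv_u hue] at h1
  convert h1 using 1
  · funext i; fin_cases i <;> simp [compUinv, e, Matrix.mulVec, dotProduct, Fin.sum_univ_three]
  · funext i; fin_cases i <;> simp [compU, e, Matrix.vecMul, dotProduct, Fin.sum_univ_three]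

include hh hhe in
theorem conj_h (hα : α ≠ 0) {a b : F} (hR : R H (a • ε 0 + b • ε 1) (ε 2)) :
    R H (((α * a + A * b) / α) • ε 0 + (β * b / α) • ε 1) (ε 2) := by
  have h1 := R_conj hh hR
  have h3 : ε 2 ᵥ* (h : M3) = α • ε 2 := by
    rw [hhe]
    funext i; fin_cases i <;> simp [e, Matrix.vecMul, dotProduct, Fin.sum_univ_three]
  have h2 : ε 2 ᵥ* ((h⁻¹ : S3) : M3) = α⁻¹ • ε 2 := by
    have h4 : (α • ε 2) ᵥ* ((h⁻¹ : S3) : M3) = ε 2 := by
      rw [← h3, vecMul_vecMul, ← Matrix.SpecialLinearGroup.coe_mul, mul_inv_cancel,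
        Matrix.SpecialLinearGroup.coe_one, vecMul_one]
    rw [smul_vecMul] at h4
    conv_rhs => rw [← h4, smul_smul, inv_mul_cancel₀ hα, one_smul]
  rw [h2, hhe] at h1
  convert R_smul_comm' α⁻¹ h1 using 1
  funext i; fin_cases i <;>
    simp [e, Matrix.mulVec, dotProduct, Fin.sum_univ_three] <;> field_simp <;> ring

include hu hue in
theorem T1_of_T0 {c d : F} (hc : R H (c • ε 0) (ε 2)) (hd : R H (d • ε 0) (ε 2)) :
    R H ((c * d) • ε 1) (ε 2) := by
  have h1 := conj_u hu hue (a := c) (b := 0) (by rwa [zero_smul, add_zero])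
  rw [zero_smul, add_zero] at h1
  have h2 := R_neg (by simp [e]) hd
  rw [← neg_smul] at h2
  have h3 := R_comm (H := H) (P := (-d) • ε 0) (φ := ε 2) (Q := c • ε 1) (ψ := ε 0)
    (by simp [e]) (by simp [e]) (by simp [e]) h2 h1
  convert h3 using 1
  simp [e, smul_smul, mul_comm]

include hu hue in
theorem T0_of_T1 {a b c : F} (hP : R H (a • ε 0 + b • ε 1) (ε 2))
    (hc : R H (c • ε 1) (ε 2)) : R H ((b * c) • ε 0) (ε 2) := by
  have h1 := conj_u hu hue hP
  have h2 := R_neg (by simp [e]) hc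
  rw [← neg_smul] at h2
  refine conj_u_inv hu hue ?_
  have h3 := R_comm (H := H) (P := a • ε 1 + b • ε 2) (φ := ε 0) (Q := (-c) • ε 1) (ψ := ε 2)
    (by simp [e]) (by simp [e]) (by simp [e]) h1 h2
  convert h3 using 1
  simp [e, smul_smul, mul_comm]

include hu hue in
theorem eq_top_of_T0 (h0 : ∀ c : F, R H (c • ε 0) (ε 2)) : H = ⊤ := by
  have h1 : ∀ c : F, R H (c • ε 1) (ε 2) := fun c => by
    have := T1_of_T0 hu hue (h0 c) (h0 1)
    rwa [mul_one] at this
  have f2 : Full H (ε 2) := by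
    intro P hP
    have hP2 : P 2 = 0 := by simpa [e] using hP
    have e' : P = P 0 • ε 0 + P 1 • ε 1 := by
      funext i; fin_cases i <;> simp [e, hP2]
    rw [e']
    exact R_add (by simp [e]) (h0 _) (h1 _)
  have f0 : Full H (ε 0) := by
    have := full_conj (inv_mem hu) f2
    rw [coe_inv_u hue] at this
    convert this using 1
    funext i; fin_cases i <;> simp [compUinv, e, Matrix.vecMul, dotProduct, Fin.sum_univ_three]
  have f01 : Full H ((3 : F) • ε 0 + ε 1) := by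
    have := full_conj (inv_mem hu) f0
    rw [coe_inv_u hue] at this
    convert this using 1
    funext i; fin_cases i <;> simp [compUinv, e, Matrix.vecMul, dotProduct, Fin.sum_univ_three]
  have hperp : ∀ c : F, R H (c • ε 2) (ε 1) := by
    intro c
    have hA := f01 (c • ε 2) (by simp [e])
    have hB := f0 ((-3 * c) • ε 2) (by simp [e])
    have hB' := R_smul_comm (-3 : F) (by rwa [← smul_smul] at hB)
    have := R_add' (by simp [e]) hA hB'
    convert this using 1
    funext i; fin_cases i <;> simp [e]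
  refine eq_top_of_full fun j => ?_
  fin_cases j
  · exact f0
  · intro P hP
    change R H P (ε 1)
    have hP1 : P 1 = 0 := by simpa [e] using hP
    have hQ := f2 (ε 0) (by simp [e])
    have h3 := R_comm (H := H) (P := (-P 0) • ε 2) (φ := ε 1) (Q := ε 0) (ψ := ε 2)
      (by simp [e]) (by simp [e]) (by simp [e]) (hperp _) hQ
    have h4 := R_add (by simp [e]) h3 (hperp (P 2))
    convert h4 using 1
    funext i; fin_cases i <;> simp [e, hP1]
  · exact f2

end Spread

theorem conj_mat {α A B C : F} (hα : α ≠ 0) (hB : B = 3 - 3 * α + 3 * A)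
    (hC : C = 3 / α ^ 2 - A - 3 / α) {u h : S3} (hu : (u : M3) = compU)
    (hh : (h : M3) = !![α, A, B; 0, (α ^ 2)⁻¹, C; 0, 0, α]) :
    ∃ g : S3, u⁻¹ * h = g * u * g⁻¹ := by
  obtain ⟨V, hV⟩ : ∃ V : M3, V = ((u⁻¹ * h : S3) : M3) := ⟨_, rfl⟩
  have hVe : V = !![3 * α, 3 * A + (α ^ 2)⁻¹, 3 * B + C; -3 * α, -3 * A, α - 3 * B; α, A, B] := by
    rw [hV, Matrix.SpecialLinearGroup.coe_mul, coe_inv_u hu, hh]
    ext i j
    fin_cases i <;> fin_cases j <;> simp [compUinv, Matrix.mul_apply, Fin.sum_univ_three] <;> ring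
  have hdet : V.det = 1 := hV ▸ (u⁻¹ * h).2
  have hcp : V.charpoly = PSL3Cover.cubic 3 3 := by
    refine PSL3Cover.charpoly_eq_cubic ?_ ?_ hdet
    · simp [hVe, Matrix.trace_fin_three]; rw [hB]; ring
    · simp [hVe, PSL3Cover.sigma2]; rw [hC, hB]; field_simp; ring
  have hCH : V * (V * V) - 3 • (V * V) + 3 • V - 1 = 0 := by
    have h0 := Matrix.aeval_self_charpoly V
    rw [hcp, PSL3Cover.cubic, map_ofNat] at h0
    simp only [map_sub, map_add, map_mul, map_pow, map_ofNat, Polynomial.aeval_X, map_one,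
      pow_succ, pow_zero, one_mul] at h0
    rw [← h0]
    noncomm_ring
  obtain ⟨G, hG⟩ : ∃ G : M3, G = (-α⁻¹) • (Matrix.of ![ε 0, V *ᵥ ε 0, V *ᵥ (V *ᵥ ε 0)])ᵀ :=
    ⟨_, rfl⟩
  have hGdet : G.det = 1 := by
    rw [hG, Matrix.det_smul, Matrix.det_transpose, Fintype.card_fin, hVe]
    simp [Matrix.det_fin_three, e, Matrix.mulVec, dotProduct, Fin.sum_univ_three]
    field_simp
    ring
  obtain ⟨g, hg⟩ : ∃ g : S3, (g : M3) = G := ⟨⟨_, hGdet⟩, rfl⟩
  refine ⟨g, eq_mul_inv_of_mul_eq (Subtype.ext ?_)⟩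
  rw [Matrix.SpecialLinearGroup.coe_mul, ← hV, Matrix.SpecialLinearGroup.coe_mul, hu, hg]
  have h3 : V *ᵥ (V *ᵥ (V *ᵥ ε 0)) = ε 0 - (3 : F) • (V *ᵥ ε 0) + (3 : F) • (V *ᵥ (V *ᵥ ε 0)) := by
    have h0 := congrArg (· *ᵥ ε 0) hCH
    simp only [Matrix.sub_mulVec, Matrix.add_mulVec, Matrix.smul_mulVec, Matrix.one_mulVec,
      Matrix.zero_mulVec, ← Matrix.mulVec_mulVec] at h0
    funext i
    have := congrFun h0 i
    simp at this ⊢
    linear_combination this
  ext i j
  have hr : (V * G) i j = (V *ᵥ (G *ᵥ ε j)) i := by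
    rw [Matrix.mulVec_mulVec]; simp [e, Matrix.mulVec_single]
  have hl : (G * (compU : M3)) i j = (G *ᵥ ((compU : M3) *ᵥ ε j)) i := by
    rw [Matrix.mulVec_mulVec]; simp [e, Matrix.mulVec_single]
  have c0 : G *ᵥ ε 0 = (-α⁻¹) • ε 0 := by
    rw [hG]; funext k; simp [e, Matrix.mulVec_single]
  have c1 : G *ᵥ ε 1 = (-α⁻¹) • (V *ᵥ ε 0) := by
    rw [hG]; funext k; simp [e, Matrix.mulVec_single]
  have c2 : G *ᵥ ε 2 = (-α⁻¹) • (V *ᵥ (V *ᵥ ε 0)) := by
    rw [hG]; funext k; simp [e, Matrix.mulVec_single]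
  rw [hr, hl]
  have u0 : (compU : M3) *ᵥ ε 0 = ε 1 := by
    funext k; fin_cases k <;> simp [compU, e]
  have u1 : (compU : M3) *ᵥ ε 1 = ε 2 := by
    funext k; fin_cases k <;> simp [compU, e]
  have u2 : (compU : M3) *ᵥ ε 2 = ε 0 - (3 : F) • ε 1 + (3 : F) • ε 2 := by
    funext k; fin_cases k <;> simp [compU, e]
  fin_cases j
  · simp only [Fin.zero_eta, u0, c0, c1, Matrix.mulVec_smul]
  · simp only [Fin.mk_one, u1, c1, c2, Matrix.mulVec_smul]
  · simp only [Fin.reduceFinMk, u2, Matrix.mulVec_add, Matrix.mulVec_sub, Matrix.mulVec_smul, c0, c1,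
      c2, h3]
    simp
    ring

theorem span_of_closed [Finite F] {ζ : F} (hζ : ∀ x : F, x ≠ 0 → ∃ k : ℕ, x = ζ ^ k)
    (hζ0 : ζ ≠ 0) (h2 : Nat.card F ≠ 2) (h4 : Nat.card F ≠ 4) :
    ζ ^ 3 ≠ 1 ∧ Subring.closure ({(ζ ^ 3)⁻¹} : Set F) = ⊤ := by
  classical
  have := Fintype.ofFinite F
  obtain ⟨K, hK⟩ : ∃ K, K = Subring.closure ({(ζ ^ 3)⁻¹} : Set F) := ⟨_, rfl⟩
  rw [← hK]
  have hl : (ζ ^ 3)⁻¹ ∈ K := hK ▸ Subring.subset_closure rfl
  have hinv : ∀ b ∈ K, b⁻¹ ∈ K := by
    intro b hb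
    rcases eq_or_ne b 0 with rfl | hb0
    · simp
    have h1 := FiniteField.pow_card_sub_one_eq_one b hb0
    have h1' : 1 < Fintype.card F := Fintype.one_lt_card
    have : b⁻¹ = b ^ (Fintype.card F - 2) := by
      refine inv_eq_of_mul_eq_one_right ?_
      rw [← pow_succ', show Fintype.card F - 2 + 1 = Fintype.card F - 1 by omega, h1]
    rw [this]; exact pow_mem hb _
  have h3 : ζ ^ 3 ∈ K := by have := hinv _ hl; rwa [inv_inv] at this
  constructor
  · intro h
    have hsub : (Finset.univ : Finset F) ⊆ {0, 1, ζ, ζ ^ 2} := fun x _ => by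
      rcases eq_or_ne x 0 with rfl | hx
      · simp
      obtain ⟨k, rfl⟩ := hζ x hx
      rw [← Nat.div_add_mod k 3, pow_add, pow_mul, h, one_pow, one_mul]
      have := Nat.mod_lt k (show 3 > 0 by norm_num)
      interval_cases k % 3 <;> simp
    have hc : Fintype.card F ≤ 4 := (Finset.card_le_card hsub).trans Finset.card_le_four
    have h1' : 1 < Fintype.card F := Fintype.one_lt_card
    rw [Nat.card_eq_fintype_card] at h2 h4
    have h33 : Fintype.card F = 3 := by omega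
    have hz2 : ζ ^ 2 = 1 := by
      have := FiniteField.pow_card_sub_one_eq_one ζ hζ0
      rwa [h33] at this
    have hz1 : ζ = 1 := by rwa [pow_succ, hz2, one_mul] at h
    have hsub2 : (Finset.univ : Finset F) ⊆ {0, 1} := fun x _ => by
      rcases eq_or_ne x 0 with rfl | hx
      · simp
      obtain ⟨k, rfl⟩ := hζ x hx
      simp [hz1]
    have := (Finset.card_le_card hsub2).trans Finset.card_le_two
    rw [Finset.card_univ, h33] at this
    omega
  · by_contra hne
    obtain ⟨x, hx⟩ : ∃ x, x ∉ K := by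
      by_contra hc
      push Not at hc
      exact hne (eq_top_iff.mpr fun y _ => hc y)
    have hinj : Function.Injective fun w : K × K => (w.1 : F) + w.2 * x := by
      rintro ⟨a, b⟩ ⟨c, d⟩ hab
      have hab' : (a : F) + b * x = c + d * x := hab
      by_cases hbd : (b : F) - d = 0
      · have hbd' : (b : F) = d := sub_eq_zero.mp hbd
        rw [hbd'] at hab'
        exact Prod.ext (Subtype.ext (add_right_cancel hab')) (Subtype.ext hbd')
      · refine absurd ?_ hx
        have : x = ((c : F) - a) * ((b : F) - d)⁻¹ := by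
          field_simp
          linear_combination hab'
        rw [this]
        exact mul_mem (sub_mem c.2 a.2) (hinv _ (sub_mem b.2 d.2))
    have hkk := Fintype.card_le_of_injective _ hinj
    rw [Fintype.card_prod] at hkk
    have hcov : (Finset.univ : Finset F) ⊆
        insert 0 ((((Finset.univ : Finset K).erase 0) ×ˢ (Finset.range 3)).image
          fun w => (w.1 : F) * ζ ^ w.2) := fun y _ => by
      rcases eq_or_ne y 0 with rfl | hy
      · simp
      obtain ⟨k, rfl⟩ := hζ y hy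
      refine Finset.mem_insert_of_mem (Finset.mem_image.mpr
        ⟨(⟨(ζ ^ 3) ^ (k / 3), pow_mem h3 _⟩, k % 3), ?_, ?_⟩)
      · simp [Finset.mem_product, Nat.mod_lt, hζ0, Subtype.ext_iff]
      · show (ζ ^ 3) ^ (k / 3) * ζ ^ (k % 3) = ζ ^ k
        rw [← pow_mul, ← pow_add, Nat.div_add_mod]
    have hle := (Finset.card_le_card hcov).trans
      ((Finset.card_insert_le _ _).trans (Nat.add_le_add_right Finset.card_image_le 1))
    rw [Finset.card_product, Finset.card_erase_of_mem (Finset.mem_univ _), Finset.card_univ,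
      Finset.card_univ, Finset.card_range] at hle
    have hk1 : 2 ≤ Fintype.card K := Fintype.one_lt_card
    rw [Nat.card_eq_fintype_card] at h2 h4
    have h1' : 1 < Fintype.card F := Fintype.one_lt_card
    have hk2 : Fintype.card K < 3 := by
      by_contra hc
      push Not at hc
      have : 3 * Fintype.card K ≤ Fintype.card K * Fintype.card K := Nat.mul_le_mul_right _ hc
      omega
    have hk : Fintype.card K = 2 := by omega
    rw [hk] at hkk hle
    have hq : Fintype.card F = 4 := by omega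
    exact h4 hq

theorem pow_split [Fintype F] {α β A B C δ : F} (hα : α ≠ 0) (hβ : β ≠ 0) (hne : α ≠ β)
    (hδ : δ = (A * C + B * (α - β)) / (α * (α - β))) :
    (!![α, A, B; 0, β, C; 0, 0, α] : M3) ^ (Fintype.card F - 1) =
      1 + vecMulVec ((-δ) • ε 0) (ε 2) := by
  obtain ⟨S, hS⟩ : ∃ S : M3, S = !![α, A, B - α * δ; 0, β, C; 0, 0, α] := ⟨_, rfl⟩
  obtain ⟨X, hX⟩ : ∃ X : M3, X = !![1, 0, δ; 0, 1, 0; 0, 0, 1] := ⟨_, rfl⟩
  have h1 : (!![α, A, B; 0, β, C; 0, 0, α] : M3) = S * X := by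
    rw [hS, hX]
    ext i j; fin_cases i <;> fin_cases j <;> simp [Matrix.mul_apply, Fin.sum_univ_three]
  have hcomm : Commute S X := by
    rw [hS, hX, Commute, SemiconjBy]
    ext i j; fin_cases i <;> fin_cases j <;> simp [Matrix.mul_apply, Fin.sum_univ_three] <;> ring
  have h0 : (S - α • 1) * (S - β • 1) = 0 := by
    have hne' : α - β ≠ 0 := sub_ne_zero.mpr hne
    rw [hS]
    ext i j; fin_cases i <;> fin_cases j <;> simp [Matrix.mul_apply, Fin.sum_univ_three]
    all_goals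
      first
      | ring1
      | (rw [hδ]; field_simp; ring1)
  have hS1 : S ^ (Fintype.card F - 1) = 1 := by
    have hd : (Polynomial.X - Polynomial.C α) * (Polynomial.X - Polynomial.C β) ∣
        (Polynomial.X ^ (Fintype.card F - 1) - 1 : Polynomial F) := by
      refine IsCoprime.mul_dvd (Polynomial.isCoprime_X_sub_C_of_isUnit_sub
        (sub_ne_zero.mpr hne).isUnit) ?_ ?_
      · rw [Polynomial.dvd_iff_isRoot]; simp [FiniteField.pow_card_sub_one_eq_one α hα]
      · rw [Polynomial.dvd_iff_isRoot]; simp [FiniteField.pow_card_sub_one_eq_one β hβ]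
    obtain ⟨c, hc⟩ := hd
    have := congrArg (Polynomial.aeval S) hc
    simp only [map_mul, map_sub, map_pow, map_one, Polynomial.aeval_X, Polynomial.aeval_C,
      Algebra.algebraMap_eq_smul_one, h0, zero_mul] at this
    exact sub_eq_zero.mp this
  have hXn : ∀ k : ℕ, X ^ k = !![1, 0, (k : F) * δ; 0, 1, 0; 0, 0, 1] := by
    intro k
    induction k with
    | zero => ext i j; fin_cases i <;> fin_cases j <;> simp
    | succ k ih =>
      rw [pow_succ, ih, hX]
      ext i j; fin_cases i <;> fin_cases j <;> simp [Matrix.mul_apply, Fin.sum_univ_three] <;> ring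
  rw [h1, hcomm.mul_pow, hS1, one_mul, hXn, Nat.cast_sub Fintype.card_pos,
    FiniteField.cast_card_eq_zero, zero_sub, Nat.cast_one, neg_one_mul]
  ext i j; fin_cases i <;> fin_cases j <;> simp [e, vecMulVec_apply]

theorem exists_two [Fintype F] : ∃ u g : S3,
    IsNilpotent ((u : M3) - 1) ∧ ((u : M3) - 1) ^ 2 ≠ 0 ∧
    Subgroup.closure ({u, g * u * g⁻¹} : Set S3) = ⊤ := by
  classical
  obtain ⟨u, hu⟩ : ∃ u : S3, (u : M3) = compU :=
    ⟨⟨_, by simp [compU, Matrix.det_fin_three]⟩, rfl⟩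
  have hnil : ((u : M3) - 1) ^ 3 = 0 := by
    rw [hu, compU, pow_succ, pow_two]
    ext i j; fin_cases i <;> fin_cases j <;> simp [Matrix.mul_apply, Fin.sum_univ_three] <;> ring
  have hne2 : ((u : M3) - 1) ^ 2 ≠ 0 := fun h => by
    have := congrFun (congrFun h 2) 0
    rw [hu, compU, pow_two] at this
    simp [Matrix.mul_apply, Fin.sum_univ_three] at this
  obtain ⟨z, hz⟩ := IsCyclic.exists_generator (α := Fˣ)
  obtain ⟨ζ, hζdef⟩ : ∃ ζ : F, ζ = (z : F) := ⟨_, rfl⟩
  have hζ0 : ζ ≠ 0 := hζdef ▸ z.ne_zero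
  have hζ : ∀ x : F, x ≠ 0 → ∃ k : ℕ, x = ζ ^ k := fun x hx => by
    obtain ⟨k, hk⟩ : ∃ k : ℕ, z ^ k = Units.mk0 x hx := by
      have := hz (Units.mk0 x hx)
      rw [← mem_powers_iff_mem_zpowers] at this
      exact this
    exact ⟨k, by rw [hζdef, ← Units.val_pow_eq_pow_val, hk, Units.val_mk0]⟩
  suffices key : ∃ α A : F, α ≠ 0 ∧ ∀ (H : Subgroup S3) (h : S3), u ∈ H → h ∈ H →
      (h : M3) = !![α, A, 3 - 3 * α + 3 * A; 0, (α ^ 2)⁻¹, 3 / α ^ 2 - A - 3 / α; 0, 0, α] →
      ∀ c : F, R H (c • ε 0) (ε 2) by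
    obtain ⟨α, A, hα, key⟩ := key
    obtain ⟨h, hh⟩ : ∃ h : S3, (h : M3) =
        !![α, A, 3 - 3 * α + 3 * A; 0, (α ^ 2)⁻¹, 3 / α ^ 2 - A - 3 / α; 0, 0, α] :=
      ⟨⟨_, by simp [Matrix.det_fin_three]; field_simp⟩, rfl⟩
    obtain ⟨g, hg⟩ := conj_mat hα rfl rfl hu hh
    refine ⟨u, g, ⟨3, hnil⟩, hne2, ?_⟩
    have hu' : u ∈ Subgroup.closure ({u, g * u * g⁻¹} : Set S3) := Subgroup.subset_closure (by simp)
    have hh' : h ∈ Subgroup.closure ({u, g * u * g⁻¹} : Set S3) := by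
      have e1 : h = u * (g * u * g⁻¹) := by rw [← hg, mul_inv_cancel_left]
      rw [e1]
      exact mul_mem hu' (Subgroup.subset_closure (by simp))
    exact eq_top_of_T0 hu' hu (key _ h hu' hh' hh)
  by_cases hsmall : Nat.card F = 2 ∨ Nat.card F = 4
  · rw [Nat.card_eq_fintype_card] at hsmall
    obtain ⟨p, hp⟩ := CharP.exists F
    have hpp : Fact p.Prime := ⟨CharP.char_is_prime F p⟩
    obtain ⟨k, -, hk⟩ := FiniteField.card F p
    have h2 : (2 : F) = 0 := by
      have : p ∣ 2 ^ 2 := by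
        refine Dvd.dvd.trans (dvd_pow_self p k.ne_zero) ?_
        rcases hsmall with h | h <;> rw [← hk, h] <;> norm_num
      rw [(Nat.prime_dvd_prime_iff_eq hpp.out Nat.prime_two).mp (hpp.out.dvd_of_dvd_pow this)] at hp
      exact_mod_cast CharP.cast_eq_zero F 2
    have hz3 : ζ ^ 3 = 1 := by
      have := FiniteField.pow_card_sub_one_eq_one ζ hζ0
      rcases hsmall with h | h <;> rw [h] at this
      · rw [pow_one] at this; rw [this, one_pow]
      · exact this
    refine ⟨ζ ^ 2, ζ, pow_ne_zero _ hζ0, fun H h hu' hh' hh c => ?_⟩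
    have hhe : (h : M3) = !![ζ ^ 2, ζ, 1 + ζ ^ 2 + ζ; 0, ζ ^ 2, ζ ^ 2; 0, 0, ζ ^ 2] := by
      have e1 : (ζ ^ 2)⁻¹ = ζ := inv_eq_of_mul_eq_one_right (by rw [← pow_succ]; exact hz3)
      have e2 : ((ζ ^ 2) ^ 2)⁻¹ = ζ ^ 2 := inv_eq_of_mul_eq_one_right (by
        linear_combination (ζ ^ 3 + 1) * hz3)
      rw [hh]
      ext i j; fin_cases i <;> fin_cases j <;> simp [div_eq_mul_inv, e1, e2]
      · linear_combination (1 - 2 * ζ ^ 2 + ζ) * h2
      · linear_combination (ζ ^ 2 - 2 * ζ) * h2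
    have h6 : R H (ζ ^ 2 • ε 0) (ε 2) := by
      refine ⟨(h ^ 2) ^ 3, pow_mem (pow_mem hh' 2) 3, ?_⟩
      have e2 : (h : M3) ^ 2 = !![ζ, 0, 1; 0, ζ, 0; 0, 0, ζ] := by
        rw [hhe, pow_two]
        ext i j; fin_cases i <;> fin_cases j <;> simp [Matrix.mul_apply, Fin.sum_univ_three]
        · linear_combination ζ * hz3
        · linear_combination ζ ^ 3 * h2
        · linear_combination hz3 + (ζ ^ 2 * (1 + ζ ^ 2 + ζ)) * h2
        · linear_combination ζ * hz3
        · linear_combination ζ ^ 4 * h2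
        · linear_combination ζ * hz3
      rw [Matrix.SpecialLinearGroup.coe_pow, Matrix.SpecialLinearGroup.coe_pow, e2, pow_succ, pow_two]
      ext i j; fin_cases i <;> fin_cases j <;>
        simp [Matrix.mul_apply, Fin.sum_univ_three, e, vecMulVec_apply]
      · linear_combination hz3
      · linear_combination ζ ^ 2 * h2
      · linear_combination hz3
      · linear_combination hz3
    have h4 := T1_of_T0 hu' hu h6 h6
    have h5 := conj_h hh' hhe (pow_ne_zero 2 hζ0) (a := 0) (b := ζ ^ 2 * ζ ^ 2)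
      (by rwa [zero_smul, zero_add])
    have e5 : (ζ ^ 2 * 0 + ζ * (ζ ^ 2 * ζ ^ 2)) / ζ ^ 2 = 1 := by
      field_simp
      linear_combination hz3
    rw [e5, mul_div_cancel_left₀ _ (pow_ne_zero 2 hζ0)] at h5
    have h7 := R_sub (by simp [e]) h5 h4
    rw [add_sub_cancel_right] at h7
    have hrep : c = 0 ∨ c = 1 ∨ c = ζ ^ 2 ∨ c = 1 + ζ ^ 2 := by
      rcases eq_or_ne c 0 with rfl | hc
      · exact Or.inl rfl
      obtain ⟨k, rfl⟩ := hζ c hc
      rw [← Nat.div_add_mod k 3, pow_add, pow_mul, hz3, one_pow, one_mul]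
      have := Nat.mod_lt k (show 3 > 0 by norm_num)
      interval_cases k % 3
      · simp
      · rcases eq_or_ne ζ 1 with h1 | h1
        · simp [h1]
        · refine Or.inr (Or.inr (Or.inr ?_))
          have : ζ ^ 2 + ζ + 1 = 0 := mul_left_cancel₀ (sub_ne_zero.mpr h1) (by
            linear_combination hz3)
          rw [pow_one]
          linear_combination (-1 - ζ ^ 2) * h2 + this
      · simp
    rcases hrep with rfl | rfl | rfl | rfl
    · rw [zero_smul]; exact R_zero _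
    · exact h7
    · exact h6
    · rw [add_smul]; exact R_add (by simp [e]) h7 h6
  · push Not at hsmall
    obtain ⟨hz3, hgen⟩ := span_of_closed hζ hζ0 hsmall.1 hsmall.2
    obtain ⟨A, hA⟩ : ∃ A : F, A = if (3 : F) = 0 then 1 else 0 := ⟨_, rfl⟩
    refine ⟨ζ, A, hζ0, fun H h hu' hh' hh => ?_⟩
    obtain ⟨β, hβ⟩ : ∃ β : F, β = (ζ ^ 2)⁻¹ := ⟨_, rfl⟩
    obtain ⟨B, hB⟩ : ∃ B : F, B = 3 - 3 * ζ + 3 * A := ⟨_, rfl⟩
    obtain ⟨C, hC⟩ : ∃ C : F, C = 3 / ζ ^ 2 - A - 3 / ζ := ⟨_, rfl⟩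
    rw [← hβ, ← hB, ← hC] at hh
    have hne : ζ ≠ β := fun he => hz3 (by
      have h1 : β * ζ ^ 2 = 1 := by rw [hβ, inv_mul_cancel₀ (pow_ne_zero 2 hζ0)]
      rw [← he] at h1
      linear_combination h1)
    obtain ⟨δ, hδ⟩ : ∃ δ : F, δ = (A * C + B * (ζ - β)) / (ζ * (ζ - β)) := ⟨_, rfl⟩
    have hδ0 : δ ≠ 0 := by
      rw [hδ]
      refine div_ne_zero ?_ (mul_ne_zero hζ0 (sub_ne_zero.mpr hne))
      by_cases h3 : (3 : F) = 0
      · simp [hB, hC, hA, h3]
      · rw [hA, if_neg h3, zero_mul, zero_add, hB, hA, if_neg h3, mul_zero, add_zero]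
        refine mul_ne_zero ?_ (sub_ne_zero.mpr hne)
        rw [show (3 : F) - 3 * ζ = 3 * (1 - ζ) by ring]
        exact mul_ne_zero h3 (sub_ne_zero.mpr fun h1 => hz3 (by rw [← h1, one_pow]))
    have hbase : R H (δ • ε 0) (ε 2) := by
      have hx : R H ((-δ) • ε 0) (ε 2) := ⟨h ^ (Fintype.card F - 1), pow_mem hh' _, by
        rw [Matrix.SpecialLinearGroup.coe_pow, hh,
          pow_split hζ0 (hβ ▸ inv_ne_zero (pow_ne_zero 2 hζ0)) hne hδ]⟩
      have := R_neg (by simp [e]) hx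
      rwa [neg_smul, neg_neg] at this
    obtain ⟨S, hS⟩ : ∃ S : Set F, S = {b : F | ∃ a : F, R H (a • ε 0 + b • ε 1) (ε 2)} :=
      ⟨{b : F | ∃ a : F, R H (a • ε 0 + b • ε 1) (ε 2)}, rfl⟩
    have hSδ : δ * δ ∈ S := by
      rw [hS]; exact ⟨0, by rw [zero_smul, zero_add]; exact T1_of_T0 hu' hu hbase hbase⟩
    have hS0 : (0 : F) ∈ S := by
      rw [hS]; exact ⟨0, by rw [zero_smul, zero_smul, zero_add]; exact R_zero (ε 2)⟩
    have hSadd : ∀ x y, x ∈ S → y ∈ S → x + y ∈ S := by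
      rw [hS]
      rintro x y ⟨a, ha⟩ ⟨b, hb⟩
      refine ⟨a + b, ?_⟩
      convert R_add (by simp [e]) ha hb using 1
      module
    have hSneg : ∀ x, x ∈ S → -x ∈ S := by
      rw [hS]
      rintro x ⟨a, ha⟩
      refine ⟨-a, ?_⟩
      convert R_neg (by simp [e]) ha using 1
      module
    have hSl : ∀ x, x ∈ S → (ζ ^ 3)⁻¹ * x ∈ S := by
      rw [hS]
      rintro x ⟨a, ha⟩
      refine ⟨(ζ * a + A * x) / ζ, ?_⟩
      have := conj_h hh' hh hζ0 ha
      rwa [show β * x / ζ = (ζ ^ 3)⁻¹ * x by rw [hβ]; field_simp] at this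
    have hall : ∀ x : F, x ∈ S := by
      intro x
      have hmem : x / (δ * δ) ∈ Subring.closure ({(ζ ^ 3)⁻¹} : Set F) := hgen ▸ Subring.mem_top _
      rw [Subring.mem_closure_iff] at hmem
      have key2 : ∀ w ∈ AddSubgroup.closure ((Submonoid.closure ({(ζ ^ 3)⁻¹} : Set F) : Set F)),
          w * (δ * δ) ∈ S := by
        intro w hw
        induction hw using AddSubgroup.closure_induction with
        | mem w hw =>
          obtain ⟨k, rfl⟩ := Submonoid.mem_closure_singleton.mp hw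
          induction k with
          | zero => rwa [pow_zero, one_mul]
          | succ k ih => rw [pow_succ', mul_assoc]; exact hSl _ (ih (Submonoid.mem_closure_singleton.mpr ⟨k, rfl⟩))
        | zero => rwa [zero_mul]
        | add a b _ _ iha ihb => rw [add_mul]; exact hSadd _ _ iha ihb
        | neg a _ iha => rw [neg_mul]; exact hSneg _ iha
      have := key2 _ hmem
      rwa [div_mul_cancel₀ _ (mul_ne_zero hδ0 hδ0)] at this
    intro c
    have hd := T1_of_T0 hu' hu hbase hbase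
    obtain ⟨a, ha⟩ : ∃ a, R H (a • ε 0 + (c / (δ * δ)) • ε 1) (ε 2) := by
      have := hall (c / (δ * δ)); rwa [hS] at this
    have := T0_of_T1 hu' hu ha hd
    rwa [div_mul_cancel₀ _ (mul_ne_zero hδ0 hδ0)] at this

end CfsgLib.KnownB.SL3Reg
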