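import Mathlib
import Cfsg.Agent.Lib.Fusion.PSLUnitri
import Cfsg.Agent.Lib.KnownB.GLDouble
import Cfsg.Agent.Lib.Classical.SLGen

/-!
`SL_n` over a finite field: upper and lower unitriangular subgroups, monomial elements, the rank one
subgroups at adjacent indices, the Bruhat decomposition.
-/

set_option autoImplicit false
set_option linter.unusedSectionVars false
set_option linter.unusedVariables false
set_option linter.unusedSimpArgs false

namespace CfsgLib.KnownB.SLSt

open CfsgLib.Fusion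

universe u

variable {F : Type u} [Field F] [Fintype F] {n : ℕ}

local notation "SL" => Matrix.SpecialLinearGroup (Fin n) F
local notation "tv" => Matrix.SpecialLinearGroup.transvection

/-- A monomial element with pattern `σ`. -/
def IsMon (σ : Equiv.Perm (Fin n)) (g : SL) : Prop := ∀ a b, a ≠ σ b → g.1 a b = 0

theorem isMon_one : IsMon (1 : Equiv.Perm (Fin n)) (1 : SL) := fun a b h =>
  Matrix.one_apply_ne h

theorem IsMon.mul_apply_right {σ : Equiv.Perm (Fin n)} {g : SL} (h : IsMon σ g) (A : SL)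
    (a b : Fin n) : (A * g).1 a b = A.1 a (σ b) * g.1 (σ b) b := by
  rw [Matrix.SpecialLinearGroup.coe_mul, Matrix.mul_apply]
  refine Finset.sum_eq_single (σ b) (fun c _ hc => ?_) (fun h => absurd (Finset.mem_univ _) h)
  rw [h c b hc, mul_zero]

theorem IsMon.mul_apply_left {σ : Equiv.Perm (Fin n)} {g : SL} (h : IsMon σ g) (A : SL)
    (a b : Fin n) : (g * A).1 (σ a) b = g.1 (σ a) a * A.1 a b := by
  rw [Matrix.SpecialLinearGroup.coe_mul, Matrix.mul_apply]
  refine Finset.sum_eq_single a (fun c _ hc => ?_) (fun h => absurd (Finset.mem_univ _) h)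
  rw [h (σ a) c (fun e => hc (σ.injective e).symm), zero_mul]

theorem IsMon.mul {σ τ : Equiv.Perm (Fin n)} {g g' : SL} (h : IsMon σ g) (h' : IsMon τ g') :
    IsMon (σ * τ) (g * g') := fun a b hab => by
  rw [h'.mul_apply_right, h a (τ b) hab, zero_mul]

theorem IsMon.ne_zero {σ : Equiv.Perm (Fin n)} {g : SL} (h : IsMon σ g) (b : Fin n) :
    g.1 (σ b) b ≠ 0 := fun h0 => by
  refine one_ne_zero (α := F) (g.2.symm.trans (Matrix.det_eq_zero_of_column_eq_zero b fun a => ?_))
  by_cases ha : a = σ b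
  · rw [ha, h0]
  · exact h a b ha

theorem IsMon.inv {σ : Equiv.Perm (Fin n)} {g : SL} (h : IsMon σ g) : IsMon σ⁻¹ g⁻¹ := by
  intro a b hab
  have h1 := h.mul_apply_left g⁻¹ a b
  rw [mul_inv_cancel, Matrix.SpecialLinearGroup.coe_one, Matrix.one_apply_ne] at h1
  · exact (mul_eq_zero.1 h1.symm).resolve_left (h.ne_zero a)
  · intro e
    exact hab (by rw [← e]; simp)

/-- Conjugation by a monomial element permutes the entries up to non-zero factors. -/
theorem IsMon.conj_apply {σ : Equiv.Perm (Fin n)} {g : SL} (h : IsMon σ g) (A : SL) (a b : Fin n) :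
    g.1 (σ a) a * (g⁻¹ * A * g).1 a b = A.1 (σ a) (σ b) * g.1 (σ b) b := by
  rw [← h.mul_apply_left, ← h.mul_apply_right]
  group

theorem IsMon.conj_zero {σ : Equiv.Perm (Fin n)} {g : SL} (h : IsMon σ g) (A : SL) (a b : Fin n) :
    (g⁻¹ * A * g).1 a b = 0 ↔ A.1 (σ a) (σ b) = 0 := by
  constructor <;> intro h0
  · have h1 := h.conj_apply A a b
    rw [h0, mul_zero] at h1
    exact (mul_eq_zero.1 h1.symm).resolve_right (h.ne_zero b)
  · have h1 := h.conj_apply A a b
    rw [h0, zero_mul] at h1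
    exact (mul_eq_zero.1 h1).resolve_left (h.ne_zero a)

theorem IsMon.conj_diag {σ : Equiv.Perm (Fin n)} {g : SL} (h : IsMon σ g) (A : SL) (a : Fin n) :
    (g⁻¹ * A * g).1 a a = A.1 (σ a) (σ a) := by
  have h1 := h.conj_apply A a a
  rw [mul_comm] at h1
  exact mul_right_cancel₀ (h.ne_zero a) h1

theorem IsMon.conj_zero' {σ : Equiv.Perm (Fin n)} {g : SL} (h : IsMon σ g) (A : SL) (a b : Fin n) :
    (g * A * g⁻¹).1 a b = 0 ↔ A.1 (σ⁻¹ a) (σ⁻¹ b) = 0 := by
  have := h.inv.conj_zero A a b
  rwa [inv_inv] at this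

theorem IsMon.conj_diag' {σ : Equiv.Perm (Fin n)} {g : SL} (h : IsMon σ g) (A : SL) (a : Fin n) :
    (g * A * g⁻¹).1 a a = A.1 (σ⁻¹ a) (σ⁻¹ a) := by
  have := h.inv.conj_diag A a
  rwa [inv_inv] at this

/-! ### Triangular subgroups -/

/-- Upper triangular elements. -/
def bor : Subgroup SL where
  carrier := {g | ∀ a b : Fin n, b < a → g.1 a b = 0}
  one_mem' := fun a b h => Matrix.one_apply_ne h.ne'
  mul_mem' := fun {A A'} hA hA' a b h => by
    rw [Matrix.SpecialLinearGroup.coe_mul, SLUni.mul_apply_diag hA hA' a b h.le, if_neg h.ne']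
  inv_mem' := fun {A} hA a b h => by
    have key : ∀ m : ℕ, ∀ a b : Fin n, b < a → (A ^ m).1 a b = 0 := by
      intro m
      induction m with
      | zero => intro a b h; exact Matrix.one_apply_ne h.ne'
      | succ m ih =>
        intro a b h
        rw [pow_succ A m, Matrix.SpecialLinearGroup.coe_mul,
          SLUni.mul_apply_diag ih hA a b h.le, if_neg h.ne']
    rw [inv_eq_of_mul_eq_one_left (show A ^ (orderOf A - 1) * A = 1 by
      rw [← pow_succ, Nat.sub_add_cancel (orderOf_pos A), pow_orderOf_eq_one])]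
    exact key _ a b h

theorem mem_bor {g : SL} : g ∈ bor (F := F) (n := n) ↔ ∀ a b : Fin n, b < a → g.1 a b = 0 :=
  Iff.rfl

theorem U_le_bor : SLUni.U F n ≤ bor := fun _ hg => SLUni.IsUni.lower hg

theorem IsMon.mem_bor {g : SL} (h : IsMon 1 g) : g ∈ bor (F := F) (n := n) :=
  fun a b hab => h a b (by simpa using hab.ne')

theorem bor_conj_U {d u : SL} (hd : IsMon 1 d) (hu : u ∈ SLUni.U F n) :
    d * u * d⁻¹ ∈ SLUni.U F n := by
  intro a b hba
  split_ifs with hab
  · subst hab
    rw [hd.conj_diag']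
    exact SLUni.IsUni.diag hu _
  · rw [hd.conj_zero']
    exact SLUni.IsUni.lower hu _ _ (lt_of_le_of_ne hba (Ne.symm hab))

/-- Lower unitriangular elements. -/
def Um : Subgroup SL where
  carrier := {g | ∀ a b : Fin n, a ≤ b → g.1 a b = if a = b then 1 else 0}
  one_mem' := fun a b _ => Matrix.one_apply
  mul_mem' := fun {A A'} hA hA' a b h => by
    rw [Matrix.SpecialLinearGroup.coe_mul, Matrix.mul_apply]
    rw [Finset.sum_eq_single a]
    · rw [hA a a le_rfl, if_pos rfl, one_mul, hA' a b h]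
    · intro c _ hc
      rcases lt_or_gt_of_ne hc with h1 | h1
      · rw [hA' c b (h1.le.trans h), if_neg (h1.trans_le h).ne, mul_zero]
      · rw [hA a c h1.le, if_neg hc.symm, zero_mul]
    · exact fun h => absurd (Finset.mem_univ _) h
  inv_mem' := fun {A} hA => by
    rw [inv_eq_of_mul_eq_one_left (show A ^ (orderOf A - 1) * A = 1 by
      rw [← pow_succ, Nat.sub_add_cancel (orderOf_pos A), pow_orderOf_eq_one])]
    induction orderOf A - 1 with
    | zero => exact fun a b _ => Matrix.one_apply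
    | succ m ih =>
      intro a b h
      rw [pow_succ A m, Matrix.SpecialLinearGroup.coe_mul, Matrix.mul_apply, Finset.sum_eq_single a]
      · rw [ih a a le_rfl, if_pos rfl, one_mul, hA a b h]
      · intro c _ hc
        rcases lt_or_gt_of_ne hc with h1 | h1
        · rw [hA c b (h1.le.trans h), if_neg (h1.trans_le h).ne, mul_zero]
        · rw [ih a c h1.le, if_neg hc.symm, zero_mul]
      · exact fun h => absurd (Finset.mem_univ _) h

theorem mem_Um {g : SL} :
    g ∈ Um (F := F) (n := n) ↔ ∀ a b : Fin n, a ≤ b → g.1 a b = if a = b then 1 else 0 :=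
  Iff.rfl

theorem isMon_rev_conj {m u : SL} (hm : IsMon Fin.revPerm m) :
    u ∈ SLUni.U F n ↔ m * u * m⁻¹ ∈ Um := by
  constructor
  · intro hu a b hab
    split_ifs with h
    · subst h
      rw [hm.conj_diag']
      exact SLUni.IsUni.diag hu _
    · rw [hm.conj_zero']
      exact SLUni.IsUni.lower hu _ _ (Fin.rev_lt_rev.2 (lt_of_le_of_ne hab h))
  · intro hu a b hba
    have e : u = m⁻¹ * (m * u * m⁻¹) * m := by group
    rw [e]
    split_ifs with h
    · subst h
      rw [hm.conj_diag, hu _ _ le_rfl, if_pos rfl]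
    · refine (hm.conj_zero _ a b).2 ?_
      exact (hu (Fin.revPerm a) (Fin.revPerm b) (Fin.rev_le_rev.2 hba)).trans
        (if_neg fun e => h (Fin.revPerm.injective e))

/-! ### Rank one subgroups -/

section Rank

variable {i j : Fin n} (h : (j : ℕ) = i + 1)
include h

theorem lt_of_adj : i < j := Fin.lt_def.2 (by omega)

theorem ne_of_adj : i ≠ j := (lt_of_adj h).ne

/-- The matrix of the block embedding of `SL_2`. -/
def embMat (_h : (j : ℕ) = i + 1) (A : Matrix (Fin 2) (Fin 2) F) : Matrix (Fin n) (Fin n) F :=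
  Matrix.of fun a b =>
    if a = i then (if b = i then A 0 0 else if b = j then A 0 1 else 0)
    else if a = j then (if b = i then A 1 0 else if b = j then A 1 1 else 0)
    else if a = b then 1 else 0

theorem embMat_mul (A A' : Matrix (Fin 2) (Fin 2) F) :
    embMat h (A * A') = embMat h A * embMat h A' := by
  have hij := ne_of_adj h
  ext a b
  rw [Matrix.mul_apply]
  by_cases ha : a = i ∨ a = j
  · rw [Fintype.sum_eq_add i j hij (by
      rintro c ⟨hci, hcj⟩
      rcases ha with rfl | rfl <;> simp [embMat, hci, hcj, hij.symm])]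
    rcases ha with rfl | rfl <;>
      simp [embMat, hij, hij.symm, Matrix.mul_apply, Fin.sum_univ_two] <;> split_ifs <;> ring
  · push Not at ha
    rw [Finset.sum_eq_single a]
    · simp [embMat, ha.1, ha.2]
    · intro c _ hc
      simp [embMat, ha.1, ha.2, hc.symm]
    · simp

theorem embMat_one : embMat h (1 : Matrix (Fin 2) (Fin 2) F) = 1 := by
  have hij := ne_of_adj h
  ext a b
  simp only [embMat, Matrix.of_apply, Matrix.one_apply]
  split_ifs <;> simp_all

theorem embMat_upper (t : F) :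
    embMat h !![1, t; 0, 1] = (tv (ne_of_adj h) t : SL).1 := by
  have hij := ne_of_adj h
  ext a b
  rw [SLUni.tv_apply]
  rcases eq_or_ne a i with rfl | ha
  · rcases eq_or_ne b a with rfl | hb
    · simp [embMat, hij, hij.symm]
    · rcases eq_or_ne b j with rfl | hb'
      · simp [embMat, hij, hij.symm]
      · simp [embMat, hb, hb.symm, hb', hb'.symm]
  · rcases eq_or_ne a j with rfl | ha'
    · rcases eq_or_ne b i with rfl | hb
      · simp [embMat, hij, hij.symm]
      · rcases eq_or_ne b a with rfl | hb'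
        · simp [embMat, hij, hij.symm]
        · simp [embMat, ha, ha.symm, hb, hb', hb'.symm]
    · simp [embMat, ha, ha.symm, ha']

theorem embMat_lower (t : F) :
    embMat h !![1, 0; t, 1] = (tv (ne_of_adj h).symm t : SL).1 := by
  have hij := ne_of_adj h
  ext a b
  rw [SLUni.tv_apply]
  rcases eq_or_ne a i with rfl | ha
  · rcases eq_or_ne b a with rfl | hb
    · simp [embMat, hij, hij.symm]
    · rcases eq_or_ne b j with rfl | hb'
      · simp [embMat, hij, hij.symm]
      · simp [embMat, hb, hb.symm, hb', hb'.symm, hij.symm]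
  · rcases eq_or_ne a j with rfl | ha'
    · rcases eq_or_ne b i with rfl | hb
      · simp [embMat, hij, hij.symm]
      · rcases eq_or_ne b a with rfl | hb'
        · simp [embMat, hij, hij.symm]
        · simp [embMat, ha, hb, hb.symm, hb', hb'.symm]
    · simp [embMat, ha, ha', ha'.symm]

theorem embMat_det (A : Matrix.SpecialLinearGroup (Fin 2) F) : (embMat h A.1).det = 1 := by
  let S : Subgroup (Matrix.SpecialLinearGroup (Fin 2) F) :=
    { carrier := {A | (embMat h A.1).det = 1}
      one_mem' := by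
        show (embMat h (1 : Matrix (Fin 2) (Fin 2) F)).det = 1
        rw [embMat_one, Matrix.det_one]
      mul_mem' := fun {A A'} (hA : _ = _) (hA' : _ = _) => by
        show (embMat h (A.1 * A'.1)).det = 1
        rw [embMat_mul, Matrix.det_mul, hA, hA', one_mul]
      inv_mem' := fun {A} (hA : (embMat h A.1).det = 1) => by
        have h1 := congrArg Matrix.det (embMat_mul h (A⁻¹).1 A.1)
        rw [← Matrix.SpecialLinearGroup.coe_mul, inv_mul_cancel, Matrix.SpecialLinearGroup.coe_one,
          embMat_one, Matrix.det_one, Matrix.det_mul, hA, mul_one] at h1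
        exact h1.symm }
  suffices hS : S = ⊤ by exact (show A ∈ S by rw [hS]; trivial)
  refine CfsgLib.Classical.sl_transvection_induction S fun a b hab c => ?_
  show (embMat h _).det = 1
  fin_cases a <;> fin_cases b
  · exact absurd rfl hab
  · rw [show ((tv hab c : Matrix.SpecialLinearGroup (Fin 2) F)).1 = !![1, c; 0, 1] by
      ext x y; fin_cases x <;> fin_cases y <;> simp [Matrix.SpecialLinearGroup.transvection_coe],
      embMat_upper]
    exact Matrix.SpecialLinearGroup.det_coe _
  · rw [show ((tv hab c : Matrix.SpecialLinearGroup (Fin 2) F)).1 = !![1, 0; c, 1] by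
      ext x y; fin_cases x <;> fin_cases y <;> simp [Matrix.SpecialLinearGroup.transvection_coe],
      embMat_lower]
    exact Matrix.SpecialLinearGroup.det_coe _
  · exact absurd rfl hab

/-- The block embedding of `SL_2` at an adjacent pair. -/
noncomputable def emb : Matrix.SpecialLinearGroup (Fin 2) F →* SL where
  toFun A := ⟨embMat h A.1, embMat_det h A⟩
  map_one' := Subtype.ext (embMat_one h)
  map_mul' A A' := Subtype.ext (embMat_mul h A.1 A'.1)

/-- Upper unipotent element of `SL_2`. -/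
def x2 (t : F) : Matrix.SpecialLinearGroup (Fin 2) F :=
  ⟨!![1, t; 0, 1], by simp [Matrix.det_fin_two_of]⟩

/-- Lower unipotent element of `SL_2`. -/
def y2 (t : F) : Matrix.SpecialLinearGroup (Fin 2) F :=
  ⟨!![1, 0; t, 1], by simp [Matrix.det_fin_two_of]⟩

/-- The monomial element of `SL_2`. -/
def n2 : Matrix.SpecialLinearGroup (Fin 2) F :=
  ⟨!![0, 1; -1, 0], by simp [Matrix.det_fin_two_of]⟩

/-- Diagonal element of `SL_2`. -/
def d2 (c : Fˣ) : Matrix.SpecialLinearGroup (Fin 2) F :=
  ⟨!![(c : F), 0; 0, ((c⁻¹ : Fˣ) : F)], by simp [Matrix.det_fin_two_of]⟩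

omit h in
theorem two_ext {A B : Matrix.SpecialLinearGroup (Fin 2) F} (h00 : A.1 0 0 = B.1 0 0)
    (h01 : A.1 0 1 = B.1 0 1) (h10 : A.1 1 0 = B.1 1 0) (h11 : A.1 1 1 = B.1 1 1) : A = B := by
  refine Subtype.ext ?_
  ext x y
  fin_cases x <;> fin_cases y <;> assumption

omit h in
theorem two_mul_apply (A B : Matrix.SpecialLinearGroup (Fin 2) F) (x y : Fin 2) :
    (A * B).1 x y = A.1 x 0 * B.1 0 y + A.1 x 1 * B.1 1 y := by
  rw [Matrix.SpecialLinearGroup.coe_mul, Matrix.mul_apply, Fin.sum_univ_two]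

/-- The torus element. -/
noncomputable def hE : Fˣ →* SL :=
  (emb h).comp
    { toFun := d2
      map_one' := by apply two_ext <;> simp [d2]
      map_mul' := fun c d => by apply two_ext <;> simp only [two_mul_apply] <;> simp [d2, mul_comm] }

/-- The monomial element. -/
noncomputable def nE : SL := emb h n2

theorem hE_eq (c : Fˣ) : hE h c = (emb h (d2 c) : SL) := rfl

theorem xE_eq (t : F) : (tv (ne_of_adj h) t : SL) = emb h (x2 t) :=
  Subtype.ext (embMat_upper h t).symm

theorem yE_eq (t : F) : (tv (ne_of_adj h).symm t : SL) = emb h (y2 t) :=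
  Subtype.ext (embMat_lower h t).symm

theorem xE_add (s t : F) :
    (tv (ne_of_adj h) (s + t) : SL) = tv (ne_of_adj h) s * tv (ne_of_adj h) t := by
  simp only [xE_eq h, ← map_mul]
  congr 1
  apply two_ext <;> simp only [two_mul_apply] <;> simp [x2, add_comm]

theorem yE_add (s t : F) :
    (tv (ne_of_adj h).symm (s + t) : SL) = tv (ne_of_adj h).symm s * tv (ne_of_adj h).symm t := by
  simp only [yE_eq h, ← map_mul]
  congr 1
  apply two_ext <;> simp only [two_mul_apply] <;> simp [y2, add_comm]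

theorem hE_conj (c : Fˣ) (t : F) :
    hE h c * tv (ne_of_adj h) t * (hE h c)⁻¹ = (tv (ne_of_adj h) ((c : F) * c * t) : SL) := by
  rw [mul_inv_eq_iff_eq_mul]
  simp only [xE_eq h, hE_eq h, ← map_mul]
  congr 1
  apply two_ext <;> simp only [two_mul_apply] <;> simp [x2, d2]
  field_simp

theorem nE_conj (t : F) :
    nE h * tv (ne_of_adj h) t * (nE h)⁻¹ = (tv (ne_of_adj h).symm (-t) : SL) := by
  rw [mul_inv_eq_iff_eq_mul]
  simp only [xE_eq h, yE_eq h, nE, ← map_mul]
  congr 1
  apply two_ext <;> simp only [two_mul_apply] <;> simp [x2, y2, n2]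

theorem nE_sq : nE h * nE h = (hE h (-1) : SL) := by
  simp only [hE_eq h, nE, ← map_mul]
  congr 1
  apply two_ext <;> simp only [two_mul_apply] <;> simp [d2, n2]

theorem big (t : Fˣ) :
    tv (ne_of_adj h) (t : F) * tv (ne_of_adj h).symm (-((t⁻¹ : Fˣ) : F)) * tv (ne_of_adj h) (t : F) =
      (hE h t * nE h : SL) := by
  simp only [xE_eq h, yE_eq h, hE_eq h, nE, ← map_mul]
  congr 1
  apply two_ext <;> simp only [two_mul_apply] <;> simp [x2, y2, d2, n2]

theorem nE_hE (t : Fˣ) : nE h * hE h t = (hE h t⁻¹ * nE h : SL) := by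
  simp only [hE_eq h, nE, ← map_mul]
  congr 1
  apply two_ext <;> simp only [two_mul_apply] <;> simp [d2, n2]

theorem nE_inv : (nE h : SL)⁻¹ = nE h * hE h (-1) := by
  refine inv_eq_of_mul_eq_one_right ?_
  rw [← mul_assoc, nE_sq, ← map_mul]
  simp

theorem nE_isMon : IsMon (Equiv.swap i j) (nE h : SL) := by
  have hij := ne_of_adj h
  intro a b hab
  show embMat h !![(0 : F), 1; -1, 0] a b = 0
  by_cases hb : b = i
  · subst hb
    rw [Equiv.swap_apply_left] at hab
    by_cases ha : a = b <;> simp [embMat, ha, hab]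
  · by_cases hb' : b = j
    · subst hb'
      rw [Equiv.swap_apply_right] at hab
      by_cases ha : a = b <;> simp [embMat, ha, hab, hb]
    · rw [Equiv.swap_apply_of_ne_of_ne hb hb'] at hab
      simp [embMat, hb, hb', hab]

theorem hE_isMon (c : Fˣ) : IsMon 1 (hE h c : SL) := by
  have hij := ne_of_adj h
  intro a b hab
  rw [Equiv.Perm.one_apply] at hab
  show embMat h !![(c : F), 0; 0, ((c⁻¹ : Fˣ) : F)] a b = 0
  by_cases hai : a = i
  · subst hai
    by_cases hb : b = j <;> simp [embMat, Ne.symm hab, hb, hij.symm]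
  · by_cases haj : a = j
    · subst haj
      by_cases hb : b = i <;> simp [embMat, hai, Ne.symm hab, hb]
    · simp [embMat, hai, haj, hab]

/-- The swap preserves the order except on the pair itself. -/
theorem swap_lt {a b : Fin n} (hab : a < b) (hne : ¬ (a = i ∧ b = j)) :
    Equiv.swap i j a < Equiv.swap i j b := by
  rw [Equiv.swap_apply_def, Equiv.swap_apply_def]
  have := Fin.lt_def.1 hab
  split_ifs with h1 h2 h3 h4 h5 h6 h7 h8 <;>
    first
      | exact absurd ⟨by assumption, by assumption⟩ hne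
      | (subst_vars; exact Fin.lt_def.2 (by omega))

/-- `R` is preserved by the monomial element. -/
theorem nE_conj_R {r : SL} (hr : r ∈ SLUni.R (K := F) h) :
    nE h * r * (nE h)⁻¹ ∈ SLUni.R (K := F) h ∧ (nE h)⁻¹ * r * nE h ∈ SLUni.R (K := F) h := by
  have hN : (nE h : SL) ∈ Subgroup.normalizer (SLUni.R (K := F) h : Set SL) := by
    have e : (nE h : SL) = tv (ne_of_adj h) 1 * tv (ne_of_adj h).symm (-1) * tv (ne_of_adj h) 1 := by
      have := big h (1 : Fˣ)
      rw [map_one, one_mul, inv_one, Units.val_one] at this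
      exact this.symm
    rw [e]
    exact mul_mem (mul_mem (SLUni.U_le_normalizer_R h (SLUni.tv_mem_U (lt_of_adj h) 1))
      (SLUni.tv_lower_mem_normalizer_R h _))
      (SLUni.U_le_normalizer_R h (SLUni.tv_mem_U (lt_of_adj h) 1))
  exact ⟨(Subgroup.mem_normalizer_iff.1 hN r).1 hr, (Subgroup.mem_normalizer_iff''.1 hN r).1 hr⟩

theorem R_mul_split {u : SL} (hu : u ∈ SLUni.U F n) :
    u * tv (ne_of_adj h) (-(u.1 i j)) ∈ SLUni.R (K := F) h ∧
      tv (ne_of_adj h) (-(u.1 i j)) * u ∈ SLUni.R (K := F) h := by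
  refine ⟨⟨mul_mem hu (SLUni.tv_mem_U (lt_of_adj h) _), ?_⟩,
    mul_mem (SLUni.tv_mem_U (lt_of_adj h) _) hu, ?_⟩
  · rw [SLUni.mul_tv_apply, if_pos rfl, SLUni.IsUni.diag hu]
    ring
  · rw [SLUni.tv_mul_apply, if_pos rfl, SLUni.IsUni.diag hu]
    ring

/-- Left translation by `U` on a rank one cell. -/
theorem shift {u : SL} (hu : u ∈ SLUni.U F n) :
    ∃ a : F, ∀ t : F, ∃ u' ∈ SLUni.U F n,
      u * (tv (ne_of_adj h) t * nE h) = tv (ne_of_adj h) (a + t) * nE h * u' := by
  refine ⟨u.1 i j, fun t => ?_⟩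
  have h1 : (tv (ne_of_adj h) (u.1 i j + t))⁻¹ * u * tv (ne_of_adj h) t ∈ SLUni.R (K := F) h := by
    have h2 := (R_mul_split h hu).2
    have h3 := (Subgroup.mem_normalizer_iff''.1
      (SLUni.U_le_normalizer_R h (SLUni.tv_mem_U (lt_of_adj h) t)) _).1 h2
    convert h3 using 1
    rw [xE_add h, _root_.mul_inv_rev, Matrix.SpecialLinearGroup.transvection_inv (ne_of_adj h)
      (u.1 i j)]
    simp only [mul_assoc]
  refine ⟨_, SLUni.R_le h (nE_conj_R h h1).2, ?_⟩
  group

/-- A lower unitriangular element splits off its adjacent entry. -/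
theorem Um_split {y : SL} (hy : y ∈ Um) :
    ∃ s : F, ∃ y' ∈ Um, nE h * y' * (nE h)⁻¹ ∈ Um ∧ y = y' * tv (ne_of_adj h).symm s := by
  have hs : ∀ s : F, (tv (ne_of_adj h).symm s : SL) ∈ Um := fun s a b hab => by
    rw [SLUni.tv_apply, if_neg (show ¬(j = a ∧ i = b) from fun ⟨h1, h2⟩ => by
      subst h1 h2; exact absurd hab (not_le.2 (lt_of_adj h))), add_zero]
  refine ⟨y.1 j i, y * tv (ne_of_adj h).symm (-(y.1 j i)), mul_mem hy (hs _), ?_, ?_⟩
  · set y' := y * tv (ne_of_adj h).symm (-(y.1 j i))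
    have hy' : y' ∈ Um := mul_mem hy (hs _)
    have h0 : y'.1 j i = 0 := by
      rw [SLUni.mul_tv_apply, if_pos rfl, hy j j le_rfl, if_pos rfl]
      ring
    intro a b hab
    split_ifs with e
    · subst e
      rw [(nE_isMon h).conj_diag', hy' _ _ le_rfl, if_pos rfl]
    · rw [(nE_isMon h).conj_zero', Equiv.swap_inv]
      by_cases hp : a = i ∧ b = j
      · rwa [hp.1, hp.2, Equiv.swap_apply_left, Equiv.swap_apply_right]
      · have h1 := swap_lt h (lt_of_le_of_ne hab e) hp
        rw [hy' _ _ h1.le, if_neg h1.ne]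
  · rw [mul_assoc, ← yE_add h, neg_add_cancel, Matrix.SpecialLinearGroup.transvection_coeff_zero,
      mul_one]

end Rank

/-! ### Permutations -/

/-- A permutation other than the identity has an adjacent descent. -/
theorem exists_descent {π : Equiv.Perm (Fin n)} (hπ : π ≠ 1) :
    ∃ i j : Fin n, (j : ℕ) = i + 1 ∧ π j < π i := by
  by_contra hcon
  push Not at hcon
  have hm : StrictMono π := by
    rcases n with _ | m
    · exact fun a => a.elim0
    · refine Fin.strictMono_iff_lt_succ.2 fun c => lt_of_le_of_ne (hcon c.castSucc c.succ (by simp)) ?_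
      exact fun e => absurd (π.injective e) (Fin.castSucc_lt_succ).ne
  refine hπ (Equiv.ext fun a => ?_)
  exact congrFun (StrictMono.range_inj hm strictMono_id |>.1 (by
    rw [π.surjective.range_eq, Set.range_id])) a

/-- A permutation other than the reversal has an adjacent ascent. -/
theorem exists_ascent {π : Equiv.Perm (Fin n)} (hπ : π ≠ Fin.revPerm) :
    ∃ i j : Fin n, (j : ℕ) = i + 1 ∧ π i < π j := by
  obtain ⟨i, j, hij, hlt⟩ := exists_descent (π := Fin.revPerm * π) fun h => hπ (by
    refine Equiv.ext fun a => ?_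
    have := congrArg Fin.rev (Equiv.ext_iff.1 h a)
    simpa using this)
  exact ⟨i, j, hij, Fin.rev_lt_rev.1 (by simpa using hlt)⟩

/-- A permutation which moves no point down is the identity. -/
theorem eq_one_of_le {π : Equiv.Perm (Fin n)} (hπ : ∀ a, a ≤ π a) : π = 1 := by
  have h := (Finset.sum_eq_sum_iff_of_le (s := (Finset.univ : Finset (Fin n)))
    (f := fun a => (a : ℕ)) (g := fun a => ((π a : Fin n) : ℕ)) fun a _ => Fin.le_def.1 (hπ a)).1
    (Equiv.sum_comp π fun a : Fin n => (a : ℕ)).symm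
  exact Equiv.ext fun a => (Fin.ext (h a (Finset.mem_univ _))).symm

/-- Every pattern occurs, among the products of the rank one monomial elements. -/
theorem exists_isMon_mem {X : Subgroup SL}
    (hX : ∀ (i j : Fin n) (h : (j : ℕ) = i + 1), nE h ∈ X) (σ : Equiv.Perm (Fin n)) :
    ∃ g ∈ X, IsMon σ g := by
  let S : Submonoid (Equiv.Perm (Fin n)) :=
    { carrier := {σ | ∃ g ∈ X, IsMon σ g}
      one_mem' := ⟨1, one_mem _, isMon_one⟩
      mul_mem' := by
        rintro σ τ ⟨g, hg, hg'⟩ ⟨k, hk, hk'⟩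
        exact ⟨g * k, mul_mem hg hk, hg'.mul hk'⟩ }
  rcases n with _ | m
  · exact ⟨1, one_mem _, fun a => a.elim0⟩
  · suffices h : S = ⊤ by exact (show σ ∈ S by rw [h]; trivial)
    rw [eq_top_iff, ← Equiv.Perm.mclosure_swap_castSucc_succ m, Submonoid.closure_le]
    rintro _ ⟨c, rfl⟩
    exact ⟨_, hX c.castSucc c.succ (by simp), nE_isMon _⟩

theorem exists_isMon (σ : Equiv.Perm (Fin n)) : ∃ g : SL, IsMon σ g := by
  obtain ⟨g, -, hg⟩ := exists_isMon_mem (X := (⊤ : Subgroup SL)) (fun _ _ _ => trivial) σ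
  exact ⟨g, hg⟩

/-- The group is generated by the upper unitriangular group and the rank one monomial elements. -/
theorem gen_upper {X : Subgroup SL} (hU : SLUni.U F n ≤ X)
    (hN : ∀ (i j : Fin n) (h : (j : ℕ) = i + 1), nE h ∈ X) : X = ⊤ := by
  refine CfsgLib.Classical.sl_transvection_induction X fun a b hab c => ?_
  rcases lt_or_gt_of_ne hab with hlt | hlt
  · exact hU (SLUni.tv_mem_U hlt c)
  obtain ⟨g, hg, hm⟩ := exists_isMon_mem hN (Equiv.swap a b)
  have h1 : g⁻¹ * tv hab c * g ∈ SLUni.U F n := by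
    intro x y hyx
    split_ifs with e
    · subst e
      rw [hm.conj_diag, SLUni.tv_apply, if_pos rfl,
        if_neg (fun ⟨h1, h2⟩ => hab (h1.trans h2.symm)), add_zero]
    · rw [hm.conj_zero, SLUni.tv_apply, if_neg (fun h => e ((Equiv.swap a b).injective h)),
        if_neg ?_, add_zero]
      rintro ⟨h1, h2⟩
      have hx : x = b := by rw [← Equiv.swap_apply_self a b x, ← h1, Equiv.swap_apply_left]
      have hy : y = a := by rw [← Equiv.swap_apply_self a b y, ← h2, Equiv.swap_apply_right]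
      subst hx hy
      exact absurd hyx (not_le.2 hlt)
  rw [show tv hab c = g * (g⁻¹ * tv hab c * g) * g⁻¹ by group]
  exact mul_mem (mul_mem hg (hU h1)) (inv_mem hg)

/-- The group is generated by the lower unitriangular group and the rank one monomial elements. -/
theorem gen_lower {X : Subgroup SL} (hU : Um ≤ X)
    (hN : ∀ (i j : Fin n) (h : (j : ℕ) = i + 1), nE h ∈ X) : X = ⊤ := by
  refine gen_upper (fun u hu => ?_) hN
  obtain ⟨g, hg, hm⟩ := exists_isMon_mem hN Fin.revPerm
  rw [show u = g⁻¹ * (g * u * g⁻¹) * g by group]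
  exact mul_mem (mul_mem (inv_mem hg) (hU ((isMon_rev_conj hm).1 hu))) hg

/-- Bruhat decomposition. -/
theorem bruhat (x : SL) :
    ∃ u ∈ SLUni.U F n, ∃ σ : Equiv.Perm (Fin n), ∃ m : SL, IsMon σ m ∧
      ∃ v ∈ SLUni.U F n, x = u * m * v := by
  obtain ⟨b₁, hb₁, σ, b₂, hb₂, he⟩ := Flag.exists_bruhat (Matrix.SpecialLinearGroup.toGL x)
  have hd₁ : ∀ a, (b₁ : Matrix (Fin n) (Fin n) F) a a ≠ 0 := by
    intro a h0
    have h1 := (Matrix.isUnit_iff_isUnit_det _).1 b₁.isUnit
    rw [Matrix.det_of_isUpperTriangular hb₁] at h1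
    exact h1.ne_zero (Finset.prod_eq_zero (Finset.mem_univ a) h0)
  have hd₂ : ∀ a, (b₂ : Matrix (Fin n) (Fin n) F) a a ≠ 0 := by
    intro a h0
    have h1 := (Matrix.isUnit_iff_isUnit_det _).1 b₂.isUnit
    rw [Matrix.det_of_isUpperTriangular hb₂] at h1
    exact h1.ne_zero (Finset.prod_eq_zero (Finset.mem_univ a) h0)
  let u₁ : Matrix (Fin n) (Fin n) F := Matrix.of fun a b =>
    (b₁ : Matrix (Fin n) (Fin n) F) a b / (b₁ : Matrix (Fin n) (Fin n) F) b b
  let v₁ : Matrix (Fin n) (Fin n) F := Matrix.of fun a b =>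
    (b₂ : Matrix (Fin n) (Fin n) F) a b / (b₂ : Matrix (Fin n) (Fin n) F) a a
  have hu₁ : u₁.BlockTriangular id := fun a b hab => by
    simp [u₁, hb₁ hab]
  have hv₁ : v₁.BlockTriangular id := fun a b hab => by
    simp [v₁, hb₂ hab]
  have hud : u₁.det = 1 := by
    rw [Matrix.det_of_isUpperTriangular hu₁]
    exact Finset.prod_eq_one fun a _ => by simp [u₁, hd₁ a]
  have hvd : v₁.det = 1 := by
    rw [Matrix.det_of_isUpperTriangular hv₁]
    exact Finset.prod_eq_one fun a _ => by simp [v₁, hd₂ a]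
  let u : SL := ⟨u₁, hud⟩
  let v : SL := ⟨v₁, hvd⟩
  refine ⟨u, ?_, σ, u⁻¹ * x * v⁻¹, ?_, v, ?_, by group⟩
  · intro a b hba
    split_ifs with h
    · subst h; exact div_self (hd₁ a)
    · exact hu₁ (lt_of_le_of_ne hba (Ne.symm h))
  swap
  · intro a b hba
    split_ifs with h
    · subst h; exact div_self (hd₂ a)
    · exact hv₁ (lt_of_le_of_ne hba (Ne.symm h))
  let M : Matrix (Fin n) (Fin n) F := Matrix.of fun a b => if a = σ b then
    (b₁ : Matrix (Fin n) (Fin n) F) a a * (b₂ : Matrix (Fin n) (Fin n) F) b b else 0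
  have hx : x.1 = u₁ * M * v₁ := by
    have h1 := congrArg Units.val he
    rw [Units.val_mul, Units.val_mul] at h1
    refine (show x.1 = _ from h1).trans ?_
    have e1 : (b₁ : Matrix (Fin n) (Fin n) F) * (Flag.permGL σ : GL (Fin n) F).1 =
        u₁ * Matrix.of fun a b => if a = σ b then (b₁ : Matrix (Fin n) (Fin n) F) a a else 0 := by
      ext a b
      rw [Matrix.mul_apply, Matrix.mul_apply]
      refine Finset.sum_congr rfl fun c _ => ?_
      rw [Flag.permGL_apply]
      by_cases hc : c = σ b <;> simp [u₁, hc, hd₁]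
    have e2 : (Matrix.of fun a b => if a = σ b then (b₁ : Matrix (Fin n) (Fin n) F) a a else 0) *
        (b₂ : Matrix (Fin n) (Fin n) F) = M * v₁ := by
      ext a b
      rw [Matrix.mul_apply, Matrix.mul_apply]
      refine Finset.sum_congr rfl fun c _ => ?_
      by_cases hc : a = σ c <;> simp [M, v₁, hc, hd₂, mul_assoc, mul_div_cancel₀]
    rw [e1, mul_assoc, e2, mul_assoc]
  have hm : (u⁻¹ * x * v⁻¹ : SL).1 = M := by
    have hu' : (u⁻¹ : SL).1 * u₁ = 1 := congrArg Subtype.val (inv_mul_cancel u)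
    have hv' : v₁ * (v⁻¹ : SL).1 = 1 := congrArg Subtype.val (mul_inv_cancel v)
    rw [Matrix.SpecialLinearGroup.coe_mul, Matrix.SpecialLinearGroup.coe_mul, hx,
      ← mul_assoc, ← mul_assoc, hu', one_mul, mul_assoc, hv', mul_one]
  intro a b hab
  rw [hm]
  simp [M, hab]

end CfsgLib.KnownB.SLSt
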