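import Mathlib
import Cfsg.Agent.Lib.KnownB.SLGroup
import Cfsg.Agent.Lib.KnownB.DefectZeroModule

/-!
The Steinberg module of `SL_n(q)` in the defining characteristic: it is simple and its identity map
is a relative trace from the trivial subgroup; every idempotent of defect zero acts on it as the
identity.
-/

set_option autoImplicit false
set_option linter.unusedSectionVars false
set_option linter.unusedVariables false
set_option linter.unusedSimpArgs false

namespace CfsgLib.KnownB.SLSt

open CfsgLib.Fusion MonoidAlgebra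

universe u v

variable {F : Type u} [Field F] [Fintype F] {n : ℕ}

local notation "SL" => Matrix.SpecialLinearGroup (Fin n) F
local notation "tv" => Matrix.SpecialLinearGroup.transvection
local notation "UU" => SLUni.U F n
local notation "CC" => (Matrix.SpecialLinearGroup (Fin n) F ⧸ (bor (F := F) (n := n)))

variable {k : Type v} [Field k]

/-- The permutation module on chambers. -/
noncomputable def act : SL →* Module.End k (CC → k) where
  toFun g := LinearMap.funLeft k k (fun x : CC => g⁻¹ • x)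
  map_one' := by ext f x; simp [LinearMap.funLeft_apply]
  map_mul' g g' := by
    refine LinearMap.ext fun f => funext fun x => ?_
    simp [LinearMap.funLeft_apply, mul_smul]

theorem act_apply (g : SL) (f : CC → k) (x : CC) : act g f x = f (g⁻¹ • x) := rfl

/-- The indicator of a chamber. -/
noncomputable def chi (k : Type v) [Field k] (x : CC) : CC → k := fun y =>
  @ite k (y = x) (_root_.Classical.propDecidable _) 1 0

theorem act_chi (g : SL) (x : CC) : act g (chi k x) = chi k (g • x) := by
  classical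
  funext y
  rw [act_apply]
  unfold chi
  by_cases h : g⁻¹ • y = x
  · rw [if_pos h, if_pos (by rw [← h, smul_inv_smul])]
  · rw [if_neg h, if_neg fun e => h (by rw [e, inv_smul_smul])]

variable (F) in
/-- The chamber of the standard apartment. -/
noncomputable def ch (σ : Equiv.Perm (Fin n)) : CC :=
  ((exists_isMon (F := F) σ).choose : CC)

theorem ch_eq {σ : Equiv.Perm (Fin n)} {g : SL} (hg : IsMon σ g) : (g : CC) = ch F σ := by
  refine QuotientGroup.eq.2 (IsMon.mem_bor ?_)
  have := hg.inv.mul (exists_isMon (F := F) σ).choose_spec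
  rwa [inv_mul_cancel] at this

theorem mon_smul_ch {σ τ : Equiv.Perm (Fin n)} {g : SL} (hg : IsMon τ g) :
    g • ch F σ = ch F (τ * σ) := by
  rw [← ch_eq (exists_isMon (F := F) σ).choose_spec, MulAction.Quotient.smul_coe, smul_eq_mul,
    ch_eq (hg.mul (exists_isMon (F := F) σ).choose_spec)]

theorem tv_smul_ch {σ : Equiv.Perm (Fin n)} {a b : Fin n} (hab : a ≠ b) (hσ : σ⁻¹ a < σ⁻¹ b)
    (t : F) : (tv hab t : SL) • ch F σ = ch F σ := by
  have hm := (exists_isMon (F := F) σ).choose_spec
  rw [ch, MulAction.Quotient.smul_coe, smul_eq_mul]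
  refine (QuotientGroup.eq.2 ?_).symm
  rw [← mul_assoc]
  intro x y hyx
  rw [hm.conj_zero, SLUni.tv_apply, if_neg (fun h => hyx.ne' (σ.injective h)), if_neg, add_zero]
  rintro ⟨h1, h2⟩
  rw [h1, h2] at hσ
  simp at hσ
  exact absurd hσ (not_lt.2 hyx.le)

/-- The sign in `k`. -/
noncomputable def sgn (k : Type v) [Field k] (σ : Equiv.Perm (Fin n)) : k :=
  (((Equiv.Perm.sign σ : ℤˣ) : ℤ) : k)

theorem sgn_sq (σ : Equiv.Perm (Fin n)) : sgn k σ * sgn k σ = 1 := by
  rw [sgn, ← Int.cast_mul, ← Units.val_mul, Int.units_mul_self, Units.val_one, Int.cast_one]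

theorem sgn_swap {i j : Fin n} (hij : i ≠ j) (σ : Equiv.Perm (Fin n)) :
    sgn k (Equiv.swap i j * σ) = - sgn k σ := by
  simp [sgn, Equiv.Perm.sign_swap hij]

variable (F n k) in
/-- The apartment cycle. -/
noncomputable def apt : CC → k :=
  ∑ σ : Equiv.Perm (Fin n), sgn k σ • chi k (ch F σ)

theorem act_apt (g : SL) :
    act g (apt F n k) = ∑ σ : Equiv.Perm (Fin n), sgn k σ • chi k (g • ch F σ) := by
  simp [apt, map_sum, map_smul, act_chi]

theorem diag_apt {d : SL} (hd : IsMon 1 d) : act d (apt F n k) = apt F n k := by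
  rw [act_apt]
  simp only [mon_smul_ch hd, one_mul, apt]

theorem nE_apt {i j : Fin n} (h : (j : ℕ) = i + 1) :
    act (nE h : SL) (apt F n k) = - apt F n k := by
  rw [act_apt, apt, ← Finset.sum_neg_distrib]
  refine Fintype.sum_equiv (Equiv.mulLeft (Equiv.swap i j)) _ _ fun σ => ?_
  rw [Equiv.coe_mulLeft, mon_smul_ch (nE_isMon h), sgn_swap (ne_of_adj h), neg_smul, _root_.neg_neg]

theorem swap_inv_lt_iff {i j : Fin n} (σ : Equiv.Perm (Fin n)) :
    (Equiv.swap i j * σ)⁻¹ i = σ⁻¹ j ∧ (Equiv.swap i j * σ)⁻¹ j = σ⁻¹ i := by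
  simp [_root_.mul_inv_rev]

/-- A rank one element moves the cycle to a translate. -/
theorem nE_tv_apt {i j : Fin n} (h : (j : ℕ) = i + 1) {t : F} (ht : t ≠ 0) :
    act (nE h * tv (ne_of_adj h) t : SL) (apt F n k) =
      act (tv (ne_of_adj h) (-t⁻¹) : SL) (apt F n k) - apt F n k := by
  classical
  have hij := ne_of_adj h
  set s := Equiv.swap i j
  have hneg : ∀ σ : Equiv.Perm (Fin n), σ⁻¹ j < σ⁻¹ i →
      (nE h * tv hij t : SL) • ch F σ = (tv hij (-t⁻¹) : SL) • ch F σ := by
    intro σ hσ
    have hs : (s * σ)⁻¹ i < (s * σ)⁻¹ j := by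
      rwa [(swap_inv_lt_iff σ).1, (swap_inv_lt_iff σ).2]
    have e0 : ch F σ = (nE h : SL) • ch F (s * σ) := by
      rw [mon_smul_ch (nE_isMon h), ← mul_assoc, Equiv.swap_mul_self, one_mul]
    have hY : (nE h * tv hij t * nE h : SL) =
        tv hij (-t⁻¹) * (hE h (Units.mk0 t ht)⁻¹ * nE h) * tv hij (-t⁻¹) *
          (nE h * nE h) := by
      rw [← big h, Units.val_inv_eq_inv_val, Units.val_mk0, inv_inv, Units.val_mk0]
      have e1 : (tv hij (-t⁻¹) : SL) * tv hij t⁻¹ = 1 := by
        rw [← xE_add h, neg_add_cancel, Matrix.SpecialLinearGroup.transvection_coeff_zero]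
      have e2 : (tv hij t⁻¹ : SL) * tv hij (-t⁻¹) = 1 := by
        rw [← xE_add h, add_neg_cancel, Matrix.SpecialLinearGroup.transvection_coeff_zero]
      rw [show (nE h * tv hij t * nE h : SL) =
        nE h * tv hij t * (nE h)⁻¹ * (nE h * nE h) by group, nE_conj h]
      congr 1
      simp only [← mul_assoc, e1, one_mul]
      rw [mul_assoc, e2, mul_one]
    conv_lhs => rw [e0, ← mul_smul, hY]
    rw [mul_smul, nE_sq h, mon_smul_ch (hE_isMon h _), one_mul, mul_smul, tv_smul_ch hij hs,
      mul_smul, mul_smul, ← e0, mon_smul_ch (hE_isMon h _), one_mul]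
  have hpos : ∀ σ : Equiv.Perm (Fin n), σ⁻¹ i < σ⁻¹ j →
      (nE h * tv hij t : SL) • ch F σ = ch F (s * σ) ∧
        (tv hij (-t⁻¹) : SL) • ch F σ = ch F σ := fun σ hσ =>
    ⟨by rw [mul_smul, tv_smul_ch hij hσ, mon_smul_ch (nE_isMon h)], tv_smul_ch hij hσ _⟩
  rw [act_apt, act_apt, apt, ← Finset.sum_sub_distrib, ← sub_eq_zero, ← Finset.sum_sub_distrib]
  have key : ∀ σ : Equiv.Perm (Fin n),
      sgn k σ • chi k ((nE h * tv hij t : SL) • ch F σ) -
        (sgn k σ • chi k ((tv hij (-t⁻¹) : SL) • ch F σ) - sgn k σ • chi k (ch F σ)) =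
      sgn k σ • chi k (if σ⁻¹ i < σ⁻¹ j then ch F (s * σ) else ch F σ) := by
    intro σ
    split_ifs with hσ
    · rw [(hpos σ hσ).1, (hpos σ hσ).2, sub_self, sub_zero]
    · have hσ' : σ⁻¹ j < σ⁻¹ i := lt_of_le_of_ne (not_lt.1 hσ) fun e =>
        hij ((σ⁻¹).injective e).symm
      rw [hneg σ hσ', sub_sub_cancel]
  simp only [key]
  refine Finset.sum_involution (fun σ _ => s * σ) (fun σ _ => ?_) (fun σ _ _ => ?_)
    (fun σ _ => Finset.mem_univ _) (fun σ _ => by rw [← mul_assoc, Equiv.swap_mul_self, one_mul])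
  · rw [sgn_swap hij, (swap_inv_lt_iff σ).1, (swap_inv_lt_iff σ).2, ← mul_assoc,
      Equiv.swap_mul_self, one_mul, neg_smul, ← sub_eq_add_neg, sub_eq_zero]
    congr 2
    by_cases hσ : σ⁻¹ i < σ⁻¹ j
    · rw [if_pos hσ, if_neg (lt_asymm hσ)]
    · have hσ' : σ⁻¹ j < σ⁻¹ i := lt_of_le_of_ne (not_lt.1 hσ) fun e =>
        hij ((σ⁻¹).injective e).symm
      rw [if_neg hσ, if_pos hσ']
  · intro e
    exact hij (Equiv.swap_eq_one_iff.1 (mul_eq_right.1 e))

/-! ### The module -/

section Module

variable [Fintype ↥(SLUni.U F n)]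

/-- The combinations of the translates of the cycle. -/
noncomputable def comb : (↥UU → k) →ₗ[k] (CC → k) :=
  Fintype.linearCombination k fun u : ↥UU => act (u : SL) (apt F n k)

variable (F n k) in
/-- The Steinberg module. -/
noncomputable def stMod : Submodule k (CC → k) := LinearMap.range (comb (F := F) (n := n) (k := k))

/-- Coordinates. -/
noncomputable def co : (CC → k) →ₗ[k] (↥UU → k) where
  toFun w u := sgn k (Fin.revPerm (n := n)) * w ((u : SL) • ch F (Fin.revPerm (n := n)))
  map_add' w w' := funext fun u => mul_add _ _ _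
  map_smul' c w := funext fun u => mul_left_comm _ _ _

theorem co_act_U (u : ↥UU) (w : CC → k) (u' : ↥UU) :
    co (act (u : SL) w) u' = co w (u⁻¹ * u') := by
  show sgn k Fin.revPerm * act (u : SL) w ((u' : SL) • ch F Fin.revPerm) = _
  rw [act_apply, ← mul_smul]
  rfl

/-- A unitriangular element moves only the opposite chamber to the opposite chamber. -/
theorem smul_ch_rev {v : SL} (hv : v ∈ UU) {σ : Equiv.Perm (Fin n)}
    (h : v • ch F σ = ch F Fin.revPerm) : σ = Fin.revPerm ∧ v = 1 := by
  obtain ⟨m, hm⟩ := exists_isMon (F := F) σ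
  obtain ⟨m₀, hm₀⟩ := exists_isMon (F := F) (Fin.revPerm : Equiv.Perm (Fin n))
  rw [← ch_eq hm, ← ch_eq hm₀, MulAction.Quotient.smul_coe, smul_eq_mul] at h
  have hb : m₀⁻¹ * (v * m) ∈ bor (F := F) (n := n) := QuotientGroup.eq.1 h.symm
  have h0 : ∀ a b : Fin n, σ⁻¹ b < Fin.rev a → v.1 a b = 0 := by
    intro a b hab
    have h1 := hm₀.mul_apply_left (m₀⁻¹ * (v * m)) (Fin.rev a) (σ⁻¹ b)
    rw [hb _ _ hab, mul_zero, mul_inv_cancel_left, hm.mul_apply_right] at h1
    simp only [Fin.revPerm_apply, Fin.rev_rev, Equiv.apply_symm_apply, Equiv.Perm.coe_inv] at h1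
    refine (mul_eq_zero.1 (by simpa using h1)).resolve_right ?_
    have := hm.ne_zero (σ⁻¹ b)
    simpa using this
  have hσ : σ = Fin.revPerm := by
    have h1 : σ⁻¹ * Fin.revPerm = 1 := by
      refine eq_one_of_le fun a => ?_
      by_contra hlt
      have h2 := h0 (Fin.rev a) (Fin.rev a) (by simpa using not_le.1 hlt)
      rw [SLUni.IsUni.diag hv] at h2
      exact one_ne_zero h2
    rw [inv_mul_eq_one] at h1
    exact h1
  refine ⟨hσ, Subtype.ext ?_⟩
  ext a b
  rcases lt_or_ge a b with hab | hab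
  · rw [h0 a b (by rw [hσ]; simpa [Fin.revPerm] using hab),
      Matrix.SpecialLinearGroup.coe_one, Matrix.one_apply_ne hab.ne]
  · rw [hv a b hab]
    rfl

theorem co_act_apt [DecidableEq ↥(SLUni.U F n)] (u u' : ↥UU) :
    co (act (u : SL) (apt F n k)) u' = if u = u' then 1 else 0 := by
  classical
  rw [co_act_U]
  show sgn k Fin.revPerm * (apt F n k) (((u⁻¹ * u' : ↥UU) : SL) • ch F Fin.revPerm) = _
  simp only [apt, Finset.sum_apply, Pi.smul_apply, chi, smul_eq_mul, mul_ite,
    mul_one, mul_zero]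
  by_cases huu : u = u'
  · subst huu
    rw [if_pos rfl, inv_mul_cancel, Subgroup.coe_one, one_smul, Finset.sum_eq_single Fin.revPerm,
      if_pos rfl, sgn_sq]
    · intro σ _ hσ
      rw [if_neg fun e => hσ (smul_ch_rev (one_mem _) (by rw [one_smul, e])).1]
    · simp
  · rw [if_neg huu, Finset.sum_eq_zero, mul_zero]
    intro σ _
    rw [if_neg]
    intro e
    have h1 := smul_ch_rev (u'⁻¹ * u : ↥UU).2 (σ := σ) (by
      rw [← e, ← mul_smul, ← Subgroup.coe_mul, show u'⁻¹ * u * (u⁻¹ * u') = (1 : ↥UU) by group,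
        Subgroup.coe_one, one_smul])
    exact huu (inv_mul_eq_one.1 (Subtype.ext h1.2)).symm

theorem co_comb (c : ↥UU → k) : co (comb c) = c := by
  classical
  funext u'
  simp [comb, Fintype.linearCombination_apply, map_sum, co_act_apt, Finset.sum_apply]

theorem comb_co {w : CC → k} (hw : w ∈ stMod F n k) : comb (co w) = w := by
  obtain ⟨c, rfl⟩ := hw
  rw [co_comb]

theorem ext_stMod {w w' : CC → k} (hw : w ∈ stMod F n k) (hw' : w' ∈ stMod F n k)
    (h : co w = co w') : w = w' := by rw [← comb_co hw, h, comb_co hw']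

theorem act_U_apt_mem (u : ↥UU) : act (u : SL) (apt F n k) ∈ stMod F n k := by
  classical
  exact ⟨Pi.single u 1, by simp [comb, Fintype.linearCombination_apply, Pi.single_apply]⟩

theorem apt_mem : apt F n k ∈ stMod F n k := by
  have := act_U_apt_mem (F := F) (n := n) (k := k) 1
  simpa using this

set_option maxHeartbeats 1000000 in
/-- The module is invariant. -/
theorem act_mem (g : SL) {w : CC → k} (hw : w ∈ stMod F n k) : act g w ∈ stMod F n k := by
  classical
  have closed : ∀ x : SL, (∀ u : ↥UU, act (x * u : SL) (apt F n k) ∈ stMod F n k) →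
      ∀ w ∈ stMod F n k, act x w ∈ stMod F n k := by
    rintro x hx w ⟨c, rfl⟩
    simp only [comb, Fintype.linearCombination_apply, map_sum, map_smul, ← Module.End.mul_apply,
      ← map_mul]
    exact sum_mem fun u _ => Submodule.smul_mem _ _ (hx u)
  let X : Submonoid SL :=
    { carrier := {x | ∀ w ∈ stMod F n k, act x w ∈ stMod F n k}
      one_mem' := fun w hw => by simpa using hw
      mul_mem' := fun {x y} hx hy w hw => by
        rw [map_mul, Module.End.mul_apply]
        exact hx _ (hy w hw) }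
  let X' : Subgroup SL :=
    { X with
      inv_mem' := fun {x} hx => by
        rw [inv_eq_of_mul_eq_one_left (a := x ^ (orderOf x - 1)) (b := x) (by
          rw [← pow_succ, Nat.sub_add_cancel (orderOf_pos x), pow_orderOf_eq_one])]
        exact X.pow_mem hx _ }
  suffices h : X' = ⊤ by exact (show g ∈ X' by rw [h]; trivial) w hw
  refine gen_upper (fun x hx => ?_) fun i j h => ?_
  · show ∀ w ∈ stMod F n k, act x w ∈ stMod F n k
    refine closed x fun u => ?_
    have h1 := act_U_apt_mem (k := k) (⟨x, hx⟩ * u : ↥UU)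
    rw [Subgroup.coe_mul] at h1
    exact h1
  show ∀ w ∈ stMod F n k, act (nE h : SL) w ∈ stMod F n k
  refine closed _ fun u => ?_
  obtain ⟨hr, -⟩ := R_mul_split h u.2
  set r := (u : SL) * tv (ne_of_adj h) (-((u : SL).1 i j))
  have hu : (u : SL) = r * tv (ne_of_adj h) ((u : SL).1 i j) := by
    simp [r, mul_assoc, ← xE_add h]
  have hr' := SLUni.R_le h (nE_conj_R h hr).1
  rw [hu, show (nE h * (r * tv (ne_of_adj h) ((u : SL).1 i j)) : SL) =
    nE h * r * (nE h)⁻¹ * (nE h * tv (ne_of_adj h) ((u : SL).1 i j)) by group, map_mul,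
    Module.End.mul_apply]
  rcases eq_or_ne ((u : SL).1 i j) 0 with h0 | h0
  · rw [h0, Matrix.SpecialLinearGroup.transvection_coeff_zero, mul_one, nE_apt h, map_neg]
    exact neg_mem (act_U_apt_mem ⟨_, hr'⟩)
  · rw [nE_tv_apt h h0, map_sub, ← Module.End.mul_apply, ← map_mul]
    exact sub_mem (act_U_apt_mem ⟨_, mul_mem hr' (SLUni.tv_mem_U (lt_of_adj h) _)⟩)
      (act_U_apt_mem ⟨_, hr'⟩)

variable (F n k) in
/-- The fixed vector. -/
noncomputable def top' : CC → k := comb (F := F) (n := n) fun _ => (1 : k)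

theorem top'_eq : top' F n k = ∑ u : ↥UU, act (u : SL) (apt F n k) := by
  simp [top', comb, Fintype.linearCombination_apply]

theorem top'_mem : top' F n k ∈ stMod F n k := ⟨_, rfl⟩

theorem co_top' : co (top' F n k) = fun _ => 1 := co_comb _

theorem top'_ne : top' F n k ≠ 0 := fun h => by
  have h1 := congrFun (congrArg co h) 1
  rw [co_top', map_zero] at h1
  exact one_ne_zero h1

/-- The augmentation. -/
noncomputable def eps : (CC → k) →ₗ[k] k :=
  (∑ u : ↥UU, LinearMap.proj u) ∘ₗ co (F := F) (n := n)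

theorem eps_apply (w : CC → k) : eps w = ∑ u : ↥UU, co w u := by
  simp [eps]

theorem sum_act (w : CC → k) (hw : w ∈ stMod F n k) :
    ∑ u : ↥UU, act (u : SL) w = eps w • top' F n k := by
  refine ext_stMod (sum_mem fun u _ => act_mem _ hw) (Submodule.smul_mem _ _ top'_mem) ?_
  funext u'
  simp only [map_sum, Finset.sum_apply, co_act_U, map_smul, Pi.smul_apply, co_top', smul_eq_mul,
    mul_one, eps_apply]
  exact Fintype.sum_equiv ((Equiv.inv _).trans (Equiv.mulRight u')) _ _ fun u => rfl

theorem act_U_top' {u : SL} (hu : u ∈ UU) : act u (top' F n k) = top' F n k := by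
  refine ext_stMod (act_mem _ top'_mem) top'_mem (funext fun u' => ?_)
  rw [show u = ((⟨u, hu⟩ : ↥UU) : SL) from rfl, co_act_U, co_top']

theorem diag_top' {d : SL} (hd : IsMon 1 d) : act d (top' F n k) = top' F n k := by
  classical
  simp only [top'_eq, map_sum]
  let e : ↥UU ≃ ↥UU :=
    { toFun := fun u => ⟨d * u * d⁻¹, bor_conj_U hd u.2⟩
      invFun := fun u => ⟨d⁻¹ * u * d, by
        have := bor_conj_U (d := d⁻¹) (by simpa using hd.inv) u.2
        rwa [inv_inv] at this⟩
      left_inv := fun u => Subtype.ext (by simp [mul_assoc])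
      right_inv := fun u => Subtype.ext (by simp [mul_assoc]) }
  refine Fintype.sum_equiv e _ _ fun u => ?_
  show act d (act (u : SL) _) = act (d * (u : SL) * d⁻¹) _
  rw [← Module.End.mul_apply, ← map_mul]
  conv_rhs => rw [← diag_apt (k := k) hd, ← Module.End.mul_apply, ← map_mul]
  group

variable {p : ℕ} [Fact p.Prime] [CharP F p] [CharP k p]

include p in
theorem cast_card : (Fintype.card F : k) = 0 := by
  obtain ⟨m, -, hm⟩ := FiniteField.card F p
  rw [hm, Nat.cast_pow, CharP.cast_eq_zero, zero_pow m.ne_zero]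

include p in
set_option maxHeartbeats 1000000 in
/-- The rank one operators act as `-1` on the fixed vector. -/
theorem op_top' {i j : Fin n} (h : (j : ℕ) = i + 1) :
    ∑ t : F, act (tv (ne_of_adj h) t * nE h : SL) (top' F n k) = - top' F n k := by
  classical
  have hij := ne_of_adj h
  have hR : Fintype ↥(SLUni.R (K := F) h) := Fintype.ofFinite _
  let e : ↥(SLUni.R (K := F) h) × F ≃ ↥UU :=
    { toFun := fun q => ⟨(q.1 : SL) * tv hij q.2,
        mul_mem (SLUni.R_le h q.1.2) (SLUni.tv_mem_U (lt_of_adj h) _)⟩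
      invFun := fun u => (⟨_, (R_mul_split h u.2).1⟩, (u : SL).1 i j)
      left_inv := fun q => by
        have h1 : ((q.1 : SL) * tv hij q.2).1 i j = q.2 := by
          rw [SLUni.mul_tv_apply, if_pos rfl, q.1.2.2, zero_add,
            SLUni.IsUni.diag (SLUni.R_le h q.1.2), one_mul]
        refine Prod.ext (Subtype.ext ?_) h1
        show (q.1 : SL) * tv hij q.2 * tv hij (-(((q.1 : SL) * tv hij q.2).1 i j)) = q.1
        rw [h1, mul_assoc, ← xE_add h, add_neg_cancel,
          Matrix.SpecialLinearGroup.transvection_coeff_zero, mul_one]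
      right_inv := fun u => Subtype.ext (by
        show (u : SL) * tv hij (-((u : SL).1 i j)) * tv hij ((u : SL).1 i j) = u
        rw [mul_assoc, ← xE_add h, neg_add_cancel,
          Matrix.SpecialLinearGroup.transvection_coeff_zero, mul_one]) }
  let c : ↥(SLUni.R (K := F) h) ≃ ↥(SLUni.R (K := F) h) :=
    { toFun := fun r => ⟨_, (nE_conj_R h r.2).1⟩
      invFun := fun r => ⟨_, (nE_conj_R h r.2).2⟩
      left_inv := fun r => Subtype.ext (by simp [mul_assoc])
      right_inv := fun r => Subtype.ext (by simp [mul_assoc]) }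
  set S : (CC → k) := ∑ r : ↥(SLUni.R (K := F) h), act (r : SL) (apt F n k)
  have hinner : ∑ t : F, act (nE h * tv hij t : SL) (apt F n k) =
      ∑ t : F, act (tv hij t : SL) (apt F n k) - apt F n k := by
    rw [← Finset.sum_erase_add _ _ (Finset.mem_univ (0 : F)),
      Matrix.SpecialLinearGroup.transvection_coeff_zero, mul_one, nE_apt h,
      Finset.sum_congr rfl fun t ht => nE_tv_apt h (Finset.ne_of_mem_erase ht),
      Finset.sum_sub_distrib, Finset.sum_const, Finset.card_erase_of_mem (Finset.mem_univ _),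
      Finset.card_univ, ← Nat.cast_smul_eq_nsmul k, Nat.cast_sub Fintype.card_pos, cast_card (p := p)]
    rw [Nat.cast_one, zero_sub, neg_smul, one_smul, sub_neg_eq_add, add_assoc, add_neg_cancel,
      add_zero, eq_sub_iff_add_eq,
      ← Finset.sum_erase_add _ (fun t : F => act (tv hij t : SL) (apt F n k)) (Finset.mem_univ (0 : F)),
      Matrix.SpecialLinearGroup.transvection_coeff_zero, map_one, Module.End.one_apply]
    congr 1
    refine Finset.sum_bij' (fun t _ => -t⁻¹) (fun t _ => -t⁻¹) ?_ ?_ ?_ ?_ (fun t _ => rfl)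
    · intro t ht; simpa using ht
    · intro t ht; simpa using ht
    · intro t _; simp [inv_neg]
    · intro t _; simp [inv_neg]
  have hn : act (nE h : SL) (top' F n k) = top' F n k - S := by
    have h1 : act (nE h : SL) (top' F n k) =
        ∑ r : ↥(SLUni.R (K := F) h), act (c r : SL)
          (∑ t : F, act (nE h * tv hij t : SL) (apt F n k)) := by
      rw [top'_eq, map_sum, ← e.sum_comp, Fintype.sum_prod_type]
      refine Finset.sum_congr rfl fun r _ => ?_
      rw [map_sum]
      refine Finset.sum_congr rfl fun t _ => ?_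
      simp only [← Module.End.mul_apply, ← map_mul]
      congr 1
      congr 1
      show (nE h : SL) * ((r : SL) * tv hij t) = nE h * (r : SL) * (nE h)⁻¹ * (nE h * tv hij t)
      group
    rw [h1, c.sum_comp (fun r : ↥(SLUni.R (K := F) h) => act (r : SL)
      (∑ t : F, act (nE h * tv hij t : SL) (apt F n k))), hinner]
    simp only [map_sub, Finset.sum_sub_distrib, map_sum, S]
    rw [top'_eq, ← e.sum_comp, Fintype.sum_prod_type]
    congr 1
    simp only [← Module.End.mul_apply, ← map_mul]
    rfl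
  have h2 : ∀ t : F, act (tv hij t * nE h : SL) (top' F n k) =
      top' F n k - act (tv hij t : SL) S := fun t => by
    rw [map_mul, Module.End.mul_apply, hn, map_sub,
      act_U_top' (SLUni.tv_mem_U (lt_of_adj h) t)]
  simp only [h2, Finset.sum_sub_distrib, Finset.sum_const, Finset.card_univ]
  rw [← Nat.cast_smul_eq_nsmul k, cast_card (p := p), zero_smul, zero_sub, neg_inj, top'_eq,
    ← e.sum_comp, Fintype.sum_prod_type, Finset.sum_comm]
  refine Finset.sum_congr rfl fun t _ => ?_
  simp only [S, map_sum]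
  let d : ↥(SLUni.R (K := F) h) ≃ ↥(SLUni.R (K := F) h) :=
    { toFun := fun r => ⟨tv hij t * (r : SL) * (tv hij t)⁻¹, (Subgroup.mem_normalizer_iff.1
        (SLUni.U_le_normalizer_R h (SLUni.tv_mem_U (lt_of_adj h) t)) _).1 r.2⟩
      invFun := fun r => ⟨(tv hij t)⁻¹ * (r : SL) * tv hij t, (Subgroup.mem_normalizer_iff''.1
        (SLUni.U_le_normalizer_R h (SLUni.tv_mem_U (lt_of_adj h) t)) _).1 r.2⟩
      left_inv := fun r => Subtype.ext (by
        show (tv hij t)⁻¹ * (tv hij t * (r : SL) * (tv hij t)⁻¹) * tv hij t = r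
        group)
      right_inv := fun r => Subtype.ext (by
        show tv hij t * ((tv hij t)⁻¹ * (r : SL) * tv hij t) * (tv hij t)⁻¹ = r
        group) }
  refine Fintype.sum_equiv d _ _ fun r => ?_
  simp only [← Module.End.mul_apply, ← map_mul]
  congr 1
  congr 1
  show tv hij t * (r : SL) = tv hij t * (r : SL) * (tv hij t)⁻¹ * tv hij t
  group

open _root_.Classical in
/-- The unitriangular elements supported on the inversions. -/
noncomputable def invSet (π : Equiv.Perm (Fin n)) : Finset SL :=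
  Finset.univ.filter fun u => u ∈ UU ∧ ∀ a b, a < b → π⁻¹ a < π⁻¹ b → u.1 a b = 0

theorem mem_invSet {π : Equiv.Perm (Fin n)} {u : SL} :
    u ∈ invSet π ↔ u ∈ UU ∧ ∀ a b, a < b → π⁻¹ a < π⁻¹ b → u.1 a b = 0 := by
  simp [invSet]

include p in
/-- The long word does not kill the fixed vector. -/
theorem exists_cell (π : Equiv.Perm (Fin n)) :
    ∀ m : SL, IsMon π m →
      ∃ c : k, c ≠ 0 ∧ ∑ u ∈ invSet π, act (u * m) (top' F n k) = c • top' F n k := by
  classical
  induction hN : (Finset.univ.filter fun q : Fin n × Fin n =>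
    q.1 < q.2 ∧ π⁻¹ q.2 < π⁻¹ q.1).card using Nat.strong_induction_on generalizing π with
  | _ N ih =>
  intro m hm
  subst hN
  rcases eq_or_ne π 1 with rfl | hπ
  · refine ⟨1, one_ne_zero, ?_⟩
    rw [show invSet (F := F) (1 : Equiv.Perm (Fin n)) = {1} from ?_, Finset.sum_singleton, one_mul,
      diag_top' hm, one_smul]
    ext u
    rw [mem_invSet, Finset.mem_singleton]
    refine ⟨fun ⟨hu, h0⟩ => Subtype.ext ?_, ?_⟩
    · ext a b
      rcases lt_or_ge a b with hab | hab
      · rw [h0 a b hab (by simpa using hab), Matrix.SpecialLinearGroup.coe_one,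
          Matrix.one_apply_ne hab.ne]
      · rw [hu a b hab]; rfl
    · rintro rfl
      exact ⟨one_mem _, fun a b hab _ => Matrix.one_apply_ne hab.ne⟩
  obtain ⟨i, j, h, hlt⟩ := exists_descent (inv_ne_one.2 hπ)
  have hij := ne_of_adj h
  set s := Equiv.swap i j with hs
  set ρ := s * π with hρ
  have hρi : ∀ a, ρ⁻¹ a = π⁻¹ (s a) := fun a => by simp [hρ, hs, _root_.mul_inv_rev]
  have hρij : ρ⁻¹ i < ρ⁻¹ j := by
    rwa [hρi, hρi, hs, Equiv.swap_apply_left, Equiv.swap_apply_right]
  have hcard : (Finset.univ.filter fun q : Fin n × Fin n => q.1 < q.2 ∧ ρ⁻¹ q.2 < ρ⁻¹ q.1).card <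
      (Finset.univ.filter fun q : Fin n × Fin n => q.1 < q.2 ∧ π⁻¹ q.2 < π⁻¹ q.1).card := by
    refine lt_of_le_of_lt (Finset.card_le_card_of_injOn (fun q => (s q.1, s q.2)) ?_ ?_)
      (Finset.card_erase_lt_of_mem (a := (i, j)) (Finset.mem_filter.2
        ⟨Finset.mem_univ _, lt_of_adj h, hlt⟩))
    · intro q hq
      simp only [Finset.coe_filter, Finset.mem_univ, true_and, Set.mem_ofPred_eq] at hq
      have hne : ¬ (q.1 = i ∧ q.2 = j) := fun ⟨h1, h2⟩ => by
        rw [h1, h2] at hq
        exact lt_asymm hρij hq.2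
      simp only [Finset.coe_erase, Finset.coe_filter, Finset.mem_univ, true_and, Set.mem_diff,
        Set.mem_ofPred_eq, Set.mem_singleton_iff]
      refine ⟨⟨swap_lt h hq.1 hne, by rw [← hρi, ← hρi]; exact hq.2⟩, fun e => ?_⟩
      have h1 : q.1 = j := by
        have := congrArg s (Prod.mk.injEq .. ▸ e).1
        simpa [hs] using this
      have h2 : q.2 = i := by
        have := congrArg s (Prod.mk.injEq .. ▸ e).2
        simpa [hs] using this
      rw [h1, h2] at hq
      exact lt_asymm (lt_of_adj h) hq.1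
    · intro q _ q' _ e
      simp only [Prod.mk.injEq] at e
      exact Prod.ext (s.injective e.1) (s.injective e.2)
  obtain ⟨c, hc, hcs⟩ := ih _ hcard ρ rfl ((nE h)⁻¹ * m) (by
    have := (nE_isMon h).inv.mul hm
    rwa [Equiv.swap_inv] at this)
  refine ⟨-c, neg_ne_zero.2 hc, ?_⟩
  have hstep : ∑ t : F, act (tv hij t * nE h : SL) (c • top' F n k) = (-c) • top' F n k := by
    simp only [map_smul, ← Finset.smul_sum]
    rw [op_top' (p := p) h, smul_neg, neg_smul]
  rw [← hstep, ← hcs]
  simp only [map_sum, ← Module.End.mul_apply, ← map_mul]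
  rw [← Finset.sum_product']
  refine (Finset.sum_bij' (fun q _ => tv hij q.1 * (nE h * q.2 * (nE h)⁻¹))
    (fun u _ => (u.1 i j, (nE h)⁻¹ * (tv hij (-(u.1 i j)) * u) * nE h)) ?_ ?_ ?_ ?_ ?_).symm
  · rintro ⟨t, v⟩ hq
    obtain ⟨hv, hv0⟩ := mem_invSet.1 (Finset.mem_product.1 hq).2
    dsimp only
    have hw : ∀ a b, b ≤ a → (nE h * v * (nE h)⁻¹).1 a b = if a = b then 1 else 0 := by
      intro a b hba
      split_ifs with e
      · subst e
        rw [(nE_isMon h).conj_diag', SLUni.IsUni.diag hv]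
      · rw [(nE_isMon h).conj_zero', Equiv.swap_inv]
        have hlt' : b < a := lt_of_le_of_ne hba (Ne.symm e)
        by_cases hp : b = i ∧ a = j
        · rw [hp.1, hp.2, Equiv.swap_apply_left, Equiv.swap_apply_right]
          exact hv0 i j (lt_of_adj h) hρij
        · exact SLUni.IsUni.lower hv _ _ (swap_lt h hlt' hp)
    refine mem_invSet.2 ⟨mul_mem (SLUni.tv_mem_U (lt_of_adj h) t) hw, fun a b hab hπab => ?_⟩
    have hw0 : ∀ a b, a < b → π⁻¹ a < π⁻¹ b → (nE h * v * (nE h)⁻¹).1 a b = 0 := by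
      intro a b hab hπab
      rw [(nE_isMon h).conj_zero', Equiv.swap_inv]
      rcases lt_or_gt_of_ne (fun e => hab.ne ((Equiv.swap i j).injective e)) with h1 | h1
      · refine hv0 _ _ h1 ?_
        rw [hρi, hρi, hs, Equiv.swap_apply_self, Equiv.swap_apply_self]
        exact hπab
      · exact SLUni.IsUni.lower hv _ _ h1
    rw [SLUni.tv_mul_apply, hw0 a b hab hπab, zero_add]
    split_ifs with e
    · subst e
      rcases lt_trichotomy b j with h1 | h1 | h1
      · exact absurd hab (by rw [Fin.lt_def] at h1 ⊢; omega)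
      · subst h1
        exact absurd hπab (lt_asymm hlt)
      · rw [hw0 j b h1 (hlt.trans hπab), mul_zero]
    · rfl
  · intro u hu
    obtain ⟨hu, hu0⟩ := mem_invSet.1 hu
    refine Finset.mem_product.2 ⟨Finset.mem_univ _, mem_invSet.2 ⟨?_, ?_⟩⟩
    · exact SLUni.R_le h (nE_conj_R h (R_mul_split h hu).2).2
    · intro a b hab hab'
      rw [(nE_isMon h).conj_zero]
      by_cases hp : a = i ∧ b = j
      · rw [hp.1, hp.2, Equiv.swap_apply_left, Equiv.swap_apply_right]
        exact SLUni.IsUni.lower (SLUni.R_le h (R_mul_split h hu).2) _ _ (lt_of_adj h)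
      have h1 := swap_lt h hab hp
      rw [hρi, hρi, hs] at hab'
      set a' := Equiv.swap i j a
      set b' := Equiv.swap i j b
      rw [SLUni.tv_mul_apply, hu0 a' b' h1 hab', zero_add]
      split_ifs with e
      · rcases lt_trichotomy b' j with h2 | h2 | h2
        · exact absurd h1 (by rw [e, Fin.lt_def] at *; omega)
        · rw [e, h2] at hab'
          exact absurd hab' (lt_asymm hlt)
        · rw [e] at hab'
          rw [hu0 j b' h2 (hlt.trans hab'), mul_zero]
      · rfl
  · rintro ⟨t, v⟩ hq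
    obtain ⟨hv, hv0⟩ := mem_invSet.1 (Finset.mem_product.1 hq).2
    dsimp only
    have h1 : (tv hij t * (nE h * v * (nE h)⁻¹)).1 i j = t := by
      rw [SLUni.tv_mul_apply, if_pos rfl, (nE_isMon h).conj_diag', SLUni.IsUni.diag hv,
        ((nE_isMon h).conj_zero' v i j).2 (by
          rw [Equiv.swap_inv, Equiv.swap_apply_left, Equiv.swap_apply_right]
          exact SLUni.IsUni.lower hv _ _ (lt_of_adj h))]
      ring
    rw [h1]
    refine Prod.ext rfl ?_
    show (nE h)⁻¹ * (tv hij (-t) * (tv hij t * (nE h * v * (nE h)⁻¹))) * nE h = v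
    rw [← mul_assoc (tv hij (-t) : SL), ← xE_add h, neg_add_cancel,
      Matrix.SpecialLinearGroup.transvection_coeff_zero]
    group
  · intro u _
    dsimp only
    rw [show (nE h * ((nE h)⁻¹ * (tv hij (-(u.1 i j)) * u) * nE h) * (nE h)⁻¹ : SL) =
      tv hij (-(u.1 i j)) * u by group, ← mul_assoc, ← xE_add h, add_neg_cancel,
      Matrix.SpecialLinearGroup.transvection_coeff_zero, one_mul]
  · rintro ⟨t, v⟩ _
    dsimp only
    congr 1
    congr 1
    group

include p in
/-- The augmentation does not vanish on an opposite translate of the fixed vector. -/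
theorem exists_eps_ne : ∃ g : SL, eps (act g (top' F n k)) ≠ 0 := by
  classical
  obtain ⟨m, hm⟩ := exists_isMon (F := F) (Fin.revPerm : Equiv.Perm (Fin n))
  obtain ⟨c, hc, hcs⟩ := exists_cell (p := p) (k := k) _ m hm
  refine ⟨m, fun h0 => ?_⟩
  have hinv : ∑ u ∈ invSet (Fin.revPerm : Equiv.Perm (Fin n)), act (u * m) (top' F n k) =
      ∑ u : ↥UU, act (u : SL) (act m (top' F n k)) := by
    simp only [← Module.End.mul_apply, ← map_mul]
    refine Finset.sum_bij' (fun u hu => ⟨u, (mem_invSet.1 hu).1⟩) (fun u _ => (u : SL)) (by simp)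
      (fun u _ => mem_invSet.2 ⟨u.2, fun a b hab hab' => ?_⟩) (by simp) (by simp) (by simp)
    simp [Fin.revPerm] at hab'
    exact absurd hab (lt_asymm hab')
  rw [hinv, sum_act _ (act_mem _ top'_mem), h0, zero_smul] at hcs
  exact top'_ne ((smul_eq_zero.1 hcs.symm).resolve_left hc)

omit [Fintype ↥UU] in
/-- A `p`-group acting linearly in characteristic `p` fixes a nonzero vector. -/
theorem exists_fixed {Q : Type*} [Group Q] [Finite Q] (hQ : IsPGroup p Q) {W : Type*}
    [AddCommGroup W] [Module k W] (ρ : Q →* Module.End k W) {w0 : W} (hw0 : w0 ≠ 0) :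
    ∃ w : W, w ≠ 0 ∧ ∀ q, ρ q w = w := by
  classical
  let A : AddSubgroup W := AddSubgroup.closure (Set.range fun q : Q => ρ q w0)
  have hp' : ∀ w : W, p • w = 0 := fun w => by
    rw [← Nat.cast_smul_eq_nsmul k, CharP.cast_eq_zero, zero_smul]
  have hAp : ∀ w : A, p • w = 0 := fun w => Subtype.ext (hp' w.1)
  have : Finite A := by
    have : AddGroup.FG A := (AddGroup.fg_iff_addSubgroup_fg _).2
      ⟨(Set.finite_range _).toFinset, by rw [Set.Finite.coe_toFinset]⟩
    exact AddCommGroup.finite_of_fg_isAddTorsion _ fun w =>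
      isOfFinAddOrder_iff_nsmul_eq_zero.2 ⟨p, (Fact.out (p := p.Prime)).pos, hAp w⟩
  have hclosed : ∀ q : Q, ∀ w ∈ A, ρ q w ∈ A := by
    intro q w hw
    induction hw using AddSubgroup.closure_induction with
    | mem x hx =>
      obtain ⟨q', rfl⟩ := hx
      refine AddSubgroup.subset_closure ⟨q * q', ?_⟩
      simp only [map_mul, Module.End.mul_apply]
    | zero => rw [map_zero]; exact zero_mem _
    | add x y _ _ hx hy => rw [map_add]; exact add_mem hx hy
    | neg x _ hx => rw [map_neg]; exact neg_mem hx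
  let _ : MulAction Q A :=
    { smul := fun q w => ⟨ρ q w.1, hclosed q _ w.2⟩
      one_smul := fun w => Subtype.ext (by change ρ 1 w.1 = w.1; rw [map_one]; rfl)
      mul_smul := fun q q' w => Subtype.ext (by
        change ρ (q * q') w.1 = ρ q (ρ q' w.1); rw [map_mul]; rfl) }
  have heA : w0 ∈ A := AddSubgroup.subset_closure ⟨1, by simp only [map_one, Module.End.one_apply]⟩
  have hdvd : p ∣ Nat.card A := by
    have hord := addOrderOf_eq_prime (hAp ⟨w0, heA⟩) (fun h => hw0 (congrArg Subtype.val h))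
    exact (Eq.symm hord).dvd.trans (addOrderOf_dvd_natCard _)
  have hfix := (hQ.card_modEq_card_fixedPoints A).symm.trans (Nat.modEq_zero_iff_dvd.2 hdvd)
  rw [Nat.modEq_zero_iff_dvd] at hfix
  have hzero : (0 : A) ∈ MulAction.fixedPoints Q A := fun q => Subtype.ext (map_zero _)
  obtain ⟨⟨w, hw⟩, hwne⟩ : ∃ w : MulAction.fixedPoints Q A, w ≠ ⟨0, hzero⟩ := by
    have hpos : 0 < Nat.card (MulAction.fixedPoints Q A) :=
      Nat.card_pos_iff.2 ⟨⟨⟨0, hzero⟩⟩, inferInstance⟩
    have : 1 < Nat.card (MulAction.fixedPoints Q A) :=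
      lt_of_lt_of_le (Fact.out (p := p.Prime)).one_lt (Nat.le_of_dvd hpos hfix)
    have := Finite.one_lt_card_iff_nontrivial.1 this
    exact exists_ne _
  exact ⟨w.1, fun h => hwne (Subtype.ext (Subtype.ext h)), fun q => congrArg Subtype.val (hw q)⟩

theorem isPGroup_UU : IsPGroup p ↥UU := by
  rcases Nat.eq_zero_or_pos n with h0 | h0
  · subst h0
    exact fun A => ⟨0, Subtype.ext (Subtype.ext (Subsingleton.elim _ _))⟩
  · exact SLUni.isPGroup_U h0

include p in
/-- Every nonzero invariant subspace contains the fixed vector. -/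
theorem top'_mem_of_stable {N : Submodule k (CC → k)} (hN : N ≤ stMod F n k)
    (hst : ∀ g : SL, ∀ w ∈ N, act g w ∈ N) (hne : N ≠ ⊥) : top' F n k ∈ N := by
  obtain ⟨w₀, hw₀, hw₀'⟩ := Submodule.exists_mem_ne_zero_of_ne_bot hne
  let ρ : ↥UU →* Module.End k N :=
    { toFun := fun u => (act (u : SL)).restrict fun w hw => hst _ w hw
      map_one' := by ext w; simp
      map_mul' := fun u v => by ext w; simp [map_mul] }
  obtain ⟨⟨w, hw⟩, hw', hfix⟩ := exists_fixed (p := p) isPGroup_UU ρ
    (w0 := ⟨w₀, hw₀⟩) (fun h => hw₀' (congrArg Subtype.val h))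
  have hco : ∀ u : ↥UU, co w u = co w 1 := fun u => by
    conv_lhs => rw [← show act (u : SL) w = w from congrArg Subtype.val (hfix u)]
    rw [co_act_U, inv_mul_cancel]
  have he : w = co w 1 • top' F n k := by
    refine ext_stMod (hN hw) (Submodule.smul_mem _ _ top'_mem) (funext fun u => ?_)
    rw [map_smul, Pi.smul_apply, co_top', smul_eq_mul, mul_one, hco]
  have hc : co w 1 ≠ 0 := fun h => hw' (Subtype.ext (he.trans (by rw [h, zero_smul]; rfl)))
  rw [he] at hw
  have := N.smul_mem (co w 1)⁻¹ hw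
  rwa [smul_smul, inv_mul_cancel₀ hc, one_smul] at this

include p in
/-- The module is simple. -/
theorem eq_stMod_of_stable {N : Submodule k (CC → k)} (hN : N ≤ stMod F n k)
    (hst : ∀ g : SL, ∀ w ∈ N, act g w ∈ N) (hne : N ≠ ⊥) : N = stMod F n k := by
  classical
  have hf' := top'_mem_of_stable (p := p) hN hst hne
  obtain ⟨g, hg⟩ := exists_eps_ne (p := p) (F := F) (n := n) (k := k)
  by_contra hNe
  set A := (N.comap (comb (F := F) (n := n) (k := k))).dualAnnihilator
  have hA : A ≠ ⊥ := fun h => hNe (le_antisymm hN (by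
    have h1 : N.comap (comb (F := F) (n := n) (k := k)) = ⊤ := by
      rw [← Subspace.dualAnnihilator_dualCoannihilator_eq (W := N.comap _), show
        (N.comap (comb (F := F) (n := n) (k := k))).dualAnnihilator = ⊥ from h,
        Submodule.dualCoannihilator_bot]
    rintro w ⟨c, rfl⟩
    exact (show c ∈ N.comap (comb (F := F) (n := n) (k := k)) by rw [h1]; trivial)))
  obtain ⟨φ₀, hφ₀, hφ₀'⟩ := Submodule.exists_mem_ne_zero_of_ne_bot hA
  let sh : ↥UU → Module.End k (↥UU → k) := fun u => LinearMap.funLeft k k fun x => u⁻¹ * x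
  have hsh : ∀ (u : ↥UU) (c : ↥UU → k), comb (sh u c) = act (u : SL) (comb c) := by
    intro u c
    refine ext_stMod ⟨_, rfl⟩ (act_mem _ ⟨_, rfl⟩) (funext fun x => ?_)
    rw [co_comb, co_act_U, co_comb]
    rfl
  let ρ : ↥UU →* Module.End k A :=
    { toFun := fun u => ((sh u⁻¹).dualMap).restrict fun φ hφ => by
        rw [Submodule.mem_dualAnnihilator] at hφ ⊢
        intro c hc
        refine hφ _ ?_
        show comb (sh u⁻¹ c) ∈ N
        rw [hsh]
        exact hst _ _ hc
      map_one' := by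
        refine LinearMap.ext fun φ => Subtype.ext (LinearMap.ext fun c => ?_)
        show φ.1 (sh 1⁻¹ c) = φ.1 c
        congr 1
        funext x
        simp [sh, LinearMap.funLeft_apply]
      map_mul' := fun u v => by
        refine LinearMap.ext fun φ => Subtype.ext (LinearMap.ext fun c => ?_)
        show φ.1 (sh (u * v)⁻¹ c) = φ.1 (sh v⁻¹ (sh u⁻¹ c))
        congr 1
        funext x
        simp [sh, LinearMap.funLeft_apply, mul_assoc] }
  obtain ⟨⟨φ, hφ⟩, hφ', hfix⟩ := exists_fixed (p := p) isPGroup_UU ρ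
    (w0 := ⟨φ₀, hφ₀⟩) (fun h => hφ₀' (congrArg Subtype.val h))
  have hsingle : ∀ u : ↥UU, φ (Pi.single u 1) = φ (Pi.single 1 1) := by
    intro u
    have h1 : φ (sh u⁻¹ (Pi.single u 1)) = φ (Pi.single u 1) :=
      LinearMap.congr_fun (congrArg Subtype.val (hfix u)) _
    rw [← h1]
    congr 1
    funext x
    simp [sh, LinearMap.funLeft_apply, Pi.single_apply, mul_eq_left]
  have hall : ∀ c, φ c = φ (Pi.single 1 1) * ∑ u, c u := by
    intro c
    conv_lhs => rw [pi_eq_sum_univ c, map_sum]
    rw [Finset.mul_sum]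
    refine Finset.sum_congr rfl fun u _ => ?_
    have e : (fun x : ↥UU => if u = x then (1 : k) else 0) = Pi.single u 1 := by
      funext x; simp [Pi.single_apply, eq_comm]
    rw [map_smul, e, hsingle, smul_eq_mul, mul_comm]
  have h0 := (Submodule.mem_dualAnnihilator φ).1 hφ (co (act g (top' F n k)))
    (by show comb _ ∈ N; rw [comb_co (act_mem _ top'_mem)]; exact hst _ _ hf')
  rw [hall, ← eps_apply, mul_eq_zero] at h0
  refine hφ' (Subtype.ext (LinearMap.ext fun c => ?_))
  rw [hall, h0.resolve_right hg, zero_mul]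
  rfl

/-- The action of the group algebra. -/
noncomputable def actA : MonoidAlgebra k SL →ₐ[k] Module.End k (CC → k) :=
  MonoidAlgebra.lift k (Module.End k (CC → k)) SL act

theorem actA_dlt (g : SL) : actA (DZero.dlt k g) = act (k := k) g := by
  rw [DZero.dlt, actA, MonoidAlgebra.lift_single, one_smul]

theorem actA_mem (a : MonoidAlgebra k SL) {w : CC → k} (hw : w ∈ stMod F n k) :
    actA a w ∈ stMod F n k := by
  induction a using MonoidAlgebra.induction_linear with
  | zero => simp
  | add x y hx hy => rw [map_add, LinearMap.add_apply]; exact add_mem hx hy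
  | single g r =>
    rw [show (single g r : MonoidAlgebra k SL) = r • DZero.dlt k g by simp [DZero.dlt], map_smul,
      LinearMap.smul_apply, actA_dlt]
    exact Submodule.smul_mem _ _ (act_mem _ hw)

include p in
/-- The identity of the module is, up to a factor, a relative trace. -/
theorem exists_trace [Fintype SL] :
    ∃ a : MonoidAlgebra k SL, ∀ w ∈ stMod F n k,
      actA (∑ g : SL, DZero.dlt k g * a * DZero.dlt k g⁻¹) w =
        ((UU).index : k) • w := by
  classical
  obtain ⟨g₀, hg₀⟩ := exists_eps_ne (p := p) (F := F) (n := n) (k := k)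
  -- the functionals
  let L : MonoidAlgebra k SL →ₗ[k] Module.Dual k (↥UU → k) :=
    { toFun := fun a => eps ∘ₗ actA a ∘ₗ comb
      map_add' := fun a b => by ext c; simp
      map_smul' := fun r a => by ext c; simp }
  have hL : LinearMap.range L = ⊤ := by
    have h1 : (LinearMap.range L).dualCoannihilator = ⊥ := by
      by_contra hne
      let N : Submodule k (CC → k) := ((LinearMap.range L).dualCoannihilator).map comb
      have hN : N ≤ stMod F n k := LinearMap.map_le_range
      have hst : ∀ g : SL, ∀ w ∈ N, act g w ∈ N := by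
        rintro g _ ⟨c, hc, rfl⟩
        refine ⟨co (act g (comb c)), ?_, comb_co (act_mem _ ⟨c, rfl⟩)⟩
        rw [SetLike.mem_coe, Submodule.mem_dualCoannihilator] at hc ⊢
        rintro _ ⟨a, rfl⟩
        show eps (actA a (comb (co (act g (comb c))))) = 0
        rw [comb_co (act_mem _ ⟨c, rfl⟩), ← actA_dlt, ← Module.End.mul_apply, ← map_mul]
        exact hc _ ⟨_, rfl⟩
      have hNne : N ≠ ⊥ := by
        intro h
        refine hne (eq_bot_iff.2 fun c hc => ?_)
        have h2 : comb c ∈ N := ⟨c, hc, rfl⟩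
        rw [h, Submodule.mem_bot] at h2
        rw [Submodule.mem_bot, ← co_comb c, h2, map_zero]
      have h3 := eq_stMod_of_stable (p := p) hN hst hNne
      obtain ⟨c, hc, hce⟩ : top' F n k ∈ N := h3 ▸ top'_mem
      have h4 := (Submodule.mem_dualCoannihilator _).1 hc (L (DZero.dlt k g₀)) ⟨_, rfl⟩
      apply hg₀
      rw [← hce]
      simpa [L, actA_dlt] using h4
    have h2 := Subspace.dualCoannihilator_dualAnnihilator_eq (W := LinearMap.range L)
    rw [h1, Submodule.dualAnnihilator_bot] at h2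
    exact h2.symm
  obtain ⟨a₀, ha₀⟩ : LinearMap.proj (1 : ↥UU) ∈ LinearMap.range L := hL ▸ Submodule.mem_top
  obtain ⟨b, hb⟩ : ∃ b, actA b (top' F n k) = apt F n k := by
    let P : MonoidAlgebra k SL →ₗ[k] (CC → k) :=
      LinearMap.applyₗ (top' F n k) ∘ₗ actA.toLinearMap
    have h1 : LinearMap.range P = stMod F n k := by
      refine eq_stMod_of_stable (p := p) ?_ ?_ ?_
      · rintro _ ⟨a, rfl⟩; exact actA_mem a top'_mem
      · rintro g _ ⟨a, rfl⟩
        refine ⟨DZero.dlt k g * a, ?_⟩
        show actA (DZero.dlt k g * a) _ = act g (actA a _)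
        rw [map_mul, actA_dlt, Module.End.mul_apply]
      · intro h
        refine top'_ne (F := F) (n := n) (k := k) ?_
        have h2 : P 1 ∈ LinearMap.range P := ⟨1, rfl⟩
        rw [h, Submodule.mem_bot] at h2
        simpa [P] using h2
    obtain ⟨b, hb⟩ : apt F n k ∈ LinearMap.range P := h1.symm ▸ apt_mem
    exact ⟨b, hb⟩
  refine ⟨b * DZero.sumK k UU * a₀, fun w hw => ?_⟩
  have ha : ∀ w ∈ stMod F n k,
      actA (b * DZero.sumK k UU * a₀) w = co w 1 • apt F n k := by
    intro w hw
    have h1 : eps (actA a₀ w) = co w 1 := by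
      have := LinearMap.congr_fun ha₀ (co w)
      simpa [L, comb_co hw] using this
    rw [map_mul, map_mul, Module.End.mul_apply, Module.End.mul_apply, DZero.sumK, map_sum,
      LinearMap.sum_apply]
    simp only [actA_dlt]
    rw [sum_act _ (actA_mem a₀ hw), map_smul, hb, h1]
  have : Fintype (SL ⧸ UU) := Fintype.ofFinite _
  rw [map_sum, LinearMap.sum_apply, DZero.sum_cosets UU]
  have hd : ∀ d : SL ⧸ UU, ∑ u : ↥UU, actA (DZero.dlt k (d.out * (u : SL)) *
      (b * DZero.sumK k UU * a₀) * DZero.dlt k (d.out * (u : SL))⁻¹) w = w := by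
    intro d
    have h1 : ∀ u : ↥UU, actA (DZero.dlt k (d.out * (u : SL)) *
        (b * DZero.sumK k UU * a₀) * DZero.dlt k (d.out * (u : SL))⁻¹) w =
        act d.out (co (act d.out⁻¹ w) u • act (u : SL) (apt F n k)) := by
      intro u
      rw [map_mul, map_mul, Module.End.mul_apply, Module.End.mul_apply, actA_dlt, actA_dlt,
        ha _ (act_mem _ hw), map_smul, map_smul, map_mul, Module.End.mul_apply]
      congr 1
      rw [_root_.mul_inv_rev, map_mul, Module.End.mul_apply,
        show ((u : SL)⁻¹) = ((u⁻¹ : ↥UU) : SL) from rfl, co_act_U, inv_inv, mul_one]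
    rw [Finset.sum_congr rfl fun u _ => h1 u, ← map_sum,
      show ∑ u : ↥UU, co (act d.out⁻¹ w) u • act (u : SL) (apt F n k) = act d.out⁻¹ w from ?_,
      ← Module.End.mul_apply, ← map_mul, mul_inv_cancel, map_one, Module.End.one_apply]
    conv_rhs => rw [← comb_co (act_mem d.out⁻¹ hw)]
    simp [comb, Fintype.linearCombination_apply]
  simp only [hd, Finset.sum_const, Finset.card_univ]
  rw [← Nat.cast_smul_eq_nsmul k, Subgroup.index, Nat.card_eq_fintype_card]

/-! ### Idempotents of defect zero -/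

variable [Fintype (Matrix.SpecialLinearGroup (Fin n) F)]
  (Δ : DZero.Data k (Matrix.SpecialLinearGroup (Fin n) F))

include p in
theorem orbit_sum_eq_zero {i j : Fin n} (h : (j : ℕ) = i + 1) {w : MonoidAlgebra k SL}
    (hfix : DZero.Fx UU w)
    (hT : ∑ t : F, DZero.dlt k (tv (ne_of_adj h) t * nE h : SL) * w = 0) (x : SL) :
    DZero.sumK k UU * (DZero.dlt k x * w) = 0 := by
  classical
  obtain ⟨u, hu, σ, m, hm, v, hv, rfl⟩ := bruhat x
  rw [← DZero.dlt_mul_mul, hfix v hv, ← DZero.dlt_mul_mul, ← mul_assoc,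
    DZero.sumK_mul_dlt UU hu]
  by_cases hσ : σ = Fin.revPerm
  swap
  · obtain ⟨a, b, hab, hlt⟩ := exists_ascent (π := σ⁻¹) (fun e => hσ (by
      rw [← inv_inv σ, e]; rfl))
    refine DZero.sumK_mul_dlt_mul_eq_zero (p := p) UU
      ⟨tv (ne_of_adj hab) 1, SLUni.tv_mem_U (lt_of_adj hab) 1⟩ ?_ m (hfix _ ?_)
    · refine orderOf_eq_prime ?_ ?_
      · refine Subtype.ext ?_
        have hp : ∀ r : ℕ, (tv (ne_of_adj hab) (1 : F) : SL) ^ r = tv (ne_of_adj hab) (r : F) := by
          intro r
          induction r with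
          | zero =>
            rw [pow_zero, Nat.cast_zero, Matrix.SpecialLinearGroup.transvection_coeff_zero]
          | succ r ih => rw [pow_succ, ih, ← xE_add hab, Nat.cast_succ]
        rw [Subgroup.coe_pow, hp, CharP.cast_eq_zero,
          Matrix.SpecialLinearGroup.transvection_coeff_zero, Subgroup.coe_one]
      · intro e
        have h1 := congrArg (fun g : ↥UU => (g : SL).1 a b) e
        simp [Matrix.SpecialLinearGroup.transvection_coe, ne_of_adj hab] at h1
    · show m⁻¹ * tv (ne_of_adj hab) 1 * m ∈ UU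
      intro x y hyx
      split_ifs with e
      · subst e
        rw [hm.conj_diag, SLUni.tv_apply, if_pos rfl, if_neg ?_, add_zero]
        rintro ⟨h1, h2⟩
        exact ne_of_adj hab (h1.trans h2.symm)
      · rw [hm.conj_zero, SLUni.tv_apply, if_neg (fun h => e (σ.injective h)), if_neg ?_, add_zero]
        rintro ⟨h1, h2⟩
        rw [h1, h2] at hlt
        simp at hlt
        exact absurd hlt (not_lt.2 hyx)
  subst hσ
  set m' := m * (nE h)⁻¹
  have hm' : IsMon (Fin.revPerm * Equiv.swap i j) m' := by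
    have := hm.mul (nE_isMon h).inv
    rwa [Equiv.swap_inv] at this
  have hin : ∀ t : F, m' * tv (ne_of_adj h) t * m'⁻¹ ∈ UU := by
    intro t a b hba
    have e1 : ∀ a : Fin n, ((Fin.revPerm : Equiv.Perm (Fin n)) * Equiv.swap i j)⁻¹ a = Equiv.swap i j (Fin.rev a) :=
      fun a => by simp [_root_.mul_inv_rev, Fin.revPerm]
    split_ifs with e
    · subst e
      rw [hm'.conj_diag', SLUni.tv_apply, if_pos rfl, if_neg ?_, add_zero]
      rintro ⟨h1, h2⟩
      exact ne_of_adj h (h1.trans h2.symm)
    · rw [hm'.conj_zero', e1, e1, SLUni.tv_apply,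
        if_neg (fun h => e (Fin.rev_injective ((Equiv.swap i j).injective h))), if_neg ?_, add_zero]
      rintro ⟨h1, h2⟩
      have ha : Fin.rev a = j := by
        rw [← Equiv.swap_apply_self i j (Fin.rev a), ← h1, Equiv.swap_apply_left]
      have hb : Fin.rev b = i := by
        rw [← Equiv.swap_apply_self i j (Fin.rev b), ← h2, Equiv.swap_apply_right]
      have := Fin.rev_le_rev.2 hba
      rw [ha, hb] at this
      exact absurd this (not_le.2 (lt_of_adj h))
  let φ : Multiplicative F →* ↥UU :=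
    { toFun := fun t => ⟨_, hin t.toAdd⟩
      map_one' := Subtype.ext (by simp)
      map_mul' := fun s t => Subtype.ext (by
        show m' * tv (ne_of_adj h) (s.toAdd + t.toAdd) * m'⁻¹ =
          m' * tv (ne_of_adj h) s.toAdd * m'⁻¹ * (m' * tv (ne_of_adj h) t.toAdd * m'⁻¹)
        rw [xE_add h]
        group) }
  have hφ : Function.Injective φ := (injective_iff_map_eq_one φ).2 fun t ht => by
    have h1 : m' * tv (ne_of_adj h) t.toAdd * m'⁻¹ = (1 : SL) := Subtype.ext_iff.1 ht
    have h2 : (tv (ne_of_adj h) t.toAdd : SL) = 1 := by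
      rw [show (tv (ne_of_adj h) t.toAdd : SL) =
        m'⁻¹ * (m' * tv (ne_of_adj h) t.toAdd * m'⁻¹) * m' by group, h1]
      group
    have h3 := congrArg (fun g : SL => g.1 i j) h2
    simpa [Matrix.SpecialLinearGroup.transvection_coe, ne_of_adj h] using h3
  set S := φ.range
  have : Fintype S := Fintype.ofFinite _
  have : Fintype (↥UU ⧸ S) := Fintype.ofFinite _
  let eS : Multiplicative F ≃ S := (MonoidHom.ofInjective hφ).toEquiv
  simp only [DZero.sumK, Finset.sum_mul, DZero.dlt_mul_mul]
  rw [DZero.sum_cosets S]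
  refine Finset.sum_eq_zero fun d _ => ?_
  rw [← eS.sum_comp]
  have h1 : ∀ t : Multiplicative F,
      DZero.dlt k (((d.out * (eS t : ↥UU) : ↥UU) : SL) * m) * w =
      DZero.dlt k ((d.out : SL) * m') *
        (DZero.dlt k (tv (ne_of_adj h) t.toAdd * nE h : SL) * w) := by
    intro t
    rw [DZero.dlt_mul_mul]
    congr 2
    show (d.out : SL) * (m' * tv (ne_of_adj h) t.toAdd * m'⁻¹) * m = _
    simp only [m']
    group
  simp only [h1, ← Finset.mul_sum]
  rw [show ∑ t : Multiplicative F, DZero.dlt k (tv (ne_of_adj h) t.toAdd * nE h : SL) * w =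
    ∑ t : F, DZero.dlt k (tv (ne_of_adj h) t * nE h : SL) * w from
    Fintype.sum_equiv Multiplicative.toAdd _ _ fun t => rfl, hT, mul_zero]

include p in
theorem torus_fix_sl {i j : Fin n} (h : (j : ℕ) = i + 1) {v : MonoidAlgebra k SL}
    (hv : v ∈ Δ.fixSpace UU) (c : Fˣ) : DZero.dlt k (hE h c : SL) * v = v := by
  classical
  exact DZero.torus_fix Δ (X := fun t => (tv (ne_of_adj h) t : SL))
    (Y := fun t => (tv (ne_of_adj h).symm t : SL)) (H := hE h) (N := nE h) (xE_add h) (hE_conj h)
    (nE_conj h) (nE_sq h) (big h) (nE_hE h) (cast_card (p := p))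
    (fun t => SLUni.tv_mem_U (lt_of_adj h) t) (fun c u hu => bor_conj_U (hE_isMon h c) hu)
    (fun u hu => shift h hu)
    (fun w hw hT => Δ.eq_zero_of_orbit_sums UU hw
      (orbit_sum_eq_zero (p := p) h hw.2 hT)) hv c

include p in
theorem op_fix {i j : Fin n} (h : (j : ℕ) = i + 1) {v : MonoidAlgebra k SL}
    (hv : v ∈ Δ.fixSpace UU) :
    ∑ t : F, DZero.dlt k (tv (ne_of_adj h) t * nE h : SL) * v = -v := by
  classical
  set T : MonoidAlgebra k SL → MonoidAlgebra k SL := fun w =>
    ∑ t : F, DZero.dlt k (tv (ne_of_adj h) t * nE h : SL) * w with hTdef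
  have hTS : ∀ w ∈ Δ.fixSpace UU, T w ∈ Δ.fixSpace UU := by
    rintro w ⟨hew, hfw⟩
    refine ⟨?_, fun u hu => ?_⟩
    · simp only [T, Finset.mul_sum]
      refine Finset.sum_congr rfl fun t _ => ?_
      rw [← mul_assoc, ← Δ.comm, mul_assoc, hew]
    · obtain ⟨a, ha⟩ := shift h hu
      simp only [T, Finset.mul_sum]
      refine Fintype.sum_equiv (Equiv.addLeft a) _ _ fun t => ?_
      obtain ⟨u', hu', he⟩ := ha t
      rw [DZero.dlt_mul_mul, he, ← DZero.dlt_mul_mul, hfw u' hu']
      rfl
  have hτ : ∀ w ∈ Δ.fixSpace UU, (∑ c : Fˣ, DZero.dlt k (hE h c : SL)) * w = -w := by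
    intro w hw
    rw [Finset.sum_mul, Finset.sum_congr rfl fun c _ => torus_fix_sl (p := p) Δ h hw c,
      Finset.sum_const, Finset.card_univ, ← Nat.cast_smul_eq_nsmul k, Fintype.card_units,
      Nat.cast_sub Fintype.card_pos, cast_card (p := p)]
    simp
  have hquad : T (T v) = - T v := by
    rw [← hτ _ (hTS v hv)]
    simp only [T]
    exact DZero.torus_quad (X := fun t => (tv (ne_of_adj h) t : SL))
      (Y := fun t => (tv (ne_of_adj h).symm t : SL)) (xE_add h) (hE_conj h) (nE_conj h) (nE_sq h)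
      (big h) (nE_hE h) (cast_card (p := p)) fun t => hv.2 _ (SLUni.tv_mem_U (lt_of_adj h) t)
  have h0 : T v + v = 0 := by
    have hmem : T v + v ∈ Δ.fixSpace UU := (Δ.fixSpace UU).add_mem (hTS v hv) hv
    refine Δ.eq_zero_of_orbit_sums UU hmem (orbit_sum_eq_zero (p := p) h hmem.2 ?_)
    show T (T v + v) = 0
    have : T (T v + v) = T (T v) + T v := by
      simp only [T, mul_add, Finset.sum_add_distrib]
    rw [this, hquad, neg_add_cancel]
  exact eq_neg_of_add_eq_zero_left h0

/-- A vector with the weight of the Steinberg module. -/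
structure IsStWt {V : Type*} [AddCommGroup V] [Module k V] (ρ : SL →* Module.End k V) (v : V) :
    Prop where
  fix : ∀ u ∈ UU, ρ u v = v
  tor : ∀ (i j : Fin n) (h : (j : ℕ) = i + 1) (c : Fˣ), ρ (hE h c) v = v
  op : ∀ (i j : Fin n) (h : (j : ℕ) = i + 1), ∑ t : F, ρ (tv (ne_of_adj h) t * nE h) v = -v

/-- The translates under the lower unitriangular group span an invariant subspace. -/
theorem span_stable {V : Type*} [AddCommGroup V] [Module k V] {ρ : SL →* Module.End k V} {v : V}
    (hv : IsStWt ρ v) (g : SL) :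
    ∀ w ∈ Submodule.span k (Set.range fun y : ↥(Um (F := F) (n := n)) => ρ (y : SL) v),
      ρ g w ∈ Submodule.span k (Set.range fun y : ↥(Um (F := F) (n := n)) => ρ (y : SL) v) := by
  classical
  set L := Submodule.span k (Set.range fun y : ↥(Um (F := F) (n := n)) => ρ (y : SL) v)
  have hgen : ∀ y ∈ Um (F := F) (n := n), ρ y v ∈ L := fun y hy =>
    Submodule.subset_span ⟨⟨y, hy⟩, rfl⟩
  have closed : ∀ x : SL, (∀ y ∈ Um (F := F) (n := n), ρ (x * y) v ∈ L) → ∀ w ∈ L, ρ x w ∈ L := by
    intro x hx w hw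
    induction hw using Submodule.span_induction with
    | mem w hw =>
      obtain ⟨y, rfl⟩ := hw
      rw [← Module.End.mul_apply, ← map_mul]
      exact hx y y.2
    | zero => rw [map_zero]; exact zero_mem _
    | add w w' _ _ h h' => rw [map_add]; exact add_mem h h'
    | smul r w _ h => rw [map_smul]; exact Submodule.smul_mem _ r h
  let X : Submonoid SL :=
    { carrier := {x | ∀ w ∈ L, ρ x w ∈ L}
      one_mem' := fun w hw => by simpa using hw
      mul_mem' := fun {x y} hx hy w hw => by
        rw [map_mul, Module.End.mul_apply]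
        exact hx _ (hy w hw) }
  let X' : Subgroup SL :=
    { X with
      inv_mem' := fun {x} hx => by
        rw [inv_eq_of_mul_eq_one_left (a := x ^ (orderOf x - 1)) (b := x) (by
          rw [← pow_succ, Nat.sub_add_cancel (orderOf_pos x), pow_orderOf_eq_one])]
        exact X.pow_mem hx _ }
  suffices h : X' = ⊤ by exact (show g ∈ X' by rw [h]; trivial)
  refine gen_lower (fun x hx => closed x fun y hy => hgen _ (mul_mem hx hy)) fun i j h => ?_
  refine closed _ fun y hy => ?_
  have hy2 : ∀ s : F, (tv (ne_of_adj h).symm s : SL) ∈ Um := fun s a b hab => by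
    rw [SLUni.tv_apply, if_neg (show ¬(j = a ∧ i = b) from fun ⟨h1, h2⟩ => by
      subst h1 h2; exact absurd hab (not_le.2 (lt_of_adj h))), add_zero]
  have hxn : ∀ t : F, t ≠ 0 →
      ρ (tv (ne_of_adj h) t * nE h) v = ρ (tv (ne_of_adj h).symm t⁻¹ : SL) v := by
    intro t ht
    have e : (tv (ne_of_adj h) t * nE h : SL) = tv (ne_of_adj h).symm t⁻¹ *
        hE h (-(Units.mk0 t ht)) * tv (ne_of_adj h) (-t⁻¹) := by
      simp only [xE_eq h, yE_eq h, hE_eq h, nE, ← map_mul]
      congr 1
      apply two_ext <;> simp only [two_mul_apply] <;> simp [x2, y2, d2, n2] <;> field_simp <;> ring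
    rw [e, map_mul, map_mul, Module.End.mul_apply, Module.End.mul_apply,
      hv.fix _ (SLUni.tv_mem_U (lt_of_adj h) _), hv.tor]
  obtain ⟨s, y', hy', hny, rfl⟩ := Um_split h hy
  rw [show (nE h * (y' * tv (ne_of_adj h).symm s) : SL) =
    nE h * y' * (nE h)⁻¹ * (nE h * tv (ne_of_adj h).symm s) by group, map_mul, Module.End.mul_apply]
  have hmain : ρ (nE h * tv (ne_of_adj h).symm s) v ∈ L := by
    rcases eq_or_ne s 0 with rfl | hs
    · rw [Matrix.SpecialLinearGroup.transvection_coeff_zero, mul_one]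
      have h1 := hv.op i j h
      rw [← Finset.add_sum_erase _ _ (Finset.mem_univ (0 : F)),
        Matrix.SpecialLinearGroup.transvection_coeff_zero, one_mul, ← eq_sub_iff_add_eq] at h1
      rw [h1]
      refine sub_mem (neg_mem ?_) (sum_mem fun t ht => ?_)
      · simpa using hgen 1 (one_mem _)
      · rw [hxn t (Finset.ne_of_mem_erase ht)]
        exact hgen _ (hy2 _)
    · have e : (nE h * tv (ne_of_adj h).symm s : SL) = tv (ne_of_adj h) (-s) * nE h := by
        simp only [xE_eq h, yE_eq h, nE, ← map_mul]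
        congr 1
        apply two_ext <;> simp only [two_mul_apply] <;> simp [x2, y2, n2]
      rw [e, hxn _ (neg_ne_zero.2 hs)]
      exact hgen _ (hy2 _)
  revert hmain
  generalize ρ (nE h * tv (ne_of_adj h).symm s) v = w
  intro hw
  induction hw using Submodule.span_induction with
  | mem w hw =>
    obtain ⟨z, rfl⟩ := hw
    rw [← Module.End.mul_apply, ← map_mul]
    exact hgen _ (mul_mem hny z.2)
  | zero => rw [map_zero]; exact zero_mem _
  | add w w' _ _ h h' => rw [map_add]; exact add_mem h h'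
  | smul r w _ h => rw [map_smul]; exact Submodule.smul_mem _ r h

include p in
set_option maxHeartbeats 1000000 in
/-- An idempotent of defect zero fixes the Steinberg module. -/
theorem actA_data (hΔ : Δ.e ≠ 0) {w : CC → k} (hw : w ∈ stMod F n k) : actA Δ.e w = w := by
  classical
  -- a fixed vector in the ideal
  let I : Submodule k (MonoidAlgebra k SL) :=
    LinearMap.ker (LinearMap.mulLeft k Δ.e - LinearMap.id)
  have hI : ∀ x, x ∈ I ↔ Δ.e * x = x := fun x => by simp [I, sub_eq_zero]
  let ρI : ↥UU →* Module.End k I :=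
    { toFun := fun u => (LinearMap.mulLeft k (DZero.dlt k (u : SL))).restrict fun x hx => by
        rw [hI] at hx ⊢
        show Δ.e * (DZero.dlt k (u : SL) * x) = DZero.dlt k (u : SL) * x
        rw [← mul_assoc, ← Δ.comm, mul_assoc, hx]
      map_one' := by
        refine LinearMap.ext fun x => Subtype.ext ?_
        show DZero.dlt k (1 : SL) * x.1 = x.1
        rw [DZero.dlt_one, one_mul]
      map_mul' := fun u u' => by
        refine LinearMap.ext fun x => Subtype.ext ?_
        show DZero.dlt k ((u : SL) * (u' : SL)) * x.1 =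
          DZero.dlt k (u : SL) * (DZero.dlt k (u' : SL) * x.1)
        rw [DZero.dlt_mul_mul] }
  obtain ⟨⟨v, hvI⟩, hv0, hvfix⟩ := exists_fixed (p := p) isPGroup_UU ρI
    (w0 := ⟨Δ.e, (hI _).2 Δ.idem⟩) (fun e => hΔ (congrArg Subtype.val e))
  replace hv0 : v ≠ 0 := fun e => hv0 (Subtype.ext e)
  have hv : v ∈ Δ.fixSpace UU := ⟨(hI _).1 hvI, fun u hu => congrArg Subtype.val (hvfix ⟨u, hu⟩)⟩
  -- the diagonal submodule
  let ρP : SL →* Module.End k (MonoidAlgebra k SL × (CC → k)) :=
    { toFun := fun g => (LinearMap.mulLeft k (DZero.dlt k g)).prodMap (act g)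
      map_one' := by
        refine LinearMap.ext fun x => Prod.ext ?_ ?_ <;> simp [DZero.dlt_one]
      map_mul' := fun g g' => by
        refine LinearMap.ext fun x => Prod.ext ?_ ?_
        · show DZero.dlt k (g * g') * x.1 = DZero.dlt k g * (DZero.dlt k g' * x.1)
          rw [DZero.dlt_mul_mul]
        · show act (g * g') x.2 = act g (act g' x.2)
          rw [map_mul]; rfl }
  set P : MonoidAlgebra k SL × (CC → k) := (v, top' F n k)
  have hP : IsStWt ρP P := by
    refine ⟨fun u hu => Prod.ext (hv.2 u hu) (act_U_top' hu), fun i j h c => Prod.ext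
      (torus_fix_sl (p := p) Δ h hv c) (diag_top' (hE_isMon h c)), fun i j h => Prod.ext ?_ ?_⟩
    · rw [Prod.fst_sum]
      exact op_fix (p := p) Δ h hv
    · rw [Prod.snd_sum]
      exact op_top' (p := p) h
  set L := Submodule.span k (Set.range fun y : ↥(Um (F := F) (n := n)) => ρP (y : SL) P) with hLdef
  have : Fintype ↥(Um (F := F) (n := n)) := Fintype.ofFinite _
  have hcard : Fintype.card ↥(Um (F := F) (n := n)) = Fintype.card ↥UU := by
    obtain ⟨m, hm⟩ := exists_isMon (F := F) (Fin.revPerm : Equiv.Perm (Fin n))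
    refine Fintype.card_congr
      { toFun := fun y => ⟨m⁻¹ * y * m, (isMon_rev_conj hm).2 (by
          rw [show m * (m⁻¹ * (y : SL) * m) * m⁻¹ = y by group]; exact y.2)⟩
        invFun := fun u => ⟨m * u * m⁻¹, (isMon_rev_conj hm).1 u.2⟩
        left_inv := fun y => Subtype.ext (by simp [mul_assoc])
        right_inv := fun u => Subtype.ext (by simp [mul_assoc]) }
  have hLle : Module.finrank k L ≤ Fintype.card ↥UU := hcard ▸ finrank_range_le_card _
  have hPL : P ∈ L := by
    have : ρP (((1 : ↥(Um (F := F) (n := n))) : SL)) P ∈ L := Submodule.subset_span ⟨1, rfl⟩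
    rwa [Subgroup.coe_one, map_one, Module.End.one_apply] at this
  have hLst := span_stable hP
  have : Module.Finite k L := Module.Finite.span_of_finite k (Set.finite_range _)
  set π : L →ₗ[k] (CC → k) := LinearMap.snd k _ _ ∘ₗ L.subtype
  have hπW : stMod F n k ≤ LinearMap.range π := by
    set N := LinearMap.range π ⊓ stMod F n k
    have h1 : N = stMod F n k := eq_stMod_of_stable (p := p) inf_le_right (by
      rintro g x ⟨⟨⟨y, hy⟩, rfl⟩, hx⟩
      exact ⟨⟨⟨_, hLst g y hy⟩, rfl⟩, act_mem g hx⟩) (by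
        rw [Submodule.ne_bot_iff]
        exact ⟨_, ⟨⟨⟨P, hPL⟩, rfl⟩, top'_mem⟩, top'_ne⟩)
    exact h1 ▸ inf_le_left
  have hπinj : Function.Injective π := by
    rw [← LinearMap.ker_eq_bot, ← Submodule.finrank_eq_zero]
    have h1 := π.finrank_range_add_finrank_ker
    have h2 := Submodule.finrank_mono hπW
    have h3 : Module.finrank k (stMod F n k) = Fintype.card ↥UU := by
      rw [stMod, LinearMap.finrank_range_of_inj
        (Function.LeftInverse.injective (g := co) co_comb), Module.finrank_pi]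
    omega
  -- the idempotent
  have hmemA : ∀ a : MonoidAlgebra k SL, (a * v, actA a (top' F n k)) ∈ L := by
    intro a
    induction a using MonoidAlgebra.induction_linear with
    | zero => simp only [zero_mul, map_zero, LinearMap.zero_apply]; exact zero_mem _
    | add x y hx hy =>
      simp only [add_mul, map_add, LinearMap.add_apply]
      exact add_mem hx hy
    | single g r =>
      rw [show (single g r : MonoidAlgebra k SL) = r • DZero.dlt k g by simp [DZero.dlt], map_smul,
        LinearMap.smul_apply, smul_mul_assoc, actA_dlt]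
      have e : ρP g P = (DZero.dlt k g * v, act g (top' F n k)) := rfl
      have h1 := L.smul_mem r (hLst g P hPL)
      rw [e, Prod.smul_mk] at h1
      exact h1
  have hne : actA Δ.e (top' F n k) ≠ 0 := by
    intro h0
    have h1 := hmemA Δ.e
    rw [hv.1, h0] at h1
    exact hv0 (congrArg Prod.fst (congrArg Subtype.val
      (hπinj (show π ⟨_, h1⟩ = π 0 by simp [π]))))
  set K := stMod F n k ⊓ LinearMap.ker (actA Δ.e)
  have hK : K = ⊥ := by
    by_contra hKne
    have h1 := eq_stMod_of_stable (p := p) inf_le_left (by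
      rintro g x ⟨hx, hx0⟩
      refine ⟨act_mem g hx, ?_⟩
      show actA Δ.e (act g x) = 0
      rw [← actA_dlt, ← Module.End.mul_apply, ← map_mul, ← Δ.comm, map_mul, Module.End.mul_apply,
        show actA Δ.e x = 0 from hx0, map_zero]) hKne
    have h2 : top' F n k ∈ K := by rw [show K = stMod F n k from h1]; exact top'_mem
    exact hne h2.2
  have h1 : actA Δ.e w - w ∈ K := by
    refine ⟨sub_mem (actA_mem _ hw) hw, ?_⟩
    show actA Δ.e (actA Δ.e w - w) = 0
    rw [map_sub, ← Module.End.mul_apply, ← map_mul, Δ.idem, sub_self]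
  rw [hK, Submodule.mem_bot, sub_eq_zero] at h1
  exact h1

end Module

/-- The upper unitriangular group is a Sylow subgroup. -/
theorem exists_sylow_eq (p : ℕ) [Fact p.Prime] [CharP F p] :
    ∃ P : Sylow p SL, (P : Subgroup SL) = UU := by
  have := Fintype.ofFinite ↥(SLUni.U F n)
  obtain ⟨P, hP⟩ := (isPGroup_UU (p := p) (F := F) (n := n)).exists_le_sylow
  refine ⟨P, le_antisymm ?_ hP⟩
  by_contra hne
  have hlt : (UU).subgroupOf (P : Subgroup SL) < ⊤ := by
    rw [lt_top_iff_ne_top, Ne, Subgroup.subgroupOf_eq_top]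
    exact hne
  have := (P.2 : IsPGroup p ↥(P : Subgroup SL)).isNilpotent
  have hN := Group.normalizerCondition_of_isNilpotent _ hlt
  obtain ⟨x, hxN, hxU⟩ := SetLike.exists_of_lt hN
  apply hxU
  rw [Subgroup.mem_subgroupOf]
  obtain ⟨r, hr⟩ := P.2 x
  refine SLUni.pElement_mem (p := p) ?_ r ?_
  · rw [Subgroup.mem_normalizer_iff] at hxN ⊢
    intro g
    constructor
    · intro hg
      exact (hxN ⟨g, hP hg⟩).1 hg
    · intro hg
      have h1 : g ∈ (P : Subgroup SL) := by
        have h2 := mul_mem (mul_mem (inv_mem x.2) (hP hg)) x.2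
        simpa [mul_assoc] using h2
      exact (hxN ⟨g, h1⟩).2 hg
  · exact congrArg Subtype.val hr

end CfsgLib.KnownB.SLSt
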