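import Mathlib
import Cfsg.Agent.Lib.KnownB.SLSteinberg
import Cfsg.Agent.Lib.Block.Blocks
import Cfsg.Agent.Lib.Block.LamZero
import Cfsg.Agent.Lib.Block.DefectOrder
import Cfsg.Agent.Lib.Block.FirstMain
import Cfsg.Agent.Lib.Classical.SLOrder
import Cfsg.Agent.Lib.Solvable.PCore
import Cfsg.Agent.S0953
import Cfsg.Agent.S0955
import Cfsg.Agent.S2391

/-!
The blocks of `SL_n(q)` in the defining characteristic: one of defect zero and one of full defect for
each central element.
-/

set_option autoImplicit false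
set_option linter.unusedSectionVars false

namespace CfsgLib.KnownB.SLSt

open Cfsg MonoidAlgebra CfsgLib.Block CfsgLib.Fusion

universe u

section General

variable {G : Type u} [Group G] [Finite G] {p : ℕ} [Fact p.Prime] {M : Ideal AlgInt} [M.IsPrime]
  (hM : IsPModular p M)
include hM

/-- A central character which is nonzero on an element supported on classes of defect zero belongs
to a block of defect zero. -/
theorem defect_zero_of_lam {χ : IrrCharacter G}
    {z : Subalgebra.center (kres M) (MonoidAlgebra (kres M) G)} (hz : lam M χ z ≠ 0)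
    (hsupp : ∀ g : G, (z : MonoidAlgebra (kres M) G).coeff g ≠ 0 →
      ∀ s : G, orderOf s = p → s * g ≠ g * s) :
    blockDefect p (blockOf M (χ : G → ℂ)) = 0 := by
  classical
  have hB : IsPBlock M (blockOf M (χ : G → ℂ)) := isPBlock_blockOf χ
  obtain ⟨g, hg1, hg2⟩ := exists_classSumZ_of_lam_ne_zero hM hB (mem_blockOf_self χ) hz
  obtain ⟨g₀, hg₀⟩ := exists_isDefectClass hM hB
  obtain ⟨x, hx⟩ := exists_defect_le_conj hM hB hg₀ (Classical.arbitrary _) (mem_blockOf_self χ) hg2
    (Classical.arbitrary _)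
  have hD : IsDefectGroup p M (blockOf M (χ : G → ℂ)) (cenSub g₀
      ((Classical.arbitrary (Sylow p (Subgroup.centralizer ({g₀} : Set G)))) :
        Subgroup (Subgroup.centralizer ({g₀} : Set G)))) := ⟨g₀, hg₀, _, rfl⟩
  have hbot : (cenSub g ((Classical.arbitrary (Sylow p (Subgroup.centralizer ({g} : Set G)))) :
      Subgroup (Subgroup.centralizer ({g} : Set G)))) = ⊥ := by
    rw [Subgroup.eq_bot_iff_forall]
    intro y hy
    by_contra hy1
    obtain ⟨r, hr⟩ := (isPGroup_cenSub g _) ⟨y, hy⟩
    have hr' : y ^ p ^ r = 1 := congrArg Subtype.val hr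
    have hord : p ∣ orderOf y := by
      obtain ⟨m, -, hm⟩ := (Nat.dvd_prime_pow Fact.out).1 (orderOf_dvd_of_pow_eq_one hr')
      rcases m with _ | m
      · exact absurd (orderOf_eq_one_iff.1 (by simpa using hm)) hy1
      · rw [hm]; exact dvd_pow_self p m.succ_ne_zero
    refine hsupp g hg1 (y ^ (orderOf y / p)) ?_
      (Subgroup.mem_centralizer_singleton_iff.1
        ((Subgroup.centralizer ({g} : Set G)).pow_mem (cenSub_le g _ hy) _))
    exact orderOf_pow_orderOf_div (orderOf_pos y).ne' hord
  rw [hbot, Subgroup.map_bot, le_bot_iff] at hx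
  have h := natCard_defectGroup hM hB hD
  rw [hx, Subgroup.card_bot] at h
  rcases Nat.pow_eq_one.1 h.symm with h1 | h1
  · exact absurd h1 (Fact.out : p.Prime).ne_one
  · exact h1

/-- A block of defect zero gives idempotent data. -/
theorem exists_data_of_defect_zero [Fintype G] {B : Set (IrrCharacter G)} (hB : IsPBlock M B)
    (hd : blockDefect p B = 0) :
    ∃ Δ : DZero.Data (kres M) G, Δ.e = (blkIdem M B : MonoidAlgebra (kres M) G) := by
  classical
  have := charP_kres (M := M) hM
  obtain ⟨χ, hχ⟩ := isPBlock_nonempty hB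
  obtain ⟨g, hg⟩ := exists_isDefectClass hM hB
  set c := Nat.card (Subgroup.centralizer ({g} : Set G))
  have hc : ¬ p ∣ c := by
    intro hdvd
    have h1 := blockDefect_eq hM hB hg
    rw [hd] at h1
    have := (Fact.out : p.Prime).factorization_pos_of_dvd Nat.card_pos.ne' hdvd
    omega
  have hc0 : (c : kres M) ≠ 0 := fun h => hc ((CharP.cast_eq_zero_iff (kres M) p c).1 h)
  obtain ⟨w, hw⟩ := exists_blkIdem_eq_mul hM hB hχ ((isDefectClass_iff hM hB hχ g).1 hg).2
  refine ⟨⟨(blkIdem M B : MonoidAlgebra (kres M) G),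
    (c : kres M)⁻¹ • (DZero.dlt (kres M) g * (w : MonoidAlgebra (kres M) G)),
    Subalgebra.mem_center_iff.1 (blkIdem M B).2, congrArg Subtype.val (blkIdem_idem hM hB), ?_⟩, rfl⟩
  have hwc := Subalgebra.mem_center_iff.1 w.2
  rw [hw, MulMemClass.coe_mul]
  have hclass : ∑ h : G, DZero.dlt (kres M) h * DZero.dlt (kres M) g * DZero.dlt (kres M) h⁻¹ =
      (c : kres M) • classSum (kres M) g := by
    ext x
    simp only [DZero.dlt_mul]
    simp only [coeff_sum, Finset.sum_apply', DZero.dlt, coeff_single,
      Finsupp.single_apply, coeff_smul, Finsupp.smul_apply, coeff_classSum, smul_eq_mul]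
    by_cases hx : IsConj g x
    · obtain ⟨y, rfl⟩ := isConj_iff.1 hx
      rw [if_pos hx, mul_one, Finset.sum_boole]
      congr 1
      rw [Finset.card_filter, ← Finset.card_filter]
      refine ((Nat.card_congr ?_).trans (Nat.card_eq_fintype_card.trans
        (Fintype.card_of_subtype _ fun h => Finset.mem_filter.trans
          (and_iff_right (Finset.mem_univ h))))).symm
      exact
        { toFun := fun a => ⟨y * (a : G), by
            have := Subgroup.mem_centralizer_singleton_iff.1 a.2
            calc y * (a : G) * g * (y * (a : G))⁻¹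
                = y * ((a : G) * g) * (a : G)⁻¹ * y⁻¹ := by group
              _ = y * (g * (a : G)) * (a : G)⁻¹ * y⁻¹ := by rw [this]
              _ = _ := by group⟩
          invFun := fun h => ⟨y⁻¹ * h.1, Subgroup.mem_centralizer_singleton_iff.2 (by
            have := h.2
            calc y⁻¹ * h.1 * g = y⁻¹ * (h.1 * g * h.1⁻¹) * h.1 := by group
              _ = y⁻¹ * (y * g * y⁻¹) * h.1 := by rw [this]
              _ = g * (y⁻¹ * h.1) := by group)⟩
          left_inv := fun a => Subtype.ext (by simp)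
          right_inv := fun h => Subtype.ext (by simp) }
    · rw [if_neg hx, mul_zero]
      refine Finset.sum_eq_zero fun h _ => if_neg fun e => hx (isConj_iff.2 ⟨h, e⟩)
  calc ∑ h : G, DZero.dlt (kres M) h *
      ((c : kres M)⁻¹ • (DZero.dlt (kres M) g * (w : MonoidAlgebra (kres M) G))) *
      DZero.dlt (kres M) h⁻¹
      = ∑ h : G, (c : kres M)⁻¹ • (DZero.dlt (kres M) h * DZero.dlt (kres M) g *
          DZero.dlt (kres M) h⁻¹ * (w : MonoidAlgebra (kres M) G)) := by
        refine Finset.sum_congr rfl fun h _ => ?_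
        rw [mul_smul_comm, smul_mul_assoc, mul_assoc, mul_assoc (DZero.dlt (kres M) g),
          ← hwc (DZero.dlt (kres M) h⁻¹)]
        simp only [mul_assoc]
    _ = _ := by
        rw [← Finset.smul_sum, ← Finset.sum_mul, hclass, smul_mul_assoc, smul_smul,
          inv_mul_cancel₀ hc0, one_smul]
        rfl

/-- With a defect group over `Q`, the `p`-th power of a central character value is a class size times
a value at a central element. -/
theorem lam_pow {B : Set (IrrCharacter G)} (hB : IsPBlock M B) {χ : IrrCharacter G} (hχ : χ ∈ B)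
    {D Q : Subgroup G} (hD : IsDefectGroup p M B D) (hQ : IsPGroup p Q) (hQD : Q ≤ D)
    (hcomm : ∀ y ∈ Subgroup.centralizer (Q : Set G), ∀ y' ∈ Subgroup.centralizer (Q : Set G),
      y * y' = y' * y)
    (hpow : ∀ y ∈ Subgroup.centralizer (Q : Set G), y ^ p ∈ Subgroup.center G) (x : G) :
    lam M χ (classSumZ (kres M) x) ^ p = (Nat.card (ConjClasses.mk x).carrier : kres M) *
      lam M χ (classSumZ (kres M) (x ^ p)) ∧
    ((Nat.card (ConjClasses.mk x).carrier : kres M) ≠ 0 → x ^ p ∈ Subgroup.center G) := by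
  classical
  have := Fintype.ofFinite G
  have := charP_kres (M := M) hM
  set C := Subgroup.centralizer (Q : Set G) with hC
  set S := Finset.univ.filter fun y : G => IsConj x y ∧ y ∈ C with hS
  -- fixed points of `Q`
  have hcount : (Nat.card (ConjClasses.mk x).carrier : kres M) = (S.card : kres M) := by
    let _ : MulAction Q G :=
      { smul := fun q y => (q : G) * y * (q : G)⁻¹
        one_smul := fun y => by change (1 : G) * y * (1 : G)⁻¹ = y; simp
        mul_smul := fun q r y => by
          change ((q * r : Q) : G) * y * ((q * r : Q) : G)⁻¹ =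
            (q : G) * ((r : G) * y * (r : G)⁻¹) * (q : G)⁻¹
          push_cast
          group }
    have h0 : (Nat.card (ConjClasses.mk x).carrier : kres M) =
        ∑ y : G, (if IsConj x y then 1 else 0 : kres M) := by
      rw [Finset.sum_boole, Nat.card_eq_fintype_card, Fintype.card_of_subtype]
      intro y
      simp only [Finset.mem_filter, Finset.mem_univ, true_and, ConjClasses.mem_carrier_iff_mk_eq,
        ConjClasses.mk_eq_mk_iff_isConj]
      exact isConj_comm
    rw [h0, sum_eq_sum_fixed hQ (fun v : kres M => by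
      rw [nsmul_eq_mul, CharP.cast_eq_zero, zero_mul]), Finset.sum_boole, hS, Finset.filter_filter]
    · congr 2
      refine Finset.filter_congr fun y _ => ?_
      rw [and_comm, hC, Subgroup.mem_centralizer_iff]
      refine and_congr_right fun _ => ⟨fun h q hq => ?_, fun h q => ?_⟩
      · have h1 : q * y * q⁻¹ = y := h ⟨q, hq⟩
        exact mul_inv_eq_iff_eq_mul.1 h1
      · change (q : G) * y * (q : G)⁻¹ = y
        rw [h q q.2]; group
    · intro q y
      change (if IsConj x ((q : G) * y * (q : G)⁻¹) then 1 else 0 : kres M) = _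
      have : IsConj x ((q : G) * y * (q : G)⁻¹) ↔ IsConj x y :=
        ⟨fun h => h.trans (isConj_iff.2 ⟨(q : G)⁻¹, by group⟩),
          fun h => h.trans (isConj_iff.2 ⟨q, rfl⟩)⟩
      simp only [this]
  have hpy : ∀ y ∈ S, y ^ p = x ^ p := by
    intro y hy
    obtain ⟨hxy, hyC⟩ := (Finset.mem_filter.1 hy).2
    obtain ⟨c, hc⟩ := isConj_iff.1 hxy
    have hz := Subgroup.mem_center_iff.1 (hpow y hyC) c
    have h1 : c * x ^ p * c⁻¹ = y ^ p := by rw [← conj_pow, hc]
    have h2 : x ^ p = c⁻¹ * (y ^ p * c) := by rw [← h1]; group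
    rw [h2, ← hz]
    group
  refine ⟨?_, fun hne => ?_⟩
  swap
  · obtain ⟨y, hy⟩ : S.Nonempty := Finset.card_ne_zero.1 fun h0 => hne (by rw [hcount, h0]; simp)
    rw [← hpy y hy]
    exact hpow y (Finset.mem_filter.1 hy).2.2
  rw [hcount, ← map_pow]
  set z : Subalgebra.center (kres M) (MonoidAlgebra (kres M) G) :=
    classSumZ (kres M) x ^ p - (S.card : kres M) • classSumZ (kres M) (x ^ p) with hzdef
  suffices hz : lam M χ z = 0 by
    rw [hzdef, map_sub, sub_eq_zero, map_smul, smul_eq_mul] at hz
    exact hz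
  -- `z` vanishes on the centraliser of `Q`
  have hvan : ∀ y ∈ C, (z : MonoidAlgebra (kres M) G).coeff y = 0 := by
    intro y hy
    have hsum : brRes Q C (classSum (kres M) x) =
        ∑ s ∈ S.attach, DZero.dlt (kres M) (⟨s.1, (Finset.mem_filter.1 s.2).2.2⟩ : C) := by
      ext h
      rw [coeff_brRes_of_mem _ h.2, coeff_classSum]
      simp only [coeff_sum, Finset.sum_apply', DZero.dlt, coeff_single, Finsupp.single_apply]
      by_cases hx : IsConj x (h : G)
      · rw [if_pos hx, Finset.sum_eq_single ⟨(h : G), Finset.mem_filter.2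
          ⟨Finset.mem_univ _, hx, h.2⟩⟩, if_pos (Subtype.ext rfl)]
        · intro s _ hs
          exact if_neg fun e => hs (Subtype.ext (congrArg (fun c : C => (c : G)) e))
        · simp
      · rw [if_neg hx, Finset.sum_eq_zero]
        intro s _
        exact if_neg fun e => hx (by
          rw [← congrArg (fun c : C => (c : G)) e]; exact (Finset.mem_filter.1 s.2).2.1)
    have hcl : ∀ a : Subalgebra.center (kres M) (MonoidAlgebra (kres M) G),
        IsPInv Q (a : MonoidAlgebra (kres M) G) := fun a =>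
      isPInv_of_isClassCoeff (isClassCoeff_center a) Q
    have hbrpow : ∀ m : ℕ, brRes Q C (((classSumZ (kres M) x) ^ m :
        Subalgebra.center (kres M) (MonoidAlgebra (kres M) G)) : MonoidAlgebra (kres M) G) =
        brRes Q C (classSum (kres M) x) ^ m := by
      intro m
      induction m with
      | zero => rw [pow_zero, pow_zero, OneMemClass.coe_one, brRes_one]
      | succ m ih =>
        rw [pow_succ, pow_succ, MulMemClass.coe_mul, brRes_mul hQ le_rfl (hcl _) (hcl _), ih]
        rfl
    have hfrob : brRes Q C (classSum (kres M) x) ^ p =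
        ∑ s ∈ S.attach, DZero.dlt (kres M) (⟨s.1, (Finset.mem_filter.1 s.2).2.2⟩ ^ p : C) := by
      have : CharP (MonoidAlgebra (kres M) C) p :=
        charP_of_injective_algebraMap (algebraMap (kres M) (MonoidAlgebra (kres M) C)).injective p
      rw [hsum]
      generalize S.attach = T
      induction T using Finset.induction with
      | empty => simp [zero_pow (Fact.out : p.Prime).ne_zero]
      | insert a T ha ih =>
        rw [Finset.sum_insert ha, Finset.sum_insert ha, add_pow_char_of_commute, ih]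
        · congr 1
          simp [DZero.dlt, single_pow]
        · refine Commute.sum_right _ _ _ fun b _ => ?_
          show DZero.dlt _ _ * DZero.dlt _ _ = DZero.dlt _ _ * DZero.dlt _ _
          rw [DZero.dlt_mul, DZero.dlt_mul]
          congr 1
          exact Subtype.ext (hcomm _ (Finset.mem_filter.1 a.2).2.2 _ (Finset.mem_filter.1 b.2).2.2)
    have h1 := congrArg (fun a => a.coeff (⟨y, hy⟩ : C)) ((hbrpow p).trans hfrob)
    rw [coeff_brRes_of_mem _ (show ((⟨y, hy⟩ : C) : G) ∈ Subgroup.centralizer (Q : Set G) from hy)]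
      at h1
    simp only [coeff_sum, Finset.sum_apply', DZero.dlt, coeff_single, Finsupp.single_apply] at h1
    rw [hzdef]
    simp only [AddSubgroupClass.coe_sub, SetLike.val_smul, coeff_sub, Finsupp.sub_apply,
      coeff_smul, Finsupp.smul_apply, smul_eq_mul]
    rw [h1, sub_eq_zero, show ((classSumZ (kres M) (x ^ p) : Subalgebra.center (kres M)
      (MonoidAlgebra (kres M) G)) : MonoidAlgebra (kres M) G) = classSum (kres M) (x ^ p) from rfl,
      coeff_classSum]
    have hcase : ∀ s : {s // s ∈ S},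
        ((⟨s.1, (Finset.mem_filter.1 s.2).2.2⟩ ^ p : C) = ⟨y, hy⟩) ↔ x ^ p = y := by
      intro s
      rw [Subtype.ext_iff, SubgroupClass.coe_pow, hpy _ s.2]
    simp only [hcase]
    by_cases hyx : x ^ p = y
    · simp only [if_pos hyx, Finset.sum_const, Finset.card_attach, nsmul_eq_mul, mul_one]
      rw [if_pos (hyx ▸ IsConj.refl _), mul_one]
    · simp only [if_neg hyx, Finset.sum_const_zero]
      rcases Finset.eq_empty_or_nonempty S with hS0 | ⟨s, hs⟩
      · simp [hS0]
      · rw [if_neg, mul_zero]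
        intro hc
        obtain ⟨c, hc⟩ := isConj_iff.1 hc
        apply hyx
        rw [← hc, ← hpy s hs]
        have := Subgroup.mem_center_iff.1 (hpow s (Finset.mem_filter.1 hs).2.2) c
        rw [this]; group
  by_contra hne
  obtain ⟨g, hg1, hg2⟩ := exists_classSumZ_of_lam_ne_zero hM hB hχ hne
  obtain ⟨g₀, hg₀, P, rfl⟩ := hD
  obtain ⟨c, hc⟩ := exists_defect_le_conj hM hB hg₀ P hχ hg2 (Classical.arbitrary _)
  apply hg1
  rw [← isClassCoeff_center z g c]
  refine hvan _ ?_
  rw [hC, Subgroup.mem_centralizer_iff]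
  intro q hq
  have h1 := hc (hQD hq)
  rw [mem_map_conj_iff] at h1
  have h2 := Subgroup.mem_centralizer_singleton_iff.1 (cenSub_le g _ h1)
  calc q * (c * g * c⁻¹) = c * ((c⁻¹ * q * c) * g) * c⁻¹ := by group
    _ = c * (g * (c⁻¹ * q * c)) * c⁻¹ := by rw [h2]
    _ = _ := by group

omit hM

/-- The class sum of a central element is that element. -/
theorem classSumZ_central_mul {z w : G} (hz : z ∈ Subgroup.center G) (hw : w ∈ Subgroup.center G) :
    classSumZ (kres M) z * classSumZ (kres M) w = classSumZ (kres M) (z * w) := by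
  classical
  have h : ∀ z ∈ Subgroup.center G, classSum (kres M) z = DZero.dlt (kres M) z := by
    intro z hz
    ext y
    rw [coeff_classSum, DZero.dlt, coeff_single, Finsupp.single_apply]
    congr 1
    refine propext ⟨fun hc => ?_, fun e => e ▸ IsConj.refl _⟩
    obtain ⟨c, hc⟩ := isConj_iff.1 hc
    rw [← hc, Subgroup.mem_center_iff.1 hz c]
    group
  refine Subtype.ext ?_
  show classSum (kres M) z * classSum (kres M) w = classSum (kres M) (z * w)
  rw [h z hz, h w hw, h _ (mul_mem hz hw), DZero.dlt_mul]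

variable (M) in
/-- The central character on the centre. -/
noncomputable def cenHom (χ : IrrCharacter G) : ↥(Subgroup.center G) →* kres M where
  toFun z := lam M χ (classSumZ (kres M) (z : G))
  map_one' := by
    classical
    rw [Subgroup.coe_one, show classSumZ (kres M) (1 : G) = 1 from Subtype.ext (by
      show classSum (kres M) (1 : G) = 1
      ext y
      rw [coeff_classSum, one_def, coeff_single, Finsupp.single_apply]
      congr 1
      refine propext ⟨fun hc => ?_, fun e => e ▸ IsConj.refl _⟩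
      obtain ⟨c, hc⟩ := isConj_iff.1 hc
      simpa using hc), map_one]
  map_mul' z w := by
    rw [← map_mul, classSumZ_central_mul z.2 w.2]
    rfl

theorem cenHom_apply (χ : IrrCharacter G) (z : ↥(Subgroup.center G)) :
    cenHom M χ z = lam M χ (classSumZ (kres M) (z : G)) := rfl

theorem card_monoidHom_le {H : Type*} [Group H] [Finite H] {L : Type*} [Field L]
    (s : Finset (H →* L)) : s.card ≤ Nat.card H := by
  classical
  have := Fintype.ofFinite H
  have h := (linearIndependent_monoidHom H L).comp (fun f : {f // f ∈ s} => f.1)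
    Subtype.val_injective
  have h1 := h.fintype_card_le_finrank
  rw [Module.finrank_pi, Fintype.card_coe, ← Nat.card_eq_fintype_card] at h1
  exact h1

end General

/-! ### The special linear group -/

variable {F : Type u} [Field F] [Fintype F] {n : ℕ}

local notation "SL" => Matrix.SpecialLinearGroup (Fin n) F

/-- A nontrivial `p`-subgroup which is the largest normal `p`-subgroup of its normaliser contains a
subgroup with small centraliser. -/
theorem exists_small (p : ℕ) [Fact p.Prime] [CharP F p] {D : Subgroup SL} (hDp : IsPGroup p ↥D)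
    (hne : D ≠ ⊥)
    (hcore : ∀ R : Subgroup SL, IsPGroup p ↥R → R ≤ Subgroup.normalizer (D : Set SL) →
      (∀ g ∈ Subgroup.normalizer (D : Set SL), ∀ r ∈ R, g * r * g⁻¹ ∈ R) → R ≤ D) :
    ∃ Q : Subgroup SL, Q ≤ D ∧ IsPGroup p ↥Q ∧
      (∀ y ∈ Subgroup.centralizer (Q : Set SL), ∀ y' ∈ Subgroup.centralizer (Q : Set SL),
        y * y' = y' * y) ∧
      (∀ y ∈ Subgroup.centralizer (Q : Set SL), y ^ p ∈ Subgroup.center SL) ∧
      ∀ y ∈ Subgroup.centralizer (Q : Set SL), ¬ p ∣ orderOf y → y ∈ Subgroup.center SL := by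
  classical
  obtain ⟨k, V, hk, hV, hV0, hVt, hnorm, hunip⟩ := Cfsg.Agent.S2391.result p n D hDp hne
  have hp : p.Prime := Fact.out
  have hmem : ∀ g ∈ Subgroup.normalizer (D : Set SL), ∀ i, ∀ v ∈ V i,
      (g : Matrix (Fin n) (Fin n) F).mulVec v ∈ V i := fun g hg i v hv => by
    rw [← hnorm g hg i]
    exact ⟨v, hv, rfl⟩
  have hmulVec : ∀ (a b : SL) (v : Fin n → F), ((a * b : SL) : Matrix (Fin n) (Fin n) F).mulVec v =
      (a : Matrix (Fin n) (Fin n) F).mulVec ((b : Matrix (Fin n) (Fin n) F).mulVec v) := fun a b v => by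
    rw [Matrix.SpecialLinearGroup.coe_mul, Matrix.mulVec_mulVec]
  let R : Subgroup SL :=
    { carrier := {g | ∀ i : Fin (k + 1), ∀ v ∈ V i.succ,
        (g : Matrix (Fin n) (Fin n) F).mulVec v - v ∈ V i.castSucc}
      one_mem' := fun i v hv => by simp
      mul_mem' := fun {a b} ha hb i v hv => by
        have hle : V i.castSucc ≤ V i.succ := hV.monotone i.castSucc_le_succ
        have h1 := hb i v hv
        have h3 : (b : Matrix (Fin n) (Fin n) F).mulVec v ∈ V i.succ := by
          have h4 := add_mem (hle h1) hv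
          rwa [sub_add_cancel] at h4
        rw [hmulVec]
        have h2 := add_mem (ha i _ h3) h1
        rwa [sub_add_sub_cancel] at h2
      inv_mem' := fun {a} ha i v hv => by
        rw [inv_eq_of_mul_eq_one_left (a := a ^ (orderOf a - 1)) (b := a) (by
          rw [← pow_succ, Nat.sub_add_cancel (orderOf_pos a), pow_orderOf_eq_one])]
        suffices h : ∀ m : ℕ, ∀ v ∈ V i.succ,
            ((a ^ m : SL) : Matrix (Fin n) (Fin n) F).mulVec v - v ∈ V i.castSucc from h _ v hv
        intro m
        induction m with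
        | zero => intro v _; simp
        | succ m ih =>
          intro v hv
          have h1 := ha i v hv
          have h3 : (a : Matrix (Fin n) (Fin n) F).mulVec v ∈ V i.succ := by
            have h4 := add_mem (hV.monotone i.castSucc_le_succ h1) hv
            rwa [sub_add_cancel] at h4
          rw [pow_succ, hmulVec]
          have h2 := add_mem (ih _ h3) h1
          rwa [sub_add_sub_cancel] at h2 }
  have hRp : IsPGroup p ↥R := by
    rintro ⟨g, hg⟩
    refine ⟨k + 1, Subtype.ext (Subtype.ext ?_)⟩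
    set A : Matrix (Fin n) (Fin n) F := (g : Matrix (Fin n) (Fin n) F)
    have hkill : ∀ r : ℕ, ∀ hr : r < k + 2, ∀ v ∈ V ⟨r, hr⟩, ((A - 1) ^ r).mulVec v = 0 := by
      intro r
      induction r with
      | zero =>
        intro hr v hv
        rw [show (⟨0, hr⟩ : Fin (k + 2)) = 0 from rfl, hV0, Submodule.mem_bot] at hv
        simp [hv]
      | succ r ih =>
        intro hr v hv
        rw [pow_succ, ← Matrix.mulVec_mulVec, Matrix.sub_mulVec, Matrix.one_mulVec]
        exact ih (by omega) _ (hg ⟨r, by omega⟩ v hv)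
    have h0 : (A - 1) ^ (k + 1) = 0 := by
      refine Matrix.toLin'.injective (LinearMap.ext fun v => ?_)
      rw [Matrix.toLin'_apply, map_zero, LinearMap.zero_apply]
      exact hkill (k + 1) (by omega) v (by
        rw [show (⟨k + 1, by omega⟩ : Fin (k + 2)) = Fin.last (k + 1) from rfl, hVt]; trivial)
    have h1 : (A - 1) ^ p ^ (k + 1) = 0 :=
      pow_eq_zero_of_le (Nat.lt_pow_self hp.one_lt).le h0
    rcases Nat.eq_zero_or_pos n with hn | hn
    · subst hn
      exact Subsingleton.elim _ _
    have : Nonempty (Fin n) := ⟨⟨0, hn⟩⟩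
    rw [sub_pow_char_pow_of_commute _ _ (Commute.one_right A), one_pow, sub_eq_zero] at h1
    simpa using h1
  have hRconj : ∀ g ∈ Subgroup.normalizer (D : Set SL), ∀ r ∈ R, g * r * g⁻¹ ∈ R := by
    intro g hg r hr i v hv
    have h1 := hmem _ (inv_mem hg) _ v hv
    have h2 := hmem g hg _ _ (hr i _ h1)
    rw [Matrix.mulVec_sub, ← hmulVec, ← hmulVec, ← hmulVec, mul_inv_cancel,
      Matrix.SpecialLinearGroup.coe_one, Matrix.one_mulVec] at h2
    exact h2
  have hDR : D ≤ R := fun u hu i v hv => hunip u hu i v hv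
  have hR0 : R ⊓ Subgroup.normalizer (D : Set SL) ≤ D :=
    hcore _ (hRp.to_le inf_le_left) inf_le_right fun g hg r hr =>
      ⟨hRconj g hg r hr.1, (Subgroup.normalizer (D : Set SL)).mul_mem
        ((Subgroup.normalizer (D : Set SL)).mul_mem hg hr.2)
        ((Subgroup.normalizer (D : Set SL)).inv_mem hg)⟩
  have hDeq : R ≤ D := by
    by_contra hne'
    have hlt : D.subgroupOf R < ⊤ := by
      rw [lt_top_iff_ne_top, Ne, Subgroup.subgroupOf_eq_top]
      exact hne'
    have := hRp.isNilpotent
    obtain ⟨⟨x, hxR⟩, hxN, hxD⟩ :=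
      SetLike.exists_of_lt (Group.normalizerCondition_of_isNilpotent _ hlt)
    apply hxD
    rw [Subgroup.mem_subgroupOf]
    refine hR0 (Subgroup.mem_inf.2 ⟨hxR, ?_⟩)
    rw [Subgroup.mem_normalizer_iff] at hxN ⊢
    intro y
    constructor
    · intro hy
      exact (hxN ⟨y, hDR hy⟩).1 hy
    · intro hy
      have h1 : y ∈ R := by
        have h2 := mul_mem (mul_mem (inv_mem hxR) (hDR hy)) hxR
        simpa [mul_assoc] using h2
      exact (hxN ⟨y, h1⟩).2 hy
  -- the subgroup attached to the first member of the flag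
  set W : Submodule F (Fin n → F) := V (⟨1, by omega⟩ : Fin (k + 2)) with hW
  have hWbot : W ≠ ⊥ := by
    rw [hW, ← hV0]
    exact (hV (by simp [Fin.lt_def])).ne'
  have hWtop : W ≠ ⊤ := by
    rw [hW, ← hVt]
    exact (hV (by simp [Fin.lt_def]; omega)).ne
  let Q : Subgroup SL :=
    { carrier := {g | (∀ v, (g : Matrix (Fin n) (Fin n) F).mulVec v - v ∈ W) ∧
        ∀ v ∈ W, (g : Matrix (Fin n) (Fin n) F).mulVec v = v}
      one_mem' := ⟨fun v => by simp, fun v _ => by simp⟩
      mul_mem' := fun {a b} ha hb => ⟨fun v => by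
        rw [hmulVec]
        have h2 := add_mem (ha.1 ((b : Matrix (Fin n) (Fin n) F).mulVec v)) (hb.1 v)
        rwa [sub_add_sub_cancel] at h2,
        fun v hv => by rw [hmulVec, hb.2 v hv, ha.2 v hv]⟩
      inv_mem' := fun {a} ha => by
        have h : ∀ v, ((a⁻¹ : SL) : Matrix (Fin n) (Fin n) F).mulVec
            ((a : Matrix (Fin n) (Fin n) F).mulVec v) = v := fun v => by
          rw [← hmulVec, inv_mul_cancel, Matrix.SpecialLinearGroup.coe_one, Matrix.one_mulVec]
        refine ⟨fun v => ?_, fun v hv => ?_⟩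
        · set w := ((a⁻¹ : SL) : Matrix (Fin n) (Fin n) F).mulVec v with hw
          have h1 := neg_mem (ha.1 w)
          have h2 : (a : Matrix (Fin n) (Fin n) F).mulVec w = v := by
            rw [hw, ← hmulVec, mul_inv_cancel, Matrix.SpecialLinearGroup.coe_one, Matrix.one_mulVec]
          rwa [h2, neg_sub] at h1
        · conv_lhs => rw [← ha.2 v hv]
          exact h v }
  have hQR : Q ≤ R := by
    intro g hg i v hv
    rcases Nat.eq_zero_or_pos (i : ℕ) with hi | hi
    · have e : i.succ = (⟨1, by omega⟩ : Fin (k + 2)) := Fin.ext (by simp [hi])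
      rw [e] at hv
      rw [hg.2 v hv, sub_self]
      exact zero_mem _
    · exact hV.monotone (Fin.le_def.2 (by simp; omega)) (hg.1 v)
  have hcen : ∀ y ∈ Subgroup.centralizer (Q : Set SL), ∃ z ∈ Subgroup.center SL, ∃ q ∈ Q,
      y = z * q ∧ q ^ p = 1 := by
    intro y hy
    rw [Subgroup.mem_centralizer_iff] at hy
    set A : Matrix (Fin n) (Fin n) F := (y : Matrix (Fin n) (Fin n) F)
    have key : ∀ φ : (Fin n → F) →ₗ[F] F, (∀ w ∈ W, φ w = 0) → ∀ w ∈ W, ∀ x,
        φ x • A.mulVec w = φ (A.mulVec x) • w := by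
      intro φ hφ w hw x
      set T : Matrix (Fin n) (Fin n) F := 1 + LinearMap.toMatrix' (φ.smulRight w)
      have hN : ∀ v, (LinearMap.toMatrix' (φ.smulRight w)).mulVec v = φ v • w := fun v => by
        rw [LinearMap.toMatrix'_mulVec]; rfl
      have hN2 : LinearMap.toMatrix' (φ.smulRight w) * LinearMap.toMatrix' (φ.smulRight w) = 0 := by
        refine Matrix.toLin'.injective (LinearMap.ext fun v => ?_)
        rw [Matrix.toLin'_apply, map_zero, LinearMap.zero_apply, ← Matrix.mulVec_mulVec, hN, hN,
          map_smul, hφ w hw, smul_zero, zero_smul]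
      have hn : Nonempty (Fin n) := by
        rcases Nat.eq_zero_or_pos n with hn | hn
        · subst hn
          exact absurd (Subsingleton.elim W ⊤) hWtop
        · exact ⟨⟨0, hn⟩⟩
      have hT : T ^ p = 1 := by
        show (1 + _) ^ p = 1
        rw [add_pow_char_of_commute _ (Commute.one_left _), one_pow,
          pow_eq_zero_of_le hp.two_le (by rw [pow_two, hN2]), add_zero]
      have hdet : T.det = 1 := by
        have h := congrArg Matrix.det hT
        rw [Matrix.det_pow, Matrix.det_one] at h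
        exact SLUni.eq_one_of_pow (p := p) (k := 1) (by rwa [pow_one])
      have hmem : (⟨T, hdet⟩ : SL) ∈ Q := by
        refine ⟨fun v => ?_, fun v hv => ?_⟩
        · show T.mulVec v - v ∈ W
          rw [Matrix.add_mulVec, Matrix.one_mulVec, add_sub_cancel_left, hN]
          exact W.smul_mem _ hw
        · show T.mulVec v = v
          rw [Matrix.add_mulVec, Matrix.one_mulVec, hN, hφ v hv, zero_smul, add_zero]
      have h := congrArg (fun g : SL => (g : Matrix (Fin n) (Fin n) F).mulVec x) (hy _ hmem)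
      have h' : T.mulVec (A.mulVec x) = A.mulVec (T.mulVec x) := by
        rw [Matrix.mulVec_mulVec, Matrix.mulVec_mulVec]
        exact h
      simp only [T, Matrix.add_mulVec, Matrix.one_mulVec, hN, Matrix.mulVec_add,
        Matrix.mulVec_smul] at h'
      exact (add_left_cancel h').symm
    obtain ⟨x₀, hx₀⟩ : ∃ x₀, x₀ ∉ W := by
      by_contra h
      push Not at h
      exact hWtop (eq_top_iff.2 fun x _ => h x)
    obtain ⟨φ₀, hφ₀, hφ₀W⟩ := Submodule.exists_dual_map_eq_bot_of_notMem hx₀ inferInstance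
    have hφ₀' : ∀ w ∈ W, φ₀ w = 0 := fun w hw => by
      have := Submodule.mem_map_of_mem (f := φ₀) hw
      rwa [hφ₀W, Submodule.mem_bot] at this
    set a := φ₀ (A.mulVec x₀) / φ₀ x₀
    have hAW : ∀ w ∈ W, A.mulVec w = a • w := fun w hw => by
      have h1 := key φ₀ hφ₀' w hw x₀
      calc A.mulVec w = (φ₀ x₀)⁻¹ • (φ₀ x₀ • A.mulVec w) := by
            rw [smul_smul, inv_mul_cancel₀ hφ₀, one_smul]
        _ = a • w := by rw [h1, smul_smul]; congr 1; simp only [a]; ring
    obtain ⟨w₀, hw₀, hw₀0⟩ := Submodule.exists_mem_ne_zero_of_ne_bot hWbot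
    have hquot : ∀ x, A.mulVec x - a • x ∈ W := by
      intro x
      by_contra hx
      obtain ⟨φ, hφ, hφW⟩ := Submodule.exists_dual_map_eq_bot_of_notMem hx inferInstance
      have hφ' : ∀ w ∈ W, φ w = 0 := fun w hw => by
        have := Submodule.mem_map_of_mem (f := φ) hw
        rwa [hφW, Submodule.mem_bot] at this
      have h1 := key φ hφ' w₀ hw₀ x
      rw [hAW w₀ hw₀, smul_smul] at h1
      apply hφ
      rw [map_sub, map_smul, smul_eq_mul, sub_eq_zero, mul_comm]
      exact (smul_left_injective F hw₀0 h1).symm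
    have ha : a ≠ 0 := by
      intro h0
      have h1 := hAW w₀ hw₀
      rw [h0, zero_smul] at h1
      apply hw₀0
      have h2 := congrArg ((y⁻¹ : SL) : Matrix (Fin n) (Fin n) F).mulVec h1
      rwa [← hmulVec, inv_mul_cancel, Matrix.SpecialLinearGroup.coe_one, Matrix.one_mulVec,
        Matrix.mulVec_zero] at h2
    set B : Matrix (Fin n) (Fin n) F := a⁻¹ • A
    have hB : ∀ v, B.mulVec v - v ∈ W := fun v => by
      have h := W.smul_mem a⁻¹ (hquot v)
      rw [smul_sub, smul_smul, inv_mul_cancel₀ ha, one_smul, ← Matrix.smul_mulVec] at h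
      exact h
    have hBW : ∀ v ∈ W, B.mulVec v = v := fun v hv => by
      rw [Matrix.smul_mulVec, hAW v hv, smul_smul, inv_mul_cancel₀ ha, one_smul]
    have hB2 : (B - 1) * (B - 1) = 0 := by
      refine Matrix.toLin'.injective (LinearMap.ext fun v => ?_)
      rw [Matrix.toLin'_apply, map_zero, LinearMap.zero_apply, ← Matrix.mulVec_mulVec,
        Matrix.sub_mulVec, Matrix.one_mulVec, Matrix.sub_mulVec, Matrix.one_mulVec,
        hBW _ (hB v), sub_self]
    have hn : Nonempty (Fin n) := by
      rcases Nat.eq_zero_or_pos n with hn | hn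
      · subst hn
        exact absurd (Subsingleton.elim W ⊤) hWtop
      · exact ⟨⟨0, hn⟩⟩
    have hBp : B ^ p = 1 := by
      rw [show B = 1 + (B - 1) by abel, add_pow_char_of_commute _ (Commute.one_left _), one_pow,
        pow_eq_zero_of_le hp.two_le (by rw [pow_two, hB2]), add_zero]
    have hBdet : B.det = 1 := by
      have h := congrArg Matrix.det hBp
      rw [Matrix.det_pow, Matrix.det_one] at h
      exact SLUni.eq_one_of_pow (p := p) (k := 1) (by rwa [pow_one])
    have hadet : (Matrix.scalar (Fin n) a).det = 1 := by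
      have h := y.2
      rw [show (y : Matrix (Fin n) (Fin n) F) = a • B by
        simp [B, A, smul_smul, mul_inv_cancel₀ ha], Matrix.det_smul, hBdet, mul_one,
        Fintype.card_fin] at h
      simpa [Matrix.det_diagonal, Matrix.scalar_apply] using h
    refine ⟨⟨Matrix.scalar (Fin n) a, hadet⟩, ?_, ⟨B, hBdet⟩, ⟨hB, hBW⟩, Subtype.ext ?_,
      Subtype.ext hBp⟩
    · refine Subgroup.mem_center_iff.2 fun g : SL => ?_
      refine Subtype.ext ?_
      exact (Matrix.scalar_commute a (fun r => Commute.all _ _) g.1).symm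
    · show A = Matrix.scalar (Fin n) a * B
      rw [Matrix.scalar_apply, ← Matrix.smul_one_eq_diagonal, Matrix.smul_mul, Matrix.one_mul,
        smul_smul, mul_inv_cancel₀ ha, one_smul]
  have hQcomm : ∀ q ∈ Q, ∀ q' ∈ Q, q * q' = q' * q := by
    intro q hq q' hq'
    refine Subtype.ext ?_
    suffices h : ∀ v, ((q * q' : SL) : Matrix (Fin n) (Fin n) F).mulVec v =
        ((q' * q : SL) : Matrix (Fin n) (Fin n) F).mulVec v by
      exact Matrix.toLin'.injective (LinearMap.ext fun v => by
        simpa only [Matrix.toLin'_apply] using h v)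
    intro v
    have h1 := hq.2 _ (hq'.1 v)
    have h2 := hq'.2 _ (hq.1 v)
    rw [Matrix.mulVec_sub, sub_eq_iff_eq_add] at h1 h2
    rw [hmulVec, hmulVec, h1, h2]
    abel
  refine ⟨Q, hQR.trans hDeq, hRp.to_le hQR, ?_, ?_, ?_⟩
  · intro y hy y' hy'
    obtain ⟨z, hz, q, hq, rfl, -⟩ := hcen y hy
    obtain ⟨z', hz', q', hq', rfl, -⟩ := hcen y' hy'
    rw [Subgroup.mem_center_iff] at hz hz'
    calc z * q * (z' * q') = z * (q * z') * q' := by group
      _ = z * (z' * q) * q' := by rw [hz' q]
      _ = z' * z * (q' * q) := by rw [← hQcomm q hq q' hq', ← hz' z]; group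
      _ = z' * (z * q') * q := by group
      _ = z' * (q' * z) * q := by rw [hz q']
      _ = _ := by group
  · intro y hy
    obtain ⟨z, hz, q, -, rfl, hq⟩ := hcen y hy
    rw [(show Commute z q from (Subgroup.mem_center_iff.1 hz q).symm).mul_pow, hq, mul_one]
    exact pow_mem hz p
  · intro y hy hord
    obtain ⟨z, hz, q, -, rfl, hq⟩ := hcen y hy
    have hcop : Nat.Coprime (orderOf (z * q)) p :=
      ((Nat.Prime.coprime_iff_not_dvd hp).2 hord).symm
    obtain ⟨r, hr⟩ := exists_pow_eq_self_of_coprime hcop.symm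
    rw [← hr, (show Commute z q from (Subgroup.mem_center_iff.1 hz q).symm).mul_pow, hq, mul_one]
    exact pow_mem (pow_mem hz p) r

set_option maxHeartbeats 1600000 in
/-- The blocks of `SL_n(q)` in the defining characteristic. -/
theorem blocks_sl (p : ℕ) [Fact p.Prime] [CharP F p] (hn : 2 ≤ n) (M : Ideal AlgInt) [M.IsPrime]
    (hM : IsPModular p M) :
    Nat.card {B : Set (IrrCharacter SL) // IsPBlock M B ∧ blockDefect p B = 0} = 1 ∧
      (∀ B : Set (IrrCharacter SL), IsPBlock M B →
        blockDefect p B = 0 ∨ blockDefect p B = (Nat.card SL).factorization p) ∧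
      Nat.card {B : Set (IrrCharacter SL) // IsPBlock M B ∧ blockDefect p B ≠ 0} =
        Nat.gcd n (Fintype.card F - 1) ∧
      ∀ χ χ' : IrrCharacter SL, blockDefect p (blockOf M (χ : SL → ℂ)) ≠ 0 →
        blockDefect p (blockOf M (χ' : SL → ℂ)) ≠ 0 → cenHom M χ = cenHom M χ' →
          blockOf M (χ : SL → ℂ) = blockOf M (χ' : SL → ℂ) := by
  classical
  have := charP_kres (M := M) hM
  have := Fintype.ofFinite SL
  have := Fintype.ofFinite ↥(SLUni.U F n)
  have hfinB : Finite {B : Set (IrrCharacter SL) // IsPBlock M B} :=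
    Finite.of_surjective (fun χ : IrrCharacter SL => (⟨_, isPBlock_blockOf χ⟩ :
      {B : Set (IrrCharacter SL) // IsPBlock M B})) fun ⟨B, χ, hχ⟩ => ⟨χ, Subtype.ext hχ.symm⟩
  -- defect zero
  obtain ⟨a, ha⟩ := exists_trace (p := p) (F := F) (n := n) (k := kres M)
  obtain ⟨P, hPU⟩ := exists_sylow_eq (F := F) (n := n) p
  have hidx : ((SLUni.U F n).index : kres M) ≠ 0 := fun h => by
    rw [← hPU] at h
    exact P.not_dvd_index ((CharP.cast_eq_zero_iff (kres M) p _).1 h)
  set zA := ∑ g : SL, DZero.dlt (kres M) g * a * DZero.dlt (kres M) g⁻¹ with hzA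
  have hzcl : IsClassCoeff zA := by
    refine isClassCoeff_iff_mem_center.2 (Subalgebra.mem_center_iff.2 fun b => ?_)
    induction b using MonoidAlgebra.induction_linear with
    | zero => simp
    | add x y hx hy => rw [add_mul, mul_add, hx, hy]
    | single x r =>
      rw [show (single x r : MonoidAlgebra (kres M) SL) = r • DZero.dlt (kres M) x by
        simp [DZero.dlt], smul_mul_assoc, mul_smul_comm]
      congr 1
      simp only [hzA, Finset.mul_sum, Finset.sum_mul]
      refine Fintype.sum_equiv (Equiv.mulLeft x) _ _ fun g => ?_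
      rw [Equiv.coe_mulLeft, mul_assoc (DZero.dlt (kres M) (x * g) * a), DZero.dlt_mul,
        ← mul_assoc, ← mul_assoc, DZero.dlt_mul]
      congr 2
      group
  let z : Subalgebra.center (kres M) (MonoidAlgebra (kres M) SL) :=
    ⟨zA, isClassCoeff_iff_mem_center.1 hzcl⟩
  have hsupp : ∀ g : SL, zA.coeff g ≠ 0 → ∀ s : SL, orderOf s = p → s * g ≠ g * s := by
    intro g hg s hs hsg
    apply hg
    have hco : ∀ h : SL, (DZero.dlt (kres M) h * a * DZero.dlt (kres M) h⁻¹).coeff g =
        a.coeff (h⁻¹ * g * h) := fun h => by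
      rw [DZero.dlt, DZero.dlt, coeff_mul_single_apply, coeff_single_mul_apply]
      simp [mul_assoc]
    simp only [hzA, coeff_sum, Finset.sum_apply', hco]
    have : Fintype (SL ⧸ Subgroup.zpowers s⁻¹) := Fintype.ofFinite _
    rw [← Fintype.sum_equiv (Equiv.inv SL) (fun h : SL => a.coeff (h * g * h⁻¹))
      (fun h : SL => a.coeff (h⁻¹ * g * h)) (fun h => by simp)]
    rw [DZero.sum_eq_card_nsmul (Subgroup.zpowers s⁻¹) (fun h : SL => a.coeff (h * g * h⁻¹)),
      Fintype.card_zpowers, orderOf_inv, hs, nsmul_eq_mul, CharP.cast_eq_zero, zero_mul]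
    intro h x hx
    have hc : x * g = g * x := by
      obtain ⟨r, rfl⟩ := hx
      exact ((show Commute s g from hsg).inv_left.zpow_left r).eq
    congr 1
    calc h * x * g * (h * x)⁻¹ = h * (x * g) * x⁻¹ * h⁻¹ := by group
      _ = h * (g * x) * x⁻¹ * h⁻¹ := by rw [hc]
      _ = _ := by group
  have hexist : ∃ B : Set (IrrCharacter SL), IsPBlock M B ∧ blockDefect p B = 0 := by
    by_contra hnone
    push Not at hnone
    have hnil : IsNilpotent z := isNilpotent_of_lam_eq_zero hM fun χ => by
      by_contra hne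
      exact hnone _ (isPBlock_blockOf χ) (defect_zero_of_lam hM hne hsupp)
    obtain ⟨m, hm⟩ := hnil
    have h1 : ∀ r : ℕ, actA (((z ^ r : Subalgebra.center (kres M) (MonoidAlgebra (kres M) SL))) :
        MonoidAlgebra (kres M) SL) (top' F n (kres M)) =
        ((SLUni.U F n).index : kres M) ^ r • top' F n (kres M) := by
      intro r
      induction r with
      | zero => simp
      | succ r ih =>
        rw [pow_succ', MulMemClass.coe_mul, map_mul, Module.End.mul_apply, ih, map_smul,
          ha _ top'_mem, smul_smul, ← pow_succ]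
    have h2 := h1 m
    rw [hm, ZeroMemClass.coe_zero, map_zero, LinearMap.zero_apply] at h2
    exact top'_ne ((smul_eq_zero.1 h2.symm).resolve_left (pow_ne_zero m hidx))
  have huniq : ∀ B B' : Set (IrrCharacter SL), IsPBlock M B → IsPBlock M B' → blockDefect p B = 0 → blockDefect p B' = 0 →
      B = B' := by
    intro B B' hB hB' hd hd'
    by_contra hne
    obtain ⟨Δ, hΔ⟩ := exists_data_of_defect_zero hM hB hd
    obtain ⟨Δ', hΔ'⟩ := exists_data_of_defect_zero hM hB' hd'
    have hnz : ∀ B : Set (IrrCharacter SL), IsPBlock M B → (blkIdem M B : MonoidAlgebra (kres M) SL) ≠ 0 := fun B hB h => by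
      obtain ⟨χ, hχ⟩ := isPBlock_nonempty hB
      have h1 := lam_blkIdem hM hB χ
      rw [if_pos hχ, show blkIdem M B = 0 from Subtype.ext h, map_zero] at h1
      exact zero_ne_one h1
    have h1 := actA_data (p := p) Δ (hΔ ▸ hnz B hB) (top'_mem (F := F) (n := n) (k := kres M))
    have h2 := actA_data (p := p) Δ' (hΔ' ▸ hnz B' hB') (top'_mem (F := F) (n := n) (k := kres M))
    have h3 : actA (Δ.e * Δ'.e) (top' F n (kres M)) = top' F n (kres M) := by
      rw [map_mul, Module.End.mul_apply, h2, h1]
    have h4 : Δ.e * Δ'.e = 0 := by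
      rw [hΔ, hΔ', ← MulMemClass.coe_mul, blkIdem_mul_ne hM hB hB' hne]
      rfl
    rw [h4, map_zero, LinearMap.zero_apply] at h3
    exact top'_ne h3.symm
  -- positive defect
  have hsmall : ∀ {B : Set (IrrCharacter SL)}, IsPBlock M B → blockDefect p B ≠ 0 →
      ∃ D Q : Subgroup SL, IsDefectGroup p M B D ∧ IsPGroup p Q ∧ Q ≤ D ∧
        (∀ y ∈ Subgroup.centralizer (Q : Set SL), ∀ y' ∈ Subgroup.centralizer (Q : Set SL),
          y * y' = y' * y) ∧
        ∀ y ∈ Subgroup.centralizer (Q : Set SL), y ^ p ∈ Subgroup.center SL := by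
    intro B hB hd
    obtain ⟨D, hD⟩ := exists_isDefectGroup hM hB
    have hDne : D ≠ ⊥ := fun h => by
      have h1 := natCard_defectGroup hM hB hD
      rw [h, Subgroup.card_bot] at h1
      rcases Nat.pow_eq_one.1 h1.symm with h2 | h2
      · exact (Fact.out : p.Prime).ne_one h2
      · exact hd h2
    have h955 := Cfsg.Agent.S0955.result p M hM B hB D hD
    obtain ⟨Q, hQD, hQp, hc, hpw, -⟩ := exists_small p (isPGroup_defectGroup hM hB hD) hDne
      fun R hR hRN hRconj => by
        have hnorm : (R.subgroupOf (Subgroup.normalizer (D : Set SL))).Normal :=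
          ⟨fun r hr g => hRconj g g.2 r hr⟩
        have h1 := CfsgLib.Solvable.le_pCore hnorm hR.comap_subtype
        intro r hr
        rw [← h955]
        exact ⟨⟨r, hRN hr⟩, h1 hr, rfl⟩
    exact ⟨D, Q, hD, hQp, hQD, hc, hpw⟩
  have hinj : ∀ χ χ' : IrrCharacter SL, blockDefect p (blockOf M (χ : SL → ℂ)) ≠ 0 →
      blockDefect p (blockOf M (χ' : SL → ℂ)) ≠ 0 → cenHom M χ = cenHom M χ' →
        blockOf M (χ : SL → ℂ) = blockOf M (χ' : SL → ℂ) := by
    intro χ χ' hd hd' he
    refine (blockOf_eq_of_mem ?_).symm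
    show SameBlock M (χ : SL → ℂ) (χ' : SL → ℂ)
    refine sameBlock_of_lam_eq ?_
    have : Fintype (ConjClasses SL) := Fintype.ofFinite _
    ext w
    rw [algHom_eq_sum_classes (lam M χ), algHom_eq_sum_classes (lam M χ')]
    refine Finset.sum_congr rfl fun C _ => ?_
    congr 1
    obtain ⟨D, Q, hD, hQp, hQD, hc, hpw⟩ := hsmall (isPBlock_blockOf χ) hd
    obtain ⟨D', Q', hD', hQp', hQD', hc', hpw'⟩ := hsmall (isPBlock_blockOf χ') hd'
    obtain ⟨h1, h1'⟩ := lam_pow hM (isPBlock_blockOf χ) (mem_blockOf_self χ) hD hQp hQD hc hpw C.out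
    obtain ⟨h2, -⟩ :=
      lam_pow hM (isPBlock_blockOf χ') (mem_blockOf_self χ') hD' hQp' hQD' hc' hpw' C.out
    refine frobenius_inj (kres M) p ?_
    rw [frobenius_def, frobenius_def, h1, h2]
    by_cases h0 : (Nat.card (ConjClasses.mk C.out).carrier : kres M) = 0
    · rw [h0, zero_mul, zero_mul]
    · congr 1
      have h3 := DFunLike.congr_fun he (⟨C.out ^ p, h1' h0⟩ : Subgroup.center SL)
      rw [cenHom_apply, cenHom_apply] at h3
      exact h3
  have hcardZ : Nat.card (Subgroup.center SL) = Nat.gcd n (Fintype.card F - 1) := by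
    have : Nonempty (Fin n) := ⟨⟨0, by omega⟩⟩
    rw [CfsgLib.Classical.card_center_sl, Fintype.card_fin]
  set T := {B : Set (IrrCharacter SL) // IsPBlock M B ∧ blockDefect p B ≠ 0}
  have : Finite T := Finite.of_injective (fun B : T => (⟨B.1, B.2.1⟩ :
    {B : Set (IrrCharacter SL) // IsPBlock M B})) fun B B' h => Subtype.ext (Subtype.ext_iff.1 h :)
  have hTle : Nat.card T ≤ Nat.card (Subgroup.center SL) := by
    have := Fintype.ofFinite T
    choose χ hχ using fun B : T => B.2.1
    have hf : Function.Injective fun B : T => cenHom M (χ B) := by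
      intro B B' h
      have := hinj (χ B) (χ B') (by rw [← hχ]; exact B.2.2) (by rw [← hχ]; exact B'.2.2) h
      rw [← hχ, ← hχ] at this
      exact Subtype.ext this
    have h1 := card_monoidHom_le (Finset.univ.map ⟨_, hf⟩)
    rwa [Finset.card_map, Finset.card_univ, ← Nat.card_eq_fintype_card] at h1
  set T' := {B : Set (IrrCharacter SL) // IsPBlock M B ∧ IsDefectGroup p M B (P : Subgroup SL)}
  have hPne : (P : Subgroup SL) ≠ ⊥ := fun h => by
    rw [hPU] at h
    have h1 : (Matrix.SpecialLinearGroup.transvection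
        (show (⟨0, by omega⟩ : Fin n) ≠ ⟨1, by omega⟩ by simp) (1 : F)) ∈ SLUni.U F n :=
      SLUni.tv_mem_U (Fin.lt_def.2 (by simp)) 1
    rw [h, Subgroup.mem_bot] at h1
    have h2 := congrArg (fun g : SL => g.1 ⟨0, by omega⟩ ⟨1, by omega⟩) h1
    simp [Matrix.SpecialLinearGroup.transvection_coe] at h2
  have hdP : ∀ B : T', blockDefect p B.1 = (Nat.card SL).factorization p := fun B => by
    have h1 := natCard_defectGroup hM B.2.1 B.2.2
    rw [Sylow.card_eq_multiplicity P] at h1
    exact (Nat.pow_right_injective (Fact.out : p.Prime).two_le h1).symm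
  have hpos : 0 < (Nat.card SL).factorization p := by
    rcases Nat.eq_zero_or_pos ((Nat.card SL).factorization p) with h | h
    · exact absurd ((Subgroup.card_eq_one.1 (by rw [Sylow.card_eq_multiplicity P, h, pow_zero])))
        hPne
    · exact h
  have hT' : Nat.card T' = Nat.card (Subgroup.center SL) := by
    rw [Cfsg.Agent.S0953.result p M hM P]
    have hmaxP : ∀ R : Subgroup SL, IsPGroup p ↥R →
        R ≤ Subgroup.normalizer ((P : Subgroup SL) : Set SL) →
        (∀ g ∈ Subgroup.normalizer ((P : Subgroup SL) : Set SL), ∀ r ∈ R, g * r * g⁻¹ ∈ R) →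
        R ≤ P := fun R hR hRN _ => by
      have h1 : IsPGroup p ↥(R ⊔ (P : Subgroup SL)) :=
        hR.to_sup_of_normal_right' P.2 hRN
      exact le_sup_left.trans (P.3 h1 le_sup_right).le
    obtain ⟨Q, hQP, -, -, -, hreg⟩ := exists_small p P.2 hPne hmaxP
    have hzreg : ∀ z ∈ Subgroup.center SL, ¬ p ∣ orderOf z := fun z hz hdvd => by
      have h1 : orderOf (z ^ (orderOf z / p)) = p :=
        orderOf_pow_orderOf_div (orderOf_pos z).ne' hdvd
      have h2 := SLUni.center_pFree (p := p) (by omega : 0 < n) (pow_mem hz _) 1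
        (by
          have h3 := pow_orderOf_eq_one (z ^ (orderOf z / p))
          rw [h1] at h3
          simpa using h3)
      rw [h2, orderOf_one] at h1
      exact (Fact.out : p.Prime).ne_one h1.symm
    set N := Subgroup.normalizer ((P : Subgroup SL) : Set SL)
    have hcenN : ∀ z ∈ Subgroup.center SL, z ∈ N := fun z hz =>
      Subgroup.center_le_normalizer _ hz
    refine (Nat.card_congr (Equiv.ofBijective (fun z : Subgroup.center SL =>
      (⟨ConjClasses.mk (⟨z, hcenN z z.2⟩ : N), fun m hm => ?_⟩ : {C : ConjClasses N //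
        ∀ m : N, ConjClasses.mk m = C → ¬ p ∣ orderOf m ∧
          (m : SL) ∈ Subgroup.centralizer ((P : Subgroup SL) : Set SL)})) ⟨?_, ?_⟩)).symm
    · obtain ⟨c, hc⟩ := isConj_iff.1 (ConjClasses.mk_eq_mk_iff_isConj.1 hm)
      have h1 : (m : SL) = z := by
        have h2 := congrArg Subtype.val hc
        simp only [Subgroup.coe_mul, Subgroup.coe_inv] at h2
        rw [show (m : SL) = (c : SL)⁻¹ * ((c : SL) * (m : SL) * (c : SL)⁻¹) * (c : SL) by group, h2,
          Subgroup.mem_center_iff.1 z.2 (c : SL)⁻¹, mul_assoc, inv_mul_cancel, mul_one]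
      refine ⟨?_, ?_⟩
      · rw [← Subgroup.orderOf_coe, h1]
        exact hzreg z z.2
      · rw [h1, Subgroup.mem_centralizer_iff]
        exact fun x _ => Subgroup.mem_center_iff.1 z.2 x
    · intro z z' h
      have h1 := ConjClasses.mk_eq_mk_iff_isConj.1 (Subtype.ext_iff.1 h)
      obtain ⟨c, hc⟩ := isConj_iff.1 h1
      have h2 := congrArg Subtype.val hc
      simp only [Subgroup.coe_mul, Subgroup.coe_inv] at h2
      rw [Subgroup.mem_center_iff.1 z.2 (c : SL), mul_inv_cancel_right] at h2
      exact Subtype.ext h2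
    · rintro ⟨C, hC⟩
      obtain ⟨m, rfl⟩ := ConjClasses.mk_surjective C
      obtain ⟨h1, h2⟩ := hC m rfl
      rw [← Subgroup.orderOf_coe] at h1
      exact ⟨⟨m, hreg m (Subgroup.centralizer_le hQP h2) h1⟩, Subtype.ext rfl⟩
  let ι : T' → T := fun B => ⟨B.1, B.2.1, by rw [hdP B]; omega⟩
  have hιinj : Function.Injective ι := fun B B' h => Subtype.ext (Subtype.ext_iff.1 h :)
  have : Finite T' := Finite.of_injective ι hιinj
  have hιbij : Function.Bijective ι :=
    (Nat.bijective_iff_injective_and_card ι).2 ⟨hιinj,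
      le_antisymm (Nat.card_le_card_of_injective ι hιinj) (hT' ▸ hTle)⟩
  refine ⟨?_, fun B hB => ?_, ?_, hinj⟩
  · obtain ⟨B, hB, hd⟩ := hexist
    rw [Nat.card_eq_one_iff_unique]
    exact ⟨⟨fun X Y => Subtype.ext (huniq _ _ X.2.1 Y.2.1 X.2.2 Y.2.2)⟩, ⟨⟨B, hB, hd⟩⟩⟩
  · by_cases hd : blockDefect p B = 0
    · exact Or.inl hd
    · obtain ⟨X, hX⟩ := hιbij.2 ⟨B, hB, hd⟩
      right
      rw [← show (ι X).1 = B from congrArg Subtype.val hX]
      exact hdP X
  · rw [← Nat.card_eq_of_bijective ι hιbij, hT', hcardZ]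

end CfsgLib.KnownB.SLSt
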