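import Cfsg.Agent.Lib.Classical.SLGen

/-!
# Two-element generation of `SL_{n+1}` by a torus element and a transvection times a cycle
-/

set_option autoImplicit false

namespace CfsgLib.KnownB.SLTwoGen

open Matrix Matrix.SpecialLinearGroup CfsgLib.Classical
open scoped commutatorElement

variable {K : Type*} [Field K] {n : ℕ}

local notation "SN" => Matrix.SpecialLinearGroup (Fin (n + 1)) K
local notation "MN" => Matrix (Fin (n + 1)) (Fin (n + 1)) K

variable (n K) in
/-- The matrix of the signed cycle. -/
def cycMat : Matrix (Fin (n + 1)) (Fin (n + 1)) K :=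
  Matrix.of (fun i j => if j.val = i.val + 1 then 1 else if i.val = n ∧ j.val = 0 then (-1) ^ n else 0)

theorem cyc_smul {w : SN} (hw : (w : MN) = cycMat K n) (v : Fin (n + 1) → K) (i : Fin (n + 1)) :
    (w • v) i = if h : i.val < n then v ⟨i.val + 1, Nat.succ_lt_succ h⟩ else (-1) ^ n * v 0 := by
  rw [Matrix.SpecialLinearGroup.smul_def, smul_eq_mulVec, hw, Matrix.mulVec, dotProduct]
  split_ifs with h
  · rw [Finset.sum_eq_single (⟨i.val + 1, Nat.succ_lt_succ h⟩ : Fin (n + 1))]
    · simp [cycMat]
    · intro b _ hb
      have hb' : b.val ≠ i.val + 1 := fun e => hb (Fin.ext e)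
      simp [cycMat, hb', h.ne]
    · simp
  · have hi : i.val = n := by omega
    rw [Finset.sum_eq_single (0 : Fin (n + 1))]
    · simp [cycMat, hi]
    · intro b _ hb
      have hb' : b.val ≠ 0 := fun e => hb (Fin.ext (by simpa using e))
      have hb2 : b.val ≠ i.val + 1 := by omega
      simp [cycMat, hb, hb2]
    · simp

theorem shift_gen (hn : 1 ≤ n) (H : Subgroup SN) {w : SN} (hw : (w : MN) = cycMat K n)
    (hwH : w ∈ H)
    (h01 : ∀ (hij : (0 : Fin (n + 1)) ≠ 1) (c : K),
      Matrix.SpecialLinearGroup.transvection hij c ∈ H) : H = ⊤ := by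
  classical
  have hstep : ∀ (i : ℕ) (hi : i < n) (a b : Fin (n + 1)) (hab : a ≠ b), a.val = i → b.val = i + 1 →
      ∀ c, Matrix.SpecialLinearGroup.transvection hab c ∈ H := by
    intro i
    induction i with
    | zero =>
      intro _ a b hab ha hb c
      obtain rfl : a = 0 := Fin.ext (by simpa using ha)
      obtain rfl : b = 1 := Fin.ext (by rw [hb, Fin.val_one', Nat.mod_eq_of_lt (by omega)])
      exact h01 hab c
    | succ i ih =>
      intro hi a b hab ha hb c
      obtain ⟨a', ha'⟩ : ∃ a' : Fin (n + 1), a'.val = i := ⟨⟨i, by omega⟩, rfl⟩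
      obtain ⟨b', hb'⟩ : ∃ b' : Fin (n + 1), b'.val = i + 1 := ⟨⟨i + 1, by omega⟩, rfl⟩
      have hab' : a' ≠ b' := fun e => by rw [e, hb'] at ha'; omega
      have h := ih (by omega) a' b' hab' ha' hb' c
      have e : w * Matrix.SpecialLinearGroup.transvection hab c =
          Matrix.SpecialLinearGroup.transvection hab' c * w := by
        refine sl_ext_smul fun v => funext fun r => ?_
        simp only [mul_smul, cyc_smul hw, transvection_smul_apply]
        by_cases hr : r = a'
        · subst hr
          rw [if_pos rfl, dif_pos (by omega), dif_pos (by omega), dif_pos (by omega),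
            if_pos (Fin.ext (by simp only; omega))]
          congr 3
          exact Fin.ext (by simp only; omega)
        · rw [if_neg hr]
          have hr' : r.val ≠ i := fun e => hr (Fin.ext (e.trans ha'.symm))
          split_ifs with h1 h2 h3
          · exact absurd (congrArg Fin.val h2) (by simp only; omega)
          · rfl
          · exact absurd (congrArg Fin.val h3) (by simp only [Fin.val_zero]; omega)
          · rfl
      rw [← eq_inv_mul_iff_mul_eq] at e
      rw [e]
      exact mul_mem (inv_mem hwH) (mul_mem h hwH)
  have hup : ∀ (d : ℕ) (a b : Fin (n + 1)) (hab : a ≠ b), b.val = a.val + (d + 1) →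
      ∀ c, Matrix.SpecialLinearGroup.transvection hab c ∈ H := by
    intro d
    induction d with
    | zero => intro a b hab h c; exact hstep a.val (by omega) a b hab rfl (by omega) c
    | succ d ih =>
      intro a b hab h c
      obtain ⟨m, hm⟩ : ∃ m : Fin (n + 1), m.val = a.val + (d + 1) := ⟨⟨_, by omega⟩, rfl⟩
      have ham : a ≠ m := fun e => by rw [← e] at hm; omega
      have hmb : m ≠ b := fun e => by rw [e] at hm; omega
      have h1 := ih a m ham hm c
      have h2 := hstep m.val (by omega) m b hmb rfl (by omega) 1
      have h3 : ⁅Matrix.SpecialLinearGroup.transvection ham c,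
          Matrix.SpecialLinearGroup.transvection hmb (1 : K)⁆ ∈ H := by
        rw [commutatorElement_def]
        exact mul_mem (mul_mem (mul_mem h1 h2) (inv_mem h1)) (inv_mem h2)
      rwa [commutator_transvection_transvection ham hmb hab, mul_one] at h3
  have hlt : ∀ (a b : Fin (n + 1)) (hab : a ≠ b), a.val < b.val →
      ∀ c, Matrix.SpecialLinearGroup.transvection hab c ∈ H := fun a b hab h =>
    hup (b.val - a.val - 1) a b hab (by omega)
  have hlast : ∀ (hl : Fin.last n ≠ (0 : Fin (n + 1))) (c : K),
      Matrix.SpecialLinearGroup.transvection hl c ∈ H := by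
    intro hl c
    have h0 : (0 : Fin (n + 1)) ≠ 1 := fun e => by
      have := congrArg Fin.val e
      rw [Fin.val_zero, Fin.val_one', Nat.mod_eq_of_lt (by omega)] at this
      omega
    have h := h01 h0 ((-1) ^ n * c)
    have hs : ((-1 : K) ^ n) * (-1) ^ n = 1 := by rw [← mul_pow, neg_one_mul, neg_neg, one_pow]
    have e : w * Matrix.SpecialLinearGroup.transvection h0 ((-1) ^ n * c) =
        Matrix.SpecialLinearGroup.transvection hl c * w := by
      refine sl_ext_smul fun v => funext fun r => ?_
      simp only [mul_smul, cyc_smul hw, transvection_smul_apply]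
      by_cases hr : r = Fin.last n
      · subst hr
        rw [if_pos rfl, dif_neg (show ¬ (Fin.last n).val < n by simp),
          dif_neg (show ¬ (Fin.last n).val < n by simp),
          dif_pos (show (0 : Fin (n + 1)).val < n by simp only [Fin.val_zero]; omega), if_pos trivial]
        have h1 : (⟨(0 : Fin (n + 1)).val + 1, Nat.succ_lt_succ (by simp only [Fin.val_zero]; omega)⟩ : Fin (n + 1)) = 1 := by
          refine Fin.ext ?_
          simp only [Fin.val_zero]
          rw [Fin.val_one', Nat.mod_eq_of_lt (by omega)]
        rw [h1]
        linear_combination c * v 1 * hs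
      · rw [if_neg hr]
        have hr' : r.val < n := by
          by_contra hc
          exact hr (Fin.ext (by simp; omega))
        rw [dif_pos hr', dif_pos hr', if_neg (fun e => by
          have := congrArg Fin.val e
          simp at this)]
    rw [← mul_inv_eq_iff_eq_mul] at e
    rw [← e]
    exact mul_mem (mul_mem hwH h) (inv_mem hwH)
  have hzero : ∀ (a : Fin (n + 1)) (ha : a ≠ 0) (c : K),
      Matrix.SpecialLinearGroup.transvection ha c ∈ H := by
    intro a ha c
    by_cases hal : a = Fin.last n
    · subst hal; exact hlast ha c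
    · have hl : Fin.last n ≠ (0 : Fin (n + 1)) := fun e => by
        have := congrArg Fin.val e
        simp at this
        omega
      have hal' : a.val < (Fin.last n).val := by
        have := a.isLt
        simp only [Fin.val_last]
        have : a.val ≠ n := fun e => hal (Fin.ext (by simpa using e))
        omega
      have h1 := hlt a (Fin.last n) hal hal' c
      have h2 := hlast hl 1
      have h3 : ⁅Matrix.SpecialLinearGroup.transvection hal c,
          Matrix.SpecialLinearGroup.transvection hl (1 : K)⁆ ∈ H := by
        rw [commutatorElement_def]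
        exact mul_mem (mul_mem (mul_mem h1 h2) (inv_mem h1)) (inv_mem h2)
      rwa [commutator_transvection_transvection hal hl ha, mul_one] at h3
  refine sl_transvection_induction H fun a b hab c => ?_
  rcases Nat.lt_trichotomy a.val b.val with h | h | h
  · exact hlt a b hab h c
  · exact absurd (Fin.ext h) hab
  · have ha : a ≠ 0 := fun e => by rw [e] at h; simp at h
    by_cases hb : b = 0
    · subst hb; exact hzero a hab c
    · have h1 := hzero a ha c
      have h2 := hlt 0 b (Ne.symm hb) (Nat.pos_of_ne_zero fun e => hb (Fin.ext (by simpa using e))) 1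
      have h3 : ⁅Matrix.SpecialLinearGroup.transvection ha c,
          Matrix.SpecialLinearGroup.transvection (Ne.symm hb) (1 : K)⁆ ∈ H := by
        rw [commutatorElement_def]
        exact mul_mem (mul_mem (mul_mem h1 h2) (inv_mem h1)) (inv_mem h2)
      rwa [commutator_transvection_transvection ha (Ne.symm hb) hab, mul_one] at h3

/-- Conjugating a transvection by a diagonal element. -/
theorem diag_conj {ι : Type*} [Fintype ι] [DecidableEq ι] {h : Matrix.SpecialLinearGroup ι K}
    {d : ι → K} (hh : (h : Matrix ι ι K) = Matrix.diagonal d) {a b : ι} (hab : a ≠ b)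
    (hd : d b ≠ 0) (c : K) :
    h * Matrix.SpecialLinearGroup.transvection hab c * h⁻¹ =
      Matrix.SpecialLinearGroup.transvection hab (d a * c / d b) := by
  rw [mul_inv_eq_iff_eq_mul]
  refine sl_ext_smul fun v => funext fun r => ?_
  have hs : ∀ (u : ι → K) (i : ι), (h • u) i = d i * u i := fun u i => by
    rw [Matrix.SpecialLinearGroup.smul_def, smul_eq_mulVec, hh, mulVec_diagonal]
  simp only [mul_smul, transvection_smul_apply, hs]
  by_cases hr : r = a
  · subst hr
    simp only [if_pos]
    field_simp
  · simp [hr]

end CfsgLib.KnownB.SLTwoGen
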