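import Mathlib
import Cfsg.Agent.Lib.Classical.UnitaryGen
import Cfsg.Agent.Lib.Geom.IsoStabHerm
import Cfsg.Agent.Lib.Char.Column

/-!
Involutions of `SU₃(q)` for odd `q`: they are the reflections `inv v` at non-isotropic points; class size, centralizer
order and the commuting graph.
-/

set_option autoImplicit false

namespace CfsgLib.KnownB.SU3Inv

open CfsgLib.Classical CfsgLib.Geom
open Matrix

variable {F : Type*} [Field F] [Fintype F] {q : ℕ} (hF : Fintype.card F = q ^ 2)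

/-- The linear map of an element of `SU₃`. -/
noncomputable def ap (s : Cfsg.SU 3 F q) : (Fin 3 → F) ≃ₗ[F] (Fin 3 → F) := (suHom hF 3 s).1

theorem ap_mulVec (s : Cfsg.SU 3 F q) (v : Fin 3 → F) :
    ap hF s v = (s.1 : Matrix (Fin 3) (Fin 3) F) *ᵥ v := suHom_apply hF s v

theorem ap_mul (a b : Cfsg.SU 3 F q) (v : Fin 3 → F) : ap hF (a * b) v = ap hF a (ap hF b v) := by
  simp [ap, map_mul]

theorem ap_one (v : Fin 3 → F) : ap hF 1 v = v := by simp [ap]

theorem ap_inv_left (a : Cfsg.SU 3 F q) (v : Fin 3 → F) : ap hF a⁻¹ (ap hF a v) = v := by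
  rw [← ap_mul, inv_mul_cancel, ap_one]

theorem ap_inv_right (a : Cfsg.SU 3 F q) (v : Fin 3 → F) : ap hF a (ap hF a⁻¹ v) = v := by
  rw [← ap_mul, mul_inv_cancel, ap_one]

theorem ap_form (s : Cfsg.SU 3 F q) (u v : Fin 3 → F) :
    hermB hF 3 (ap hF s u) (ap hF s v) = hermB hF 3 u v := (suHom hF 3 s).2 u v

theorem ap_ext {a b : Cfsg.SU 3 F q} (h : ∀ v, ap hF a v = ap hF b v) : a = b :=
  suHom_injective hF 3 (herm_ext h)

theorem hB3 (u v : Fin 3 → F) :
    hermB hF 3 u v = v 0 * qFrob hF (u 0) + v 1 * qFrob hF (u 1) + v 2 * qFrob hF (u 2) := by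
  simp [hermB, Fin.sum_univ_three]

include hF in
theorem two_ne_zero_of_odd (hq : Odd q) : (2 : F) ≠ 0 := by
  intro h
  obtain ⟨p, hchar⟩ := CharP.exists F
  obtain ⟨N, hp, hcard⟩ := FiniteField.card F p
  haveI := hchar
  have hp2 : p ∣ 2 := (CharP.cast_eq_zero_iff F p 2).1 (by simpa using h)
  have : p = 2 := (Nat.prime_dvd_prime_iff_eq hp Nat.prime_two).1 hp2
  subst this
  have ho : Odd (q ^ 2) := hq.pow
  rw [← hF, hcard] at ho
  exact absurd ho (by simp [Nat.even_pow, N.pos.ne'])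

include hF in
theorem three_le_of_odd (hq : Odd q) : 3 ≤ q := by
  have := two_le_of_card_sq hF
  obtain ⟨k, hk⟩ := hq
  omega

/-- Minus the identity. -/
noncomputable def negId : formIsoms (hermB hF 3) :=
  ⟨LinearEquiv.neg F, fun u v => by simp⟩

theorem hermDet_negId : (hermDet hF 3 (negId hF) : F) = -1 := by
  show ((LinearEquiv.det (LinearEquiv.neg F : (Fin 3 → F) ≃ₗ[F] (Fin 3 → F)) : Fˣ) : F) = -1
  rw [LinearEquiv.coe_det, show ((LinearEquiv.neg F : (Fin 3 → F) ≃ₗ[F] (Fin 3 → F)) :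
      (Fin 3 → F) →ₗ[F] (Fin 3 → F)) = (-1 : F) • LinearMap.id from
    LinearMap.ext fun z => by simp, LinearMap.det_smul, LinearMap.det_id, Module.finrank_fintype_fun_eq_card,
    Fintype.card_fin]
  ring

theorem exists_inv {v : Fin 3 → F} (hv : hermB hF 3 v v ≠ 0) :
    ∃ s : Cfsg.SU 3 F q, ∀ z, ap hF s z = -z + (2 * hermB hF 3 v z / hermB hF 3 v v) • v := by
  obtain ⟨g, hg⟩ := exists_qrefl hF hv (l := -1) (by simp)
  have hd : (hermDet hF 3 g : F) = -1 := by
    rw [hermDet_of_apply hF g (((-1 - 1) / hermB hF 3 v v) • hermB hF 3 v) v (fun z => by rw [hg]; simp)]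
    simp only [LinearMap.smul_apply, smul_eq_mul]
    field_simp
    ring
  obtain ⟨s, hs⟩ : negId hF * g ∈ (suHom hF 3).range := by
    rw [range_suHom, MonoidHom.mem_ker, map_mul]
    refine Units.ext ?_
    rw [Units.val_mul, hermDet_negId, hd]
    simp
  refine ⟨s, fun z => ?_⟩
  show (suHom hF 3 s).1 z = _
  rw [hs, Subgroup.coe_mul, LinearEquiv.mul_apply, hg]
  simp only [negId, LinearEquiv.neg_apply, neg_add, ← neg_smul]
  congr 2
  field_simp
  ring

open scoped _root_.Classical in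
/-- The involution with fixed space the line of `v` (the identity for isotropic `v`). -/
noncomputable def inv (v : Fin 3 → F) : Cfsg.SU 3 F q :=
  if h : hermB hF 3 v v ≠ 0 then (exists_inv hF h).choose else 1

theorem inv_apply {v : Fin 3 → F} (hv : hermB hF 3 v v ≠ 0) (z : Fin 3 → F) :
    ap hF (inv hF v) z = -z + (2 * hermB hF 3 v z / hermB hF 3 v v) • v := by
  rw [inv, dif_pos hv]
  exact (exists_inv hF hv).choose_spec z

theorem form_smul (l : F) (v : Fin 3 → F) :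
    hermB hF 3 (l • v) (l • v) = qFrob hF l * l * hermB hF 3 v v := by
  simp only [map_smulₛₗ, LinearMap.smul_apply, smul_eq_mul, RingHom.id_apply]
  ring

theorem form_smul_ne {l : F} (hl : l ≠ 0) {v : Fin 3 → F} (hv : hermB hF 3 v v ≠ 0) :
    hermB hF 3 (l • v) (l • v) ≠ 0 := by
  rw [form_smul]
  exact mul_ne_zero (mul_ne_zero ((_root_.map_ne_zero _).2 hl) hl) hv

theorem inv_smul {l : F} (hl : l ≠ 0) {v : Fin 3 → F} (hv : hermB hF 3 v v ≠ 0) :
    inv hF (l • v) = inv hF v := by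
  refine ap_ext hF fun z => ?_
  rw [inv_apply hF (form_smul_ne hF hl hv), inv_apply hF hv, form_smul, smul_smul]
  congr 2
  simp only [map_smulₛₗ, LinearMap.smul_apply, smul_eq_mul]
  have : qFrob hF l ≠ 0 := (_root_.map_ne_zero _).2 hl
  field_simp

theorem inv_ne_one (h2 : (2 : F) ≠ 0) {v : Fin 3 → F} (hv : hermB hF 3 v v ≠ 0) : inv hF v ≠ 1 := by
  intro h
  have hline : ∀ z, ∃ a : F, z = a • v := fun z => by
    have h1 := inv_apply hF hv z
    rw [h, ap_one] at h1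
    refine ⟨hermB hF 3 v z / hermB hF 3 v v, smul_right_injective (Fin 3 → F) h2 ?_⟩
    simp only [smul_smul]
    rw [two_smul, ← mul_div_assoc]
    nth_rewrite 1 [h1]
    abel
  obtain ⟨a, ha⟩ := hline (Pi.single 0 1)
  obtain ⟨b, hb⟩ := hline (Pi.single 1 1)
  have h00 := congrFun ha 0
  have h01 := congrFun ha 1
  have h11 := congrFun hb 1
  simp at h00 h01 h11
  rcases h01 with rfl | h01
  · simp at h00
  · simp [h01] at h11

theorem inv_self (v : Fin 3 → F) (hv : hermB hF 3 v v ≠ 0) : ap hF (inv hF v) v = v := by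
  rw [inv_apply hF hv, mul_div_assoc, div_self hv, mul_one, two_smul]
  abel

theorem inv_mul_self (v : Fin 3 → F) : inv hF v * inv hF v = 1 := by
  by_cases hv : hermB hF 3 v v ≠ 0
  · refine ap_ext hF fun z => ?_
    rw [ap_mul, ap_one, inv_apply hF hv z, map_add, map_neg, map_smul, inv_self hF v hv,
      inv_apply hF hv z]
    abel
  · rw [inv, dif_neg hv, one_mul]

theorem inv_eq_imp (h2 : (2 : F) ≠ 0) {u v : Fin 3 → F} (hu : hermB hF 3 u u ≠ 0)
    (hv : hermB hF 3 v v ≠ 0) (h : inv hF u = inv hF v) : ∃ l : F, l ≠ 0 ∧ u = l • v := by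
  have h1 := inv_apply hF hv u
  rw [← h, inv_self hF u hu] at h1
  have hu' : u = (hermB hF 3 v u / hermB hF 3 v v) • v := by
    refine smul_right_injective (Fin 3 → F) h2 ?_
    simp only [smul_smul]
    rw [two_smul, ← mul_div_assoc]
    nth_rewrite 1 [h1]
    abel
  refine ⟨_, fun h0 => hu ?_, hu'⟩
  rw [h0, zero_smul] at hu'
  rw [hu']
  simp

theorem conj_inv (g : Cfsg.SU 3 F q) {v : Fin 3 → F} (hv : hermB hF 3 v v ≠ 0) :
    g * inv hF v * g⁻¹ = inv hF (ap hF g v) := by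
  refine ap_ext hF fun z => ?_
  rw [ap_mul, ap_mul, inv_apply hF hv, inv_apply hF (by rw [ap_form]; exact hv), map_add, map_neg,
    map_smul, ap_inv_right, ap_form]
  congr 3
  rw [← ap_form hF g v (ap hF g⁻¹ z), ap_inv_right]

theorem commute_inv (h2 : (2 : F) ≠ 0) {u v : Fin 3 → F} (hu : hermB hF 3 u u ≠ 0)
    (hv : hermB hF 3 v v ≠ 0) :
    Commute (inv hF v) (inv hF u) ↔ inv hF u = inv hF v ∨ hermB hF 3 v u = 0 := by
  have hw : hermB hF 3 (ap hF (inv hF v) u) (ap hF (inv hF v) u) ≠ 0 := by rw [ap_form]; exact hu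
  constructor
  · intro hc
    have h1 := conj_inv hF (inv hF v) hu
    rw [hc.eq, mul_inv_cancel_right] at h1
    obtain ⟨l, hl, hl'⟩ := inv_eq_imp hF h2 hw hu h1.symm
    rw [inv_apply hF hv] at hl'
    rcases eq_or_ne (hermB hF 3 v u) 0 with h0 | h0
    · exact Or.inr h0
    left
    have hk : 2 * hermB hF 3 v u / hermB hF 3 v v ≠ 0 := div_ne_zero (mul_ne_zero h2 h0) hv
    have h3 : v = ((2 * hermB hF 3 v u / hermB hF 3 v v)⁻¹ * (1 + l)) • u := by
      rw [← smul_smul, add_smul, one_smul, ← hl', add_neg_cancel_left, smul_smul, inv_mul_cancel₀ hk,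
        one_smul]
    have hne : (2 * hermB hF 3 v u / hermB hF 3 v v)⁻¹ * (1 + l) ≠ 0 := fun h4 => by
      rw [h4, zero_smul] at h3
      exact hv (by rw [h3]; simp)
    rw [h3, inv_smul hF hne hu]
  · rintro (h | h)
    · rw [h]
    · have h1 := conj_inv hF (inv hF v) hu
      rw [inv_apply hF hv u, h, mul_zero, zero_div, zero_smul, add_zero, ← neg_one_smul F u,
        inv_smul hF (neg_ne_zero.2 one_ne_zero) hu] at h1
      exact mul_inv_eq_iff_eq_mul.1 h1

/-- The determinant of an isometry has norm one. -/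
theorem hermDet_norm (g : formIsoms (hermB hF 3)) :
    qFrob hF (hermDet hF 3 g : F) * (hermDet hF 3 g : F) = 1 := by
  have hmem : glLin.symm g.1 ∈ Cfsg.GU 3 F q := fun u v => by
    show Cfsg.hermForm 3 F q (((glLin.symm g.1 : GL (Fin 3) F) : Matrix (Fin 3) (Fin 3) F) *ᵥ u)
        (((glLin.symm g.1 : GL (Fin 3) F) : Matrix (Fin 3) (Fin 3) F) *ᵥ v) = _
    rw [← glLin_apply, ← glLin_apply, MulEquiv.apply_symm_apply, ← hermB_apply hF, ← hermB_apply hF]
    exact g.2 v u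
  have h1 := congrArg Matrix.det ((mem_gu_iff hF _).1 hmem)
  rw [Matrix.det_mul, Matrix.det_transpose, ← RingHom.mapMatrix_apply, ← RingHom.map_det,
    Matrix.det_one] at h1
  have hdet : ((glLin.symm g.1 : GL (Fin 3) F) : Matrix (Fin 3) (Fin 3) F).det =
      (hermDet hF 3 g : F) := by
    show _ = ((LinearEquiv.det g.1 : Fˣ) : F)
    rw [LinearEquiv.coe_det, ← LinearMap.det_toMatrix']
    congr 1
  rw [hdet] at h1
  rw [mul_comm]
  exact h1

/-- `SU₃` is transitive on non-isotropic points. -/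
theorem exists_ap_eq_e0 {v : Fin 3 → F} (hv : hermB hF 3 v v ≠ 0) :
    ∃ (g : Cfsg.SU 3 F q) (l : F), l ≠ 0 ∧ ap hF g v = l • (Pi.single 0 1 : Fin 3 → F) := by
  obtain ⟨c, hc, hw⟩ := exists_unit_multiple hF hv
  set w := c • v with hwdef
  have he : hermB hF 3 (Pi.single 0 1 : Fin 3 → F) (Pi.single 0 1) = 1 := by simp [hermB_single]
  let X := Submodule.span F ({w} : Set (Fin 3 → F))
  let φ : X →ₗ[F] (Fin 3 → F) :=
    ((hermB hF 3 w).smulRight (Pi.single 0 1 : Fin 3 → F)).comp X.subtype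
  have hφ : ∀ a : F, ∀ h : a • w ∈ X, φ ⟨a • w, h⟩ = a • Pi.single 0 1 := fun a h => by
    simp [φ, hw, -hermB_single]
  have hiso : ∀ x x' : X, hermB hF 3 (φ x) (φ x') = hermB hF 3 (x : Fin 3 → F) x' := by
    rintro ⟨x, hx⟩ ⟨x', hx'⟩
    obtain ⟨a, rfl⟩ := Submodule.mem_span_singleton.1 hx
    obtain ⟨b, rfl⟩ := Submodule.mem_span_singleton.1 hx'
    rw [hφ, hφ]
    simp only [map_smulₛₗ, LinearMap.smul_apply, smul_eq_mul, map_smul, hw, he, RingHom.id_apply]
  have hinj : Function.Injective φ := by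
    rw [injective_iff_map_eq_zero]
    rintro ⟨x, hx⟩ h0
    obtain ⟨a, rfl⟩ := Submodule.mem_span_singleton.1 hx
    rw [hφ] at h0
    have := congrFun h0 0
    simp at this
    simp [this]
  obtain ⟨g, hg, hgx⟩ := hasWittExt_hermB hF 3 X φ hinj hiso
  have hgw : g w = Pi.single 0 1 := by
    have := hgx ⟨(1 : F) • w, by rw [one_smul]; exact Submodule.mem_span_singleton_self w⟩
    rw [hφ] at this
    simpa using this
  have hn := hermDet_norm hF ⟨g, hg⟩
  set d : Fˣ := hermDet hF 3 ⟨g, hg⟩ with hd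
  have he1 : hermB hF 3 (Pi.single 1 1 : Fin 3 → F) (Pi.single 1 1) ≠ 0 := by simp [hermB_single]
  have hl : qFrob hF ((d : F)⁻¹) * (d : F)⁻¹ = 1 := by rw [map_inv₀, ← mul_inv, hn, inv_one]
  obtain ⟨r, hr⟩ := exists_qrefl hF he1 hl
  have hrd : (hermDet hF 3 r : F) = (d : F)⁻¹ := by
    rw [hermDet_of_apply hF r ((((d : F)⁻¹ - 1) /
      hermB hF 3 (Pi.single 1 1 : Fin 3 → F) (Pi.single 1 1)) • hermB hF 3 (Pi.single 1 1)) (Pi.single 1 1)
      (fun z => by rw [hr]; simp)]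
    simp [hermB_single]
  obtain ⟨s, hs⟩ : r * ⟨g, hg⟩ ∈ (suHom hF 3).range := by
    rw [range_suHom, MonoidHom.mem_ker, map_mul]
    refine Units.ext ?_
    rw [Units.val_mul, hrd, ← hd, inv_mul_cancel₀ d.ne_zero, Units.val_one]
  refine ⟨s, c⁻¹, inv_ne_zero hc, ?_⟩
  have hvw : v = c⁻¹ • w := by rw [hwdef, smul_smul, inv_mul_cancel₀ hc, one_smul]
  rw [hvw, map_smul]
  congr 1
  show (suHom hF 3 s).1 w = _
  rw [hs, Subgroup.coe_mul, LinearEquiv.mul_apply]
  show r.1 (g w) = _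
  rw [hgw, hr]
  simp [hermB_single]

/-- An involution has a non-isotropic fixed vector. -/
theorem exists_fixed (hq : Odd q) {t : Cfsg.SU 3 F q} (ht2 : t * t = 1) :
    ∃ v, hermB hF 3 v v ≠ 0 ∧ ap hF t v = v := by
  have H := isHermSpace_hermB hF 3
  have h2 := two_ne_zero_of_odd hF hq
  by_contra hno
  push Not at hno
  have hiso : ∀ x, ap hF t x = x → hermB hF 3 x x = 0 := fun x hx => by
    by_contra h0
    exact hno x h0 hx
  obtain ⟨c, hc⟩ := H.exists_moved
  have horth : ∀ x y, ap hF t x = x → ap hF t y = y → hermB hF 3 x y = 0 := by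
    intro x y hx hy
    have e1 := hiso (x + y) (by rw [map_add, hx, hy])
    have e2 := hiso (c • x + y) (by rw [map_add, map_smul, hx, hy])
    simp [hiso x hx, hiso y hy] at e1 e2
    have : (qFrob hF c - c) * hermB hF 3 x y = 0 := by linear_combination e2 - c * e1
    exact (mul_eq_zero.1 this).resolve_left (sub_ne_zero.2 hc)
  have hz : ∀ z, ap hF t z = -z := by
    intro z
    have hfix : ap hF t (z + ap hF t z) = z + ap hF t z := by
      rw [map_add, ← ap_mul, ht2, ap_one, add_comm]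
    refine eq_neg_of_add_eq_zero_right (H.sep _ fun y => ?_)
    have hfy : ap hF t (y + ap hF t y) = y + ap hF t y := by
      rw [map_add, ← ap_mul, ht2, ap_one, add_comm]
    have e := horth _ _ hfix hfy
    rw [map_add (hermB hF 3 (z + ap hF t z))] at e
    have e2 : hermB hF 3 (z + ap hF t z) (ap hF t y) = hermB hF 3 (z + ap hF t z) y := by
      conv_lhs => rw [← hfix]
      rw [ap_form]
    rw [e2, ← two_mul] at e
    exact (mul_eq_zero.1 e).resolve_left h2
  have heq : suHom hF 3 t = negId hF := herm_ext fun z => by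
    show ap hF t z = _
    rw [hz]; simp [negId]
  have hk : negId hF ∈ (hermDet hF 3).ker := by rw [← range_suHom, ← heq]; exact ⟨t, rfl⟩
  have := congrArg Units.val (MonoidHom.mem_ker.1 hk)
  rw [hermDet_negId, Units.val_one] at this
  exact h2 (by linear_combination -this)

theorem eq_inv_e0 (hq : Odd q) {t : Cfsg.SU 3 F q} (ht : t ≠ 1) (ht2 : t * t = 1)
    (hfix : ap hF t (Pi.single 0 1) = Pi.single 0 1) : t = inv hF (Pi.single 0 1) := by
  have h2 := two_ne_zero_of_odd hF hq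
  set M : Matrix (Fin 3) (Fin 3) F := (t.1 : Matrix (Fin 3) (Fin 3) F) with hM
  have hcol : ∀ i, M i 0 = if i = 0 then 1 else 0 := fun i => by
    have := congrFun hfix i
    rw [ap_mulVec, Matrix.mulVec_single_one] at this
    simpa [Pi.single_apply, hM] using this
  have hrow : ∀ z : Fin 3 → F, (M *ᵥ z) 0 = z 0 := fun z => by
    have := ap_form hF t (Pi.single 0 1) z
    rw [hfix, ap_mulVec] at this
    simpa [hB3, hM] using this
  have h01 : M 0 1 = 0 := by simpa [Matrix.mulVec_single_one] using hrow (Pi.single 1 1)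
  have h02 : M 0 2 = 0 := by simpa [Matrix.mulVec_single_one] using hrow (Pi.single 2 1)
  have h00 : M 0 0 = 1 := by simpa using hcol 0
  have h10 : M 1 0 = 0 := by simpa using hcol 1
  have h20 : M 2 0 = 0 := by simpa using hcol 2
  have hsq : M * M = 1 := by
    have := congrArg (fun s : Cfsg.SU 3 F q => (s.1 : Matrix (Fin 3) (Fin 3) F)) ht2
    simpa [hM] using this
  have hdet : M.det = 1 := t.1.2
  rw [Matrix.det_fin_three, h00, h10, h20, h01, h02] at hdet
  have e11 := congrFun (congrFun hsq 1) 1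
  have e12 := congrFun (congrFun hsq 1) 2
  have e21 := congrFun (congrFun hsq 2) 1
  have e22 := congrFun (congrFun hsq 2) 2
  simp [Matrix.mul_apply, Fin.sum_univ_three, h01, h02, h10, h20] at e11 e12 e21 e22
  have hsum : M 1 1 + M 2 2 ≠ 0 := fun h => h2 (by linear_combination -hdet - e11 + (M 1 1) * h)
  have h12 : M 1 2 = 0 := (mul_eq_zero.1 (show M 1 2 * (M 1 1 + M 2 2) = 0 by
    linear_combination e12)).resolve_right hsum
  have h21 : M 2 1 = 0 := (mul_eq_zero.1 (show M 2 1 * (M 1 1 + M 2 2) = 0 by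
    linear_combination e21)).resolve_right hsum
  have hd' : M 1 1 * M 2 2 = 1 := by
    rw [h12, h21] at hdet; linear_combination hdet
  rw [h12, h21] at e11
  have h11 : M 1 1 = 1 ∨ M 1 1 = -1 := mul_self_eq_one_iff.1 (by linear_combination e11)
  have h22 : M 2 2 = M 1 1 := by rcases h11 with h | h <;> rw [h] at hd' ⊢ <;> linear_combination (norm := ring_nf) (M 1 1) * hd' <;> simp [h]
  rcases h11 with h | h
  · refine absurd (ap_ext hF fun z => ?_) ht
    rw [ap_mulVec, ap_one, ← hM]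
    funext i
    fin_cases i <;> simp [Matrix.mulVec, dotProduct, Fin.sum_univ_three, h00, h01, h02, h10, h12, h20, h21, h, h22]
  · refine ap_ext hF fun z => ?_
    rw [ap_mulVec, inv_apply hF (by simp [hermB_single]), ← hM]
    funext i
    fin_cases i <;>
      simp [Matrix.mulVec, dotProduct, Fin.sum_univ_three, hB3, h00, h01, h02, h10, h12, h20, h21, h, h22] <;>
      ring

theorem e0_ne : hermB hF 3 (Pi.single 0 1 : Fin 3 → F) (Pi.single 0 1) ≠ 0 := by simp [hermB_single]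

theorem exists_eq_inv (hq : Odd q) {t : Cfsg.SU 3 F q} (ht : t ≠ 1) (ht2 : t * t = 1) :
    ∃ v, hermB hF 3 v v ≠ 0 ∧ t = inv hF v := by
  obtain ⟨v, hv, hfix⟩ := exists_fixed hF hq ht2
  obtain ⟨g, l, hl, hgv⟩ := exists_ap_eq_e0 hF hv
  refine ⟨v, hv, mul_left_cancel (a := g) (mul_right_cancel (b := g⁻¹) ?_)⟩
  rw [conj_inv hF g hv, hgv, inv_smul hF hl (e0_ne hF)]
  refine eq_inv_e0 hF hq (fun h => ht ?_) ?_ ?_
  · rwa [mul_inv_eq_one, mul_eq_left] at h
  · rw [show g * t * g⁻¹ * (g * t * g⁻¹) = g * (t * t) * g⁻¹ by group, ht2, mul_one, mul_inv_cancel]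
  · have : ap hF (g * t * g⁻¹) (ap hF g v) = ap hF g v := by
      rw [ap_mul, ap_mul, ap_inv_left, hfix]
    rw [hgv, map_smul] at this
    exact smul_right_injective (Fin 3 → F) hl this

theorem exists_conj_e0 (hq : Odd q) {t : Cfsg.SU 3 F q} (ht : t ≠ 1) (ht2 : t * t = 1) :
    ∃ g : Cfsg.SU 3 F q, g * t * g⁻¹ = inv hF (Pi.single 0 1) := by
  obtain ⟨v, hv, rfl⟩ := exists_eq_inv hF hq ht ht2
  obtain ⟨g, l, hl, hgv⟩ := exists_ap_eq_e0 hF hv
  exact ⟨g, by rw [conj_inv hF g hv, hgv, inv_smul hF hl (e0_ne hF)]⟩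

/-! ### Counting -/

theorem card_split {α : Type*} [Finite α] (p r : α → Prop) :
    Nat.card {x // p x} = Nat.card {x // p x ∧ r x} + Nat.card {x // p x ∧ ¬ r x} := by
  classical
  rw [← Nat.card_congr (Equiv.subtypeSubtypeEquivSubtypeInter p r),
    ← Nat.card_congr (Equiv.subtypeSubtypeEquivSubtypeInter p (fun x => ¬ r x)), ← Nat.card_sum]
  exact Nat.card_congr (Equiv.sumCompl _).symm

include hF in
/-- Involutions with a property, against non-isotropic vectors. -/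
theorem card_inv_mul (hq : Odd q) (P : Cfsg.SU 3 F q → Prop) :
    Nat.card {t : Cfsg.SU 3 F q // (t ≠ 1 ∧ t * t = 1) ∧ P t} * (q ^ 2 - 1) =
      Nat.card {v : Fin 3 → F // hermB hF 3 v v ≠ 0 ∧ P (inv hF v)} := by
  classical
  have h2 := two_ne_zero_of_odd hF hq
  have hu : Nat.card Fˣ = q ^ 2 - 1 := by
    rw [Nat.card_units, Nat.card_eq_fintype_card, hF]
  rw [← hu, ← Nat.card_prod]
  choose rep hrep hrep' using fun t : {t : Cfsg.SU 3 F q // (t ≠ 1 ∧ t * t = 1) ∧ P t} =>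
    exists_eq_inv hF hq t.2.1.1 t.2.1.2
  refine Nat.card_eq_of_bijective (fun p => ⟨(p.2 : F) • rep p.1,
    form_smul_ne hF p.2.ne_zero (hrep p.1), by
      rw [inv_smul hF p.2.ne_zero (hrep p.1), ← hrep' p.1]; exact p.1.2.2⟩) ⟨?_, ?_⟩
  · rintro ⟨t, a⟩ ⟨t', b⟩ h
    have h' : (a : F) • rep t = (b : F) • rep t' := congrArg Subtype.val h
    have ht : t = t' := by
      refine Subtype.ext ?_
      rw [hrep' t, hrep' t', ← inv_smul hF a.ne_zero (hrep t), h', inv_smul hF b.ne_zero (hrep t')]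
    subst ht
    have hne : rep t ≠ 0 := fun h0 => hrep t (by rw [h0]; simp)
    exact Prod.ext rfl (Units.ext (smul_left_injective F hne h'))
  · rintro ⟨v, hv, hP⟩
    let t : {t : Cfsg.SU 3 F q // (t ≠ 1 ∧ t * t = 1) ∧ P t} :=
      ⟨inv hF v, ⟨inv_ne_one hF h2 hv, inv_mul_self hF v⟩, hP⟩
    obtain ⟨l, hl, hlv⟩ := inv_eq_imp hF h2 hv (hrep t) (hrep' t)
    exact ⟨(t, Units.mk0 l hl), Subtype.ext hlv.symm⟩

include hF in
theorem card_herm_two :
    (Nat.card {v : Fin 2 → F // Cfsg.hermForm 2 F q v v = 0} : ℤ) = (q : ℤ) ^ 3 + (q : ℤ) ^ 2 - q := by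
  have hq0 : (q : ℤ) ≠ 0 := by have := two_le_of_card_sq hF; omega
  refine mul_left_cancel₀ hq0 ?_
  rw [card_herm_zero_int hF 2]
  ring

include hF in
theorem card_herm_three :
    (Nat.card {v : Fin 3 → F // Cfsg.hermForm 3 F q v v = 0} : ℤ) =
      (q : ℤ) ^ 5 - (q : ℤ) ^ 3 + (q : ℤ) ^ 2 := by
  have hq0 : (q : ℤ) ≠ 0 := by have := two_le_of_card_sq hF; omega
  refine mul_left_cancel₀ hq0 ?_
  rw [card_herm_zero_int hF 3]
  ring

include hF in
theorem card_fun_int (n : ℕ) : (Nat.card (Fin n → F) : ℤ) = (q : ℤ) ^ (2 * n) := by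
  rw [Nat.card_eq_fintype_card, Fintype.card_fun, Fintype.card_fin, hF]
  push_cast
  ring

include hF in
theorem card_involutions (hq : Odd q) :
    (Nat.card {x : Cfsg.SU 3 F q // x ≠ 1 ∧ x * x = 1} : ℤ) =
      (q : ℤ) ^ 4 - (q : ℤ) ^ 3 + (q : ℤ) ^ 2 := by
  have h3 := three_le_of_odd hF hq
  have h := card_inv_mul hF hq (fun _ => True)
  simp only [and_true] at h
  have hs := card_split (fun _ : Fin 3 → F => True) (fun v => Cfsg.hermForm 3 F q v v = 0)
  simp only [true_and, Nat.card_congr (Equiv.subtypeUnivEquiv (fun _ => trivial))] at hs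
  simp only [hermB_apply] at h
  zify [show 1 ≤ q ^ 2 from Nat.one_le_pow _ _ (by omega)] at h hs
  rw [card_fun_int hF, card_herm_three hF] at hs
  refine mul_right_cancel₀ (b := (q : ℤ) ^ 2 - 1) (by nlinarith) ?_
  simp only [ne_eq] at *
  linear_combination h - hs

/-- `w ↦ (0, w)`. -/
def tailEquiv : {v : Fin 3 → F // v 0 = 0} ≃ (Fin 2 → F) where
  toFun v := Fin.tail v.1
  invFun w := ⟨Fin.cons 0 w, rfl⟩
  left_inv v := Subtype.ext (by
    show Fin.cons 0 (Fin.tail v.1) = v.1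
    conv_rhs => rw [← Fin.cons_self_tail v.1, v.2])
  right_inv w := funext fun i => by simp [Fin.tail]

theorem hermForm_cons (a : F) (w : Fin 2 → F) :
    Cfsg.hermForm 3 F q (Fin.cons a w) (Fin.cons a w) = a ^ (q + 1) + Cfsg.hermForm 2 F q w w := by
  rw [hermForm_self, hermForm_self, Fin.sum_univ_succ]
  simp

theorem hermForm_tail (v : Fin 3 → F) :
    Cfsg.hermForm 3 F q v v = (v 0) ^ (q + 1) + Cfsg.hermForm 2 F q (Fin.tail v) (Fin.tail v) := by
  rw [← hermForm_cons, Fin.cons_self_tail]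

theorem B_e0 (v : Fin 3 → F) : hermB hF 3 (Pi.single 0 1) v = v 0 := by simp [hB3]

theorem B_e0' (v : Fin 3 → F) : hermB hF 3 v (Pi.single 0 1) = qFrob hF (v 0) := by simp [hB3]

theorem commute_e0 (hq : Odd q) {v : Fin 3 → F} (hv : hermB hF 3 v v ≠ 0) :
    Commute (inv hF (Pi.single 0 1)) (inv hF v) ↔ inv hF v = inv hF (Pi.single 0 1) ∨ v 0 = 0 := by
  rw [commute_inv hF (two_ne_zero_of_odd hF hq) hv (e0_ne hF), B_e0]

theorem inv_ne_e0 (hq : Odd q) {v : Fin 3 → F} (hv : hermB hF 3 v v ≠ 0) (h0 : v 0 = 0) :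
    inv hF v ≠ inv hF (Pi.single 0 1) := by
  intro h
  obtain ⟨l, hl, rfl⟩ := inv_eq_imp hF (two_ne_zero_of_odd hF hq) hv (e0_ne hF) h
  simp [hl] at h0

theorem card_one_step (hq : Odd q) :
    (Nat.card {x : Cfsg.SU 3 F q // (x ≠ 1 ∧ x * x = 1) ∧
        (x ≠ inv hF (Pi.single 0 1) ∧ Commute (inv hF (Pi.single 0 1)) x)} : ℤ) =
      (q : ℤ) ^ 2 - q := by
  have h3 := three_le_of_odd hF hq
  have h := card_inv_mul hF hq
    (fun x => x ≠ inv hF (Pi.single 0 1) ∧ Commute (inv hF (Pi.single 0 1)) x)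
  have e : {v : Fin 3 → F // hermB hF 3 v v ≠ 0 ∧ (inv hF v ≠ inv hF (Pi.single 0 1) ∧
      Commute (inv hF (Pi.single 0 1)) (inv hF v))} ≃
      {w : Fin 2 → F // ¬ Cfsg.hermForm 2 F q w w = 0} := by
    refine (Equiv.subtypeEquivRight (q := fun v => v 0 = 0 ∧
      ¬ Cfsg.hermForm 2 F q (Fin.tail v) (Fin.tail v) = 0) fun v => ?_).trans
      ((Equiv.subtypeSubtypeEquivSubtypeInter (fun v : Fin 3 → F => v 0 = 0)
        (fun v => ¬ Cfsg.hermForm 2 F q (Fin.tail v) (Fin.tail v) = 0)).symm.trans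
        (tailEquiv.subtypeEquiv fun v => Iff.rfl))
    constructor
    · rintro ⟨hv, hne, hc⟩
      have h0 := ((commute_e0 hF hq hv).1 hc).resolve_left hne
      refine ⟨h0, fun h' => hv ?_⟩
      rw [hermB_apply, hermForm_tail, h', h0]
      simp
    · rintro ⟨h0, h'⟩
      have hv : hermB hF 3 v v ≠ 0 := by
        rw [hermB_apply, hermForm_tail, h0]; simpa using h'
      exact ⟨hv, inv_ne_e0 hF hq hv h0, (commute_e0 hF hq hv).2 (Or.inr h0)⟩
  rw [Nat.card_congr e] at h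
  have hs := card_split (fun _ : Fin 2 → F => True) (fun v => Cfsg.hermForm 2 F q v v = 0)
  simp only [true_and, Nat.card_congr (Equiv.subtypeUnivEquiv (fun _ => trivial))] at hs
  zify [show 1 ≤ q ^ 2 from Nat.one_le_pow _ _ (by omega)] at h hs
  rw [card_fun_int hF, card_herm_two hF] at hs
  refine mul_right_cancel₀ (b := (q : ℤ) ^ 2 - 1) (by nlinarith) ?_
  simp only [ne_eq] at *
  linear_combination h - hs

/-- Some involution commutes with both. -/
def Linked (t x : Cfsg.SU 3 F q) : Prop :=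
  ∃ y : Cfsg.SU 3 F q, y ≠ 1 ∧ y * y = 1 ∧ Commute t y ∧ Commute y x

theorem not_linked_e0 (hq : Odd q) {v : Fin 3 → F} (hv : hermB hF 3 v v ≠ 0) :
    (¬ Commute (inv hF (Pi.single 0 1)) (inv hF v) ∧ ¬ Linked (inv hF (Pi.single 0 1)) (inv hF v)) ↔
      v 0 ≠ 0 ∧ Fin.tail v ≠ 0 ∧ Cfsg.hermForm 2 F q (Fin.tail v) (Fin.tail v) = 0 := by
  have h2 := two_ne_zero_of_odd hF hq
  have hne : ∀ u : Fin 3 → F, hermB hF 3 u u = 0 ∨ inv hF u ≠ 1 := fun u => by
    rcases eq_or_ne (hermB hF 3 u u) 0 with h | h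
    · exact Or.inl h
    · exact Or.inr (inv_ne_one hF h2 h)
  constructor
  · rintro ⟨hc, hl⟩
    rw [commute_e0 hF hq hv, not_or] at hc
    refine ⟨hc.2, fun h0 => hc.1 ?_, ?_⟩
    · have hv' : v = v 0 • (Pi.single 0 1 : Fin 3 → F) := by
        funext i
        fin_cases i
        · simp
        · simpa [Fin.tail] using congrFun h0 0
        · simpa [Fin.tail] using congrFun h0 1
      rw [hv', inv_smul hF hc.2 (e0_ne hF)]
    · by_contra h'
      let u : Fin 3 → F := ![0, qFrob hF (v 2), -qFrob hF (v 1)]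
      have hu : hermB hF 3 u u ≠ 0 := by
        intro h; apply h'
        rw [hB3] at h
        simp [u, qFrob_qFrob] at h
        rw [hermForm_self]
        simp only [Fin.sum_univ_two, Fin.tail, pow_succ', ← qFrob_apply hF]
        simp
        linear_combination h
      refine hl ⟨inv hF u, inv_ne_one hF h2 hu, inv_mul_self hF u, (commute_e0 hF hq hu).2 (Or.inr rfl),
        ((commute_inv hF h2 hu hv).2 (Or.inr ?_)).symm⟩
      rw [hB3]; simp [u]; ring
  · rintro ⟨h0, ht, h'⟩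
    have hne' : inv hF v ≠ inv hF (Pi.single 0 1) := fun h => by
      obtain ⟨l, -, rfl⟩ := inv_eq_imp hF h2 hv (e0_ne hF) h
      refine ht (funext fun i => ?_)
      simp [Fin.tail]
    refine ⟨fun hc => ((commute_e0 hF hq hv).1 hc).elim hne' h0, ?_⟩
    rintro ⟨y, hy, hy2, hty, hyx⟩
    obtain ⟨u, hu, rfl⟩ := exists_eq_inv hF hq hy hy2
    rcases (commute_e0 hF hq hu).1 hty with hu0 | hu0
    · rw [hu0, commute_e0 hF hq hv] at hyx
      exact hyx.elim hne' h0
    rcases (commute_inv hF h2 hu hv).1 hyx.symm with he | he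
    · obtain ⟨l, hl, rfl⟩ := inv_eq_imp hF h2 hu hv he
      exact h0 ((mul_eq_zero.1 hu0).resolve_left hl)
    -- `u ⊥ v`, `u₀ = 0`: then `u` is isotropic with the tail of `v`
    refine hu ?_
    rw [hB3, hu0] at he ⊢
    rw [hermForm_self] at h'
    simp only [Fin.sum_univ_two, Fin.tail, pow_succ', ← qFrob_apply hF] at h'
    have h'' : v 1 * qFrob hF (v 1) + v 2 * qFrob hF (v 2) = 0 := by simpa using h'
    simp only [zero_mul, zero_add] at he ⊢
    have he' : qFrob hF (u 1) * v 1 + qFrob hF (u 2) * v 2 = 0 := by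
      simpa [map_add, map_mul, qFrob_qFrob] using congrArg (qFrob hF) he
    have k1 : (u 1 * qFrob hF (u 1) + u 2 * qFrob hF (u 2)) * v 1 = 0 ∧
        (u 1 * qFrob hF (u 1) + u 2 * qFrob hF (u 2)) * v 2 = 0 := by
      rcases eq_or_ne (v 1) 0 with hv1 | hv1
      · exfalso
        refine ht (funext fun i => ?_)
        rw [hv1] at h''
        simp at h''
        fin_cases i <;> simp [Fin.tail, hv1, h'']
      have hv2 : v 2 ≠ 0 := fun hv2 => hv1 (by rw [hv2] at h''; simpa using h'')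
      constructor
      · have := congrArg (fun e => e * qFrob hF (v 2)) he'
        simp only [zero_mul] at this
        refine (mul_eq_zero.1 (show ((u 1 * qFrob hF (u 1) + u 2 * qFrob hF (u 2)) * v 1) *
          qFrob hF (v 2) = 0 by
            linear_combination (u 1) * this - (qFrob hF (u 2) * u 1) * h'' + (qFrob hF (u 2) * v 1) * he)).resolve_right
          ((_root_.map_ne_zero _).2 hv2)
      · have := congrArg (fun e => e * qFrob hF (v 1)) he'
        simp only [zero_mul] at this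
        refine (mul_eq_zero.1 (show ((u 1 * qFrob hF (u 1) + u 2 * qFrob hF (u 2)) * v 2) *
          qFrob hF (v 1) = 0 by
            linear_combination (u 2) * this - (qFrob hF (u 1) * u 2) * h'' + (qFrob hF (u 1) * v 2) * he)).resolve_right
          ((_root_.map_ne_zero _).2 hv1)
    by_contra hne''
    refine ht (funext fun i => ?_)
    fin_cases i
    · simpa [Fin.tail] using (mul_eq_zero.1 k1.1).resolve_left hne''
    · simpa [Fin.tail] using (mul_eq_zero.1 k1.2).resolve_left hne''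

theorem card_three_step (hq : Odd q) :
    (Nat.card {x : Cfsg.SU 3 F q // (x ≠ 1 ∧ x * x = 1) ∧
        (¬ Commute (inv hF (Pi.single 0 1)) x ∧ ¬ Linked (inv hF (Pi.single 0 1)) x)} : ℤ) =
      (q : ℤ) ^ 3 + (q : ℤ) ^ 2 - q - 1 := by
  have h3 := three_le_of_odd hF hq
  have h := card_inv_mul hF hq (fun x =>
    ¬ Commute (inv hF (Pi.single 0 1)) x ∧ ¬ Linked (inv hF (Pi.single 0 1)) x)
  have e : {v : Fin 3 → F // hermB hF 3 v v ≠ 0 ∧ (¬ Commute (inv hF (Pi.single 0 1)) (inv hF v) ∧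
      ¬ Linked (inv hF (Pi.single 0 1)) (inv hF v))} ≃
      {a : F // a ≠ 0} × {w : Fin 2 → F // w ≠ 0 ∧ Cfsg.hermForm 2 F q w w = 0} := by
    refine (Equiv.subtypeEquivRight (q := fun v => v 0 ≠ 0 ∧ Fin.tail v ≠ 0 ∧
      Cfsg.hermForm 2 F q (Fin.tail v) (Fin.tail v) = 0) fun v => ?_).trans
      { toFun := fun v => (⟨v.1 0, v.2.1⟩, ⟨Fin.tail v.1, v.2.2⟩)
        invFun := fun p => ⟨Fin.cons p.1.1 p.2.1, by simpa using p.1.2, by simpa [Fin.tail_cons] using p.2.2⟩
        left_inv := fun v => Subtype.ext (Fin.cons_self_tail v.1)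
        right_inv := fun p => Prod.ext (Subtype.ext (by simp)) (Subtype.ext (by simp [Fin.tail_cons])) }
    constructor
    · rintro ⟨hv, hp⟩; exact (not_linked_e0 hF hq hv).1 hp
    · intro hp
      have hv : hermB hF 3 v v ≠ 0 := by
        rw [hermB_apply, hermForm_tail, hp.2.2, add_zero]; exact pow_ne_zero _ hp.1
      exact ⟨hv, (not_linked_e0 hF hq hv).2 hp⟩
  rw [Nat.card_congr e, Nat.card_prod] at h
  have h0 : Nat.card {a : F // a ≠ 0} = q ^ 2 - 1 := by
    rw [← Nat.card_congr (unitsEquivNeZero (G₀ := F)), Nat.card_units, Nat.card_eq_fintype_card, hF]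
  have hw : Nat.card {w : Fin 2 → F // Cfsg.hermForm 2 F q w w = 0} =
      1 + Nat.card {w : Fin 2 → F // w ≠ 0 ∧ Cfsg.hermForm 2 F q w w = 0} := by
    rw [card_split (fun w : Fin 2 → F => Cfsg.hermForm 2 F q w w = 0) (fun w => w = 0)]
    congr 1
    · refine Nat.card_eq_one_iff_unique.2 ⟨⟨fun a b => Subtype.ext (a.2.2.trans b.2.2.symm)⟩,
        ⟨⟨0, by simp [hermForm_self], rfl⟩⟩⟩
    · exact Nat.card_congr (Equiv.subtypeEquivRight fun w => and_comm)
  rw [h0] at h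
  have hz := card_herm_two hF
  have hcancel := mul_right_cancel₀ (show q ^ 2 - 1 ≠ 0 by
    have : 4 ≤ q ^ 2 := by nlinarith
    omega) (h.trans (mul_comm _ _))
  omega

/-! ### Transfer and the statements -/

theorem commute_equiv_iff {G : Type*} [Group G] (e : G ≃* G) (a b : G) :
    Commute (e a) (e b) ↔ Commute a b :=
  ⟨fun h => by simpa using h.map e.symm, fun h => h.map e⟩

include hF in
theorem class_size (hq : Odd q) :
    Nat.card {x : Cfsg.SU 3 F q // x ≠ 1 ∧ x * x = 1} = q ^ 2 * (q ^ 2 - q + 1) := by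
  have h := card_involutions hF hq
  have : q ≤ q ^ 2 := Nat.le_self_pow (by norm_num) q
  zify [this]
  linear_combination h

include hF in
theorem conjugate (hq : Odd q) {t x : Cfsg.SU 3 F q} (ht : t ≠ 1) (ht2 : t * t = 1) (hx : x ≠ 1)
    (hx2 : x * x = 1) : ∃ g : Cfsg.SU 3 F q, g * t * g⁻¹ = x := by
  obtain ⟨a, ha⟩ := exists_conj_e0 hF hq ht ht2
  obtain ⟨b, hb⟩ := exists_conj_e0 hF hq hx hx2
  refine ⟨b⁻¹ * a, ?_⟩
  rw [_root_.mul_inv_rev, inv_inv, show b⁻¹ * a * t * (a⁻¹ * b) = b⁻¹ * (a * t * a⁻¹) * b by group, ha, ← hb]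
  group

include hF in
theorem card_centralizer (hq : Odd q) {t : Cfsg.SU 3 F q} (ht : t ≠ 1) (ht2 : t * t = 1) :
    Nat.card ↥(Subgroup.centralizer ({t} : Set ↥(Cfsg.SU 3 F q))) = q * (q + 1) * (q ^ 2 - 1) := by
  have h3 := three_le_of_odd hF hq
  have hcar : (ConjClasses.mk t).carrier = {x | x ≠ 1 ∧ x * x = 1} := by
    ext x
    rw [ConjClasses.mem_carrier_iff_mk_eq, ConjClasses.mk_eq_mk_iff_isConj, isConj_comm, isConj_iff,
      Set.mem_setOf_eq]
    constructor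
    · rintro ⟨g, rfl⟩
      refine ⟨fun h => ht ?_, ?_⟩
      · rwa [mul_inv_eq_one, mul_eq_left] at h
      · rw [show g * t * g⁻¹ * (g * t * g⁻¹) = g * (t * t) * g⁻¹ by group, ht2, mul_one, mul_inv_cancel]
    · rintro ⟨hx, hx2⟩; exact conjugate hF hq ht ht2 hx hx2
  letI : Fintype ↥(Cfsg.SU 3 F q) := Fintype.ofFinite _
  have h := CfsgLib.Char.natCard_carrier_mul_centralizer t
  rw [hcar] at h
  change Nat.card {x : Cfsg.SU 3 F q // x ≠ 1 ∧ x * x = 1} * _ = _ at h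
  have hN := card_involutions hF hq
  have hsu := card_su_mul hF (n := 3) (by norm_num)
  rw [card_gu hF 3] at hsu
  simp [Finset.prod_range_succ, show Even 2 by decide, -Nat.card_eq_fintype_card] at hsu
  have hq2 : 1 ≤ q ^ 2 := Nat.one_le_pow _ _ (by omega)
  zify [hq2] at h hsu ⊢
  refine mul_left_cancel₀ (a := ((q : ℤ) ^ 4 - (q : ℤ) ^ 3 + (q : ℤ) ^ 2) * ((q : ℤ) + 1)) ?_ ?_
  · have h3' : (3 : ℤ) ≤ q := by exact_mod_cast h3
    have : (0 : ℤ) < (q : ℤ) ^ 4 - (q : ℤ) ^ 3 + (q : ℤ) ^ 2 := by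
      nlinarith [mul_le_mul_of_nonneg_left h3' (show (0 : ℤ) ≤ (q : ℤ) ^ 3 by positivity)]
    positivity
  · rw [hN] at h
    linear_combination ((q : ℤ) + 1) * h + hsu

theorem unique_third_e0 (hq : Odd q) {x : Cfsg.SU 3 F q} (hx : x ≠ 1) (hx2 : x * x = 1)
    (hxt : x ≠ inv hF (Pi.single 0 1)) (hc : Commute (inv hF (Pi.single 0 1)) x) :
    Nat.card {y : Cfsg.SU 3 F q // y ≠ 1 ∧ y * y = 1 ∧ y ≠ inv hF (Pi.single 0 1) ∧ y ≠ x ∧
      Commute (inv hF (Pi.single 0 1)) y ∧ Commute x y} = 1 := by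
  have h2 := two_ne_zero_of_odd hF hq
  obtain ⟨v, hv, rfl⟩ := exists_eq_inv hF hq hx hx2
  have hv0 := ((commute_e0 hF hq hv).1 hc).resolve_left hxt
  have hv' := hv
  rw [hB3, hv0] at hv'
  let u : Fin 3 → F := ![0, qFrob hF (v 2), -qFrob hF (v 1)]
  have hu : hermB hF 3 u u ≠ 0 := by
    intro h; apply hv'
    rw [hB3] at h
    simp [u, qFrob_qFrob] at h
    linear_combination h
  have hvu : hermB hF 3 v u = 0 := by rw [hB3]; simp [u]; ring
  rw [Nat.card_eq_one_iff_unique]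
  refine ⟨⟨fun a b => Subtype.ext ?_⟩, ⟨⟨inv hF u, inv_ne_one hF h2 hu, inv_mul_self hF u,
    inv_ne_e0 hF hq hu rfl, fun h => ?_, (commute_e0 hF hq hu).2 (Or.inr rfl),
    (commute_inv hF h2 hu hv).2 (Or.inr hvu)⟩⟩⟩
  · suffices key : ∀ y : Cfsg.SU 3 F q, (y ≠ 1 ∧ y * y = 1 ∧ y ≠ inv hF (Pi.single 0 1) ∧
        y ≠ inv hF v ∧ Commute (inv hF (Pi.single 0 1)) y ∧ Commute (inv hF v) y) → y = inv hF u by
      rw [key a.1 a.2, key b.1 b.2]
    rintro y ⟨hy, hy2, hyt, hyx, hty, hxy⟩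
    obtain ⟨w, hw, rfl⟩ := exists_eq_inv hF hq hy hy2
    have hw0 := ((commute_e0 hF hq hw).1 hty).resolve_left hyt
    have hvw := ((commute_inv hF h2 hw hv).1 hxy).resolve_left hyx
    rw [hB3, hw0] at hvw
    simp only [zero_mul, zero_add] at hvw
    have hv1 : v 1 * qFrob hF (v 1) + v 2 * qFrob hF (v 2) ≠ 0 := by simpa using hv'
    -- `w` is a multiple of `u`
    have hwu : w = ((w 1 * v 2 - w 2 * v 1) / (v 1 * qFrob hF (v 1) + v 2 * qFrob hF (v 2))) • u := by
      funext i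
      fin_cases i
      · simp [u, hw0]
      · simp [u]
        field_simp
        linear_combination (v 1) * hvw
      · simp [u]
        field_simp
        linear_combination (v 2) * hvw
    have hne : (w 1 * v 2 - w 2 * v 1) / (v 1 * qFrob hF (v 1) + v 2 * qFrob hF (v 2)) ≠ 0 := fun h0 => by
      rw [h0, zero_smul] at hwu
      exact hw (by rw [hwu]; simp)
    rw [hwu, inv_smul hF hne hu]
  · obtain ⟨l, -, hl⟩ := inv_eq_imp hF h2 hu hv h
    rw [hl, map_smul, smul_eq_mul, mul_eq_zero] at hvu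
    rcases hvu with rfl | h0
    · exact hu (by rw [hl]; simp)
    · exact hv h0

include hF in
theorem unique_third (hq : Odd q) {t x : Cfsg.SU 3 F q} (ht : t ≠ 1) (ht2 : t * t = 1) (hx : x ≠ 1)
    (hx2 : x * x = 1) (hxt : x ≠ t) (hc : Commute t x) :
    Nat.card {y : ↥(Cfsg.SU 3 F q) // y ≠ 1 ∧ y * y = 1 ∧ y ≠ t ∧ y ≠ x ∧ Commute t y ∧ Commute x y} = 1 := by
  obtain ⟨g, hg⟩ := exists_conj_e0 hF hq ht ht2
  let e := MulAut.conj g
  have het : e t = inv hF (Pi.single 0 1) := hg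
  rw [← unique_third_e0 hF hq (x := e x) (e.map_ne_one_iff.2 hx) (by rw [← map_mul, hx2, map_one])
    (by rw [← het]; exact e.injective.ne hxt) (by rw [← het]; exact hc.map e), ← het]
  refine Nat.card_congr (e.toEquiv.subtypeEquiv fun y => ?_)
  show _ ↔ e y ≠ 1 ∧ e y * e y = 1 ∧ e y ≠ e t ∧ e y ≠ e x ∧ Commute (e t) (e y) ∧ Commute (e x) (e y)
  simp only [← map_mul, ne_eq, MulEquiv.map_eq_one_iff, e.injective.eq_iff, commute_equiv_iff]

theorem linked_equiv (e : Cfsg.SU 3 F q ≃* Cfsg.SU 3 F q) (t x : Cfsg.SU 3 F q) :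
    Linked (e t) (e x) ↔ Linked t x := by
  unfold Linked
  rw [e.surjective.exists]
  simp only [← map_mul, ne_eq, MulEquiv.map_eq_one_iff, commute_equiv_iff]

include hF in
theorem graph_counts (hq : Odd q) {t : Cfsg.SU 3 F q} (ht : t ≠ 1) (ht2 : t * t = 1) :
    Nat.card {x : ↥(Cfsg.SU 3 F q) // x ≠ 1 ∧ x * x = 1 ∧ x ≠ t ∧ Commute t x} = q * (q - 1) ∧
    Nat.card {x : ↥(Cfsg.SU 3 F q) // x ≠ 1 ∧ x * x = 1 ∧ ¬ Commute t x ∧ Linked t x} =
      q * (q - 2) * (q ^ 2 - 1) ∧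
    Nat.card {x : ↥(Cfsg.SU 3 F q) // x ≠ 1 ∧ x * x = 1 ∧ ¬ Commute t x ∧ ¬ Linked t x} =
      (q + 1) * (q ^ 2 - 1) := by
  have h3 := three_le_of_odd hF hq
  obtain ⟨g, hg⟩ := exists_conj_e0 hF hq ht ht2
  let e := MulAut.conj g
  have het : e t = inv hF (Pi.single 0 1) := hg
  have hA : Nat.card {x : Cfsg.SU 3 F q // (x ≠ 1 ∧ x * x = 1) ∧ (x ≠ t ∧ Commute t x)} =
      Nat.card {x : Cfsg.SU 3 F q // (x ≠ 1 ∧ x * x = 1) ∧
        (x ≠ inv hF (Pi.single 0 1) ∧ Commute (inv hF (Pi.single 0 1)) x)} := by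
    refine Nat.card_congr (e.toEquiv.subtypeEquiv fun y => ?_)
    show _ ↔ (e y ≠ 1 ∧ e y * e y = 1) ∧ (e y ≠ _ ∧ Commute _ (e y))
    simp only [← het, ← map_mul, ne_eq, MulEquiv.map_eq_one_iff, e.injective.eq_iff, commute_equiv_iff]
  have hC : Nat.card {x : Cfsg.SU 3 F q // (x ≠ 1 ∧ x * x = 1) ∧ (¬ Commute t x ∧ ¬ Linked t x)} =
      Nat.card {x : Cfsg.SU 3 F q // (x ≠ 1 ∧ x * x = 1) ∧
        (¬ Commute (inv hF (Pi.single 0 1)) x ∧ ¬ Linked (inv hF (Pi.single 0 1)) x)} := by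
    refine Nat.card_congr (e.toEquiv.subtypeEquiv fun y => ?_)
    show _ ↔ (e y ≠ 1 ∧ e y * e y = 1) ∧ (¬ Commute _ (e y) ∧ ¬ Linked _ (e y))
    simp only [← het, ← map_mul, ne_eq, MulEquiv.map_eq_one_iff, commute_equiv_iff, linked_equiv]
  have h1 := card_one_step hF hq
  have h4 := card_three_step hF hq
  have hN := card_involutions hF hq
  rw [← hA] at h1
  rw [← hC] at h4
  have s1 := card_split (fun x : Cfsg.SU 3 F q => x ≠ 1 ∧ x * x = 1) (fun x => Commute t x)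
  have s2 := card_split (fun x : Cfsg.SU 3 F q => (x ≠ 1 ∧ x * x = 1) ∧ Commute t x) (fun x => x = t)
  have s3 := card_split (fun x : Cfsg.SU 3 F q => (x ≠ 1 ∧ x * x = 1) ∧ ¬ Commute t x)
    (fun x => Linked t x)
  have hone : Nat.card {x : Cfsg.SU 3 F q // ((x ≠ 1 ∧ x * x = 1) ∧ Commute t x) ∧ x = t} = 1 :=
    Nat.card_eq_one_iff_unique.2 ⟨⟨fun a b => Subtype.ext (a.2.2.trans b.2.2.symm)⟩,
      ⟨⟨t, ⟨⟨ht, ht2⟩, Commute.refl t⟩, rfl⟩⟩⟩
  simp only [and_assoc, and_comm (a := Commute t _) (b := ¬ (_ = t))] at s1 s2 s3 h1 h4 hone hN ⊢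
  simp only [ne_eq] at s1 s2 s3 h1 h4 hone hN ⊢
  have hq2 : 1 ≤ q ^ 2 := Nat.one_le_pow _ _ (by omega)
  have hq21 : 2 ≤ q := by omega
  refine ⟨?_, ?_, ?_⟩
  · zify [show 1 ≤ q by omega]
    linear_combination h1
  · rw [hone] at s2
    zify [hq2, hq21] at s1 s2 s3 ⊢
    linear_combination -s1 - s2 - s3 + hN - h1 - h4
  · zify [hq2]
    linear_combination h4

theorem exists_bridge (h2 : (2 : F) ≠ 0) {v : Fin 3 → F} (hv : hermB hF 3 v v ≠ 0) :
    ∃ u : Fin 3 → F, u 0 = 0 ∧ hermB hF 3 u u ≠ 0 ∧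
      hermB hF 3 u u * hermB hF 3 v v - hermB hF 3 u v * hermB hF 3 v u ≠ 0 := by
  by_contra hno
  push Not at hno
  have g1 := hno (Pi.single 1 1) (by simp) (by simp [hermB_single])
  have g2 := hno (Pi.single 2 1) (by simp) (by simp [hermB_single])
  simp [hB3] at g1 g2
  set H := hermB hF 3 v v with hH
  have hH' := hB3 hF v v
  rw [← hH] at hH'
  have n1 : v 1 * qFrob hF (v 1) = H := by linear_combination -hH' - g1
  have n2 : v 2 * qFrob hF (v 2) = H := by linear_combination -hH' - g2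
  have hv1 : v 1 ≠ 0 := fun h => hv (by rw [← n1, h]; simp)
  have hv2 : qFrob hF (v 2) ≠ 0 := fun h => hv (by rw [← n2, h]; simp)
  have hσH : qFrob hF H = H := (isHermSpace_hermB hF 3).conj v v
  have hs : qFrob hF (v 1) ≠ 0 ∧ v 2 ≠ 0 :=
    ⟨fun h => hv (by rw [← n1, h]; simp), fun h => hv (by rw [← n2, h]; simp)⟩
  obtain ⟨hv1', hv2'⟩ := hs
  have hN : (H / (v 1 * qFrob hF (v 2))) * qFrob hF (H / (v 1 * qFrob hF (v 2))) = 1 := by
    rw [map_div₀, map_mul, qFrob_qFrob, hσH]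
    field_simp
    linear_combination -(v 2 * qFrob hF (v 2)) * n1 - H * n2
  set a := H / (v 1 * qFrob hF (v 2)) with hadef
  have hs1 : a * (v 1 * qFrob hF (v 2)) = H := div_mul_cancel₀ _ (mul_ne_zero hv1 hv2)
  have hs2 : qFrob hF a * (qFrob hF (v 1) * v 2) = H := by
    have := congrArg (qFrob hF) hs1
    simpa only [map_mul, qFrob_qFrob, hσH] using this
  have e1 : hermB hF 3 ![0, 1, a] ![0, 1, a] = 1 + a * qFrob hF a := by rw [hB3]; simp
  have g3 := hno ![0, 1, a] rfl (by rw [e1, hN, one_add_one_eq_two]; exact h2)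
  rw [e1, hB3, hB3] at g3
  simp at g3
  refine hv ((mul_eq_zero.1 (show (2 : F) * H = 0 from ?_)).resolve_left h2)
  linear_combination -g3 + (H - v 2 * qFrob hF (v 2)) * hN - n1 - n2 - hs1 - hs2

theorem diameter_e0 (hq : Odd q) {x : Cfsg.SU 3 F q} (hx : x ≠ 1) (hx2 : x * x = 1) :
    ∃ y z : Cfsg.SU 3 F q, y ≠ 1 ∧ y * y = 1 ∧ z ≠ 1 ∧ z * z = 1 ∧
      Commute (inv hF (Pi.single 0 1)) y ∧ Commute y z ∧ Commute z x := by
  have h2 := two_ne_zero_of_odd hF hq
  obtain ⟨v, hv, rfl⟩ := exists_eq_inv hF hq hx hx2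
  rcases eq_or_ne (v 0) 0 with h0 | -
  · exact ⟨inv hF v, inv hF v, hx, hx2, hx, hx2, (commute_e0 hF hq hv).2 (Or.inr h0), Commute.refl _,
      Commute.refl _⟩
  obtain ⟨u, hu0, hu, hG⟩ := exists_bridge hF h2 hv
  let w : Fin 3 → F := ![qFrob hF (u 1 * v 2 - u 2 * v 1), qFrob hF (u 2 * v 0 - u 0 * v 2),
    qFrob hF (u 0 * v 1 - u 1 * v 0)]
  have huw : hermB hF 3 u w = 0 := by
    rw [hB3]; simp [w]; ring
  have hwv : hermB hF 3 v w = 0 := by
    rw [hB3]; simp [w]; ring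
  have hw : hermB hF 3 w w ≠ 0 := by
    convert hG using 1
    simp only [hB3]
    simp [w, qFrob_qFrob]
    ring
  exact ⟨inv hF u, inv hF w, inv_ne_one hF h2 hu, inv_mul_self hF u, inv_ne_one hF h2 hw, inv_mul_self hF w,
    (commute_e0 hF hq hu).2 (Or.inr hu0), (commute_inv hF h2 hw hu).2 (Or.inr huw),
    ((commute_inv hF h2 hw hv).2 (Or.inr hwv)).symm⟩

include hF in
theorem diameter (hq : Odd q) {t x : Cfsg.SU 3 F q} (ht : t ≠ 1) (ht2 : t * t = 1) (hx : x ≠ 1)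
    (hx2 : x * x = 1) :
    ∃ y z : Cfsg.SU 3 F q, y ≠ 1 ∧ y * y = 1 ∧ z ≠ 1 ∧ z * z = 1 ∧
      Commute t y ∧ Commute y z ∧ Commute z x := by
  obtain ⟨g, hg⟩ := exists_conj_e0 hF hq ht ht2
  let e := MulAut.conj g
  have het : e t = inv hF (Pi.single 0 1) := hg
  obtain ⟨y, z, h⟩ := diameter_e0 hF hq (x := e x) (e.map_ne_one_iff.2 hx)
    (by rw [← map_mul, hx2, map_one])
  obtain ⟨y, rfl⟩ := e.surjective y
  obtain ⟨z, rfl⟩ := e.surjective z
  refine ⟨y, z, ?_⟩
  simpa only [← het, ← map_mul, ne_eq, MulEquiv.map_eq_one_iff, commute_equiv_iff] using h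

end CfsgLib.KnownB.SU3Inv
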