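import Mathlib
import Cfsg.Prelude.Def_ChevAutomorphisms
import Cfsg.Agent.Lib.Chev.Monomial
import Cfsg.Agent.Lib.Chev.StDescent
import Cfsg.Agent.Lib.Chev.StWords
import Cfsg.Agent.Lib.Chev.WeylCheck
import Cfsg.Agent.Lib.Chev.SimpleTables

/-!
Generation of the Chevalley groups by the monomial subgroup and few fundamental root subgroups.
-/

set_option autoImplicit false
set_option maxRecDepth 100000

namespace CfsgLib.Chev

open Cfsg.Lie

section Checks

variable (D : ChevalleyDatum) (dat : LieData) (sd : StructData)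

/-- Fundamental roots reached by one braid move. -/
noncomputable def braidStep (S : List ℕ) : List ℕ :=
  List.rec [] (fun k _ ih => bif anyR (fun i => Nat.beq i k ||
    Nat.beq (applyW sd [i, k] (fsimple dat i)) (fsimple dat k)) S then k :: ih else ih) (upto D.rank)

/-- All fundamental roots are reached from `S`. -/
noncomputable def braidAll (S : List ℕ) : Bool :=
  allR (fun k => inL (Nat.rec S (fun _ T => braidStep D dat sd T) D.rank) k) (upto D.rank)

/-- A fundamental root as a commutator of two conjugates of `p_i`, with coefficient `C`. -/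
noncomputable def shortWit (i : ℕ) (w : ℕ × List ℕ × List ℕ × ℤ) : Bool :=
  let r := applyW sd w.2.1 (fsimple dat i)
  let s := applyW sd w.2.2.1 (fsimple dat i)
  Nat.blt w.1 D.rank && allR (fun j => Nat.blt j D.rank) w.2.1 && allR (fun j => Nat.blt j D.rank) w.2.2.1 &&
    !(Nat.beq s r) && !(Nat.beq s (fneg D r)) &&
    List.rec false (fun c rest _ => Nat.beq rest.length 0 && Nat.beq c.1 (fsimple dat w.1) &&
      Nat.beq c.2.2.1 1 && Int.beq' c.2.1 w.2.2.2) (fterms D r s)

end Checks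

namespace Good

variable {D : ChevalleyDatum} {dat : LieData} {sd : StructData} (g : Good D) {F : Type*} [Field F]
include g

theorem word_conj_mem {H : Subgroup (GL D.Idx F)} (hN : D.monomialSubgroup F ≤ H) (l : List (Fin D.rank))
    (s : Fin D.nroots) (h : ∀ t : F, g.xG s t ∈ H) (t : F) : g.xG (g.wperm l s) t ∈ H := by
  obtain ⟨c, hc⟩ := g.acts_wordN (F := F) l s
  have h1 := hc (((c⁻¹ : Fˣ) : F) * t)
  rw [← mul_assoc, Units.mul_inv, one_mul] at h1
  rw [← h1]
  exact H.mul_mem (H.mul_mem (hN (g.wordN_mem l)) (h _)) (H.inv_mem (hN (g.wordN_mem l)))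

theorem apply_mem (hl : LieChecks D dat) (hs : StructChecks D dat sd) {H : Subgroup (GL D.Idx F)}
    (hN : D.monomialSubgroup F ≤ H) {w : List ℕ} (hw : ∀ j ∈ w, j < D.rank) {a : ℕ} (ha : a < D.nroots)
    (h : ∀ t : F, g.xG a t ∈ H) :
    applyW sd w a < D.nroots ∧ ∀ t : F, g.xG (applyW sd w a) t ∈ H := by
  obtain ⟨l, rfl⟩ : ∃ l : List (Fin D.rank), l.map Fin.val = w :=
    ⟨w.pmap (fun j hj => (⟨j, hj⟩ : Fin D.rank)) hw, by simp [List.map_pmap]⟩
  rw [g.applyW_eq hl hs l ⟨a, ha⟩]
  exact ⟨(g.wperm l ⟨a, ha⟩).2, g.word_conj_mem hN l ⟨a, ha⟩ h⟩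

theorem group_le_of_braid (hl : LieChecks D dat) (hs : StructChecks D dat sd) {H : Subgroup (GL D.Idx F)}
    (hN : D.monomialSubgroup F ≤ H) {S : List ℕ} (hS : braidAll D dat sd S = true)
    (h : ∀ i ∈ S, i < D.rank ∧ ∀ t : F, g.xG (D.simple i) t ∈ H) : D.group F ≤ H := by
  have hstep : ∀ n : ℕ, ∀ k ∈ (Nat.rec S (fun _ T => braidStep D dat sd T) n : List ℕ),
      k < D.rank ∧ ∀ t : F, g.xG (D.simple k) t ∈ H := by
    intro n
    induction n with
    | zero => exact h
    | succ n ih =>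
      intro k hk
      set T : List ℕ := Nat.rec S (fun _ T => braidStep D dat sd T) n with hT
      change k ∈ braidStep D dat sd T at hk
      have hk' : k < D.rank ∧ ∃ i ∈ T, i = k ∨ applyW sd [i, k] (fsimple dat i) = fsimple dat k := by
        have hupto : ∀ L : List ℕ, (∀ x ∈ L, x < D.rank) → k ∈ (List.rec [] (fun k _ ih =>
            bif anyR (fun i => Nat.beq i k || Nat.beq (applyW sd [i, k] (fsimple dat i)) (fsimple dat k)) T
              then k :: ih else ih) L : List ℕ) →
            k < D.rank ∧ ∃ i ∈ T, i = k ∨ applyW sd [i, k] (fsimple dat i) = fsimple dat k := by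
          intro L hL hkL
          induction L with
          | nil => simp at hkL
          | cons x L ihL =>
            simp only [] at hkL
            cases hx : anyR (fun i => Nat.beq i x || Nat.beq (applyW sd [i, x] (fsimple dat i)) (fsimple dat x)) T
            · rw [hx] at hkL
              exact ihL (fun y hy => hL y (List.mem_cons_of_mem _ hy)) hkL
            · rw [hx] at hkL
              rcases List.mem_cons.1 hkL with rfl | hkL
              · simp only [anyR_eq, List.any_eq_true, Bool.or_eq_true, Nat.beq_eq] at hx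
                exact ⟨hL _ (by simp), hx⟩
              · exact ihL (fun y hy => hL y (List.mem_cons_of_mem _ hy)) hkL
        exact hupto _ (fun x hx => by rwa [upto_eq, List.mem_range] at hx) hk
      obtain ⟨hk, i, hi, rfl | he⟩ := hk'
      · exact ih i hi
      · obtain ⟨hir, him⟩ := ih i hi
        have h1 := g.apply_mem hl hs hN (w := [i, k]) (by simp [hir, hk]) (g.simple_lt hir) him
        rw [(hl.simple_facts hir).1, he, ← (hl.simple_facts hk).1] at h1
        exact ⟨hk, h1.2⟩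
  simp only [braidAll, allR_eq, List.all_eq_true, upto_eq, List.mem_range, inL_iff] at hS
  have hsimp : ∀ k < D.rank, ∀ t : F, g.xG (D.simple k) t ∈ H := fun k hk => (hstep _ k (hS k hk)).2
  have hall : ∀ r < D.nroots, ∀ t : F, g.xG r t ∈ H := by
    intro r hr
    refine (g.root_induction (P := fun r => r < D.nroots ∧ ∀ t : F, g.xG r t ∈ H)
      (fun i hi => ⟨g.simple_lt hi, hsimp i hi⟩) (fun i hi s hs' hP => ⟨g.refl_lt hi hs', fun t => ?_⟩) hr).2
    have h1 := g.word_conj_mem hN [⟨i, hi⟩] ⟨s, hs'⟩ hP.2 t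
    rw [g.wperm_cons, g.wperm_nil, mul_one] at h1
    exact h1
  refine (Subgroup.closure_le _).2 ?_
  rintro u ⟨r, t, hu⟩
  rw [show u = g.xG r t from g.eq_xG (by rw [hu, ChevalleyDatum.x, dif_pos r.2])]
  exact hall r r.2 t

theorem wit_mem (hc : HasComm D) (hl : LieChecks D dat) (hs : StructChecks D dat sd)
    {H : Subgroup (GL D.Idx F)} (hN : D.monomialSubgroup F ≤ H) {i : ℕ} (hi : i < D.rank)
    (h : ∀ t : F, g.xG (D.simple i) t ∈ H) {w : ℕ × List ℕ × List ℕ × ℤ}
    (hw : shortWit D dat sd i w = true) (hC : (w.2.2.2 : F) ≠ 0) :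
    w.1 < D.rank ∧ ∀ t : F, g.xG (D.simple w.1) t ∈ H := by
  simp only [shortWit, Bool.and_eq_true, allR_eq, List.all_eq_true, Nat.blt_eq, Bool.not_eq_true',
    ← Bool.not_eq_true, Nat.beq_eq] at hw
  obtain ⟨⟨⟨⟨⟨hk, hw1⟩, hw2⟩, hne⟩, hneg⟩, hterm⟩ := hw
  rw [← (hl.simple_facts hi).1] at hne hneg hterm
  obtain ⟨hr, hrm⟩ := g.apply_mem hl hs hN hw1 (g.simple_lt hi) h
  obtain ⟨hsr, hsm⟩ := g.apply_mem hl hs hN hw2 (g.simple_lt hi) h
  set r := applyW sd w.2.1 (D.simple i) with hrdef
  set s := applyW sd w.2.2.1 (D.simple i) with hsdef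
  rw [← neg_eq g.lie.pack hr] at hneg
  refine ⟨hk, fun t => ?_⟩
  match hm : fterms D r s, hterm with
  | [(p', C, a, b)], hterm =>
    simp only [List.length_nil, Bool.and_eq_true, Nat.beq_eq, Int.beq'_eq] at hterm
    obtain ⟨⟨⟨-, rfl⟩, rfl⟩, rfl⟩ := hterm
    have h1 := g.comm_formula hc hr hsr hne hneg (-(t / (w.2.2.2 : F))) (1 : F)
    simp only [ChevalleyDatum.commWord, ← g.fterms_eq hr hsr, hm, List.map_cons, List.map_nil,
      ChevalleyDatum.wordMat, List.prod_cons, List.prod_nil, mul_one, one_pow, pow_one, _root_.neg_neg] at h1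
    rw [show (w.2.2.2 : F) * (t / (w.2.2.2 : F)) = t by field_simp, ← (hl.simple_facts hk).1] at h1
    have h2 : g.xG s (1 : F) * g.xG r (-(t / (w.2.2.2 : F))) =
        g.xG r (-(t / (w.2.2.2 : F))) * g.xG s 1 * g.xG (D.simple w.1) t := by
      refine Units.ext ?_
      rw [Units.val_mul, Units.val_mul, Units.val_mul]
      exact h1
    rw [show g.xG (D.simple w.1) t = (g.xG r (-(t / (w.2.2.2 : F))) * g.xG s 1)⁻¹ *
      (g.xG s (1 : F) * g.xG r (-(t / (w.2.2.2 : F)))) by rw [h2]; group]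
    exact H.mul_mem (H.inv_mem (H.mul_mem (hrm _) (hsm _))) (H.mul_mem (hsm _) (hrm _))

theorem root_le {i : ℕ} (t : F) (H : Subgroup (GL D.Idx F)) (h : D.rootSubgroup F (D.simple i) ≤ H) :
    g.xG (D.simple i) t ∈ H := h (g.xG_mem_rootSubgroup _ t)

end Good

theorem intCast_ne_zero {F : Type*} [Field F] {n : ℕ} [hn : Fact n.Prime] (h : ringChar F ≠ n) :
    ((n : ℤ) : F) ≠ 0 ∧ ((-(n : ℤ) : ℤ) : F) ≠ 0 := by
  have h0 : (n : F) ≠ 0 := fun h0 => by
    rcases (Nat.dvd_prime hn.out).1 (ringChar.dvd h0) with h1 | h1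
    · exact CharP.ringChar_ne_one h1
    · exact h h1
  exact ⟨by rwa [Int.cast_natCast], by rwa [Int.cast_neg, Int.cast_natCast, neg_ne_zero]⟩

end CfsgLib.Chev
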