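import Mathlib

/-!
Lower bound for cross-characteristic representations of `Sp_{2n}(q)`, `q` odd: characters of an abelian unipotent
subgroup of the parabolic of a point.
-/

set_option autoImplicit false

namespace CfsgLib.KnownB.SpCrossDegree

open Matrix

section Rep

variable {K V : Type*} [Field K] [AddCommGroup V] [Module K V]

/-- Vectors with distinct eigen-systems are independent. -/
theorem linearIndependent_of_eigen {ι σ : Type*} {w : ι → V} {P : σ → Module.End K V} {χ : ι → σ → K}
    (hw : ∀ i, w i ≠ 0) (hP : ∀ i v, P v (w i) = χ i v • w i) (hχ : Function.Injective χ) :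
    LinearIndependent K w := by
  classical
  rw [linearIndependent_iff']
  intro s
  induction s using Finset.induction_on with
  | empty => intro g _ i hi; simp at hi
  | @insert j s hj ih =>
    intro g hg
    rw [Finset.sum_insert hj] at hg
    have hrest : ∀ i ∈ s, g i = 0 := by
      intro i hi
      obtain ⟨v, hv⟩ : ∃ v, χ i v ≠ χ j v := by
        by_contra hno
        push Not at hno
        exact hj (hχ (funext hno) ▸ hi)
      have h1 := congrArg (P v) hg
      rw [map_add, map_smul, hP, map_sum, map_zero, Finset.sum_congr rfl (fun k _ => by rw [map_smul, hP])] at h1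
      have h2 : ∑ k ∈ s, (g k * (χ k v - χ j v)) • w k = 0 := by
        rw [Finset.sum_congr rfl (fun k _ => show (g k * (χ k v - χ j v)) • w k =
          g k • χ k v • w k - χ j v • g k • w k by module), Finset.sum_sub_distrib, ← Finset.smul_sum,
          eq_neg_of_add_eq_zero_right h1, eq_neg_of_add_eq_zero_right hg]
        module
      exact (mul_eq_zero.1 (ih _ h2 i hi)).resolve_right (sub_ne_zero.2 hv)
    intro i hi
    rcases Finset.mem_insert.1 hi with rfl | hi
    · rw [Finset.sum_eq_zero (fun k hk => by rw [hrest k hk, zero_smul]), add_zero] at hg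
      exact (smul_eq_zero.1 hg).resolve_right (hw i)
    · exact hrest i hi

/-- A common eigenvector of commuting endomorphisms in an invariant subspace. -/
theorem exists_common_eigen [IsAlgClosed K] [FiniteDimensional K V] {σ : Type*} (P : σ → Module.End K V)
    (hcomm : ∀ a b, Commute (P a) (P b)) (W : Submodule K V) (hW : W ≠ ⊥)
    (hinv : ∀ a, ∀ x ∈ W, P a x ∈ W) :
    ∃ (w : V) (χ : σ → K), w ∈ W ∧ w ≠ 0 ∧ ∀ a, P a w = χ a • w := by
  obtain ⟨U, ⟨hU, hUW, hUinv⟩, hmin⟩ := wellFounded_lt.has_min
    {U : Submodule K V | U ≠ ⊥ ∧ U ≤ W ∧ ∀ a, ∀ x ∈ U, P a x ∈ U} ⟨W, hW, le_rfl, hinv⟩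
  have hscal : ∀ a, ∃ μ : K, ∀ x ∈ U, P a x = μ • x := by
    intro a
    haveI : Nontrivial U := Submodule.nontrivial_iff_ne_bot.2 hU
    obtain ⟨μ, hμ⟩ := Module.End.exists_eigenvalue ((P a).restrict (hUinv a))
    obtain ⟨x, hx⟩ := hμ.exists_hasEigenvector
    refine ⟨μ, ?_⟩
    set U' : Submodule K V := U ⊓ Module.End.eigenspace (P a) μ with hU'
    have hx' : (x : V) ∈ U' := by
      refine Submodule.mem_inf.2 ⟨x.2, Module.End.mem_eigenspace_iff.2 ?_⟩
      exact congrArg Subtype.val hx.apply_eq_smul
    have hmem : U' ∈ {U : Submodule K V | U ≠ ⊥ ∧ U ≤ W ∧ ∀ a, ∀ x ∈ U, P a x ∈ U} := by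
      refine ⟨fun h => hx.2 (Subtype.ext ?_), inf_le_left.trans hUW, fun b y hy => ?_⟩
      · rw [h, Submodule.mem_bot] at hx'; exact hx'
      · obtain ⟨hy1, hy2⟩ := Submodule.mem_inf.1 hy
        refine Submodule.mem_inf.2 ⟨hUinv b y hy1, Module.End.mem_eigenspace_iff.2 ?_⟩
        rw [← Module.End.mul_apply, (hcomm a b).eq, Module.End.mul_apply,
          Module.End.mem_eigenspace_iff.1 hy2, map_smul]
    intro y hy
    have hle : U ≤ U' := by
      by_contra hnot
      exact hmin U' hmem (lt_of_le_of_ne inf_le_left fun h => hnot h.ge)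
    exact Module.End.mem_eigenspace_iff.1 (Submodule.mem_inf.1 (hle hy)).2
  choose χ hχ using hscal
  obtain ⟨w, hw, hw0⟩ := Submodule.exists_mem_ne_zero_of_ne_bot hU
  exact ⟨w, χ, hUW hw, hw0, fun a => hχ a w hw⟩

end Rep

variable {F : Type*} [Field F] {m : ℕ}

local notation "ι" => Fin (m + 1)

/-- The symmetric matrix with first row `v`. -/
def sym (v : ι → F) : Matrix ι ι F := Matrix.of fun i j => if i = 0 then v j else if j = 0 then v i else 0

theorem sym_add (v w : ι → F) : sym (v + w) = sym v + sym w := by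
  ext i j; simp [sym]; split_ifs <;> simp

theorem sym_transpose (v : ι → F) : (sym v)ᵀ = sym v := by
  ext i j
  simp only [sym, Matrix.transpose_apply, Matrix.of_apply]
  split_ifs with h1 h2 <;> simp_all

/-- The unipotent element. -/
def up (v : ι → F) : symplecticGroup ι F :=
  ⟨fromBlocks 1 (sym v) 0 1, by
    rw [SymplecticGroup.mem_iff]
    simp [Matrix.J, fromBlocks_transpose, fromBlocks_multiply, sym_transpose]⟩

theorem up_add (v w : ι → F) : up (v + w) = up v * up w := Subtype.ext (by
  show fromBlocks 1 (sym (v + w)) 0 1 = fromBlocks 1 (sym v) 0 1 * fromBlocks 1 (sym w) 0 1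
  simp [fromBlocks_multiply, sym_add, add_comm])

/-- The linear map `x ↦ t x₀ e₀ + x'` followed by `x ↦ x + (b ⬝ x') e₀`. -/
def lev (t : F) (b : ι → F) : Matrix ι ι F :=
  Matrix.of fun i j => if i = 0 then (if j = 0 then t else b j) else (if i = j then 1 else 0)

/-- Its action on `v`. -/
def act (t : F) (b : ι → F) (v : ι → F) : ι → F :=
  fun j => if j = 0 then t * t * v 0 + 2 * t * ∑ k : Fin m, b k.succ * v k.succ else t * v j

theorem lev_mul_sym (t : F) (b v : ι → F) :
    lev t b * sym v * (lev t b)ᵀ = sym (act t b v) := by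
  ext i j
  simp only [Matrix.mul_apply, Fin.sum_univ_succ, lev, sym, act, Matrix.transpose_apply, Matrix.of_apply,
    Fin.succ_ne_zero, ↓reduceIte]
  rcases Fin.eq_zero_or_eq_succ i with rfl | ⟨i, rfl⟩ <;> rcases Fin.eq_zero_or_eq_succ j with rfl | ⟨j, rfl⟩ <;>
    simp [Fin.succ_ne_zero, Finset.mul_sum, Finset.sum_add_distrib, ite_mul, mul_ite] <;> ring_nf
  simp only [← Finset.sum_add_distrib, Finset.mul_sum]
  rw [add_right_comm, ← Finset.sum_add_distrib, add_comm]
  congr 1
  exact Finset.sum_congr rfl fun x _ => by ring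

theorem det_lev (t : F) (b : ι → F) : (lev t b).det = t := by
  have h : (lev t b).BlockTriangular id := fun i j hij => by
    have h1 : (j : ℕ) < i := hij
    have hi : i ≠ 0 := fun h => by rw [h] at h1; simp at h1
    simp [lev, hi, show i ≠ j from fun h => by rw [h] at h1; exact lt_irrefl _ h1]
  rw [Matrix.det_of_upperTriangular h, Fin.prod_univ_succ]
  simp [lev, Fin.succ_ne_zero]

/-- The Levi element. -/
noncomputable def levEl (t : F) (ht : t ≠ 0) (b : ι → F) : symplecticGroup ι F :=
  ⟨fromBlocks (lev t b) 0 0 ((lev t b)⁻¹)ᵀ, by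
    have hu : IsUnit (lev t b).det := by rw [det_lev]; exact isUnit_iff_ne_zero.2 ht
    have h1 : (lev t b)⁻¹ᵀ * (lev t b)ᵀ = 1 := by
      rw [← Matrix.transpose_mul, Matrix.mul_nonsing_inv _ hu, Matrix.transpose_one]
    rw [SymplecticGroup.mem_iff]
    simp [Matrix.J, fromBlocks_transpose, fromBlocks_multiply, Matrix.mul_nonsing_inv _ hu, h1]⟩

theorem levEl_mul_up (t : F) (ht : t ≠ 0) (b v : ι → F) :
    levEl t ht b * up v = up (act t b v) * levEl t ht b := by
  refine Subtype.ext ?_
  show fromBlocks (lev t b) 0 0 ((lev t b)⁻¹)ᵀ * fromBlocks 1 (sym v) 0 1 =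
    fromBlocks 1 (sym (act t b v)) 0 1 * fromBlocks (lev t b) 0 0 ((lev t b)⁻¹)ᵀ
  have hu : IsUnit (lev t b).det := by rw [det_lev]; exact isUnit_iff_ne_zero.2 ht
  simp [fromBlocks_multiply, ← lev_mul_sym, Matrix.mul_assoc, ← Matrix.transpose_mul,
    Matrix.nonsing_inv_mul _ hu]

theorem up_not_central {v : ι → F} (hv : v ≠ 0) : up v ∉ Subgroup.center (symplecticGroup ι F) := by
  intro h
  let J' : symplecticGroup ι F := ⟨Matrix.J ι F, SymplecticGroup.J_mem ι F⟩
  have h1 := congrArg Subtype.val (Subgroup.mem_center_iff.1 h J')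
  simp [J', up, Matrix.J, fromBlocks_multiply, fromBlocks_inj] at h1
  refine hv (funext fun j => ?_)
  have h2 : sym v = 0 := by
    first
      | exact h1
      | exact h1.symm
      | exact h1.1
      | exact h1.1.symm
      | exact h1.2
      | exact h1.2.symm
  simpa [sym] using congrFun (congrFun h2 0) j

theorem main {K : Type*} [Field K] [Fintype F] {q : ℕ} (hq : Fintype.card F = q) (hodd : Odd q)
    (hK : ringChar K ≠ ringChar F) {d : ℕ}
    (ρ : symplecticGroup ι F →* GL (Fin d) K) (hker : ρ.ker ≤ Subgroup.center (symplecticGroup ι F)) :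
    q ^ m * (q - 1) / 2 ≤ d := by
  classical
  obtain ⟨p, hchar⟩ := CharP.exists F
  haveI := hchar
  obtain ⟨N, hp, hcard⟩ := FiniteField.card F p
  haveI := Fact.mk hp
  have hp2 : p ≠ 2 := by
    rintro rfl
    rw [← hq, hcard] at hodd
    exact absurd hodd (by simp [Nat.even_pow, N.pos.ne'])
  have h2 : (2 : F) ≠ 0 := fun h => hp2 ((Nat.prime_dvd_prime_iff_eq hp Nat.prime_two).1
    ((CharP.cast_eq_zero_iff F p 2).1 (by simpa using h)))
  let L := AlgebraicClosure K
  have hpL : (p : L) ≠ 0 := by
    intro h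
    have h' : (p : K) = 0 := (algebraMap K L).injective (by rw [map_natCast, h, map_zero])
    refine hK ?_
    rw [ringChar.eq F p]
    haveI : CharP K p := (CharP.charP_iff_prime_eq_zero hp).2 h'
    exact ringChar.eq K p
  let V := Fin d → L
  let R : symplecticGroup ι F →* Module.End L V :=
    ((Matrix.toLinAlgEquiv' (R := L) (n := Fin d)).toAlgHom.toRingHom.toMonoidHom).comp
      (((algebraMap K L).mapMatrix).toMonoidHom.comp ((Units.coeHom _).comp ρ))
  have hRinj : ∀ g, R g = 1 → g ∈ ρ.ker := by
    intro g hg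
    rw [MonoidHom.mem_ker]
    refine Units.ext (Matrix.map_injective (algebraMap K L).injective ?_)
    refine (Matrix.toLinAlgEquiv' (R := L)).injective ?_
    refine hg.trans ?_
    simp
  let P : (ι → F) → Module.End L V := fun v => R (up v)
  have hPadd : ∀ v w, P (v + w) = P v * P w := fun v w => by simp only [P, up_add, map_mul]
  have hcomm : ∀ v w, Commute (P v) (P w) := fun v w => by
    show P v * P w = P w * P v
    rw [← hPadd, ← hPadd, add_comm]
  have hP0 : P 0 = 1 := by
    have h := hPadd 0 0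
    rw [add_zero] at h
    have hu : IsUnit (P 0) := (Group.isUnit (up (0 : ι → F))).map R
    exact hu.mul_left_cancel (h.symm.trans (mul_one _).symm)
  have hPp : ∀ v, P v ^ p = 1 := fun v => by
    have h : ∀ k : ℕ, P v ^ k = P (k • v) := fun k => by
      induction k with
      | zero => rw [pow_zero, zero_nsmul, hP0]
      | succ k ih => rw [pow_succ, ih, succ_nsmul, hPadd]
    rw [h, show p • v = 0 from funext fun i => by simp [CharP.cast_eq_zero F p], hP0]
  set e0 : ι → F := Pi.single 0 1 with he0
  -- an eigenvalue other than one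
  obtain ⟨ζ, hζ, hev⟩ : ∃ ζ : L, ζ ≠ 1 ∧ Module.End.HasEigenvalue (P e0) ζ := by
    by_contra hno
    push Not at hno
    have hint : IsIntegral L (P e0) := IsIntegral.of_finite L (P e0)
    have hdvd : minpoly L (P e0) ∣ Polynomial.X ^ p - Polynomial.C 1 := minpoly.dvd L _ (by simp [hPp])
    have hsq : Squarefree (minpoly L (P e0)) := Squarefree.squarefree_of_dvd hdvd
      (Polynomial.separable_X_pow_sub_C 1 hpL one_ne_zero).squarefree
    have hroots : (minpoly L (P e0)).roots ≤ {1} := by
      refine (Multiset.le_iff_subset (Polynomial.nodup_roots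
        (Polynomial.separable_X_pow_sub_C (1 : L) hpL one_ne_zero |>.of_dvd hdvd))).2 fun z hz => ?_
      rw [Multiset.mem_singleton]
      by_contra hz1
      exact hno z hz1 (Module.End.hasEigenvalue_iff_isRoot.2 ((Polynomial.mem_roots
        (minpoly.ne_zero hint)).1 hz))
    have hprod := (IsAlgClosed.splits (minpoly L (P e0))).eq_prod_roots_of_monic (minpoly.monic hint)
    have hd : minpoly L (P e0) ∣ Polynomial.X - Polynomial.C 1 := by
      rw [hprod]
      refine (Multiset.prod_dvd_prod_of_le (Multiset.map_le_map hroots)).trans ?_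
      simp
    have h1 : P e0 = 1 := by
      obtain ⟨c, hc⟩ := hd
      have h := congrArg (Polynomial.aeval (P e0)) hc
      rw [map_mul, minpoly.aeval, zero_mul, map_sub, Polynomial.aeval_X, Polynomial.aeval_C, map_one,
        sub_eq_zero] at h
      exact h
    exact up_not_central (show e0 ≠ 0 from fun h => by
      have := congrFun h 0
      simp [he0] at this) (hker (hRinj _ h1))
  obtain ⟨w, χ, hwW, hw0, hwχ⟩ := exists_common_eigen P hcomm (Module.End.eigenspace (P e0) ζ)
    (Module.End.hasEigenvalue_iff.1 hev) (fun a x hx => by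
      rw [Module.End.mem_eigenspace_iff] at hx ⊢
      rw [← Module.End.mul_apply, (hcomm e0 a).eq, Module.End.mul_apply, hx, map_smul])
  have hχe : χ e0 = ζ := by
    have h := hwχ e0
    rw [Module.End.mem_eigenspace_iff.1 hwW] at h
    exact (smul_left_injective L hw0 h).symm
  have hχadd : ∀ v v', χ (v + v') = χ v * χ v' := fun v v' => smul_left_injective L hw0 (by
    show χ (v + v') • w = (χ v * χ v') • w
    rw [← hwχ, hPadd, Module.End.mul_apply, hwχ, map_smul, hwχ, smul_smul, mul_comm])
  -- the index set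
  let S : Finset F := ((Finset.univ : Finset Fˣ).image fun t : Fˣ => (t : F) * t)
  choose sq hsq using fun s : S => Finset.mem_image.1 s.2
  let I := S × (Fin m → F)
  let bv : (Fin m → F) → (ι → F) := fun b => Fin.cons 0 b
  let χ' : I → (ι → F) → L := fun i v => χ (act (sq i.1 : F) (bv i.2) v)
  let w' : I → V := fun i => R (levEl (sq i.1 : F) (sq i.1).ne_zero (bv i.2))⁻¹ w
  have hw' : ∀ i, w' i ≠ 0 := by
    intro i h
    refine hw0 ?_
    have h' := congrArg (R (levEl (sq i.1 : F) (sq i.1).ne_zero (bv i.2))) h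
    simp only [w', ← Module.End.mul_apply, ← map_mul, mul_inv_cancel, map_one, map_zero,
      Module.End.one_apply] at h'
    exact h'
  have hP' : ∀ i v, P v (w' i) = χ' i v • w' i := by
    intro i v
    set g := levEl (sq i.1 : F) (sq i.1).ne_zero (bv i.2) with hg
    have h : up v * g⁻¹ = g⁻¹ * up (act (sq i.1 : F) (bv i.2) v) := by
      rw [eq_inv_mul_iff_mul_eq, ← mul_assoc, hg, levEl_mul_up, mul_inv_cancel_right]
    show R (up v) (R g⁻¹ w) = _
    rw [← Module.End.mul_apply, ← map_mul, h, map_mul, Module.End.mul_apply]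
    show R g⁻¹ (P _ w) = _
    rw [hwχ, map_smul]
  have hkernel : ∀ c : F, (∀ x : F, χ ((x * c) • e0) = 1) → c = 0 := by
    intro c h
    by_contra hc
    have h1 := h c⁻¹
    rw [inv_mul_cancel₀ hc, one_smul, hχe] at h1
    exact hζ h1
  have hχne : ∀ v, χ v ≠ 0 := by
    intro v h0
    have h := hχadd v (-v)
    rw [h0, zero_mul, add_neg_cancel] at h
    have h1 := hwχ 0
    rw [hP0, h, zero_smul, Module.End.one_apply] at h1
    exact hw0 h1
  have hsub : ∀ a b : F, (∀ x : F, χ ((x * a) • e0) = χ ((x * b) • e0)) → a = b := by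
    intro a b h
    refine sub_eq_zero.1 (hkernel _ fun x => ?_)
    have h' := hχadd ((x * b) • e0) ((x * (a - b)) • e0)
    rw [← add_smul, show x * b + x * (a - b) = x * a by ring, h x] at h'
    exact mul_eq_left₀ (hχne _) |>.1 h'.symm
  have hinj : Function.Injective χ' := by
    intro i j h
    have hact0 : ∀ (t : F) (b : Fin m → F) (x : F), act t (bv b) (x • e0) = (x * (t * t)) • e0 := by
      intro t b x
      funext k
      rcases Fin.eq_zero_or_eq_succ k with rfl | ⟨k, rfl⟩ <;>
        simp [act, he0, bv, Fin.succ_ne_zero] <;> ring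
    have hs : i.1 = j.1 := by
      refine Subtype.ext ?_
      rw [← (hsq i.1).2, ← (hsq j.1).2]
      refine hsub _ _ fun x => ?_
      have h' := congrFun h (x • e0)
      simp only [χ'] at h'
      rwa [hact0, hact0] at h'
    refine Prod.ext hs (funext fun k => ?_)
    have ht : (sq i.1 : F) ≠ 0 := (sq i.1).ne_zero
    refine mul_left_cancel₀ (mul_ne_zero h2 ht) (hsub _ _ fun x => ?_)
    have hactk : ∀ b : Fin m → F, act (sq i.1 : F) (bv b) (x • Pi.single k.succ 1) =
        ((sq i.1 : F) * x) • Pi.single k.succ 1 + (x * (2 * (sq i.1 : F) * b k)) • e0 := by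
      intro b
      funext l
      rcases Fin.eq_zero_or_eq_succ l with rfl | ⟨l, rfl⟩
      · simp [act, he0, bv, Fin.succ_ne_zero, Pi.single_apply, (Fin.succ_ne_zero k).symm]
        ring
      · simp [act, he0, Fin.succ_ne_zero, Pi.single_apply, Fin.succ_inj]
    have h' := congrFun h (x • Pi.single k.succ 1)
    simp only [χ', ← hs] at h'
    rw [hactk, hactk, hχadd, hχadd] at h'
    exact mul_left_cancel₀ (hχne _) h'
  have hli := linearIndependent_of_eigen hw' hP' hinj
  have hle := hli.fintype_card_le_finrank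
  rw [Module.finrank_fintype_fun_eq_card, Fintype.card_fin, Fintype.card_prod, Fintype.card_fun,
    Fintype.card_fin, hq, Fintype.card_coe] at hle
  have hS : q - 1 ≤ 2 * S.card := by
    have h := Finset.card_le_mul_card_image (Finset.univ : Finset Fˣ) (f := fun t : Fˣ => (t : F) * t) 2
      (fun s hs => by
        obtain ⟨t, -, rfl⟩ := Finset.mem_image.1 hs
        refine (Finset.card_le_card (t := ({t, -t} : Finset Fˣ)) fun u hu => ?_).trans Finset.card_le_two
        simp at hu
        rcases mul_self_eq_mul_self_iff.1 hu with hu | hu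
        · simp [Units.ext hu]
        · simp [Units.ext (show (u : F) = ((-t : Fˣ) : F) by simpa using hu)])
    rwa [Finset.card_univ, Fintype.card_units, hq] at h
  refine Nat.div_le_of_le_mul ((Nat.mul_le_mul_left _ hS).trans ?_)
  calc q ^ m * (2 * S.card) = 2 * (S.card * q ^ m) := by ring
    _ ≤ 2 * d := Nat.mul_le_mul_left 2 hle

end CfsgLib.KnownB.SpCrossDegree
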