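import Mathlib
import Cfsg.Agent.Lib.KnownB.ClassicalEmbed

/-!
A faithful representation of `Sp_{2n}(F)` in the defining characteristic has degree at least `2n`:
weights of an abelian subgroup under the signed permutations.
-/

namespace CfsgLib.KnownB

open Matrix
open scoped MatrixGroups

universe u v
variable {F : Type u} [Field F] {n : ℕ}

/-- The diagonal product of `n` copies of `2 × 2` matrices inside `2n × 2n` matrices. -/
def pairMat (f : Fin n → Matrix (Fin 2) (Fin 2) F) : Matrix (Fin n ⊕ Fin n) (Fin n ⊕ Fin n) F :=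
  fromBlocks (diagonal fun i => f i 0 0) (diagonal fun i => f i 0 1)
    (diagonal fun i => f i 1 0) (diagonal fun i => f i 1 1)

/-- `n` copies of `SL₂` inside `Sp_{2n}`. -/
def sl2PowSp (n : ℕ) :
    (Fin n → SpecialLinearGroup (Fin 2) F) →* symplecticGroup (Fin n) F where
  toFun f := ⟨pairMat fun i => (f i : Matrix (Fin 2) (Fin 2) F), by
    rw [SymplecticGroup.mem_iff]
    have hd : ∀ i, (f i : Matrix (Fin 2) (Fin 2) F) 0 0 * (f i : Matrix (Fin 2) (Fin 2) F) 1 1 -
        (f i : Matrix (Fin 2) (Fin 2) F) 0 1 * (f i : Matrix (Fin 2) (Fin 2) F) 1 0 = 1 := fun i => by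
      rw [← Matrix.det_fin_two]; exact (f i).2
    simp only [pairMat, Matrix.J, fromBlocks_transpose, fromBlocks_multiply, diagonal_transpose,
      Matrix.mul_zero, Matrix.mul_one, zero_add, add_zero, Matrix.mul_neg, Matrix.neg_mul,
      diagonal_mul_diagonal]
    congr 1 <;> (ext i j; rcases eq_or_ne i j with rfl | h)
    all_goals simp [*]
    · ring
    · linear_combination -(hd i)
    · linear_combination hd i
    · ring⟩
  map_one' := Subtype.ext (by simp [pairMat, fromBlocks_one])
  map_mul' f g := Subtype.ext (by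
    simp [pairMat, fromBlocks_multiply, Matrix.mul_apply, Fin.sum_univ_two])

theorem sl2PowSp_injective :
    Function.Injective (sl2PowSp n : (Fin n → SpecialLinearGroup (Fin 2) F) →* _) := by
  intro f g h
  have h' := fromBlocks_inj.1 (congrArg Subtype.val h)
  ext i a b
  fin_cases a <;> fin_cases b
  · simpa using congrFun (congrFun h'.1 i) i
  · simpa using congrFun (congrFun h'.2.1 i) i
  · simpa using congrFun (congrFun h'.2.2.1 i) i
  · simpa using congrFun (congrFun h'.2.2.2 i) i

/-- A permutation of the pairs inside `Sp_{2n}`. -/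
theorem exists_perm_conj_sl2PowSp (π : Equiv.Perm (Fin n)) :
    ∃ P : symplecticGroup (Fin n) F, ∀ f, P * sl2PowSp n f = sl2PowSp n (f ∘ π) * P := by
  let M := π.permMatrix F
  have hmem : fromBlocks M 0 0 M ∈ symplecticGroup (Fin n) F := by
    rw [SymplecticGroup.mem_iff]
    have h : M * Mᵀ = 1 := by
      show π.permMatrix F * (π.permMatrix F)ᵀ = 1
      rw [transpose_permMatrix, ← permMatrix_mul]; simp
    simp [Matrix.J, fromBlocks_transpose, fromBlocks_multiply, h]
  refine ⟨⟨_, hmem⟩, fun f => Subtype.ext ?_⟩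
  have h : ∀ d : Fin n → F, M * diagonal d = diagonal (d ∘ π) * M := by
    intro d
    ext i j
    by_cases hij : π i = j
    · subst hij; simp [M, PEquiv.toMatrix_apply]
    · simp [M, PEquiv.toMatrix_apply, hij]
  show fromBlocks M 0 0 M * pairMat _ = pairMat _ * fromBlocks M 0 0 M
  simp only [pairMat, fromBlocks_multiply, Matrix.zero_mul, Matrix.mul_zero, zero_add, add_zero, h]
  rfl

/-- An element of `SL₂` of order prime to the characteristic, not an involution, inverted in `SL₂`. -/
theorem exists_inverted_sl2 [Finite F] :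
    ∃ (x y : SpecialLinearGroup (Fin 2) F) (k l : ℕ), 0 < k ∧ (l : F) ≠ 0 ∧ (x ^ k) ^ l = 1 ∧
      x ^ k ≠ 1 ∧ y * x = x⁻¹ * y ∧ (x ^ (k * l) = 1) ∧ (k = 1 ∧ l = 3 ∨ k = 2 ∧ l = 2) := by
  haveI := Fintype.ofFinite F
  have hsol : ∀ t : F, (∃ a b : F, -a ^ 2 - b ^ 2 + t * (a * b) = 1) →
      ∃ x y : SpecialLinearGroup (Fin 2) F, (x : Matrix (Fin 2) (Fin 2) F) = !![0, -1; 1, t] ∧
        y * x = x⁻¹ * y := by
    rintro t ⟨a, b, h⟩
    refine ⟨⟨!![0, -1; 1, t], by simp [det_fin_two_of]⟩,
      ⟨!![a, b; b - t * a, -a], by rw [det_fin_two_of]; linear_combination h⟩, rfl, ?_⟩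
    apply Subtype.ext
    show !![a, b; b - t * a, -a] * !![0, -1; 1, t] =
      adjugate !![0, -1; 1, t] * !![a, b; b - t * a, -a]
    rw [adjugate_fin_two_of]
    ext i j
    fin_cases i <;> fin_cases j <;> simp [Matrix.mul_apply, Fin.sum_univ_two] <;> ring
  by_cases h3 : (3 : F) = 0
  · obtain ⟨a, b, hab⟩ : ∃ a b : F, -a ^ 2 - b ^ 2 + 0 * (a * b) = 1 :=
      ⟨1, 1, by linear_combination -h3⟩
    obtain ⟨x, y, hx, hy⟩ := hsol 0 ⟨a, b, hab⟩
    have h2 : ((x ^ 2 : SpecialLinearGroup (Fin 2) F) : Matrix (Fin 2) (Fin 2) F) = -1 := by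
      show (↑(x ^ 2) : Matrix (Fin 2) (Fin 2) F) = -1
      rw [sq]
      ext i j
      fin_cases i <;> fin_cases j <;>
        simp [SpecialLinearGroup.coe_mul, hx, Matrix.mul_apply, Fin.sum_univ_two]
    have h4 : (x ^ 2) ^ 2 = 1 := by
      rw [sq (x ^ 2)]
      apply Subtype.ext
      show (↑(x ^ 2) : Matrix (Fin 2) (Fin 2) F) * (↑(x ^ 2) : Matrix (Fin 2) (Fin 2) F) = 1
      rw [h2]
      simp
    have hne : (2 : F) ≠ 0 := fun h => one_ne_zero (α := F) (by linear_combination h3 - h)
    refine ⟨x, y, 2, 2, two_pos, by exact_mod_cast hne, h4, fun h => hne ?_, hy,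
      by rw [pow_mul]; exact h4, Or.inr ⟨rfl, rfl⟩⟩
    have h5 := congrFun (congrFun (congrArg Subtype.val h) 0) 0
    rw [h2] at h5
    simp at h5
    linear_combination -h5
  · obtain ⟨a, b, hab⟩ : ∃ a b : F, -a ^ 2 - b ^ 2 + (-1) * (a * b) = 1 := by
      by_cases h2 : (2 : F) = 0
      · exact ⟨1, 0, by linear_combination -h2⟩
      · have h4 : (4 : F) ≠ 0 := fun h => h2 (mul_self_eq_zero.1 (by linear_combination h))
        obtain ⟨u, w, huw⟩ := FiniteField.exists_root_sum_quadratic
          (f := Polynomial.X ^ 2) (g := Polynomial.C (3 : F) * Polynomial.X ^ 2 + Polynomial.C 4)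
          (Polynomial.degree_X_pow 2)
          (by rw [Polynomial.degree_add_eq_left_of_degree_lt] <;>
                rw [Polynomial.degree_C_mul_X_pow 2 h3]
              · rfl
              · exact lt_of_le_of_lt Polynomial.degree_C_le (by decide))
          (by rw [← Nat.odd_iff]; exact FiniteField.odd_card_of_char_ne_two (fun hc => h2 (by
              haveI : CharP F 2 := hc ▸ ringChar.charP F
              exact CharTwo.two_eq_zero)) |> fun h => Nat.odd_iff.2 h)
        simp at huw
        refine ⟨u / 2 - w / 2, w, ?_⟩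
        field_simp
        linear_combination -huw
    obtain ⟨x, y, hx, hy⟩ := hsol (-1) ⟨a, b, hab⟩
    have h : x ^ 3 = 1 := by
      rw [pow_succ, sq]
      ext i j
      fin_cases i <;> fin_cases j <;>
        simp [SpecialLinearGroup.coe_mul, hx, Matrix.mul_apply, Fin.sum_univ_two]
    refine ⟨x, y, 1, 3, one_pos, by exact_mod_cast h3, by rwa [pow_one], fun h' => ?_, hy,
      by rwa [one_mul], Or.inl ⟨rfl, rfl⟩⟩
    have h5 := congrFun (congrFun (congrArg Subtype.val (pow_one x ▸ h')) 1) 0
    rw [hx] at h5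
    simp at h5

section Eigen

variable {K : Type v} [Field K] {V : Type v} [AddCommGroup V] [Module K V]

/-- Commuting endomorphisms have a common eigenvector in any non-zero invariant subspace. -/
theorem exists_common_eigenvector [IsAlgClosed K] [FiniteDimensional K V] {ι : Type}
    (s : Finset ι) (T : ι → Module.End K V) (hc : ∀ i j, Commute (T i) (T j)) :
    ∀ W : Submodule K V, W ≠ ⊥ → (∀ i, ∀ w ∈ W, T i w ∈ W) →
      ∃ w ∈ W, w ≠ 0 ∧ ∀ i ∈ s, ∃ μ : K, T i w = μ • w := by
  classical
  induction s using Finset.induction with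
  | empty =>
    intro W hW _
    obtain ⟨w, hw, hw0⟩ := W.ne_bot_iff.1 hW
    exact ⟨w, hw, hw0, by simp⟩
  | insert a s _ ih =>
    intro W hW hinv
    haveI := Submodule.nontrivial_iff_ne_bot.2 hW
    obtain ⟨μ, hμ⟩ := Module.End.exists_eigenvalue ((T a).restrict (hinv a))
    obtain ⟨⟨w, hwW⟩, hw, hw0⟩ := hμ.exists_hasEigenvector
    rw [Module.End.mem_eigenspace_iff] at hw
    have hw' : T a w = μ • w := congrArg Subtype.val hw
    set W' := W ⊓ Module.End.eigenspace (T a) μ with hW'
    have hne : W' ≠ ⊥ := W'.ne_bot_iff.2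
      ⟨w, ⟨hwW, Module.End.mem_eigenspace_iff.2 hw'⟩, fun h => hw0 (Subtype.ext h)⟩
    obtain ⟨v, hv, hv0, hvs⟩ := ih W' hne fun i v hv => ⟨hinv i v hv.1, by
      apply Module.End.mem_eigenspace_iff.2
      rw [← Module.End.mul_apply, (hc a i).eq, Module.End.mul_apply,
        Module.End.mem_eigenspace_iff.1 hv.2, map_smul]⟩
    refine ⟨v, hv.1, hv0, fun i hi => ?_⟩
    rcases Finset.mem_insert.1 hi with rfl | hi
    · exact ⟨μ, Module.End.mem_eigenspace_iff.1 hv.2⟩
    · exact hvs i hi

/-- Common eigenvectors with distinct eigenvalue systems are linearly independent. -/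
theorem linearIndependent_of_eigen_systems {ι κ : Type} (T : ι → Module.End K V)
    (v : κ → V) (χ : κ → ι → K) (hv : ∀ a, v a ≠ 0) (h : ∀ a i, T i (v a) = χ a i • v a)
    (hχ : Function.Injective χ) : LinearIndependent K v := by
  classical
  have key : ∀ s : Finset κ, ∀ g : κ → K, ∑ a ∈ s, g a • v a = 0 → ∀ a ∈ s, g a = 0 := by
    intro s
    induction s using Finset.induction with
    | empty => simp
    | insert b s hb ih =>
      intro g hg
      have hs : ∀ a ∈ s, g a = 0 := by
        intro a ha
        obtain ⟨i, hi⟩ := Function.ne_iff.1 (hχ.ne (a₁ := a) (a₂ := b) (by rintro rfl; exact hb ha))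
        rw [Finset.sum_insert hb] at hg
        have hT := congrArg (T i) hg
        simp only [map_add, map_sum, map_smul, h, map_zero, smul_smul] at hT
        have hsub : ∑ c ∈ s, (g c * (χ c i - χ b i)) • v c = 0 := by
          have hb' := congrArg (χ b i • ·) hg
          simp only [smul_add, Finset.smul_sum, smul_smul, smul_zero] at hb'
          rw [mul_comm (χ b i)] at hb'
          calc ∑ c ∈ s, (g c * (χ c i - χ b i)) • v c
              = ((g b * χ b i) • v b + ∑ c ∈ s, (g c * χ c i) • v c) -
                ((g b * χ b i) • v b + ∑ c ∈ s, (χ b i * g c) • v c) := by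
                rw [add_sub_add_left_eq_sub, ← Finset.sum_sub_distrib]
                exact Finset.sum_congr rfl fun c _ => by rw [← sub_smul]; congr 1; ring
            _ = 0 := by rw [hT, hb', sub_zero]
        exact (mul_eq_zero.1 (ih _ hsub a ha)).resolve_right (sub_ne_zero.2 hi)
      intro a ha
      rcases Finset.mem_insert.1 ha with rfl | ha
      · rw [Finset.sum_insert hb, Finset.sum_eq_zero fun c hc => by rw [hs c hc, zero_smul],
          add_zero] at hg
        exact (smul_eq_zero.1 hg).resolve_right (hv a)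
      · exact hs a ha
  exact linearIndependent_iff'.2 key

end Eigen

/-- `2n` distinct images of a tuple under signed permutations. -/
theorem exists_signed_family {K : Type v} [Field K] (χ : Fin n → K)
    (hnz : ∀ i, χ i ≠ 0) (hact : ∃ j, χ j ^ 2 ≠ 1) :
    ∃ c : Fin n × Bool → Equiv.Perm (Fin n) × (Fin n → Bool),
      Function.Injective fun a => fun i =>
        if (c a).2 i then (χ ((c a).1 i))⁻¹ else χ ((c a).1 i) := by
  classical
  set S := Finset.univ.filter fun i => χ i ^ 2 ≠ 1 with hS
  have hmemS : ∀ i, i ∈ S ↔ χ i ^ 2 ≠ 1 := fun i => by simp [hS]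
  have hk : 0 < S.card := by
    obtain ⟨j, hj⟩ := hact
    exact Finset.card_pos.2 ⟨j, (hmemS j).2 hj⟩
  have hdiff : ∀ x : K, x ≠ 0 → x ^ 2 ≠ 1 → x⁻¹ ≠ x := fun x hx hx2 h =>
    hx2 (by rw [sq]; nth_rw 1 [← h]; exact inv_mul_cancel₀ hx)
  by_cases hfull : S = Finset.univ
  · refine ⟨fun a => (1, fun i => if a.2 then decide (i ≤ a.1) else decide (a.1 < i)), ?_⟩
    have hall : ∀ i, χ i ^ 2 ≠ 1 := fun i => (hmemS i).1 (hfull ▸ Finset.mem_univ i)
    rintro ⟨a, b⟩ ⟨a', b'⟩ h
    have hflip : ∀ i, (if b then decide (i ≤ a) else decide (a < i)) =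
        (if b' then decide (i ≤ a') else decide (a' < i)) := by
      intro i
      have hi := congrFun h i
      simp only [Equiv.Perm.one_apply] at hi
      have hcl : ∀ u w : Bool, (if u then (χ i)⁻¹ else χ i) = (if w then (χ i)⁻¹ else χ i) → u = w := by
        have h1 := hdiff _ (hnz i) (hall i)
        intro u w
        cases u <;> cases w <;> simp [h1, h1.symm]
      exact hcl _ _ hi
    have hpos : 0 < n := a.pos
    obtain rfl : b = b' := by
      have h0 := hflip ⟨0, hpos⟩
      cases b <;> cases b' <;> simp [Fin.le_def, Fin.lt_def] at h0 ⊢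
    have h1 := hflip a
    have h2 := hflip a'
    cases b <;> simp at h1 h2 <;> exact Prod.ext (le_antisymm (by omega) (by omega)) rfl
  · have hlt : S.card < n := by
      simpa using Finset.card_lt_card (Finset.ssubset_univ_iff.2 hfull)
    have hn : Fintype.card (Fin n) ≤ Fintype.card {T : Finset (Fin n) // T.card = S.card} := by
      rw [Fintype.card_fin, Fintype.card_finset_len, Fintype.card_fin]
      have hge : ∀ m k, 0 < k → k < m → m ≤ m.choose k := by
        intro m
        induction m with
        | zero => omega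
        | succ m ih =>
          intro k hk hkm
          obtain ⟨k, rfl⟩ : ∃ k', k = k' + 1 := ⟨k - 1, by omega⟩
          rw [Nat.choose_succ_succ, Nat.succ_eq_add_one]
          rcases eq_or_lt_of_le (Nat.lt_succ_iff.1 hkm) with h | h
          · subst h
            rw [Nat.choose_succ_self_right, Nat.choose_self]
          · have := ih (k + 1) (Nat.succ_pos _) h
            have := Nat.choose_pos (show k ≤ m by omega)
            omega
      exact hge n S.card hk hlt
    obtain ⟨T⟩ := Function.Embedding.nonempty_of_card_le hn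
    have hπ : ∀ j, ∃ π : Equiv.Perm (Fin n), ∀ i, π i ∈ S ↔ i ∈ (T j).1 := by
      intro j
      let e : {x // x ∈ (T j).1} ≃ {x // x ∈ S} := Finset.equivOfCardEq (T j).2
      refine ⟨e.extendSubtype, fun i => ?_⟩
      by_cases hi : i ∈ (T j).1
      · simp [hi, Equiv.extendSubtype_mem e i hi]
      · simp [hi, Equiv.extendSubtype_not_mem e i hi]
    choose π hπ using hπ
    refine ⟨fun a => (π a.1, fun _ => a.2), ?_⟩
    rintro ⟨a, b⟩ ⟨a', b'⟩ h
    have hsq : ∀ (u : Bool) (z : K), (if u then z⁻¹ else z) ^ 2 = 1 ↔ z ^ 2 = 1 := by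
      intro u z
      cases u <;> simp [inv_pow]
    have hi : ∀ i, (π a i ∈ S ↔ π a' i ∈ S) := by
      intro i
      have h1 := congrFun h i
      simp only at h1
      rw [hmemS, hmemS, not_iff_not, ← hsq b, h1, hsq b']
    obtain rfl : a = a' := T.injective (Subtype.ext (Finset.ext fun i => by
      rw [← hπ a, hi, hπ a']))
    obtain ⟨i, hi'⟩ := Finset.card_pos.1 hk
    obtain ⟨i, rfl⟩ := (π a).surjective i
    have hne := hdiff _ (hnz (π a i)) ((hmemS _).1 hi')
    have := congrFun h i
    cases b <;> cases b' <;> simp_all [hne.symm]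

/-- Faithful representations of `Sp_{2n}(F)` over `F` have degree at least `2n`. -/
theorem two_mul_le_of_injective [Finite F] {d : ℕ}
    (ρ : symplecticGroup (Fin n) F →* GL (Fin d) F) (hρ : Function.Injective ρ) : 2 * n ≤ d := by
  classical
  rcases Nat.eq_zero_or_pos n with rfl | hn
  · simp
  obtain ⟨x, y, k, l, hk, hl, hzl, hz1, hyx, hxkl, hcase⟩ := exists_inverted_sl2 (F := F)
  let K := AlgebraicClosure F
  let σ : symplecticGroup (Fin n) F →* Module.End K (Fin d → K) :=
    ((Matrix.toLinAlgEquiv' (R := K) (n := Fin d)).toAlgHom.toMonoidHom.comp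
      ((algebraMap F K).mapMatrix.toMonoidHom)).comp ((Units.coeHom _).comp ρ)
  have hσ : Function.Injective σ := by
    intro a b h
    apply hρ
    apply Units.ext
    exact Matrix.map_injective (algebraMap F K).injective
      ((Matrix.toLinAlgEquiv' (R := K) (n := Fin d)).injective h)
  let ψ := σ.comp (sl2PowSp n)
  let X : Fin n → Module.End K (Fin d → K) := fun i => ψ (Pi.mulSingle i x)
  have hXc : ∀ i j, Commute (X i) (X j) := by
    intro i j
    refine Commute.map ?_ ψ
    rcases eq_or_ne i j with rfl | hij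
    · exact Commute.refl _
    · exact Pi.mulSingle_commute (f := fun _ : Fin n => SpecialLinearGroup (Fin 2) F) hij x x
  let j₀ : Fin n := ⟨0, hn⟩
  set Z := X j₀ ^ k with hZ
  have hZl : Z ^ l = 1 := by
    rw [hZ, ← pow_mul, ← map_pow, ← Pi.mulSingle_pow, hxkl, Pi.mulSingle_one, map_one]
  have hZ1 : Z ≠ 1 := by
    rw [hZ, ← map_pow, ← Pi.mulSingle_pow]
    intro h
    have := sl2PowSp_injective ((hσ (h.trans (map_one σ).symm)).trans (map_one (sl2PowSp n)).symm)
    exact hz1 ((Pi.mulSingle_eq_one_iff (i := j₀)).1 this)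
  set W := LinearMap.ker (∑ i ∈ Finset.range l, Z ^ i) with hW
  have hWne : W ≠ ⊥ := by
    intro hbot
    apply hZ1
    rw [← sub_eq_zero]
    refine LinearMap.ext fun v => ?_
    have h : (∑ i ∈ Finset.range l, Z ^ i) ((Z - 1) v) = 0 := by
      rw [← Module.End.mul_apply, geom_sum_mul, hZl, sub_self, LinearMap.zero_apply]
    rw [← LinearMap.mem_ker, ← hW, hbot, Submodule.mem_bot] at h
    simpa using h
  have hinv : ∀ i, ∀ w ∈ W, X i w ∈ W := by
    intro i w hw
    rw [hW, LinearMap.mem_ker] at hw ⊢
    rw [← Module.End.mul_apply,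
      (Commute.sum_left _ _ _ fun a _ => ((hXc j₀ i).pow_left k).pow_left a).eq,
      Module.End.mul_apply, hw, map_zero]
  obtain ⟨v, hvW, hv0, hev⟩ := exists_common_eigenvector Finset.univ X hXc W hWne hinv
  choose χ hχ using fun i => hev i (Finset.mem_univ i)
  have hXpow : ∀ (i : Fin n) (m : ℕ), (X i ^ m) v = χ i ^ m • v := by
    intro i m
    induction m with
    | zero => simp
    | succ m ih => rw [pow_succ', Module.End.mul_apply, ih, map_smul, hχ, smul_smul, pow_succ]
  have hkl : ∀ i, χ i ^ (k * l) = 1 := by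
    intro i
    have h1 : (X i ^ (k * l)) v = v := by
      rw [← map_pow, ← Pi.mulSingle_pow, hxkl, Pi.mulSingle_one, map_one, Module.End.one_apply]
    rw [hXpow] at h1
    exact smul_left_injective K hv0 (h1.trans (one_smul K v).symm)
  have hkl0 : k * l ≠ 0 := by rcases hcase with ⟨rfl, rfl⟩ | ⟨rfl, rfl⟩ <;> norm_num
  have hnz : ∀ i, χ i ≠ 0 := fun i h => by
    have := hkl i
    rw [h, zero_pow hkl0] at this
    exact zero_ne_one this
  have hsum : ∑ i ∈ Finset.range l, (χ j₀ ^ k) ^ i = 0 := by
    have h := LinearMap.mem_ker.1 hvW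
    simp only [LinearMap.sum_apply, hZ, ← pow_mul, hXpow, ← Finset.sum_smul] at h
    simpa [pow_mul] using (smul_eq_zero.1 h).resolve_right hv0
  have hlK : (l : K) ≠ 0 := by
    rw [← map_natCast (algebraMap F K)]
    exact (map_ne_zero _).2 hl
  have hact : χ j₀ ^ 2 ≠ 1 := by
    intro h2
    rcases hcase with ⟨rfl, rfl⟩ | ⟨rfl, rfl⟩
    · have h3 := hkl j₀
      rw [one_mul, pow_succ, h2, one_mul] at h3
      simp [h3] at hsum
      exact hlK (by exact_mod_cast hsum)
    · simp [Finset.sum_range_succ, h2] at hsum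
      exact hlK (by exact_mod_cast (by linear_combination hsum : (2 : K) = 0))
  obtain ⟨c, hc⟩ := exists_signed_family χ hnz ⟨j₀, hact⟩
  -- for each signed permutation a vector with the transformed eigenvalue system
  have hvec : ∀ a, ∃ w, w ≠ 0 ∧ ∀ i, X i w =
      (if (c a).2 i then (χ ((c a).1 i))⁻¹ else χ ((c a).1 i)) • w := by
    intro a
    obtain ⟨P, hP⟩ := exists_perm_conj_sl2PowSp (F := F) (c a).1
    let yf : Fin n → SpecialLinearGroup (Fin 2) F := fun i => if (c a).2 i then y else 1
    refine ⟨σ (sl2PowSp n yf * P) v, ?_, fun i => ?_⟩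
    · intro h0
      have h1 := congrArg (σ (sl2PowSp n yf * P)⁻¹) h0
      rw [← Module.End.mul_apply, ← map_mul, inv_mul_cancel, map_one, Module.End.one_apply,
        map_zero] at h1
      exact hv0 h1
    · set ε := (c a).2 i with hε
      set j := (c a).1 i with hj
      have hi : Pi.mulSingle i x * yf =
          yf * Pi.mulSingle i (if ε then x⁻¹ else x) := by
        ext1 m
        rcases eq_or_ne m i with rfl | hm
        · simp only [Pi.mul_apply, Pi.mulSingle_eq_same, yf, ← hε]
          cases ε
          · simp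
          · simp only [if_true]
            calc x * y = x * (y * x) * x⁻¹ := by group
              _ = y * x⁻¹ := by rw [hyx]; group
        · simp [Pi.mulSingle_eq_of_ne hm]
      have hcomp : ∀ z : SpecialLinearGroup (Fin 2) F,
          (Pi.mulSingle j z : Fin n → _) ∘ (c a).1 = Pi.mulSingle i z := by
        intro z
        ext1 m
        simp [Pi.mulSingle_apply, hj]
      have hgrp : sl2PowSp n (Pi.mulSingle i x) * (sl2PowSp n yf * P) =
          (sl2PowSp n yf * P) * sl2PowSp n (Pi.mulSingle j (if ε then x⁻¹ else x)) := by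
        rw [← mul_assoc, ← map_mul, hi, map_mul, mul_assoc, mul_assoc, hP, hcomp]
      show σ (sl2PowSp n (Pi.mulSingle i x)) (σ (sl2PowSp n yf * P) v) = _
      rw [← Module.End.mul_apply, ← map_mul, hgrp, map_mul, Module.End.mul_apply]
      cases ε
      · simp only [Bool.false_eq_true, if_false]
        rw [show σ (sl2PowSp n (Pi.mulSingle j x)) v = χ j • v from hχ j, map_smul]
      · simp only [if_true]
        have h1 : σ (sl2PowSp n (Pi.mulSingle j x⁻¹)) v = (χ j)⁻¹ • v := by
          have h2 : X j (σ (sl2PowSp n (Pi.mulSingle j x⁻¹)) v) = v := by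
            show σ _ (σ _ v) = v
            rw [← Module.End.mul_apply, ← map_mul, ← map_mul, ← Pi.mulSingle_mul, mul_inv_cancel,
              Pi.mulSingle_one, map_one, map_one, Module.End.one_apply]
          have h3 : X j ((χ j)⁻¹ • v) = v := by
            rw [map_smul, hχ, smul_smul, inv_mul_cancel₀ (hnz j), one_smul]
          have hinj : Function.Injective (X j) := by
            intro p q hpq
            have h4 := congrArg (σ (sl2PowSp n (Pi.mulSingle j x))⁻¹) hpq
            rw [← Module.End.mul_apply, ← Module.End.mul_apply] at h4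
            simpa only [X, ψ, MonoidHom.comp_apply, ← map_mul, inv_mul_cancel, map_one,
              Module.End.one_apply] using h4
          exact hinj (h2.trans h3.symm)
        rw [h1, map_smul]
  choose w hw0 hw using hvec
  have hli := linearIndependent_of_eigen_systems X w _ hw0 hw hc
  have := hli.fintype_card_le_finrank
  simpa [mul_comm] using this

end CfsgLib.KnownB
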