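import Mathlib

/-!
The `q`-series identity behind Steinberg's count of unipotent elements of symplectic groups, and the
alternating sums that come from Möbius inversion on subspaces.
-/

set_option autoImplicit false

namespace CfsgLib.KnownB.SpUnip

open Finset

/-- `∏_{i=1}^{k} (q^i - 1)`. -/
noncomputable def dFac (q : ℚ) (k : ℕ) : ℚ := ∏ i ∈ range k, (q ^ (i + 1) - 1)

/-- `∏_{i=1}^{k} (q^(2i) - 1)`. -/
noncomputable def cFac (q : ℚ) (k : ℕ) : ℚ := ∏ i ∈ range k, (q ^ (2 * (i + 1)) - 1)

/-- Coefficient of the Möbius part. -/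
noncomputable def aCoef (q : ℚ) (k : ℕ) : ℚ := (-1) ^ k / dFac q k

/-- Coefficient of the symmetric-form part. -/
noncomputable def bCoef (q : ℚ) (l : ℕ) : ℚ := q ^ (l ^ 2 + l) / cFac q l

/-- Normalised number of unipotents. -/
noncomputable def uCoef (q : ℚ) (k : ℕ) : ℚ := q ^ (k ^ 2) / cFac q k

/-- Normalised number of fixed-point-free isometries. -/
noncomputable def fCoef (q : ℚ) (n : ℕ) : ℚ :=
  ∑ p ∈ antidiagonal n, aCoef q p.1 * bCoef q p.2

variable {q : ℚ} (hq : 1 < q)

include hq

theorem pow_sub_one_ne {i : ℕ} (hi : i ≠ 0) : q ^ i - 1 ≠ 0 :=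
  sub_ne_zero.2 (one_lt_pow₀ hq hi).ne'

theorem dFac_ne (k : ℕ) : dFac q k ≠ 0 :=
  prod_ne_zero_iff.2 fun i _ => pow_sub_one_ne hq (by omega)

theorem cFac_ne (k : ℕ) : cFac q k ≠ 0 :=
  prod_ne_zero_iff.2 fun i _ => pow_sub_one_ne hq (by omega)

open PowerSeries in
/-- The identity `U A B = 1 / (1 - x)`. -/
theorem sum_uCoef_fCoef (n : ℕ) : ∑ p ∈ antidiagonal n, uCoef q p.1 * fCoef q p.2 = 1 := by
  let A : PowerSeries ℚ := mk (aCoef q)
  let B : PowerSeries ℚ := mk (bCoef q)
  let U : PowerSeries ℚ := mk (uCoef q)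
  have hd : ∀ k, dFac q (k + 1) = dFac q k * (q ^ (k + 1) - 1) := fun k => prod_range_succ _ _
  have hc : ∀ k, cFac q (k + 1) = cFac q k * (q ^ (2 * (k + 1)) - 1) := fun k => prod_range_succ _ _
  have hA : rescale q A = (1 - X) * A := by
    ext k
    rw [sub_mul, one_mul, map_sub, coeff_rescale]
    rcases k with _ | k
    · simp [A]
    · rw [coeff_succ_X_mul, coeff_mk, coeff_mk, aCoef, aCoef, hd]
      have := dFac_ne hq k
      have := pow_sub_one_ne hq (Nat.succ_ne_zero k)
      field_simp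
      ring
  have hq2 : rescale (q ^ 2) A = (1 - C q * X) * ((1 - X) * A) := by
    rw [sq, rescale_mul, RingHom.comp_apply, hA, map_mul, hA, map_sub, map_one, rescale_X]
  have hB : (1 - C (q ^ 2) * X) * rescale (q ^ 2) B = B := by
    ext k
    rw [sub_mul, one_mul, map_sub, coeff_rescale, mul_assoc, coeff_C_mul]
    rcases k with _ | k
    · simp [B]
    · rw [coeff_succ_X_mul, coeff_rescale, coeff_mk, coeff_mk, bCoef, bCoef, hc]
      have := cFac_ne hq k
      have := pow_sub_one_ne hq (show 2 * (k + 1) ≠ 0 by omega)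
      field_simp
      ring
  have hU : (1 - C q * X) * rescale (q ^ 2) U = U := by
    ext k
    rw [sub_mul, one_mul, map_sub, coeff_rescale, mul_assoc, coeff_C_mul]
    rcases k with _ | k
    · simp [U]
    · rw [coeff_succ_X_mul, coeff_rescale, coeff_mk, coeff_mk, uCoef, uCoef, hc]
      have := cFac_ne hq k
      have := pow_sub_one_ne hq (show 2 * (k + 1) ≠ 0 by omega)
      field_simp
      ring
  set P := U * (A * B) with hP
  have hne : (1 - C q * X : PowerSeries ℚ) ≠ 0 := fun h => by
    have := congrArg (coeff 0) h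
    simp at this
  have key : (1 - C (q ^ 2) * X) * rescale (q ^ 2) P = (1 - X) * P := by
    refine mul_left_cancel₀ hne ?_
    rw [hP, map_mul, map_mul, hq2]
    linear_combination ((1 - C q * X) * (1 - X) * A * ((1 - C (q^2) * X) * rescale (q ^ 2) B)) * hU
      + (1 - C q * X) * (1 - X) * A * U * hB
  have hR : ∀ k, coeff (k + 1) ((1 - X) * P) = 0 := by
    intro k
    have h1 : rescale (q ^ 2) ((1 - X) * P) = (1 - X) * P := by
      rw [map_mul, map_sub, map_one, rescale_X, key]
    have h2 := congrArg (coeff (k + 1)) h1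
    rw [coeff_rescale] at h2
    have h3 : (q ^ 2) ^ (k + 1) - 1 ≠ 0 := by
      rw [← pow_mul]; exact pow_sub_one_ne hq (by omega)
    exact mul_left_cancel₀ h3 (by rw [mul_zero, sub_one_mul, h2, sub_self])
  have hcoef : ∀ k, coeff k P = 1 := by
    intro k
    induction k with
    | zero =>
      simp [P, A, B, U, uCoef, aCoef, bCoef, dFac, cFac]
    | succ k ih =>
      have := hR k
      rw [sub_mul, one_mul, map_sub, coeff_succ_X_mul, ih, sub_eq_zero] at this
      exact this
  have h := hcoef n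
  rw [hP, coeff_mul] at h
  simpa [U, A, B, fCoef, coeff_mul] using h

/-- Uniqueness of the solution of the triangular recursion. -/
theorem eq_uCoef {v : ℕ → ℚ} (hv : ∀ n, ∑ p ∈ antidiagonal n, v p.1 * fCoef q p.2 = 1) (n : ℕ) :
    v n = uCoef q n := by
  induction n using Nat.strong_induction_on with
  | _ n ih =>
    have h0 : fCoef q 0 = 1 := by simp [fCoef, aCoef, bCoef, dFac, cFac]
    have h1 := (hv n).trans (sum_uCoef_fCoef hq n).symm
    rw [Nat.sum_antidiagonal_eq_sum_range_succ (fun i j => v i * fCoef q j),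
      Nat.sum_antidiagonal_eq_sum_range_succ (fun i j => uCoef q i * fCoef q j),
      sum_range_succ, sum_range_succ, Nat.sub_self, h0, mul_one, mul_one,
      sum_congr rfl (fun i hi => by rw [ih i (mem_range.1 hi)])] at h1
    exact add_left_cancel h1

/-- The alternating `q`-sum of Möbius inversion on a subspace lattice. -/
theorem sum_moebius (x : ℚ) : ∀ n : ℕ, ∑ k ∈ range (n + 1), aCoef q k * ∏ i ∈ range k, (x - q ^ i) =
    (∏ i ∈ range n, (q ^ (i + 1) - x)) / dFac q n := by
  intro n
  induction n with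
  | zero => simp [aCoef, dFac]
  | succ n ih =>
    rw [sum_range_succ, ih, prod_range_succ' (fun i => x - q ^ i)]
    have h1 : ∏ i ∈ range n, (x - q ^ (i + 1)) = (-1) ^ n * ∏ i ∈ range n, (q ^ (i + 1) - x) := by
      rw [prod_congr rfl (fun i _ => show x - q ^ (i + 1) = (-1) * (q ^ (i + 1) - x) by ring),
        prod_mul_distrib, prod_const, card_range]
    rw [h1, prod_range_succ (fun i => q ^ (i + 1) - x), aCoef,
      show dFac q (n + 1) = dFac q n * (q ^ (n + 1) - 1) from prod_range_succ _ _]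
    have := dFac_ne hq n
    have := pow_sub_one_ne hq (Nat.succ_ne_zero n)
    have h2 : ((-1 : ℚ) ^ n) * (-1) ^ n = 1 := by rw [← mul_pow]; simp
    field_simp
    linear_combination (-(x - 1) * ∏ i ∈ range n, (q ^ (i + 1) - x)) * h2

theorem sum_moebius_eq_zero {r : ℕ} (hr : r ≠ 0) :
    ∑ k ∈ range (r + 1), aCoef q k * ∏ i ∈ range k, (q ^ r - q ^ i) = 0 := by
  rw [sum_moebius hq, prod_eq_zero (i := r - 1) (mem_range.2 (by omega))
    (by rw [show r - 1 + 1 = r by omega, sub_self]), zero_div]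

end CfsgLib.KnownB.SpUnip
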