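import Mathlib
import Cfsg.Agent.Lib.Geom.Symp
import Cfsg.Agent.Lib.Geom.IsoCount
import Cfsg.Agent.Lib.Geom.IsoStabSymp
import Cfsg.Agent.Lib.KnownB.SpUnipSeries

/-!
The isometries of a symplectic space without fixed vector correspond to the non-degenerate bilinear forms
with prescribed antisymmetrisation; Möbius inversion over their kernels counts them.
-/

set_option autoImplicit false

namespace CfsgLib.KnownB.SpUnip

open Finset CfsgLib.Geom Module

variable {F V : Type*} [Field F] [AddCommGroup V] [Module F V]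

/-- Bilinear forms with antisymmetrisation `-ω`. -/
def antiForms (ω : V →ₗ[F] V →ₗ[F] F) : Set (V →ₗ[F] V →ₗ[F] F) :=
  {B | ∀ u v, B u v - B v u = -ω u v}

variable [FiniteDimensional F V]

/-- `g ↦ ω ((g - 1)⁻¹ ·, ·)`. -/
theorem card_fixFree_eq (ω : V →ₗ[F] V →ₗ[F] F) (hA : ∀ v, ω v v = 0)
    (hB : ∀ x, (∀ y, ω x y = 0) → x = 0) :
    Nat.card {g : formIsoms ω // ∀ v, g.1 v = v → v = 0} =
      Nat.card {B : antiForms ω // LinearMap.ker B.1 = ⊥} := by
  classical
  have hω : Function.Bijective ω := by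
    have hi : Function.Injective ω := (injective_iff_map_eq_zero ω).2 fun x hx =>
      hB x fun y => by rw [hx]; rfl
    exact ⟨hi, (LinearMap.injective_iff_surjective_of_finrank_eq_finrank
      (Subspace.dual_finrank_eq).symm).1 hi⟩
  let W : V ≃ₗ[F] Dual F V := LinearEquiv.ofBijective ω hω
  have hW : ∀ x y, W x y = ω x y := fun x y => rfl
  have hX : ∀ B : V →ₗ[F] V →ₗ[F] F, ∀ x y, ω (W.symm (B x)) y = B x y := fun B x y => by
    rw [← hW, W.apply_symm_apply]
  let N : formIsoms ω → V →ₗ[F] V := fun g => (g.1 : V →ₗ[F] V) - LinearMap.id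
  have hN : ∀ (g : formIsoms ω) v, N g v = g.1 v - v := fun g v => rfl
  have hNbij : ∀ g : {g : formIsoms ω // ∀ v, g.1 v = v → v = 0}, Function.Bijective (N g.1) := by
    intro g
    have hi : Function.Injective (N g.1) := (injective_iff_map_eq_zero (N g.1)).2 fun v hv =>
      g.2 v (sub_eq_zero.1 (by rw [← hN]; exact hv))
    exact ⟨hi, LinearMap.injective_iff_surjective.1 hi⟩
  let E : ∀ g : {g : formIsoms ω // ∀ v, g.1 v = v → v = 0}, V ≃ₗ[F] V := fun g =>
    LinearEquiv.ofBijective (N g.1) (hNbij g)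
  have hXbij : ∀ B : {B : antiForms ω // LinearMap.ker B.1 = ⊥},
      Function.Bijective (W.symm.toLinearMap.comp B.1.1) := fun B => by
    have hi : Function.Injective (W.symm.toLinearMap.comp B.1.1) :=
      W.symm.injective.comp (LinearMap.ker_eq_bot.1 B.2)
    exact ⟨hi, LinearMap.injective_iff_surjective.1 hi⟩
  let X : ∀ B : {B : antiForms ω // LinearMap.ker B.1 = ⊥}, V ≃ₗ[F] V := fun B =>
    LinearEquiv.ofBijective _ (hXbij B)
  have hX' : ∀ B x y, ω (X B x) y = B.1.1 x y := fun B x y => hX B.1.1 x y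
  have hg : ∀ B, ∃ g : formIsoms ω, ∀ a, g.1 (X B a) = X B a + a := by
    intro B
    obtain ⟨g, hg, hgv⟩ := exists_mem_formIsoms ω hB (LinearMap.id + ((X B).symm : V →ₗ[F] V)) (by
      intro u v
      obtain ⟨a, rfl⟩ := (X B).surjective u
      obtain ⟨b, rfl⟩ := (X B).surjective v
      simp only [LinearMap.add_apply, LinearMap.id_apply, LinearEquiv.coe_coe,
        LinearEquiv.symm_apply_apply, map_add]
      rw [alt_swap ω hA (X B b) a]
      simp only [hX']
      linear_combination B.1.2 a b)
    exact ⟨⟨g, hg⟩, fun a => by simpa using hgv (X B a)⟩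
  choose G hG using hg
  refine Nat.card_congr
    { toFun := fun g => ⟨⟨ω.comp ((E g).symm : V →ₗ[F] V), ?_⟩, ?_⟩
      invFun := fun B => ⟨G B, ?_⟩
      left_inv := ?_
      right_inv := ?_ }
  · intro u v
    obtain ⟨a, rfl⟩ := (E g).surjective u
    obtain ⟨b, rfl⟩ := (E g).surjective v
    simp only [LinearMap.comp_apply, LinearEquiv.coe_coe, LinearEquiv.symm_apply_apply]
    have h := g.1.2 a b
    simp only [E, LinearEquiv.ofBijective_apply, hN, map_sub, LinearMap.sub_apply]
    rw [h, alt_swap ω hA (g.1.1 a) b, alt_swap ω hA a b]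
    ring
  · rw [LinearMap.ker_comp, LinearMap.ker_eq_bot.2 hω.1, Submodule.comap_bot,
      LinearMap.ker_eq_bot]
    exact (E g).symm.injective
  · intro v hv
    obtain ⟨a, rfl⟩ := (X B).surjective v
    rw [hG, add_eq_left] at hv
    rw [hv, map_zero]
  · intro g
    refine Subtype.ext (Subtype.ext (LinearEquiv.ext fun v => ?_))
    set B : {B : antiForms ω // LinearMap.ker B.1 = ⊥} := _
    change (G B).1 v = g.1.1 v
    have hXE : ∀ a, X B a = (E g).symm a := fun a => hω.1 (LinearMap.ext fun y => hX' B a y)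
    obtain ⟨a, rfl⟩ := (E g).symm.surjective v
    have h := hG B a
    rw [hXE] at h
    rw [h]
    have h2 : N g.1 ((E g).symm a) = a := (E g).apply_symm_apply a
    rw [hN, sub_eq_iff_eq_add] at h2
    rw [h2]; abel
  · intro B
    refine Subtype.ext (Subtype.ext (LinearMap.ext fun x => LinearMap.ext fun y => ?_))
    rw [LinearMap.comp_apply, LinearEquiv.coe_coe, ← hX']
    congr 2
    rw [LinearEquiv.symm_apply_eq]
    show x = N (G B) (X B x)
    rw [hN, hG, add_sub_cancel_left]

/-- The form with given antisymmetrisation and given values on ordered pairs of basis vectors. -/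
noncomputable def fillForm {d : ℕ} (ω : V →ₗ[F] V →ₗ[F] F) (b : Basis (Fin d) F V)
    (f : {p : Fin d × Fin d // p.1 ≤ p.2} → F) : V →ₗ[F] V →ₗ[F] F :=
  b.constr F fun i => b.constr F fun j =>
    if h : i ≤ j then f ⟨(i, j), h⟩ else f ⟨(j, i), le_of_not_ge h⟩ - ω (b i) (b j)

theorem fillForm_apply {d : ℕ} (ω : V →ₗ[F] V →ₗ[F] F) (b : Basis (Fin d) F V)
    (f : {p : Fin d × Fin d // p.1 ≤ p.2} → F) (i j : Fin d) :
    fillForm ω b f (b i) (b j) =
      if h : i ≤ j then f ⟨(i, j), h⟩ else f ⟨(j, i), le_of_not_ge h⟩ - ω (b i) (b j) := by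
  rw [fillForm, Module.Basis.constr_basis, Module.Basis.constr_basis]

theorem fillForm_mem {d : ℕ} (ω : V →ₗ[F] V →ₗ[F] F) (hA : ∀ v, ω v v = 0) (b : Basis (Fin d) F V)
    (f : {p : Fin d × Fin d // p.1 ≤ p.2} → F) : fillForm ω b f ∈ antiForms ω := by
  intro u v
  have : fillForm ω b f - (fillForm ω b f).flip = -ω := by
    refine b.ext fun i => b.ext fun j => ?_
    rw [LinearMap.sub_apply, LinearMap.sub_apply, LinearMap.flip_apply, LinearMap.neg_apply,
      LinearMap.neg_apply, fillForm_apply, fillForm_apply]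
    rcases lt_trichotomy i j with h | rfl | h
    · rw [dif_pos h.le, dif_neg (not_le.2 h), alt_swap ω hA (b i) (b j)]; ring
    · rw [dif_pos le_rfl, sub_self, hA, neg_zero]
    · rw [dif_neg (not_le.2 h), dif_pos h.le]; ring
  exact LinearMap.congr_fun₂ this u v

/-- Symmetric-type forms with prescribed antisymmetrisation: `q ^ (d (d+1)/2)`. -/
theorem card_antiForms [Fintype F] (ω : V →ₗ[F] V →ₗ[F] F) (hA : ∀ v, ω v v = 0) {d : ℕ}
    (hd : finrank F V = d) :
    Nat.card (antiForms ω) = Fintype.card F ^ ((d + 1).choose 2) := by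
  classical
  let b := finBasisOfFinrankEq F V hd
  have hT : Fintype.card {p : Fin d × Fin d // p.1 ≤ p.2} = (d + 1).choose 2 := by
    rw [← Fintype.card_congr (Sym2.sortEquiv (α := Fin d)), Sym2.card, Fintype.card_fin]
  have e : antiForms ω ≃ ({p : Fin d × Fin d // p.1 ≤ p.2} → F) :=
    { toFun := fun B t => B.1 (b t.1.1) (b t.1.2)
      invFun := fun f => ⟨fillForm ω b f, fillForm_mem ω hA b f⟩
      left_inv := fun B => Subtype.ext (b.ext fun i => b.ext fun j => by
        rw [fillForm_apply]
        split_ifs with h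
        · rfl
        · linear_combination -(B.2 (b i) (b j)))
      right_inv := fun f => funext fun t => (fillForm_apply ω b f _ _).trans (dif_pos t.2) }
  rw [Nat.card_congr e, Nat.card_fun, Nat.card_eq_fintype_card, Nat.card_eq_fintype_card, hT]

/-- Forms whose kernel contains a given totally isotropic subspace. -/
theorem card_antiForms_ker [Fintype F] (ω : V →ₗ[F] V →ₗ[F] F) (hA : ∀ v, ω v v = 0)
    (K : Submodule F V) (hK : ∀ u ∈ K, ∀ v ∈ K, ω u v = 0) :
    Nat.card {B : antiForms ω // K ≤ LinearMap.ker B.1} =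
      Fintype.card F ^ ((finrank F V - finrank F K + 1).choose 2) := by
  obtain ⟨C, hC⟩ := K.exists_isCompl
  have hdim : finrank F C = finrank F V - finrank F K := by
    have := Submodule.finrank_add_eq_of_isCompl hC; omega
  rw [← card_antiForms (ω.compl₁₂ C.subtype C.subtype) (fun v => hA v) hdim]
  let π : V →ₗ[F] C := C.projectionOnto K hC.symm
  let κ : V →ₗ[F] V := K.subtype.comp (K.projectionOnto C hC)
  have hπC : ∀ c : C, π c = c := fun c => Submodule.projectionOnto_apply_left hC.symm c
  have hπK : ∀ u ∈ K, π u = 0 := fun u hu => Submodule.projectionOnto_apply_right hC.symm ⟨u, hu⟩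
  have hsum : ∀ v, κ v + (π v : V) = v := fun v => by
    obtain ⟨k, hk, c, hc, rfl⟩ := Submodule.mem_sup.1 (show v ∈ K ⊔ C by rw [hC.sup_eq_top]; trivial)
    simp only [κ, map_add, hπK k hk, hπC ⟨c, hc⟩, zero_add, LinearMap.comp_apply,
      Submodule.subtype_apply]
    rw [Submodule.projectionOnto_apply_left hC ⟨k, hk⟩,
      Submodule.projectionOnto_apply_right hC ⟨c, hc⟩]
    simp
  have hκ : ∀ v, κ v ∈ K := fun v => (K.projectionOnto C hC v).2
  refine Nat.card_congr
    { toFun := fun B => ⟨B.1.1.compl₁₂ C.subtype C.subtype, fun u v => B.1.2 u v⟩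
      invFun := fun B => ⟨⟨B.1.compl₁₂ π π + ω.flip.compl₁₂ (C.subtype.comp π) κ, fun u v => ?_⟩,
        fun k hk => ?_⟩
      left_inv := fun B => Subtype.ext (Subtype.ext (LinearMap.ext fun u => LinearMap.ext fun v => ?_))
      right_inv := fun B => Subtype.ext (LinearMap.ext fun u => LinearMap.ext fun v => ?_) }
  · simp only [LinearMap.add_apply, LinearMap.compl₁₂_apply, LinearMap.flip_apply,
      LinearMap.comp_apply, Submodule.subtype_apply]
    have h := B.2 (π u) (π v)
    simp only [LinearMap.compl₁₂_apply, Submodule.subtype_apply] at h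
    conv_rhs => rw [← hsum u, ← hsum v]
    simp only [map_add, LinearMap.add_apply, hK _ (hκ u) _ (hκ v),
      alt_swap ω hA (κ v) ((π u : C) : V)]
    linear_combination h
  · refine LinearMap.mem_ker.2 (LinearMap.ext fun v => ?_)
    simp [hπK k hk]
  · simp only [LinearMap.add_apply, LinearMap.compl₁₂_apply, LinearMap.flip_apply,
      LinearMap.comp_apply, Submodule.subtype_apply]
    have hz : ∀ k ∈ K, ∀ w, B.1.1 k w = 0 := fun k hk w => by
      rw [LinearMap.mem_ker.1 (B.2 hk)]; rfl
    have h := B.1.2 (π u : V) (κ v)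
    rw [hz _ (hκ v), sub_zero] at h
    conv_rhs => rw [← hsum u, ← hsum v]
    simp only [map_add, LinearMap.add_apply, hz _ (hκ u), h,
      alt_swap ω hA (κ v) ((π u : C) : V)]
    ring
  · have hκC : ∀ c : C, κ c = 0 := fun c => by
      simp [κ, Submodule.projectionOnto_apply_right hC c]
    simp [hπC, hκC]

theorem prod_pow_sub_pow (q : ℚ) : ∀ k : ℕ,
    ∏ i ∈ range k, (q ^ k - q ^ i) = q ^ (k.choose 2) * dFac q k := by
  intro k
  induction k with
  | zero => simp [dFac]
  | succ k ih =>
    rw [prod_range_succ', prod_congr rfl (fun i _ =>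
      show q ^ (k + 1) - q ^ (i + 1) = q * (q ^ k - q ^ i) by ring), prod_mul_distrib, prod_const,
      card_range, ih, show dFac q (k + 1) = dFac q k * (q ^ (k + 1) - 1) from prod_range_succ _ _,
      Nat.choose_succ_succ' k 1, Nat.choose_one_right, pow_zero, pow_add]
    ring

theorem cast_prod_pow_sub {q k n : ℕ} (hq : 0 < q) (hk : k ≤ n) :
    ((∏ i ∈ range k, (q ^ n - q ^ i) : ℕ) : ℚ) = ∏ i ∈ range k, ((q : ℚ) ^ n - (q : ℚ) ^ i) := by
  rw [Nat.cast_prod]
  refine prod_congr rfl fun i hi => ?_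
  rw [Nat.cast_sub (Nat.pow_le_pow_right hq ((mem_range.1 hi).le.trans hk))]
  push_cast
  rfl

/-- Subspaces of given dimension inside `R`, weighted by the order of `GL_k`. -/
theorem card_sub_mul [Fintype F] (R : Submodule F V) {k : ℕ} (hk : k ≤ finrank F R) :
    Nat.card {K : Submodule F V // K ≤ R ∧ finrank F K = k} *
      ∏ i ∈ range k, (Fintype.card F ^ k - Fintype.card F ^ i) =
      ∏ i ∈ range k, (Fintype.card F ^ finrank F R - Fintype.card F ^ i) := by
  classical
  haveI : Finite V := Module.finite_of_finite F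
  let S := {K : Submodule F V // K ≤ R ∧ finrank F K = k}
  haveI : Finite (Submodule F V) := Finite.of_injective (fun K => (K : Set V)) SetLike.coe_injective
  letI : Fintype S := Fintype.ofFinite _
  have hval : ∀ K : Submodule F V, ∀ {n : ℕ}, finrank F K = n → k ≤ n →
      Nat.card {s : Fin k → K // LinearIndependent F s} =
        ∏ i ∈ range k, (Fintype.card F ^ n - Fintype.card F ^ i) := by
    intro K n hn hkn
    rw [card_linearIndependent (by rw [hn]; exact hkn), hn,
      Fin.prod_univ_eq_prod_range (fun i => Fintype.card F ^ n - Fintype.card F ^ i)]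
  rw [← hval R rfl hk]
  have hext : ∀ p p' : Σ K : S, {s : Fin k → K.1 // LinearIndependent F s}, p.1 = p'.1 →
      (∀ i, (p.2.1 i : V) = p'.2.1 i) → p = p' := by
    rintro ⟨K, s⟩ ⟨K', s'⟩ (h : K = K') h'
    subst h
    exact congrArg (Sigma.mk K) (Subtype.ext (funext fun i => Subtype.ext (h' i)))
  let e : {s : Fin k → R // LinearIndependent F s} ≃
      Σ K : S, {s : Fin k → K.1 // LinearIndependent F s} :=
    { toFun := fun s => ⟨⟨Submodule.span F (Set.range fun i => (s.1 i : V)),
          Submodule.span_le.2 (by rintro _ ⟨i, rfl⟩; exact (s.1 i).2),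
          by
            rw [finrank_span_eq_card (show LinearIndependent F (fun i => (s.1 i : V)) from
              s.2.map' R.subtype R.ker_subtype), Fintype.card_fin]⟩,
        fun i => ⟨(s.1 i : V), Submodule.subset_span ⟨i, rfl⟩⟩,
        LinearIndependent.of_comp (Submodule.subtype _) (s.2.map' R.subtype R.ker_subtype)⟩
      invFun := fun p => ⟨fun i => ⟨(p.2.1 i : V), p.1.2.1 (p.2.1 i).2⟩,
        LinearIndependent.of_comp R.subtype (p.2.2.map' p.1.1.subtype p.1.1.ker_subtype)⟩
      left_inv := fun s => rfl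
      right_inv := fun p => by
        obtain ⟨⟨K, hKR, hKk⟩, s, hs⟩ := p
        have hKeq : Submodule.span F (Set.range fun i => (s i : V)) = K := by
          refine Submodule.eq_of_le_of_finrank_eq
            (Submodule.span_le.2 (by rintro _ ⟨i, rfl⟩; exact (s i).2)) ?_
          rw [finrank_span_eq_card (show LinearIndependent F (fun i => (s i : V)) from
            hs.map' K.subtype K.ker_subtype), Fintype.card_fin, hKk]
        exact hext _ _ (Subtype.ext hKeq) fun i => rfl }
  rw [Nat.card_congr e, Nat.card_sigma, sum_congr rfl (fun K _ => hval K.1 K.2.2 le_rfl), sum_const,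
    smul_eq_mul, card_univ, Nat.card_eq_fintype_card]

/-- The Möbius function of the subspace lattice. -/
noncomputable def moeb (q : ℚ) (k : ℕ) : ℚ := (-1) ^ k * q ^ (k.choose 2)

theorem sum_moeb_sub [Fintype F] [Fintype (Submodule F V)] (R : Submodule F V)
    [DecidablePred fun K : Submodule F V => K ≤ R] [Decidable (R = ⊥)] :
    ∑ K ∈ univ.filter (fun K : Submodule F V => K ≤ R), moeb (Fintype.card F) (finrank F K) =
      if R = ⊥ then 1 else 0 := by
  classical
  set q := Fintype.card F with hq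
  have hq1 : (1 : ℚ) < q := by exact_mod_cast Fintype.one_lt_card
  rw [← sum_fiberwise_of_maps_to (t := range (finrank F R + 1)) (g := fun K : Submodule F V => finrank F K)
    (fun K hK => mem_range.2 (Nat.lt_succ_of_le (Submodule.finrank_mono (mem_filter.1 hK).2)))]
  have hterm : ∀ k ∈ range (finrank F R + 1),
      (∑ K ∈ (univ.filter (fun K : Submodule F V => K ≤ R)).filter (fun K : Submodule F V => finrank F K = k),
        moeb q (finrank F K)) = aCoef q k * ∏ i ∈ range k, ((q : ℚ) ^ finrank F R - (q : ℚ) ^ i) := by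
    intro k hk
    have hkR : k ≤ finrank F R := Nat.le_of_lt_succ (mem_range.1 hk)
    rw [sum_congr rfl (fun K hK => by rw [(mem_filter.1 hK).2]), sum_const, filter_filter, nsmul_eq_mul,
      ← Nat.card_eq_finsetCard]
    have hc : Nat.card {x // x ∈ univ.filter (fun K : Submodule F V => K ≤ R ∧ finrank F K = k)} =
        Nat.card {K : Submodule F V // K ≤ R ∧ finrank F K = k} :=
      Nat.card_congr (Equiv.subtypeEquivRight fun K => by simp)
    rw [hc, ← cast_prod_pow_sub Fintype.card_pos hkR, ← card_sub_mul R hkR, Nat.cast_mul,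
      cast_prod_pow_sub Fintype.card_pos le_rfl, prod_pow_sub_pow, aCoef, moeb]
    have := dFac_ne hq1 k
    field_simp
    simp only [hq]
  rw [sum_congr rfl hterm]
  split_ifs with hR
  · subst hR; simp [aCoef, dFac]
  · exact sum_moebius_eq_zero hq1 fun h => hR (Submodule.finrank_eq_zero.1 h)

theorem antiForms_ker_isotropic (ω : V →ₗ[F] V →ₗ[F] F) {B : V →ₗ[F] V →ₗ[F] F}
    (hB : B ∈ antiForms ω) {u v : V} (hu : u ∈ LinearMap.ker B) (hv : v ∈ LinearMap.ker B) :
    ω u v = 0 := by
  have := hB u v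
  rw [LinearMap.mem_ker.1 hu, LinearMap.mem_ker.1 hv] at this
  simpa using this.symm

theorem two_mul_finrank_le_of_isotropic (ω : V →ₗ[F] V →ₗ[F] F)
    (hB : ∀ x, (∀ y, ω x y = 0) → x = 0) (K : Submodule F V) (hK : ∀ u ∈ K, ∀ v ∈ K, ω u v = 0) :
    2 * finrank F K ≤ finrank F V := by
  have h1 := Subspace.finrank_add_finrank_dualAnnihilator_eq K
  have h2 : finrank F K ≤ finrank F K.dualAnnihilator := by
    refine LinearMap.finrank_le_finrank_of_injective
      (f := (ω.comp K.subtype).codRestrict K.dualAnnihilator fun u =>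
        (Submodule.mem_dualAnnihilator _).2 fun v hv => hK _ u.2 v hv) ?_
    refine (injective_iff_map_eq_zero _).2 fun u hu => Subtype.ext (hB _ fun y => ?_)
    have := LinearMap.congr_fun (congrArg Subtype.val hu) y
    simpa using this
  omega

theorem card_symplectic_cast [Fintype F] (m : ℕ) :
    (Nat.card (formIsoms (sympBilin m F)) : ℚ) =
      (Fintype.card F : ℚ) ^ (m ^ 2) * cFac (Fintype.card F) m := by
  rw [CfsgLib.Classical.card_formIsoms_alt (sympBilin m F) sympBilin_self sympBilin_sep m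
    (by simp; omega), Nat.cast_mul, Nat.cast_pow, cFac, Nat.cast_prod]
  congr 1
  refine prod_congr rfl fun i _ => ?_
  rw [Nat.cast_sub (Nat.one_le_pow _ _ Fintype.card_pos)]
  push_cast
  rfl

/-- Isometries without fixed vector, as a proportion of the symplectic group. -/
theorem card_fixFree [Fintype F] (m : ℕ) :
    (Nat.card {g : formIsoms (sympBilin m F) // ∀ v, g.1 v = v → v = 0} : ℚ) =
      fCoef (Fintype.card F) m * Nat.card (formIsoms (sympBilin m F)) := by
  classical
  set q := Fintype.card F with hq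
  have hq1 : (1 : ℚ) < q := by exact_mod_cast Fintype.one_lt_card
  set ω := sympBilin m F with hω
  have hA : ∀ v, ω v v = 0 := sympBilin_self
  have hB := sympBilin_sep (m := m) (F := F)
  have hdim : finrank F (Fin m ⊕ Fin m → F) = 2 * m := by simp; omega
  haveI : Finite (Submodule F (Fin m ⊕ Fin m → F)) :=
    Finite.of_injective (fun K => (K : Set (Fin m ⊕ Fin m → F))) SetLike.coe_injective
  letI := Fintype.ofFinite (Submodule F (Fin m ⊕ Fin m → F))
  haveI : Finite ((Fin m ⊕ Fin m → F) →ₗ[F] (Fin m ⊕ Fin m → F) →ₗ[F] F) := Module.finite_of_finite F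
  letI := Fintype.ofFinite (antiForms ω)
  let iso : Finset (Submodule F (Fin m ⊕ Fin m → F)) :=
    univ.filter fun K => ∀ u ∈ K, ∀ v ∈ K, ω u v = 0
  have h1 : (Nat.card {B : antiForms ω // LinearMap.ker B.1 = ⊥} : ℚ) =
      ∑ K ∈ iso, moeb q (finrank F K) * (q : ℚ) ^ ((2 * m - finrank F K + 1).choose 2) := by
    have e1 : ∀ K ∈ iso, moeb q (finrank F K) * (q : ℚ) ^ ((2 * m - finrank F K + 1).choose 2) =
        ∑ B : antiForms ω, if K ≤ LinearMap.ker B.1 then moeb q (finrank F K) else 0 := by
      intro K hK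
      rw [← sum_filter, sum_const, nsmul_eq_mul, mul_comm, ← Nat.card_eq_finsetCard,
        Nat.card_congr (Equiv.subtypeEquivRight
          (q := fun B : antiForms ω => K ≤ LinearMap.ker B.1) fun B => by simp),
        card_antiForms_ker ω hA K (mem_filter.1 hK).2, hdim, Nat.cast_pow]
    rw [sum_congr rfl e1, sum_comm]
    have e2 : ∀ B : antiForms ω, (∑ K ∈ iso, if K ≤ LinearMap.ker B.1 then moeb q (finrank F K) else 0) =
        if LinearMap.ker B.1 = ⊥ then (1 : ℚ) else 0 := by
      intro B
      rw [← sum_filter, ← sum_moeb_sub (LinearMap.ker B.1)]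
      refine sum_congr (Finset.ext fun K => ?_) fun _ _ => rfl
      simp only [iso, mem_filter, mem_univ, true_and, and_iff_right_iff_imp]
      exact fun hK u hu v hv => antiForms_ker_isotropic ω B.2 (hK hu) (hK hv)
    rw [sum_congr rfl (fun B _ => e2 B), sum_boole, Nat.card_eq_fintype_card, Fintype.card_subtype]
  rw [card_fixFree_eq ω hA hB, h1,
    ← sum_fiberwise_of_maps_to (t := range (m + 1))
      (g := fun K : Submodule F (Fin m ⊕ Fin m → F) => finrank F K) (fun K hK => mem_range.2 (by
        have := two_mul_finrank_le_of_isotropic ω hB K (mem_filter.1 hK).2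
        omega)),
    fCoef, Nat.sum_antidiagonal_eq_sum_range_succ (fun i j => aCoef (q : ℚ) i * bCoef q j), sum_mul]
  refine sum_congr rfl fun k hk => ?_
  have hkm : k ≤ m := Nat.le_of_lt_succ (mem_range.1 hk)
  rw [sum_congr rfl (fun K hK => by rw [(mem_filter.1 hK).2]), sum_const, nsmul_eq_mul, filter_filter,
    ← Nat.card_eq_finsetCard, Nat.card_congr (Equiv.subtypeEquivRight
      (q := fun K : Submodule F (Fin m ⊕ Fin m → F) =>
        finrank F K = k ∧ ∀ u ∈ K, ∀ v ∈ K, ω u v = 0) fun K => by simp [and_comm])]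
  let Λ : (Fin k → F) →ₗ[F] (Fin m ⊕ Fin m → F) :=
    LinearMap.pi (Sum.elim (fun i => if h : (i : ℕ) < k then LinearMap.proj (⟨i, h⟩ : Fin k) else 0) 0)
  have hΛ : Function.Injective Λ := fun a b h => funext fun i => by
    simpa [Λ] using congrFun h (Sum.inl (Fin.castLE hkm i))
  have hWk : finrank F (LinearMap.range Λ) = k := by
    rw [LinearMap.finrank_range_of_inj hΛ]; simp
  have hWiso : ∀ u ∈ LinearMap.range Λ, ∀ v ∈ LinearMap.range Λ, ω u v = 0 := by
    rintro _ ⟨a, rfl⟩ _ ⟨b, rfl⟩
    rw [hω, sympBilin_apply, sympForm_eq_sum]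
    simp [Λ]
  have h2 := congrArg (fun x : ℕ => (x : ℚ))
    (card_isotropic_mul (σ := RingHom.id F) ω (hasWittExt_alt ω hA hB) _ hWk hWiso)
  simp only [Nat.cast_mul] at h2
  rw [card_isomStab_symp m k hkm _ hWk hWiso, Nat.cast_mul, Nat.cast_mul, Nat.cast_mul,
    Fin.prod_univ_eq_prod_range (fun i => Fintype.card F ^ k - Fintype.card F ^ i),
    cast_prod_pow_sub Fintype.card_pos le_rfl, prod_pow_sub_pow] at h2
  rw [← h2]
  have hS := sum_range_sub_aux (2 * m - k) k (by omega)
  set S := ∑ i ∈ range k, (2 * m - k - i)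
  obtain ⟨l, rfl⟩ : ∃ l, m = k + l := ⟨m - k, by omega⟩
  rw [show 2 * (k + l) - k = 2 * l + k by omega] at hS
  have hC : ((∏ i ∈ range (k + l - k), (q ^ (2 * (i + 1)) - 1) : ℕ) : ℚ) = cFac q l := by
    rw [Nat.add_sub_cancel_left, cFac, Nat.cast_prod]
    refine prod_congr rfl fun i _ => ?_
    rw [Nat.cast_sub (Nat.one_le_pow _ _ Fintype.card_pos)]
    push_cast
    rfl
  rw [hC, Nat.cast_pow, Nat.cast_pow, Nat.add_sub_cancel_left,
    show 2 * (k + l) - k + 1 = 2 * l + k + 1 by omega]
  have hE : (2 * l + k + 1).choose 2 = S + l ^ 2 + (l ^ 2 + l) := by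
    rw [Nat.choose_two_right]
    apply Nat.div_eq_of_eq_mul_left (by norm_num)
    simp only [Nat.add_sub_cancel]
    nlinarith
  rw [hE, aCoef, bCoef, moeb, pow_add (q : ℚ) (S + l ^ 2), pow_add (q : ℚ) S (l ^ 2)]
  have := dFac_ne hq1 k
  have := cFac_ne hq1 l
  field_simp
  simp only [hq]
  ring

end CfsgLib.KnownB.SpUnip
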