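import Cfsg.Agent.Lib.KnownB.SpOrthOmega

/-!
`PΩ_2n+1(q)` and `PSp_2n(q)`, `q` odd, have the same prime graph.
-/

set_option autoImplicit false

namespace CfsgLib.KnownB.SpOrth

open CfsgLib.Classical

theorem prime_graph_eq {F : Type*} [Field F] [Fintype F] (hodd : Odd (Fintype.card F)) (n : ℕ)
    (hn : 3 ≤ n) (r s : ℕ) (hr : r.Prime) (hs : s.Prime) (hrs : r ≠ s) :
    (r * s ∈ Set.range (orderOf : Cfsg.POmega F (Cfsg.quadFormOdd n F) → ℕ)) ↔
      (r * s ∈ Set.range (orderOf : Cfsg.PSp n F → ℕ)) := by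
  rw [← qfOdd_coe]
  obtain ⟨p, _⟩ := CharP.exists F
  haveI hp : Fact p.Prime := ⟨CharP.char_is_prime F p⟩
  have h2 : (2 : F) ≠ 0 := two_ne_zero_of_odd hodd
  have hp2 : p ≠ 2 := fun e => h2 (by
    subst e
    exact_mod_cast CharP.cast_eq_zero F 2)
  -- the cases, with the even prime or the characteristic second
  suffices key : ∀ {a b : ℕ}, a.Prime → b.Prime → a ≠ b →
      ((a = 2 ∧ b = p) ∨ (a = 2 ∧ b ≠ p) ∨ (a ≠ 2 ∧ a ≠ p ∧ b = p) ∨
        (a ≠ 2 ∧ a ≠ p ∧ b ≠ 2 ∧ b ≠ p)) →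
      ((a * b ∈ Set.range (orderOf : Cfsg.POmega F (⇑(qfOdd n F)) → ℕ)) ↔
        (a * b ∈ Set.range (orderOf : Cfsg.PSp n F → ℕ))) by
    by_cases hr2 : r = 2
    · exact key hr hs hrs (by tauto)
    by_cases hs2 : s = 2
    · rw [mul_comm]; exact key hs hr hrs.symm (by tauto)
    by_cases hrp : r = p
    · rw [mul_comm]
      exact key hs hr hrs.symm (Or.inr (Or.inr (Or.inl ⟨hs2, fun h => hrs (hrp.trans h.symm), hrp⟩)))
    exact key hr hs hrs (by tauto)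
  intro a b ha hb hab hcase
  rcases hcase with ⟨rfl, rfl⟩ | ⟨rfl, hbp⟩ | ⟨ha2, hap, rfl⟩ | ⟨ha2, hap, hb2, hbp⟩
  · exact iff_of_true (orth_two_char h2 hn hp2) (sp_two_char (by omega) hp2)
  · exact (orth_two_iff h2 hn hb hab.symm hbp).trans (sp_two_iff (by omega) hp2 hb hab.symm hbp).symm
  · exact (orth_char_iff h2 (by omega) hp2 ha ha2 hap).trans
      (sp_char_iff (by omega) hp2 ha ha2 hap).symm
  · have hN : Odd (a * b) := (ha.odd_of_ne_two ha2).mul (hb.odd_of_ne_two hb2)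
    have hN0 : ((a * b : ℕ) : F) ≠ 0 := by
      rw [Nat.cast_mul]
      exact mul_ne_zero (natCast_ne_zero_of_prime (p := p) ha hap)
        (natCast_ne_zero_of_prime (p := p) hb hbp)
    exact (orth_odd_iff h2 (by omega) hN hN0).trans (sp_odd_iff (by omega) hN hN0).symm

end CfsgLib.KnownB.SpOrth
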