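import Cfsg.Agent.Lib.KnownB.SpOrthPair

/-!
Standard models of the moved subspace of an isometry of odd order, and embeddings of models.
-/

set_option autoImplicit false
set_option linter.unusedSectionVars false

namespace CfsgLib.KnownB.SpOrth

open CfsgLib.Geom
open QuadraticMap (polar)

variable {F : Type*} [Field F] {V U : Type*} [AddCommGroup V] [Module F V] [AddCommGroup U]
  [Module F U]

/-- A symplectic pair has a copy in a standard space. -/
theorem std_of_symp [FiniteDimensional F U] (B : U →ₗ[F] U →ₗ[F] F) (hA : ∀ v, B v v = 0)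
    (hB : ∀ x, (∀ y, B x y = 0) → x = 0) {N : ℕ} {a c : formIsoms B} (h : IsPair N a c) :
    ∃ (j : ℕ) (e : U ≃ₗ[F] (Fin j ⊕ Fin j → F)) (a' c' : formIsoms (sympBilin j F)),
      Module.finrank F U = 2 * j ∧ IsPair N a' c' ∧ orderOf c' = orderOf c ∧
      ∀ v, c'.1 (e v) = e (c.1 v) := by
  obtain ⟨j, hj⟩ := even_finrank_symp _ B hA hB rfl
  obtain ⟨e, he⟩ := exists_symp_isometry (2 * j) B (sympBilin j F) hA hB sympBilin_self
    sympBilin_sep (by omega) (by simp; omega)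
  let Φ := formIsomsCongr B (sympBilin j F) e he
  have hΦ : ∀ g v, (Φ g).1 (e v) = e (g.1 v) := fun g v => by
    show e (g.1 (e.symm (e v))) = e (g.1 v)
    rw [e.symm_apply_apply]
  obtain ⟨ho, hfix, hac⟩ := h
  refine ⟨j, e, Φ a, Φ c, by omega, ⟨?_, fun w hw => ?_, hac.map Φ⟩, ?_, hΦ c⟩
  · exact (orderOf_injective Φ.toMonoidHom Φ.injective a).trans ho
  · obtain ⟨v, rfl⟩ := e.surjective w
    rw [hΦ] at hw
    rw [hfix v (e.injective hw), map_zero]
  · exact orderOf_injective Φ.toMonoidHom Φ.injective c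

/-- A quadratic pair has a copy in a standard symplectic space. -/
theorem std_of_quad [FiniteDimensional F U] (Q : QuadraticForm F U)
    (hQ : ∀ x, (∀ y, polar Q x y = 0) → x = 0) {N : ℕ} (hN : Odd N) {a c : quadIsoms Q}
    (h : IsPair N a c) :
    ∃ (j : ℕ) (e : U ≃ₗ[F] (Fin j ⊕ Fin j → F)) (a' c' : formIsoms (sympBilin j F)),
      Module.finrank F U = 2 * j ∧ IsPair N a' c' ∧ orderOf c' = orderOf c ∧
      ∀ v, c'.1 (e v) = e (c.1 v) := by
  obtain ⟨B, a₁, c₁, hA, hB, hp, hc, hv⟩ := symp_of_quad Q hQ hN h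
  obtain ⟨j, e, a', c', h1, h2, h3, h4⟩ := std_of_symp B hA hB hp
  exact ⟨j, e, a', c', h1, h2, h3.trans hc, fun v => by rw [h4, hv]⟩

/-! ### Restriction to the moved subspace -/

theorem pow_eq_one_of_res [FiniteDimensional F V] {G : Subgroup (V ≃ₗ[F] V)} {a : G} {N : ℕ}
    (hN : a ^ N = 1) (h0 : (N : F) ≠ 0) {k : ℕ} (h : ∀ v ∈ movSub a.1, (a ^ k : G).1 v = v) :
    a ^ k = 1 := by
  refine Subtype.ext (LinearEquiv.ext fun v => ?_)
  have hc := isCompl_fix_mov a.1 (by rw [← SubgroupClass.coe_pow, hN]; rfl) h0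
  obtain ⟨x, hx, y, hy, rfl⟩ := Submodule.mem_sup.1
    (hc.sup_eq_top.ge (Submodule.mem_top : v ∈ (⊤ : Submodule F V)))
  rw [map_add, h y hy]
  have : ∀ i : ℕ, (a ^ i : G).1 x = x := fun i => by
    induction i with
    | zero => rfl
    | succ i ih => rw [pow_apply, mem_fixSub.1 hx, ih]
  rw [this]
  rfl

theorem mov_fpf [FiniteDimensional F V] {a : V ≃ₗ[F] V} {N : ℕ} (hN : a ^ N = 1) (h0 : (N : F) ≠ 0)
    {v : V} (hv : v ∈ movSub a) (h : a v = v) : v = 0 :=
  (Submodule.disjoint_def.1 (isCompl_fix_mov a hN h0).disjoint) v (mem_fixSub.2 h) hv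

/-- Restriction of a commuting pair to the moved subspace, for a form preserved by a group. -/
theorem exists_res [FiniteDimensional F V] {G : Subgroup (V ≃ₗ[F] V)} {a c : G}
    {K : Subgroup (movSub a.1 ≃ₗ[F] movSub a.1)}
    (hK : ∀ d : Subgroup.centralizer ({a} : Set G), resHom a d ∈ K)
    (hac : Commute a c) {N : ℕ} (ho : orderOf a = N) (h0 : (N : F) ≠ 0) :
    ∃ a' c' : K, IsPair N a' c' ∧ (∀ v : movSub a.1, (c'.1 v : V) = c.1 v.1) ∧
      orderOf c' ∣ orderOf c ∧ ∀ v : movSub a.1, (a'.1 v : V) = a.1 v.1 := by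
  let R := (resHom a).codRestrict K hK
  let a₀ : Subgroup.centralizer ({a} : Set G) :=
    ⟨a, Subgroup.mem_centralizer_singleton_iff.2 rfl⟩
  let c₀ : Subgroup.centralizer ({a} : Set G) :=
    ⟨c, Subgroup.mem_centralizer_singleton_iff.2 hac.eq.symm⟩
  have hN : a ^ N = 1 := ho ▸ pow_orderOf_eq_one a
  refine ⟨R a₀, R c₀, ⟨?_, fun v hv => ?_, (show Commute a₀ c₀ from Subtype.ext hac.eq).map R⟩,
    fun v => rfl, ?_, fun v => rfl⟩
  · rw [← ho]
    refine orderOf_eq_orderOf_iff.2 fun k => ⟨fun h => ?_, fun h => ?_⟩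
    · refine pow_eq_one_of_res hN h0 fun v hv => ?_
      rw [← map_pow] at h
      exact congrArg (Subtype.val : movSub a.1 → V)
        (DFunLike.congr_fun (congrArg Subtype.val h) ⟨v, hv⟩)
    · rw [← map_pow, show a₀ ^ k = 1 from Subtype.ext (by simpa [a₀] using h), map_one]
  · exact Subtype.ext (mov_fpf (by rw [← SubgroupClass.coe_pow, hN]; rfl) h0 v.2
      (congrArg Subtype.val hv))
  · refine (orderOf_map_dvd R c₀).trans ?_
    exact dvd_of_eq (Subgroup.orderOf_coe c₀).symm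

theorem symp_res [FiniteDimensional F V] (B : V →ₗ[F] V →ₗ[F] F)
    (hB : ∀ x, (∀ y, B x y = 0) → x = 0) {a c : formIsoms B} (hac : Commute a c) {N : ℕ}
    (ho : orderOf a = N) (h0 : (N : F) ≠ 0) :
    ∃ (B' : movSub a.1 →ₗ[F] movSub a.1 →ₗ[F] F) (a' c' : formIsoms B'),
      (∀ x y : movSub a.1, B' x y = B x.1 y.1) ∧ (∀ x, (∀ y, B' x y = 0) → x = 0) ∧
      IsPair N a' c' ∧ (∀ v : movSub a.1, (c'.1 v : V) = c.1 v.1) ∧ orderOf c' ∣ orderOf c := by
  let B' := B.compl₁₂ (movSub a.1).subtype (movSub a.1).subtype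
  obtain ⟨a', c', h1, h2, h3, -⟩ := exists_res (K := formIsoms B')
    (fun d u v => d.1.2 u.1 v.1) hac ho h0
  refine ⟨B', a', c', fun _ _ => rfl, fun x hx => Subtype.ext (hB _ fun y => ?_), h1, h2, h3⟩
  have hN : a.1 ^ N = 1 := by rw [← SubgroupClass.coe_pow, ← ho, pow_orderOf_eq_one]; rfl
  obtain ⟨w, hw, u, hu, rfl⟩ := Submodule.mem_sup.1
    ((isCompl_fix_mov a.1 hN h0).sup_eq_top.ge (Submodule.mem_top : y ∈ (⊤ : Submodule F V)))
  obtain ⟨z, hz⟩ := x.2
  rw [map_add, show B x.1 u = 0 from hx ⟨u, hu⟩, add_zero, ← hz]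
  simp only [LinearMap.sub_apply, LinearEquiv.coe_coe, LinearMap.id_apply, map_sub]
  conv_lhs => arg 1; rw [← mem_fixSub.1 hw]
  rw [a.2, sub_self]

theorem quad_res [FiniteDimensional F V] (Q : QuadraticForm F V)
    (hQ : ∀ x, (∀ y, polar Q x y = 0) → x = 0) {a c : quadIsoms Q} (hac : Commute a c) {N : ℕ}
    (ho : orderOf a = N) (h0 : (N : F) ≠ 0) :
    ∃ (Q' : QuadraticForm F (movSub a.1)) (a' c' : quadIsoms Q'),
      (∀ x : movSub a.1, Q' x = Q x.1) ∧ (∀ x, (∀ y, polar Q' x y = 0) → x = 0) ∧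
      IsPair N a' c' ∧ (∀ v : movSub a.1, (c'.1 v : V) = c.1 v.1) ∧ orderOf c' ∣ orderOf c ∧
      ∀ v : movSub a.1, (a'.1 v : V) = a.1 v.1 := by
  let Q' := Q.comp (movSub a.1).subtype
  obtain ⟨a', c', h1, h2, h3, h4⟩ := exists_res (K := quadIsoms Q')
    (fun d u => d.1.2 u.1) hac ho h0
  refine ⟨Q', a', c', fun _ => rfl, fun x hx => Subtype.ext (hQ _ fun y => ?_), h1, h2, h3, h4⟩
  have hN : a.1 ^ N = 1 := by rw [← SubgroupClass.coe_pow, ← ho, pow_orderOf_eq_one]; rfl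
  obtain ⟨w, hw, u, hu, rfl⟩ := Submodule.mem_sup.1
    ((isCompl_fix_mov a.1 hN h0).sup_eq_top.ge (Submodule.mem_top : y ∈ (⊤ : Submodule F V)))
  obtain ⟨z, hz⟩ := x.2
  have h5 : polar Q x.1 u = 0 := hx ⟨u, hu⟩
  rw [QuadraticMap.polar_add_right, h5, add_zero, ← hz]
  simp only [LinearMap.sub_apply, LinearEquiv.coe_coe, LinearMap.id_apply, QuadraticMap.polar_sub_left]
  conv_lhs => arg 1; rw [← mem_fixSub.1 hw]
  rw [polar_quadIsom a.2, sub_self]

/-! ### Eigenspaces of a commuting involution -/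

/-- A commuting involution other than a sign gives a pair in smaller dimension. -/
theorem smaller_of_involution [FiniteDimensional F U] (h2 : (2 : F) ≠ 0) (B : U →ₗ[F] U →ₗ[F] F)
    (hA : ∀ v, B v v = 0) (hB : ∀ x, (∀ y, B x y = 0) → x = 0) {r : ℕ} (hr : r.Prime)
    {a c : formIsoms B} (h : IsPair r a c) (hc : ∀ v, c.1 (c.1 v) = v) {u : U} (hu : c.1 u ≠ u)
    {w : U} (hw : c.1 w ≠ -w) :
    ∃ (j : ℕ) (a' c' : formIsoms (sympBilin j F)), 2 * j < Module.finrank F U ∧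
      IsPair r a' c' := by
  obtain ⟨ho, hfix, hac⟩ := h
  haveI : Fact r.Prime := ⟨hr⟩
  let W : Submodule F U := fixSub c.1
  let B' := B.compl₁₂ W.subtype W.subtype
  have hinv : ∀ g : formIsoms B, Commute g c → ∀ v ∈ W, g.1 v ∈ W := fun g hg v hv => by
    show g.1 v ∈ fixSub c.1
    rw [mem_fixSub, ← comm_apply hg, mem_fixSub.1 hv]
  let aW : W ≃ₗ[F] W := resEquiv W a (hinv a hac) (hinv a⁻¹ hac.inv_left)
  let a' : formIsoms B' := ⟨aW, fun x y => a.2 x.1 y.1⟩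
  have hw' : w + c.1 w ∈ W := by
    show _ ∈ fixSub c.1
    rw [mem_fixSub, map_add, hc, add_comm]
  have hw0 : w + c.1 w ≠ 0 := fun e => hw (eq_neg_of_add_eq_zero_right e)
  have hfix' : ∀ x : W, a'.1 x = x → x = 0 := fun x hx =>
    Subtype.ext (hfix x.1 (congrArg Subtype.val hx))
  have hne : a' ≠ 1 := fun e => hw0 (congrArg Subtype.val (hfix' ⟨_, hw'⟩ (by rw [e]; rfl)))
  have hpow : ∀ (k : ℕ) (x : W), ((a' ^ k).1 x : U) = (a ^ k).1 x.1 := fun k => by
    induction k with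
    | zero => exact fun x => rfl
    | succ k ih => exact fun x => by rw [pow_apply, ih, pow_apply]; rfl
  have ho' : orderOf a' = r := orderOf_eq_prime (Subtype.ext (LinearEquiv.ext fun x => Subtype.ext
    (by rw [hpow, ← ho, pow_orderOf_eq_one]; rfl))) hne
  have hsep : ∀ x, (∀ y, B' x y = 0) → x = 0 := fun x hx => Subtype.ext (hB _ fun y => by
    have h1 : B x.1 (y + c.1 y) = 0 := hx ⟨y + c.1 y, by
      show _ ∈ fixSub c.1
      rw [mem_fixSub, map_add, hc, add_comm]⟩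
    have h3 : B x.1 (c.1 y) = B x.1 y := by
      conv_lhs => rw [← mem_fixSub.1 (show x.1 ∈ fixSub c.1 from x.2)]
      exact c.2 _ _
    rw [map_add, h3, ← two_mul] at h1
    exact (mul_eq_zero.1 h1).resolve_left h2)
  obtain ⟨j, -, a'', c'', hj, hp, -, -⟩ :=
    std_of_symp B' (fun v => hA v.1) hsep (c := 1) ⟨ho', hfix', Commute.one_right a'⟩
  refine ⟨j, a'', c'', ?_, hp⟩
  rw [← hj]
  refine Submodule.finrank_lt fun e => hu (mem_fixSub.1 ?_)
  show u ∈ W
  rw [e]; trivial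

/-! ### Embeddings of symplectic models -/

/-- Padding by zero. -/
theorem exists_sympEmb {j n : ℕ} (h : j ≤ n) :
    ∃ φ : (Fin j ⊕ Fin j → F) →ₗ[F] (Fin n ⊕ Fin n → F),
      (∀ x y, sympBilin n F (φ x) (φ y) = sympBilin j F x y) ∧
      ∀ i : Fin n, j ≤ i → ∀ x, φ x (.inl i) = 0 ∧ φ x (.inr i) = 0 := by
  obtain ⟨d, rfl⟩ := Nat.exists_eq_add_of_le h
  let φ : (Fin j ⊕ Fin j → F) →ₗ[F] (Fin (j + d) ⊕ Fin (j + d) → F) :=
    { toFun := fun v => Sum.elim (Fin.append (fun i => v (.inl i)) fun _ => 0)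
        (Fin.append (fun i => v (.inr i)) fun _ => 0)
      map_add' := fun u v => funext fun x => by
        rcases x with x | x <;> refine Fin.addCases (fun i => ?_) (fun i => ?_) x <;> simp
      map_smul' := fun s v => funext fun x => by
        rcases x with x | x <;> refine Fin.addCases (fun i => ?_) (fun i => ?_) x <;> simp }
  refine ⟨φ, fun x y => ?_, fun i hi x => ?_⟩
  · simp only [sympBilin_apply, sympForm_eq_sum, φ, LinearMap.coe_mk, AddHom.coe_mk, Sum.elim_inl,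
      Sum.elim_inr, Fin.sum_univ_add, Fin.append_left, Fin.append_right]
    simp
  · obtain ⟨k, rfl⟩ : ∃ k : Fin d, i = Fin.natAdd j k :=
      ⟨⟨i - j, by omega⟩, Fin.ext (by simp; omega)⟩
    simp [φ]

theorem embed_vec {j n : ℕ} (φ : (Fin j ⊕ Fin j → F) →ₗ[F] (Fin n ⊕ Fin n → F))
    (hφ : ∀ i : Fin n, j ≤ i → ∀ x, φ x (.inl i) = 0 ∧ φ x (.inr i) = 0) {i : Fin n} (hi : j ≤ i)
    (u : Fin j ⊕ Fin j → F) : sympBilin n F (φ u) (Pi.single (.inl i) 1) = 0 := by
  rw [sympBilin_apply, sympForm_eq_sum]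
  refine Finset.sum_eq_zero fun k _ => ?_
  rcases eq_or_ne k i with rfl | hk
  · simp [(hφ k hi u).1, (hφ k hi u).2]
  · simp [Pi.single_apply, hk]

end CfsgLib.KnownB.SpOrth
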