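import Cfsg.Agent.Lib.KnownB.SpOrthSymp
import Cfsg.Agent.Lib.KnownB.BCSpinor
import Cfsg.Agent.Lib.Geom.OddInvol
import Cfsg.Agent.Lib.Classical.OrthOmega
import Cfsg.Agent.Lib.KnownC.OrthPrimeOrder

/-!
Element orders `r s` of `POmega_2n+1(q)`, `q` odd, in terms of fixed-point-free pairs.
-/

set_option autoImplicit false

namespace CfsgLib.KnownB.SpOrth

open CfsgLib.Geom CfsgLib.Classical CfsgLib.KnownC CfsgLib.KnownB.BC
open QuadraticMap (polar)

variable {F : Type*} [Field F] {n : ℕ}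

local notation "VO" n => (Unit ⊕ (Fin n ⊕ Fin n) → F)
local notation "V2" n => (Fin n ⊕ Fin n → F)

/-- The isometry lies in `Ω`. -/
def InOmega {ι : Type} [Fintype ι] [DecidableEq ι] {Q : QuadraticForm F (ι → F)} (g : quadIsoms Q) :
    Prop :=
  orEquiv Q g ∈ Cfsg.Omega F (⇑Q)

theorem isoLin_orEquiv {ι : Type} [Fintype ι] [DecidableEq ι] (Q : QuadraticForm F (ι → F))
    (g : quadIsoms Q) (v : ι → F) : isoLin (orEquiv Q g) v = g.1 v := by
  rw [isoLin, Matrix.toLin'_apply, orEquiv_mulVec]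

/-- An anisotropic vector orthogonal to a smaller non-degenerate subspace. -/
theorem exists_aniso {V U : Type*} [AddCommGroup V] [Module F V] [FiniteDimensional F V]
    [AddCommGroup U] [Module F U] [FiniteDimensional F U] (Q : QuadraticForm F V)
    (hQ : ∀ x, (∀ y, polar Q x y = 0) → x = 0) (Q₀ : QuadraticForm F U)
    (h0 : ∀ x, (∀ y, polar Q₀ x y = 0) → x = 0) (φ : U →ₗ[F] V) (hφ : ∀ x, Q (φ x) = Q₀ x)
    (hlt : Module.finrank F U < Module.finrank F V) :
    ∃ w, Q w ≠ 0 ∧ ∀ u, polar Q (φ u) w = 0 := by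
  have hp : ∀ x y, polar Q (φ x) (φ y) = polar Q₀ x y := fun x y => by
    simp only [QuadraticMap.polar, ← map_add, hφ]
  obtain ⟨π, hπB, hπ⟩ := exists_proj Q₀.polarBilin h0 Q.polarBilin φ hp
  simp only [QuadraticMap.polarBilin_apply_apply] at hπB
  have hperp : ∀ w, π w = 0 → ∀ u, polar Q (φ u) w = 0 := fun w hw u => by
    rw [QuadraticMap.polar_comm, hπB, hw, QuadraticMap.polar_zero_left]
  by_contra hno
  push Not at hno
  have hsing : ∀ w, π w = 0 → Q w = 0 := fun w hw => by
    by_contra h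
    obtain ⟨u, hu⟩ := hno w h
    exact hu (hperp w hw u)
  obtain ⟨w, hw, hw0⟩ : ∃ w, π w = 0 ∧ w ≠ 0 := by
    by_contra h
    push Not at h
    exact hlt.not_ge (LinearMap.finrank_le_finrank_of_injective
      ((injective_iff_map_eq_zero π).2 h))
  refine hw0 (hQ w fun y => ?_)
  have hk : π (y - φ (π y)) = 0 := by rw [map_sub, hπ, sub_self]
  rw [← add_sub_cancel (φ (π y)) y, QuadraticMap.polar_add_right, QuadraticMap.polar_comm _ w,
    hperp w hw, zero_add, QuadraticMap.polar, hsing _ hw, hsing _ hk,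
    hsing _ (by rw [map_add, hw, hk, add_zero]), sub_zero, sub_zero]

variable [Fintype F]

/-- Embedding of a quadratic space of even dimension. -/
theorem exists_orthEmb (h2 : (2 : F) ≠ 0) {j m : ℕ} (hj : j ≤ m)
    (Q₀ : QuadraticForm F (V2 j)) (h0 : ∀ x, (∀ y, polar Q₀ x y = 0) → x = 0) :
    ∃ φ : (V2 j) →ₗ[F] (VO m), ∀ x, qfOdd m F (φ x) = Q₀ x := by
  rcases OrthType.dichotomy Q₀ h0 (k := j) (by simp; ring) with ⟨e, he⟩ | ⟨l, rfl, h⟩
  · obtain ⟨φ, hφ⟩ := OrthType.embed_plus_odd (F := F) hj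
    exact ⟨φ ∘ₗ e.symm.toLinearMap, fun x => by
      rw [LinearMap.comp_apply, hφ, LinearEquiv.coe_coe, ← he, e.apply_symm_apply]⟩
  · obtain ⟨a, b, hab⟩ := exists_anisotropic_binary (F := F)
    obtain ⟨e, he⟩ := h a b hab
    obtain ⟨φ, hφ⟩ := OrthType.embed_minus_odd (F := F) h2 hj a b
    exact ⟨φ ∘ₗ e.symm.toLinearMap, fun x => by
      rw [LinearMap.comp_apply, hφ, LinearEquiv.coe_coe, ← he, e.apply_symm_apply]⟩

/-- Data on the complement of a quadratic model in smaller dimension. -/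
theorem exists_small_orth (h2 : (2 : F) ≠ 0) {j : ℕ} (hj : j < n)
    (Q₀ : QuadraticForm F (V2 j)) (h0 : ∀ x, (∀ y, polar Q₀ x y = 0) → x = 0) :
    ∃ (φ : (V2 j) →ₗ[F] (VO n)) (E : quadIsoms Q₀ →* quadIsoms (qfOdd n F)) (e e' w : VO n),
      Function.Injective E ∧ qfOdd n F e = 0 ∧ qfOdd n F e' = 0 ∧ polar (qfOdd n F) e e' = 1 ∧
      qfOdd n F w ≠ 0 ∧ polar (qfOdd n F) e w = 0 ∧ polar (qfOdd n F) e' w = 0 ∧
      (∀ u, polar (qfOdd n F) e (φ u) = 0 ∧ polar (qfOdd n F) e' (φ u) = 0 ∧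
        polar (qfOdd n F) w (φ u) = 0) ∧
      ∀ g : quadIsoms (qfOdd n F), (∀ u, g.1 (φ u) = φ u) → ∀ b, Commute g (E b) := by
  classical
  obtain ⟨m, rfl⟩ : ∃ m, n = m + 1 := ⟨n - 1, by omega⟩
  obtain ⟨φ₀, hφ₀⟩ := exists_orthEmb h2 (show j ≤ m by omega) Q₀ h0
  obtain ⟨w₀, hw₀, hw₀'⟩ := exists_aniso (qfOdd m F) (qfOdd_sep h2 m) Q₀ h0 φ₀ hφ₀ (by simp; omega)
  let ψ : (VO m) →ₗ[F] (VO (m + 1)) :=
    { toFun := fun v => Sum.elim (fun _ => v (.inl ())) (Sum.elim
        (Fin.snoc (fun i => v (.inr (.inl i))) 0) (Fin.snoc (fun i => v (.inr (.inr i))) 0))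
      map_add' := fun u v => funext fun x => by
        rcases x with ⟨⟩ | x | x
        · simp
        · refine Fin.lastCases ?_ (fun i => ?_) x <;> simp
        · refine Fin.lastCases ?_ (fun i => ?_) x <;> simp
      map_smul' := fun s v => funext fun x => by
        rcases x with ⟨⟩ | x | x
        · simp
        · refine Fin.lastCases ?_ (fun i => ?_) x <;> simp
        · refine Fin.lastCases ?_ (fun i => ?_) x <;> simp }
  have hψ : ∀ v, qfOdd (m + 1) F (ψ v) = qfOdd m F v := fun v => by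
    simp [qfOdd_apply, Cfsg.quadFormOdd, ψ, Fin.sum_univ_castSucc]
  have hψp : ∀ u v, polar (qfOdd (m + 1) F) (ψ u) (ψ v) = polar (qfOdd m F) u v := fun u v => by
    simp only [QuadraticMap.polar, ← map_add, hψ]
  let e : VO (m + 1) := Pi.single (.inr (.inl (Fin.last m))) 1
  let e' : VO (m + 1) := Pi.single (.inr (.inr (Fin.last m))) 1
  have he : ∀ v, polar (qfOdd (m + 1) F) e v = v (.inr (.inr (Fin.last m))) := fun v => by
    simp [polar_qfOdd, e, Pi.single_apply]
  have he' : ∀ v, polar (qfOdd (m + 1) F) e' v = v (.inr (.inl (Fin.last m))) := fun v => by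
    simp [polar_qfOdd, e', Pi.single_apply]
  obtain ⟨E, hE, -, -, hE3⟩ := exists_quad_ext Q₀ h0 (qfOdd (m + 1) F) (ψ ∘ₗ φ₀)
    (fun x => by rw [LinearMap.comp_apply, hψ, hφ₀])
  refine ⟨ψ ∘ₗ φ₀, E, e, e', ψ w₀, hE, ?_, ?_, ?_, by rw [hψ]; exact hw₀, ?_, ?_,
    fun u => ⟨?_, ?_, ?_⟩, hE3⟩
  · simp [qfOdd_apply, Cfsg.quadFormOdd, e, Pi.single_apply]
  · simp [qfOdd_apply, Cfsg.quadFormOdd, e', Pi.single_apply]
  · rw [he]; simp [e']
  · rw [he]; simp [ψ]
  · rw [he']; simp [ψ]
  · rw [he]; simp [ψ]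
  · rw [he']; simp [ψ]
  · rw [LinearMap.comp_apply, QuadraticMap.polar_comm, hψp, hw₀']

/-- A Siegel transformation of order `p`. -/
theorem exists_siegel_order {V : Type*} [AddCommGroup V] [Module F V] (Q : QuadraticForm F V)
    {p : ℕ} [Fact p.Prime] [CharP F p] (h2 : (2 : F) ≠ 0) {e e' w : V} (he : Q e = 0)
    (hee : polar Q e e' = 1) (hw : Q w ≠ 0) (hew : polar Q e w = 0) :
    ∃ T : quadIsoms Q, orderOf T = p ∧
      ∀ z, polar Q e z = 0 → polar Q w z = 0 → T.1 z = z := by
  have hpow : ∀ k : ℕ, siegel Q e w ^ k = siegel Q e ((k : F) • w) := by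
    intro k
    induction k with
    | zero => rw [pow_zero, Nat.cast_zero, zero_smul, siegel_zero]
    | succ k ih =>
      rw [pow_succ, ih, ← siegel_add Q he
        (by rw [QuadraticMap.polar_smul_right, hew, smul_zero]) hew, Nat.cast_succ, add_smul,
        one_smul]
  refine ⟨siegel Q e w, orderOf_eq_prime (by rw [hpow, CharP.cast_eq_zero, zero_smul, siegel_zero])
    fun h => ?_, fun z h1 h3 => ?_⟩
  · have h1 : (siegel Q e w).1 e' = e' := by rw [h]; rfl
    rw [siegel_apply Q he hew, hee, one_smul, mul_one] at h1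
    have h3 : w - (polar Q w e' + Q w) • e = 0 := by
      have h4 := congrArg (· - e') h1
      simp only [sub_self] at h4
      rw [← h4]; abel
    have h5 := congrArg (polar Q w) h3
    rw [QuadraticMap.polar_sub_right, QuadraticMap.polar_smul_right, QuadraticMap.polar_comm _ w e,
      hew, smul_zero, sub_zero, polar_self_two, QuadraticMap.polar_zero_right] at h5
    exact mul_ne_zero h2 hw h5
  · rw [siegel_apply Q he hew, h1, h3]
    simp

/-- An involution of `Ω` given by two orthogonal reflections. -/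
theorem exists_two_refl {ι : Type} [Fintype ι] [DecidableEq ι] (Q : QuadraticForm F (ι → F))
    (hQ : ∀ x, (∀ y, polar Q x y = 0) → x = 0) (h2 : (2 : F) ≠ 0) {v w : ι → F} (hv : Q v ≠ 0)
    (hw : Q w ≠ 0) (hvw : polar Q v w = 0) (hsq : IsSquare (Q v * Q w)) :
    ∃ t : quadIsoms Q, InOmega t ∧ orderOf t = 2 ∧
      ∀ z, polar Q v z = 0 → polar Q w z = 0 → t.1 z = z := by
  let t : quadIsoms Q :=
    ⟨reflEquiv Q v hv, reflEquiv_mem Q v hv⟩ * ⟨reflEquiv Q w hw, reflEquiv_mem Q w hw⟩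
  have htz : ∀ z, t.1 z = reflEquiv Q v hv (reflEquiv Q w hw z) := fun z => rfl
  have hwv : polar Q w v = 0 := by rw [QuadraticMap.polar_comm]; exact hvw
  have hcomm : ∀ z, reflEquiv Q v hv (reflEquiv Q w hw z) = reflEquiv Q w hw (reflEquiv Q v hv z) :=
    fun z => by
      simp only [reflEquiv_apply, QuadraticMap.polar_sub_right, QuadraticMap.polar_smul_right, hvw,
        hwv, smul_zero, sub_zero]
      abel
  refine ⟨t, ?_, ?_, fun z h1 h3 => by rw [htz, reflEquiv_fix Q w hw h3, reflEquiv_fix Q v hv h1]⟩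
  · obtain ⟨g, hg, hgw⟩ := exists_omega_word Q hQ h2 [⟨v, hv⟩, ⟨w, hw⟩]
      (wordVal_eq_one Q _ (by simp) (by simpa using hsq))
    have : orEquiv Q t = g := isoLin_ext fun z => by
      rw [hgw, isoLin_orEquiv]
      simp [reflWord, htz]
    show orEquiv Q t ∈ Cfsg.Omega F (⇑Q)
    rw [this]; exact hg
  · refine orderOf_dvd_two (Subtype.ext (LinearEquiv.ext fun z => ?_)) fun h => ?_
    · show t.1 (t.1 z) = z
      have h1 := LinearEquiv.congr_fun (reflEquiv_mul_self Q v hv)
      have h3 := LinearEquiv.congr_fun (reflEquiv_mul_self Q w hw) z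
      rw [htz, htz, hcomm (reflEquiv Q v hv _), ← LinearEquiv.mul_apply (reflEquiv Q v hv),
        h1, LinearEquiv.coe_one, id_eq]
      exact h3
    · have h1 : t.1 w = w := by rw [h]; rfl
      rw [htz, reflEquiv_self, map_neg, reflEquiv_fix Q v hv hvw] at h1
      have : (2 : F) • w = 0 := by rw [two_smul]; exact neg_eq_iff_add_eq_zero.1 h1
      exact hw (by rw [(smul_eq_zero.1 this).resolve_left h2, map_zero])

section Omega

variable {ι : Type} [Fintype ι] [DecidableEq ι] {Q : QuadraticForm F (ι → F)}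
  (hQ : ∀ x, (∀ y, polar Q x y = 0) → x = 0) (h2 : (2 : F) ≠ 0)

include hQ h2

theorem inOmega_sq (g : quadIsoms Q) : InOmega (g * g) := by
  show orEquiv Q (g * g) ∈ _
  rw [omega_eq_ker_spinorHom Q hQ (exGen_of_odd h2), MonoidHom.mem_ker, map_mul, map_mul]
  refine Prod.ext ?_ (sqClass_mul_self _)
  have h : ∀ z : Multiplicative (ZMod 2), z * z = 1 := by decide
  exact h _

theorem inOmega_odd {g : quadIsoms Q} (h : Odd (orderOf g)) : InOmega g := by
  obtain ⟨k, hk⟩ := h
  have : g = g ^ (k + 1) * g ^ (k + 1) := by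
    rw [← pow_add, show k + 1 + (k + 1) = orderOf g + 1 by omega, pow_succ, pow_orderOf_eq_one,
      one_mul]
  rw [this]
  exact inOmega_sq hQ h2 _

omit hQ h2 in
theorem inOmega_mul {g h : quadIsoms Q} (hg : InOmega g) (hh : InOmega h) : InOmega (g * h) := by
  show orEquiv Q (g * h) ∈ _
  rw [map_mul]
  exact mul_mem hg hh

/-- Spinor norm of an involution in `Ω`. -/
theorem spinor_of_mem {t : quadIsoms Q} (ht : InOmega t) {κ : Type*} [Fintype κ] [DecidableEq κ]
    (c : κ → ι → F) (hinv : ∀ v, t.1 (t.1 v) = v) (hneg : ∀ i, t.1 (c i) = -c i)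
    (hspan : ∀ v, t.1 v = -v → v ∈ Submodule.span F (Set.range c))
    (hdet : (Matrix.of fun i j => polar Q (c i) (c j)).det ≠ 0) :
    Even (Fintype.card κ) ∧
      IsSquare (2 ^ Fintype.card κ * (Matrix.of fun i j => polar Q (c i) (c j)).det) := by
  have hex := exGen_of_odd (ι := ι) h2
  have h := spinor_involution Q hQ hex h2 (orEquiv Q t) c
    (fun v => by rw [isoLin_orEquiv, isoLin_orEquiv, hinv])
    (fun i => by rw [isoLin_orEquiv, hneg])
    (fun v hv => hspan v (by rwa [isoLin_orEquiv] at hv)) hdet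
  have h1 : spinorHom Q hQ hex (orEquiv Q t) = 1 := by
    rw [← MonoidHom.mem_ker, ← omega_eq_ker_spinorHom Q hQ hex]; exact ht
  rw [h1, eq_comm, Prod.mk_eq_one, sqClass_eq_one_iff] at h
  refine ⟨ZMod.natCast_eq_zero_iff_even.1 ?_, h.2⟩
  exact Multiplicative.ofAdd.injective h.1

end Omega

/-- Membership in `range orderOf`. -/
theorem pomega_range_iff (h2 : (2 : F) ≠ 0) (hn : 2 ≤ n) (N : ℕ) :
    N ∈ Set.range (orderOf : Cfsg.POmega F (⇑(qfOdd n F)) → ℕ) ↔
      ∃ g : quadIsoms (qfOdd n F), InOmega g ∧ orderOf g = N := by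
  let O := orEquiv (qfOdd n F)
  have hc := (omega_odd_center_and_involutions (qfOdd n F) (qfOdd_sep h2 n) h2 hn
    (by simp; ring)).1
  have hinj : Function.Injective (QuotientGroup.mk'
      (Subgroup.center ↥(Cfsg.Omega F (⇑(qfOdd n F))))) := by
    rw [← MonoidHom.ker_eq_bot_iff, QuotientGroup.ker_mk', hc]
  constructor
  · rintro ⟨x, rfl⟩
    obtain ⟨y, rfl⟩ := QuotientGroup.mk'_surjective _ x
    refine ⟨O.symm y.1, ?_, ?_⟩
    · show O (O.symm y.1) ∈ _
      rw [MulEquiv.apply_symm_apply]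
      exact y.2
    · rw [orderOf_injective _ hinj]
      exact (orderOf_injective O.symm.toMonoidHom O.symm.injective y.1).trans
        (Subgroup.orderOf_coe y)
  · rintro ⟨g, hg, rfl⟩
    refine ⟨QuotientGroup.mk' _ ⟨O g, hg⟩, ?_⟩
    rw [orderOf_injective _ hinj, ← Subgroup.orderOf_coe]
    exact orderOf_injective O.toMonoidHom O.injective g

/-- The standard model of the moved subspace. -/
theorem orth_std (h2 : (2 : F) ≠ 0) {N : ℕ} (hN : Odd N) (hN0 : (N : F) ≠ 0)
    {a c : quadIsoms (qfOdd n F)} (hac : Commute a c) (ha : orderOf a = N) :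
    ∃ (j : ℕ) (e : movSub a.1 ≃ₗ[F] (V2 j)) (a' c' : formIsoms (sympBilin j F)),
      j ≤ n ∧ Module.finrank F (movSub a.1) = 2 * j ∧ IsPair N a' c' ∧
      orderOf c' ∣ orderOf c ∧ ∀ v : movSub a.1, (e.symm (c'.1 (e v)) : VO n) = c.1 v.1 := by
  obtain ⟨Q', a', c', -, hsep, hp, hcv, hcd, -⟩ := quad_res (qfOdd n F) (qfOdd_sep h2 n) hac ha hN0
  obtain ⟨j, e, a'', c'', hj, hp', hord, hev⟩ := std_of_quad Q' hsep hN hp
  refine ⟨j, e, a'', c'', ?_, hj, hp', hord ▸ hcd, fun v => by
    rw [hev, e.symm_apply_apply, hcv]⟩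
  have := Submodule.finrank_le (movSub a.1)
  rw [hj, Module.finrank_fintype_fun_eq_card] at this
  simp at this
  omega

/-- An element of odd semisimple order. -/
theorem orth_odd_iff (h2 : (2 : F) ≠ 0) (hn : 2 ≤ n) {N : ℕ} (hN : Odd N) (hN0 : (N : F) ≠ 0) :
    N ∈ Set.range (orderOf : Cfsg.POmega F (⇑(qfOdd n F)) → ℕ) ↔ CritOdd F n N := by
  rw [pomega_range_iff h2 hn]
  constructor
  · rintro ⟨g, -, hg⟩
    obtain ⟨j, e, a, c, hj, -, hp, -⟩ := orth_std h2 hN hN0 (Commute.refl g) hg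
    exact ⟨j, hj, a, c, hp⟩
  · rintro ⟨j, hj, a, c, hp⟩
    obtain ⟨Q₀, a', c', h0, ⟨ha, -, -⟩, -⟩ :=
      quad_of_symp (sympBilin j F) sympBilin_self sympBilin_sep hN hp
    obtain ⟨φ, hφ⟩ := exists_orthEmb h2 hj Q₀ h0
    obtain ⟨E, hE, -⟩ := exists_quad_ext Q₀ h0 (qfOdd n F) φ hφ
    have ho : orderOf (E a') = N := by rw [orderOf_injective E hE, ha]
    exact ⟨E a', inOmega_odd (qfOdd_sep h2 n) h2 (ho ▸ hN), ho⟩

/-- In top dimension the fixed space is a line, on which a commuting isometry is a sign. -/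
theorem line_sign (h2 : (2 : F) ≠ 0) {N : ℕ} (hN0 : (N : F) ≠ 0) {a c : quadIsoms (qfOdd n F)}
    (ha : orderOf a = N) (hac : Commute a c)
    (hd : Module.finrank F (movSub a.1) = 2 * n) :
    ∃ w ∈ fixSub a.1, qfOdd n F w ≠ 0 ∧ (c.1 w = w ∨ c.1 w = -w) ∧
      (∀ v, ∃ u ∈ movSub a.1, ∃ s : F, v = u + s • w) ∧
      ∀ u ∈ movSub a.1, polar (qfOdd n F) u w = 0 := by
  have hN : a.1 ^ N = 1 := by rw [← SubgroupClass.coe_pow, ← ha, pow_orderOf_eq_one]; rfl
  have hc := isCompl_fix_mov a.1 hN hN0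
  have h1 : Module.finrank F (fixSub a.1) = 1 := by
    have h := Submodule.finrank_add_eq_of_isCompl hc
    rw [hd, Module.finrank_fintype_fun_eq_card] at h
    simp at h
    omega
  obtain ⟨w, hw0, hw⟩ := finrank_eq_one_iff'.1 h1
  have hspan : ∀ v, ∃ u ∈ movSub a.1, ∃ s : F, v = u + s • (w : VO n) := fun v => by
    obtain ⟨x, hx, u, hu, rfl⟩ := Submodule.mem_sup.1
      (hc.sup_eq_top.ge (Submodule.mem_top : v ∈ (⊤ : Submodule F (VO n))))
    obtain ⟨s, hs⟩ := hw ⟨x, hx⟩
    exact ⟨u, hu, s, by rw [add_comm, ← Submodule.coe_smul, hs]⟩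
  have hperp : ∀ u ∈ movSub a.1, polar (qfOdd n F) u (w : VO n) = 0 := by
    rintro _ ⟨z, rfl⟩
    simp only [LinearMap.sub_apply, LinearEquiv.coe_coe, LinearMap.id_apply,
      QuadraticMap.polar_sub_left]
    conv_lhs => arg 1; rw [← mem_fixSub.1 w.2]
    rw [polar_quadIsom a.2, sub_self]
  have hQw : qfOdd n F (w : VO n) ≠ 0 := fun h0 => hw0 (Subtype.ext (qfOdd_sep h2 n _ fun y => by
    obtain ⟨u, hu, s, rfl⟩ := hspan y
    rw [QuadraticMap.polar_add_right, QuadraticMap.polar_smul_right, QuadraticMap.polar_comm,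
      hperp u hu, polar_self_two, h0, mul_zero, smul_zero, add_zero]))
  refine ⟨w, w.2, hQw, ?_, hspan, hperp⟩
  have hcw : c.1 (w : VO n) ∈ fixSub a.1 := by
    rw [mem_fixSub, comm_apply hac, mem_fixSub.1 w.2]
  obtain ⟨s, hs⟩ := hw ⟨_, hcw⟩
  have hs' : s • (w : VO n) = c.1 (w : VO n) := congrArg Subtype.val hs
  have h3 := c.2 (w : VO n)
  rw [← hs', quad_smul] at h3
  have h4 : (s - 1) * (s + 1) = 0 := by
    have : (s * s - 1) * qfOdd n F (w : VO n) = 0 := by linear_combination h3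
    linear_combination (mul_eq_zero.1 this).resolve_right hQw
  rcases mul_eq_zero.1 h4 with h5 | h5
  · exact Or.inl (by rw [← hs', sub_eq_zero.1 h5, one_smul])
  · exact Or.inr (by rw [← hs', eq_neg_of_add_eq_zero_left h5, neg_one_smul])

/-- An odd prime with the characteristic. -/
theorem orth_char_iff (h2 : (2 : F) ≠ 0) (hn : 2 ≤ n) {p r : ℕ} [hp : Fact p.Prime] [CharP F p]
    (hp2 : p ≠ 2) (hr : r.Prime) (hr2 : r ≠ 2) (hrp : r ≠ p) :
    r * p ∈ Set.range (orderOf : Cfsg.POmega F (⇑(qfOdd n F)) → ℕ) ↔ CritChar F n r p := by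
  have hodd : Odd (r * p) := (hr.odd_of_ne_two hr2).mul (hp.out.odd_of_ne_two hp2)
  have hr0 := natCast_ne_zero_of_prime (F := F) hr hrp
  have hrodd := hr.odd_of_ne_two hr2
  rw [pomega_range_iff h2 hn]
  constructor
  · rintro ⟨g, -, hg⟩
    obtain ⟨ha, hc, hac⟩ := orderOf_split hg hr.pos hp.out.pos
    obtain ⟨j, e, a', c', hj, hjd, hp', hcd, hcv⟩ := orth_std h2 hrodd hr0 hac ha
    rw [hc] at hcd
    rcases (Nat.dvd_prime hp.out).1 hcd with h1 | h1
    · refine Or.inl ⟨j, ?_, a', c', hp'⟩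
      by_contra hlt
      obtain rfl : j = n := by omega
      obtain ⟨w, -, -, hw, hspan, -⟩ := line_sign h2 hr0 ha hac hjd
      have hmov : ∀ u ∈ movSub (g ^ p).1, (g ^ r).1 u = u := fun u hu => by
        rw [← hcv ⟨u, hu⟩, orderOf_eq_one_iff.1 h1, OneMemClass.coe_one, LinearEquiv.coe_one,
          id_eq, e.symm_apply_apply]
      have hw' : (g ^ r).1 w = w := hw.resolve_right fun hneg => by
        have hk : ∀ k : ℕ, ((g ^ r) ^ k).1 w = (-1 : F) ^ k • w := by
          intro k
          induction k with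
          | zero => simp
          | succ k ih => rw [pow_apply, hneg, map_neg, ih, pow_succ, mul_neg_one, neg_smul]
        have h3 := hk p
        rw [← hc, pow_orderOf_eq_one, hc, (hp.out.odd_of_ne_two hp2).neg_one_pow] at h3
        have h4 : w = -w := by simpa using h3
        have : (2 : F) • w = 0 := by rw [two_smul]; exact eq_neg_iff_add_eq_zero.1 h4
        have hw0 := (smul_eq_zero.1 this).resolve_left h2
        have h5 : g ^ r = 1 := Subtype.ext (LinearEquiv.ext fun v => by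
          obtain ⟨u, hu, s, rfl⟩ := hspan v
          rw [hw0, smul_zero, add_zero, hmov u hu]; rfl)
        rw [h5, orderOf_one] at hc
        exact hp.out.one_lt.ne hc
      have h5 : g ^ r = 1 := Subtype.ext (LinearEquiv.ext fun v => by
        obtain ⟨u, hu, s, rfl⟩ := hspan v
        rw [map_add, map_smul, hw', hmov u hu]; rfl)
      rw [h5, orderOf_one] at hc
      exact hp.out.one_lt.ne hc
    · exact Or.inr ⟨j, hj, a', c', hp', h1⟩
  · intro h
    obtain ⟨a, c, ha, hc, hac⟩ : ∃ a c : quadIsoms (qfOdd n F),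
        orderOf a = r ∧ orderOf c = p ∧ Commute a c := by
      rcases h with ⟨j, hj, a, c, hpair⟩ | ⟨j, hj, a, c, hpair, hc⟩
      · obtain ⟨Q₀, a', c', h0, ⟨ha, -, -⟩, -⟩ :=
          quad_of_symp (sympBilin j F) sympBilin_self sympBilin_sep hrodd hpair
        obtain ⟨φ, E, e, e', w, hE, he, -, hee, hw, hew, -, hperp, hcomm⟩ :=
          exists_small_orth h2 hj Q₀ h0
        obtain ⟨T, hT, hfix⟩ := exists_siegel_order (qfOdd n F) (p := p) h2 he hee hw hew
        exact ⟨E a', T, by rw [orderOf_injective E hE, ha], hT,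
          (hcomm T (fun u => hfix _ (hperp u).1 (hperp u).2.2) a').symm⟩
      · obtain ⟨Q₀, a', c', h0, ⟨ha, -, hac⟩, hc', -⟩ :=
          quad_of_symp (sympBilin j F) sympBilin_self sympBilin_sep hrodd hpair
        obtain ⟨φ, hφ⟩ := exists_orthEmb h2 hj Q₀ h0
        obtain ⟨E, hE, -⟩ := exists_quad_ext Q₀ h0 (qfOdd n F) φ hφ
        exact ⟨E a', E c', by rw [orderOf_injective E hE, ha],
          by rw [orderOf_injective E hE, hc', hc], hac.map E⟩
    have ho : orderOf (a * c) = r * p := orderOf_commute_mul ha hc hr hp.out hrp hac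
    exact ⟨a * c, inOmega_odd (qfOdd_sep h2 n) h2 (ho ▸ hodd), ho⟩

/-- The characteristic with two. -/
theorem orth_two_char (h2 : (2 : F) ≠ 0) (hn : 3 ≤ n) {p : ℕ} [hp : Fact p.Prime] [CharP F p]
    (hp2 : p ≠ 2) : 2 * p ∈ Set.range (orderOf : Cfsg.POmega F (⇑(qfOdd n F)) → ℕ) := by
  classical
  rw [pomega_range_iff h2 (by omega)]
  obtain ⟨m, rfl⟩ : ∃ m, n = m + 3 := ⟨n - 3, by omega⟩
  let j := m + 2
  obtain ⟨φ, E, e, e', w, hE, he, he', hee, hw, hew, hew', hperp, hcomm⟩ :=
    exists_small_orth h2 (show j < m + 3 by omega) (qfPlus j F) (qfPlus_sep j)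
  let v := e + qfOdd (m + 3) F w • e'
  have hQv : qfOdd (m + 3) F v = qfOdd (m + 3) F w := by
    show qfOdd (m + 3) F (e + _ • e') = _
    rw [quad_map_add_smul, he, he', hee]; ring
  have hvw : polar (qfOdd (m + 3) F) v w = 0 := by
    show polar (qfOdd (m + 3) F) (e + _ • e') w = 0
    rw [QuadraticMap.polar_add_left, QuadraticMap.polar_smul_left, hew, hew', smul_zero, add_zero]
  obtain ⟨t, ht, ht2, htfix⟩ := exists_two_refl (qfOdd (m + 3) F) (qfOdd_sep h2 _) h2
    (v := v) (w := w) (hQv ▸ hw) hw hvw ⟨qfOdd (m + 3) F w, by rw [hQv]⟩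
  obtain ⟨i0, i1, hne⟩ : ∃ i0 i1 : Fin j, i0 ≠ i1 :=
    ⟨⟨0, by omega⟩, ⟨1, by omega⟩, fun h => absurd (congrArg Fin.val h) zero_ne_one⟩
  let x : V2 j := Pi.single (.inl i0) 1
  let x' : V2 j := Pi.single (.inr i0) 1
  let f : V2 j := Pi.single (.inl i1) 1 + Pi.single (.inr i1) 1
  obtain ⟨T, hT, -⟩ := exists_siegel_order (qfPlus j F) (p := p) h2 (e := x) (e' := x') (w := f)
    (by simp [qfPlus_apply, Cfsg.quadFormPlus, x, Pi.single_apply])
    (by simp [polar_qfPlus, x, x', Pi.single_apply])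
    (by simp [qfPlus_apply, Cfsg.quadFormPlus, f, Pi.single_apply])
    (by simp [polar_qfPlus, x, f, Pi.single_apply, hne, hne.symm])
  have hET : orderOf (E T) = p := by rw [orderOf_injective E hE, hT]
  refine ⟨t * E T, inOmega_mul ht
    (inOmega_odd (qfOdd_sep h2 _) h2 (hET ▸ hp.out.odd_of_ne_two hp2)), ?_⟩
  refine orderOf_commute_mul ht2 hET Nat.prime_two hp.out (Ne.symm hp2) (hcomm t (fun u => ?_) T)
  refine htfix _ ?_ (hperp u).2.2
  show polar (qfOdd (m + 3) F) (e + _ • e') (φ u) = 0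
  rw [QuadraticMap.polar_add_left, QuadraticMap.polar_smul_left, (hperp u).1, (hperp u).2.1,
    smul_zero, add_zero]

/-! ### Two with an odd prime -/

theorem det_gram_plus (m : ℕ) : (Matrix.of fun i k : Fin m ⊕ Fin m =>
    polar (qfPlus m F) (Pi.single i 1) (Pi.single k 1)).det = (-1) ^ m := by
  classical
  have h : (Matrix.of fun i k : Fin m ⊕ Fin m =>
      polar (qfPlus m F) (Pi.single i 1) (Pi.single k 1)) = Matrix.fromBlocks 0 1 1 0 := by
    ext (i | i) (k | k) <;>
      simp [polar_qfPlus, Pi.single_apply, Matrix.one_apply, eq_comm]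
  rw [h]
  have h1 : (Matrix.fromBlocks 1 1 0 1 : Matrix (Fin m ⊕ Fin m) (Fin m ⊕ Fin m) F) *
      Matrix.fromBlocks 0 1 1 0 = Matrix.fromBlocks 1 1 1 0 := by
    rw [Matrix.fromBlocks_multiply]; simp
  have h3 := congrArg Matrix.det h1
  rw [Matrix.det_mul, Matrix.det_fromBlocks_zero₂₁, Matrix.det_one, one_mul, one_mul,
    Matrix.det_fromBlocks_one₁₁, Matrix.one_mul, zero_sub, Matrix.det_neg, Matrix.det_one,
    mul_one, Fintype.card_fin] at h3
  exact h3

theorem det_gram_minus (l : ℕ) (a b : F) : (Matrix.of fun i k : (Fin l ⊕ Fin l) ⊕ Fin 2 =>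
    polar (qfMinus l F a b) (Pi.single i 1) (Pi.single k 1)).det =
      (-1) ^ l * (4 * b - a ^ 2) := by
  classical
  have h : (Matrix.of fun i k : (Fin l ⊕ Fin l) ⊕ Fin 2 =>
      polar (qfMinus l F a b) (Pi.single i 1) (Pi.single k 1)) =
      Matrix.fromBlocks (Matrix.of fun i k : Fin l ⊕ Fin l =>
        polar (qfPlus l F) (Pi.single i 1) (Pi.single k 1)) 0 0 !![2, a; a, 2 * b] := by
    ext ((i | i) | i) ((k | k) | k) <;> (try fin_cases i) <;> (try fin_cases k) <;>
      simp [polar_qfMinus, polar_qfPlus, Pi.single_apply]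
  rw [h, Matrix.det_fromBlocks_zero₁₂, det_gram_plus, Matrix.det_fin_two_of]
  ring

/-- A commuting sign involution in `Ω` forces an element of order four in the torus. -/
theorem critTwo_of_neg (h2 : (2 : F) ≠ 0) (hn : 3 ≤ n) {p r : ℕ} [hp : Fact p.Prime] [CharP F p]
    (hr : r.Prime) (hr2 : r ≠ 2) (hrp : r ≠ p) {a t : quadIsoms (qfOdd n F)}
    (ha : orderOf a = r) (hat : Commute a t) (ht : InOmega t)
    (hd : Module.finrank F (movSub a.1) = 2 * n) (hneg : ∀ u ∈ movSub a.1, t.1 u = -u)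
    {w : VO n} (hw : ∀ v, ∃ u ∈ movSub a.1, ∃ s : F, v = u + s • w) (hfw : t.1 w = w) :
    CritTwo F n r := by
  classical
  have hr0 := natCast_ne_zero_of_prime (F := F) hr hrp
  have hrodd := hr.odd_of_ne_two hr2
  haveI : Fact r.Prime := ⟨hr⟩
  obtain ⟨Q', a', c₀, hQ', hsep, hp', -, -, -⟩ := quad_res (qfOdd n F) (qfOdd_sep h2 n) hat ha hr0
  obtain ⟨j, e, a'', c'', hjd, hp'', -, -⟩ := std_of_quad Q' hsep hrodd hp'
  obtain rfl : j = n := by omega
  -- the basis of the moved subspace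
  have hinv : ∀ v, t.1 (t.1 v) = v := fun v => by
    obtain ⟨u, hu, s, rfl⟩ := hw v
    rw [map_add, map_smul, hneg u hu, hfw, map_add, map_neg, map_smul, hneg u hu, hfw, neg_neg]
  have hspanU : ∀ v, t.1 v = -v → v ∈ movSub a.1 := fun v hv => by
    obtain ⟨u, hu, s, rfl⟩ := hw v
    rw [map_add, map_smul, hneg u hu, hfw, neg_add] at hv
    have h3 : (2 : F) • (s • w) = 0 := by
      rw [two_smul]; exact eq_neg_iff_add_eq_zero.1 (add_left_cancel hv)
    rw [(smul_eq_zero.1 h3).resolve_left h2, add_zero]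
    exact hu
  have hdisc : ∀ {κ : Type} [Fintype κ] [DecidableEq κ] (R : QuadraticForm F (κ → F))
      (f : (κ → F) ≃ₗ[F] movSub a.1), (∀ x, Q' (f x) = R x) → Even (Fintype.card κ) →
      ∀ {d : F}, (Matrix.of fun i k : κ => polar R (Pi.single i 1) (Pi.single k 1)).det = d →
      d ≠ 0 → IsSquare d := by
    intro κ _ _ R f hf heven d hd' hd0
    let c : κ → VO j := fun i => (f (Pi.single i 1)).1
    have hg : (Matrix.of fun i k => polar (qfOdd j F) (c i) (c k)) =
        Matrix.of fun i k : κ => polar R (Pi.single i 1) (Pi.single k 1) := by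
      ext i k
      simp only [Matrix.of_apply, QuadraticMap.polar, c, ← Submodule.coe_add, ← hQ', ← map_add, hf]
    have hrange : Submodule.span F (Set.range c) = movSub a.1 := by
      have : Set.range c = (movSub a.1).subtype.comp f.toLinearMap ''
          Set.range (fun i : κ => (Pi.single i (1 : F) : κ → F)) := by
        rw [← Set.range_comp]; rfl
      rw [this, Submodule.span_image]
      have hb : Submodule.span F (Set.range fun i : κ => (Pi.single i (1 : F) : κ → F)) = ⊤ := by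
        have := (Pi.basisFun F κ).span_eq
        convert this using 3
        funext i
        simp
      rw [hb, Submodule.map_top, LinearMap.range_comp, LinearEquiv.range, Submodule.map_top,
        Submodule.range_subtype]
    obtain ⟨-, hsq⟩ := spinor_of_mem (qfOdd_sep h2 j) h2 ht c hinv
      (fun i => hneg _ (f (Pi.single i 1)).2) (fun v hv => hrange ▸ hspanU v hv)
      (by rw [hg, hd']; exact hd0)
    rw [hg, hd'] at hsq
    obtain ⟨k, hk⟩ := heven
    obtain ⟨z, hz⟩ := hsq
    refine ⟨z / 2 ^ k, ?_⟩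
    rw [hk, pow_add] at hz
    field_simp
    linear_combination hz
  -- the orders
  let k := orderOf ((Fintype.card F : ℕ) : ZMod r)
  have hk : k = orderOf ((Fintype.card F : ℕ) : ZMod r) := rfl
  have hk0 : 0 < k := hk ▸ PSpAdjacent.order_pos hr hrp
  obtain ⟨η, hη⟩ : ∃ η, PSpAdjacent.IsEta k η := by
    rcases Nat.even_or_odd k with ⟨i, hi⟩ | ho
    · exact ⟨i, Or.inr ⟨⟨i, hi⟩, by omega⟩⟩
    · exact ⟨k, Or.inl ⟨ho, rfl⟩⟩
  have hG : r ∣ Nat.card (Cfsg.PSp j F) := by
    rw [← hp''.1, ← proj_order_odd (by omega) (hp''.1 ▸ hrodd)]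
    exact orderOf_dvd_natCard _
  have hηle := PSpAdjacent.eta_le hr hrp hG hk hη
  -- a smaller model, or an element of order four
  have small_of : ∀ {i : ℕ} (x y : formIsoms (sympBilin i F)), orderOf x = r → Commute x y →
      i < j → CritSmall F j r := by
    intro i x y hx hxy hi
    obtain ⟨B', x', y', hB', hs', hxp, -⟩ := symp_res (sympBilin i F) sympBilin_sep hxy hx hr0
    obtain ⟨i', e', x'', y'', hid, hxp', -⟩ :=
      std_of_symp B' (fun v => by rw [hB']; exact sympBilin_self _) hs' hxp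
    refine ⟨i', ?_, x'', y'', hxp'⟩
    have := Submodule.finrank_le (movSub x.1)
    rw [hid, Module.finrank_fintype_fun_eq_card] at this
    simp at this
    omega
  rcases Nat.lt_or_ge η j with hlt | hge
  · obtain ⟨s, hs⟩ := PSpAdjacent.exists_block (F := F) p hr hk hk0 hη
    obtain ⟨g, rfl⟩ := (spEquiv η F).surjective s
    rw [orderOf_spEquiv] at hs
    exact Or.inl (small_of g g hs (Commute.refl g) hlt)
  obtain rfl : η = j := le_antisymm hηle hge
  set q := Fintype.card F with hq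
  have hqodd : q % 2 = 1 :=
    FiniteField.odd_card_of_char_ne_two (ringChar_ne_two_of_ne h2)
  have hqpodd : q ^ η % 2 = 1 := by rw [Nat.pow_mod, hqodd, one_pow]; rfl
  have hq1 : (q : ZMod r) ≠ 1 := by
    intro h
    rw [← orderOf_eq_one_iff, ← hk] at h
    rcases hη with ⟨-, h'⟩ | ⟨-, h'⟩ <;> omega
  have hfix : ∀ x : movSub a.1, a'.1 x = x → x = 0 := hp'.2.1
  have htype := OrthPrime.type_of_no_fixed (p := p) hr hr2 hrp hq1 Q' hsep a'.2
    (by rw [← SubgroupClass.coe_pow, ← hp'.1, pow_orderOf_eq_one]; rfl) hfix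
    (k := η) (by omega) hjd
  obtain ⟨g, hg⟩ : ∃ g : formIsoms (sympBilin η F), orderOf g = 4 * r := by
    have h4r : Nat.Coprime 4 r := by
      rw [show (4 : ℕ) = 2 ^ 2 from rfl]
      exact ((Nat.coprime_primes Nat.prime_two hr).2 (Ne.symm hr2)).pow_left 2
    suffices h : 4 * r ∣ q ^ η + 1 ∨ 4 * r ∣ q ^ η - 1 by
      obtain ⟨s, hs⟩ : ∃ s : Matrix.symplecticGroup (Fin η) F, orderOf s = 4 * r := by
        rcases h with h | h
        · exact PSpAdjacent.exists_of_dvd_plus p (by omega) h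
        · exact PSpAdjacent.exists_of_dvd_minus p (by omega) h
      exact ⟨(spEquiv η F).symm s, by
        rw [← orderOf_spEquiv, MulEquiv.apply_symm_apply, hs]⟩
    rcases hη with ⟨hko, hkη⟩ | ⟨hke, hkη⟩
    · -- plus type
      have hqk : (q : ZMod r) ^ η = 1 := by rw [hkη, hk, pow_orderOf_eq_one]
      obtain ⟨f, hf⟩ := htype.2 hqk
      have hsq := hdisc (qfPlus η F) f hf (by simp) (det_gram_plus η)
        (pow_ne_zero _ (neg_ne_zero.2 one_ne_zero))
      rw [isSquare_neg_one_pow_iff h2, ← hq] at hsq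
      exact Or.inr (h4r.mul_dvd_of_dvd_of_dvd (by omega)
        (PSLAdjacent.dvd_pow_sub_one_iff.2 (by rw [← hq, ← hk, hkη])))
    · -- minus type
      have hdp : r ∣ q ^ η + 1 := by
        simpa using PSpAdjacent.dvd_plus_of_even hr hk hk0 hkη odd_one
      have hqk : (q : ZMod r) ^ η = -1 := by
        rw [← ZMod.natCast_eq_zero_iff, Nat.cast_add, Nat.cast_pow, Nat.cast_one,
          add_eq_zero_iff_eq_neg] at hdp
        exact hdp
      obtain ⟨A, B, hAB⟩ := exists_anisotropic_binary (F := F)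
      rcases OrthType.dichotomy Q' hsep hjd with hP | ⟨l, rfl, hM⟩
      · exact absurd hP (htype.1 hqk)
      obtain ⟨f, hf⟩ := hM A B hAB
      have hns : ¬ IsSquare ((-1 : F) ^ (l + 1)) := by
        intro hs
        have hd0 := anisotropic_disc hAB
        have hsq := hdisc (qfMinus l F A B) f hf ⟨l + 1, by simp; ring⟩ (det_gram_minus l A B)
          (mul_ne_zero (pow_ne_zero _ (neg_ne_zero.2 one_ne_zero)) hd0)
        have h5 : IsSquare (A ^ 2 - 4 * B) := by
          obtain ⟨x, hx⟩ := hs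
          obtain ⟨y, hy⟩ := hsq
          have hx0 : x ≠ 0 := fun h0 => by
            rw [h0, mul_zero] at hx
            exact pow_ne_zero _ (neg_ne_zero.2 one_ne_zero) hx
          refine ⟨y / x, ?_⟩
          field_simp
          rw [pow_succ] at hx
          linear_combination hy - (A ^ 2 - 4 * B) * hx
        obtain ⟨y, hy⟩ := h5
        refine one_ne_zero (hAB ((y - A) / 2) 1 ?_).2
        field_simp
        linear_combination -hy
      rw [isSquare_neg_one_pow_iff h2, ← hq] at hns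
      exact Or.inl (h4r.mul_dvd_of_dvd_of_dvd (by omega) hdp)
  obtain ⟨hgr, hg4, hgc⟩ := orderOf_split (show orderOf g = r * 4 by rw [hg, mul_comm])
    hr.pos (by norm_num)
  obtain ⟨B', x', y', hB', hs', hxp, hyv, -⟩ :=
    symp_res (sympBilin η F) sympBilin_sep hgc hgr hr0
  obtain ⟨i, e', x'', y'', hid, hxp', -, hyv'⟩ :=
    std_of_symp B' (fun v => by rw [hB']; exact sympBilin_self _) hs' hxp
  have hle := Submodule.finrank_le (movSub (g ^ 4).1)
  rw [hid, Module.finrank_fintype_fun_eq_card] at hle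
  simp at hle
  rcases Nat.lt_or_ge i η with hlt | hge
  · exact Or.inl ⟨i, hlt, x'', y'', hxp'⟩
  have htop : movSub (g ^ 4).1 = ⊤ := Submodule.eq_top_of_finrank_eq (by
    rw [hid, Module.finrank_fintype_fun_eq_card]; simp; omega)
  have hfixg : ∀ v, (g ^ 4).1 v = v → v = 0 := fun v hv =>
    mov_fpf (N := r) (by rw [← SubgroupClass.coe_pow, ← hgr, pow_orderOf_eq_one]; rfl) hr0
      (htop.ge trivial) hv
  have hpair : IsPair r (g ^ 4) (g ^ r) := ⟨hgr, hfixg, hgc⟩
  have hsq4 : (g ^ r * g ^ r) * (g ^ r * g ^ r) = 1 := by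
    rw [← pow_add, ← pow_add]
    exact orderOf_dvd_iff_pow_eq_one.1 (dvd_of_eq (hg.trans (by ring)))
  have hpair2 : IsPair r (g ^ 4) (g ^ r * g ^ r) := ⟨hgr, hfixg, hgc.mul_right hgc⟩
  rcases small_or_sign (n := η) h2 hr le_rfl hpair2
      (fun v => DFunLike.congr_fun (congrArg Subtype.val hsq4) v) with h | h | h
  · exact Or.inl h
  · exfalso
    have h1 : g ^ r * g ^ r = 1 := Subtype.ext (LinearEquiv.ext h)
    rw [← pow_add] at h1
    have h3 := Nat.le_of_dvd (by have := hr.pos; omega) (hg ▸ orderOf_dvd_of_pow_eq_one h1)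
    have := hr.pos
    omega
  · exact Or.inr ⟨g ^ 4, g ^ r, hpair, h⟩

/-- An odd prime with two. -/
theorem orth_two_iff (h2 : (2 : F) ≠ 0) (hn : 3 ≤ n) {p r : ℕ} [hp : Fact p.Prime] [CharP F p]
    (hr : r.Prime) (hr2 : r ≠ 2) (hrp : r ≠ p) :
    2 * r ∈ Set.range (orderOf : Cfsg.POmega F (⇑(qfOdd n F)) → ℕ) ↔ CritTwo F n r := by
  classical
  have hr0 := natCast_ne_zero_of_prime (F := F) hr hrp
  have hrodd := hr.odd_of_ne_two hr2
  have hQ := qfOdd_sep h2 n
  rw [pomega_range_iff h2 (by omega)]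
  constructor
  · rintro ⟨g, hgΩ, hg⟩
    obtain ⟨ha, hc, hac⟩ := orderOf_split (show orderOf g = r * 2 by rw [hg, mul_comm]) hr.pos
      two_pos
    have hcΩ : InOmega (g ^ r) := by
      show orEquiv _ (g ^ r) ∈ _
      rw [map_pow]; exact pow_mem hgΩ r
    have hcc : ∀ v, (g ^ r).1 ((g ^ r).1 v) = v := fun v => by
      have h : g ^ r * g ^ r = 1 := by rw [← sq, ← hc, pow_orderOf_eq_one]
      exact DFunLike.congr_fun (congrArg Subtype.val h) v
    obtain ⟨j, e, a', c', hj, hjd, hp', -, hcv⟩ := orth_std h2 hrodd hr0 hac ha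
    rcases Nat.lt_or_ge j n with hlt | hge
    · exact Or.inl ⟨j, hlt, a', c', hp'⟩
    obtain rfl : j = n := by omega
    have hcc' : ∀ v, c'.1 (c'.1 v) = v := fun v => by
      obtain ⟨u, rfl⟩ := e.surjective v
      have h3 : e.symm (c'.1 (c'.1 (e u))) = u := Subtype.ext (by
        have h4 := hcv (e.symm (c'.1 (e u)))
        rw [e.apply_symm_apply, hcv u, hcc] at h4
        exact h4)
      exact e.symm.injective (h3.trans (e.symm_apply_apply u).symm)
    obtain ⟨w, hwf, hQw, hws, hspan, hperp⟩ := line_sign h2 hr0 ha hac hjd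
    rcases small_or_sign h2 hr le_rfl hp' hcc' with h | h | h
    · exact Or.inl h
    · have hid : ∀ u ∈ movSub (g ^ 2).1, (g ^ r).1 u = u := fun u hu => by
        rw [← hcv ⟨u, hu⟩, h, e.symm_apply_apply]
      exfalso
      rcases hws with hw | hw
      · have : g ^ r = 1 := Subtype.ext (LinearEquiv.ext fun v => by
          obtain ⟨u, hu, s, rfl⟩ := hspan v
          rw [map_add, map_smul, hw, hid u hu]; rfl)
        rw [this, orderOf_one] at hc
        omega
      · obtain ⟨heven, -⟩ := spinor_of_mem hQ h2 hcΩ (fun _ : Unit => w) hcc (fun _ => hw)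
          (fun v hv => by
            obtain ⟨u, hu, s, rfl⟩ := hspan v
            rw [map_add, map_smul, hw, hid u hu, neg_add, smul_neg] at hv
            have hu0 : (2 : F) • u = 0 := by
              rw [two_smul]; exact eq_neg_iff_add_eq_zero.1 (add_right_cancel hv)
            rw [(smul_eq_zero.1 hu0).resolve_left h2, zero_add]
            exact Submodule.smul_mem _ _ (Submodule.subset_span ⟨(), rfl⟩))
          (by simp [Matrix.det_unique, polar_self_two, h2, hQw])
        simp at heven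
    · have hid : ∀ u ∈ movSub (g ^ 2).1, (g ^ r).1 u = -u := fun u hu => by
        rw [← hcv ⟨u, hu⟩, h, ← map_neg e, e.symm_apply_apply]; rfl
      rcases hws with hw | hw
      · exact critTwo_of_neg h2 hn hr hr2 hrp ha hac hcΩ hjd hid hspan hw
      · exfalso
        have hneg : ∀ v, (g ^ r).1 v = -v := fun v => by
          obtain ⟨u, hu, s, rfl⟩ := hspan v
          rw [map_add, map_smul, hw, hid u hu, neg_add, smul_neg]
        have hdet : (Matrix.of fun i k : Unit ⊕ (Fin j ⊕ Fin j) =>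
            polar (qfOdd j F) (Pi.single i 1) (Pi.single k 1)).det ≠ 0 := fun h0 => by
          obtain ⟨x, hx0, hx⟩ := Matrix.exists_mulVec_eq_zero_iff.2 h0
          refine hx0 (hQ x fun y => ?_)
          have hb : ∀ i, polar (qfOdd j F) x (Pi.single i 1) = 0 := fun i => by
            have h3 := congrFun hx i
            simp only [Matrix.mulVec, dotProduct, Matrix.of_apply, Pi.zero_apply] at h3
            rw [QuadraticMap.polar_comm, ← h3]
            conv_lhs => rw [← Finset.univ_sum_single x]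
            rw [← QuadraticMap.polarBilin_apply_apply, map_sum]
            refine Finset.sum_congr rfl fun k _ => ?_
            rw [show Pi.single k (x k) = x k • (Pi.single k (1 : F) : VO j) by
              rw [← Pi.single_smul, smul_eq_mul, mul_one], map_smul, smul_eq_mul, mul_comm,
              QuadraticMap.polarBilin_apply_apply]
          rw [← Finset.univ_sum_single y, ← QuadraticMap.polarBilin_apply_apply, map_sum]
          refine Finset.sum_eq_zero fun k _ => ?_
          rw [show Pi.single k (y k) = y k • (Pi.single k (1 : F) : VO j) by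
            rw [← Pi.single_smul, smul_eq_mul, mul_one], map_smul,
            QuadraticMap.polarBilin_apply_apply, hb, smul_zero]
        obtain ⟨heven, -⟩ := spinor_of_mem hQ h2 hcΩ
          (fun i : Unit ⊕ (Fin j ⊕ Fin j) => Pi.single i (1 : F)) hcc (fun i => hneg _)
          (fun v _ => by
            rw [← Finset.univ_sum_single v]
            refine Submodule.sum_mem _ fun i _ => ?_
            rw [show Pi.single i (v i) = v i • (Pi.single i (1 : F) : VO j) by
              rw [← Pi.single_smul, smul_eq_mul, mul_one]]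
            exact Submodule.smul_mem _ _ (Submodule.subset_span ⟨i, rfl⟩))
          hdet
        simp [parity_simps] at heven
  · intro h
    obtain ⟨a, t, ha, ht, ht2, hat⟩ : ∃ a t : quadIsoms (qfOdd n F),
        orderOf a = r ∧ InOmega t ∧ orderOf t = 2 ∧ Commute a t := by
      rcases h with ⟨j, hj, a, c, hpair⟩ | ⟨a, c, hpair, hc⟩
      · obtain ⟨Q₀, a', c', h0, ⟨ha, -, -⟩, -⟩ :=
          quad_of_symp (sympBilin j F) sympBilin_self sympBilin_sep hrodd hpair
        obtain ⟨φ, E, e, e', w, hE, he, he', hee, hw, hew, hew', hperp, hcomm⟩ :=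
          exists_small_orth h2 hj Q₀ h0
        let v := e + qfOdd n F w • e'
        have hQv : qfOdd n F v = qfOdd n F w := by
          show qfOdd n F (e + _ • e') = _
          rw [quad_map_add_smul, he, he', hee]; ring
        have hvw : polar (qfOdd n F) v w = 0 := by
          show polar (qfOdd n F) (e + _ • e') w = 0
          rw [QuadraticMap.polar_add_left, QuadraticMap.polar_smul_left, hew, hew', smul_zero,
            add_zero]
        obtain ⟨t, ht, ht2, htfix⟩ := exists_two_refl (qfOdd n F) hQ h2 (v := v) (w := w)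
          (hQv ▸ hw) hw hvw ⟨qfOdd n F w, by rw [hQv]⟩
        refine ⟨E a', t, by rw [orderOf_injective E hE, ha], ht, ht2,
          (hcomm t (fun u => htfix _ ?_ (hperp u).2.2) a').symm⟩
        show polar (qfOdd n F) (e + _ • e') (φ u) = 0
        rw [QuadraticMap.polar_add_left, QuadraticMap.polar_smul_left, (hperp u).1,
          (hperp u).2.1, smul_zero, add_zero]
      · obtain ⟨Q₀, a', c', h0, ⟨ha, -, hac⟩, -, hcv⟩ :=
          quad_of_symp (sympBilin n F) sympBilin_self sympBilin_sep hrodd hpair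
        obtain ⟨φ, hφ⟩ := exists_orthEmb h2 le_rfl Q₀ h0
        obtain ⟨E, hE, -⟩ := exists_quad_ext Q₀ h0 (qfOdd n F) φ hφ
        refine ⟨E a', E c' * E c', by rw [orderOf_injective E hE, ha], inOmega_sq hQ h2 _, ?_,
          (hac.map E).mul_right (hac.map E)⟩
        rw [← map_mul, orderOf_injective E hE]
        have hx : ∀ v, (c' * c').1 v = -v := fun v => by
          show c'.1 (c'.1 v) = -v
          rw [hcv, hcv, hc]
        refine orderOf_dvd_two (Subtype.ext (LinearEquiv.ext fun v => ?_)) fun h1 => ?_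
        · show (c' * c').1 ((c' * c').1 v) = v
          rw [hx, hx, neg_neg]
        · have h3 := congrFun ((hx (fun _ => 1)).symm.trans (by rw [h1]))
            (Sum.inl ⟨0, by omega⟩)
          simp only [Pi.neg_apply, OneMemClass.coe_one, LinearEquiv.coe_one, id_eq] at h3
          exact h2 (by linear_combination -h3)
    refine ⟨a * t, inOmega_mul (inOmega_odd hQ h2 (ha ▸ hrodd)) ht, ?_⟩
    rw [mul_comm 2 r]
    exact orderOf_commute_mul ha ht2 hr Nat.prime_two hr2 hat

end CfsgLib.KnownB.SpOrth
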