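import Mathlib
import Cfsg.Agent.Lib.Geom.WittSesq
import Cfsg.Agent.Lib.Geom.WittQuad
import Cfsg.Agent.Lib.Geom.Symp
import Cfsg.Agent.Lib.Geom.SympSpace
import Cfsg.Agent.Lib.Geom.SplitStab
import Cfsg.Agent.Lib.Geom.PSpInvol

/-!
Fixed-point-free isometries of odd order: symplectic and quadratic spaces with such an isometry
correspond to each other, centralisers included. Extension to larger spaces, and restriction to the
moved subspace.
-/

set_option autoImplicit false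
set_option linter.unusedSectionVars false

namespace CfsgLib.KnownB.SpOrth

open CfsgLib.Geom
open QuadraticMap (polar)

variable {F : Type*} [Field F] {V U : Type*} [AddCommGroup V] [Module F V] [AddCommGroup U]
  [Module F U]

/-- A fixed-point-free `a` of order `N` and an element `c` commuting with it. -/
def IsPair {G : Subgroup (V ≃ₗ[F] V)} (N : ℕ) (a c : G) : Prop :=
  orderOf a = N ∧ (∀ v : V, (a : V ≃ₗ[F] V) v = v → v = 0) ∧ Commute a c

theorem comm_apply {G : Subgroup (V ≃ₗ[F] V)} {a c : G} (h : Commute a c) (v : V) :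
    (a : V ≃ₗ[F] V) ((c : V ≃ₗ[F] V) v) = (c : V ≃ₗ[F] V) ((a : V ≃ₗ[F] V) v) :=
  DFunLike.congr_fun (congrArg Subtype.val h.eq) v

theorem inv_apply_self {G : Subgroup (V ≃ₗ[F] V)} (a : G) (v : V) :
    ((a⁻¹ : G) : V ≃ₗ[F] V) ((a : V ≃ₗ[F] V) v) = v := (a : V ≃ₗ[F] V).symm_apply_apply v

theorem apply_inv_self {G : Subgroup (V ≃ₗ[F] V)} (a : G) (v : V) :
    (a : V ≃ₗ[F] V) (((a⁻¹ : G) : V ≃ₗ[F] V) v) = v := (a : V ≃ₗ[F] V).apply_symm_apply v

theorem pow_apply {G : Subgroup (V ≃ₗ[F] V)} (a : G) (k : ℕ) (v : V) :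
    ((a ^ (k + 1) : G) : V ≃ₗ[F] V) v = ((a ^ k : G) : V ≃ₗ[F] V) ((a : V ≃ₗ[F] V) v) := by
  rw [pow_succ]; rfl

/-- An element of odd order fixing only zero has a square with the same property. -/
theorem fpf_sq {G : Subgroup (V ≃ₗ[F] V)} {a : G} (hodd : Odd (orderOf a))
    (hfix : ∀ v : V, (a : V ≃ₗ[F] V) v = v → v = 0) {v : V}
    (hv : (a : V ≃ₗ[F] V) ((a : V ≃ₗ[F] V) v) = v) : v = 0 := by
  obtain ⟨k, hk⟩ := hodd
  have h : ∀ j : ℕ, ((a ^ (2 * j) : G) : V ≃ₗ[F] V) v = v := by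
    intro j
    induction j with
    | zero => rfl
    | succ j ih => rw [show 2 * (j + 1) = 2 * j + 1 + 1 by ring, pow_apply, pow_apply, hv, ih]
  have h2 : ((a ^ (2 * k + 1) : G) : V ≃ₗ[F] V) v = v := by
    rw [← hk, pow_orderOf_eq_one]; rfl
  have h3 : (a : V ≃ₗ[F] V) v = v := by
    conv_rhs => rw [← h2]
    rw [pow_succ', Subgroup.coe_mul, LinearEquiv.mul_apply, h]
  exact hfix v h3

/-! ### From symplectic to quadratic -/

/-- The form `B (v, a v)`. -/
noncomputable def toQuad (B : V →ₗ[F] V →ₗ[F] F) (a : V ≃ₗ[F] V) : QuadraticForm F V :=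
  LinearMap.BilinMap.toQuadraticMap (B.compl₂ a.toLinearMap)

theorem toQuad_apply (B : V →ₗ[F] V →ₗ[F] F) (a : V ≃ₗ[F] V) (v : V) : toQuad B a v = B v (a v) :=
  rfl

theorem toQuad_sep (B : V →ₗ[F] V →ₗ[F] F) (hA : ∀ v, B v v = 0)
    (hB : ∀ x, (∀ y, B x y = 0) → x = 0) {a : formIsoms B} (hodd : Odd (orderOf a))
    (hfix : ∀ v : V, (a : V ≃ₗ[F] V) v = v → v = 0) (x : V)
    (hx : ∀ y, polar (toQuad B a.1) x y = 0) : x = 0 := by
  refine fpf_sq hodd hfix ?_
  have h3 : ∀ y, B (((a⁻¹ : formIsoms B) : V ≃ₗ[F] V) x - a.1 x) y = 0 := fun y => by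
    have h4 := hx y
    simp only [QuadraticMap.polar, toQuad_apply, map_add, LinearMap.add_apply] at h4
    have h5 : B x (a.1 y) = B (((a⁻¹ : formIsoms B) : V ≃ₗ[F] V) x) y := by
      rw [← a.2 (((a⁻¹ : formIsoms B) : V ≃ₗ[F] V) x) y, apply_inv_self]
    rw [map_sub, LinearMap.sub_apply, ← h5, alt_swap B hA y (a.1 x)]
    linear_combination h4
  have h6 := sub_eq_zero.1 (hB _ h3)
  rw [← h6, apply_inv_self]

theorem mem_toQuad {B : V →ₗ[F] V →ₗ[F] F} {a c : formIsoms B} (h : Commute a c) :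
    c.1 ∈ quadIsoms (toQuad B a.1) := fun v => by
  rw [toQuad_apply, toQuad_apply, comm_apply h, c.2]

/-- The centraliser of `a` in the isometry group of `B` acts on `toQuad B a`. -/
def centHom (B : V →ₗ[F] V →ₗ[F] F) (a : formIsoms B) :
    Subgroup.centralizer ({a} : Set (formIsoms B)) →* quadIsoms (toQuad B a.1) where
  toFun c := ⟨c.1.1, mem_toQuad (Subgroup.mem_centralizer_singleton_iff.1 c.2).symm⟩
  map_one' := rfl
  map_mul' _ _ := rfl

theorem centHom_injective (B : V →ₗ[F] V →ₗ[F] F) (a : formIsoms B) :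
    Function.Injective (centHom B a) := fun c d h =>
  Subtype.ext (Subtype.ext (congrArg (Subtype.val : quadIsoms (toQuad B a.1) → V ≃ₗ[F] V) h))

theorem quad_of_symp (B : V →ₗ[F] V →ₗ[F] F) (hA : ∀ v, B v v = 0)
    (hB : ∀ x, (∀ y, B x y = 0) → x = 0) {N : ℕ} (hN : Odd N) {a c : formIsoms B}
    (h : IsPair N a c) :
    ∃ (Q : QuadraticForm F V) (a' c' : quadIsoms Q), (∀ x, (∀ y, polar Q x y = 0) → x = 0) ∧
      IsPair N a' c' ∧ orderOf c' = orderOf c ∧ ∀ v, c'.1 v = c.1 v := by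
  obtain ⟨ho, hfix, hac⟩ := h
  let a₀ : Subgroup.centralizer ({a} : Set (formIsoms B)) :=
    ⟨a, Subgroup.mem_centralizer_singleton_iff.2 rfl⟩
  let c₀ : Subgroup.centralizer ({a} : Set (formIsoms B)) :=
    ⟨c, Subgroup.mem_centralizer_singleton_iff.2 hac.eq.symm⟩
  refine ⟨toQuad B a.1, centHom B a a₀, centHom B a c₀, toQuad_sep B hA hB (ho ▸ hN) hfix,
    ⟨?_, hfix, ?_⟩, ?_, fun v => rfl⟩
  · rw [orderOf_injective _ (centHom_injective B a), ← Subgroup.orderOf_coe, ho]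
  · exact Commute.map (Subtype.ext hac.eq : Commute a₀ c₀) (centHom B a)
  · rw [orderOf_injective _ (centHom_injective B a), ← Subgroup.orderOf_coe]

/-! ### From quadratic to symplectic -/

/-- The form `polar (a u - a⁻¹ u, v)`. -/
noncomputable def toAlt (Q : QuadraticForm F V) (a : V ≃ₗ[F] V) : V →ₗ[F] V →ₗ[F] F :=
  Q.polarBilin.comp (a.toLinearMap - a.symm.toLinearMap)

theorem toAlt_apply (Q : QuadraticForm F V) (a : V ≃ₗ[F] V) (u v : V) :
    toAlt Q a u v = polar Q (a u - a.symm u) v := rfl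

theorem toAlt_self (Q : QuadraticForm F V) (a : quadIsoms Q) (v : V) : toAlt Q a.1 v v = 0 := by
  rw [toAlt_apply, QuadraticMap.polar_sub_left,
    ← polar_quadIsom a.2 (a.1.symm v) v, LinearEquiv.apply_symm_apply,
    QuadraticMap.polar_comm _ v (a.1 v), sub_self]

theorem toAlt_sep (Q : QuadraticForm F V) (hQ : ∀ x, (∀ y, polar Q x y = 0) → x = 0)
    {a : quadIsoms Q} (hodd : Odd (orderOf a))
    (hfix : ∀ v : V, (a : V ≃ₗ[F] V) v = v → v = 0) (x : V)
    (hx : ∀ y, toAlt Q a.1 x y = 0) : x = 0 := by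
  refine fpf_sq hodd hfix ?_
  have h : a.1 x = a.1.symm x := sub_eq_zero.1 (hQ _ hx)
  rw [h]
  exact a.1.apply_symm_apply x

theorem mem_toAlt {Q : QuadraticForm F V} {a c : quadIsoms Q} (h : Commute a c) :
    c.1 ∈ formIsoms (toAlt Q a.1) := fun u v => by
  have h1 : a.1.symm (c.1 u) = c.1 (a.1.symm u) := comm_apply h.inv_left u
  rw [toAlt_apply, toAlt_apply, comm_apply h, h1, ← map_sub, polar_quadIsom c.2]

/-- The centraliser of `a` in the isometry group of `Q` acts on `toAlt Q a`. -/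
def centHom' (Q : QuadraticForm F V) (a : quadIsoms Q) :
    Subgroup.centralizer ({a} : Set (quadIsoms Q)) →* formIsoms (toAlt Q a.1) where
  toFun c := ⟨c.1.1, mem_toAlt (Subgroup.mem_centralizer_singleton_iff.1 c.2).symm⟩
  map_one' := rfl
  map_mul' _ _ := rfl

theorem centHom'_injective (Q : QuadraticForm F V) (a : quadIsoms Q) :
    Function.Injective (centHom' Q a) := fun c d h =>
  Subtype.ext (Subtype.ext (congrArg (Subtype.val : formIsoms (toAlt Q a.1) → V ≃ₗ[F] V) h))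

theorem symp_of_quad (Q : QuadraticForm F V) (hQ : ∀ x, (∀ y, polar Q x y = 0) → x = 0) {N : ℕ}
    (hN : Odd N) {a c : quadIsoms Q} (h : IsPair N a c) :
    ∃ (B : V →ₗ[F] V →ₗ[F] F) (a' c' : formIsoms B), (∀ v, B v v = 0) ∧
      (∀ x, (∀ y, B x y = 0) → x = 0) ∧ IsPair N a' c' ∧ orderOf c' = orderOf c ∧
      ∀ v, c'.1 v = c.1 v := by
  obtain ⟨ho, hfix, hac⟩ := h
  let a₀ : Subgroup.centralizer ({a} : Set (quadIsoms Q)) :=
    ⟨a, Subgroup.mem_centralizer_singleton_iff.2 rfl⟩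
  let c₀ : Subgroup.centralizer ({a} : Set (quadIsoms Q)) :=
    ⟨c, Subgroup.mem_centralizer_singleton_iff.2 hac.eq.symm⟩
  refine ⟨toAlt Q a.1, centHom' Q a a₀, centHom' Q a c₀, toAlt_self Q a,
    toAlt_sep Q hQ (ho ▸ hN) hfix, ⟨?_, hfix, ?_⟩, ?_, fun v => rfl⟩
  · rw [orderOf_injective _ (centHom'_injective Q a), ← Subgroup.orderOf_coe, ho]
  · exact Commute.map (Subtype.ext hac.eq : Commute a₀ c₀) (centHom' Q a)
  · rw [orderOf_injective _ (centHom'_injective Q a), ← Subgroup.orderOf_coe]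

/-! ### Extension -/

section Ext

variable (φ : U →ₗ[F] V) (π : V →ₗ[F] U) (hπ : ∀ u, π (φ u) = u)

/-- The linear map acting as `a` on the image and trivially on the kernel. -/
def extLin (a : U ≃ₗ[F] U) : V →ₗ[F] V :=
  LinearMap.id + φ ∘ₗ (a.toLinearMap - LinearMap.id) ∘ₗ π

theorem extLin_apply (a : U ≃ₗ[F] U) (v : V) : extLin φ π a v = v + φ (a (π v) - π v) := rfl

include hπ in
theorem extLin_mul (a b : U ≃ₗ[F] U) (v : V) :
    extLin φ π a (extLin φ π b v) = extLin φ π (a * b) v := by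
  simp only [extLin_apply, map_add, hπ, LinearEquiv.mul_apply, map_sub]
  abel

theorem extLin_one (v : V) : extLin φ π 1 v = v := by simp [extLin_apply]

/-- Extension of automorphisms. -/
noncomputable def extHom : (U ≃ₗ[F] U) →* (V ≃ₗ[F] V) where
  toFun a := LinearEquiv.ofLinearMap (extLin φ π a) (extLin φ π a⁻¹)
    (LinearMap.ext fun v => by
      rw [LinearMap.comp_apply, extLin_mul φ π hπ, mul_inv_cancel, extLin_one, LinearMap.id_apply])
    (LinearMap.ext fun v => by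
      rw [LinearMap.comp_apply, extLin_mul φ π hπ, inv_mul_cancel, extLin_one, LinearMap.id_apply])
  map_one' := LinearEquiv.ext fun v => extLin_one φ π v
  map_mul' a b := LinearEquiv.ext fun v => (extLin_mul φ π hπ a b v).symm

theorem extHom_apply (a : U ≃ₗ[F] U) (v : V) :
    extHom φ π hπ a v = v + φ (a (π v) - π v) := rfl

theorem extHom_image (a : U ≃ₗ[F] U) (u : U) : extHom φ π hπ a (φ u) = φ (a u) := by
  rw [extHom_apply, hπ, map_sub, add_sub_cancel]

theorem extHom_injective : Function.Injective (extHom φ π hπ) := fun a b h =>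
  LinearEquiv.ext fun u => by
    have := congrArg π (DFunLike.congr_fun h (φ u))
    rwa [extHom_image, extHom_image, hπ, hπ] at this

theorem extHom_commute {a : U ≃ₗ[F] U} {g : V ≃ₗ[F] V} (h1 : ∀ u, g (φ u) = φ u)
    (h2 : ∀ v, π (g v) = π v) : Commute g (extHom φ π hπ a) :=
  LinearEquiv.ext fun v => by
    show g (extHom φ π hπ a v) = extHom φ π hπ a (g v)
    rw [extHom_apply, extHom_apply, map_add, h1, h2]

end Ext

/-- A projection along the orthogonal complement. -/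
theorem exists_proj [FiniteDimensional F U] (β₀ : U →ₗ[F] U →ₗ[F] F)
    (h0 : ∀ x, (∀ y, β₀ x y = 0) → x = 0) (β : V →ₗ[F] V →ₗ[F] F) (φ : U →ₗ[F] V)
    (hφ : ∀ x y, β (φ x) (φ y) = β₀ x y) :
    ∃ π : V →ₗ[F] U, (∀ v u, β v (φ u) = β₀ (π v) u) ∧ ∀ u, π (φ u) = u := by
  let d : U ≃ₗ[F] Module.Dual F U := LinearEquiv.ofInjectiveOfFinrankEq β₀
    ((injective_iff_map_eq_zero _).2 fun x hx => h0 x fun y => LinearMap.congr_fun hx y)
    Subspace.dual_finrank_eq.symm
  let π : V →ₗ[F] U := d.symm.toLinearMap ∘ₗ (β.compl₂ φ)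
  have h1 : ∀ v u, β v (φ u) = β₀ (π v) u := fun v u =>
    (LinearMap.congr_fun (d.apply_symm_apply (β.compl₂ φ v)) u).symm
  refine ⟨π, h1, fun u => sub_eq_zero.1 (h0 _ fun y => ?_)⟩
  rw [map_sub, LinearMap.sub_apply, ← h1, hφ, sub_self]

/-- Data for a symplectic extension. -/
theorem exists_symp_ext [FiniteDimensional F U] (B₀ : U →ₗ[F] U →ₗ[F] F) (hA₀ : ∀ v, B₀ v v = 0)
    (h0 : ∀ x, (∀ y, B₀ x y = 0) → x = 0) (B : V →ₗ[F] V →ₗ[F] F) (hA : ∀ v, B v v = 0)
    (φ : U →ₗ[F] V) (hφ : ∀ x y, B (φ x) (φ y) = B₀ x y) :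
    ∃ E : formIsoms B₀ →* formIsoms B, Function.Injective E ∧
      (∀ a u, (E a).1 (φ u) = φ (a.1 u)) ∧
      (∀ a v, (∀ u, B (φ u) v = 0) → (E a).1 v = v) ∧
      ∀ (g : formIsoms B), (∀ u, g.1 (φ u) = φ u) → ∀ a, Commute g (E a) := by
  obtain ⟨π, hπB, hπ⟩ := exists_proj B₀ h0 B φ hφ
  have hswap : ∀ u v, B (φ u) v = B₀ u (π v) := fun u v => by
    rw [alt_swap B hA v (φ u), hπB, ← alt_swap B₀ hA₀]
  let E₀ := (extHom φ π hπ).comp (formIsoms B₀).subtype
  have hmem : ∀ a, E₀ a ∈ formIsoms B := fun a x y => by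
    show B (extHom φ π hπ a.1 x) (extHom φ π hπ a.1 y) = B x y
    simp only [extHom_apply, map_add, LinearMap.add_apply, hπB, hφ, hswap]
    simp only [map_sub, LinearMap.sub_apply, hπ, a.2 (π x) (π y)]
    ring
  refine ⟨E₀.codRestrict (formIsoms B) hmem, fun a b h => ?_, fun a u => extHom_image φ π hπ a.1 u,
    fun a v hv => ?_, fun g hg a => ?_⟩
  · exact Subtype.ext (extHom_injective φ π hπ (congrArg Subtype.val h))
  · show extHom φ π hπ a.1 v = v
    have : π v = 0 := h0 _ fun u => by rw [← hπB, alt_swap B hA (φ u) v, hv, neg_zero]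
    rw [extHom_apply, this, map_zero, sub_zero, map_zero, add_zero]
  · refine Subtype.ext (extHom_commute φ π hπ hg fun v => sub_eq_zero.1 (h0 _ fun u => ?_)).eq
    rw [map_sub, LinearMap.sub_apply, ← hπB, ← hπB, sub_eq_zero]
    conv_lhs => rw [← hg u]
    exact g.2 v (φ u)

/-- Data for an orthogonal extension. -/
theorem exists_quad_ext [FiniteDimensional F U] (Q₀ : QuadraticForm F U)
    (h0 : ∀ x, (∀ y, polar Q₀ x y = 0) → x = 0) (Q : QuadraticForm F V) (φ : U →ₗ[F] V)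
    (hφ : ∀ x, Q (φ x) = Q₀ x) :
    ∃ E : quadIsoms Q₀ →* quadIsoms Q, Function.Injective E ∧
      (∀ a u, (E a).1 (φ u) = φ (a.1 u)) ∧
      (∀ a v, (∀ u, polar Q (φ u) v = 0) → (E a).1 v = v) ∧
      ∀ (g : quadIsoms Q), (∀ u, g.1 (φ u) = φ u) → ∀ a, Commute g (E a) := by
  have hp : ∀ x y, polar Q (φ x) (φ y) = polar Q₀ x y := fun x y => by
    simp only [QuadraticMap.polar, ← map_add, hφ]
  obtain ⟨π, hπB, hπ⟩ := exists_proj Q₀.polarBilin h0 Q.polarBilin φ hp
  simp only [QuadraticMap.polarBilin_apply_apply] at hπB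
  let E₀ := (extHom φ π hπ).comp (quadIsoms Q₀).subtype
  have hmem : ∀ a, E₀ a ∈ quadIsoms Q := fun a x => by
    show Q (extHom φ π hπ a.1 x) = Q x
    rw [extHom_apply, QuadraticMap.map_add Q, hπB, hφ]
    have h1 := QuadraticMap.map_add Q₀ (π x) (a.1 (π x) - π x)
    rw [add_sub_cancel, a.2] at h1
    linear_combination -h1
  refine ⟨E₀.codRestrict (quadIsoms Q) hmem, fun a b h => ?_, fun a u => extHom_image φ π hπ a.1 u,
    fun a v hv => ?_, fun g hg a => ?_⟩
  · exact Subtype.ext (extHom_injective φ π hπ (congrArg Subtype.val h))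
  · show extHom φ π hπ a.1 v = v
    have : π v = 0 := h0 _ fun u => by rw [← hπB, QuadraticMap.polar_comm, hv]
    rw [extHom_apply, this, map_zero, sub_zero, map_zero, add_zero]
  · refine Subtype.ext (extHom_commute φ π hπ hg fun v => sub_eq_zero.1 (h0 _ fun u => ?_)).eq
    rw [QuadraticMap.polar_sub_left, ← hπB, ← hπB, sub_eq_zero]
    conv_lhs => rw [← hg u]
    exact polar_quadIsom g.2 v (φ u)

/-! ### Restriction -/

/-- The vectors fixed by `a`. -/
noncomputable def fixSub (a : V ≃ₗ[F] V) : Submodule F V :=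
  LinearMap.ker (a.toLinearMap - LinearMap.id)

/-- The subspace moved by `a`. -/
noncomputable def movSub (a : V ≃ₗ[F] V) : Submodule F V :=
  LinearMap.range (a.toLinearMap - LinearMap.id)

theorem mem_fixSub {a : V ≃ₗ[F] V} {v : V} : v ∈ fixSub a ↔ a v = v := by
  simp [fixSub, LinearMap.mem_ker, sub_eq_zero]

theorem isCompl_fix_mov [FiniteDimensional F V] (a : V ≃ₗ[F] V) {N : ℕ} (hN : a ^ N = 1)
    (h0 : (N : F) ≠ 0) : IsCompl (fixSub a) (movSub a) := by
  have hdis : Disjoint (fixSub a) (movSub a) := by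
    rw [Submodule.disjoint_def]
    rintro x hx ⟨y, rfl⟩
    rw [mem_fixSub] at hx
    simp only [LinearMap.sub_apply, LinearEquiv.coe_coe, LinearMap.id_apply] at hx ⊢
    have h : ∀ j : ℕ, (a ^ j) y = y + (j : F) • (a y - y) := by
      intro j
      induction j with
      | zero => simp
      | succ j ih =>
        rw [pow_succ', LinearEquiv.mul_apply, ih, map_add, map_smul, hx, Nat.cast_succ, add_smul,
          one_smul]
        abel
    have h1 := h N
    rw [hN, LinearEquiv.coe_one, id_eq] at h1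
    exact (smul_eq_zero.1 (add_eq_left.1 h1.symm)).resolve_left h0
  refine ⟨hdis, codisjoint_iff.2 (Submodule.eq_top_of_finrank_eq ?_)⟩
  have h1 := Submodule.finrank_sup_add_finrank_inf_eq (fixSub a) (movSub a)
  rw [hdis.eq_bot, finrank_bot, add_zero] at h1
  rw [h1]
  exact (add_comm _ _).trans (LinearMap.finrank_range_add_finrank_ker (a.toLinearMap - LinearMap.id))

theorem mov_invariant {G : Subgroup (V ≃ₗ[F] V)} {a c : G} (h : Commute a c) {v : V}
    (hv : v ∈ movSub (a : V ≃ₗ[F] V)) : c.1 v ∈ movSub (a : V ≃ₗ[F] V) := by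
  obtain ⟨y, rfl⟩ := hv
  refine ⟨c.1 y, ?_⟩
  simp only [LinearMap.sub_apply, LinearEquiv.coe_coe, LinearMap.id_apply, map_sub,
    comm_apply h]

/-- Restriction to an invariant subspace. -/
noncomputable def resEquiv (W : Submodule F V) {G : Subgroup (V ≃ₗ[F] V)} (c : G)
    (h1 : ∀ v ∈ W, c.1 v ∈ W) (h2 : ∀ v ∈ W, (c⁻¹ : G).1 v ∈ W) : W ≃ₗ[F] W :=
  LinearEquiv.ofLinearMap (c.1.toLinearMap.restrict h1) ((c⁻¹ : G).1.toLinearMap.restrict h2)
    (LinearMap.ext fun v => Subtype.ext (apply_inv_self c v.1))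
    (LinearMap.ext fun v => Subtype.ext (inv_apply_self c v.1))

/-- The elements leaving the moved subspace invariant, restricted to it. -/
noncomputable def resHom {G : Subgroup (V ≃ₗ[F] V)} (a : G) :
    Subgroup.centralizer ({a} : Set G) →* (movSub a.1 ≃ₗ[F] movSub a.1) where
  toFun c := resEquiv (movSub a.1) c.1
    (fun _ hv => mov_invariant (Subgroup.mem_centralizer_singleton_iff.1 c.2).symm hv)
    (fun _ hv => mov_invariant
      (Commute.inv_right (show Commute a c.1 from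
        (Subgroup.mem_centralizer_singleton_iff.1 c.2).symm)) hv)
  map_one' := rfl
  map_mul' _ _ := rfl

theorem resHom_apply {G : Subgroup (V ≃ₗ[F] V)} (a : G)
    (c : Subgroup.centralizer ({a} : Set G)) (v : movSub a.1) :
    (resHom a c v : V) = c.1.1 v.1 := rfl

end CfsgLib.KnownB.SpOrth
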