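import Cfsg.Agent.Lib.KnownB.SpOrthModel
import Cfsg.Agent.Lib.KnownB.PSpAdjacent

/-!
Element orders `r s` of `PSp_2n(q)`, `q` odd, in terms of fixed-point-free pairs.
-/

set_option autoImplicit false

namespace CfsgLib.KnownB.SpOrth

open CfsgLib.Geom

/-- Fixed-point-free elements of order `N` in dimension at most `2n`. -/
def CritOdd (F : Type*) [Field F] (n N : ℕ) : Prop :=
  ∃ j, j ≤ n ∧ ∃ a c : formIsoms (sympBilin j F), IsPair N a c

/-- Fixed-point-free elements of order `r` in dimension below `2n`. -/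
def CritSmall (F : Type*) [Field F] (n r : ℕ) : Prop :=
  ∃ j, j < n ∧ ∃ a c : formIsoms (sympBilin j F), IsPair r a c

/-- Criterion for an element of order `r p`. -/
def CritChar (F : Type*) [Field F] (n r p : ℕ) : Prop :=
  CritSmall F n r ∨
    ∃ j, j ≤ n ∧ ∃ a c : formIsoms (sympBilin j F), IsPair r a c ∧ orderOf c = p

/-- Criterion for an element of order `2 r`. -/
def CritTwo (F : Type*) [Field F] (n r : ℕ) : Prop :=
  CritSmall F n r ∨
    ∃ a c : formIsoms (sympBilin n F), IsPair r a c ∧ ∀ v, c.1 (c.1 v) = -v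

variable {F : Type*} [Field F] {n : ℕ}

local notation "V2" n => (Fin n ⊕ Fin n → F)

/-- The projection to `PSp`. -/
noncomputable def proj (n : ℕ) (F : Type*) [Field F] :
    formIsoms (sympBilin n F) →* Cfsg.PSp n F :=
  (QuotientGroup.mk' (Subgroup.center (Matrix.symplecticGroup (Fin n) F))).comp
    (spEquiv n F).toMonoidHom

theorem proj_surjective : Function.Surjective (proj n F) := fun x => by
  obtain ⟨g, rfl⟩ := QuotientGroup.mk'_surjective _ x
  obtain ⟨h, rfl⟩ := (spEquiv n F).surjective g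
  exact ⟨h, rfl⟩

theorem orderOf_spEquiv (g : formIsoms (sympBilin n F)) : orderOf (spEquiv n F g) = orderOf g :=
  orderOf_injective (spEquiv n F).toMonoidHom (spEquiv n F).injective g

theorem sign_of_proj (hn : 1 ≤ n) {g : formIsoms (sympBilin n F)} (h : proj n F g = 1) :
    (∀ v, g.1 v = v) ∨ ∀ v, g.1 v = -v := by
  have h1 : spEquiv n F g ∈ Subgroup.center _ := (QuotientGroup.eq_one_iff _).1 h
  rcases spLin_center hn h1 with hv | hv
  · exact Or.inl fun v => by rw [← spEquiv_mulVec, ← spLin_apply, hv]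
  · exact Or.inr fun v => by rw [← spEquiv_mulVec, ← spLin_apply, hv]

theorem proj_order_odd [Fintype F] (hn : 1 ≤ n) {g : formIsoms (sympBilin n F)}
    (h : Odd (orderOf g)) : orderOf (proj n F g) = orderOf g := by
  have he : orderOf (spEquiv n F g) = orderOf g := orderOf_spEquiv g
  exact (PSpAdjacent.orderOf_mk hn (Or.inl (he.symm ▸ h))).trans he

/-- The negative of an isometry. -/
noncomputable def negIsom {V : Type*} [AddCommGroup V] [Module F V]
    (B : V →ₗ[F] V →ₗ[F] F) : formIsoms B :=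
  ⟨LinearEquiv.neg F, fun u v => by simp⟩

theorem negIsom_apply {V : Type*} [AddCommGroup V] [Module F V] (B : V →ₗ[F] V →ₗ[F] F) (v : V) :
    (negIsom B).1 v = -v := rfl

theorem orderOf_dvd_two {G : Type*} [Group G] {x : G} (hx : x * x = 1) (h1 : x ≠ 1) :
    orderOf x = 2 := orderOf_eq_prime (by rw [sq, hx]) h1

theorem orderOf_commute_mul {G : Type*} [Group G] {x y : G} {r s : ℕ} (hx : orderOf x = r)
    (hy : orderOf y = s) (hr : r.Prime) (hs : s.Prime) (hrs : r ≠ s) (h : Commute x y) :
    orderOf (x * y) = r * s := by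
  rw [h.orderOf_mul_eq_mul_orderOf_of_coprime, hx, hy]
  rw [hx, hy]
  exact (Nat.coprime_primes hr hs).2 hrs

theorem orderOf_split {G : Type*} [Group G] {g : G} {r s : ℕ} (hg : orderOf g = r * s) (hr : 0 < r)
    (hs : 0 < s) : orderOf (g ^ s) = r ∧ orderOf (g ^ r) = s ∧ Commute (g ^ s) (g ^ r) := by
  refine ⟨?_, ?_, Commute.pow_pow_self g s r⟩
  · rw [orderOf_pow' g hs.ne', hg, Nat.gcd_mul_left_left, Nat.mul_div_cancel r hs]
  · rw [orderOf_pow' g hr.ne', hg, Nat.gcd_mul_right_left, Nat.mul_div_cancel_left s hr]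

variable [Fintype F]

/-- An element of odd semisimple order. -/
theorem sp_odd_iff (hn : 1 ≤ n) {N : ℕ} (hN : Odd N) (hN0 : (N : F) ≠ 0) :
    N ∈ Set.range (orderOf : Cfsg.PSp n F → ℕ) ↔ CritOdd F n N := by
  rw [PSpAdjacent.range_iff hn (Or.inl hN)]
  constructor
  · rintro ⟨g, hg⟩
    obtain ⟨h, rfl⟩ := (spEquiv n F).surjective g
    rw [orderOf_spEquiv] at hg
    obtain ⟨B', a', c', hB', hsep, hp, -⟩ :=
      symp_res (sympBilin n F) sympBilin_sep (Commute.refl h) hg hN0
    obtain ⟨j, e, a'', c'', hj, hp', -⟩ :=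
      std_of_symp B' (fun v => by rw [hB']; exact sympBilin_self _) hsep hp
    refine ⟨j, ?_, a'', c'', hp'⟩
    have := Submodule.finrank_le (movSub h.1)
    rw [hj, Module.finrank_fintype_fun_eq_card] at this
    simp at this
    omega
  · rintro ⟨j, hj, a, c, ha, -⟩
    obtain ⟨φ, hφ, -⟩ := exists_sympEmb (F := F) hj
    obtain ⟨E, hE, -⟩ := exists_symp_ext (sympBilin j F) sympBilin_self sympBilin_sep
      (sympBilin n F) sympBilin_self φ hφ
    exact ⟨spEquiv n F (E a), by
      rw [orderOf_spEquiv,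
        orderOf_injective E hE, ha]⟩

/-- Data on the complement of a model in smaller dimension. -/
theorem exists_small {r : ℕ} {j : ℕ} (hj : j < n) {a : formIsoms (sympBilin j F)}
    (ha : orderOf a = r) :
    ∃ (φ : (V2 j) →ₗ[F] (V2 n)) (E : formIsoms (sympBilin j F) →* formIsoms (sympBilin n F))
      (p₀ : V2 n), orderOf (E a) = r ∧ Function.Injective φ ∧ p₀ ≠ 0 ∧ (∀ u, sympBilin n F (φ u) p₀ = 0) ∧
      (∀ b u, (E b).1 (φ u) = φ (b.1 u)) ∧ (∀ b, (E b).1 p₀ = p₀) ∧
      ∀ g : formIsoms (sympBilin n F), (∀ u, g.1 (φ u) = φ u) → ∀ b, Commute g (E b) := by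
  obtain ⟨φ, hφ, hz⟩ := exists_sympEmb (F := F) hj.le
  obtain ⟨E, hE, hE1, hE2, hE3⟩ := exists_symp_ext (sympBilin j F) sympBilin_self sympBilin_sep
    (sympBilin n F) sympBilin_self φ hφ
  have hperp : ∀ u, sympBilin n F (φ u) (Pi.single (.inl (⟨j, hj⟩ : Fin n)) 1) = 0 :=
    fun u => embed_vec φ hz le_rfl u
  exact ⟨φ, E, _, by rw [orderOf_injective E hE, ha], (injective_iff_map_eq_zero φ).2 fun x hx =>
    sympBilin_sep x fun y => by rw [← hφ, hx, map_zero, LinearMap.zero_apply], fun h => (one_ne_zero : (1 : F) ≠ 0) (by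
    simpa using congrFun h (.inl ⟨j, hj⟩)), hperp, hE1, fun b => hE2 b _ hperp, hE3⟩

/-- A transvection of order `p`. -/
theorem exists_transvection {p : ℕ} [Fact p.Prime] [CharP F p] {p₀ : V2 n} (h0 : p₀ ≠ 0) :
    ∃ T : formIsoms (sympBilin n F), orderOf T = p ∧
      ∀ v, sympBilin n F v p₀ = 0 → T.1 v = v := by
  obtain ⟨T, hT, hTv⟩ := exists_mem_formIsoms (sympBilin n F) sympBilin_sep
    (altTransvection (sympBilin n F) p₀ 1) (altTransvection_preserves _ sympBilin_self p₀ 1)
  have happ : ∀ v, T v = v + sympBilin n F v p₀ • p₀ := fun v => by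
    rw [hTv, altTransvection_apply, one_mul]
  let T' : formIsoms (sympBilin n F) := ⟨T, hT⟩
  have hpow : ∀ (k : ℕ) v, (T' ^ k).1 v = v + ((k : F) * sympBilin n F v p₀) • p₀ := by
    intro k
    induction k with
    | zero => intro v; simp
    | succ k ih =>
      intro v
      rw [pow_apply, ih, show T'.1 v = T v from rfl, happ, map_add, map_smul, LinearMap.add_apply,
        LinearMap.smul_apply, sympBilin_self, smul_zero, add_zero, Nat.cast_succ, add_mul, one_mul,
        add_smul]
      abel
  refine ⟨T', orderOf_eq_prime (Subtype.ext (LinearEquiv.ext fun v => ?_)) fun e => ?_,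
    fun v hv => ?_⟩
  · rw [hpow, CharP.cast_eq_zero, zero_mul, zero_smul, add_zero]; rfl
  · obtain ⟨w, hw⟩ : ∃ w, sympBilin n F w p₀ ≠ 0 := by
      by_contra h
      push Not at h
      exact h0 (sympBilin_sep p₀ fun y => by rw [sympBilin_swap, h, neg_zero])
    have h1 : T w = w := DFunLike.congr_fun (congrArg Subtype.val e) w
    rw [happ] at h1
    exact (smul_eq_zero.1 (add_eq_left.1 h1)).elim hw h0
  · show T v = v
    rw [happ, hv, zero_smul, add_zero]

theorem natCast_ne_zero_of_prime {p : ℕ} [Fact p.Prime] [CharP F p] {r : ℕ} (hr : r.Prime)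
    (hrp : r ≠ p) : (r : F) ≠ 0 := PSLAdjacent.natCast_ne_zero hr hrp

/-- An odd prime with the characteristic. -/
theorem sp_char_iff (hn : 1 ≤ n) {p r : ℕ} [hp : Fact p.Prime] [CharP F p] (hp2 : p ≠ 2)
    (hr : r.Prime) (hr2 : r ≠ 2) (hrp : r ≠ p) :
    r * p ∈ Set.range (orderOf : Cfsg.PSp n F → ℕ) ↔ CritChar F n r p := by
  have hodd : Odd (r * p) := (hr.odd_of_ne_two hr2).mul (hp.out.odd_of_ne_two hp2)
  rw [PSpAdjacent.range_iff hn (Or.inl hodd)]
  constructor
  · rintro ⟨g, hg⟩
    obtain ⟨h, rfl⟩ := (spEquiv n F).surjective g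
    rw [orderOf_spEquiv] at hg
    obtain ⟨ha, hc, hac⟩ := orderOf_split hg hr.pos hp.out.pos
    have hr0 := natCast_ne_zero_of_prime (F := F) hr hrp
    obtain ⟨B', a', c', hB', hsep, hp', hcv, hcd⟩ :=
      symp_res (sympBilin n F) sympBilin_sep hac ha hr0
    obtain ⟨j, e, a'', c'', hj, hp'', hord, -⟩ :=
      std_of_symp B' (fun v => by rw [hB']; exact sympBilin_self _) hsep hp'
    have hle := Submodule.finrank_le (movSub (h ^ p).1)
    rw [hj, Module.finrank_fintype_fun_eq_card] at hle
    simp at hle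
    rw [hc] at hcd
    rcases (Nat.dvd_prime hp.out).1 hcd with h1 | h1
    · refine Or.inl ⟨j, ?_, a'', c'', hp''⟩
      by_contra hlt
      have htop : movSub (h ^ p).1 = ⊤ := Submodule.eq_top_of_finrank_eq (by
        rw [hj, Module.finrank_fintype_fun_eq_card]; simp; omega)
      have : h ^ r = 1 := Subtype.ext (LinearEquiv.ext fun v => by
        have h2 := hcv ⟨v, htop.ge trivial⟩
        rw [orderOf_eq_one_iff.1 h1] at h2
        exact h2.symm)
      rw [this, orderOf_one] at hc
      exact hp.out.one_lt.ne hc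
    · exact Or.inr ⟨j, by omega, a'', c'', hp'', hord.trans h1⟩
  · rintro (⟨j, hj, a, c, ha, -, -⟩ | ⟨j, hj, a, c, ⟨ha, -, hac⟩, hc⟩)
    · obtain ⟨φ, E, p₀, hEa, -, hp0, hperp, -, -, hcomm⟩ := exists_small hj ha
      obtain ⟨T, hT, hfix⟩ := exists_transvection (p := p) hp0
      exact ⟨spEquiv n F (E a * T), by
        rw [orderOf_spEquiv]
        exact orderOf_commute_mul hEa hT hr hp.out hrp
          (hcomm T (fun u => hfix _ (hperp u)) a).symm⟩
    · obtain ⟨φ, hφ, -⟩ := exists_sympEmb (F := F) hj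
      obtain ⟨E, hE, -⟩ := exists_symp_ext (sympBilin j F) sympBilin_self sympBilin_sep
        (sympBilin n F) sympBilin_self φ hφ
      exact ⟨spEquiv n F (E a * E c), by
        rw [orderOf_spEquiv]
        exact orderOf_commute_mul (by rw [orderOf_injective E hE, ha])
          (by rw [orderOf_injective E hE, hc]) hr hp.out hrp (hac.map E)⟩

/-- An involution of a model in top dimension gives a smaller model or a sign. -/
theorem small_or_sign (h2 : (2 : F) ≠ 0) {r j : ℕ} (hr : r.Prime) (hj : j ≤ n)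
    {a c : formIsoms (sympBilin j F)} (h : IsPair r a c) (hc : ∀ v, c.1 (c.1 v) = v) :
    CritSmall F n r ∨ (∀ v, c.1 v = v) ∨ ∀ v, c.1 v = -v := by
  by_cases h1 : ∀ v, c.1 v = v
  · exact Or.inr (Or.inl h1)
  by_cases h1' : ∀ v, c.1 v = -v
  · exact Or.inr (Or.inr h1')
  push Not at h1 h1'
  obtain ⟨u, hu⟩ := h1
  obtain ⟨w, hw⟩ := h1'
  obtain ⟨i, a', c', hi, hp⟩ :=
    smaller_of_involution h2 (sympBilin j F) sympBilin_self sympBilin_sep hr h hc hu hw
  rw [Module.finrank_fintype_fun_eq_card] at hi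
  simp at hi
  exact Or.inl ⟨i, by omega, a', c', hp⟩

/-- An odd prime with two. -/
theorem sp_two_iff (hn : 1 ≤ n) {p r : ℕ} [hp : Fact p.Prime] [CharP F p] (hp2 : p ≠ 2)
    (hr : r.Prime) (hr2 : r ≠ 2) (hrp : r ≠ p) :
    2 * r ∈ Set.range (orderOf : Cfsg.PSp n F → ℕ) ↔ CritTwo F n r := by
  have h2 : (2 : F) ≠ 0 := by
    exact_mod_cast natCast_ne_zero_of_prime (F := F) Nat.prime_two (Ne.symm hp2)
  have hr0 := natCast_ne_zero_of_prime (F := F) hr hrp
  constructor
  · rintro ⟨x, hx⟩
    obtain ⟨g, rfl⟩ := proj_surjective x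
    have hdvd : orderOf g ∣ 2 * (2 * r) := by
      have h := CfsgLib.KnownC.SympSpectrum.orderOf_dvd_two_mul hn (spEquiv n F g)
      rw [orderOf_spEquiv] at h
      exact hx ▸ h
    have ha : orderOf (g ^ 4) = r := by
      haveI := Fact.mk hr
      refine orderOf_eq_prime ?_ fun e => ?_
      · rw [← pow_mul]
        exact orderOf_dvd_iff_pow_eq_one.1 (hdvd.trans (dvd_of_eq (by ring)))
      · have h1 : proj n F g ^ 4 = 1 := by rw [← map_pow, e, map_one]
        have h4 : 2 * r ∣ 2 * 2 := hx ▸ orderOf_dvd_of_pow_eq_one h1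
        exact hr2 ((Nat.prime_dvd_prime_iff_eq hr Nat.prime_two).1
          (Nat.dvd_of_mul_dvd_mul_left two_pos h4))
    have hne : proj n F (g ^ r) ≠ 1 := by
      intro e
      rw [map_pow] at e
      have h1 := Nat.le_of_dvd hr.pos (hx ▸ orderOf_dvd_of_pow_eq_one e)
      have := hr.pos
      omega
    have hsq : proj n F (g ^ r * g ^ r) = 1 := by
      rw [← pow_add, map_pow, ← two_mul, ← hx, pow_orderOf_eq_one]
    obtain ⟨B', a', c', hB', hsep, hp', hcv, -⟩ :=
      symp_res (sympBilin n F) sympBilin_sep (Commute.pow_pow_self g 4 r) ha hr0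
    obtain ⟨j, e, a'', c'', hj, hp'', -, hev⟩ :=
      std_of_symp B' (fun v => by rw [hB']; exact sympBilin_self _) hsep hp'
    have hle := Submodule.finrank_le (movSub (g ^ 4).1)
    rw [hj, Module.finrank_fintype_fun_eq_card] at hle
    simp at hle
    rcases Nat.lt_or_ge j n with hlt | hge
    · exact Or.inl ⟨j, hlt, a'', c'', hp''⟩
    obtain rfl : j = n := by omega
    have htop : movSub (g ^ 4).1 = ⊤ := Submodule.eq_top_of_finrank_eq (by
      rw [hj, Module.finrank_fintype_fun_eq_card]; simp; omega)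
    have hcc : ∀ v : movSub (g ^ 4).1,
        ((c'.1 (c'.1 v) : movSub (g ^ 4).1) : V2 j) = (g ^ r * g ^ r).1 v.1 := fun v => by
      rw [hcv, hcv]; rfl
    rcases sign_of_proj hn hsq with hs | hs
    · have hc2 : ∀ v, c''.1 (c''.1 v) = v := fun v => by
        obtain ⟨w, rfl⟩ := e.surjective v
        rw [hev, hev]
        exact congrArg e (Subtype.ext ((hcc w).trans (hs _)))
      rcases small_or_sign h2 hr le_rfl hp'' hc2 with h | h | h
      · exact Or.inl h
      all_goals
        exfalso
        refine hne ((QuotientGroup.eq_one_iff _).2 ?_)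
        have hv : ∀ v, (g ^ r).1 v = (c'.1 ⟨v, htop.ge trivial⟩ : V2 j) := fun v => (hcv ⟨v, _⟩).symm
        have hc' : ∀ v, e (c'.1 v) = c''.1 (e v) := fun v => (hev v).symm
      · have : g ^ r = 1 := Subtype.ext (LinearEquiv.ext fun v => by
          have h' := hc' ⟨v, htop.ge trivial⟩
          rw [h, e.injective.eq_iff] at h'
          rw [hv, h']; rfl)
        rw [this, map_one]
        exact one_mem _
      · have : spEquiv j F (g ^ r) = spNeg j F := spLin_ext fun v => by
          have h' := hc' ⟨v, htop.ge trivial⟩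
          rw [h, ← map_neg, e.injective.eq_iff] at h'
          rw [spLin_spNeg, spLin_apply, spEquiv_mulVec, hv, h']
          rfl
        show spEquiv j F (g ^ r) ∈ _
        rw [this]
        exact spNeg_mem_center
    · refine Or.inr ⟨a'', c'', hp'', fun v => ?_⟩
      obtain ⟨w, rfl⟩ := e.surjective v
      rw [hev, hev, ← map_neg]
      exact congrArg e (Subtype.ext ((hcc w).trans (hs _)))
  · intro h
    obtain ⟨a, c, ha, hc, hac, hne⟩ : ∃ a c : formIsoms (sympBilin n F), orderOf a = r ∧
        proj n F (c * c) = 1 ∧ Commute a c ∧ proj n F c ≠ 1 := by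
      rcases h with ⟨j, hj, a, c, ha, hfix, -⟩ | ⟨a, c, ⟨ha, -, hac⟩, hc⟩
      · obtain ⟨φ, E, p₀, hEa, hφi, hp0, hperp, hE1, hEp, hcomm⟩ := exists_small hj ha
        let t := negIsom (sympBilin n F) * E (negIsom (sympBilin j F))
        have htφ : ∀ u, t.1 (φ u) = φ u := fun u => by
          show -((E (negIsom (sympBilin j F))).1 (φ u)) = φ u
          rw [hE1, negIsom_apply, map_neg, neg_neg]
        have htp : t.1 p₀ = -p₀ := by
          show -((E (negIsom (sympBilin j F))).1 p₀) = -p₀
          rw [hEp]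
        have hneg : negIsom (sympBilin n F) * E (negIsom (sympBilin j F)) =
            E (negIsom (sympBilin j F)) * negIsom (sympBilin n F) :=
          Subtype.ext (LinearEquiv.ext fun v => (map_neg (E (negIsom (sympBilin j F))).1 v).symm)
        have hneg2 : negIsom (sympBilin j F) * negIsom (sympBilin j F) = 1 :=
          Subtype.ext (LinearEquiv.ext fun v => neg_neg v)
        have htt : t * t = 1 := by
          show negIsom _ * E _ * (negIsom _ * E _) = 1
          nth_rw 2 [hneg]
          rw [mul_assoc, ← mul_assoc (E (negIsom (sympBilin j F))), ← map_mul, hneg2, map_one,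
            one_mul]
          exact Subtype.ext (LinearEquiv.ext fun v => neg_neg v)
        refine ⟨E a, t, hEa, by rw [htt, map_one], (hcomm t htφ a).symm, fun e => ?_⟩
        obtain ⟨u, hu⟩ : ∃ u, φ u ≠ 0 := by
          by_contra hu
          push Not at hu
          have h1 : a = 1 := Subtype.ext (LinearEquiv.ext fun v => by
            rw [hφi ((hu v).trans (map_zero φ).symm), map_zero, map_zero])
          rw [h1, orderOf_one] at ha
          exact hr.one_lt.ne ha
        rcases sign_of_proj hn e with hs | hs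
        · rw [hs] at htp
          exact hp0 (by
            have : (2 : F) • p₀ = 0 := by rw [two_smul]; exact eq_neg_iff_add_eq_zero.1 htp
            exact (smul_eq_zero.1 this).resolve_left h2)
        · have h3 := htφ u
          rw [hs] at h3
          exact hu (by
            have : (2 : F) • φ u = 0 := by rw [two_smul]; exact neg_eq_iff_add_eq_zero.1 h3
            exact (smul_eq_zero.1 this).resolve_left h2)
      · refine ⟨a, c, ha, ?_, hac, fun e => ?_⟩
        · refine (QuotientGroup.eq_one_iff _).2 ?_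
          show spEquiv n F (c * c) ∈ _
          rw [show spEquiv n F (c * c) = spNeg n F from spLin_ext fun v => by
            rw [spLin_spNeg, spLin_apply, spEquiv_mulVec]
            exact hc v]
          exact spNeg_mem_center
        · have hv := hc (fun _ => 1)
          rcases sign_of_proj hn e with hs | hs <;> rw [hs, hs] at hv
          all_goals
            have h0 := congrFun hv (Sum.inl ⟨0, hn⟩)
            simp only [Pi.neg_apply, neg_neg] at h0
            exact h2 (by linear_combination h0)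
    refine ⟨proj n F a * proj n F c, ?_⟩
    rw [mul_comm 2 r]
    exact orderOf_commute_mul ((proj_order_odd hn (ha ▸ hr.odd_of_ne_two hr2)).trans ha)
      (orderOf_dvd_two (by rw [← map_mul, hc]) hne) hr Nat.prime_two hr2 (hac.map _)

/-- The characteristic with two. -/
theorem sp_two_char (hn : 2 ≤ n) {p : ℕ} [hp : Fact p.Prime] [CharP F p] (hp2 : p ≠ 2) :
    2 * p ∈ Set.range (orderOf : Cfsg.PSp n F → ℕ) := by
  have h2 : (2 : F) ≠ 0 := by
    exact_mod_cast natCast_ne_zero_of_prime (F := F) Nat.prime_two (Ne.symm hp2)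
  obtain ⟨φ, E, p₀, hE, -, hp0, hperp, hE1, hEp, hcomm⟩ :=
    exists_small (n := n) (j := 1) (a := negIsom (sympBilin 1 F)) (by omega) rfl
  obtain ⟨T, hT, hfix⟩ := exists_transvection (p := p) hp0
  let t := E (negIsom (sympBilin 1 F))
  have htt : t * t = 1 := by
    rw [← map_mul, show negIsom (sympBilin 1 F) * negIsom _ = 1 from
      Subtype.ext (LinearEquiv.ext fun v => neg_neg v), map_one]
  have hne : proj n F t ≠ 1 := fun e => by
    rcases sign_of_proj (by omega) e with hs | hs
    · have h1 : E (negIsom (sympBilin 1 F)) = 1 := Subtype.ext (LinearEquiv.ext hs)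
      rw [h1, orderOf_one] at hE
      have h3 : negIsom (sympBilin 1 F) = 1 := orderOf_eq_one_iff.1 hE.symm
      have h4 := congrFun (DFunLike.congr_fun (congrArg Subtype.val h3)
        (fun _ => (1 : F))) (Sum.inl 0)
      exact h2 (by
        have : (-1 : F) = 1 := h4
        linear_combination -this)
    · have h1 := hEp (negIsom (sympBilin 1 F))
      rw [hs] at h1
      have : (2 : F) • p₀ = 0 := by rw [two_smul]; exact neg_eq_iff_add_eq_zero.1 h1
      exact hp0 ((smul_eq_zero.1 this).resolve_left h2)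
  refine ⟨proj n F t * proj n F T, ?_⟩
  exact orderOf_commute_mul (orderOf_dvd_two (by rw [← map_mul, htt, map_one]) hne)
    ((proj_order_odd (by omega) (hT ▸ hp.out.odd_of_ne_two hp2)).trans hT) Nat.prime_two hp.out
    (Ne.symm hp2) ((hcomm T (fun u => hfix _ (hperp u)) _).symm.map _)

end CfsgLib.KnownB.SpOrth
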