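import Cfsg.Agent.Lib.Fusion.PSpPSUChar
import Cfsg.Agent.Lib.Geom.Symp

/-!
Two generators of the symplectic group over a finite field: a torus element times a transvection and
a short root element times a Coxeter element (an order three element times a short root element and
the Coxeter element over the field with two elements).
-/

set_option autoImplicit false
set_option linter.unusedVariables false
set_option linter.unusedSectionVars false
set_option linter.style.haveILetI false

namespace CfsgLib.KnownB.SpTwoGen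

open Matrix Fin CfsgLib.Fusion.FormGroup

variable {K : Type*} [Field K] {m : ℕ}

/-! ### The Coxeter permutation -/

/-- The map behind the Coxeter permutation. -/
def cycFun (hm : 2 ≤ m) (x : Fin (2 * m)) : Fin (2 * m) :=
  ⟨if (x : ℕ) + 1 < m then (x : ℕ) + 1 else if (x : ℕ) + 1 = m then 2 * m - 1 else
    if (x : ℕ) = m then 0 else (x : ℕ) - 1, by
    have := x.2
    split_ifs <;> omega⟩

/-- The Coxeter permutation. -/
noncomputable def cyc (hm : 2 ≤ m) : Equiv.Perm (Fin (2 * m)) :=
  Equiv.ofBijective (cycFun hm) (Finite.injective_iff_bijective.1 fun x y h => by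
    have h' := congrArg Fin.val h
    have := x.2
    have := y.2
    simp only [cycFun] at h'
    refine Fin.ext ?_
    split_ifs at h' <;> omega)

theorem cyc_val (hm : 2 ≤ m) (x : Fin (2 * m)) :
    (cyc hm x : ℕ) = if (x : ℕ) + 1 < m then (x : ℕ) + 1 else if (x : ℕ) + 1 = m then 2 * m - 1 else
      if (x : ℕ) = m then 0 else (x : ℕ) - 1 := rfl

theorem cyc_rev (hm : 2 ≤ m) (x : Fin (2 * m)) : cyc hm (rev x) = rev (cyc hm x) := by
  refine Fin.ext ?_
  have := x.2
  rw [cyc_val, rev_val, rev_val, cyc_val]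
  split_ifs <;> omega

theorem rev_ne (x : Fin (2 * m)) : x ≠ rev x := fun e => by
  have := congrArg Fin.val e
  have := x.2
  rw [rev_val] at *
  omega

/-- The index of the first half at `i`. -/
def ix (i : ℕ) (h : i < m) : Fin (2 * m) := ⟨i, by omega⟩

theorem ix_val (i : ℕ) (h : i < m) : ((ix i h : Fin (2 * m)) : ℕ) = i := rfl

theorem cyc_ix (hm : 2 ≤ m) (i : ℕ) (h : i + 1 < m) :
    cyc hm (ix i (by omega)) = ix (i + 1) h := Fin.ext (by
  rw [cyc_val, ix_val, ix_val, if_pos h])

theorem cyc_last (hm : 2 ≤ m) :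
    cyc hm (ix (m - 1) (by omega)) = rev (ix 0 (by omega)) := Fin.ext (by
  rw [cyc_val, rev_val, ix_val, ix_val]
  split_ifs <;> omega)

theorem cyc_symm_zero (hm : 2 ≤ m) :
    (cyc hm).symm (ix 0 (by omega)) = rev (ix (m - 1) (by omega)) := by
  rw [Equiv.symm_apply_eq, cyc_rev, cyc_last, Fin.rev_rev]

theorem ix_or (x : Fin (2 * m)) : ∃ (i : ℕ) (h : i < m), x = ix i h ∨ x = rev (ix i h) := by
  have := x.2
  by_cases hx : (x : ℕ) < m
  · exact ⟨x, hx, Or.inl (Fin.ext rfl)⟩
  · exact ⟨2 * m - 1 - x, by omega, Or.inr (Fin.ext (by rw [rev_val, ix_val]; omega))⟩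

theorem adm_iff (x y : Fin (2 * m)) : Adm x y ↔ x ≠ y ∧ x ≠ rev y :=
  ⟨fun h => ⟨h.1, h.2.1⟩, fun h => ⟨h.1, h.2, rev_ne x, rev_ne y⟩⟩

theorem adm_ix {i j : ℕ} (hi : i < m) (hj : j < m) (h : i ≠ j) :
    Adm (ix i hi) (ix j hj) ∧ Adm (ix i hi) (rev (ix j hj)) := by
  rw [adm_iff, adm_iff, Fin.rev_rev]
  have h1 : ix i hi ≠ ix j hj := fun e => h (congrArg Fin.val e)
  have h2 : ix i hi ≠ rev (ix j hj) := fun e => by
    have := congrArg Fin.val e
    rw [rev_val, ix_val, ix_val] at this
    omega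
  exact ⟨⟨h1, h2⟩, h2, h1⟩

/-! ### Elements -/

theorem lg_cond_sp (c : K) : c + (spDat K m).η * (spDat K m).σ c = 0 := by
  simp [spDat]

theorem exists_diag (d : Fin (2 * m) → K) (hd : ∀ x, d x * d (rev x) = 1) :
    ∃ g : (spDat K m).group, mat g = mono 1 d := by
  have hiso : (spDat K m).IsIsom (mono 1 d) := isIsom_mono 1 (fun _ => rfl) d fun i => by
    show d i * (spDat K m).e i * d (rev i) = (spDat K m).e i
    linear_combination (spDat K m).e i * hd i
  obtain ⟨g, hg, hgm⟩ := exists_mono (D := spDat K m) 1 (fun _ => rfl) d (fun i => by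
    show d i * (spDat K m).e i * d (rev i) = (spDat K m).e i
    linear_combination (spDat K m).e i * hd i)
    (fun x h0 => by have := hd x; rw [h0, zero_mul] at this; exact zero_ne_one this)
    (spDet m _ hiso)
  exact ⟨⟨g, hg⟩, hgm⟩

theorem diag_comm {g h : (spDat K m).group} {d d' : Fin (2 * m) → K} (hg : mat g = mono 1 d)
    (hh : mat h = mono 1 d') : g * h = h * g := mat_inj (by
  rw [mat_mul, mat_mul, hg, hh, mono_mul, mono_mul]
  simp only [Equiv.Perm.one_apply, mul_comm])

/-- The identity behind the composition of two short roots. -/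
theorem sh_sh_ident [Fintype K] (hD : (spDat K m).Good) {i j k : Fin (2 * m)} (h : Adm i j)
    (h' : Adm j k) (h'' : Adm i k) (a b : K) :
    (1 + shM (spDat K m) i j a) * (1 + shM (spDat K m) j k b) =
      (1 + shM (spDat K m) i k (a * b)) * (1 + shM (spDat K m) j k b) *
        (1 + shM (spDat K m) i j a) := by
  obtain ⟨ij, ij', ii, jj⟩ := h
  obtain ⟨jk, jk', -, kk⟩ := h'
  obtain ⟨ik, ik', -, -⟩ := h''
  have r : ∀ {u v : Fin (2 * m)}, u ≠ v → rev u ≠ rev v := fun h e => h (Fin.rev_injective e)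
  have r' : ∀ {u v : Fin (2 * m)}, u ≠ rev v → rev u ≠ v := fun h e => h (by rw [← e, Fin.rev_rev])
  have hσ : ∀ c : K, (spDat K m).σ c = c := fun c => rfl
  have he : (spDat K m).e j * (spDat K m).e j = 1 := hD.e_mul_self j
  have key : a * b * (spDat K m).e i * (spDat K m).e k =
      b * (spDat K m).e j * (spDat K m).e k * (a * (spDat K m).e i * (spDat K m).e j) := by
    linear_combination (-(a * b * (spDat K m).e i * (spDat K m).e k)) * he
  simp only [shM, hσ, Matrix.mul_add, Matrix.add_mul, Matrix.mul_one, Matrix.one_mul,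
    sne ij.symm, sne jk.symm, sne ik.symm, sne ij, sne jk, sne ik, sne ij', sne ij'.symm, sne jk',
    sne jk'.symm, sne ik', sne ik'.symm, sne ii, sne ii.symm, sne jj, sne jj.symm, sne kk,
    sne kk.symm, sne (r ij), sne (r ij).symm, sne (r jk), sne (r jk).symm, sne (r ik),
    sne (r ik).symm, sne (r' ij'), sne (r' ij').symm, sne (r' jk'), sne (r' jk').symm,
    sne (r' ik'), sne (r' ik').symm, single_mul_single_same, add_zero, zero_add, Matrix.zero_mul,
    Matrix.mul_zero, neg_mul, mul_neg, neg_neg, key, ← Matrix.single_neg]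
  abel

/-! ### Root groups inside a subgroup -/

variable [Fintype K] (H : Subgroup (spDat K m).group)

/-- All elements of a short root group lie in `H`. -/
def Full (i j : Fin (2 * m)) : Prop :=
  ∀ (g : (spDat K m).group) (c : K), mat g = 1 + shM (spDat K m) i j c → g ∈ H

/-- All elements of a long root group lie in `H`. -/
def FullL (i : Fin (2 * m)) : Prop :=
  ∀ (g : (spDat K m).group) (c : K), mat g = 1 + lgM i c → g ∈ H

variable {H}

theorem full_partner (hD : (spDat K m).Good) {i j : Fin (2 * m)} (h : Full H i j) :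
    Full H (rev j) (rev i) := fun g c hg => by
  refine h g (-(c * (spDat K m).e i * (spDat K m).e j)) ?_
  rw [hg, shM, shM, Fin.rev_rev, Fin.rev_rev, hD.heta, hD.heta, add_comm (single (rev j) _ _)]
  have hσ : ∀ x : K, (spDat K m).σ x = x := fun c => rfl
  have e1 := hD.e_mul_self i
  have e2 := hD.e_mul_self j
  have e3 := hD.eta_mul_self
  simp only [hσ]
  congr 3
  · linear_combination (-(c * (spDat K m).e i * (spDat K m).e j)) * e3
  · linear_combination (-(c * (spDat K m).e j * (spDat K m).e j)) * e1 - c * e2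

theorem transvection_shape (hD : (spDat K m).Good) {i0 : Fin (2 * m)} {B : (spDat K m).group}
    (h : ∀ x, x ≠ i0 → ∀ y, mat B x y = if x = y then 1 else 0) :
    mat B = 1 + lgM i0 (mat B i0 (rev i0)) := by
  have hne := rev_ne i0
  have hrow : ∀ y, y ≠ rev i0 → mat B i0 y = if i0 = y then 1 else 0 := by
    intro y hy
    have hb : rev y ≠ i0 := fun e => hy (by rw [← e, Fin.rev_rev])
    have hr := row_rel hD B i0 (rev y)
    rw [Finset.sum_eq_single y (fun x _ hx => by
      rw [h _ hb, if_neg fun e => hx (Fin.rev_injective e.symm), map_zero, mul_zero]) (by simp),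
      h _ hb, if_pos rfl, map_one, mul_one] at hr
    rcases eq_or_ne i0 y with e | e
    · subst e
      rw [if_pos rfl] at hr
      rw [if_pos rfl]
      exact mul_right_cancel₀ (hD.e_ne i0) (by rw [one_mul]; exact hr)
    · rw [if_neg fun e' => e (Fin.rev_injective e').symm] at hr
      rw [if_neg e]
      exact (mul_eq_zero.1 hr).resolve_right (hD.e_ne y)
  ext x y
  rw [Matrix.add_apply, lgM, Matrix.one_apply, Matrix.single_apply]
  rcases eq_or_ne x i0 with hx | hx
  · subst hx
    rcases eq_or_ne y (rev x) with hy | hy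
    · subst hy
      simp [hne]
    · rw [hrow y hy]
      simp [Ne.symm hy]
  · rw [h x hx y]
    simp [Ne.symm hx]

theorem sh_zero (hD : (spDat K m).Good) {i j : Fin (2 * m)} {g : (spDat K m).group}
    (hg : mat g = 1 + shM (spDat K m) i j 0) : g = 1 :=
  mat_inj (by rw [hg, mat_one]; simp [shM])

theorem lg_zero {i : Fin (2 * m)} {g : (spDat K m).group}
    (hg : mat g = 1 + lgM i (0 : K)) : g = 1 :=
  mat_inj (by rw [hg, mat_one]; simp [lgM])

section

variable (p : ℕ) [Fact p.Prime] [CharP K p]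
include p

theorem full_comp (hD : (spDat K m).Good) {i j k : Fin (2 * m)} (h : Adm i j) (h' : Adm j k)
    (h'' : Adm i k) (hij : Full H i j) (hjk : Full H j k) : Full H i k := fun g c hg => by
  obtain ⟨x, hx, -⟩ := exists_shG p hD h c
  obtain ⟨y, hy, -⟩ := exists_shG p hD h' (1 : K)
  have e : x * y = g * y * x := mat_inj (by
    rw [mat_mul, mat_mul, mat_mul, hx, hy, hg]
    have := sh_sh_ident hD h h' h'' c 1
    rwa [mul_one] at this)
  rw [show g = x * y * x⁻¹ * y⁻¹ by rw [e]; group]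
  exact mul_mem (mul_mem (mul_mem (hij x c hx) (hjk y 1 hy)) (inv_mem (hij x c hx)))
    (inv_mem (hjk y 1 hy))

/-- The data of a Coxeter element in `H`. -/
structure Cox (hm : 2 ≤ m) (H : Subgroup (spDat K m).group) where
  w : (spDat K m).group
  W : Fin (2 * m) → K
  hW : ∀ x, W x ≠ 0
  hw : mat w = mono (cyc hm) W
  mem : w ∈ H

variable {hm : 2 ≤ m}

theorem full_step (hD : (spDat K m).Good) (C : Cox hm H) {i j : Fin (2 * m)} (h : Adm i j)
    (hij : Full H i j) : Full H (cyc hm i) (cyc hm j) := fun g c hg => by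
  obtain ⟨u, hu, -⟩ := exists_shG p hD h (c * C.W j / C.W i)
  have := C.hW i
  have := C.hW j
  have e : g = C.w * u * C.w⁻¹ := mat_inj (by
    rw [(sh_conj hD (cyc_rev hm) C.hW C.hw h hu).2, hg]
    congr 2
    field_simp)
  rw [e]
  exact mul_mem (mul_mem C.mem (hij u _ hu)) (inv_mem C.mem)

theorem fullL_step (hD : (spDat K m).Good) (C : Cox hm H) {i : Fin (2 * m)}
    (hi : FullL H i) : FullL H (cyc hm i) := fun g c hg => by
  obtain ⟨u, hu, -⟩ := exists_lgG p hD (rev_ne i) (lg_cond_sp (c * C.W (rev i) / C.W i))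
  have := C.hW i
  have := C.hW (rev i)
  have e : g = C.w * u * C.w⁻¹ := mat_inj (by
    rw [lg_conj hD (cyc_rev hm) C.hW C.hw hu, hg]
    congr 2
    field_simp)
  rw [e]
  exact mul_mem (mul_mem C.mem (hi u _ hu)) (inv_mem C.mem)

theorem fullL_all (hD : (spDat K m).Good) (C : Cox hm H) (h0 : FullL H (ix 0 (by omega))) :
    ∀ x, FullL H x := by
  have h1 : ∀ (i : ℕ) (h : i < m), FullL H (ix i h) := by
    intro i
    induction i with
    | zero => exact fun h => h0
    | succ i ih => exact fun h => cyc_ix hm i h ▸ fullL_step p hD C (ih (by omega))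
  have h2 : ∀ (i : ℕ) (h : i < m), FullL H (rev (ix i h)) := by
    intro i
    induction i with
    | zero => exact fun h => cyc_last hm ▸ fullL_step p hD C (h1 _ _)
    | succ i ih =>
      intro h
      have := fullL_step p hD C (ih (by omega))
      rwa [cyc_rev, cyc_ix hm i h] at this
  intro x
  obtain ⟨i, h, rfl | rfl⟩ := ix_or x
  · exact h1 i h
  · exact h2 i h

theorem full_all (hD : (spDat K m).Good) (C : Cox hm H)
    (h01 : Full H (ix 0 (by omega)) (ix 1 (by omega))) : ∀ x y, Adm x y → Full H x y := by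
  have hadj : ∀ (i : ℕ) (h : i + 1 < m), Full H (ix i (by omega)) (ix (i + 1) h) := by
    intro i
    induction i with
    | zero => exact fun h => h01
    | succ i ih =>
      intro h
      have := full_step p hD C (adm_ix (by omega) (by omega) (by omega)).1 (ih (by omega))
      rwa [cyc_ix hm i (by omega), cyc_ix hm (i + 1) h] at this
  have hwrap : Full H (ix (m - 1) (by omega)) (rev (ix 0 (by omega))) := by
    have := full_step p hD C (adm_ix (by omega) (by omega) (by omega)).1
      (hadj (m - 2) (by omega))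
    have e : (ix (m - 2 + 1) (by omega) : Fin (2 * m)) = ix (m - 1) (by omega) :=
      Fin.ext (by rw [ix_val, ix_val]; omega)
    rwa [cyc_ix hm _ (by omega), e, cyc_last] at this
  have hrevadj : ∀ (i : ℕ) (h : i + 1 < m),
      Full H (rev (ix i (by omega))) (rev (ix (i + 1) h)) := by
    intro i
    induction i with
    | zero =>
      intro h
      have := full_step p hD C (adm_ix (by omega) (by omega) (by omega)).2 hwrap
      rwa [cyc_last, cyc_rev, cyc_ix hm 0 (by omega)] at this
    | succ i ih =>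
      intro h
      have hA : Adm (rev (ix i (by omega) : Fin (2 * m))) (rev (ix (i + 1) (by omega))) := by
        rw [adm_iff, Fin.rev_rev]
        refine ⟨fun e => ?_, fun e => ?_⟩
        · have := congrArg Fin.val (Fin.rev_injective e)
          rw [ix_val, ix_val] at this
          omega
        · have := congrArg Fin.val e
          rw [rev_val, ix_val, ix_val] at this
          omega
      have := full_step p hD C hA (ih (by omega))
      rwa [cyc_rev, cyc_rev, cyc_ix hm i (by omega), cyc_ix hm (i + 1) h] at this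
  have hdown : ∀ (i : ℕ) (h : i + 1 < m), Full H (ix (i + 1) h) (ix i (by omega)) := by
    intro i h
    have := full_partner hD (hrevadj i h)
    rwa [Fin.rev_rev, Fin.rev_rev] at this
  have hnear : ∀ (d i j : ℕ) (hi : i < m) (hj : j < m), j = i + (d + 1) →
      Full H (ix i hi) (ix j hj) ∧ Full H (ix j hj) (ix i hi) := by
    intro d
    induction d with
    | zero =>
      intro i j hi hj e
      subst e
      exact ⟨hadj i hj, hdown i hj⟩
    | succ d ih =>
      intro i j hi hj e
      subst e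
      obtain ⟨h1, h2⟩ := ih i (i + (d + 1)) hi (by omega) rfl
      obtain ⟨h3, h4⟩ : Full H (ix (i + (d + 1)) (by omega)) (ix (i + (d + 1) + 1) hj) ∧
          Full H (ix (i + (d + 1) + 1) hj) (ix (i + (d + 1)) (by omega)) :=
        ⟨hadj _ hj, hdown _ hj⟩
      exact ⟨full_comp p hD (adm_ix _ _ (by omega)).1 (adm_ix _ _ (by omega)).1
          (adm_ix _ _ (by omega)).1 h1 h3,
        full_comp p hD (adm_ix _ _ (by omega)).1 (adm_ix _ _ (by omega)).1
          (adm_ix _ _ (by omega)).1 h4 h2⟩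
  have hsame : ∀ (i j : ℕ) (hi : i < m) (hj : j < m), i ≠ j → Full H (ix i hi) (ix j hj) := by
    intro i j hi hj hne
    rcases Nat.lt_or_gt_of_ne hne with h | h
    · exact (hnear (j - i - 1) i j hi hj (by omega)).1
    · exact (hnear (i - j - 1) j i hj hi (by omega)).2
  have hrow0 : ∀ (i : ℕ) (hi : i < m), i ≠ 0 →
      Full H (ix i hi) (rev (ix 0 (by omega))) := by
    intro i hi h0
    rcases eq_or_ne i (m - 1) with rfl | h1
    · exact hwrap
    · exact full_comp p hD (adm_ix _ _ h1).1 (adm_ix _ _ (by omega)).2 (adm_ix _ _ h0).2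
        (hsame i (m - 1) hi (by omega) h1) hwrap
  have hmix : ∀ (i j : ℕ) (hi : i < m) (hj : j < m), i ≠ j →
      Full H (ix i hi) (rev (ix j hj)) := by
    intro i j hi hj hne
    rcases eq_or_ne j 0 with rfl | hj0
    · exact hrow0 i hi hne
    rcases eq_or_ne i 0 with rfl | hi0
    · have := full_partner hD (hrow0 j hj hj0)
      rwa [Fin.rev_rev] at this
    refine full_comp p hD (adm_ix _ _ hi0).2 ?_ (adm_ix _ _ hne).2 (hrow0 i hi hi0)
      (full_partner hD (hsame j 0 hj (by omega) hj0))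
    have h := (adm_ix (m := m) hj (show 0 < m by omega) hj0).1
    rw [adm_iff] at h ⊢
    rw [Fin.rev_rev]
    exact ⟨fun e => h.1 (Fin.rev_injective e).symm, fun e => h.2 e.symm⟩
  have hmix' : ∀ (i j : ℕ) (hi : i < m) (hj : j < m), i ≠ j →
      Full H (rev (ix i hi)) (ix j hj) := by
    have hadm : ∀ (i j : ℕ) (hi : i < m) (hj : j < m), i ≠ j →
        Adm (rev (ix i hi) : Fin (2 * m)) (ix j hj) := fun i j hi hj h =>
      (adm_ix hj hi (Ne.symm h)).2.symm
    have b0 : ∀ (j : ℕ) (hj : j < m), j ≠ 0 →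
        Full H (rev (ix 0 (by omega))) (ix j hj) := by
      intro j hj hj0
      obtain ⟨i, rfl⟩ : ∃ i, j = i + 1 := ⟨j - 1, by omega⟩
      rcases eq_or_ne i (m - 1) with rfl | h1
      · omega
      have := full_step p hD C (adm_ix (by omega) (by omega) (Ne.symm h1)).1
        (hsame (m - 1) i (by omega) (by omega) (Ne.symm h1))
      rwa [cyc_last, cyc_ix hm i hj] at this
    intro i j hi hj hne
    rcases eq_or_ne i 0 with rfl | hi0
    · exact b0 j hj (Ne.symm hne)
    rcases eq_or_ne j 0 with rfl | hj0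
    · have := full_partner hD (b0 i hi hi0)
      rwa [Fin.rev_rev] at this
    refine full_comp p hD ?_ (hadm 0 j _ hj (Ne.symm hj0)) (hadm i j hi hj hne)
      (full_partner hD (hsame 0 i (by omega) hi (Ne.symm hi0))) (b0 j hj hj0)
    have h := (adm_ix (m := m) (show 0 < m by omega) hi (Ne.symm hi0)).1
    rw [adm_iff] at h ⊢
    rw [Fin.rev_rev]
    exact ⟨fun e => h.1 (Fin.rev_injective e).symm, fun e => h.2 e.symm⟩
  intro x y hxy
  obtain ⟨i, hi, rfl | rfl⟩ := ix_or x <;> obtain ⟨j, hj, rfl | rfl⟩ := ix_or y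
  · exact hsame i j hi hj fun e => by subst e; exact hxy.1 rfl
  · exact hmix i j hi hj fun e => by subst e; exact hxy.2.1 (Fin.rev_rev _).symm
  · exact hmix' i j hi hj fun e => by subst e; exact hxy.2.1 rfl
  · exact full_partner hD (hsame j i hj hi fun e => by subst e; exact hxy.1 rfl)

/-! ### Transitivity and transvections -/

theorem exists_to_axis (hD : (spDat K m).Good) (C : Cox hm H)
    (hS : ∀ x y, Adm x y → Full H x y) (hL : ∀ x, FullL H x) (v : Fin (2 * m) → K) (hv : v ≠ 0) :
    ∃ h ∈ H, ∀ x, x ≠ ix 0 (by omega) → (mat h *ᵥ v) x = 0 := by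
  set i0 : Fin (2 * m) := ix 0 (by omega) with hi0
  have step : ∀ y, (∀ v : Fin (2 * m) → K, v y ≠ 0 → ∃ h ∈ H, (mat h *ᵥ v) i0 ≠ 0) →
      ∀ v : Fin (2 * m) → K, v (cyc hm y) ≠ 0 → ∃ h ∈ H, (mat h *ᵥ v) i0 ≠ 0 := by
    intro y ih v hv
    obtain ⟨h, hh, hne⟩ := ih (mat C.w⁻¹ *ᵥ v) fun h0 => hv (by
      have e : mat C.w *ᵥ (mat C.w⁻¹ *ᵥ v) = v := by
        rw [Matrix.mulVec_mulVec, mat_mul_inv, Matrix.one_mulVec]
      conv_lhs => rw [← e]
      rw [C.hw, Matrix.mulVec, dotProduct, Finset.sum_eq_single y (fun b _ hb => by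
        simp [mono, Ne.symm hb]) (by simp), h0, mul_zero])
    refine ⟨h * C.w⁻¹, mul_mem hh (inv_mem C.mem), ?_⟩
    rwa [mat_mul, ← Matrix.mulVec_mulVec]
  have h1 : ∀ (i : ℕ) (hi : i < m), ∀ v : Fin (2 * m) → K, v (ix i hi) ≠ 0 →
      ∃ h ∈ H, (mat h *ᵥ v) i0 ≠ 0 := by
    intro i
    induction i with
    | zero => exact fun hi v hv => ⟨1, one_mem _, by rwa [mat_one, Matrix.one_mulVec]⟩
    | succ i ih => exact fun hi => cyc_ix hm i hi ▸ step _ (ih (by omega))
  have h2 : ∀ (i : ℕ) (hi : i < m), ∀ v : Fin (2 * m) → K, v (rev (ix i hi)) ≠ 0 →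
      ∃ h ∈ H, (mat h *ᵥ v) i0 ≠ 0 := by
    intro i
    induction i with
    | zero => exact fun hi => cyc_last hm ▸ step _ (h1 _ _)
    | succ i ih =>
      intro hi
      have := step _ (ih (by omega))
      rwa [cyc_rev, cyc_ix hm i hi] at this
  obtain ⟨h0, hh0, hne⟩ : ∃ h ∈ H, (mat h *ᵥ v) i0 ≠ 0 := by
    obtain ⟨x, hx⟩ := Function.ne_iff.1 hv
    obtain ⟨i, hi, rfl | rfl⟩ := ix_or x
    · exact h1 i hi v hx
    · exact h2 i hi v hx
  classical
  have hclear : ∀ s : Finset (Fin (2 * m)), i0 ∉ s → rev i0 ∉ s → ∃ h ∈ H,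
      (mat h *ᵥ v) i0 ≠ 0 ∧ ∀ x ∈ s, (mat h *ᵥ v) x = 0 := by
    intro s
    induction s using Finset.induction_on with
    | empty => exact fun _ _ => ⟨h0, hh0, hne, by simp⟩
    | insert j s hjs ih =>
      intro n1 n2
      simp only [Finset.mem_insert, not_or] at n1 n2
      obtain ⟨h, hh, hne, hs⟩ := ih n1.2 n2.2
      set u := mat h *ᵥ v with hu
      have hadm : Adm j i0 := (adm_iff _ _).2 ⟨Ne.symm n1.1, Ne.symm n2.1⟩
      obtain ⟨g, hg, -⟩ := exists_shG p hD hadm (-u j / u i0)
      have hval : ∀ x, x ≠ rev i0 →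
          (mat g *ᵥ u) x = u x + if x = j then (-u j / u i0) * u i0 else 0 := by
        intro x hx
        rw [hg, Matrix.add_mulVec, Matrix.one_mulVec, Pi.add_apply, shM, Matrix.add_mulVec,
          Pi.add_apply, Matrix.single_mulVec, Matrix.single_mulVec]
        simp [Function.update, Pi.single_apply, hx]
      refine ⟨g * h, mul_mem (hS _ _ hadm g _ hg) hh, ?_, fun x hx => ?_⟩
      · rw [mat_mul, ← Matrix.mulVec_mulVec, ← hu, hval _ (rev_ne _), if_neg n1.1, add_zero]
        exact hne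
      · rw [mat_mul, ← Matrix.mulVec_mulVec, ← hu]
        rcases Finset.mem_insert.1 hx with rfl | hx
        · rw [hval _ (Ne.symm n2.1), if_pos rfl]
          field_simp
          ring
        · rw [hval _ (fun e => n2.2 (e ▸ hx)), if_neg (fun e : x = j => hjs (e ▸ hx)), add_zero]
          exact hs x hx
  obtain ⟨h, hh, hne, hs⟩ := hclear (Finset.univ.filter fun x => x ≠ i0 ∧ x ≠ rev i0)
    (by simp) (by simp)
  set u := mat h *ᵥ v with hu
  obtain ⟨g, hg, -⟩ := exists_lgG p hD (i := rev i0) (by rw [Fin.rev_rev]; exact (rev_ne i0).symm)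
    (lg_cond_sp (-u (rev i0) / u i0))
  refine ⟨g * h, mul_mem (hL _ g _ hg) hh, fun x hx => ?_⟩
  rw [mat_mul, ← Matrix.mulVec_mulVec, ← hu, hg, Matrix.add_mulVec, Matrix.one_mulVec,
    Pi.add_apply, lgM, Matrix.single_mulVec, Fin.rev_rev]
  by_cases hx' : x = rev i0
  · subst hx'
    simp [Function.update, Pi.single_apply]
    field_simp
    ring
  · simp [Function.update, Pi.single_apply, hx', hs x (by simp [hx, hx'])]

theorem top_of_roots (hD : (spDat K m).Good) (C : Cox hm H)
    (hS : ∀ x y, Adm x y → Full H x y) (hL : ∀ x, FullL H x) : H = ⊤ := by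
  refine top_le_iff.1 ?_
  rw [← Subgroup.map_top_of_surjective (spEquiv (K := K) m).toMonoidHom (spEquiv m).surjective,
    ← CfsgLib.Geom.closure_sympTransvection, MonoidHom.map_closure]
  refine (Subgroup.closure_le _).2 ?_
  rintro _ ⟨A, ⟨u, c, hA⟩, rfl⟩
  set g := (spEquiv m).toMonoidHom A with hg
  set v : Fin (2 * m) → K := u ∘ (spIdx m).symm with hv
  set r : Fin (2 * m) → K := (c • (Matrix.J (Fin m) K *ᵥ u)) ∘ (spIdx m).symm with hr
  have hgm : mat g = 1 + Matrix.vecMulVec v r := by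
    show Matrix.reindex (spIdx m) (spIdx m) A.1 = _
    rw [hA, Cfsg.sympTransvection]
    ext x y
    simp [Matrix.vecMulVec_apply, hv, hr, Matrix.one_apply]
    ring
  by_cases hv0 : v = 0
  · rw [show g = 1 from mat_inj (by rw [hgm, hv0, mat_one]; ext; simp [Matrix.vecMulVec_apply])]
    exact one_mem H
  obtain ⟨h, hh, hax⟩ := exists_to_axis p hD C hS hL v hv0
  have hB : mat (h * g * h⁻¹) = 1 + Matrix.vecMulVec (mat h *ᵥ v) (r ᵥ* mat h⁻¹) := by
    rw [mat_mul, mat_mul, hgm, Matrix.mul_add, Matrix.mul_one, Matrix.add_mul, mat_mul_inv,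
      Matrix.mul_vecMulVec, Matrix.vecMulVec_mul]
  have hshape := transvection_shape hD (B := h * g * h⁻¹) (i0 := ix 0 (by omega)) fun x hx y => by
    rw [hB, Matrix.add_apply, Matrix.vecMulVec_apply, hax x hx, zero_mul, add_zero,
      Matrix.one_apply]
  have hmem := hL _ _ _ hshape
  have := mul_mem (mul_mem (inv_mem hh) hmem) hh
  simpa [mul_assoc] using this

/-! ### The generators -/

theorem gen_large (hD : (spDat K m).Good) (hm : 2 ≤ m) (hK : 3 ≤ Fintype.card K) :
    ∃ a b : (spDat K m).group, Subgroup.closure {a, b} = ⊤ := by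
  classical
  obtain ⟨ξ, hξ⟩ := IsCyclic.exists_generator (α := Kˣ)
  have hξ1 : (ξ : K) ≠ 1 := by
    intro h
    have h1 : ∀ x : Kˣ, x = 1 := fun x => by
      obtain ⟨k, hk⟩ := Subgroup.mem_zpowers_iff.1 (hξ x)
      rw [← hk, Units.val_eq_one.1 h, _root_.one_zpow]
    haveI : Subsingleton Kˣ := ⟨fun a b => by rw [h1 a, h1 b]⟩
    have := Fintype.card_le_one_iff_subsingleton.2 ‹Subsingleton Kˣ›
    rw [Fintype.card_units] at this
    omega
  have hξ0 : (ξ : K) ≠ 0 := ξ.ne_zero
  set i0 : Fin (2 * m) := ix 0 (by omega) with hi0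
  set i1 : Fin (2 * m) := ix 1 (by omega) with hi1
  have h01 : Adm i0 i1 := (adm_ix _ _ (by omega)).1
  obtain ⟨x, hx, -⟩ := exists_shG p hD h01 (1 : K)
  obtain ⟨u, hu, -⟩ := exists_lgG p hD (rev_ne i1) (lg_cond_sp (1 : K))
  obtain ⟨w, W, hW, hw⟩ := exists_weylG hD (cyc hm) (cyc_rev hm)
  set d : Fin (2 * m) → K := fun z => if z = i0 then (ξ : K) else if z = rev i0 then (ξ : K)⁻¹ else 1
    with hd
  have d0 : d i0 = ξ := by simp [hd]
  have d0' : d (rev i0) = (ξ : K)⁻¹ := by simp [hd, (rev_ne i0).symm]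
  have hd1 : ∀ z, z ≠ i0 → z ≠ rev i0 → d z = 1 := fun z h1 h2 => by simp [hd, h1, h2]
  have d1 : d i1 = 1 := hd1 _ h01.1.symm (fun e => h01.2.1 (by rw [e, Fin.rev_rev]))
  have d1' : d (rev i1) = 1 := hd1 _ (Ne.symm h01.2.1) (fun e => h01.1 (Fin.rev_injective e).symm)
  have hdd : ∀ z, d z * d (rev z) = 1 := fun z => by
    by_cases h1 : z = i0
    · rw [h1, d0, d0', mul_inv_cancel₀ hξ0]
    by_cases h2 : z = rev i0
    · rw [h2, Fin.rev_rev, d0, d0', inv_mul_cancel₀ hξ0]
    rw [hd1 z h1 h2, hd1 (rev z) (fun e => h2 (by rw [← e, Fin.rev_rev]))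
      (fun e => h1 (Fin.rev_injective e)), one_mul]
  have hd0 : ∀ z, d z ≠ 0 := fun z h0 => by
    have := hdd z; rw [h0, zero_mul] at this; exact zero_ne_one this
  obtain ⟨h, hh⟩ := exists_diag d hdd
  set d' : Fin (2 * m) → K := fun z => d ((cyc hm).symm z) with hd'
  have hrev : ∀ z, (cyc hm).symm (rev z) = rev ((cyc hm).symm z) := fun z => by
    rw [Equiv.symm_apply_eq, cyc_rev, Equiv.apply_symm_apply]
  obtain ⟨E, hE⟩ := exists_diag d' fun z => by
    show d _ * d _ = 1
    rw [hrev]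
    exact hdd _
  set a := h * u with ha
  set b := x * w with hb
  refine ⟨a, b, ?_⟩
  set H := Subgroup.closure {a, b} with hH
  have haH : a ∈ H := Subgroup.subset_closure (by simp)
  have hbH : b ∈ H := Subgroup.subset_closure (by simp)
  have hcomm : h * u = u * h := by
    have := lg_conj hD (π := 1) (fun _ => rfl) hd0 hh hu
    rw [Equiv.Perm.one_apply, d1, d1', one_mul, div_one] at this
    exact mul_inv_eq_iff_eq_mul.1 (mat_inj (this.trans hu.symm))
  have hpow : ∀ n : ℕ, mat (u ^ n) = 1 + lgM i1 (n : K) := by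
    intro n
    induction n with
    | zero => rw [pow_zero, mat_one, Nat.cast_zero]; simp [lgM]
    | succ n ih => rw [pow_succ, Nat.cast_succ]; exact lg_add (rev_ne i1) ih hu
  have huH : u ∈ H := by
    have hpp : u ^ Fintype.card K = 1 := mat_inj (by
      rw [hpow, mat_one, FiniteField.cast_card_eq_zero]; simp [lgM])
    have hhp : h ^ (Fintype.card K - 1) = 1 := mat_inj (by
      have : ∀ n : ℕ, mat (h ^ n) = mono 1 (fun z => d z ^ n) := by
        intro n
        induction n with
        | zero => rw [pow_zero, mat_one, mono_one]; simp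
        | succ n ih =>
          rw [pow_succ, mat_mul, ih, hh, mono_mul]
          simp [pow_succ]
      rw [this, mat_one, mono_one, ← Matrix.diagonal_one]
      congr 1
      funext z
      exact FiniteField.pow_card_sub_one_eq_one _ (hd0 z))
    have h1 : a ^ (Fintype.card K - 1) = u⁻¹ := by
      rw [ha, (show Commute h u from hcomm).mul_pow, hhp, one_mul, eq_inv_iff_mul_eq_one,
        ← pow_succ, Nat.sub_add_cancel (by omega), hpp]
    simpa [h1] using inv_mem (pow_mem haH (Fintype.card K - 1))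
  have hhH : h ∈ H := by simpa [ha] using mul_mem haH (inv_mem huH)
  -- the commutator of `h` and `b h b⁻¹`
  have hwh : w * h = E * w := mat_inj (by
    rw [mat_mul, mat_mul, hw, hh, hE, mono_mul, mono_mul, mul_one, one_mul]
    congr 1
    funext z
    simp [hd', mul_comm])
  have hbh : b * h * b⁻¹ = x * E * x⁻¹ := by
    have : E = w * h * w⁻¹ := by rw [hwh, mul_inv_cancel_right]
    rw [this, hb]
    group
  have hbe : ∀ z, d' z ≠ 0 := fun z => hd0 _
  obtain ⟨x2, hx2, -⟩ := exists_shG p hD h01 (-1 : K)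
  have hx2' : x2 = x⁻¹ := eq_inv_of_mul_eq_one_left (mat_inj (by
    rw [sh_add hD h01 hx2 hx, neg_add_cancel, mat_one]; simp [shM]))
  have hm1 : d' i0 = 1 := by
    show d ((cyc hm).symm i0) = 1
    rw [hi0, cyc_symm_zero]
    exact hd1 _ (fun e => by
      have := congrArg Fin.val e; rw [rev_val, ix_val, ix_val] at this; omega)
      (fun e => by
      have := congrArg Fin.val (Fin.rev_injective e); rw [ix_val, ix_val] at this; omega)
  have hm2 : d' i1 = ξ := by
    show d ((cyc hm).symm i1) = ξ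
    rw [show i1 = cyc hm i0 from (cyc_ix hm 0 (by omega)).symm, Equiv.symm_apply_apply, d0]
  obtain ⟨-, hA⟩ := sh_conj hD (π := 1) (fun _ => rfl) hd0 hh h01 hx
  obtain ⟨-, hC⟩ := sh_conj hD (π := 1) (fun _ => rfl) hbe hE h01 hx
  have hEh : mat (h * E) = mono 1 (fun z => d z * d' z) := by
    rw [mat_mul, hh, hE, mono_mul, mul_one]
    rfl
  obtain ⟨-, hB⟩ := sh_conj hD (π := 1) (fun _ => rfl) (fun z => mul_ne_zero (hd0 z) (hbe z))
    hEh h01 hx2
  simp only [Equiv.Perm.one_apply, d0, d1, hm1, hm2, div_one, mul_one, one_mul] at hA hB hC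
  set A' := h * x * h⁻¹ with hA'
  set B' := h * E * x2 * (h * E)⁻¹ with hB'
  set C' := E * x * E⁻¹ with hC'
  have hc : h * (b * h * b⁻¹) * h⁻¹ * (b * h * b⁻¹)⁻¹ = A' * B' * C' * x2 := by
    rw [hbh, hA', hB', hC', hx2']
    have hcc : h * E = E * h := diag_comm hh hE
    have e2 : h * E * h⁻¹ = E := by rw [hcc, mul_inv_cancel_right]
    calc h * (x * E * x⁻¹) * h⁻¹ * (x * E * x⁻¹)⁻¹
        = h * x * h⁻¹ * (h * E * x⁻¹ * (h * E)⁻¹) * (h * E * h⁻¹) * x * E⁻¹ * x⁻¹ := by group
      _ = _ := by rw [e2]; group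
  have hX : A' * B' * C' * x2 ∈ H := by
    rw [← hc]
    have := mul_mem (mul_mem hbH hhH) (inv_mem hbH)
    exact mul_mem (mul_mem (mul_mem hhH this) (inv_mem hhH)) (inv_mem this)
  have hXm := sh_add hD h01 (sh_add hD h01 (sh_add hD h01 hA hB) hC) hx2
  generalize hc0 : ((ξ : K) + (ξ : K) * -1 / ξ + 1 / (ξ : K) + -1) = c0 at hXm
  have hc0' : c0 ≠ 0 := by
    rw [← hc0]
    intro h
    field_simp at h
    have : ((ξ : K) - 1) * ((ξ : K) - 1) = 0 := by linear_combination h
    exact hξ1 (sub_eq_zero.1 (mul_self_eq_zero.1 this))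
  have hscale : ∀ n : ℕ, ∀ g : (spDat K m).group, ∀ t : K, g ∈ H →
      mat g = 1 + shM (spDat K m) i0 i1 t →
      ∃ g' ∈ H, mat g' = 1 + shM (spDat K m) i0 i1 ((ξ : K) ^ n * t) := by
    intro n
    induction n with
    | zero => exact fun g t hgH hg => ⟨g, hgH, by rw [hg, pow_zero, one_mul]⟩
    | succ n ih =>
      intro g t hgH hg
      obtain ⟨g', hg'H, hg'⟩ := ih g t hgH hg
      obtain ⟨-, hm'⟩ := sh_conj hD (π := 1) (fun _ => rfl) hd0 hh h01 hg'
      refine ⟨_, mul_mem (mul_mem hhH hg'H) (inv_mem hhH), ?_⟩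
      rw [hm', Equiv.Perm.one_apply, Equiv.Perm.one_apply, d0, d1]
      congr 2
      ring
  have hF01 : Full H i0 i1 := by
    intro g c hg
    rcases eq_or_ne c 0 with hcz | hcz
    · rw [sh_zero hD (g := g) (i := i0) (j := i1) (by rw [hg, hcz])]
      exact one_mem H
    obtain ⟨n, hn⟩ : ∃ n : ℕ, ξ ^ n = Units.mk0 (c / c0) (div_ne_zero hcz hc0') :=
      (mem_powers_iff_mem_zpowers.2 (hξ _) : _)
    obtain ⟨g', hg'H, hg'⟩ := hscale n _ _ hX hXm
    have e : g = g' := mat_inj (by
      rw [hg, hg']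
      congr 2
      rw [← Units.val_pow_eq_pow_val, hn, Units.val_mk0, div_mul_cancel₀ _ hc0'])
    exact e ▸ hg'H
  have hwH : w ∈ H := by
    simpa [hb] using mul_mem (inv_mem (hF01 x 1 hx)) hbH
  let C : Cox hm H := ⟨w, W, hW, hw, hwH⟩
  have hS := full_all p hD C hF01
  have hL0 : FullL H i0 := by
    set c1 : K := W (rev i0) / W i0 with hc1
    have hc1' : c1 ≠ 0 := div_ne_zero (hW _) (hW _)
    obtain ⟨v, hv, -⟩ := exists_lgG p hD (rev_ne i0) (lg_cond_sp c1)
    have hvH : v ∈ H := by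
      have e : w * v * w⁻¹ = u := mat_inj (by
        rw [lg_conj hD (cyc_rev hm) hW hw hv, hu, show cyc hm i0 = i1 from cyc_ix hm 0 (by omega)]
        congr 2
        have := hW i0
        have := hW (rev i0)
        rw [hc1]
        field_simp)
      have := mul_mem (mul_mem (inv_mem hwH) huH) hwH
      rwa [← e, show w⁻¹ * (w * v * w⁻¹) * w = v by group] at this
    have hsq : ∀ s : K, ∃ g' ∈ H, mat g' = 1 + lgM i0 (s * s * c1) := by
      intro s
      rcases eq_or_ne s 0 with hs | hs
      · exact ⟨1, one_mem H, by rw [mat_one, hs]; simp [lgM]⟩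
      obtain ⟨n, hn⟩ : ∃ n : ℕ, ξ ^ n = Units.mk0 s hs :=
        (mem_powers_iff_mem_zpowers.2 (hξ _) : _)
      have hs' : s = (ξ : K) ^ n := by rw [← Units.val_pow_eq_pow_val, hn, Units.val_mk0]
      subst hs'
      clear hn hs
      induction n with
      | zero => exact ⟨v, hvH, by rw [hv, pow_zero, one_mul, one_mul]⟩
      | succ n ih =>
        obtain ⟨g', hg'H, hg'⟩ := ih
        refine ⟨_, mul_mem (mul_mem hhH hg'H) (inv_mem hhH), ?_⟩
        rw [lg_conj hD (π := 1) (fun _ => rfl) hd0 hh hg', Equiv.Perm.one_apply, d0, d0']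
        congr 2
        field_simp
        ring
    intro g c hg
    obtain ⟨s, t, hst⟩ := exists_sq_add K (c / c1)
    obtain ⟨Y, hY, hYm⟩ := hsq s
    obtain ⟨Z, hZ, hZm⟩ := hsq t
    have e : g = Y * Z := mat_inj (by
      rw [hg, lg_add (rev_ne i0) hYm hZm, ← add_mul, ← hst, div_mul_cancel₀ _ hc1'])
    exact e ▸ mul_mem hY hZ
  exact top_of_roots p hD C hS (fullL_all p hD C hL0)

theorem gen_two (hD : (spDat K m).Good) (hm : 3 ≤ m) (hK : Fintype.card K = 2) :
    ∃ a b : (spDat K m).group, Subgroup.closure {a, b} = ⊤ := by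
  classical
  have h01K : ∀ c : K, c = 0 ∨ c = 1 := fun c => by
    by_contra hc
    push Not at hc
    have h3 : ({0, 1, c} : Finset K).card ≤ 2 := hK ▸ Finset.card_le_univ _
    rw [Finset.card_insert_of_notMem (by simp [Ne.symm hc.1]),
      Finset.card_insert_of_notMem (by simp [Ne.symm hc.2]), Finset.card_singleton] at h3
    omega
  have h2 : (2 : K) = 0 := by
    rcases h01K 2 with h | h
    · exact h
    · exact absurd (show (1 : K) = 0 by linear_combination h) one_ne_zero
  have hm2 : 2 ≤ m := by omega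
  set i0 : Fin (2 * m) := ix 0 (by omega) with hi0
  set i1 : Fin (2 * m) := ix 1 (by omega) with hi1
  set i2 : Fin (2 * m) := ix 2 (by omega) with hi2
  have h01 : Adm i0 i1 := (adm_ix _ _ (by omega)).1
  have h02 : Adm i0 i2 := (adm_ix _ _ (by omega)).1
  have h02' : Adm i0 (rev i2) := (adm_ix _ _ (by omega)).2
  have h12 : Adm i1 i2 := (adm_ix _ _ (by omega)).1
  obtain ⟨u, hu, -⟩ := exists_shG p hD h01 (1 : K)
  obtain ⟨y, hy, -⟩ := exists_lgG p hD (rev_ne i2) (lg_cond_sp (1 : K))
  obtain ⟨z, hz, -⟩ := exists_lgG p hD (rev_ne (rev i2)) (lg_cond_sp (1 : K))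
  obtain ⟨w, W, hW, hw⟩ := exists_weylG hD (cyc hm2) (cyc_rev hm2)
  have r : ∀ {s t : Fin (2 * m)}, s ≠ t → rev s ≠ rev t := fun h e => h (Fin.rev_injective e)
  have r' : ∀ {s t : Fin (2 * m)}, s ≠ rev t → rev s ≠ t := fun h e => h (by rw [← e, Fin.rev_rev])
  have hdis : ∀ t : Fin (2 * m), t ≠ i0 → t ≠ i1 → t ≠ rev i0 → t ≠ rev i1 →
      ∀ g : (spDat K m).group, mat g = 1 + lgM t 1 → g * u = u * g := by
    intro t t0 t1 t0' t1' g hg
    refine mat_inj ?_
    rw [mat_mul, mat_mul, hg, hu, shM, lgM]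
    simp only [Matrix.mul_add, Matrix.add_mul, Matrix.mul_one, Matrix.one_mul, sne t0, sne t0.symm,
      sne t1, sne t1.symm, sne (r t0), sne (r t0).symm, sne (r t1), sne (r t1).symm,
      sne t0', sne t0'.symm, sne t1', sne t1'.symm, sne (r' t0'), sne (r' t0').symm,
      sne (r' t1'), sne (r' t1').symm, add_zero, zero_add]
    abel
  have hyu : y * u = u * y :=
    hdis i2 h02.1.symm h12.1.symm (fun e => h02.2.1 (by rw [e, Fin.rev_rev]))
      (fun e => h12.2.1 (by rw [e, Fin.rev_rev])) y hy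
  have hzu : z * u = u * z :=
    hdis (rev i2) (Ne.symm h02.2.1) (Ne.symm h12.2.1) (r h02.1).symm (r h12.1).symm z hz
  have hX : ∀ X : Matrix (Fin (2 * m)) (Fin (2 * m)) K, X + X = 0 := fun X => by
    rw [← two_smul K, h2, zero_smul]
  have hsq : ∀ {t : Fin (2 * m)} {g : (spDat K m).group}, mat g = 1 + lgM t 1 → g * g = 1 := by
    intro t g hg
    refine mat_inj ?_
    rw [lg_add (rev_ne t) hg hg, mat_one, one_add_one_eq_two, h2]
    simp [lgM]
  have hbraid : z * y * z = y * z * y := by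
    refine mat_inj ?_
    simp only [mat_mul, hy, hz, lgM, Fin.rev_rev]
    simp only [Matrix.mul_add, Matrix.add_mul, Matrix.mul_one, Matrix.one_mul,
      single_mul_single_same, sne (rev_ne i2), sne (rev_ne i2).symm, mul_one, add_zero, zero_add,
      Matrix.zero_mul, Matrix.mul_zero]
    have q : (2 : Matrix (Fin (2 * m)) (Fin (2 * m)) K) = 0 := one_add_one_eq_two.symm.trans (hX 1)
    rw [← sub_eq_zero]
    abel_nf
    simp [zsmul_eq_mul, q, two_smul, hX]
  set g := z * y with hg
  have hg3 : g ^ 3 = 1 := by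
    rw [hg, pow_succ, pow_two,
      show z * y * (z * y) * (z * y) = z * y * z * (y * z * y) by group, hbraid]
    rw [show y * z * y * (y * z * y) = y * z * (y * y) * z * y by group, hsq hy, mul_one,
      show y * z * z * y = y * (z * z) * y by group, hsq hz, mul_one, hsq hy]
  have hgu : Commute g u := Commute.mul_left hzu hyu
  have hu2 : u ^ 2 = 1 := by
    refine mat_inj ?_
    rw [pow_two, sh_add hD h01 hu hu, mat_one, one_add_one_eq_two, h2]
    simp [shM]
  refine ⟨g * u, w, ?_⟩
  set H := Subgroup.closure {g * u, w} with hH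
  have haH : g * u ∈ H := Subgroup.subset_closure (by simp)
  have hwH : w ∈ H := Subgroup.subset_closure (by simp)
  have huH : u ∈ H := by
    have e : (g * u) ^ 3 = u := by rw [hgu.mul_pow, hg3, one_mul, pow_succ, hu2, one_mul]
    exact e ▸ pow_mem haH 3
  have hgH : g ∈ H := by simpa using mul_mem haH (inv_mem huH)
  let C : Cox hm2 H := ⟨w, W, hW, hw, hwH⟩
  have hF01 : Full H i0 i1 := fun k c hk => by
    rcases h01K c with rfl | rfl
    · rw [sh_zero hD hk]; exact one_mem H
    · exact (mat_inj (hk.trans hu.symm) : k = u) ▸ huH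
  have hS := full_all p hD C hF01
  -- a long root element
  obtain ⟨x, hx, -⟩ := exists_shG p hD h02' (1 : K)
  obtain ⟨S, hS', -⟩ := exists_shG p hD h02 ((1 : K) * 1)
  obtain ⟨L, hL, -⟩ := exists_lgG p hD (rev_ne i0)
    (lg_cond_sp ((spDat K m).e i0 * (spDat K m).e (rev i2) * (1 * (spDat K m).σ 1 * 1)))
  have hid : x * z = S * L * z * x := mat_inj (by
    rw [mat_mul, mat_mul, mat_mul, mat_mul, hx, hz, hS', hL]
    have := sh_lg_ident hD h02' (1 : K) 1 (lg_cond_sp 1)
    rwa [Fin.rev_rev] at this)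
  have hyx : y * x = x * y := by
    refine mat_inj ?_
    rw [mat_mul, mat_mul, hy, hx, shM, lgM]
    simp only [Fin.rev_rev, Matrix.mul_add, Matrix.add_mul, Matrix.mul_one, Matrix.one_mul,
      sne h02.1, sne h02.1.symm, sne (rev_ne i2), sne (rev_ne i2).symm, sne (r h02.1),
      sne (r h02.1).symm, sne h02.2.1, sne (Ne.symm h02.2.1), sne (r' h02.2.1),
      sne (r' h02.2.1).symm, add_zero, zero_add]
    abel
  have hxH := hS _ _ h02' x _ hx
  have hLH : L ∈ H := by
    have e1 : g * x * g⁻¹ = z * x * z⁻¹ := by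
      rw [hg, show z * y * x * (z * y)⁻¹ = z * (y * x * y⁻¹) * z⁻¹ by group, hyx,
        mul_inv_cancel_right]
    have e2 : x * (g * x * g⁻¹)⁻¹ = S * L := by
      rw [e1, show x * (z * x * z⁻¹)⁻¹ = x * z * x⁻¹ * z⁻¹ by group, hid]
      group
    have h3 : S * L ∈ H := e2 ▸ mul_mem hxH (inv_mem (mul_mem (mul_mem hgH hxH) (inv_mem hgH)))
    simpa using mul_mem (inv_mem (hS _ _ h02 S _ hS')) h3
  have hL0 : FullL H i0 := fun k c hk => by
    rcases h01K c with rfl | rfl
    · rw [lg_zero hk]; exact one_mem H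
    · refine (mat_inj (hk.trans (hL.trans ?_).symm) : k = L) ▸ hLH
      congr 2
      rcases h01K ((spDat K m).e i0) with h | h
      · exact absurd h (hD.e_ne _)
      rcases h01K ((spDat K m).e (rev i2)) with h' | h'
      · exact absurd h' (hD.e_ne _)
      rw [h, h', map_one]
      ring
  exact top_of_roots p hD C hS (fullL_all p hD C hL0)

end

/-- `PSp_{2m}(K)` is generated by two elements. -/
theorem psp_two_gen {F : Type*} [Field F] [Fintype F] (hm : 2 ≤ m)
    (hF : m = 2 → 2 < Fintype.card F) :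
    ∃ a b : Cfsg.PSp m F, Subgroup.closure ({a, b} : Set (Cfsg.PSp m F)) = ⊤ := by
  have : Fact (ringChar F).Prime := ⟨CharP.char_is_prime F (ringChar F)⟩
  have hD : (spDat F m).Good := spGood hm hF
  obtain ⟨a, b, hab⟩ : ∃ a b : (spDat F m).group, Subgroup.closure {a, b} = ⊤ := by
    rcases Nat.lt_or_ge 2 (Fintype.card F) with h | h
    · exact gen_large (ringChar F) hD hm h
    · refine gen_two (ringChar F) hD ?_ (le_antisymm h Fintype.one_lt_card)
      rcases eq_or_lt_of_le hm with h' | h'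
      · exact absurd (hF h'.symm) (by omega)
      · omega
  refine ⟨QuotientGroup.mk' _ ((spEquiv m).symm a), QuotientGroup.mk' _ ((spEquiv m).symm b), ?_⟩
  have h := congrArg (Subgroup.map ((QuotientGroup.mk'
    (Subgroup.center (Matrix.symplecticGroup (Fin m) F))).comp (spEquiv m).symm.toMonoidHom)) hab
  rw [MonoidHom.map_closure, Set.image_pair] at h
  exact h.trans (Subgroup.map_top_of_surjective _
    ((QuotientGroup.mk'_surjective _).comp (spEquiv m).symm.surjective))

end CfsgLib.KnownB.SpTwoGen
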