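import Mathlib
import Cfsg.Agent.Lib.KnownB.SpFixFree
import Cfsg.Agent.Lib.Geom.SympSpace

/-!
Steinberg's count of unipotent isometries of a symplectic space over a finite field, by the Fitting
decomposition of `g - 1`.
-/

set_option autoImplicit false

namespace CfsgLib.KnownB.SpUnip

open Finset CfsgLib.Geom Module

variable {F V : Type*} [Field F] [AddCommGroup V] [Module F V]

/-- `g - 1` as an endomorphism. -/
def delta (g : V ≃ₗ[F] V) : Module.End F V := (g : V →ₗ[F] V) - 1

@[simp] theorem delta_apply (g : V ≃ₗ[F] V) (v : V) : delta g v = g v - v := rfl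

/-- The generalised fixed space. -/
noncomputable def fixGen (g : V ≃ₗ[F] V) : Submodule F V := LinearMap.ker (delta g ^ finrank F V)

/-- The complementary Fitting component. -/
noncomputable def moveGen (g : V ≃ₗ[F] V) : Submodule F V := LinearMap.range (delta g ^ finrank F V)

theorem delta_pow_comm (g : V ≃ₗ[F] V) : ∀ (j : ℕ) (v : V), g ((delta g ^ j) v) = (delta g ^ j) (g v) := by
  intro j
  induction j with
  | zero => intro v; rfl
  | succ j ih =>
    intro v
    rw [pow_succ', Module.End.mul_apply, Module.End.mul_apply, delta_apply, delta_apply, map_sub g, ih]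

variable [FiniteDimensional F V]

theorem isCompl_fixGen (g : V ≃ₗ[F] V) : IsCompl (fixGen g) (moveGen g) := by
  have hd : Disjoint (fixGen g) (moveGen g) := by
    rw [Submodule.disjoint_def]
    rintro _ hx ⟨y, rfl⟩
    have h2 : y ∈ LinearMap.ker (delta g ^ (finrank F V + finrank F V)) := by
      rw [LinearMap.mem_ker, pow_add, Module.End.mul_apply]; exact hx
    exact Module.End.ker_pow_le_ker_pow_finrank (delta g) _ h2
  refine ⟨hd, codisjoint_iff.2 (Submodule.eq_top_of_finrank_eq ?_)⟩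
  have h1 := Submodule.finrank_sup_add_finrank_inf_eq (fixGen g) (moveGen g)
  rw [hd.eq_bot, finrank_bot] at h1
  have h2 : finrank F (moveGen g) + finrank F (fixGen g) = finrank F V :=
    LinearMap.finrank_range_add_finrank_ker _
  omega

theorem apply_mem_fixGen {g : V ≃ₗ[F] V} {v : V} (hv : v ∈ fixGen g) : g v ∈ fixGen g := by
  rw [fixGen, LinearMap.mem_ker] at hv ⊢
  rw [← delta_pow_comm, hv, map_zero]

theorem apply_mem_moveGen {g : V ≃ₗ[F] V} {v : V} (hv : v ∈ moveGen g) : g v ∈ moveGen g := by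
  obtain ⟨y, rfl⟩ := hv
  exact ⟨g y, (delta_pow_comm g _ y).symm⟩

theorem symm_mem_fixGen {g : V ≃ₗ[F] V} {v : V} (hv : v ∈ fixGen g) : g.symm v ∈ fixGen g := by
  rw [fixGen, LinearMap.mem_ker] at hv ⊢
  apply g.injective
  rw [delta_pow_comm, g.apply_symm_apply, hv, map_zero]

/-- The two components are orthogonal. -/
theorem form_moveGen_fixGen (ω : V →ₗ[F] V →ₗ[F] F) (g : V ≃ₗ[F] V)
    (hg : ∀ u v, ω (g u) (g v) = ω u v) {x y : V} (hx : x ∈ moveGen g) (hy : y ∈ fixGen g) :
    ω x y = 0 := by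
  have key : ∀ (j : ℕ) (u v : V),
      ω ((delta g ^ j) u) ((fun w => g w)^[j] v) = (-1) ^ j * ω u ((delta g ^ j) v) := by
    intro j
    induction j with
    | zero => intro u v; simp
    | succ j ih =>
      intro u v
      simp only [Function.iterate_succ_apply, pow_succ (delta g), Module.End.mul_apply]
      rw [ih, ← delta_pow_comm]
      simp only [delta_apply, map_sub, LinearMap.sub_apply, hg, ← delta_pow_comm]
      ring
  obtain ⟨u, rfl⟩ := hx
  have hiter : ∀ j, ∀ z ∈ fixGen g, ∃ z' ∈ fixGen g, (fun w => g w)^[j] z' = z := by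
    intro j
    induction j with
    | zero => exact fun z hz => ⟨z, hz, rfl⟩
    | succ j ih =>
      intro z hz
      obtain ⟨z', hz', he⟩ := ih _ (symm_mem_fixGen hz)
      refine ⟨z', hz', ?_⟩
      rw [Function.iterate_succ_apply', he]
      exact g.apply_symm_apply z
  obtain ⟨z', hz', rfl⟩ := hiter (finrank F V) y hy
  rw [key, show (delta g ^ finrank F V) z' = 0 from hz', map_zero, mul_zero]

/-- A `g`-invariant splitting into a unipotent and a fixed-point-free part is the Fitting splitting. -/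
theorem eq_fixGen_of_split (g : V ≃ₗ[F] V) (P Q : Submodule F V) (hc : P ⊔ Q = ⊤)
    (hQ : ∀ v ∈ Q, g v ∈ Q) (hnil : ∀ v ∈ P, ∃ j, (delta g ^ j) v = 0)
    (hfree : ∀ v ∈ Q, g v = v → v = 0) : fixGen g = P ∧ moveGen g = Q := by
  set n := finrank F V
  have hPle : P ≤ fixGen g := fun v hv => by
    obtain ⟨j, hj⟩ := hnil v hv
    exact Module.End.ker_pow_le_ker_pow_finrank (delta g) j (LinearMap.mem_ker.2 hj)
  have hd : ∀ v ∈ Q, delta g v ∈ Q := fun v hv => by rw [delta_apply]; exact sub_mem (hQ v hv) hv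
  let R : Q →ₗ[F] Q := (delta g).restrict hd
  have hR : Function.Injective R := (injective_iff_map_eq_zero R).2 fun v hv =>
    Subtype.ext (hfree v v.2 (sub_eq_zero.1 (congrArg Subtype.val hv)))
  have hRn : ∀ j, ∀ v : Q, ((R ^ j) v : V) = (delta g ^ j) (v : V) := by
    intro j
    induction j with
    | zero => intro v; rfl
    | succ j ih =>
      intro v
      rw [pow_succ', Module.End.mul_apply, pow_succ', Module.End.mul_apply, ← ih]
      rfl
  have hRni : Function.Injective (R ^ n) := by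
    rw [Module.End.coe_pow]; exact hR.iterate n
  have hQle : Q ≤ moveGen g := fun v hv => by
    obtain ⟨w, hw⟩ := LinearMap.injective_iff_surjective.1 hRni ⟨v, hv⟩
    exact ⟨w, by rw [← hRn, hw]⟩
  constructor
  · refine le_antisymm (fun v hv => ?_) hPle
    obtain ⟨p, hp, r, hr, rfl⟩ := Submodule.mem_sup.1 (show v ∈ P ⊔ Q by rw [hc]; trivial)
    have h1 : (delta g ^ n) r = 0 := by
      have := LinearMap.mem_ker.1 hv
      rwa [map_add, LinearMap.mem_ker.1 (hPle hp), zero_add] at this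
    have h2 : (⟨r, hr⟩ : Q) = 0 := hRni (Subtype.ext (by rw [hRn, map_zero]; exact h1))
    rw [show r = 0 from congrArg Subtype.val h2, add_zero]
    exact hp
  · refine le_antisymm ?_ hQle
    rintro _ ⟨v, rfl⟩
    obtain ⟨p, hp, r, hr, rfl⟩ := Submodule.mem_sup.1 (show v ∈ P ⊔ Q by rw [hc]; trivial)
    rw [map_add, LinearMap.mem_ker.1 (hPle hp), zero_add, ← hRn n ⟨r, hr⟩]
    exact ((R ^ n) ⟨r, hr⟩).2

/-- The standard space. -/
abbrev StdSp (k : ℕ) (F : Type*) : Type _ := Fin k ⊕ Fin k → F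

/-- Unipotent isometries. -/
abbrev UnipSet (F : Type*) [Field F] (k : ℕ) : Type _ :=
  {g : formIsoms (sympBilin k F) // IsNilpotent (delta g.1)}

/-- Isometries without fixed vector. -/
abbrev FreeSet (F : Type*) [Field F] (k : ℕ) : Type _ :=
  {g : formIsoms (sympBilin k F) // ∀ v, g.1 v = v → v = 0}

/-- Orthogonal sum of two standard forms. -/
noncomputable def prodForm (F : Type*) [Field F] (k l : ℕ) :
    (StdSp k F × StdSp l F) →ₗ[F] (StdSp k F × StdSp l F) →ₗ[F] F :=
  (sympBilin k F).compl₁₂ (LinearMap.fst F _ _) (LinearMap.fst F _ _) +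
    (sympBilin l F).compl₁₂ (LinearMap.snd F _ _) (LinearMap.snd F _ _)

@[simp] theorem prodForm_apply {k l : ℕ} (x y : StdSp k F × StdSp l F) :
    prodForm F k l x y = sympBilin k F x.1 y.1 + sympBilin l F x.2 y.2 := rfl

/-- Isometries between two forms. -/
abbrev IsoSet {V' : Type*} [AddCommGroup V'] [Module F V'] (B : V →ₗ[F] V →ₗ[F] F)
    (B' : V' →ₗ[F] V' →ₗ[F] F) : Type _ :=
  {e : V ≃ₗ[F] V' // ∀ x y, B' (e x) (e y) = B x y}

omit [FiniteDimensional F V] in
theorem card_isoSet {V' : Type*} [AddCommGroup V'] [Module F V'] (B : V →ₗ[F] V →ₗ[F] F)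
    (B' : V' →ₗ[F] V' →ₗ[F] F) (h : Nonempty (IsoSet B B')) :
    Nat.card (IsoSet B B') = Nat.card (formIsoms B) := by
  obtain ⟨e⟩ := h
  refine Nat.card_congr
    { toFun := fun f => ⟨f.1.trans e.1.symm, fun x y => ?_⟩
      invFun := fun g => ⟨g.1.trans e.1, fun x y => ?_⟩
      left_inv := fun f => Subtype.ext (LinearEquiv.ext fun x => by simp)
      right_inv := fun g => Subtype.ext (LinearEquiv.ext fun x => by simp) }
  · show B (e.1.symm (f.1 x)) (e.1.symm (f.1 y)) = B x y
    rw [← e.2, e.1.apply_symm_apply, e.1.apply_symm_apply, f.2]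
  · show B' (e.1 (g.1 x)) (e.1 (g.1 y)) = B x y
    rw [e.2]; exact g.2 x y

theorem prodForm_self (k l : ℕ) (v : StdSp k F × StdSp l F) : prodForm F k l v v = 0 := by
  simp [sympBilin_self]

theorem prodForm_sep (k l : ℕ) (x : StdSp k F × StdSp l F) (hx : ∀ y, prodForm F k l x y = 0) :
    x = 0 :=
  Prod.ext (sympBilin_sep _ fun y => by simpa using hx (y, 0))
    (sympBilin_sep _ fun y => by simpa using hx (0, y))

variable [Fintype F]

/-- The main bijection, as an identity of cardinals. -/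
theorem card_type_eq (k l : ℕ) :
    Nat.card (formIsoms (sympBilin (k + l) F)) * (Nat.card (UnipSet F k) * Nat.card (FreeSet F l)) =
      Nat.card {g : formIsoms (sympBilin (k + l) F) // finrank F (fixGen g.1) = 2 * k} *
        (Nat.card (formIsoms (sympBilin k F)) * Nat.card (formIsoms (sympBilin l F))) := by
  classical
  set ω := sympBilin (k + l) F with hω
  have hA : ∀ v, ω v v = 0 := sympBilin_self
  have hB := sympBilin_sep (m := k + l) (F := F)
  have hdim : ∀ j, finrank F (StdSp j F) = 2 * j := fun j => by simp; omega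
  have hnonempty : Nonempty (IsoSet (prodForm F k l) ω) := by
    obtain ⟨e, he⟩ := exists_symp_isometry (2 * (k + l)) (prodForm F k l) ω (prodForm_self k l)
      (prodForm_sep k l) hA hB (by rw [finrank_prod, hdim, hdim]; ring) (hdim _)
    exact ⟨⟨e, he⟩⟩
  have hiso : Nat.card (IsoSet (prodForm F k l) ω) = Nat.card (formIsoms ω) := by
    rw [card_isoSet _ _ hnonempty]
    obtain ⟨e⟩ := hnonempty
    exact CfsgLib.Classical.card_formIsoms_congr _ _ e.1 e.2
  haveI : Finite (StdSp k F) := Module.finite_of_finite F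
  haveI : Finite (StdSp l F) := Module.finite_of_finite F
  haveI : Finite (StdSp (k + l) F) := Module.finite_of_finite F
  haveI : Finite (StdSp (k + l) F ≃ₗ[F] StdSp (k + l) F) :=
    Finite.of_injective (fun g => (g : StdSp (k + l) F → StdSp (k + l) F)) DFunLike.coe_injective
  haveI : Finite ((StdSp k F × StdSp l F) ≃ₗ[F] StdSp (k + l) F) :=
    Finite.of_injective (fun e => (e : StdSp k F × StdSp l F → StdSp (k + l) F)) DFunLike.coe_injective
  let T := {g : formIsoms ω // finrank F (fixGen g.1) = 2 * k}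
  letI : Fintype T := Fintype.ofFinite T
  let Y := Σ g : T, {Φ : IsoSet (prodForm F k l) ω //
    (∀ x, Φ.1 (x, 0) ∈ fixGen g.1.1) ∧ ∀ y, Φ.1 (0, y) ∈ moveGen g.1.1}
  -- the bijection
  let act : IsoSet (prodForm F k l) ω → UnipSet F k → FreeSet F l →
      StdSp (k + l) F ≃ₗ[F] StdSp (k + l) F := fun Φ a b =>
    (Φ.1.symm.trans (a.1.1.prodCongr b.1.1)).trans Φ.1
  have hact : ∀ Φ a b x y, act Φ a b (Φ.1 (x, y)) = Φ.1 (a.1.1 x, b.1.1 y) := fun Φ a b x y => by
    simp [act]
  have hactmem : ∀ Φ a b, act Φ a b ∈ formIsoms ω := fun Φ a b u v => by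
    obtain ⟨⟨x, y⟩, rfl⟩ := Φ.1.surjective u
    obtain ⟨⟨x', y'⟩, rfl⟩ := Φ.1.surjective v
    rw [hact, hact, Φ.2, Φ.2, prodForm_apply, prodForm_apply, a.1.2 x x', b.1.2 y y']
  have hpow : ∀ Φ a b j x, (delta (act Φ a b) ^ j) (Φ.1 (x, 0)) = Φ.1 ((delta a.1.1 ^ j) x, 0) := by
    intro Φ a b j
    induction j with
    | zero => intro x; rfl
    | succ j ih =>
      intro x
      rw [pow_succ', Module.End.mul_apply, ih, pow_succ', Module.End.mul_apply, delta_apply, hact,
        delta_apply, map_zero, ← map_sub, Prod.mk_sub_mk, sub_zero]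
  have hsplit : ∀ Φ a b, fixGen (act Φ a b) = LinearMap.range (Φ.1.toLinearMap.comp (LinearMap.inl F _ _)) ∧
      moveGen (act Φ a b) = LinearMap.range (Φ.1.toLinearMap.comp (LinearMap.inr F _ _)) := by
    intro Φ a b
    refine eq_fixGen_of_split _ _ _ ?_ ?_ ?_ ?_
    · refine eq_top_iff.2 fun v _ => ?_
      obtain ⟨⟨x, y⟩, rfl⟩ := Φ.1.surjective v
      rw [show ((x, y) : StdSp k F × StdSp l F) = (x, 0) + (0, y) by simp, map_add]
      exact Submodule.add_mem_sup ⟨x, rfl⟩ ⟨y, rfl⟩
    · rintro _ ⟨y, rfl⟩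
      exact ⟨b.1.1 y, by simp [hact]⟩
    · rintro _ ⟨x, rfl⟩
      obtain ⟨j, hj⟩ := a.2
      exact ⟨j, by
        show (delta (act Φ a b) ^ j) (Φ.1 (x, 0)) = 0
        rw [hpow, hj]; simp⟩
    · rintro _ ⟨y, rfl⟩ hy
      change act Φ a b (Φ.1 (0, y)) = Φ.1 (0, y) at hy
      rw [hact, map_zero] at hy
      have := b.2 y (congrArg Prod.snd (Φ.1.injective hy))
      simp [this]
  have hrank : ∀ Φ a b, finrank F (fixGen (act Φ a b)) = 2 * k := fun Φ a b => by
    rw [(hsplit Φ a b).1, LinearMap.finrank_range_of_inj, hdim]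
    exact Φ.1.injective.comp LinearMap.inl_injective
  have e1 : IsoSet (prodForm F k l) ω × (UnipSet F k × FreeSet F l) ≃ Y := by
    refine Equiv.ofBijective (fun p => ⟨⟨⟨act p.1 p.2.1 p.2.2, hactmem _ _ _⟩, hrank _ _ _⟩, p.1,
      fun x => by rw [(hsplit _ _ _).1]; exact ⟨x, rfl⟩,
      fun y => by rw [(hsplit _ _ _).2]; exact ⟨y, rfl⟩⟩) ⟨?_, ?_⟩
    · rintro ⟨Φ, a, b⟩ ⟨Φ', a', b'⟩ h
      have hg : act Φ a b = act Φ' a' b' := congrArg (fun z : Y => z.1.1.1) h
      have hΦ : Φ = Φ' := congrArg (fun z : Y => z.2.1) h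
      subst hΦ
      have hab : ∀ x y, (a.1.1 x, b.1.1 y) = (a'.1.1 x, b'.1.1 y) := fun x y =>
        Φ.1.injective (by rw [← hact, ← hact, hg])
      have ha : a = a' := Subtype.ext (Subtype.ext (LinearEquiv.ext fun x => congrArg Prod.fst (hab x 0)))
      have hb : b = b' := Subtype.ext (Subtype.ext (LinearEquiv.ext fun y => congrArg Prod.snd (hab 0 y)))
      rw [ha, hb]
    · rintro ⟨⟨⟨g, hg⟩, hk⟩, Φ, hΦ1, hΦ2⟩
      simp only at hΦ1 hΦ2
      have hc := isCompl_fixGen g
      have hr1 : LinearMap.range (Φ.1.toLinearMap.comp (LinearMap.inl F _ _)) = fixGen g := by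
        refine Submodule.eq_of_le_of_finrank_eq (by rintro _ ⟨x, rfl⟩; exact hΦ1 x) ?_
        rw [LinearMap.finrank_range_of_inj (f := Φ.1.toLinearMap.comp (LinearMap.inl F _ _))
          (Φ.1.injective.comp LinearMap.inl_injective), hdim, hk]
      have hr2 : LinearMap.range (Φ.1.toLinearMap.comp (LinearMap.inr F _ _)) = moveGen g := by
        refine Submodule.eq_of_le_of_finrank_eq (by rintro _ ⟨x, rfl⟩; exact hΦ2 x) ?_
        rw [LinearMap.finrank_range_of_inj (f := Φ.1.toLinearMap.comp (LinearMap.inr F _ _))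
          (Φ.1.injective.comp LinearMap.inr_injective), hdim]
        have := Submodule.finrank_add_eq_of_isCompl hc
        rw [hk, hdim] at this
        omega
      let α : StdSp k F →ₗ[F] StdSp k F := (LinearMap.fst F (StdSp k F) (StdSp l F)).comp
        ((Φ.1.symm.toLinearMap.comp (g : StdSp (k + l) F →ₗ[F] _)).comp
          (Φ.1.toLinearMap.comp (LinearMap.inl F (StdSp k F) (StdSp l F))))
      let β : StdSp l F →ₗ[F] StdSp l F := (LinearMap.snd F (StdSp k F) (StdSp l F)).comp
        ((Φ.1.symm.toLinearMap.comp (g : StdSp (k + l) F →ₗ[F] _)).comp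
          (Φ.1.toLinearMap.comp (LinearMap.inr F (StdSp k F) (StdSp l F))))
      have hα : ∀ x, g (Φ.1 (x, 0)) = Φ.1 (α x, 0) := fun x => by
        obtain ⟨x', hx'⟩ : g (Φ.1 (x, 0)) ∈ LinearMap.range (Φ.1.toLinearMap.comp (LinearMap.inl F _ _)) :=
          hr1.symm ▸ apply_mem_fixGen (hΦ1 x)
        have : α x = x' := by
          show (Φ.1.symm (g (Φ.1 (x, 0)))).1 = x'
          rw [← hx']; simp
        rw [this, ← hx']; rfl
      have hβ : ∀ y, g (Φ.1 (0, y)) = Φ.1 (0, β y) := fun y => by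
        obtain ⟨y', hy'⟩ : g (Φ.1 (0, y)) ∈ LinearMap.range (Φ.1.toLinearMap.comp (LinearMap.inr F _ _)) :=
          hr2.symm ▸ apply_mem_moveGen (hΦ2 y)
        have : β y = y' := by
          show (Φ.1.symm (g (Φ.1 (0, y)))).2 = y'
          rw [← hy']; simp
        rw [this, ← hy']; rfl
      obtain ⟨a, ha, haα⟩ := exists_mem_formIsoms (sympBilin k F) sympBilin_sep α (fun x x' => by
        have h := hg (Φ.1 (x, 0)) (Φ.1 (x', 0))
        rw [hα, hα, Φ.2, Φ.2] at h
        simpa using h)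
      obtain ⟨b, hb, hbβ⟩ := exists_mem_formIsoms (sympBilin l F) sympBilin_sep β (fun x x' => by
        have h := hg (Φ.1 (0, x)) (Φ.1 (0, x'))
        rw [hβ, hβ, Φ.2, Φ.2] at h
        simpa using h)
      have hpow' : ∀ j x, (delta g ^ j) (Φ.1 (x, 0)) = Φ.1 ((delta a ^ j) x, 0) := by
        intro j
        induction j with
        | zero => intro x; rfl
        | succ j ih =>
          intro x
          rw [pow_succ', Module.End.mul_apply, ih, pow_succ', Module.End.mul_apply, delta_apply, hα,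
            delta_apply, haα, ← map_sub, Prod.mk_sub_mk, sub_zero]
      have hanil : IsNilpotent (delta a) := ⟨finrank F (StdSp (k + l) F), LinearMap.ext fun x => by
        have h := LinearMap.mem_ker.1 (hΦ1 x)
        rw [hpow', map_eq_zero_iff _ Φ.1.injective] at h
        exact congrArg Prod.fst h⟩
      have hbfree : ∀ y, b y = y → y = 0 := fun y hy => by
        have h1 : Φ.1 (0, y) ∈ fixGen g := by
          refine Module.End.ker_pow_le_ker_pow_finrank (delta g) 1 ?_
          rw [LinearMap.mem_ker, pow_one, delta_apply, hβ, ← hbβ, hy, sub_self]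
        have h2 := Submodule.disjoint_def.1 hc.disjoint _ h1 (hΦ2 y)
        rw [map_eq_zero_iff _ Φ.1.injective] at h2
        exact congrArg Prod.snd h2
      have hgeq : act Φ ⟨⟨a, ha⟩, hanil⟩ ⟨⟨b, hb⟩, hbfree⟩ = g := LinearEquiv.ext fun v => by
        obtain ⟨⟨x, y⟩, rfl⟩ := Φ.1.surjective v
        rw [hact]
        rw [show ((x, y) : StdSp k F × StdSp l F) = (x, 0) + (0, y) by simp, map_add, map_add g, hα,
          hβ, ← map_add]
        simp [haα, hbβ]
      refine ⟨(Φ, ⟨⟨a, ha⟩, hanil⟩, ⟨⟨b, hb⟩, hbfree⟩), ?_⟩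
      subst hgeq
      rfl
  have hfib : ∀ g : T, Nat.card {Φ : IsoSet (prodForm F k l) ω //
      (∀ x, Φ.1 (x, 0) ∈ fixGen g.1.1) ∧ ∀ y, Φ.1 (0, y) ∈ moveGen g.1.1} =
        Nat.card (formIsoms (sympBilin k F)) * Nat.card (formIsoms (sympBilin l F)) := by
    rintro ⟨⟨g, hg⟩, hk⟩
    simp only
    have hc := isCompl_fixGen g
    have horth : ∀ u ∈ fixGen g, ∀ v ∈ moveGen g, ω u v = 0 ∧ ω v u = 0 := fun u hu v hv => by
      have := form_moveGen_fixGen ω g hg hv hu
      exact ⟨by rw [alt_swap ω hA v u, this, neg_zero], this⟩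
    let ωA := ω.compl₁₂ (fixGen g).subtype (fixGen g).subtype
    let ωR := ω.compl₁₂ (moveGen g).subtype (moveGen g).subtype
    have hsepA : ∀ x, (∀ y, ωA x y = 0) → x = 0 := fun x hx => Subtype.ext (hB _ fun y => by
      obtain ⟨u, hu, v, hv, rfl⟩ := Submodule.mem_sup.1
        (show y ∈ fixGen g ⊔ moveGen g by rw [hc.sup_eq_top]; trivial)
      have h1 : ω (x : StdSp (k + l) F) u = 0 := hx ⟨u, hu⟩
      rw [map_add, h1, (horth _ x.2 v hv).1, add_zero])
    have hsepR : ∀ x, (∀ y, ωR x y = 0) → x = 0 := fun x hx => Subtype.ext (hB _ fun y => by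
      obtain ⟨u, hu, v, hv, rfl⟩ := Submodule.mem_sup.1
        (show y ∈ fixGen g ⊔ moveGen g by rw [hc.sup_eq_top]; trivial)
      have h1 : ω (x : StdSp (k + l) F) v = 0 := hx ⟨v, hv⟩
      rw [map_add, h1, (horth u hu _ x.2).2, add_zero])
    have hdR : finrank F (moveGen g) = 2 * l := by
      have := Submodule.finrank_add_eq_of_isCompl hc
      rw [hk, hdim] at this
      omega
    obtain ⟨eA, heA⟩ := exists_symp_isometry (2 * k) (sympBilin k F) ωA sympBilin_self sympBilin_sep
      (fun v => hA v) hsepA (hdim k) hk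
    obtain ⟨eR, heR⟩ := exists_symp_isometry (2 * l) (sympBilin l F) ωR sympBilin_self sympBilin_sep
      (fun v => hA v) hsepR (hdim l) hdR
    rw [← card_isoSet (sympBilin k F) ωA ⟨⟨eA, heA⟩⟩, ← card_isoSet (sympBilin l F) ωR ⟨⟨eR, heR⟩⟩,
      ← Nat.card_prod]
    let mkA : {Φ : IsoSet (prodForm F k l) ω //
        (∀ x, Φ.1 (x, 0) ∈ fixGen g) ∧ ∀ y, Φ.1 (0, y) ∈ moveGen g} → IsoSet (sympBilin k F) ωA :=
      fun Φ => ⟨LinearEquiv.ofBijective
        ((Φ.1.1.toLinearMap.comp (LinearMap.inl F _ _)).codRestrict (fixGen g) Φ.2.1) (by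
          have hi : Function.Injective ((Φ.1.1.toLinearMap.comp (LinearMap.inl F _ _)).codRestrict
              (fixGen g) Φ.2.1) := fun a b h =>
            LinearMap.inl_injective (Φ.1.1.injective (congrArg Subtype.val h))
          exact ⟨hi, (LinearMap.injective_iff_surjective_of_finrank_eq_finrank
            ((hdim k).trans hk.symm)).1 hi⟩), fun x x' => by
          show ω (Φ.1.1 (x, 0)) (Φ.1.1 (x', 0)) = _
          simp [Φ.1.2]⟩
    let mkR : {Φ : IsoSet (prodForm F k l) ω //
        (∀ x, Φ.1 (x, 0) ∈ fixGen g) ∧ ∀ y, Φ.1 (0, y) ∈ moveGen g} → IsoSet (sympBilin l F) ωR :=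
      fun Φ => ⟨LinearEquiv.ofBijective
        ((Φ.1.1.toLinearMap.comp (LinearMap.inr F _ _)).codRestrict (moveGen g) Φ.2.2) (by
          have hi : Function.Injective ((Φ.1.1.toLinearMap.comp (LinearMap.inr F _ _)).codRestrict
              (moveGen g) Φ.2.2) := fun a b h =>
            LinearMap.inr_injective (Φ.1.1.injective (congrArg Subtype.val h))
          exact ⟨hi, (LinearMap.injective_iff_surjective_of_finrank_eq_finrank
            ((hdim l).trans hdR.symm)).1 hi⟩), fun x x' => by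
          show ω (Φ.1.1 (0, x)) (Φ.1.1 (0, x')) = _
          simp [Φ.1.2]⟩
    refine Nat.card_congr (Equiv.ofBijective (fun Φ => (mkA Φ, mkR Φ)) ⟨?_, ?_⟩)
    · intro Φ Φ' h
      have h1 : ∀ x, Φ.1.1 (x, 0) = Φ'.1.1 (x, 0) := fun x =>
        congrArg (fun p : IsoSet (sympBilin k F) ωA × IsoSet (sympBilin l F) ωR =>
          ((p.1.1 x : fixGen g) : StdSp (k + l) F)) h
      have h2 : ∀ y, Φ.1.1 (0, y) = Φ'.1.1 (0, y) := fun y =>
        congrArg (fun p : IsoSet (sympBilin k F) ωA × IsoSet (sympBilin l F) ωR =>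
          ((p.2.1 y : moveGen g) : StdSp (k + l) F)) h
      refine Subtype.ext (Subtype.ext (LinearEquiv.ext fun z => ?_))
      obtain ⟨x, y⟩ := z
      rw [show ((x, y) : StdSp k F × StdSp l F) = (x, 0) + (0, y) by simp, map_add, map_add, h1, h2]
    · rintro ⟨φ, ψ⟩
      let E : (StdSp k F × StdSp l F) ≃ₗ[F] StdSp (k + l) F :=
        (φ.1.prodCongr ψ.1).trans (Submodule.prodEquivOfIsCompl _ _ hc)
      have hE : ∀ x y, E (x, y) = (φ.1 x : StdSp (k + l) F) + (ψ.1 y : StdSp (k + l) F) :=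
        fun x y => by simp [E]
      refine ⟨⟨⟨E, fun z z' => ?_⟩, fun x => ?_, fun y => ?_⟩, ?_⟩
      · obtain ⟨x, y⟩ := z
        obtain ⟨x', y'⟩ := z'
        rw [hE, hE, prodForm_apply, ← φ.2, ← ψ.2]
        simp [ωA, ωR, (horth _ (φ.1 x).2 _ (ψ.1 y').2).1, (horth _ (φ.1 x').2 _ (ψ.1 y).2).2]
      · rw [hE]; simp
      · rw [hE]; simp
      · refine Prod.ext (Subtype.ext (LinearEquiv.ext fun x => Subtype.ext ?_))
          (Subtype.ext (LinearEquiv.ext fun y => Subtype.ext ?_))
        · show E (x, 0) = _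
          rw [hE]; simp
        · show E (0, y) = _
          rw [hE]; simp
  have hY : Nat.card Y = Nat.card T * (Nat.card (formIsoms (sympBilin k F)) *
      Nat.card (formIsoms (sympBilin l F))) := by
    rw [Nat.card_sigma, sum_congr rfl (fun g _ => hfib g), sum_const, smul_eq_mul, card_univ,
      Nat.card_eq_fintype_card (α := T)]
  rw [← hiso, ← Nat.card_prod, ← Nat.card_prod, Nat.card_congr e1, hY]

theorem even_finrank_fixGen (m : ℕ) (g : formIsoms (sympBilin m F)) :
    ∃ k, finrank F (fixGen g.1) = 2 * k := by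
  have hc := isCompl_fixGen g.1
  obtain ⟨k, hk, -⟩ := CfsgLib.Classical.card_formIsoms_alt_aux (finrank F (fixGen g.1))
    ((sympBilin m F).compl₁₂ (fixGen g.1).subtype (fixGen g.1).subtype) (fun v => sympBilin_self (v : StdSp m F))
    (fun x hx => Subtype.ext (sympBilin_sep _ fun y => by
      obtain ⟨u, hu, v, hv, rfl⟩ := Submodule.mem_sup.1
        (show y ∈ fixGen g.1 ⊔ moveGen g.1 by rw [hc.sup_eq_top]; trivial)
      have h1 : sympBilin m F (x : StdSp m F) u = 0 := hx ⟨u, hu⟩
      have h2 : sympBilin m F (x : StdSp m F) v = 0 := by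
        rw [sympBilin_swap, form_moveGen_fixGen (sympBilin m F) g.1 g.2 hv x.2, neg_zero]
      rw [map_add, h1, h2, add_zero])) rfl
  exact ⟨k, hk⟩

theorem card_unipSet_eq (m : ℕ) : (Nat.card (UnipSet F m) : ℚ) =
    (Fintype.card F : ℚ) ^ (2 * m ^ 2) := by
  classical
  set q := Fintype.card F with hq
  have hq1 : (1 : ℚ) < q := by exact_mod_cast Fintype.one_lt_card
  let G : ℕ → ℚ := fun n => Nat.card (formIsoms (sympBilin n F))
  have hG : ∀ n, G n = (q : ℚ) ^ (n ^ 2) * cFac q n := fun n => card_symplectic_cast n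
  have hG0 : ∀ n, G n ≠ 0 := fun n => by
    rw [hG]; exact mul_ne_zero (pow_ne_zero _ (by linarith)) (cFac_ne hq1 n)
  let v : ℕ → ℚ := fun n => (Nat.card (UnipSet F n) : ℚ) / G n
  have hv : ∀ n, ∑ p ∈ antidiagonal n, v p.1 * fCoef q p.2 = 1 := by
    intro n
    haveI : Finite (StdSp n F) := Module.finite_of_finite F
    haveI : Finite (StdSp n F ≃ₗ[F] StdSp n F) :=
      Finite.of_injective (fun g => (g : StdSp n F → StdSp n F)) DFunLike.coe_injective
    letI := Fintype.ofFinite (formIsoms (sympBilin n F))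
    have hpart : G n = ∑ k ∈ range (n + 1),
        (Nat.card {g : formIsoms (sympBilin n F) // finrank F (fixGen g.1) = 2 * k} : ℚ) := by
      have hk : ∀ g : formIsoms (sympBilin n F), finrank F (fixGen g.1) / 2 ∈ range (n + 1) := fun g => by
        obtain ⟨k, hk⟩ := even_finrank_fixGen n g
        have h1 := Submodule.finrank_le (fixGen g.1)
        have h2 : finrank F (Fin n ⊕ Fin n → F) = 2 * n := by simp; omega
        rw [mem_range]
        omega
      show (Nat.card (formIsoms (sympBilin n F)) : ℚ) = _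
      rw [Nat.card_eq_fintype_card, ← card_univ, card_eq_sum_card_fiberwise (fun g _ => hk g),
        Nat.cast_sum]
      refine sum_congr rfl fun k _ => ?_
      rw [Nat.card_eq_fintype_card, Fintype.card_subtype]
      congr 2
      ext g
      obtain ⟨j, hj⟩ := even_finrank_fixGen n g
      simp only [mem_filter, mem_univ, true_and, hj]
      omega
    rw [Nat.sum_antidiagonal_eq_sum_range_succ (fun i j => v i * fCoef q j)]
    refine mul_left_cancel₀ (hG0 n) ?_
    rw [mul_one, mul_sum]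
    refine (sum_congr rfl fun k hk => ?_).trans hpart.symm
    obtain ⟨l, rfl⟩ : ∃ l, n = k + l := ⟨n - k, by have := mem_range.1 hk; omega⟩
    have h := congrArg (fun x : ℕ => (x : ℚ)) (card_type_eq (F := F) k l)
    simp only [Nat.cast_mul, card_fixFree, ← hq] at h
    rw [Nat.add_sub_cancel_left]
    have h1 := hG0 k
    have h2 := hG0 l
    simp only [G, v] at h h1 h2 ⊢
    field_simp
    refine mul_right_cancel₀ h2 ?_
    linear_combination h
  have h := eq_uCoef hq1 hv m
  simp only [v] at h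
  rw [div_eq_iff (hG0 m), hG, uCoef] at h
  rw [h]
  have := cFac_ne hq1 m
  field_simp
  ring

end CfsgLib.KnownB.SpUnip
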