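import Mathlib

/-!
# Element orders modulo scalars in dimension three

A `3 × 3` matrix of determinant `1` whose eigenvalues are permuted by `x ↦ x^e` becomes scalar
after raising to one of five exponents.
-/

set_option autoImplicit false
set_option linter.unusedSectionVars false

namespace CfsgLib.KnownB.SpecThree

open Polynomial

variable {K : Type*} [Field K]

local notation "M3K" => Matrix (Fin 3) (Fin 3) K

theorem zpow_eq_one_of_dvd {x : K} {a b : ℤ} (h : x ^ a = 1) (hd : a ∣ b) : x ^ b = 1 := by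
  obtain ⟨c, rfl⟩ := hd
  rw [zpow_mul, h, one_zpow]

theorem pow_eq_pow_of_dvd {x y : K} {a : ℤ} {i : ℤ} {k : ℕ} (hx0 : x ≠ 0) (hx : x ^ a = 1)
    (hy : y = x ^ i) (hd : a ∣ (i - 1) * (k : ℤ)) : y ^ k = x ^ k := by
  have h : x ^ ((i - 1) * (k : ℤ)) = 1 := zpow_eq_one_of_dvd hx hd
  rw [hy, ← zpow_natCast (x ^ i), ← zpow_mul, ← zpow_natCast x k,
    show i * (k : ℤ) = (i - 1) * k + k by ring, zpow_add₀ hx0, h, one_mul]

/-- A matrix killed by the product over distinct roots, all with the same `k`-th power. -/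
theorem pow_eq_smul_of_aeval {ι : Type*} [Fintype ι] (A : M3K) (r : ι → K)
    (hr : Function.Injective r) (hA : aeval A (∏ i, (X - C (r i))) = 0) {k : ℕ} {c : K}
    (hc : ∀ i, r i ^ k = c) : A ^ k = c • 1 := by
  have hd : (∏ i, (X - C (r i))) ∣ X ^ k - C c :=
    Fintype.prod_dvd_of_coprime (pairwise_coprime_X_sub_C hr)
      (fun i => dvd_iff_isRoot.mpr (by simp [hc i]))
  obtain ⟨g, hg⟩ := hd
  have := congrArg (aeval A) hg
  rw [map_mul, hA, zero_mul, map_sub, map_pow, aeval_X, aeval_C, sub_eq_zero,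
    Algebra.algebraMap_eq_smul_one] at this
  exact this

theorem aeval_triple (A : M3K) (a b c : K) :
    aeval A ((X - C a) * (X - C b) * (X - C c)) = (A - a • 1) * (A - b • 1) * (A - c • 1) := by
  simp [Algebra.algebraMap_eq_smul_one]

theorem comm_sub (A : M3K) (x y : K) : Commute (A - x • 1) (A - y • 1) :=
  ((Commute.refl A).sub_right ((Commute.one_right A).smul_right y)).sub_left
    ((Commute.one_left _).smul_left x)

theorem inj_three {x y z : K} (hxy : x ≠ y) (hxz : x ≠ z) (hyz : y ≠ z) :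
    Function.Injective ![x, y, z] := by
  intro i j hij
  fin_cases i <;> fin_cases j <;> simp [hxy, hxy.symm, hxz, hxz.symm, hyz, hyz.symm] at hij <;> rfl

theorem inj_two {x y : K} (hxy : x ≠ y) : Function.Injective ![x, y] := by
  intro i j hij
  fin_cases i <;> fin_cases j <;> simp [hxy, hxy.symm] at hij <;> rfl

theorem exists_scalar_pow (p : ℕ) [Fact p.Prime] [CharP K p] (e : ℤ) {k1 k2 k3 k4 k5 : ℕ}
    (h1 : e - 1 ∣ (k1 : ℤ)) (h2a : e ^ 2 - 1 ∣ (e - 1) * k2) (h2b : e ^ 2 - 1 ∣ 3 * (k2 : ℤ))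
    (h3 : 1 + e + e ^ 2 ∣ (e - 1) * k3) (h4 : e - 1 ∣ 3 * (k4 : ℤ)) (h4p : p ∣ k4)
    (h5 : ∃ j, 3 ≤ p ^ j ∧ p ^ j ∣ k5) (he : e ≠ 0)
    (A : M3K) (hdet : A.det = 1) {a b c : K}
    (hchar : A.charpoly = (X - C a) * (X - C b) * (X - C c))
    (hinv : ({a, b, c} : Multiset K).map (· ^ e) = {a, b, c}) :
    ∃ k, (k = k1 ∨ k = k2 ∨ k = k3 ∨ k = k4 ∨ k = k5) ∧ ∃ t : K, A ^ k = t • 1 := by
  classical
  have hprod : a * b * c = 1 := by
    have h := Matrix.det_eq_sign_charpoly_coeff A
    rw [hdet, hchar] at h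
    simp [coeff_zero_eq_eval_zero] at h
    linear_combination -h
  have hA : (A - a • 1) * (A - b • 1) * (A - c • 1) = 0 := by
    rw [← aeval_triple, ← hchar, Matrix.aeval_self_charpoly]
  obtain ⟨hc0, hab⟩ : c ≠ 0 ∧ a * b ≠ 0 := ⟨right_ne_zero_of_mul_eq_one hprod, left_ne_zero_of_mul_eq_one hprod⟩
  obtain ⟨ha0, hb0⟩ : a ≠ 0 ∧ b ≠ 0 := ⟨left_ne_zero_of_mul hab, right_ne_zero_of_mul hab⟩
  have hpos : (0 : K) ^ e = 0 := zero_zpow e he
  -- the images of the roots
  have hmem : ∀ x ∈ ({a, b, c} : Multiset K), x ^ e ∈ ({a, b, c} : Multiset K) := fun x hx => by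
    have := Multiset.mem_map_of_mem (· ^ e) hx
    rwa [hinv] at this
  by_cases hrep : a ≠ b ∧ a ≠ c ∧ b ≠ c
  · obtain ⟨nab, nac, nbc⟩ := hrep
    have hnd : (({a, b, c} : Multiset K).map (· ^ e)).Nodup := by
      rw [hinv]; simp [nab, nac, nbc]
    have hinj : ∀ x ∈ ({a, b, c} : Multiset K), ∀ y ∈ ({a, b, c} : Multiset K), x ^ e = y ^ e → x = y :=
      fun x hx y hy => Multiset.inj_on_of_nodup_map hnd x hx y hy
    have dab : a ^ e ≠ b ^ e := fun h => nab (hinj a (by simp) b (by simp) h)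
    have dac : a ^ e ≠ c ^ e := fun h => nac (hinj a (by simp) c (by simp) h)
    have dbc : b ^ e ≠ c ^ e := fun h => nbc (hinj b (by simp) c (by simp) h)
    have ma := hmem a (by simp)
    have mb := hmem b (by simp)
    have mc := hmem c (by simp)
    simp only [Multiset.insert_eq_cons, Multiset.mem_cons, Multiset.mem_singleton] at ma mb mc
    -- the three shapes
    have fin : ∀ x y z : K, ∀ k : ℕ, x ≠ y → x ≠ z → y ≠ z →
        (A - x • 1) * (A - y • 1) * (A - z • 1) = 0 → y ^ k = x ^ k → z ^ k = x ^ k →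
        ∃ t : K, A ^ k = t • 1 := by
      intro x y z k hxy hxz hyz hA' hy hz
      refine ⟨x ^ k, pow_eq_smul_of_aeval A ![x, y, z] (inj_three hxy hxz hyz) ?_ ?_⟩
      · rw [Fin.prod_univ_three]
        exact (aeval_triple A x y z).trans hA'
      · intro i; fin_cases i <;> simp [hy, hz]
    have hcm := comm_sub A
    -- three fixed roots
    have id3 : a ^ e = a → b ^ e = b → c ^ e = c →
        ∃ k, (k = k1 ∨ k = k2 ∨ k = k3 ∨ k = k4 ∨ k = k5) ∧ ∃ t : K, A ^ k = t • 1 := by
      intro e1 e2 e3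
      have key : ∀ x : K, x ≠ 0 → x ^ e = x → x ^ k1 = 1 := fun x hx hxe => by
        have : x ^ (e - 1) = 1 := by rw [zpow_sub₀ hx, zpow_one, hxe, div_self hx]
        simpa using zpow_eq_one_of_dvd this h1
      exact ⟨k1, Or.inl rfl, fin a b c k1 nab nac nbc hA (by rw [key a ha0 e1, key b hb0 e2])
        (by rw [key a ha0 e1, key c hc0 e3])⟩
    -- `x ↦ y ↦ z ↦ x`
    have cyc : ∀ x y z : K, x * y * z = 1 → x ≠ y → x ≠ z → y ≠ z →
        (A - x • 1) * (A - y • 1) * (A - z • 1) = 0 → x ^ e = y → y ^ e = z →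
        ∃ k, (k = k1 ∨ k = k2 ∨ k = k3 ∨ k = k4 ∨ k = k5) ∧ ∃ t : K, A ^ k = t • 1 := by
      intro x y z hp' hxy hxz hyz hA' hy hz
      have hx0 : x ≠ 0 := left_ne_zero_of_mul (left_ne_zero_of_mul_eq_one hp')
      have hz' : z = x ^ (e ^ 2) := by rw [← hz, ← hy, ← zpow_mul, sq]
      have hone : x ^ (1 + e + e ^ 2) = 1 := by
        rw [zpow_add₀ hx0, zpow_add₀ hx0, zpow_one, hy, ← hz', hp']
      refine ⟨k3, Or.inr (Or.inr (Or.inl rfl)), fin x y z k3 hxy hxz hyz hA'
        (pow_eq_pow_of_dvd hx0 hone hy.symm h3) (pow_eq_pow_of_dvd hx0 hone hz' ?_)⟩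
      rw [show (e ^ 2 - 1) * (k3 : ℤ) = (e + 1) * ((e - 1) * k3) by ring]
      exact h3.mul_left _
    -- `x ↔ y`
    have swp : ∀ x y z : K, x * y * z = 1 → x ≠ y → x ≠ z → y ≠ z →
        (A - x • 1) * (A - y • 1) * (A - z • 1) = 0 → x ^ e = y → y ^ e = x →
        ∃ k, (k = k1 ∨ k = k2 ∨ k = k3 ∨ k = k4 ∨ k = k5) ∧ ∃ t : K, A ^ k = t • 1 := by
      intro x y z hp' hxy hxz hyz hA' hy hx
      have hx0 : x ≠ 0 := left_ne_zero_of_mul (left_ne_zero_of_mul_eq_one hp')
      have hone : x ^ (e ^ 2 - 1) = 1 := by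
        rw [zpow_sub₀ hx0, sq, zpow_mul, hy, hx, zpow_one, div_self hx0]
      have hz' : z = x ^ (-(1 + e)) := by
        rw [zpow_neg, zpow_add₀ hx0, zpow_one, hy]
        exact eq_inv_of_mul_eq_one_right hp'
      refine ⟨k2, Or.inr (Or.inl rfl), fin x y z k2 hxy hxz hyz hA'
        (pow_eq_pow_of_dvd hx0 hone hy.symm h2a) (pow_eq_pow_of_dvd hx0 hone hz' ?_)⟩
      rw [show (-(1 + e) - 1) * (k2 : ℤ) = -((e - 1) * k2) - 3 * k2 by ring]
      exact (h2a.neg_right).sub h2b
    have r1 : (A - a • 1) * (A - c • 1) * (A - b • 1) = 0 := by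
      rw [mul_assoc, (hcm c b).eq, ← mul_assoc, hA]
    have r2 : (A - b • 1) * (A - c • 1) * (A - a • 1) = 0 := by
      rw [((hcm b a).mul_left (hcm c a)).eq, ← mul_assoc, hA]
    rcases ma with e1 | e1 | e1 <;> rcases mb with e2 | e2 | e2 <;> rcases mc with e3 | e3 | e3 <;>
      first
        | exact absurd (e1.trans e2.symm) dab
        | exact absurd (e1.trans e3.symm) dac
        | exact absurd (e2.trans e3.symm) dbc
        | exact id3 e1 e2 e3
        | exact cyc a b c hprod nab nac nbc hA e1 e2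
        | exact cyc a c b (by linear_combination hprod) nac nab nbc.symm r1 e1 e3
        | exact swp a b c hprod nab nac nbc hA e1 e2
        | exact swp a c b (by linear_combination hprod) nac nab nbc.symm r1 e1 e3
        | exact swp b c a (by linear_combination hprod) nbc nab.symm nac.symm r2 e2 e3
  · -- a repeated root is fixed
    obtain ⟨l, μ, hlm, hA', hset⟩ : ∃ l μ : K, l * l * μ = 1 ∧
        (A - l • 1) * (A - l • 1) * (A - μ • 1) = 0 ∧
        ({a, b, c} : Multiset K) = {l, l, μ} := by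
      simp only [not_and_or, not_not] at hrep
      rcases hrep with h | h | h
      · subst h; exact ⟨a, c, hprod, hA, rfl⟩
      · subst h
        refine ⟨a, b, by linear_combination hprod, ?_, ?_⟩
        · rw [mul_assoc, (comm_sub A a b).eq, ← mul_assoc, hA]
        · simp only [Multiset.insert_eq_cons]; exact congrArg _ (Multiset.cons_swap _ _ _)
      · subst h
        refine ⟨b, a, by linear_combination hprod, ?_, ?_⟩
        · rw [((comm_sub A b a).mul_left (comm_sub A b a)).eq, ← mul_assoc, hA]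
        · simp only [Multiset.insert_eq_cons]
          rw [Multiset.cons_swap a b]
          exact congrArg _ (Multiset.cons_swap _ _ _)
    rw [hset] at hinv
    have hl0 : l ≠ 0 := left_ne_zero_of_mul (left_ne_zero_of_mul_eq_one hlm)
    have hl : l ^ e = l := by
      by_contra hne
      have h := congrArg (Multiset.count (l ^ e)) hinv
      simp only [Multiset.insert_eq_cons, Multiset.map_cons, Multiset.map_singleton,
        Multiset.count_cons_self, Multiset.count_cons, Multiset.count_singleton, if_neg hne] at h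
      split_ifs at h <;> omega
    have hl1 : l ^ (e - 1) = 1 := by rw [zpow_sub₀ hl0, zpow_one, hl, div_self hl0]
    have : CharP M3K p := charP_of_injective_algebraMap (algebraMap K M3K).injective p
    have hfrob : ∀ (x : K) (n : ℕ), (A - x • 1) ^ p ^ n = A ^ p ^ n - (x ^ p ^ n) • (1 : M3K) := fun x n => by
      rw [sub_pow_char_pow_of_commute _ _ ((Commute.one_right A).smul_right x), _root_.smul_pow, one_pow]
    by_cases hl3 : μ = l
    · subst hl3
      obtain ⟨j, hj, hjd⟩ := h5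
      refine ⟨k5, by tauto, ?_⟩
      obtain ⟨t, ht⟩ := hjd
      refine ⟨μ ^ k5, ?_⟩
      have h0 : (A - μ • 1) ^ p ^ j = 0 := pow_eq_zero_of_le hj (by rw [pow_three, ← mul_assoc, hA'])
      rw [hfrob, sub_eq_zero] at h0
      rw [ht, pow_mul, h0, _root_.smul_pow, one_pow, ← pow_mul]
    · refine ⟨k4, by tauto, l ^ k4, ?_⟩
      obtain ⟨t, ht⟩ := h4p
      have h0 : (A ^ p - (l ^ p) • 1) * (A ^ p - (μ ^ p) • 1) = 0 := by
        have f1 := hfrob l 1
        have f2 := hfrob μ 1
        rw [pow_one] at f1 f2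
        rw [← f1, ← f2]
        obtain ⟨s, hs⟩ : ∃ s, p = 2 + s := ⟨p - 2, by have := (Fact.out : p.Prime).two_le; omega⟩
        have hc2 := comm_sub A l μ
        have : (A - l • 1) ^ p * (A - μ • 1) ^ p =
            ((A - l • 1) * (A - l • 1) * (A - μ • 1)) * ((A - l • 1) ^ s * (A - μ • 1) ^ (s + 1)) := by
          rw [hs, pow_add, show 2 + s = 1 + (s + 1) by ring, pow_add (A - μ • 1), pow_one, sq,
            mul_assoc _ (A - μ • 1), ← mul_assoc (A - μ • 1), ← (hc2.pow_left s).eq]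
          simp only [mul_assoc]
        rw [this, hA', zero_mul]
      have hne : l ^ p ≠ μ ^ p := fun h => hl3 (frobenius_inj K p h).symm
      have h3k : (l ^ p) ^ t = (μ ^ p) ^ t := by
        have hμ : μ = l ^ (-2 : ℤ) := by
          rw [show (-2 : ℤ) = -((1 : ℤ) + 1) by norm_num, zpow_neg, zpow_add₀ hl0, zpow_one]
          exact eq_inv_of_mul_eq_one_right hlm
        rw [← pow_mul, ← pow_mul, ← ht]
        exact (pow_eq_pow_of_dvd hl0 hl1 hμ (by
          rw [show (-2 - 1 : ℤ) * k4 = -(3 * k4) by ring]; exact h4.neg_right)).symm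
      have := pow_eq_smul_of_aeval (A ^ p) ![l ^ p, μ ^ p] (inj_two hne)
        (by
          rw [Fin.prod_univ_two, map_mul, map_sub, map_sub, aeval_X, aeval_C, aeval_C,
            Algebra.algebraMap_eq_smul_one, Algebra.algebraMap_eq_smul_one]
          exact h0)
        (k := t) (c := (l ^ p) ^ t) (fun i => by fin_cases i <;> simp [h3k])
      rw [ht, pow_mul, this, ← pow_mul]

end CfsgLib.KnownB.SpecThree
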