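import Cfsg.Agent.Lib.KnownB.SpecThreeGroups

/-!
# Elements realising the maximal orders in `PSL₃` and `PSU₃`
-/

set_option autoImplicit false
set_option linter.unusedSectionVars false

namespace CfsgLib.KnownB.Spec3

open Matrix
open scoped MatrixGroups

universe u

variable {F : Type u} [Field F]

local notation "M3" => Matrix (Fin 3) (Fin 3) F
local notation "SL3" => Matrix.SpecialLinearGroup (Fin 3) F

theorem pow_three_of_scalar {h : SL3} {c : F} (hh : (h : M3) = c • 1) : c ^ 3 = 1 := by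
  have := h.2
  rw [hh, Matrix.det_smul, Matrix.det_one, mul_one, Fintype.card_fin] at this
  exact this

theorem pow_of_scalar_su [Fintype F] {q : ℕ} (hF : Fintype.card F = q ^ 2) {h : SL3}
    (hm : h ∈ Cfsg.SU 3 F q) {c : F} (hh : (h : M3) = c • 1) : c ^ (q + 1) = 1 := by
  have := congrFun (congrFun ((Classical.mem_su_iff hF h).mp hm) 0) 0
  rw [hh] at this
  simp [Classical.qFrob_apply, Matrix.mul_apply, Fin.sum_univ_three, Matrix.one_apply] at this
  rw [pow_succ']
  exact this

theorem center_su3 [Fintype F] {q : ℕ} (hF : Fintype.card F = q ^ 2) (x : Cfsg.SU 3 F q) :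
    x ∈ Subgroup.center (Cfsg.SU 3 F q) ↔ ∃ c : F, ((x : SL3) : M3) = c • 1 := by
  constructor
  · intro hx
    obtain ⟨A, hA⟩ : ∃ A : M3, A = ((x : SL3) : M3) := ⟨_, rfl⟩
    have hq := Classical.two_le_of_card_sq hF
    obtain ⟨u, hu, hu2⟩ : ∃ u : F, u ^ (q + 1) = 1 ∧ u ^ 2 ≠ 1 := by
      obtain ⟨g, hg⟩ := IsCyclic.exists_generator (α := Fˣ)
      have hord : orderOf g = (q - 1) * (q + 1) := by
        rw [orderOf_eq_card_of_forall_mem_zpowers hg, Classical.units_card_sq hF]
      refine ⟨(g : F) ^ (q - 1), ?_, fun h => ?_⟩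
      · rw [← pow_mul, ← hord, ← Units.val_pow_eq_pow_val, pow_orderOf_eq_one, Units.val_one]
      · rw [← pow_mul, ← Units.val_pow_eq_pow_val, Units.val_eq_one, ← orderOf_dvd_iff_pow_eq_one,
          hord] at h
        have := Nat.le_of_dvd (by omega) (Nat.dvd_of_mul_dvd_mul_left (by omega) h)
        omega
    have hu0 : u ≠ 0 := fun h => by simp [h] at hu
    have hui : u⁻¹ ^ (q + 1) = 1 := by rw [inv_pow, hu, inv_one]
    obtain ⟨s1, hs1⟩ := Classical.diagonal_mem_su hF ![u, u⁻¹, 1]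
      (fun k => by fin_cases k <;> simp [hu]) (by simp [Fin.prod_univ_three, hu0])
    obtain ⟨s2, hs2⟩ := Classical.diagonal_mem_su hF ![1, u, u⁻¹]
      (fun k => by fin_cases k <;> simp [hu]) (by simp [Fin.prod_univ_three, hu0])
    obtain ⟨w1, hw1⟩ := Classical.signed_swap_mem_su hF (show (0 : Fin 3) ≠ 1 by decide)
    obtain ⟨w2, hw2⟩ := Classical.signed_swap_mem_su hF (show (1 : Fin 3) ≠ 2 by decide)
    have hc : ∀ s : Cfsg.SU 3 F q, ((s : SL3) : M3) * A = A * ((s : SL3) : M3) := fun s =>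
      hA ▸ congrArg (fun g : Cfsg.SU 3 F q => ((g : SL3) : M3)) (Subgroup.mem_center_iff.mp hx s)
    have hne : ∀ {a b : F}, a ≠ b → ∀ {z : F}, a * z = z * b → z = 0 := fun hab z h =>
      (mul_eq_zero.mp (show (_ - _) * z = 0 by linear_combination h)).resolve_left (sub_ne_zero.mpr hab)
    have huv : u ≠ u⁻¹ := fun h => hu2 (by rw [sq]; nth_rw 2 [h]; exact mul_inv_cancel₀ hu0)
    have hu1 : u ≠ 1 := fun h => hu2 (by rw [h, one_pow])
    have hv1 : u⁻¹ ≠ 1 := fun h => hu1 (inv_eq_one.mp h)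
    have d1 : ∀ i j, ![u, u⁻¹, 1] i * A i j = A i j * ![u, u⁻¹, 1] j := fun i j => by
      have := congrFun (congrFun (hc s1) i) j
      rwa [hs1, Matrix.diagonal_mul, Matrix.mul_diagonal] at this
    have h01 : A 0 1 = 0 := hne huv (d1 0 1)
    have h10 : A 1 0 = 0 := hne huv.symm (d1 1 0)
    have h02 : A 0 2 = 0 := hne hu1 (d1 0 2)
    have h20 : A 2 0 = 0 := hne hu1.symm (d1 2 0)
    have h12 : A 1 2 = 0 := hne hv1 (d1 1 2)
    have h21 : A 2 1 = 0 := hne hv1.symm (d1 2 1)
    have e1 : A 0 0 = A 1 1 := by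
      have := congrFun (congrArg (· *ᵥ Pi.single 1 (1 : F)) (hc w1)) 0
      simp only [← Matrix.mulVec_mulVec] at this
      rw [hw1] at this
      simp [Matrix.mulVec, dotProduct, Fin.sum_univ_three, h01, h02, h10] at this
      have h' := hw1 (Pi.single 1 1)
      simp [Matrix.mulVec, dotProduct, Fin.sum_univ_three] at h'
      simp_all
    have e2 : A 1 1 = A 2 2 := by
      have := congrFun (congrArg (· *ᵥ Pi.single 2 (1 : F)) (hc w2)) 1
      simp only [← Matrix.mulVec_mulVec] at this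
      rw [hw2] at this
      simp [Matrix.mulVec, dotProduct, Fin.sum_univ_three, h12, h10] at this
      have h' := hw2 (Pi.single 2 1)
      simp [Matrix.mulVec, dotProduct, Fin.sum_univ_three] at h'
      simp_all
    refine ⟨A 0 0, ?_⟩
    rw [← hA]
    ext i j
    fin_cases i <;> fin_cases j <;> simp [h01, h10, h02, h20, h12, h21, e1, e2]
  · rintro ⟨c, hc⟩
    refine Subgroup.mem_center_iff.mpr fun s => Subtype.ext (Subtype.ext ?_)
    show ((s : SL3) : M3) * ((x : SL3) : M3) = ((x : SL3) : M3) * ((s : SL3) : M3)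
    rw [hc]
    simp

/-- Conjugating an element preserving a Hermitian form into `SU₃`. -/
theorem exists_su_of_form [Fintype F] {q : ℕ} (hF : Fintype.card F = q ^ 2) (g : SL3) (H : GL (Fin 3) F)
    (hH : ((H : M3).map (Classical.qFrob hF))ᵀ = (H : M3))
    (hg : (g : M3)ᵀ * (H : M3) * (g : M3).map (Classical.qFrob hF) = (H : M3)) :
    ∃ s : Cfsg.SU 3 F q, orderOf s = orderOf g := by
  obtain ⟨σ, hσa⟩ : ∃ σ : F ≃+* F, ∀ x, σ x = Classical.qFrob hF x :=
    ⟨RingEquiv.ofBijective _ ⟨(Classical.qFrob hF).injective,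
      fun x => ⟨_, Classical.qFrob_qFrob hF x⟩⟩, fun _ => rfl⟩
  have hσ2 : orderOf σ = 2 := by
    apply orderOf_eq_prime
    · ext x
      show σ (σ x) = x
      rw [hσa, hσa, Classical.qFrob_qFrob]
    · intro h
      apply Classical.qFrob_ne_id hF
      ext x
      rw [← hσa, h]; rfl
  have hσmap : ∀ X : M3, X.map σ = X.map (Classical.qFrob hF) := fun X => by
    ext i j; exact hσa _
  obtain ⟨h, hh⟩ := KnownC.exists_congr_one σ hσ2 H (by rw [hσmap]; exact hH)
  rw [hσmap] at hh
  obtain ⟨P, hP⟩ : ∃ P : GL (Fin 3) F, (P : M3) = (h : M3)ᵀ :=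
    ⟨(Matrix.isUnit_transpose (A := (h : M3)) |>.mpr h.isUnit).unit, rfl⟩
  obtain ⟨S, hS⟩ : ∃ S : SL3, (S : M3) = (P : M3) * (g : M3) * ((P⁻¹ : GL (Fin 3) F) : M3) :=
    ⟨⟨_, by rw [Matrix.det_units_conj, g.2]⟩, rfl⟩
  have hconj : Matrix.SpecialLinearGroup.toGL S = P * Matrix.SpecialLinearGroup.toGL g * P⁻¹ :=
    Units.ext hS
  have hmem : S ∈ Cfsg.SU 3 F q := by
    rw [Classical.mem_su_iff hF, hS]
    rw [hh] at hg
    set σ' := (Classical.qFrob hF).mapMatrix (m := Fin 3)
    show _ * σ' _ = 1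
    have hPT : ((P⁻¹ : GL (Fin 3) F) : M3)ᵀ * (h : M3) = 1 := by
      have := congrArg Matrix.transpose (Units.mul_inv P)
      rw [Matrix.transpose_mul, Matrix.transpose_one, hP, Matrix.transpose_transpose] at this
      exact this
    have hPσ : ((h : M3).map (Classical.qFrob hF))ᵀ * σ' ((P⁻¹ : GL (Fin 3) F) : M3) = 1 := by
      rw [← Matrix.transpose_map, ← hP]
      show σ' (P : M3) * σ' _ = 1
      rw [← map_mul, Units.mul_inv, map_one]
    have hσP : σ' (P : M3) = ((h : M3).map (Classical.qFrob hF))ᵀ := by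
      rw [hP, ← Matrix.transpose_map]; rfl
    rw [Matrix.transpose_mul, Matrix.transpose_mul, hP, Matrix.transpose_transpose, map_mul, map_mul,
      ← hP, hσP]
    calc ((P⁻¹ : GL (Fin 3) F) : M3)ᵀ * ((g : M3)ᵀ * (h : M3)) *
          (((h : M3).map (Classical.qFrob hF))ᵀ * σ' (g : M3) * σ' ((P⁻¹ : GL (Fin 3) F) : M3))
        = ((P⁻¹ : GL (Fin 3) F) : M3)ᵀ * ((g : M3)ᵀ * ((h : M3) * ((h : M3).map (Classical.qFrob hF))ᵀ) *
            (g : M3).map (Classical.qFrob hF)) * σ' ((P⁻¹ : GL (Fin 3) F) : M3) := by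
          simp only [Matrix.mul_assoc]; rfl
      _ = 1 := by
          rw [hg, ← Matrix.mul_assoc, hPT, Matrix.one_mul, hPσ]
  refine ⟨⟨S, hmem⟩, ?_⟩
  rw [← Subgroup.orderOf_coe, ← orderOf_injective (Matrix.SpecialLinearGroup.toGL (n := Fin 3) (R := F))
      Matrix.SpecialLinearGroup.toGL_injective,
    ← orderOf_injective (Matrix.SpecialLinearGroup.toGL (n := Fin 3) (R := F))
      Matrix.SpecialLinearGroup.toGL_injective g, hconj]
  exact (MulEquiv.orderOf_eq (MulAut.conj P) _)

/-- A unit as a diagonal element `diag(x, x^a, x^b)`. -/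
theorem exists_diag (a b : ℤ) (hab : 1 + a + b = 0) (x : Fˣ) :
    ∃ g : SL3, orderOf g = orderOf x ∧
      (g : M3) = Matrix.diagonal ![(x : F), ((x ^ a : Fˣ) : F), ((x ^ b : Fˣ) : F)] := by
  have hdet : ∀ y : Fˣ, (Matrix.diagonal ![(y : F), ((y ^ a : Fˣ) : F), ((y ^ b : Fˣ) : F)]).det = 1 :=
    fun y => by
      rw [Matrix.det_diagonal, Fin.prod_univ_three]
      show (y : F) * ((y ^ a : Fˣ) : F) * ((y ^ b : Fˣ) : F) = 1
      rw [← Units.val_mul, ← Units.val_mul, Units.val_eq_one, show y * y ^ a = y ^ (1 + a) by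
        rw [_root_.zpow_add, _root_.zpow_one], ← _root_.zpow_add, hab, _root_.zpow_zero]
  let φ : Fˣ →* SL3 :=
    { toFun := fun y => ⟨_, hdet y⟩
      map_one' := Subtype.ext (by
        simp only [_root_.one_zpow, Units.val_one]
        ext i j; fin_cases i <;> fin_cases j <;> simp)
      map_mul' := fun y z => Subtype.ext (by
        show _ = _ * _
        rw [Matrix.diagonal_mul_diagonal]
        refine congrArg Matrix.diagonal (funext fun i => ?_)
        fin_cases i <;> simp [mul_zpow]) }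
  have hinj : Function.Injective φ := fun y z h => Units.ext (by
    have h' : Matrix.diagonal ![(y : F), ((y ^ a : Fˣ) : F), ((y ^ b : Fˣ) : F)] =
        Matrix.diagonal ![(z : F), ((z ^ a : Fˣ) : F), ((z ^ b : Fˣ) : F)] := congrArg Subtype.val h
    simpa using congrFun (congrFun h' 0) 0)
  exact ⟨φ x, orderOf_injective φ hinj x, rfl⟩

/-- An element of order a multiple of `p · ord a`. -/
theorem exists_jordan (p : ℕ) [Fact p.Prime] [CharP F p] (a : Fˣ) (t : F) (ht : t ≠ 0) :
    ∃ g : SL3, p ∣ orderOf g ∧ orderOf a ∣ orderOf g ∧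
      (g : M3) = !![(a : F), (a : F) * t, 0; 0, (a : F), 0; 0, 0, ((a ^ (-2 : ℤ) : Fˣ) : F)] := by
  have hdet : ∀ (b : Fˣ) (s : F),
      (!![(b : F), (b : F) * s, 0; 0, (b : F), 0; 0, 0, ((b ^ (-2 : ℤ) : Fˣ) : F)] : M3).det = 1 := by
    intro b s
    simp [Matrix.det_fin_three]
    field_simp
  let φ : Fˣ × Multiplicative F →* SL3 :=
    { toFun := fun y => ⟨_, hdet y.1 y.2.toAdd⟩
      map_one' := Subtype.ext (by ext i j; fin_cases i <;> fin_cases j <;> simp)
      map_mul' := fun y z => Subtype.ext (by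
        show _ = _ * _
        ext i j
        fin_cases i <;> fin_cases j <;>
          simp [Matrix.mul_apply, Fin.sum_univ_three, mul_zpow] <;> ring) }
  have hinj : Function.Injective φ := fun y z h => by
    have h' : (!![(y.1 : F), (y.1 : F) * y.2.toAdd, 0; 0, (y.1 : F), 0; 0, 0, ((y.1 ^ (-2 : ℤ) : Fˣ) : F)] : M3) =
        !![(z.1 : F), (z.1 : F) * z.2.toAdd, 0; 0, (z.1 : F), 0; 0, 0, ((z.1 ^ (-2 : ℤ) : Fˣ) : F)] :=
      congrArg Subtype.val h
    have h0 := congrFun (congrFun h' 0) 0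
    have h1 := congrFun (congrFun h' 0) 1
    simp at h0 h1
    have e : y.1 = z.1 := Units.ext h0
    refine Prod.ext e ?_
    rw [e] at h1
    exact Multiplicative.toAdd.injective (mul_left_cancel₀ (Units.ne_zero z.1) h1)
  refine ⟨φ (a, Multiplicative.ofAdd t), ?_, ?_, rfl⟩ <;>
    rw [orderOf_injective φ hinj, Prod.orderOf_mk]
  · refine dvd_trans ?_ (Nat.dvd_lcm_right _ _)
    have hp : addOrderOf t = p := addOrderOf_eq_prime (by simp [CharP.cast_eq_zero]) ht
    rw [orderOf_ofAdd_eq_addOrderOf, hp]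
  · exact Nat.dvd_lcm_left _ _

/-- Multiplication by a norm-one element of a cubic extension. -/
theorem exists_cubic {L : Type*} [Field L] [Algebra F L] (b : Module.Basis (Fin 3) F L) (u : Lˣ)
    (hu : Algebra.norm F (u : L) = 1) :
    ∃ g : SL3, orderOf g = orderOf u ∧ (g : M3) = Algebra.leftMulMatrix b (u : L) := by
  obtain ⟨g, hg⟩ : ∃ g : SL3, (g : M3) = Algebra.leftMulMatrix b (u : L) :=
    ⟨⟨_, by rw [← Algebra.norm_eq_matrix_det, hu]⟩, rfl⟩
  refine ⟨g, ?_, hg⟩
  let ψ : Lˣ →* GL (Fin 3) F := Units.map (Algebra.leftMulMatrix b).toMonoidHom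
  have hψ : Function.Injective ψ := fun x y h =>
    Units.ext (Algebra.leftMulMatrix_injective b (congrArg Units.val h))
  rw [← orderOf_injective (Matrix.SpecialLinearGroup.toGL (n := Fin 3) (R := F))
    Matrix.SpecialLinearGroup.toGL_injective, ← orderOf_injective ψ hψ u]
  congr 1
  exact Units.ext hg

/-- An element of order a multiple of `q² - 1` in `SL₃(q)`. -/
theorem exists_quadratic [Fintype F] :
    ∃ g : SL3, Fintype.card F ^ 2 - 1 ∣ orderOf g := by
  classical
  obtain ⟨E, _, _, _, hquad⟩ := GL2.exists_quad F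
  have hE : Fintype.card E = Fintype.card F ^ 2 := by
    rw [Module.card_eq_pow_finrank (K := F) (V := E), GL2.IsQuad.finrank_eq]
  obtain ⟨γ, hγ⟩ := IsCyclic.exists_generator (α := Eˣ)
  have hγo : orderOf γ = Fintype.card F ^ 2 - 1 := by
    rw [orderOf_eq_card_of_forall_mem_zpowers hγ, Nat.card_units, Nat.card_eq_fintype_card, hE]
  let N : Eˣ →* Fˣ := Units.map (Algebra.norm F)
  let e : Fin 2 ⊕ Fin 1 ≃ Fin 3 := finSumFinEquiv
  let φ : Eˣ →* SL3 :=
    { toFun := fun y => ⟨reindex e e (fromBlocks ((GL2.emb F E y : GL (Fin 2) F) : Matrix (Fin 2) (Fin 2) F) 0 0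
          (Matrix.diagonal fun _ => (((N y)⁻¹ : Fˣ) : F))), by
        rw [det_reindex_self, det_fromBlocks_zero₁₂, GL2.det_emb, det_diagonal, Fin.prod_univ_one]
        exact (N y).mul_inv⟩
      map_one' := Subtype.ext (by simp [fromBlocks_one])
      map_mul' := fun y z => Subtype.ext (by
        show reindex e e _ = reindex e e _ * reindex e e _
        simp [reindex_apply, submatrix_mul_equiv, fromBlocks_multiply, mul_comm]) }
  have hinj : Function.Injective φ := fun y z h => by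
    have h' := (reindex e e).injective (congrArg Subtype.val h)
    exact GL2.emb_injective (Units.ext (fromBlocks_inj.mp h').1)
  exact ⟨φ γ, by rw [orderOf_injective φ hinj, hγo]⟩

/-- An element of order a multiple of `q² + q + 1` in `SL₃(q)`. -/
theorem exists_singer [Fintype F] (p : ℕ) [Fact p.Prime] [CharP F p] :
    ∃ g : SL3, Fintype.card F ^ 2 + Fintype.card F + 1 ∣ orderOf g := by
  classical
  let L := FiniteField.Extension F p 3
  have : Fintype L := Fintype.ofFinite L
  have hL : Fintype.card L = Fintype.card F ^ 3 := by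
    rw [← Nat.card_eq_fintype_card, ← Nat.card_eq_fintype_card, FiniteField.natCard_extension]
  obtain ⟨γ, hγ⟩ := IsCyclic.exists_generator (α := Lˣ)
  have hγo : orderOf γ = Fintype.card F ^ 3 - 1 := by
    rw [orderOf_eq_card_of_forall_mem_zpowers hγ, Nat.card_units, Nat.card_eq_fintype_card, hL]
  obtain ⟨g, hg, -⟩ := exists_cubic
    ((Module.finBasis F L).reindex (finCongr (FiniteField.finrank_extension F p 3)))
    (γ ^ (Fintype.card F - 1)) (by
      rw [Units.val_pow_eq_pow_val, map_pow]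
      exact FiniteField.pow_card_sub_one_eq_one _ ((Algebra.norm_ne_zero_iff).mpr (Units.ne_zero γ)))
  refine ⟨g, ?_⟩
  have h1 : 1 < Fintype.card F := Fintype.one_lt_card
  obtain ⟨r, hr⟩ : ∃ r, Fintype.card F = r + 1 := ⟨Fintype.card F - 1, by omega⟩
  have e : Fintype.card F ^ 3 - 1 = r * (Fintype.card F ^ 2 + Fintype.card F + 1) := by
    rw [hr]
    have : (r + 1) ^ 3 = r * ((r + 1) ^ 2 + (r + 1) + 1) + 1 := by ring
    omega
  rw [hg, orderOf_pow' γ (by omega), hγo, e, show Fintype.card F - 1 = r by omega,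
    Nat.gcd_mul_right_left, Nat.mul_div_cancel_left _ (by omega)]

/-- An element of order a multiple of `q² - q + 1` in `SU₃(q)`. -/
theorem exists_singer_su [Fintype F] (p : ℕ) [Fact p.Prime] [CharP F p] {q : ℕ}
    (hF : Fintype.card F = q ^ 2) :
    ∃ s : Cfsg.SU 3 F q, q ^ 2 - q + 1 ∣ orderOf s := by
  classical
  have hq := Classical.two_le_of_card_sq hF
  let L := FiniteField.Extension F p 3
  have : Fintype L := Fintype.ofFinite L
  have hL : Fintype.card L = q ^ 6 := by
    rw [← Nat.card_eq_fintype_card, FiniteField.natCard_extension, Nat.card_eq_fintype_card, hF,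
      ← pow_mul]
  obtain ⟨N, hN⟩ : ∃ N, N = q ^ 2 - q + 1 := ⟨_, rfl⟩
  have hNz : (N : ℤ) = (q : ℤ) ^ 2 - q + 1 := by
    rw [hN, Nat.cast_add, Nat.cast_sub (by nlinarith)]; push_cast; ring
  have hN3 : N ∣ q ^ 3 + 1 := ⟨q + 1, by zify; rw [hNz]; ring⟩
  have hN6 : N ∣ q ^ 6 - 1 := ⟨(q + 1) * (q ^ 3 - 1), by
    zify [Nat.one_le_pow 6 q (by omega), Nat.one_le_pow 3 q (by omega)]; rw [hNz]; ring⟩
  have hNn : N ∣ q ^ 4 + q ^ 2 + 1 := ⟨q ^ 2 + q + 1, by zify; rw [hNz]; ring⟩
  obtain ⟨γ, hγ⟩ := IsCyclic.exists_generator (α := Lˣ)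
  have hγo : orderOf γ = q ^ 6 - 1 := by
    rw [orderOf_eq_card_of_forall_mem_zpowers hγ, Nat.card_units, Nat.card_eq_fintype_card, hL]
  obtain ⟨u, huo⟩ : ∃ u : Lˣ, orderOf u = N :=
    ⟨γ ^ (orderOf γ / N), orderOf_pow_orderOf_div
      (by rw [hγo]; have := Nat.one_lt_pow (show 6 ≠ 0 by norm_num) (show 1 < q by omega); omega)
      (hγo.symm ▸ hN6)⟩
  have hupow : ∀ k, N ∣ k → (u : L) ^ k = 1 := fun k hk => by
    rw [← Units.val_pow_eq_pow_val, orderOf_dvd_iff_pow_eq_one.mp (huo.symm ▸ hk), Units.val_one]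
  have hun : Algebra.norm F (u : L) = 1 := by
    apply (algebraMap F L).injective
    rw [FiniteField.algebraMap_norm_eq_pow, map_one, Nat.card_eq_fintype_card, hL,
      Nat.card_eq_fintype_card, hF]
    apply hupow
    rw [show q ^ 6 - 1 = (q ^ 4 + q ^ 2 + 1) * (q ^ 2 - 1) by
      zify [Nat.one_le_pow 6 q (by omega), Nat.one_le_pow 2 q (by omega)]; ring,
      Nat.mul_div_cancel _ (by
        have : 2 ^ 2 ≤ q ^ 2 := Nat.pow_le_pow_left hq 2
        omega)]
    exact hNn
  have : CharP L p := charP_of_injective_algebraMap (algebraMap F L).injective p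
  obtain ⟨f', hpp, hf'⟩ := FiniteField.card F p
  obtain ⟨f, -, hf⟩ := (Nat.dvd_prime_pow hpp).1
    (show q ∣ p ^ (f' : ℕ) by rw [← hf', hF, sq]; exact dvd_mul_right q q)
  obtain ⟨ι, hι⟩ : ∃ ι : L →+* L, ∀ x, ι x = x ^ q ^ 3 :=
    ⟨iterateFrobenius L p (f * 3), fun x => by rw [iterateFrobenius_def, hf, ← pow_mul]⟩
  have hιι : ∀ x, ι (ι x) = x := fun x => by
    rw [hι, hι, ← pow_mul, ← pow_add, ← hL, FiniteField.pow_card]
  have hιF : ∀ a : F, ι (algebraMap F L a) = algebraMap F L (Classical.qFrob hF a) := fun a => by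
    rw [hι, ← map_pow, Classical.qFrob_apply]
    congr 1
    rw [pow_succ, pow_mul, ← hF, FiniteField.pow_card]
  have htr : ∀ x : L, Algebra.trace F L (ι x) = Classical.qFrob hF (Algebra.trace F L x) := fun x => by
    apply (algebraMap F L).injective
    rw [← hιF]
    simp only [FiniteField.algebraMap_trace_eq_sum_pow, map_sum, map_pow]
  let b : Module.Basis (Fin 3) F L :=
    (Module.finBasis F L).reindex (finCongr (FiniteField.finrank_extension F p 3))
  obtain ⟨g, hg, hgm⟩ := exists_cubic b u hun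
  obtain ⟨H, hHd⟩ : ∃ H : M3, ∀ i j, H i j = Algebra.trace F L (b i * ι (b j)) :=
    ⟨Matrix.of fun i j => _, fun i j => rfl⟩
  have hHu : IsUnit H.det := by
    rw [isUnit_iff_ne_zero]
    intro h0
    obtain ⟨a, ha0, ha⟩ := Matrix.exists_mulVec_eq_zero_iff.mpr h0
    obtain ⟨y, hy⟩ : ∃ y, y = ∑ j, a j • ι (b j) := ⟨_, rfl⟩
    have hy0 : ∀ i, Algebra.trace F L (b i * y) = 0 := fun i => by
      rw [hy, Finset.mul_sum, map_sum]
      simp only [mul_smul_comm, map_smul, smul_eq_mul, ← hHd]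
      have := congrFun ha i
      simpa [Matrix.mulVec, dotProduct, mul_comm] using this
    have hyz : y = 0 := by
      refine (traceForm_nondegenerate F L).1 y fun z => ?_
      rw [← b.sum_repr z, map_sum]
      refine Finset.sum_eq_zero fun i _ => ?_
      rw [map_smul, Algebra.traceForm_apply, mul_comm, hy0, smul_zero]
    apply ha0
    have h2 : ∑ j, Classical.qFrob hF (a j) • b j = 0 := by
      have := congrArg ι (hy ▸ hyz)
      rw [map_zero, map_sum] at this
      rw [← this]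
      refine Finset.sum_congr rfl fun j _ => ?_
      rw [Algebra.smul_def, Algebra.smul_def, map_mul, hιι, hιF]
    funext j
    have := congrArg (fun z => b.repr z j) h2
    simp [Finsupp.single_apply] at this
    exact this
  obtain ⟨s, hs⟩ := exists_su_of_form hF g ((Matrix.isUnit_iff_isUnit_det H).mpr hHu).unit
    (by
      ext i j
      show Classical.qFrob hF (H j i) = H i j
      rw [hHd, hHd, ← htr, map_mul ι, hιι, mul_comm])
    (by
      show (g : M3)ᵀ * H * (g : M3).map (Classical.qFrob hF) = H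
      ext i j
      have hu' : (u : L) * ι (u : L) = 1 := by rw [hι, ← pow_succ']; exact hupow _ hN3
      simp only [Matrix.mul_apply, Matrix.transpose_apply, Matrix.map_apply, hgm,
        Algebra.leftMulMatrix_eq_repr_mul, Finset.sum_mul, hHd]
      have e : ∀ k l, b.repr ((u : L) * b i) l * Algebra.trace F L (b l * ι (b k)) *
          Classical.qFrob hF (b.repr ((u : L) * b j) k) =
          Algebra.trace F L ((b.repr ((u : L) * b i) l • b l) * ι (b.repr ((u : L) * b j) k • b k)) := by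
        intro k l
        rw [Algebra.smul_def (b.repr ((u : L) * b j) k), map_mul ι, hιF, ← Algebra.smul_def,
          mul_smul_comm, smul_mul_assoc, map_smul, map_smul, smul_eq_mul, smul_eq_mul]
        ring
      simp only [e, ← map_sum, ← Finset.sum_mul, b.sum_repr]
      rw [← Finset.mul_sum, ← map_sum, b.sum_repr, map_mul ι]
      congr 1
      linear_combination (b i * ι (b j)) * hu')
  exact ⟨s, by rw [hs, hg, huo, hN]⟩

end CfsgLib.KnownB.Spec3
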