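import Cfsg.Agent.Lib.KnownB.SpecThreeElems

/-!
# The spectra of `PSL₃(q)` and `PSU₃(q)`
-/

set_option autoImplicit false
set_option linter.unusedSectionVars false

namespace CfsgLib.KnownB.Spec3

open Matrix
open scoped MatrixGroups

universe u

variable {F : Type u} [Field F] [Fintype F]

local notation "M3" => Matrix (Fin 3) (Fin 3) F
local notation "SL3" => Matrix.SpecialLinearGroup (Fin 3) F

theorem exists_pow_orderOf {G : Type*} [Group G] [Finite G] (x : G) {s : ℕ} (h : s ∣ orderOf x) :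
    ∃ y : G, orderOf y = s :=
  ⟨x ^ (orderOf x / s), orderOf_pow_orderOf_div (orderOf_pos x).ne' h⟩

/-- The orders realised in a central quotient. -/
theorem dvd_orderOf_mk {G : Type*} [Group G] (g : G) {d N : ℕ} (hd : 0 < d)
    (hZ : ∀ z ∈ Subgroup.center G, z ^ d = 1) (hN : d * N ∣ orderOf g) :
    N ∣ orderOf (QuotientGroup.mk g : G ⧸ Subgroup.center G) := by
  have h : g ^ orderOf (QuotientGroup.mk g : G ⧸ Subgroup.center G) ∈ Subgroup.center G := by
    rw [← QuotientGroup.eq_one_iff, QuotientGroup.mk_pow, pow_orderOf_eq_one]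
  have := hZ _ h
  rw [← pow_mul] at this
  have hdv := hN.trans (orderOf_dvd_of_pow_eq_one this)
  rw [mul_comm d N] at hdv
  exact (Nat.mul_dvd_mul_iff_right hd).mp hdv

theorem center_pow_sl3 {d : ℕ} (hd : d = Nat.gcd 3 (Fintype.card F - 1)) {z : SL3}
    (hz : z ∈ Subgroup.center SL3) : z ^ d = 1 ∧ ∃ c : F, c ^ d = 1 ∧ (z : M3) = c • 1 := by
  obtain ⟨c, -, hc⟩ := Matrix.SpecialLinearGroup.mem_center_iff.mp hz
  have hc' : (z : M3) = c • 1 := by
    rw [← hc, Matrix.scalar_apply, ← Matrix.smul_one_eq_diagonal]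
  have h3 := pow_three_of_scalar hc'
  have hc0 : c ≠ 0 := fun h => by simp [h] at h3
  have h : c ^ d = 1 := hd ▸ pow_gcd_eq_one.mpr ⟨h3, FiniteField.pow_card_sub_one_eq_one c hc0⟩
  refine ⟨Subtype.ext ?_, c, h, hc'⟩
  rw [Matrix.SpecialLinearGroup.coe_pow, hc', _root_.smul_pow, one_pow, h, one_smul]
  rfl

theorem center_pow_su3 {q : ℕ} (hF : Fintype.card F = q ^ 2) {d : ℕ} (hd : d = Nat.gcd 3 (q + 1))
    {z : Cfsg.SU 3 F q} (hz : z ∈ Subgroup.center (Cfsg.SU 3 F q)) :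
    z ^ d = 1 ∧ ∃ c : F, c ^ d = 1 ∧ ((z : SL3) : M3) = c • 1 := by
  obtain ⟨c, hc⟩ := (center_su3 hF z).mp hz
  have h : c ^ d = 1 := hd ▸ pow_gcd_eq_one.mpr ⟨pow_three_of_scalar hc, pow_of_scalar_su hF z.2 hc⟩
  refine ⟨Subtype.ext (Subtype.ext ?_), c, h, hc⟩
  rw [SubmonoidClass.coe_pow, Matrix.SpecialLinearGroup.coe_pow, hc, _root_.smul_pow, one_pow, h,
    one_smul]
  rfl

theorem psl_spectrum (p : ℕ) [Fact p.Prime] [CharP F p] :
    Set.range (orderOf : Matrix.ProjectiveSpecialLinearGroup (Fin 3) F → ℕ) =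
      {m : ℕ | m ∣ (Fintype.card F ^ 2 + Fintype.card F + 1) / Nat.gcd 3 (Fintype.card F - 1) ∨
        m ∣ (Fintype.card F ^ 2 - 1) / Nat.gcd 3 (Fintype.card F - 1) ∨ m ∣ Fintype.card F - 1 ∨
        m ∣ p * (Fintype.card F - 1) / Nat.gcd 3 (Fintype.card F - 1) ∨ (p = 2 ∧ m ∣ 4)} := by
  classical
  have hp : p.Prime := Fact.out
  have hq1 : 1 < Fintype.card F := Fintype.one_lt_card
  obtain ⟨r, hr⟩ : ∃ r, Fintype.card F = r + 1 := ⟨Fintype.card F - 1, by omega⟩
  obtain ⟨d, hd⟩ : ∃ d, d = Nat.gcd 3 (Fintype.card F - 1) := ⟨_, rfl⟩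
  have hdpos : 0 < d := hd ▸ Nat.gcd_pos_of_pos_left _ (by norm_num)
  obtain ⟨t, ht⟩ : d ∣ r := by rw [hd, show Fintype.card F - 1 = r by omega]; exact Nat.gcd_dvd_right _ _
  obtain ⟨w, hw⟩ : d ∣ 3 := hd ▸ Nat.gcd_dvd_left _ _
  have hqm : Fintype.card F - 1 = d * t := by omega
  have hqQ : (Fintype.card F : ℤ) - 1 = (d : ℤ) * t := by rw [hr, ht]; push_cast; ring
  have hsq : Fintype.card F ^ 2 - 1 = d * ((Fintype.card F + 1) * t) := by
    have e : Fintype.card F ^ 2 = d * ((Fintype.card F + 1) * t) + 1 := by rw [hr, ht]; ring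
    omega
  obtain ⟨u, hu⟩ : d ∣ Fintype.card F ^ 2 + Fintype.card F + 1 := by
    rw [show Fintype.card F ^ 2 + Fintype.card F + 1 = r * r + 3 * r + 3 by rw [hr]; ring]
    exact dvd_add (dvd_add (Dvd.dvd.mul_left ⟨t, ht⟩ r) (Dvd.dvd.mul_right ⟨w, hw⟩ r)) ⟨w, hw⟩
  rw [← hd, hqm, hsq, hu, Nat.mul_div_cancel_left _ hdpos, Nat.mul_div_cancel_left _ hdpos,
    mul_left_comm p, Nat.mul_div_cancel_left _ hdpos]
  have hzd : ∀ z ∈ Subgroup.center SL3, z ^ d = 1 := fun z hz => (center_pow_sl3 hd hz).1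
  have hmk : ∀ g : SL3, ∀ k : ℕ, (∃ c : F, ((g ^ k : SL3) : M3) = c • 1) →
      orderOf (QuotientGroup.mk g : Matrix.ProjectiveSpecialLinearGroup (Fin 3) F) ∣ k := by
    rintro g k ⟨c, hc⟩
    refine orderOf_dvd_of_pow_eq_one ?_
    rw [← QuotientGroup.mk_pow, QuotientGroup.eq_one_iff, Matrix.SpecialLinearGroup.mem_center_iff]
    refine ⟨c, ?_, by rw [hc, Matrix.scalar_apply, ← Matrix.smul_one_eq_diagonal]⟩
    rw [Fintype.card_fin]; exact pow_three_of_scalar hc
  ext s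
  constructor
  · rintro ⟨y, rfl⟩
    obtain ⟨g, rfl⟩ := QuotientGroup.mk_surjective y
    obtain ⟨k, hk, hsc⟩ := exists_scalar_sl3 (k1 := d * t) (k2 := (Fintype.card F + 1) * t) (k3 := u)
      (k4 := p * t) (k5 := if p = 2 then 4 else p * t) p
      (by rw [hqQ]; exact ⟨1, by push_cast; ring⟩)
      ⟨t, by rw [show (Fintype.card F : ℤ) ^ 2 - 1 =
          ((Fintype.card F : ℤ) + 1) * ((Fintype.card F : ℤ) - 1) by ring]; push_cast; ring⟩
      ⟨w, by rw [show (Fintype.card F : ℤ) ^ 2 - 1 =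
          ((Fintype.card F : ℤ) + 1) * ((Fintype.card F : ℤ) - 1) by ring, hqQ,
          show (3 : ℤ) = (d : ℤ) * w by exact_mod_cast hw]; push_cast; ring⟩
      ⟨t, by rw [show 1 + (Fintype.card F : ℤ) + (Fintype.card F : ℤ) ^ 2 = ((d * u : ℕ) : ℤ) by
          rw [← hu]; push_cast; ring, hqQ]; push_cast; ring⟩
      ⟨p * w, by rw [hqQ, show (3 : ℤ) = (d : ℤ) * w by exact_mod_cast hw]; push_cast; ring⟩
      (dvd_mul_right p t)
      (by
        split_ifs with h2
        · exact ⟨2, by rw [h2]; norm_num, by rw [h2]; norm_num⟩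
        · exact ⟨1, by rw [pow_one]; have := hp.two_le; omega, by rw [pow_one]; exact dvd_mul_right p t⟩) g
    have hdk := hmk g k hsc
    rcases hk with rfl | rfl | rfl | rfl | rfl
    · exact Or.inr (Or.inr (Or.inl hdk))
    · exact Or.inr (Or.inl hdk)
    · exact Or.inl hdk
    · exact Or.inr (Or.inr (Or.inr (Or.inl hdk)))
    · split_ifs at hdk with h2
      · exact Or.inr (Or.inr (Or.inr (Or.inr ⟨h2, hdk⟩)))
      · exact Or.inr (Or.inr (Or.inr (Or.inl hdk)))
  · intro hs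
    suffices h : ∃ g : SL3, s ∣ orderOf (QuotientGroup.mk g :
        Matrix.ProjectiveSpecialLinearGroup (Fin 3) F) by
      obtain ⟨g, hg⟩ := h
      exact exists_pow_orderOf _ hg
    -- scalars with a unit diagonal entry are trivial
    have hfix : ∀ g : SL3, (∀ k : ℕ, ((g ^ k : SL3) : M3) 2 2 = 1) →
        orderOf g ∣ orderOf (QuotientGroup.mk g : Matrix.ProjectiveSpecialLinearGroup (Fin 3) F) := by
      intro g hg
      have h : g ^ orderOf (QuotientGroup.mk g : Matrix.ProjectiveSpecialLinearGroup (Fin 3) F) ∈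
          Subgroup.center SL3 := by
        rw [← QuotientGroup.eq_one_iff, QuotientGroup.mk_pow, pow_orderOf_eq_one]
      obtain ⟨-, c, -, hc⟩ := center_pow_sl3 hd h
      have h1 := hg (orderOf (QuotientGroup.mk g : Matrix.ProjectiveSpecialLinearGroup (Fin 3) F))
      rw [hc] at h1
      simp at h1
      refine orderOf_dvd_of_pow_eq_one (Subtype.ext ?_)
      rw [hc, h1, one_smul]
      rfl
    rcases hs with hs | hs | hs | hs | ⟨h2, hs⟩
    · obtain ⟨g, hg⟩ := exists_singer (F := F) p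
      exact ⟨g, hs.trans (dvd_orderOf_mk g hdpos hzd (by rwa [← hu]))⟩
    · obtain ⟨g, hg⟩ := exists_quadratic (F := F)
      exact ⟨g, hs.trans (dvd_orderOf_mk g hdpos hzd (by rwa [← hsq]))⟩
    · obtain ⟨γ, hγ⟩ := IsCyclic.exists_generator (α := Fˣ)
      have hγo : orderOf γ = d * t := by
        rw [orderOf_eq_card_of_forall_mem_zpowers hγ, Nat.card_units, Nat.card_eq_fintype_card, hqm]
      obtain ⟨g, hg, hgm⟩ := exists_diag (-1) 0 (by norm_num) γ
      refine ⟨g, hs.trans (hγo ▸ hg ▸ hfix g fun k => ?_)⟩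
      rw [Matrix.SpecialLinearGroup.coe_pow, hgm, Matrix.diagonal_pow]
      simp
    · obtain ⟨γ, hγ⟩ := IsCyclic.exists_generator (α := Fˣ)
      have hγo : orderOf γ = d * t := by
        rw [orderOf_eq_card_of_forall_mem_zpowers hγ, Nat.card_units, Nat.card_eq_fintype_card, hqm]
      obtain ⟨g, hgp, hgγ, -⟩ := exists_jordan p γ (1 : F) one_ne_zero
      refine ⟨g, hs.trans (dvd_orderOf_mk g hdpos hzd ?_)⟩
      rw [mul_left_comm]
      refine Nat.Coprime.mul_dvd_of_dvd_of_dvd ((Nat.Prime.coprime_iff_not_dvd hp).mpr fun hdv => ?_)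
        hgp (hγo ▸ hgγ)
      obtain ⟨f, -, hf⟩ := FiniteField.card F p
      have hpq : p ∣ d * t + 1 := by
        rw [← ht, ← hr, hf]; exact dvd_pow_self p f.pos.ne'
      exact hp.not_dvd_one ((Nat.dvd_add_right hdv).mp hpq)
    · subst h2
      obtain ⟨g, hg⟩ : ∃ g : SL3, (g : M3) = !![1, 1, 0; 0, 1, 1; 0, 0, 1] :=
        ⟨⟨_, by simp [Matrix.det_fin_three]⟩, rfl⟩
      have h22 : ∀ k : ℕ, ((g ^ k : SL3) : M3) 2 0 = 0 ∧ ((g ^ k : SL3) : M3) 2 1 = 0 ∧
          ((g ^ k : SL3) : M3) 2 2 = 1 := by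
        intro k
        induction k with
        | zero => simp
        | succ k ih =>
          rw [pow_succ, Matrix.SpecialLinearGroup.coe_mul, hg]
          obtain ⟨i0, i1, i2⟩ := ih
          simp only [Matrix.mul_apply, Fin.sum_univ_three]
          rw [i0, i1, i2]
          simp
      refine ⟨g, hs.trans ((show 4 ∣ orderOf g from ?_).trans (hfix g fun k => (h22 k).2.2))⟩
      have h2 : (2 : F) = 0 := by
        have := CharP.cast_eq_zero F 2
        exact_mod_cast this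
      have h4 : orderOf g = 2 ^ (1 + 1) := by
        apply orderOf_eq_prime_pow
        · intro h
          have := congrFun (congrFun (congrArg Subtype.val h) 0) 2
          rw [pow_one, sq, Matrix.SpecialLinearGroup.coe_mul, hg] at this
          simp [Matrix.mul_apply, Fin.sum_univ_three] at this
        · apply Subtype.ext
          rw [show (2 : ℕ) ^ (1 + 1) = 2 * 2 by norm_num, pow_mul, sq, sq,
            Matrix.SpecialLinearGroup.coe_mul, Matrix.SpecialLinearGroup.coe_mul, hg]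
          ext i j
          fin_cases i <;> fin_cases j <;>
            simp [Matrix.mul_apply, Fin.sum_univ_three] <;>
            first | linear_combination h2 | linear_combination 2 * h2 | linear_combination 3 * h2
      rw [h4]; norm_num

theorem psu_spectrum (p : ℕ) [Fact p.Prime] [CharP F p] (hp2 : p ≠ 2) {q : ℕ}
    (hF : Fintype.card F = q ^ 2) :
    Set.range (orderOf : Cfsg.PSU 3 F q → ℕ) =
      {s : ℕ | s ∣ q + 1} ∪ {s : ℕ | s ∣ p * (q + 1) / Nat.gcd 3 (q + 1)} ∪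
        {s : ℕ | s ∣ (q ^ 2 - 1) / Nat.gcd 3 (q + 1)} ∪
        {s : ℕ | s ∣ (q ^ 2 - q + 1) / Nat.gcd 3 (q + 1)} := by
  classical
  have hp : p.Prime := Fact.out
  have hq := Classical.two_le_of_card_sq hF
  obtain ⟨d, hd⟩ : ∃ d, d = Nat.gcd 3 (q + 1) := ⟨_, rfl⟩
  have hdpos : 0 < d := hd ▸ Nat.gcd_pos_of_pos_left _ (by norm_num)
  obtain ⟨t, ht⟩ : d ∣ q + 1 := hd ▸ Nat.gcd_dvd_right _ _
  obtain ⟨w, hw⟩ : d ∣ 3 := hd ▸ Nat.gcd_dvd_left _ _
  have hQz : -(q : ℤ) - 1 = -((d : ℤ) * t) := by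
    rw [show (d : ℤ) * t = ((q + 1 : ℕ) : ℤ) by rw [ht]; push_cast; ring]; push_cast; ring
  have hsq : q ^ 2 - 1 = d * ((q - 1) * t) := by
    rw [← mul_left_comm, ← ht, mul_comm, show q ^ 2 = q * q from sq q]
    exact Nat.mul_self_sub_mul_self_eq q 1
  obtain ⟨u, hu⟩ : d ∣ q ^ 2 - q + 1 := by
    have e : q ^ 2 - q + 1 + 3 * q = (q + 1) * (q + 1) := by
      have h1 : q ≤ q ^ 2 := by nlinarith
      have h2 : (q + 1) * (q + 1) = q ^ 2 + 2 * q + 1 := by ring
      omega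
    have h3 : d ∣ q ^ 2 - q + 1 + 3 * q := e ▸ Dvd.dvd.mul_right ⟨t, ht⟩ _
    exact (Nat.dvd_add_left (Dvd.dvd.mul_right ⟨w, hw⟩ q)).mp h3
  rw [← hd, ht, hsq, hu, Nat.mul_div_cancel_left _ hdpos, Nat.mul_div_cancel_left _ hdpos,
    mul_left_comm p, Nat.mul_div_cancel_left _ hdpos]
  have hzd : ∀ z ∈ Subgroup.center (Cfsg.SU 3 F q), z ^ d = 1 := fun z hz => (center_pow_su3 hF hd hz).1
  ext s
  constructor
  · rintro ⟨y, rfl⟩
    obtain ⟨g, rfl⟩ := QuotientGroup.mk_surjective y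
    obtain ⟨k, hk, c, hc⟩ := exists_scalar_su3 (k1 := d * t) (k2 := (q - 1) * t) (k3 := u)
      (k4 := p * t) (k5 := p * t) p hF
      (by rw [hQz, neg_dvd]; exact ⟨1, by push_cast; ring⟩)
      ⟨-t, by rw [show (-(q : ℤ)) ^ 2 - 1 = ((q : ℤ) - 1) * ((q : ℤ) + 1) by ring,
          Nat.cast_mul, Nat.cast_sub (by omega)]; push_cast; ring⟩
      ⟨w, by rw [show (-(q : ℤ)) ^ 2 - 1 = ((q : ℤ) - 1) * -(-(q : ℤ) - 1) by ring, hQz,
          show (3 : ℤ) = (d : ℤ) * w by exact_mod_cast hw, Nat.cast_mul, Nat.cast_sub (by omega)]; push_cast; ring⟩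
      ⟨-t, by rw [show 1 + -(q : ℤ) + (-(q : ℤ)) ^ 2 = ((d * u : ℕ) : ℤ) by
          rw [← hu, Nat.cast_add, Nat.cast_sub (by nlinarith)]; push_cast; ring, hQz]; push_cast; ring⟩
      ⟨-(p * w), by rw [hQz, show (3 : ℤ) = (d : ℤ) * w by exact_mod_cast hw]; push_cast; ring⟩
      (dvd_mul_right p t)
      ⟨1, by rw [pow_one]; have := hp.two_le; omega, by rw [pow_one]; exact dvd_mul_right p t⟩ g.1 g.2
    have hdk : orderOf (QuotientGroup.mk g : Cfsg.PSU 3 F q) ∣ k := by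
      refine orderOf_dvd_of_pow_eq_one ?_
      rw [← QuotientGroup.mk_pow, QuotientGroup.eq_one_iff, center_su3 hF]
      exact ⟨c, hc⟩
    simp only [Set.mem_union, Set.mem_setOf_eq]
    rcases hk with rfl | rfl | rfl | rfl | rfl <;> tauto
  · intro hs
    suffices h : ∃ g : Cfsg.SU 3 F q, s ∣ orderOf (QuotientGroup.mk g : Cfsg.PSU 3 F q) by
      obtain ⟨g, hg⟩ := h
      exact exists_pow_orderOf _ hg
    obtain ⟨β, hβ⟩ := IsCyclic.exists_generator (α := Fˣ)
    have hβo : orderOf β = (q - 1) * (q + 1) := by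
      rw [orderOf_eq_card_of_forall_mem_zpowers hβ, Classical.units_card_sq hF]
    obtain ⟨α, hα⟩ : ∃ α : Fˣ, α = β ^ (q - 1) := ⟨_, rfl⟩
    have hαo : orderOf α = q + 1 := by
      rw [hα, orderOf_pow' β (by omega), hβo, Nat.gcd_mul_right_left,
        Nat.mul_div_cancel_left _ (by omega)]
    have hα1 : (α : F) ^ (q + 1) = 1 := by
      rw [← Units.val_pow_eq_pow_val, ← hαo, pow_orderOf_eq_one, Units.val_one]
    obtain ⟨σ, hσ⟩ : ∃ σ : F →+* F, σ = Classical.qFrob hF := ⟨_, rfl⟩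
    have hσa : ∀ x : F, σ x = x ^ q := fun x => by rw [hσ, Classical.qFrob_apply]
    obtain ⟨H, hH⟩ : ∃ H : GL (Fin 3) F, (H : M3) = !![0, 1, 0; 1, 0, 0; 0, 0, 1] :=
      ⟨Matrix.GeneralLinearGroup.mkOfDetNeZero _ (by simp [Matrix.det_fin_three]), rfl⟩
    have hHh : ((H : M3).map (Classical.qFrob hF))ᵀ = (H : M3) := by
      rw [hH]; ext i j; fin_cases i <;> fin_cases j <;> simp
    simp only [Set.mem_union, Set.mem_setOf_eq] at hs
    rcases hs with ((hs | hs) | hs) | hs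
    · obtain ⟨g, hg, hgm⟩ := exists_diag (-1) 0 (by norm_num) α
      have hmem : g ∈ Cfsg.SU 3 F q := by
        obtain ⟨s', hs'⟩ := Classical.diagonal_mem_su hF ![(α : F), ((α ^ (-1 : ℤ) : Fˣ) : F), ((α ^ (0 : ℤ) : Fˣ) : F)]
          (fun k => by fin_cases k <;> simp [hα1]) (by simp [Fin.prod_univ_three])
        rw [show g = s'.1 from Subtype.ext (hgm.trans hs'.symm)]
        exact s'.2
      refine ⟨⟨g, hmem⟩, hs.trans ?_⟩
      have h : (⟨g, hmem⟩ : Cfsg.SU 3 F q) ^ orderOf (QuotientGroup.mk ⟨g, hmem⟩ : Cfsg.PSU 3 F q) ∈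
          Subgroup.center (Cfsg.SU 3 F q) := by
        rw [← QuotientGroup.eq_one_iff, QuotientGroup.mk_pow, pow_orderOf_eq_one]
      obtain ⟨-, c, -, hc⟩ := center_pow_su3 hF hd h
      rw [SubmonoidClass.coe_pow, Matrix.SpecialLinearGroup.coe_pow, hgm, Matrix.diagonal_pow] at hc
      have h2 := congrFun (congrFun hc 2) 2
      simp at h2
      have h0 := congrFun (congrFun hc 0) 0
      rw [← h2] at h0
      simp at h0
      rw [← ht, ← hαo]
      exact orderOf_dvd_of_pow_eq_one (Units.ext (by rw [Units.val_pow_eq_pow_val, Units.val_one, h0]))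
    · obtain ⟨δ, hδ0, hδ⟩ : ∃ δ : F, δ ≠ 0 ∧ δ + σ δ = 0 := by
        obtain ⟨x, hx⟩ : ∃ x, σ x ≠ x := by
          by_contra h
          push Not at h
          exact Classical.qFrob_ne_id hF (by rw [← hσ]; exact RingHom.ext h)
        exact ⟨x - σ x, sub_ne_zero.mpr (Ne.symm hx), by
          rw [map_sub, hσ, Classical.qFrob_qFrob]; ring⟩
      obtain ⟨g, hgp, hgα, hgm⟩ := exists_jordan p α δ hδ0
      have hασ : (α : F) * σ (α : F) = 1 := by rw [hσa, ← pow_succ', hα1]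
      obtain ⟨s', hs'⟩ := exists_su_of_form hF g H hHh (by
        rw [hH, hgm, ← hσ]
        ext i j
        fin_cases i <;> fin_cases j <;> simp [Matrix.mul_apply, Fin.sum_univ_three]
        all_goals first
          | linear_combination hασ
          | linear_combination ((α : F) * σ (α : F)) * hδ
          | (field_simp; linear_combination (1 + (α : F) * σ (α : F)) * hασ)
          | (field_simp; linear_combination -(1 + (α : F) * σ (α : F)) * hασ))
      refine ⟨s', hs.trans (dvd_orderOf_mk s' hdpos hzd ?_)⟩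
      rw [hs', mul_left_comm, ← ht]
      refine Nat.Coprime.mul_dvd_of_dvd_of_dvd ((Nat.Prime.coprime_iff_not_dvd hp).mpr fun hdv => ?_)
        hgp (hαo ▸ hgα)
      obtain ⟨f', hpp, hf'⟩ := FiniteField.card F p
      obtain ⟨f, -, hf⟩ := (Nat.dvd_prime_pow hpp).1
        (show q ∣ p ^ (f' : ℕ) by rw [← hf', hF, sq]; exact dvd_mul_right q q)
      rw [hf] at hdv
      exact hp.not_dvd_one ((Nat.dvd_add_right (dvd_pow_self p (show f ≠ 0 by
        rintro rfl; simp at hf; omega))).mp hdv)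
    · obtain ⟨g, hg, hgm⟩ := exists_diag (-(q : ℤ)) ((q : ℤ) - 1) (by ring) β
      obtain ⟨b, hb⟩ : ∃ b : F, b = (β : F) := ⟨_, rfl⟩
      have hb0 : b ≠ 0 := hb ▸ β.ne_zero
      have hbq : b ^ (q * q) = b := by rw [← sq, ← hF, FiniteField.pow_card]
      obtain ⟨s', hs'⟩ := exists_su_of_form hF g H hHh (by
        rw [hH, hgm, ← hσ, show ((q : ℤ) - 1) = -1 + (q : ℤ) by ring]
        simp only [_root_.zpow_neg, _root_.zpow_add, zpow_natCast, Units.val_mul, Units.val_inv_eq_inv_val,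
          Units.val_pow_eq_pow_val, _root_.zpow_one, ← hb]
        ext i j
        fin_cases i <;> fin_cases j <;> simp [Matrix.mul_apply, Fin.sum_univ_three, hσa, show q ≠ 0 by omega]
        all_goals
          try simp only [inv_pow, ← pow_mul, mul_pow, hbq]
          try field_simp)
      refine ⟨s', hs.trans (dvd_orderOf_mk s' hdpos hzd ?_)⟩
      rw [hs', hg, hβo, ← hsq, show q ^ 2 = q * q from sq q]
      exact (Nat.mul_self_sub_mul_self_eq q 1).trans (mul_comm _ _) ▸ dvd_rfl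
    · obtain ⟨s', hs'⟩ := exists_singer_su (F := F) p hF
      exact ⟨s', hs.trans (dvd_orderOf_mk s' hdpos hzd (by rwa [← hu]))⟩

end CfsgLib.KnownB.Spec3
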