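import Cfsg.Agent.Lib.KnownB.SpecThree
import Cfsg.Agent.Lib.KnownB.PSL3Cover
import Cfsg.Agent.Lib.KnownB.GL2Irr
import Cfsg.Agent.Lib.KnownC.HermCongr
import Cfsg.Agent.Lib.Classical.SUCenter

/-!
# Element orders of `SL₃` and `SU₃` modulo scalars
-/

set_option autoImplicit false
set_option linter.unusedSectionVars false

namespace CfsgLib.KnownB.Spec3

open Matrix Polynomial
open scoped MatrixGroups

universe u

variable {F : Type u} [Field F]

local notation "M3" => Matrix (Fin 3) (Fin 3) F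
local notation "SL3" => Matrix.SpecialLinearGroup (Fin 3) F

/-- The eigenvalues of `g` in an algebraic closure, with Vieta's relations. -/
theorem exists_roots (g : SL3) : ∃ a b c : AlgebraicClosure F,
    ((g : M3).map (algebraMap F (AlgebraicClosure F))).charpoly =
      (X - Polynomial.C a) * (X - Polynomial.C b) * (X - Polynomial.C c) ∧
    a + b + c = algebraMap F _ (g : M3).trace ∧
    a * b + a * c + b * c = algebraMap F _ (PSL3Cover.sigma2 (g : M3)) ∧ a * b * c = 1 := by
  classical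
  set K := AlgebraicClosure F
  obtain ⟨P, hP⟩ : ∃ P, P = ((g : M3).map (algebraMap F K)).charpoly := ⟨_, rfl⟩
  have hmon : P.Monic := hP ▸ Matrix.charpoly_monic _
  have hspl : P.Splits := IsAlgClosed.splits P
  have hcard : P.roots.card = 3 := by
    rw [← hspl.natDegree_eq_card_roots, hP, Matrix.charpoly_natDegree_eq_dim, Fintype.card_fin]
  obtain ⟨a, b, c, habc⟩ := Multiset.card_eq_three.mp hcard
  have hPabc : P = (X - Polynomial.C a) * (X - Polynomial.C b) * (X - Polynomial.C c) := by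
    rw [hspl.eq_prod_roots_of_monic hmon, habc]
    simp [mul_assoc]
  refine ⟨a, b, c, hP.symm.trans hPabc, ?_⟩
  have e : P = X ^ 3 - Polynomial.C (a + b + c) * X ^ 2 + Polynomial.C (a * b + a * c + b * c) * X -
      Polynomial.C (a * b * c) := by
    rw [hPabc]; simp only [map_add, map_mul]; ring
  have e' : P = X ^ 3 - Polynomial.C (algebraMap F K (g : M3).trace) * X ^ 2 +
      Polynomial.C (algebraMap F K (PSL3Cover.sigma2 (g : M3))) * X - Polynomial.C 1 := by
    rw [hP, Matrix.charpoly_map, PSL3Cover.charpoly_three, g.2]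
    simp [Polynomial.map_sub, Polynomial.map_add, Polynomial.map_mul, Polynomial.map_pow]
  rw [e'] at e
  refine ⟨?_, ?_, ?_⟩
  · have := congrArg (fun f => f.coeff 2) e
    simp only [Polynomial.coeff_sub, Polynomial.coeff_add, Polynomial.coeff_C_mul, Polynomial.coeff_X_pow, Polynomial.coeff_X, Polynomial.coeff_C] at this
    norm_num at this
    linear_combination this
  · have := congrArg (fun f => f.coeff 1) e
    simp only [Polynomial.coeff_sub, Polynomial.coeff_add, Polynomial.coeff_C_mul, Polynomial.coeff_X_pow, Polynomial.coeff_X, Polynomial.coeff_C] at this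
    norm_num at this
    linear_combination -this
  · have := congrArg (fun f => f.coeff 0) e
    simp only [Polynomial.coeff_sub, Polynomial.coeff_add, Polynomial.coeff_C_mul, Polynomial.coeff_X_pow, Polynomial.coeff_X, Polynomial.coeff_C] at this
    norm_num at this
    linear_combination this

/-- Descent of "scalar" from an extension. -/
theorem scalar_descend {g : SL3} {k : ℕ} {K : Type*} [Field K] [Algebra F K]
    {t : K} (h : ((g : M3).map (algebraMap F K)) ^ k = t • 1) :
    ∃ c : F, ((g ^ k : SL3) : M3) = c • 1 := by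
  rw [← Matrix.map_pow] at h
  refine ⟨((g : M3) ^ k) 0 0, ?_⟩
  rw [Matrix.SpecialLinearGroup.coe_pow]
  ext i j
  have hij := congrFun (congrFun h i) j
  have h00 := congrFun (congrFun h 0) 0
  simp [Matrix.smul_apply, Matrix.one_apply] at hij h00
  apply (algebraMap F K).injective
  rcases eq_or_ne i j with rfl | hne
  · rw [if_pos rfl] at hij
    simp [hij, h00]
  · rw [if_neg hne] at hij
    simp [Matrix.one_apply, hne, hij]

/-- `x ↦ x^n` on an algebraic closure, for a power `n` of the characteristic, as a ring map. -/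
theorem roots_map_pow (p : ℕ) [Fact p.Prime] [CharP F p] (f : ℕ) (g : SL3) {a b c : AlgebraicClosure F}
    (h : ((g : M3).map (algebraMap F (AlgebraicClosure F))).charpoly =
      (X - Polynomial.C a) * (X - Polynomial.C b) * (X - Polynomial.C c)) :
    (((g : M3).map (· ^ p ^ f)).map (algebraMap F (AlgebraicClosure F))).charpoly.roots =
      ({a, b, c} : Multiset (AlgebraicClosure F)).map (· ^ p ^ f) := by
  have : CharP (AlgebraicClosure F) p :=
    charP_of_injective_algebraMap (algebraMap F (AlgebraicClosure F)).injective p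
  have hroots : ((g : M3).map (algebraMap F (AlgebraicClosure F))).charpoly.roots = {a, b, c} := by
    rw [h, Polynomial.roots_mul (by simp [X_sub_C_ne_zero]), Polynomial.roots_mul
      (by simp [X_sub_C_ne_zero]), roots_X_sub_C, roots_X_sub_C, roots_X_sub_C]
    simp [Multiset.insert_eq_cons]
  have e : ((g : M3).map (· ^ p ^ f)).map (algebraMap F (AlgebraicClosure F)) =
      ((g : M3).map (algebraMap F (AlgebraicClosure F))).map (iterateFrobenius (AlgebraicClosure F) p f) := by
    ext i j; simp [iterateFrobenius_def, map_pow]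
  rw [e, Matrix.charpoly_map, (IsAlgClosed.splits _).roots_map, hroots]
  rfl

theorem exists_scalar_sl3 [Fintype F] (p : ℕ) [Fact p.Prime] [CharP F p] {k1 k2 k3 k4 k5 : ℕ}
    (h1 : (Fintype.card F : ℤ) - 1 ∣ (k1 : ℤ))
    (h2a : (Fintype.card F : ℤ) ^ 2 - 1 ∣ ((Fintype.card F : ℤ) - 1) * k2)
    (h2b : (Fintype.card F : ℤ) ^ 2 - 1 ∣ 3 * (k2 : ℤ))
    (h3 : 1 + (Fintype.card F : ℤ) + (Fintype.card F : ℤ) ^ 2 ∣ ((Fintype.card F : ℤ) - 1) * k3)
    (h4 : (Fintype.card F : ℤ) - 1 ∣ 3 * (k4 : ℤ)) (h4p : p ∣ k4)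
    (h5 : ∃ j, 3 ≤ p ^ j ∧ p ^ j ∣ k5) (g : SL3) :
    ∃ k, (k = k1 ∨ k = k2 ∨ k = k3 ∨ k = k4 ∨ k = k5) ∧ ∃ t : F, ((g ^ k : SL3) : M3) = t • 1 := by
  obtain ⟨a, b, c, hch, -, -, -⟩ := exists_roots g
  have : CharP (AlgebraicClosure F) p :=
    charP_of_injective_algebraMap (algebraMap F (AlgebraicClosure F)).injective p
  obtain ⟨f, -, hf⟩ := FiniteField.card F p
  have h := roots_map_pow p f g hch
  have hid : (g : M3).map (· ^ p ^ (f : ℕ)) = (g : M3) := by
    ext i j; simp [← hf, FiniteField.pow_card]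
  rw [hid, hch, Polynomial.roots_mul (by simp [X_sub_C_ne_zero]), Polynomial.roots_mul
      (by simp [X_sub_C_ne_zero]), roots_X_sub_C, roots_X_sub_C, roots_X_sub_C] at h
  obtain ⟨k, hk, t, ht⟩ := SpecThree.exists_scalar_pow p (Fintype.card F : ℤ) h1 h2a h2b h3 h4 h4p h5
    (by exact_mod_cast Fintype.card_ne_zero) _
    (by rw [← RingHom.mapMatrix_apply, ← RingHom.map_det, g.2, map_one]) hch
    (by simp only [zpow_natCast, hf]; simpa [Multiset.insert_eq_cons] using h.symm)
  exact ⟨k, hk, scalar_descend ht⟩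

theorem exists_scalar_su3 [Fintype F] (p : ℕ) [Fact p.Prime] [CharP F p] {q : ℕ}
    (hF : Fintype.card F = q ^ 2) {k1 k2 k3 k4 k5 : ℕ}
    (h1 : -(q : ℤ) - 1 ∣ (k1 : ℤ))
    (h2a : (-(q : ℤ)) ^ 2 - 1 ∣ (-(q : ℤ) - 1) * k2)
    (h2b : (-(q : ℤ)) ^ 2 - 1 ∣ 3 * (k2 : ℤ))
    (h3 : 1 + -(q : ℤ) + (-(q : ℤ)) ^ 2 ∣ (-(q : ℤ) - 1) * k3)
    (h4 : -(q : ℤ) - 1 ∣ 3 * (k4 : ℤ)) (h4p : p ∣ k4)
    (h5 : ∃ j, 3 ≤ p ^ j ∧ p ^ j ∣ k5) (g : SL3) (hg : g ∈ Cfsg.SU 3 F q) :
    ∃ k, (k = k1 ∨ k = k2 ∨ k = k3 ∨ k = k4 ∨ k = k5) ∧ ∃ t : F, ((g ^ k : SL3) : M3) = t • 1 := by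
  classical
  obtain ⟨a, b, c, hch, ht, hs, hp1⟩ := exists_roots g
  have : CharP (AlgebraicClosure F) p := charP_of_injective_algebraMap (algebraMap F (AlgebraicClosure F)).injective p
  obtain ⟨N, hpp, hN⟩ := FiniteField.card F p
  obtain ⟨f, -, hf⟩ := (Nat.dvd_prime_pow hpp).1
    (show q ∣ p ^ (N : ℕ) by rw [← hN, hF, sq]; exact dvd_mul_right q q)
  have h := roots_map_pow p f g hch
  have hinvT : (g : M3).map (· ^ p ^ f) = ((g : M3).adjugate)ᵀ := by
    have hg' := (Classical.mem_su_iff hF g).mp hg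
    have hm : (g : M3).map (Classical.qFrob hF) = (g : M3).map (· ^ p ^ f) := by
      ext i j; simp [Classical.qFrob_apply, hf]
    rw [← hm, Matrix.adjugate_transpose]
    calc (g : M3).map (Classical.qFrob hF)
        = ((g : M3)ᵀ.adjugate * (g : M3)ᵀ) * (g : M3).map (Classical.qFrob hF) := by
          rw [Matrix.adjugate_mul, Matrix.det_transpose, g.2, one_smul, Matrix.one_mul]
      _ = _ := by rw [Matrix.mul_assoc, hg', Matrix.mul_one]
  have hR : (((g : M3).map (· ^ p ^ f)).map (algebraMap F (AlgebraicClosure F))).charpoly.roots =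
      ({a, b, c} : Multiset (AlgebraicClosure F)).map (·⁻¹) := by
    have hadj2 : PSL3Cover.sigma2 (g : M3).adjugate = (g : M3).det * (g : M3).trace := by
      rw [Matrix.adjugate_fin_three, Matrix.det_fin_three, Matrix.trace_fin_three, PSL3Cover.sigma2]
      simp
      ring
    have hadj1 : (g : M3).adjugate.trace = PSL3Cover.sigma2 (g : M3) := by
      rw [Matrix.adjugate_fin_three, Matrix.trace_fin_three, PSL3Cover.sigma2]
      simp
      ring
    rw [hinvT, Matrix.charpoly_map, Matrix.charpoly_transpose, PSL3Cover.charpoly_three, hadj1, hadj2,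
      Matrix.det_adjugate, g.2, one_mul, one_pow]
    simp only [Polynomial.map_sub, Polynomial.map_add, Polynomial.map_mul, Polynomial.map_pow,
      Polynomial.map_X, Polynomial.map_C, map_one, Polynomial.map_one]
    rw [← ht, ← hs]
    have ha : a ≠ 0 := left_ne_zero_of_mul (left_ne_zero_of_mul_eq_one hp1)
    have hb : b ≠ 0 := right_ne_zero_of_mul (left_ne_zero_of_mul_eq_one hp1)
    have hc : c ≠ 0 := right_ne_zero_of_mul_eq_one hp1
    have e : (X ^ 3 - Polynomial.C (a * b + a * c + b * c) * X ^ 2 + Polynomial.C (a + b + c) * X - 1 :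
        (AlgebraicClosure F)[X]) = (X - Polynomial.C a⁻¹) * (X - Polynomial.C b⁻¹) * (X - Polynomial.C c⁻¹) := by
      have e1 : a * b + a * c + b * c = a⁻¹ + b⁻¹ + c⁻¹ := by
        field_simp; linear_combination (a * b + a * c + b * c) * hp1
      have e2 : a + b + c = a⁻¹ * b⁻¹ + a⁻¹ * c⁻¹ + b⁻¹ * c⁻¹ := by
        field_simp; linear_combination (a + b + c) * hp1
      have e3 : (1 : (AlgebraicClosure F)) = a⁻¹ * b⁻¹ * c⁻¹ := by
        rw [← mul_inv, ← mul_inv, hp1, inv_one]
      rw [e1, e2, ← map_one (Polynomial.C : (AlgebraicClosure F) →+* (AlgebraicClosure F)[X]), e3]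
      simp only [map_add, map_mul]
      ring
    rw [e, Polynomial.roots_mul (by simp [X_sub_C_ne_zero]), Polynomial.roots_mul
      (by simp [X_sub_C_ne_zero]), roots_X_sub_C, roots_X_sub_C, roots_X_sub_C]
    simp [Multiset.insert_eq_cons]
  rw [hR] at h
  obtain ⟨k, hk, t, ht'⟩ := SpecThree.exists_scalar_pow p (-(q : ℤ)) h1 h2a h2b h3 h4 h4p h5
    (by
      have := Classical.two_le_of_card_sq hF
      omega) _
    (by rw [← RingHom.mapMatrix_apply, ← RingHom.map_det, g.2, map_one]) hch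
    (by
      simp only [_root_.zpow_neg, zpow_natCast, hf]
      have h' := congrArg (Multiset.map (·⁻¹)) h
      rw [Multiset.map_map, Multiset.map_map] at h'
      simp [Function.comp_def] at h' ⊢
      exact h'.symm)
  exact ⟨k, hk, scalar_descend ht'⟩

end CfsgLib.KnownB.Spec3
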