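import Mathlib
import Cfsg.Prelude.Def_LinearParabolics
import Cfsg.Agent.Lib.KnownB.FlagCount
import Cfsg.Agent.Lib.KnownB.InvLatticeMobius

/-!
The values of the Steinberg character of `GL_n(q)` at semisimple elements.
-/

set_option autoImplicit false

namespace CfsgLib.KnownB.StValue

open scoped MatrixGroups
open Finset Module UniqueFactorizationMonoid CfsgLib.KnownB.InvMobius

universe u

/-! ### Permutations with `κ i ≤ i + 1` -/

section Comb

variable {m : ℕ} (B : Finset (Fin (m + 1)))

/-- The start of the block ending at `i`. -/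
def start (i : Fin (m + 1)) : ℕ := (B.filter (· < i)).sup fun c => c.val + 1

theorem start_le (i : Fin (m + 1)) : start B i ≤ i.val := by
  refine Finset.sup_le fun c hc => ?_
  exact (Finset.mem_filter.1 hc).2

theorem le_start {i c : Fin (m + 1)} (hc : c ∈ B) (h : c < i) : c.val + 1 ≤ start B i :=
  Finset.le_sup (f := fun c : Fin (m + 1) => c.val + 1) (Finset.mem_filter.2 ⟨hc, h⟩)

theorem start_cases (i : Fin (m + 1)) :
    (start B i = 0 ∧ ∀ c ∈ B, ¬ c < i) ∨ ∃ c ∈ B, c < i ∧ start B i = c.val + 1 := by
  rcases (B.filter (· < i)).eq_empty_or_nonempty with h | h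
  · refine Or.inl ⟨by rw [start, h, Finset.sup_empty]; rfl, fun c hc hci => ?_⟩
    exact absurd (Finset.mem_filter.2 ⟨hc, hci⟩ : c ∈ B.filter (· < i)) (by rw [h]; exact Finset.notMem_empty c)
  · obtain ⟨c, hc, he⟩ := Finset.exists_mem_eq_sup _ h fun c => c.val + 1
    exact Or.inr ⟨c, (Finset.mem_filter.1 hc).1, (Finset.mem_filter.1 hc).2, he⟩

/-- The permutation of a set of block ends, as a function. -/
def kfun (hB : Fin.last m ∈ B) (i : Fin (m + 1)) : Fin (m + 1) :=
  if h : i ∈ B then ⟨start B i, (start_le B i).trans_lt i.2⟩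
  else ⟨i.val + 1, by
    have : i ≠ Fin.last m := fun e => h (e ▸ hB)
    have : i.val ≠ m := fun e => this (Fin.ext e)
    omega⟩

theorem kfun_val (hB : Fin.last m ∈ B) (i : Fin (m + 1)) :
    (kfun B hB i).val = if i ∈ B then start B i else i.val + 1 := by
  unfold kfun
  split_ifs <;> rfl

theorem kfun_injective (hB : Fin.last m ∈ B) : Function.Injective (kfun B hB) := by
  intro i j h
  have h' := congrArg Fin.val h
  rw [kfun_val, kfun_val] at h'
  have key : ∀ a b : Fin (m + 1), a ∈ B → b ∉ B → start B a ≠ b.val + 1 := by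
    intro a b _ hb he
    rcases start_cases B a with ⟨h0, -⟩ | ⟨c, hc, -, hce⟩
    · omega
    · exact hb ((Fin.ext (by omega) : c = b) ▸ hc)
  split_ifs at h' with hi hj hj
  · rcases lt_trichotomy i j with hlt | heq | hgt
    · have := le_start B hi hlt
      have := start_le B i
      omega
    · exact heq
    · have := le_start B hj hgt
      have := start_le B j
      omega
  · exact absurd h' (key i j hi hj)
  · exact absurd h'.symm (key j i hj hi)
  · exact Fin.ext (by omega)

/-- The permutation of a set of block ends. -/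
noncomputable def kperm (hB : Fin.last m ∈ B) : Equiv.Perm (Fin (m + 1)) :=
  Equiv.ofBijective (kfun B hB) (Finite.injective_iff_bijective.1 (kfun_injective B hB))

theorem kperm_val (hB : Fin.last m ∈ B) (i : Fin (m + 1)) :
    (kperm B hB i).val = if i ∈ B then start B i else i.val + 1 := kfun_val B hB i

theorem kperm_le_succ (hB : Fin.last m ∈ B) (i : Fin (m + 1)) : (kperm B hB i).val ≤ i.val + 1 := by
  rw [kperm_val]
  have := start_le B i
  split_ifs <;> omega

theorem kperm_le_iff (hB : Fin.last m ∈ B) (i : Fin (m + 1)) : (kperm B hB i).val ≤ i.val ↔ i ∈ B := by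
  rw [kperm_val]
  have := start_le B i
  split_ifs with h
  · exact iff_of_true this h
  · exact iff_of_false (by omega) h

/-- Every such permutation comes from its set of block ends. -/
theorem exists_kperm (κ : Equiv.Perm (Fin (m + 1))) (h : ∀ i, (κ i).val ≤ i.val + 1) :
    ∃ (B : Finset (Fin (m + 1))) (hB : Fin.last m ∈ B), kperm B hB = κ := by
  classical
  set B := Finset.univ.filter fun i : Fin (m + 1) => (κ i).val ≤ i.val with hBdef
  have hB : Fin.last m ∈ B := by
    simp only [hBdef, Finset.mem_filter, Finset.mem_univ, true_and, Fin.val_last]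
    have := (κ (Fin.last m)).2
    omega
  have hmem : ∀ i, i ∈ B ↔ (κ i).val ≤ i.val := fun i => by simp [hBdef]
  refine ⟨B, hB, Equiv.ext fun i => Fin.ext ?_⟩
  suffices H : ∀ (k : ℕ) (i : Fin (m + 1)), i.val = k → (kperm B hB i).val = (κ i).val from H _ i rfl
  intro k
  induction k using Nat.strong_induction_on with
  | _ k ih =>
    intro i hk
    by_cases hi : i ∈ B
    · by_contra hne
      rw [kperm_val, if_pos hi] at hne
      have hv := (hmem i).1 hi
      -- every other value up to `i` is taken by a smaller position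
      have hcov : ∃ c : Fin (m + 1), c.val < i.val ∧ (kperm B hB c).val = (κ i).val := by
        rcases Nat.eq_zero_or_pos (κ i).val with h0 | h0
        · rcases start_cases B i with ⟨hs0, -⟩ | ⟨c, hc, hci, -⟩
          · exact absurd (by omega) hne
          · obtain ⟨c', hc', hmin⟩ := (B.filter (· < i)).exists_minimal ⟨c, Finset.mem_filter.2 ⟨hc, hci⟩⟩
            obtain ⟨hc'B, hc'i⟩ := Finset.mem_filter.1 hc'
            refine ⟨c', hc'i, ?_⟩
            rw [kperm_val, if_pos hc'B, h0]
            rcases start_cases B c' with ⟨hz, -⟩ | ⟨d, hd, hdc, -⟩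
            · exact hz
            · exact absurd (hmin (Finset.mem_filter.2 ⟨hd, hdc.trans hc'i⟩) hdc.le) (not_le.2 hdc)
        · have hwlt : (κ i).val - 1 < m + 1 := by have := i.2; omega
          let w : Fin (m + 1) := ⟨(κ i).val - 1, hwlt⟩
          have hwi : w < i := show (κ i).val - 1 < i.val by omega
          by_cases hw : w ∈ B
          · have hw' := le_start B hw hwi
            have hwv : w.val + 1 = (κ i).val := show (κ i).val - 1 + 1 = (κ i).val by omega
            rcases start_cases B i with ⟨-, hno⟩ | ⟨c, hc, hci, hce⟩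
            · exact absurd hwi (hno w hw)
            · have hwc : w < c := show w.val < c.val by omega
              obtain ⟨c', hc', hmin⟩ := (B.filter fun d => w < d ∧ d < i).exists_minimal
                ⟨c, Finset.mem_filter.2 ⟨hc, hwc, hci⟩⟩
              obtain ⟨hc'B, hwc', hc'i⟩ := Finset.mem_filter.1 hc'
              refine ⟨c', hc'i, ?_⟩
              rw [kperm_val, if_pos hc'B, ← hwv]
              refine le_antisymm (Finset.sup_le fun d hd => ?_) (le_start B hw hwc')
              obtain ⟨hdB, hdc⟩ := Finset.mem_filter.1 hd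
              by_contra hgt
              have hwd : w < d := show w.val < d.val by omega
              exact absurd (hmin (Finset.mem_filter.2 ⟨hdB, hwd, hdc.trans hc'i⟩) hdc.le) (not_le.2 hdc)
          · refine ⟨w, hwi, ?_⟩
            rw [kperm_val, if_neg hw]
            show (κ i).val - 1 + 1 = (κ i).val
            omega
      obtain ⟨c, hci, hce⟩ := hcov
      have he := κ.injective (Fin.ext ((ih c.val (hk ▸ hci) c rfl).symm.trans hce))
      rw [he] at hci
      omega
    · rw [kperm_val, if_neg hi]
      have := h i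
      rw [hmem] at hi
      omega

theorem sign_kperm (hB : Fin.last m ∈ B) :
    (Equiv.Perm.sign (kperm B hB) : ℤ) = (-1) ^ (m + 1 + B.card) := by
  classical
  generalize hk : B.card = k
  induction k using Nat.strong_induction_on generalizing B with
  | _ k ih =>
    rcases (B.erase (Fin.last m)).eq_empty_or_nonempty with he | he
    · have hB1 : B = {Fin.last m} := by
        rw [← Finset.insert_erase hB, he]
        rfl
      have hrot : kperm B hB = finRotate (m + 1) := by
        refine Equiv.ext fun i => Fin.ext ?_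
        rw [kperm_val]
        by_cases hi : i ∈ B
        · rw [if_pos hi]
          rw [hB1, Finset.mem_singleton] at hi
          subst hi
          rw [finRotate_last]
          refine le_antisymm (Finset.sup_le fun c hc => ?_) (Nat.zero_le _)
          rw [hB1, Finset.mem_filter, Finset.mem_singleton] at hc
          exact absurd hc.1 hc.2.ne
        · rw [if_neg hi]
          have hne : i.val < m := by
            have : i.val ≠ m := fun e => hi ((Fin.ext e : i = Fin.last m) ▸ hB)
            omega
          rw [show i = ⟨i.val, hne.trans_le m.le_succ⟩ from rfl, finRotate_of_lt hne]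
      rw [hrot, sign_finRotate, ← hk, hB1, Finset.card_singleton]
      simp [pow_add]
    · obtain ⟨b, hb⟩ := he
      obtain ⟨hbl, hbB⟩ := Finset.mem_erase.1 hb
      have hblt : b < Fin.last m := lt_of_le_of_ne (Fin.le_last b) hbl
      obtain ⟨c, hc, hmin⟩ := (B.filter (b < ·)).exists_minimal ⟨Fin.last m, Finset.mem_filter.2 ⟨hB, hblt⟩⟩
      obtain ⟨hcB, hbc⟩ := Finset.mem_filter.1 hc
      have hgap : ∀ d ∈ B, b < d → c ≤ d := fun d hd hbd => le_of_not_gt fun hdc =>
        absurd (hmin (Finset.mem_filter.2 ⟨hd, hbd⟩) hdc.le) (not_le.2 hdc)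
      have hB' : Fin.last m ∈ B.erase b := Finset.mem_erase.2 ⟨Ne.symm hbl, hB⟩
      have hsw : kperm (B.erase b) hB' = kperm B hB * Equiv.swap b c := by
        refine Equiv.ext fun i => Fin.ext ?_
        rw [Equiv.Perm.mul_apply, kperm_val, kperm_val]
        rcases eq_or_ne i b with rfl | hib
        · rw [Equiv.swap_apply_left, if_neg (Finset.notMem_erase _ _), if_pos hcB]
          refine (le_antisymm (Finset.sup_le fun d hd => ?_) (le_start B hbB hbc)).symm
          obtain ⟨hdB, hdc⟩ := Finset.mem_filter.1 hd
          have hdi : d ≤ i := le_of_not_gt fun h => absurd (hgap d hdB h) (not_le.2 hdc)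
          exact Nat.succ_le_succ hdi
        · rcases eq_or_ne i c with rfl | hic
          · rw [Equiv.swap_apply_right, if_pos hbB, if_pos (Finset.mem_erase.2 ⟨hib, hcB⟩)]
            unfold start
            congr 1
            ext d
            simp only [Finset.mem_filter, Finset.mem_erase]
            constructor
            · rintro ⟨⟨hdb, hd⟩, hdi⟩
              exact ⟨hd, lt_of_le_of_ne (le_of_not_gt fun h => absurd (hgap d hd h) (not_le.2 hdi)) hdb⟩
            · rintro ⟨hd, hdb⟩
              exact ⟨⟨hdb.ne, hd⟩, hdb.trans hbc⟩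
          · rw [Equiv.swap_apply_of_ne_of_ne hib hic]
            by_cases hi : i ∈ B
            · rw [if_pos hi, if_pos (Finset.mem_erase.2 ⟨hib, hi⟩)]
              rcases lt_or_gt_of_ne hib with hlt | hgt
              · unfold start
                congr 1
                ext d
                simp only [Finset.mem_filter, Finset.mem_erase]
                exact ⟨fun h => ⟨h.1.2, h.2⟩, fun h => ⟨⟨(h.2.trans hlt).ne, h.1⟩, h.2⟩⟩
              · have hci : c < i := lt_of_le_of_ne (hgap i hi hgt) (Ne.symm hic)
                refine le_antisymm (Finset.sup_mono fun d hd => ?_) (Finset.sup_le fun d hd => ?_)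
                · simp only [Finset.mem_filter, Finset.mem_erase] at hd ⊢
                  exact ⟨hd.1.2, hd.2⟩
                · obtain ⟨hdB, hdi⟩ := Finset.mem_filter.1 hd
                  rcases eq_or_ne d b with rfl | hdb
                  · exact le_trans (Nat.succ_le_succ hbc.le) (le_start _ (Finset.mem_erase.2 ⟨hbc.ne', hcB⟩) hci)
                  · exact le_start _ (Finset.mem_erase.2 ⟨hdb, hdB⟩) hdi
            · rw [if_neg hi, if_neg fun h => hi (Finset.mem_of_mem_erase h)]
      have hcard : (B.erase b).card + 1 = k := hk ▸ Finset.card_erase_add_one hbB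
      have h := ih _ (by omega) (B.erase b) hB' rfl
      rw [hsw, map_mul, Equiv.Perm.sign_swap hbc.ne, Units.val_mul, Units.val_neg, Units.val_one] at h
      rw [← hcard, ← add_assoc, pow_succ, ← h]
      ring

theorem sum_block (hB : Fin.last m ∈ B) :
    ∀ j, j ≤ m + 1 → ∑ k ∈ Finset.univ.filter (fun k : Fin (m + 1) => k.val < j), (1 + k.val - (kperm B hB k).val) =
      (B.filter fun c => c.val < j).sup fun c => c.val + 1 := by
  intro j
  induction j with
  | zero => intro _; simp
  | succ j ih =>
    intro hj
    let jj : Fin (m + 1) := ⟨j, by omega⟩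
    rw [show Finset.univ.filter (fun k : Fin (m + 1) => k.val < j + 1) =
      insert jj (Finset.univ.filter fun k : Fin (m + 1) => k.val < j) by
        ext k
        simp only [Finset.mem_filter, Finset.mem_univ, true_and, Finset.mem_insert, jj, Fin.ext_iff]
        omega, Finset.sum_insert (by simp [jj]), ih (by omega), kperm_val]
    have hstart : start B jj = (B.filter fun c => c.val < j).sup fun c => c.val + 1 := rfl
    by_cases h : jj ∈ B
    · rw [if_pos h, ← hstart, show B.filter (fun c => c.val < j + 1) = insert jj (B.filter fun c => c.val < j) by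
        ext k
        simp only [Finset.mem_filter, Finset.mem_insert, jj, Fin.ext_iff]
        constructor
        · intro hk'; rcases eq_or_ne k.val j with e | e
          · exact Or.inl e
          · exact Or.inr ⟨hk'.1, by omega⟩
        · rintro (e | ⟨hk', e⟩)
          · exact ⟨(Fin.ext e : k = jj) ▸ h, by omega⟩
          · exact ⟨hk', by omega⟩, Finset.sup_insert, ← hstart]
      have hle : start B jj ≤ j := start_le B jj
      show 1 + j - start B jj + start B jj = max (j + 1) (start B jj)
      omega
    · rw [if_neg h, show B.filter (fun c => c.val < j + 1) = B.filter fun c => c.val < j by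
        ext k
        simp only [Finset.mem_filter]
        refine and_congr_right fun hk' => ?_
        have : k.val ≠ j := fun e => h ((Fin.ext e : k = jj) ▸ hk')
        omega]
      show 1 + j - (j + 1) + _ = _
      omega

theorem label_lt_iff (hB : Fin.last m ∈ B) (i j : Fin (m + 1)) :
    Cfsg.compLabel (fun k => 1 + k.val - (kperm B hB k).val) j <
        Cfsg.compLabel (fun k => 1 + k.val - (kperm B hB k).val) i ↔
      ∃ b ∈ B, j ≤ b ∧ b < i := by
  classical
  set μ : Fin (m + 1) → ℕ := fun k => 1 + k.val - (kperm B hB k).val with hμ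
  set S : Fin (m + 1) → ℕ := fun l => ∑ k ∈ Finset.univ.filter (fun k : Fin (m + 1) => k ≤ l), μ k with hS
  have hSval : ∀ l, S l = (B.filter fun c => c.val < l.val + 1).sup fun c => c.val + 1 := fun l => by
    rw [← sum_block B hB (l.val + 1) l.2, hS]
    refine Finset.sum_congr (Finset.ext fun k => ?_) fun _ _ => rfl
    simp only [Finset.mem_filter, Finset.mem_univ, true_and, Fin.le_def]
    omega
  unfold Cfsg.compLabel
  change (Finset.univ.filter fun l => S l ≤ j.val).card < (Finset.univ.filter fun l => S l ≤ i.val).card ↔ _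
  constructor
  · intro h
    have hji : j < i := by
      by_contra hle
      exact absurd (Finset.card_le_card (Finset.monotone_filter_right _ fun l _ (hl : S l ≤ i.val) =>
        hl.trans (not_lt.1 hle))) (not_le.2 h)
    obtain ⟨l, hl1, hl2⟩ := Finset.exists_mem_notMem_of_card_lt_card h
    simp only [Finset.mem_filter, Finset.mem_univ, true_and] at hl1 hl2
    rw [hSval] at hl1 hl2
    rcases (B.filter fun c => c.val < l.val + 1).eq_empty_or_nonempty with he | he
    · rw [he] at hl2
      simp at hl2
    · obtain ⟨b, hb, hbe⟩ := Finset.exists_mem_eq_sup _ he fun c => c.val + 1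
      rw [hbe] at hl1 hl2
      exact ⟨b, (Finset.mem_filter.1 hb).1, by rw [Fin.le_def]; omega, by rw [Fin.lt_def]; omega⟩
  · rintro ⟨b, hb, hjb, hbi⟩
    rw [Fin.le_def] at hjb
    rw [Fin.lt_def] at hbi
    have hSb : S b = b.val + 1 := by
      rw [hSval]
      refine le_antisymm (Finset.sup_le fun c hc => ?_) (Finset.le_sup (f := fun c : Fin (m + 1) => c.val + 1)
        (Finset.mem_filter.2 ⟨hb, by omega⟩))
      have := (Finset.mem_filter.1 hc).2
      omega
    refine Finset.card_lt_card ((Finset.ssubset_iff_of_subset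
      (Finset.monotone_filter_right _ fun l _ (hl : S l ≤ j.val) => hl.trans (by omega : j.val ≤ i.val))).2 ⟨b, ?_, ?_⟩)
    · simp only [Finset.mem_filter, Finset.mem_univ, true_and, hSb]
      omega
    · simp only [Finset.mem_filter, Finset.mem_univ, true_and, hSb]
      omega

end Comb

/-! ### Cosets and flags -/

section Flags

variable {F : Type u} [Field F] [Fintype F] {m : ℕ}

local notation "VV" => Fin (m + 1) → F

/-- Vectors supported before `t`. -/
def E (t : ℕ) : Submodule F VV where
  carrier := {v | ∀ i : Fin (m + 1), t ≤ i.val → v i = 0}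
  add_mem' := fun {a b} ha hb i hi => by simp [ha i hi, hb i hi]
  zero_mem' := fun _ _ => rfl
  smul_mem' := fun c {a} ha i hi => by simp [ha i hi]

theorem natCard_E (b : Fin (m + 1)) : Nat.card (E (F := F) (m := m) (b.val + 1)) = Fintype.card F ^ (b.val + 1) := by
  classical
  let S := {i : Fin (m + 1) // i.val < b.val + 1}
  have e : E (F := F) (m := m) (b.val + 1) ≃ (S → F) :=
    { toFun := fun v i => v.1 i.1
      invFun := fun w => ⟨fun i => if hi : i.val < b.val + 1 then w ⟨i, hi⟩ else 0,
        fun i hi => dif_neg (not_lt.2 hi)⟩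
      left_inv := fun v => Subtype.ext (funext fun i => by
        by_cases hi : i.val < b.val + 1
        · simp [hi]
        · simp [hi, v.2 i (not_lt.1 hi)])
      right_inv := fun w => funext fun i => by simp [i.2] }
  rw [Nat.card_congr e, Nat.card_pi, Finset.prod_const, Finset.card_univ, Nat.card_eq_fintype_card]
  congr 1
  exact Fintype.card_fin_lt_of_le (Nat.succ_le_of_lt b.2)

theorem finrank_of_natCard {W : Submodule F VV} {d : ℕ} (h : Nat.card W = Fintype.card F ^ d) :
    finrank F W = d := by
  rw [Module.natCard_eq_pow_finrank (K := F), Nat.card_eq_fintype_card] at h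
  exact Nat.pow_right_injective Fintype.one_lt_card h

theorem finrank_E (b : Fin (m + 1)) : finrank F (E (F := F) (m := m) (b.val + 1)) = b.val + 1 :=
  finrank_of_natCard (natCard_E b)

/-- The linear map of a matrix. -/
noncomputable def lin (g : GL (Fin (m + 1)) F) : Module.End F VV :=
  Matrix.mulVecLin (g : Matrix (Fin (m + 1)) (Fin (m + 1)) F)

theorem lin_mul (g h : GL (Fin (m + 1)) F) : lin (g * h) = (lin g).comp (lin h) := by
  rw [lin, Units.val_mul, Matrix.mulVecLin_mul]
  rfl

theorem lin_one : lin (1 : GL (Fin (m + 1)) F) = LinearMap.id := by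
  rw [lin, Units.val_one, Matrix.mulVecLin_one]

theorem lin_injective (g : GL (Fin (m + 1)) F) : Function.Injective (lin g) := by
  intro v w h
  have h1 := congrArg (lin g⁻¹) h
  rwa [← LinearMap.comp_apply, ← LinearMap.comp_apply, ← lin_mul, inv_mul_cancel, lin_one] at h1

theorem mem_parabolic_iff (B : Finset (Fin (m + 1))) (hB : Fin.last m ∈ B) (g : GL (Fin (m + 1)) F) :
    g ∈ Cfsg.parabolicGL (m + 1) F (fun k => 1 + k.val - (kperm B hB k).val) ↔
      ∀ b ∈ B, (E (b.val + 1)).map (lin g) = E (b.val + 1) := by
  classical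
  constructor
  · intro hg b hb
    refine Submodule.eq_of_le_of_finrank_eq ?_ ?_
    · rintro _ ⟨v, hv, rfl⟩ i hi
      show ((g : Matrix (Fin (m + 1)) (Fin (m + 1)) F).mulVec v) i = 0
      simp only [Matrix.mulVec, dotProduct]
      refine Finset.sum_eq_zero fun j _ => ?_
      by_cases hj : b.val + 1 ≤ j.val
      · rw [hv j hj, mul_zero]
      · show (g : Matrix (Fin (m + 1)) (Fin (m + 1)) F) i j * v j = 0
        rw [hg ((label_lt_iff B hB i j).2 ⟨b, hb, by rw [Fin.le_def]; omega, by rw [Fin.lt_def]; omega⟩), zero_mul]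
    · rw [← (Submodule.equivMapOfInjective _ (lin_injective g) _).finrank_eq]
  · intro hg i j hij
    obtain ⟨b, hb, hjb, hbi⟩ := (label_lt_iff B hB i j).1 hij
    rw [Fin.le_def] at hjb
    rw [Fin.lt_def] at hbi
    have h1 : lin g (Pi.single j 1) ∈ E (F := F) (m := m) (b.val + 1) := (hg b hb) ▸ ⟨_, fun k hk => by
      rw [Pi.single_eq_of_ne]
      intro e
      subst e
      omega, rfl⟩
    have h2 := h1 i (by omega)
    simpa [lin, Matrix.mulVec_single] using h2

/-- Invariant flags with prescribed dimensions. -/
def flags (B : Finset (Fin (m + 1))) (f : Module.End F VV) : Set (Fin (m + 1) → Submodule F VV) :=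
  {W | (∀ b, b ∉ B → W b = ⊥) ∧ (∀ b ∈ B, finrank F (W b) = b.val + 1 ∧ ∀ v ∈ W b, f v ∈ W b) ∧
    ∀ b ∈ B, ∀ c ∈ B, b ≤ c → W b ≤ W c}

/-- The flag of a matrix. -/
noncomputable def flagOf (B : Finset (Fin (m + 1))) (g : GL (Fin (m + 1)) F) :
    Fin (m + 1) → Submodule F VV :=
  fun b => if b ∈ B then (E (b.val + 1)).map (lin g) else ⊥

theorem exists_flagOf (B : Finset (Fin (m + 1))) (hB : Fin.last m ∈ B) {f : Module.End F VV}
    {W : Fin (m + 1) → Submodule F VV} (hW : W ∈ flags B f) : ∃ g, flagOf B g = W := by
  classical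
  obtain ⟨hout, hdim, hmono⟩ := hW
  have hne : ∀ j : Fin (m + 1), (B.filter (j ≤ ·)).Nonempty := fun j =>
    ⟨Fin.last m, Finset.mem_filter.2 ⟨hB, Fin.le_last j⟩⟩
  let e : Fin (m + 1) → Fin (m + 1) := fun j => (B.filter (j ≤ ·)).min' (hne j)
  have he : ∀ j, e j ∈ B ∧ j ≤ e j := fun j => Finset.mem_filter.1 (Finset.min'_mem _ (hne j))
  have hemono : Monotone e := fun a b hab => Finset.min'_le _ _
    (Finset.mem_filter.2 ⟨(he b).1, hab.trans (he b).2⟩)
  have hcount := CfsgLib.KnownB.Flag.natCard_indep_in (m + 1) (fun j => W (e j))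
    (fun a b hab => hmono _ (he a).1 _ (he b).1 (hemono hab)) (fun j => (e j).val + 1) (fun j => by
      rw [Module.natCard_eq_pow_finrank (K := F), (hdim _ (he j).1).1, Nat.card_eq_fintype_card])
  have hpos : 0 < Nat.card {s : Fin (m + 1) → VV // LinearIndependent F s ∧ ∀ j, s j ∈ W (e j)} := by
    rw [hcount]
    refine Finset.prod_pos fun j _ => Nat.sub_pos_of_lt (Nat.pow_lt_pow_right Fintype.one_lt_card ?_)
    have := (he j).2
    rw [Fin.le_def] at this
    omega
  obtain ⟨⟨⟨s, hs, hsW⟩⟩, -⟩ := Nat.card_pos_iff.1 hpos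
  let g : GL (Fin (m + 1)) F := (Matrix.equiv_GL_linearindependent (m + 1)).symm ⟨s, hs⟩
  have hcol : ∀ j i, (g : Matrix (Fin (m + 1)) (Fin (m + 1)) F) i j = s j i := fun j i => by
    have h := congrArg Subtype.val ((Matrix.equiv_GL_linearindependent (m + 1)).apply_symm_apply ⟨s, hs⟩)
    exact congrFun (congrFun h j) i
  refine ⟨g, funext fun b => ?_⟩
  unfold flagOf
  split_ifs with hb
  · refine Submodule.eq_of_le_of_finrank_eq ?_ ?_
    · rintro _ ⟨v, hv, rfl⟩
      have : lin g v = ∑ j, v j • s j := by
        ext i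
        simp [lin, Matrix.mulVec, dotProduct, hcol, mul_comm]
      rw [this]
      refine Submodule.sum_mem _ fun j _ => ?_
      by_cases hj : b.val + 1 ≤ j.val
      · rw [hv j hj, zero_smul]
        exact zero_mem _
      · refine Submodule.smul_mem _ _ (hmono _ (he j).1 _ hb ?_ (hsW j))
        exact Finset.min'_le _ _ (Finset.mem_filter.2 ⟨hb, by rw [Fin.le_def]; omega⟩)
    · rw [← (Submodule.equivMapOfInjective _ (lin_injective g) _).finrank_eq, finrank_E, (hdim b hb).1]
  · exact (hout b hb).symm

theorem fixed_card (B : Finset (Fin (m + 1))) (hB : Fin.last m ∈ B) (x : GL (Fin (m + 1)) F) :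
    Nat.card (MulAction.fixedBy (GL (Fin (m + 1)) F ⧸
        Cfsg.parabolicGL (m + 1) F (fun k => 1 + k.val - (kperm B hB k).val)) x) =
      Nat.card (flags B (lin x)) := by
  classical
  set P := Cfsg.parabolicGL (m + 1) F (fun k => 1 + k.val - (kperm B hB k).val) with hP
  have hiff : ∀ g h : GL (Fin (m + 1)) F, flagOf B g = flagOf B h ↔ g⁻¹ * h ∈ P := by
    intro g h
    rw [hP, mem_parabolic_iff]
    constructor
    · intro he b hb
      have h1 := congrFun he b
      simp only [flagOf, if_pos hb] at h1
      rw [lin_mul, Submodule.map_comp, ← h1, ← Submodule.map_comp, ← lin_mul, inv_mul_cancel, lin_one,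
        Submodule.map_id]
    · intro he
      funext b
      unfold flagOf
      split_ifs with hb
      · have h1 := congrArg (Submodule.map (lin g)) (he b hb)
        rw [← Submodule.map_comp, ← lin_mul, mul_inv_cancel_left] at h1
        exact h1.symm
      · rfl
  have hfix : ∀ g : GL (Fin (m + 1)) F, (x • (g : GL (Fin (m + 1)) F ⧸ P) = g) ↔ flagOf B g ∈ flags B (lin x) := by
    intro g
    rw [MulAction.Quotient.smul_coe, QuotientGroup.eq, ← hiff]
    constructor
    · intro he
      refine ⟨fun b hb => if_neg hb, fun b hb => ⟨?_, fun v hv => ?_⟩, fun b hb c hc hbc => ?_⟩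
      · rw [flagOf, if_pos hb, ← (Submodule.equivMapOfInjective _ (lin_injective g) _).finrank_eq, finrank_E]
      · have h1 := congrFun he b
        simp only [flagOf, if_pos hb, smul_eq_mul] at h1
        rw [flagOf, if_pos hb] at hv ⊢
        rw [← h1, lin_mul, Submodule.map_comp]
        exact Submodule.mem_map_of_mem hv
      · rw [flagOf, if_pos hb, flagOf, if_pos hc]
        refine Submodule.map_mono fun v hv i hi => hv i ?_
        rw [Fin.le_def] at hbc
        omega
    · intro hmem
      funext b
      simp only [flagOf, smul_eq_mul]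
      split_ifs with hb
      · have h1 := (hmem.2.1 b hb).2
        simp only [flagOf, if_pos hb] at h1
        rw [lin_mul, Submodule.map_comp]
        refine Submodule.eq_of_le_of_finrank_eq ?_ ?_
        · rintro _ ⟨v, hv, rfl⟩
          exact h1 v hv
        · rw [← (Submodule.equivMapOfInjective _ (lin_injective x) _).finrank_eq]
      · rfl
  refine Nat.card_congr (Equiv.ofBijective
    (fun q => (⟨Quotient.liftOn' q.1 (flagOf B) (fun a b hab => (hiff a b).2 (QuotientGroup.leftRel_apply.1 hab)),
      by
        obtain ⟨q, hq⟩ := q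
        induction q using QuotientGroup.induction_on with
        | _ g => exact (hfix g).1 hq⟩ : flags B (lin x))) ⟨?_, ?_⟩)
  · rintro ⟨a, ha⟩ ⟨b, hb⟩ h
    induction a using QuotientGroup.induction_on with
    | _ a =>
      induction b using QuotientGroup.induction_on with
      | _ b => exact Subtype.ext (QuotientGroup.eq.2 ((hiff a b).1 (congrArg Subtype.val h)))
  · rintro ⟨W, hW⟩
    obtain ⟨g, rfl⟩ := exists_flagOf B hB hW
    exact ⟨⟨(g : GL (Fin (m + 1)) F ⧸ P), (hfix g).2 hW⟩, rfl⟩

end Flags

/-! ### The value -/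

theorem steinberg_value {F : Type u} [Field F] [Fintype F] [DecidableEq F] {m : ℕ} (x : GL (Fin (m + 1)) F)
    (hx : SSClass.SS (lin x)) :
    Cfsg.unipotentCharacterGL (m + 1) F (fun _ => 1) x =
      ((val (Nat.card F : ℤ)
        (normalizedFactors (x : Matrix (Fin (m + 1)) (Fin (m + 1)) F).charpoly) : ℤ) : ℂ) := by
  classical
  set f := lin x with hf
  haveI : Finite (Submodule F (Fin (m + 1) → F)) := finite_submodules
  letI : Fintype (Submodule F (Fin (m + 1) → F)) := Fintype.ofFinite _
  -- permutations become sets of block ends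
  have h1 : Cfsg.unipotentCharacterGL (m + 1) F (fun _ => 1) x =
      ((∑ B ∈ Finset.univ.filter (fun B : Finset (Fin (m + 1)) => Fin.last m ∈ B),
        (-1 : ℤ) ^ (m + 1 + B.card) * (Nat.card (flags B f) : ℤ) : ℤ) : ℂ) := by
    rw [Cfsg.unipotentCharacterGL, ← Finset.sum_filter, Int.cast_sum]
    refine (Finset.sum_bij (fun B hB => kperm B (Finset.mem_filter.1 hB).2) ?_ ?_ ?_ ?_).symm
    · intro B hB
      refine Finset.mem_filter.2 ⟨Finset.mem_univ _, fun i => ?_⟩
      have := kperm_le_succ B (Finset.mem_filter.1 hB).2 i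
      omega
    · intro B hB B' hB' he
      ext i
      rw [← kperm_le_iff B (Finset.mem_filter.1 hB).2, he, kperm_le_iff]
    · intro κ hκ
      obtain ⟨B, hB, rfl⟩ := exists_kperm κ (fun i => by have := (Finset.mem_filter.1 hκ).2 i; omega)
      exact ⟨B, Finset.mem_filter.2 ⟨Finset.mem_univ _, hB⟩, rfl⟩
    · intro B hB
      rw [sign_kperm, Cfsg.fixedPointCharacter, fixed_card B (Finset.mem_filter.1 hB).2 x, Int.cast_mul,
        Int.cast_natCast]
  -- flags become chains
  have h2 : ∑ B ∈ Finset.univ.filter (fun B : Finset (Fin (m + 1)) => Fin.last m ∈ B),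
      (-1 : ℤ) ^ (m + 1 + B.card) * (Nat.card (flags B f) : ℤ) = (-1) ^ (m + 1) * mob f ⊤ := by
    have hmob : mob f ⊤ = ∑ C ∈ Finset.univ.filter (IsChainTo f ⊤), (-1 : ℤ) ^ C.card := by
      rw [mob]
      exact finsum_mem_eq_sum_of_inter_support_eq _ (by ext C; simp)
    have hcard : ∀ B : Finset (Fin (m + 1)), (Nat.card (flags B f) : ℤ) =
        ∑ _W ∈ Finset.univ.filter (fun W : Fin (m + 1) → Submodule F (Fin (m + 1) → F) => W ∈ flags B f), (1 : ℤ) := by
      intro B
      rw [Finset.sum_const, nsmul_one, Nat.card_eq_fintype_card, Fintype.card_ofFinset]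
    rw [hmob, Finset.mul_sum]
    simp only [hcard, Finset.mul_sum, mul_one]
    rw [Finset.sum_sigma']
    have hdimC : ∀ C : Finset (Submodule F (Fin (m + 1) → F)), IsChainTo f ⊤ C → ∀ W ∈ C, ∀ W' ∈ C,
        finrank F W = finrank F W' → W = W' := by
      intro C hC W hW W' hW' he
      rcases hC.2.1 W hW W' hW' with h | h
      · exact Submodule.eq_of_le_of_finrank_eq h he
      · exact (Submodule.eq_of_le_of_finrank_eq h he.symm).symm
    have htopne : (⊤ : Submodule F (Fin (m + 1) → F)) ≠ ⊥ := top_ne_bot
    refine Finset.sum_bij (fun p _ => p.1.image p.2) ?_ ?_ ?_ ?_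
    · rintro ⟨B, W⟩ hp
      simp only [Finset.mem_sigma, Finset.mem_filter, Finset.mem_univ, true_and] at hp ⊢
      obtain ⟨hB, -, hd, hmono⟩ := hp
      refine ⟨fun U hU => ?_, fun U hU U' hU' => ?_, fun _ => ?_⟩
      · obtain ⟨b, hb, rfl⟩ := Finset.mem_image.1 hU
        refine ⟨fun h => ?_, le_top, (hd b hb).2⟩
        have := (hd b hb).1
        rw [h, finrank_bot] at this
        omega
      · obtain ⟨b, hb, rfl⟩ := Finset.mem_image.1 hU
        obtain ⟨c, hc, rfl⟩ := Finset.mem_image.1 hU'
        exact (le_total b c).imp (hmono b hb c hc) (hmono c hc b hb)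
      · refine Finset.mem_image.2 ⟨Fin.last m, hB, Submodule.eq_top_of_finrank_eq ?_⟩
        rw [(hd _ hB).1, Module.finrank_fin_fun, Fin.val_last]
    · rintro ⟨B, W⟩ hp ⟨B', W'⟩ hp' he
      simp only [Finset.mem_sigma, Finset.mem_filter, Finset.mem_univ, true_and] at hp hp'
      obtain ⟨hB, ho, hd, hmono⟩ := hp
      obtain ⟨hB', ho', hd', hmono'⟩ := hp'
      simp only at he
      have hsub : ∀ b ∈ B, b ∈ B' ∧ W b = W' b := by
        intro b hb
        obtain ⟨c, hc, hce⟩ := Finset.mem_image.1 (he ▸ Finset.mem_image_of_mem W hb)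
        have h3 := (hd' c hc).1
        rw [hce, (hd b hb).1] at h3
        have hbc : b = c := Fin.ext (by omega)
        subst hbc
        exact ⟨hc, hce.symm⟩
      have hsub' : ∀ b ∈ B', b ∈ B := by
        intro b hb
        obtain ⟨c, hc, hce⟩ := Finset.mem_image.1 (he.symm ▸ Finset.mem_image_of_mem W' hb)
        have h3 := (hd c hc).1
        rw [hce, (hd' b hb).1] at h3
        have hbc : b = c := Fin.ext (by omega)
        exact hbc ▸ hc
      have hBB : B = B' := Finset.Subset.antisymm (fun b hb => (hsub b hb).1) hsub'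
      subst hBB
      have hWW : W = W' := funext fun b => by
        by_cases hb : b ∈ B
        · exact (hsub b hb).2
        · rw [ho b hb, ho' b hb]
      rw [hWW]
    · intro C hC
      simp only [Finset.mem_filter, Finset.mem_univ, true_and] at hC
      let B : Finset (Fin (m + 1)) := Finset.univ.filter fun b => ∃ U ∈ C, finrank F U = b.val + 1
      have hB : Fin.last m ∈ B := by
        simp only [B, Finset.mem_filter, Finset.mem_univ, true_and]
        exact ⟨⊤, hC.2.2 htopne, by rw [finrank_top, Module.finrank_fin_fun, Fin.val_last]⟩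
      let W : Fin (m + 1) → Submodule F (Fin (m + 1) → F) := fun b =>
        if h : ∃ U ∈ C, finrank F U = b.val + 1 then h.choose else ⊥
      have hW : ∀ b ∈ B, W b ∈ C ∧ finrank F (W b) = b.val + 1 := by
        intro b hb
        simp only [B, Finset.mem_filter, Finset.mem_univ, true_and] at hb
        rw [show W b = hb.choose from dif_pos hb]
        exact hb.choose_spec
      refine ⟨⟨B, W⟩, ?_, ?_⟩
      · simp only [Finset.mem_sigma, Finset.mem_filter, Finset.mem_univ, true_and]
        refine ⟨hB, fun b hb => ?_, fun b hb => ⟨(hW b hb).2, (hC.1 _ (hW b hb).1).2.2⟩, fun b hb c hc hbc => ?_⟩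
        · simp only [B, Finset.mem_filter, Finset.mem_univ, true_and] at hb
          simp only [W, dif_neg hb]
        · rcases hC.2.1 _ (hW b hb).1 _ (hW c hc).1 with h | h
          · exact h
          · have h3 := Submodule.finrank_mono h
            rw [(hW b hb).2, (hW c hc).2] at h3
            have hbc' : b = c := le_antisymm hbc (by rw [Fin.le_def]; omega)
            rw [hbc']
      · ext U
        simp only [Finset.mem_image]
        constructor
        · rintro ⟨b, hb, rfl⟩
          exact (hW b hb).1
        · intro hU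
          have hpos : 0 < finrank F U := Nat.pos_of_ne_zero fun h0 => (hC.1 U hU).1 (Submodule.finrank_eq_zero.1 h0)
          have hle : finrank F U ≤ m + 1 := (Submodule.finrank_le U).trans_eq (Module.finrank_fin_fun F)
          have hb : (⟨finrank F U - 1, by omega⟩ : Fin (m + 1)) ∈ B := by
            simp only [B, Finset.mem_filter, Finset.mem_univ, true_and]
            exact ⟨U, hU, by omega⟩
          exact ⟨_, hb, hdimC C hC _ (hW _ hb).1 _ hU (by rw [(hW _ hb).2]; show finrank F U - 1 + 1 = _; omega)⟩
    · rintro ⟨B, W⟩ hp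
      simp only [Finset.mem_sigma, Finset.mem_filter, Finset.mem_univ, true_and] at hp
      obtain ⟨-, -, hd, -⟩ := hp
      rw [pow_add]
      congr 2
      refine (Finset.card_image_of_injOn fun b hb c hc he => ?_).symm
      simp only at he hb hc
      have h3 := (hd b hb).1
      rw [he, (hd c hc).1] at h3
      exact Fin.ext (by omega)
  rw [h1, h2]
  congr 1
  have hU : ∀ v ∈ (⊤ : Submodule F (Fin (m + 1) → F)), f v ∈ (⊤ : Submodule F (Fin (m + 1) → F)) :=
    fun _ _ => trivial
  rw [mob_eq f hx (m + 1) ⊤ hU (by rw [finrank_top, Module.finrank_fin_fun]), ← mul_assoc, ← mul_pow]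
  have hchar : (f.restrict hU).charpoly = (x : Matrix (Fin (m + 1)) (Fin (m + 1)) F).charpoly := by
    rw [show f.restrict hU = (Submodule.topEquiv (R := F) (M := Fin (m + 1) → F)).symm.conj f from
      LinearMap.ext fun v => Subtype.ext rfl, LinearEquiv.charpoly_conj, ← LinearMap.charpoly_toMatrix f (Pi.basisFun F _)]
    congr 1
    rw [LinearMap.toMatrix_eq_toMatrix']
    exact LinearMap.toMatrix'_toLin' _
  rw [hchar]
  simp

end CfsgLib.KnownB.StValue
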