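import Cfsg.Agent.Lib.KnownB.SzFrob
import Cfsg.Agent.Lib.KnownB.BinaryCoset
import Cfsg.Agent.Lib.Suzuki.Classify

/-!
# The binary coset actions of `Sz(q)`
-/

set_option autoImplicit false
set_option linter.unusedSectionVars false

namespace CfsgLib.KnownB.SzBinary

open CfsgLib.Suzuki CfsgLib.Binary CfsgLib.KnownB.BinaryCoset

variable {F : Type*} [Field F] [CharP F 2] [Fintype F] {m : ℕ}
variable (hm : 1 ≤ m) (hF : Fintype.card F = 2 ^ (2 * m + 1))

local notation "GG" => Cfsg.Sz F m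

include hm hF

theorem eight_le : 8 ≤ Fintype.card F := by
  rw [hF]
  calc 8 = 2 ^ 3 := rfl
    _ ≤ _ := Nat.pow_le_pow_right (by norm_num) (by omega)

theorem zSub_sq {z : GG} (hz : z ∈ zSub (thSq_of_card hF)) : z * z = 1 := by
  obtain ⟨b, rfl⟩ := hz
  rw [tG_sq, map_zero, zero_mul, tG_zero]

theorem zSub_normal {b z : GG} (hb : b ∈ bSub F m) (hz : z ∈ zSub (thSq_of_card hF)) :
    b * z * b⁻¹ ∈ zSub (thSq_of_card hF) := by
  refine mem_zSub_of_sq (conj_mem_uSub hm hF hb (zSub_le _ hz)) ?_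
  rw [show b * z * b⁻¹ * (b * z * b⁻¹) = b * (z * z) * b⁻¹ by group, zSub_sq hm hF hz, mul_one,
    mul_inv_cancel]

/-- An atom with an involution of `Z` contains `Z`. -/
theorem zSub_le_atom {M : Subgroup GG} (hM : BinaryAtom M) {z : GG} (hzM : z ∈ M)
    (hz : z ∈ zSub (thSq_of_card hF)) (hz1 : z ≠ 1) : zSub (thSq_of_card hF) ≤ M := by
  intro y hy
  rcases eq_or_ne y 1 with rfl | hy1
  · exact one_mem M
  rcases eq_or_ne y z with rfl | hne
  · exact hzM
  obtain ⟨g, hg⟩ := isConj_iff.1 (SzCh.zSub_isConj hm hF hy hy1 hz hz1)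
  obtain ⟨k, hk⟩ := isConj_iff.1 (SzCh.zSub_isConj hm hF (mul_mem (inv_mem hy) hz)
    (fun e => hne (inv_mul_eq_one.1 e)) hz hz1)
  exact hM.tri z hzM hz1 g k y (by rw [hg]; exact hzM) (by rw [hk]; exact hzM)

theorem eq_one_of_odd {M : Subgroup GG} (hodd : ¬ 2 ∣ Nat.card M) {x : GG} (hx : x ∈ M)
    {s : GG} (hs : s * x * s⁻¹ ∈ uSub (thSq_of_card hF)) : x = 1 := by
  obtain ⟨e, he⟩ := (isPGroup_uSub hF) ⟨_, hs⟩
  have h1 : x ^ 2 ^ e = 1 := by
    have : (s * x * s⁻¹) ^ 2 ^ e = 1 := congrArg Subtype.val he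
    rwa [conj_pow, conj_eq_one_iff] at this
  rw [← orderOf_eq_one_iff]
  refine Nat.eq_one_of_dvd_coprimes ((Nat.Prime.coprime_iff_not_dvd Nat.prime_two).2 hodd).symm
    (Subgroup.orderOf_dvd_natCard M hx) ?_ |>.trans rfl
  by_contra h
  obtain ⟨j, -, hj⟩ := (Nat.dvd_prime_pow Nat.prime_two).1 (orderOf_dvd_of_pow_eq_one h1)
  rcases j with _ | j
  · exact h (by rw [hj, pow_zero]; exact one_dvd _)
  · exact hodd (Dvd.dvd.trans (hj ▸ dvd_pow_self 2 (Nat.succ_ne_zero j))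
      (Subgroup.orderOf_dvd_natCard M hx))

/-- An odd subgroup meeting a cell lies in it. -/
theorem le_cell_of_odd {M A : Subgroup GG} (hodd : ¬ 2 ∣ Nat.card M)
    (hA : IsCell (thSq_of_card hF) A) {x : GG} (hxM : x ∈ M) (hxA : x ∈ A) (hx1 : x ≠ 1) :
    M ≤ A := by
  rcases classify' hm hF M with ⟨g, hg⟩ | ⟨A', hA', hle⟩ | ⟨k, g, hk, -, hS⟩
  · intro a ha
    rw [← hA.centralizer_eq hm hF hxA hx1, Subgroup.mem_centralizer_singleton_iff]
    have hB : ∀ y ∈ M, g⁻¹ * y * g ∈ bSub F m := fun y hy => (map_conj_mem _ _ _).1 (hg hy)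
    let a' : bSub F m := ⟨_, hB a ha⟩
    let x' : bSub F m := ⟨_, hB x hxM⟩
    have hc : bHom hm hF ((x' * a')⁻¹ * (a' * x')) = 1 := by
      rw [map_mul, map_mul (bHom hm hF) a' x', mul_comm (bHom hm hF a'),
        ← map_mul (bHom hm hF) x' a', ← map_mul, inv_mul_cancel, map_one]
    have hu : g⁻¹ * ((x * a)⁻¹ * (a * x)) * g⁻¹⁻¹ ∈ uSub (thSq_of_card hF) := by
      have := mem_uSub_of_bHom hm hF hc
      convert this using 1
      simp only [a', x', Subgroup.coe_mul, Subgroup.coe_inv]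
      group
    exact (inv_mul_eq_one.1 (eq_one_of_odd hm hF hodd
      (mul_mem (inv_mem (mul_mem hxM ha)) (mul_mem ha hxM)) hu)).symm
  · have hle' : M ≤ A' := by
      intro a ha
      obtain ⟨d, hd, -, hN⟩ := hA'.normalizer_card hm hF
      have hn : (A'.subgroupOf (Subgroup.normalizer (A' : Set GG))).Normal :=
        Subgroup.normal_in_normalizer
      have hidx : (A'.subgroupOf (Subgroup.normalizer (A' : Set GG))).index = d := by
        have h3 := Subgroup.card_mul_index (A'.subgroupOf (Subgroup.normalizer (A' : Set GG)))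
        rw [Nat.card_congr (Subgroup.subgroupOfEquivOfLe Subgroup.le_normalizer).toEquiv, hN,
          mul_comm d] at h3
        exact Nat.eq_of_mul_eq_mul_left Nat.card_pos h3
      have hpow := (A'.subgroupOf (Subgroup.normalizer (A' : Set GG))).pow_index_mem ⟨a, hle ha⟩
      rw [hidx, Subgroup.mem_subgroupOf, Subgroup.coe_pow] at hpow
      have hco : d.Coprime (orderOf a) := by
        have h2 : Nat.Coprime 2 (orderOf a) := (Nat.Prime.coprime_iff_not_dvd Nat.prime_two).2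
          fun h => hodd (h.trans (Subgroup.orderOf_dvd_natCard M ha))
        rcases hd with rfl | rfl
        · exact h2
        · exact h2.pow_left 2
      obtain ⟨j, hj⟩ := exists_pow_eq_self_of_coprime hco
      rw [← hj]
      exact pow_mem hpow j
    rw [hA.eq_of_mem hm hF hA' hxA (hle' hxM) hx1]
    exact hle'
  · exfalso
    have hc := hS.2.2.2.2.1
    rw [Subgroup.card_map_of_injective (MulAut.conj g).injective] at hc
    exact hodd (hc ▸ Dvd.dvd.mul_right (Dvd.dvd.mul_right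
      ((dvd_pow_self 2 (by omega : 2 * k + 1 ≠ 0)).trans (dvd_pow_self _ two_ne_zero)) _) _)

/-- No atom has odd order. -/
theorem two_dvd_atom {M : Subgroup GG} (hM : BinaryAtom M) : 2 ∣ Nat.card M := by
  classical
  have := Fintype.ofFinite GG
  by_contra hodd
  obtain ⟨x, hxM, hx1⟩ := (Subgroup.bot_or_exists_ne_one M).resolve_left hM.ne_bot
  rcases SzCh.type_cases hm hF x hx1 with ⟨-, s, hs⟩ | h | h | h
  · exact hx1 (eq_one_of_odd hm hF hodd hxM hs)
  all_goals obtain ⟨-, s, hs⟩ := h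
  all_goals
    have hM' := hM.conj s
    have hodd' : ¬ 2 ∣ Nat.card (M.map (MulAut.conj s).toMonoidHom) := by
      rwa [Subgroup.card_map_of_injective (MulAut.conj s).injective]
    have hxM' : s * x * s⁻¹ ∈ M.map (MulAut.conj s).toMonoidHom := ⟨x, hxM, rfl⟩
    have hx1' : s * x * s⁻¹ ≠ 1 := fun e => hx1 (conj_eq_one_iff.1 e)
    generalize M.map (MulAut.conj s).toMonoidHom = M' at hM' hodd' hxM'
    generalize s * x * s⁻¹ = y at hxM' hx1' hs
    obtain ⟨u, v, e, hu⟩ := SzCh.cell_outside hm hF (by first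
      | exact Or.inl rfl | exact Or.inr (Or.inl rfl) | exact Or.inr (Or.inr rfl)) hs hx1'
    refine hu (le_cell_of_odd hm hF hodd' (by first
      | exact SzCh.isCell_hSub hm hF | exact SzCh.isCell_torP hm hF | exact SzCh.isCell_torM hm hF)
      hxM' hs hx1' (hM'.tri y hxM' hx1' u⁻¹ v⁻¹ (u * y * u⁻¹) ?_ ?_))
    · simpa [mul_assoc] using hxM'
    · rw [show (u * y * u⁻¹)⁻¹ * y = v * y * v⁻¹ from inv_mul_eq_iff_eq_mul.2 e]
      simpa [mul_assoc] using hxM'

/-- A non-trivial subgroup with binary coset action contains a conjugate of `Z`. -/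
theorem exists_zSub_le {H : Subgroup GG} (hb : IsBinary GG (GG ⧸ H)) (hne : H ≠ ⊥) :
    ∃ g : GG, (zSub (thSq_of_card hF)).map (MulAut.conj g).toMonoidHom ≤ H := by
  have e : fixingSubgroup GG ({((1 : GG) : GG ⧸ H)} : Set (GG ⧸ H)) = H :=
    Subgroup.ext (mem_fix_one_iff H)
  obtain ⟨M, hle, hM⟩ := exists_atom hb _ (by rwa [e])
  rw [e] at hle
  have : Fact (Nat.Prime 2) := ⟨Nat.prime_two⟩
  obtain ⟨z, hz⟩ := exists_prime_orderOf_dvd_card' 2 (two_dvd_atom hm hF hM)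
  rw [← Subgroup.orderOf_coe] at hz
  have hz2 : (z : GG) * z = 1 := by rw [← sq, ← hz]; exact pow_orderOf_eq_one _
  have hz1 : (z : GG) ≠ 1 := fun e => by rw [e, orderOf_one] at hz; omega
  rcases two_or_cell hm hF (z : GG) with ⟨k, hk⟩ | hC
  · have hkz : k * z * k⁻¹ ∈ zSub (thSq_of_card hF) := mem_zSub_of_sq hk (by
      rw [show k * z * k⁻¹ * (k * z * k⁻¹) = k * (z * z : GG) * k⁻¹ by group, hz2, mul_one,
        mul_inv_cancel])
    refine ⟨k⁻¹, le_trans ?_ hle⟩
    rw [map_conj_le_iff, inv_inv]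
    exact zSub_le_atom hm hF (hM.conj k) ⟨_, z.2, rfl⟩ hkz fun e => hz1 (conj_eq_one_iff.1 e)
  · exact absurd (hz ▸ Subgroup.orderOf_dvd_natCard _ (Subgroup.mem_centralizer_singleton_iff.2 rfl))
      (hC.not_two_dvd_card hm hF)

/-- A proper subgroup containing `Z` lies in `B`. -/
theorem le_bSub {H : Subgroup GG} (hZ : zSub (thSq_of_card hF) ≤ H) (hH : H ≠ ⊤) :
    H ≤ bSub F m := by
  have h8 := eight_le hm hF
  have hq : Fintype.card F ∣ Nat.card H := by
    rw [← Nat.card_eq_fintype_card, ← card_zSub (thSq_of_card hF)]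
    exact Subgroup.card_dvd_of_le hZ
  rcases classify' hm hF H with ⟨g, hg⟩ | ⟨A, hA, hle⟩ | ⟨k, g, hk, hd, hS⟩
  · have hne : tG (thSq_of_card hF) (0 : F) 1 ≠ 1 := by rw [Ne, tG_eq_one]; simp
    have hgB : g⁻¹ ∈ bSub F m := mem_bSub_of_conj (h := thSq_of_card hF) ⟨0, 1, rfl⟩ hne (by
      rw [inv_inv]
      exact (map_conj_mem _ _ _).1 (hg (hZ ⟨1, rfl⟩)))
    intro h hh
    have h1 := (map_conj_mem _ _ _).1 (hg hh)
    have := mul_mem (mul_mem (inv_mem hgB) h1) hgB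
    simpa [mul_assoc] using this
  · exfalso
    obtain ⟨d, hd, -, hN⟩ := hA.normalizer_card hm hF
    have h1 := hq.trans ((Subgroup.card_dvd_of_le hle).trans (dvd_of_eq hN))
    have h2 : (Fintype.card F).Coprime (Nat.card A) := by
      rw [hF]
      exact ((Nat.Prime.coprime_iff_not_dvd Nat.prime_two).2 (hA.not_two_dvd_card hm hF)).pow_left _
    have := Nat.le_of_dvd (by rcases hd with rfl | rfl <;> norm_num) (h2.dvd_of_dvd_mul_right h1)
    rcases hd with rfl | rfl <;> omega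
  · exfalso
    have hc := hS.2.2.2.2.1
    rw [Subgroup.card_map_of_injective (MulAut.conj g).injective] at hc
    rw [hc, hF, mul_assoc] at hq
    have h2 : Nat.Coprime (2 ^ (2 * m + 1))
        ((2 ^ (2 * k + 1) - 1) * ((2 ^ (2 * k + 1)) ^ 2 + 1)) := by
      refine Nat.Coprime.pow_left _ ((Nat.Prime.coprime_iff_not_dvd Nat.prime_two).2 ?_)
      rw [Nat.prime_two.dvd_mul]
      have e1 : 2 ∣ 2 ^ (2 * k + 1) := dvd_pow_self 2 (by omega)
      have e2 : 2 ∣ (2 ^ (2 * k + 1)) ^ 2 := e1.trans (dvd_pow_self _ two_ne_zero)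
      have e3 : 1 ≤ 2 ^ (2 * k + 1) := Nat.one_le_two_pow
      omega
    have h3 := (Nat.pow_dvd_pow_iff_le_right (by norm_num : 1 < 2)).1
      ((h2.dvd_of_dvd_mul_right hq).trans (dvd_of_eq (pow_mul _ _ _).symm))
    obtain ⟨j, hj⟩ := hd
    obtain rfl : k = m := by
      rcases j with _ | _ | _ | j
      · omega
      · omega
      · omega
      · nlinarith
    refine hH (Subgroup.eq_top_of_card_eq H ?_)
    rw [hc, card_sz hm hF, hF]

theorem mem_uSub_of_sq_mem {c : GG} (hc : c ∈ bSub F m) (h : c * c ∈ uSub (thSq_of_card hF)) :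
    c ∈ uSub (thSq_of_card hF) := by
  refine mem_uSub_of_bHom hm hF (g := ⟨c, hc⟩) ?_
  obtain ⟨a, b, e⟩ := h
  have h1 : bHom hm hF (⟨c, hc⟩ * ⟨c, hc⟩) = 1 := by
    have e' : c * c = tG (thSq_of_card hF) a b * hG (thSq_of_card hF) 1 := by
      rw [map_one, mul_one, e]
    rw [show ((⟨c, hc⟩ : bSub F m) * ⟨c, hc⟩) =
      ⟨_, e' ▸ mul_mem hc hc⟩ from Subtype.ext e', bHom_apply hm hF, Units.val_one]
  rw [map_mul] at h1
  have h2 : (bHom hm hF ⟨c, hc⟩ + 1) * (bHom hm hF ⟨c, hc⟩ + 1) = 0 := by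
    linear_combination h1 + (bHom hm hF ⟨c, hc⟩ + 1) * (CharTwo.two_eq_zero (R := F))
  have h3 := mul_self_eq_zero.1 h2
  linear_combination h3 - (CharTwo.two_eq_zero (R := F))

/-- An element of `H` outside `U` moves every coset of `H ∩ U` in `U` other than itself. -/
theorem mem_uSub_of_conj_mem {H : Subgroup GG} (hB : H ≤ bSub F m) {g a : GG} (hg : g ∈ H)
    (ha : a ∈ uSub (thSq_of_card hF)) (haH : a ∉ H) (hga : a⁻¹ * g * a ∈ H) :
    g ∈ uSub (thSq_of_card hF) := by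
  by_contra hgU
  set W := H ⊓ uSub (thSq_of_card hF)
  have hmem : ∀ w ∈ uSub (thSq_of_card hF), w⁻¹ * g * w * g⁻¹ ∈ uSub (thSq_of_card hF) :=
    fun w hw => by
      rw [show w⁻¹ * g * w * g⁻¹ = w⁻¹ * (g * w * g⁻¹) by group]
      exact mul_mem (inv_mem hw) (conj_mem_uSub hm hF (hB hg) hw)
  have hinj : ∀ w ∈ uSub (thSq_of_card hF), ∀ w' ∈ uSub (thSq_of_card hF),
      w⁻¹ * g * w * g⁻¹ = w'⁻¹ * g * w' * g⁻¹ → w = w' := by
    intro w hw w' hw' e
    by_contra hne
    refine hgU (centralizer_le_uSub hm hF (mul_mem hw' (inv_mem hw))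
      (fun e' => hne (mul_inv_eq_one.1 e').symm) ?_)
    rw [Subgroup.mem_centralizer_singleton_iff]
    have e' := mul_right_cancel e
    calc g * (w' * w⁻¹) = w' * (w'⁻¹ * g * w') * w⁻¹ := by group
      _ = w' * (w⁻¹ * g * w) * w⁻¹ := by rw [e']
      _ = w' * w⁻¹ * g := by group
  have hW : ∀ w : W, w.1 ∈ H ∧ w.1 ∈ uSub (thSq_of_card hF) := fun w => Subgroup.mem_inf.1 w.2
  let f : W → W := fun w => ⟨w.1⁻¹ * g * w.1 * g⁻¹, Subgroup.mem_inf.2
    ⟨mul_mem (mul_mem (mul_mem (inv_mem (hW w).1) hg) (hW w).1) (inv_mem hg), hmem _ (hW w).2⟩⟩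
  have hf : Function.Injective f := fun w w' e =>
    Subtype.ext (hinj _ (hW w).2 _ (hW w').2 (congrArg Subtype.val e))
  obtain ⟨w, hw⟩ := Finite.surjective_of_injective hf
    ⟨a⁻¹ * g * a * g⁻¹, Subgroup.mem_inf.2 ⟨mul_mem hga (inv_mem hg), hmem a ha⟩⟩
  exact haH (hinj _ (hW w).2 _ ha (congrArg Subtype.val hw) ▸ (hW w).1)

/-- Between `Z` and `B` only `Z` gives a binary action. -/
theorem eq_zSub {H : Subgroup GG} (hZ : zSub (thSq_of_card hF) ≤ H) (hB : H ≤ bSub F m)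
    (hb : IsBinary GG (GG ⧸ H)) : H = zSub (thSq_of_card hF) := by
  have h8 := eight_le hm hF
  by_cases hUH : uSub (thSq_of_card hF) ≤ H
  · exfalso
    refine not_isBinary_of_fibred hB (fun s hs => ?_) ?_ hb
    · rw [index_bSub hF, Nat.add_sub_cancel, ← Nat.card_eq_fintype_card,
        ← card_uSub (thSq_of_card hF), ← Nat.card_prod]
      refine Nat.card_le_card_of_injective
        (fun p => (⟨p.1.1 * p.2.1, mul_mem (Subgroup.mem_inf.1 p.1.2).1 (hUH p.2.2)⟩ : H)) fun p q e => ?_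
      have e' : p.1.1 * p.2.1 = q.1.1 * q.2.1 := congrArg Subtype.val e
      have hd : q.1.1⁻¹ * p.1.1 = q.2.1 * p.2.1⁻¹ := by
        rw [eq_mul_inv_iff_mul_eq, mul_assoc, e', inv_mul_cancel_left]
      have hone : q.2.1 * p.2.1⁻¹ = 1 := by
        by_contra hne
        refine hs ((Subgroup.inv_mem_iff _).1 (mem_bSub_of_conj (h := thSq_of_card hF)
          (mul_mem q.2.2 (inv_mem p.2.2)) hne ?_))
        rw [← hd, inv_inv]
        exact hB ((map_conj_mem _ _ _).1 (mul_mem (inv_mem (Subgroup.mem_inf.1 q.1.2).2) (Subgroup.mem_inf.1 p.1.2).2))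
      refine Prod.ext (Subtype.ext ?_) (Subtype.ext (mul_inv_eq_one.1 hone).symm)
      exact (inv_mul_eq_one.1 (hd.trans hone)).symm
    · rw [card_bSub hm hF, index_bSub hF, Nat.add_sub_cancel]
      refine Nat.mul_lt_mul_of_pos_left ?_ (by positivity)
      have : 8 * Fintype.card F ≤ Fintype.card F ^ 2 := by rw [sq]; gcongr
      omega
  by_cases hHU : H ≤ uSub (thSq_of_card hF)
  · refine le_antisymm (fun x hx => ?_) hZ
    have := Fintype.ofFinite GG
    by_contra hxz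
    obtain ⟨u, v, e, hu, hv⟩ := SzCh.four_outside hm hF (hHU hx) hxz
    obtain ⟨g, hg, hgu, hgv⟩ := factor_conj hb (u := u) (v := v) (k := u * x * u⁻¹)
      (l := v * x * v⁻¹) hx (by simpa [mul_assoc] using hx) (by simpa [mul_assoc] using hx) e
    have hnB : ∀ w : GG, w * x * w⁻¹ ∉ uSub (thSq_of_card hF) → w ∉ bSub F m :=
      fun w hw hwB => hw (conj_mem_uSub hm hF hwB (hHU hx))
    have hgone : g = 1 := by
      by_contra hne
      refine hnB u hu ((Subgroup.inv_mem_iff _).1 (mem_bSub_of_conj (h := thSq_of_card hF)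
        (hHU hg) hne ?_))
      rw [inv_inv]
      exact hB hgu
    subst hgone
    rw [inv_one, one_mul] at hgv
    refine hnB v hv ((Subgroup.inv_mem_iff _).1 (mem_bSub_of_conj (h := thSq_of_card hF)
      (hHU hx) (fun e => hxz (e ▸ one_mem _)) ?_))
    rw [inv_inv]
    exact hB hgv
  · exfalso
    obtain ⟨c, hc, hcU⟩ := SetLike.not_le_iff_exists.1 hHU
    obtain ⟨b, hbU, hbH⟩ := SetLike.not_le_iff_exists.1 hUH
    have haU : c * b * c⁻¹ ∈ uSub (thSq_of_card hF) := conj_mem_uSub hm hF (hB hc) hbU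
    have haH : c * b * c⁻¹ ∉ H := fun h => hbH (by
      simpa [mul_assoc] using mul_mem (mul_mem (inv_mem hc) h) hc)
    generalize ha : c * b * c⁻¹ = a at haU haH
    have hd : a * (c * a * c⁻¹)⁻¹ ∈ uSub (thSq_of_card hF) :=
      mul_mem haU (inv_mem (conj_mem_uSub hm hF (hB hc) haU))
    have hdd : a * (c * a * c⁻¹)⁻¹ * (a * (c * a * c⁻¹)⁻¹) ∈ zSub (thSq_of_card hF) := by
      obtain ⟨p, r, e⟩ := hd
      exact ⟨_, by rw [e, tG_sq]⟩
    obtain ⟨g, hg, hga, hgb⟩ := factor_conj hb (u := a) (v := b)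
      (h := a * (c * a * c⁻¹)⁻¹ * (a * (c * a * c⁻¹)⁻¹) * (c * c)) (k := a * c * a⁻¹)
      (l := b * c * b⁻¹) (mul_mem (hZ hdd) (mul_mem hc hc)) (by simpa [mul_assoc] using hc)
      (by simpa [mul_assoc] using hc) (by rw [← ha]; group)
    have hgU := mem_uSub_of_conj_mem hm hF hB hg haU haH hga
    have h1 := mem_uSub_of_conj_mem hm hF hB
      (mul_mem (inv_mem hg) (mul_mem (hZ hdd) (mul_mem hc hc))) hbU hbH hgb
    have h2 := mul_mem hgU h1
    rw [mul_inv_cancel_left, Subgroup.mul_mem_cancel_left _ (zSub_le _ hdd)] at h2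
    exact hcU (mem_uSub_of_sq_mem hm hF (hB hc) h2)

/-- The action on the cosets of `Z` is binary. -/
theorem binary_zSub : IsBinary GG (GG ⧸ zSub (thSq_of_card hF)) := by
  refine isBinary_cosets _ (fun x hx hx1 g hg => ?_)
    fun a b g h k ha hb hab ha1 hb1 _ => ⟨g, ha, ?_⟩
  · have hgB := mem_bSub_of_conj (zSub_le _ hx) hx1 (uSub_le_bSub _ (zSub_le _ hg))
    rw [Subgroup.mem_normalizer_iff]
    intro z
    refine ⟨fun hz => zSub_normal hm hF hgB hz, fun hz => ?_⟩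
    simpa [mul_assoc] using zSub_normal hm hF (inv_mem hgB) hz
  · have inv : ∀ {y w : GG}, w * y * w⁻¹ ∈ zSub (thSq_of_card hF) → y * y = 1 := by
      intro y w h
      refine (conj_eq_one_iff (a := w)).1 ?_
      rw [show w * (y * y) * w⁻¹ = w * y * w⁻¹ * (w * y * w⁻¹) by group, zSub_sq hm hF h]
    have a2 := inv ha
    have b2 := inv hb
    have ab2 := inv hab
    have hcomm : b * a = a * b := by
      calc b * a = b⁻¹ * a⁻¹ := by
            rw [inv_eq_of_mul_eq_one_right b2, inv_eq_of_mul_eq_one_right a2]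
        _ = (a * b)⁻¹ := (_root_.mul_inv_rev a b).symm
        _ = a * b := inv_eq_of_mul_eq_one_right ab2
    refine mem_zSub_of_sq ?_ ?_
    · rw [← SzCh.centralizer_zSub hm hF ha fun e => ha1 (conj_eq_one_iff.1 e),
        Subgroup.mem_centralizer_singleton_iff]
      calc g * b * g⁻¹ * (g * a * g⁻¹) = g * (b * a) * g⁻¹ := by group
        _ = g * (a * b) * g⁻¹ := by rw [hcomm]
        _ = g * a * g⁻¹ * (g * b * g⁻¹) := by group
    · rw [show g * b * g⁻¹ * (g * b * g⁻¹) = g * (b * b) * g⁻¹ by group, b2, mul_one,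
        mul_inv_cancel]

/-- The regular action is binary. -/
theorem binary_bot : IsBinary GG (GG ⧸ (⊥ : Subgroup GG)) := by
  refine isBinary_cosets _ (fun x hx hx1 => absurd (Subgroup.mem_bot.1 hx) hx1)
    fun a b g h k ha _ _ ha1 => absurd (conj_eq_one_iff.1 (Subgroup.mem_bot.1 ha)) ha1

theorem isBinary_iff (H : Subgroup GG) (hH : H ≠ ⊤) :
    IsBinary GG (GG ⧸ H) ↔ H = ⊥ ∨ ∃ P : Sylow 2 GG,
      H = (Subgroup.center (P : Subgroup GG)).map (P : Subgroup GG).subtype := by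
  have hcen : ∀ (g : GG) (P : Sylow 2 GG),
      (P : Subgroup GG) = (uSub (thSq_of_card hF)).map (MulAut.conj g).toMonoidHom →
      (Subgroup.center (P : Subgroup GG)).map (P : Subgroup GG).subtype =
        (zSub (thSq_of_card hF)).map (MulAut.conj g).toMonoidHom := by
    intro g P hP
    rw [← center_uSub hm hF]
    ext z
    simp only [Subgroup.mem_map, Subgroup.mem_center_iff, Subgroup.coe_subtype]
    constructor
    · rintro ⟨⟨z, hz⟩, hc, rfl⟩
      have hz' : g⁻¹ * z * g ∈ uSub (thSq_of_card hF) :=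
        (map_conj_mem _ _ _).1 (by rw [← hP]; exact hz)
      refine ⟨g⁻¹ * z * g, ⟨⟨_, hz'⟩, fun v => Subtype.ext ?_, rfl⟩, by simp [mul_assoc]⟩
      have hv : g * v * g⁻¹ ∈ (P : Subgroup GG) := by
        rw [hP]; exact ⟨v, v.2, rfl⟩
      have h1 : g * v * g⁻¹ * z = z * (g * v * g⁻¹) := congrArg Subtype.val (hc ⟨_, hv⟩)
      show (v : GG) * (g⁻¹ * z * g) = g⁻¹ * z * g * v
      calc (v : GG) * (g⁻¹ * z * g) = g⁻¹ * (g * v * g⁻¹ * z) * g := by group
        _ = g⁻¹ * (z * (g * v * g⁻¹)) * g := by rw [h1]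
        _ = g⁻¹ * z * g * v := by group
    · rintro ⟨_, ⟨⟨u, hu⟩, hc, rfl⟩, rfl⟩
      have hu' : g * u * g⁻¹ ∈ (P : Subgroup GG) := by
        rw [hP]; exact ⟨u, hu, rfl⟩
      refine ⟨⟨_, hu'⟩, fun w => Subtype.ext ?_, rfl⟩
      have hw : g⁻¹ * w * g ∈ uSub (thSq_of_card hF) :=
        (map_conj_mem _ _ _).1 (by rw [← hP]; exact w.2)
      have h1 : g⁻¹ * w * g * u = u * (g⁻¹ * w * g) := congrArg Subtype.val (hc ⟨_, hw⟩)
      show (w : GG) * (g * u * g⁻¹) = g * u * g⁻¹ * w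
      calc (w : GG) * (g * u * g⁻¹) = g * (g⁻¹ * w * g * u) * g⁻¹ := by group
        _ = g * (u * (g⁻¹ * w * g)) * g⁻¹ := by rw [h1]
        _ = g * u * g⁻¹ * w := by group
  constructor
  · intro hb
    by_cases hne : H = ⊥
    · exact Or.inl hne
    obtain ⟨g, hg⟩ := exists_zSub_le hm hF hb hne
    have hg' := (map_conj_le_iff g _ _).1 hg
    have hH' : H.map (MulAut.conj g⁻¹).toMonoidHom ≠ ⊤ := fun e => hH (by
      apply Subgroup.map_injective (f := (MulAut.conj g⁻¹).toMonoidHom) (MulAut.conj g⁻¹).injective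
      rw [Subgroup.map_top_of_surjective _ (MulAut.conj g⁻¹).surjective]
      exact e)
    have := eq_zSub hm hF hg' (le_bSub hm hF hg' hH') ((conj_iff H g⁻¹).2 hb)
    refine Or.inr ⟨g • uSylow hm hF, ?_⟩
    rw [hcen g _ rfl, ← this, map_conj_mul, mul_inv_cancel, map_one]
    exact (Subgroup.map_id H).symm
  · rintro (rfl | ⟨P, rfl⟩)
    · exact binary_bot hm hF
    · obtain ⟨g, hg⟩ := exists_conj_sylow hm hF P
      rw [hcen g P hg, conj_iff]
      exact binary_zSub hm hF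

end CfsgLib.KnownB.SzBinary
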