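import Cfsg.Agent.Lib.KnownB.SzVirtual

/-!
# The irreducible characters of `Sz(q)`
-/

set_option autoImplicit false
set_option linter.unusedSectionVars false

namespace CfsgLib.KnownB.SzCh

open CfsgLib.Suzuki CfsgLib.Char
open scoped ComplexConjugate

theorem nf_ne {K : ℂ} (h4 : 2 * K ^ 2 + 2 * K + 1 ≠ 0) (h5 : 2 * K ^ 2 - 2 * K + 1 ≠ 0)
    (h6 : (2 * K ^ 2) ^ 2 + 1 ≠ 0) :
    2 * K * (K + 1) + 1 ≠ 0 ∧ 2 * K * (K - 1) + 1 ≠ 0 ∧ 2 ^ 2 * K ^ 4 + 1 ≠ 0 := by
  refine ⟨?_, ?_, ?_⟩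
  · rwa [show 2 * K * (K + 1) + 1 = 2 * K ^ 2 + 2 * K + 1 by ring]
  · rwa [show 2 * K * (K - 1) + 1 = 2 * K ^ 2 - 2 * K + 1 by ring]
  · rwa [show 2 ^ 2 * K ^ 4 + 1 = (2 * K ^ 2) ^ 2 + 1 by ring]

/-- The linear equations behind the classification. -/
theorem solve_lin {K D SU SZ aH aP aM : ℂ} (h1 : K ≠ 0) (h2 : 2 * K ^ 2 ≠ 0)
    (h3 : 2 * K ^ 2 - 1 ≠ 0) (h4 : 2 * K ^ 2 + 2 * K + 1 ≠ 0) (h5 : 2 * K ^ 2 - 2 * K + 1 ≠ 0)
    (h6 : (2 * K ^ 2) ^ 2 + 1 ≠ 0)
    (e1 : D / ((2 * K ^ 2) ^ 2 * (2 * K ^ 2 - 1) * ((2 * K ^ 2) ^ 2 + 1)) +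
      SU / ((2 * K ^ 2) ^ 2 * (2 * K ^ 2 - 1)) +
      (2 * K ^ 2 - 2) * aH / (2 * (2 * K ^ 2 - 1)) +
      (2 * K ^ 2 + 2 * K) * aP / (4 * (2 * K ^ 2 + 2 * K + 1)) +
      (2 * K ^ 2 - 2 * K) * aM / (4 * (2 * K ^ 2 - 2 * K + 1)) = 0)
    (eS : (2 * K ^ 2) ^ 2 * D / ((2 * K ^ 2) ^ 2 * (2 * K ^ 2 - 1) * ((2 * K ^ 2) ^ 2 + 1)) +
      (2 * K ^ 2 - 2) * aH / (2 * (2 * K ^ 2 - 1)) -
      (2 * K ^ 2 + 2 * K) * aP / (4 * (2 * K ^ 2 + 2 * K + 1)) -
      (2 * K ^ 2 - 2 * K) * aM / (4 * (2 * K ^ 2 - 2 * K + 1)) = 0)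
    (eH : ((2 * K ^ 2) ^ 2 + 1) * (1 - (2 * K ^ 2) ^ 2) * D /
        ((2 * K ^ 2) ^ 2 * (2 * K ^ 2 - 1) * ((2 * K ^ 2) ^ 2 + 1)) +
      SU / ((2 * K ^ 2) ^ 2 * (2 * K ^ 2 - 1)) + (D - aH) / (2 * K ^ 2 - 1) = 0)
    (eP : (2 * K ^ 2 - 1) * (2 * K ^ 2 - 2 * K + 1) * ((2 * K ^ 2) ^ 2 + 1) * D /
        ((2 * K ^ 2) ^ 2 * (2 * K ^ 2 - 1) * ((2 * K ^ 2) ^ 2 + 1)) +
      (2 * K * SZ - SU) / ((2 * K ^ 2) ^ 2 * (2 * K ^ 2 - 1)) -
      (D - aP) / (2 * K ^ 2 + 2 * K + 1) = 0)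
    (eM : (2 * K ^ 2 - 1) * (2 * K ^ 2 + 2 * K + 1) * ((2 * K ^ 2) ^ 2 + 1) * D /
        ((2 * K ^ 2) ^ 2 * (2 * K ^ 2 - 1) * ((2 * K ^ 2) ^ 2 + 1)) +
      (-(2 * K) * SZ - SU) / ((2 * K ^ 2) ^ 2 * (2 * K ^ 2 - 1)) -
      (D - aM) / (2 * K ^ 2 - 2 * K + 1) = 0) :
    aH = 0 ∧ aM = -aP ∧ D = aP * K * (2 * K ^ 2 - 1) ∧ SZ = -(aP * K * (2 * K ^ 2 - 1)) := by
  obtain ⟨n4, n5, n6⟩ := nf_ne h4 h5 h6
  set Q := 2 * K ^ 2 with hQ
  set nP := Q + 2 * K + 1 with hnP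
  set nM := Q - 2 * K + 1 with hnM
  set P := Q ^ 2 * (Q - 1) with hP
  have hprod : nP * nM = Q ^ 2 + 1 := by rw [hnP, hnM, hQ]; ring
  have hP0 : P ≠ 0 := mul_ne_zero (pow_ne_zero 2 h2) h3
  have hX : (Q ^ 2 + 1) ≠ 0 := h6
  have A : D + SU - aH * Q ^ 2 = 0 := by
    linear_combination (norm := (rw [hP]; field_simp; ring)) P * eH
  have B : D * (Q - 1) + nP * (2 * K * SZ - SU) + P * aP = 0 := by
    linear_combination (norm := (rw [hP, ← hprod]; field_simp; ring)) P * nP * eP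
  have C : D * (Q - 1) + nM * (-(2 * K) * SZ - SU) + P * aM = 0 := by
    linear_combination (norm := (rw [hP, ← hprod]; field_simp; ring)) P * nM * eM
  have E1 : 4 * D + 4 * (Q ^ 2 + 1) * SU + 2 * Q ^ 2 * (Q ^ 2 + 1) * (Q - 2) * aH +
      P * nM * (nP - 1) * aP + P * nP * (nM - 1) * aM = 0 := by
    linear_combination (norm := (rw [hP, ← hprod, show nP - 1 = Q + 2 * K by rw [hnP]; ring,
      show nM - 1 = Q - 2 * K by rw [hnM]; ring]; field_simp; ring)) 4 * P * (Q ^ 2 + 1) * e1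
  have ES : 4 * Q ^ 2 * D + 2 * Q ^ 2 * (Q ^ 2 + 1) * (Q - 2) * aH -
      P * nM * (nP - 1) * aP - P * nP * (nM - 1) * aM = 0 := by
    linear_combination (norm := (rw [hP, ← hprod, show nP - 1 = Q + 2 * K by rw [hnP]; ring,
      show nM - 1 = Q - 2 * K by rw [hnM]; ring]; field_simp; ring)) 4 * P * (Q ^ 2 + 1) * eS
  have haH : aH = 0 := by
    refine mul_left_cancel₀ (mul_ne_zero (mul_ne_zero (by norm_num : (4 : ℂ) ≠ 0) hX) hP0) ?_
    linear_combination E1 + ES - 4 * (Q ^ 2 + 1) * A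
  subst haH
  have hSU : SU = -D := by linear_combination A
  subst hSU
  have BC : 4 * D + (Q - 1) * (aP * nM + aM * nP) = 0 := by
    refine mul_left_cancel₀ (pow_ne_zero 2 h2) ?_
    rw [mul_zero, hP] at *
    have hsum : nP + nM = 2 * Q + 2 := by rw [hnP, hnM]; ring
    linear_combination nM * B + nP * C - (2 * D) * hprod - (D * (Q - 1)) * hsum
  have haM : aM = -aP := by
    refine mul_left_cancel₀ (mul_ne_zero (mul_ne_zero (pow_ne_zero 2 h2) h3) hX) ?_
    rw [hP] at ES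
    linear_combination Q ^ 2 * BC - ES - Q ^ 2 * (Q - 1) * (aP + aM) * hprod
  subst haM
  have hD : D = aP * K * (Q - 1) := by
    refine mul_left_cancel₀ (by norm_num : (4 : ℂ) ≠ 0) ?_
    have hdiff : nM - nP = -4 * K := by rw [hnP, hnM]; ring
    linear_combination BC - (Q - 1) * aP * hdiff
  refine ⟨rfl, rfl, hD, ?_⟩
  refine mul_left_cancel₀ (mul_ne_zero (mul_ne_zero two_ne_zero h1) h4) ?_
  rw [hP] at B
  subst hD
  linear_combination B

section Generic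

variable {G : Type*} [Group G] [Fintype G]

/-- The induced function of a linear character. -/
noncomputable def indLin (A : Subgroup G) (lam : A →* ℂˣ) : G → ℂ :=
  Cfsg.indFun A fun a => (lam a : ℂ)

theorem lam_conj {A : Subgroup G} (lam : A →* ℂˣ) (a : A) : conj (lam a : ℂ) = (lam a⁻¹ : ℂ) :=
  (char_inv (irr_isCharacter (isIrrCharacter_linear lam)) a).symm

theorem norm_lam {A : Subgroup G} (lam : A →* ℂˣ) (a : A) : ‖(lam a : ℂ)‖ = 1 :=
  norm_eigen_eq_one (orderOf_pos a) (by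
    rw [← Units.val_pow_eq_pow_val, ← map_pow, pow_orderOf_eq_one, map_one, Units.val_one])

theorem indLin_one (A : Subgroup G) (lam : A →* ℂˣ) : indLin A lam 1 = (A.index : ℂ) := by
  rw [indLin, indFun_apply_one, map_one, Units.val_one, mul_one]

theorem indLin_eq_zero (A : Subgroup G) (lam : A →* ℂˣ) {g : G} (hg : g ≠ 1)
    (hgA : g ∉ Suzuki.conjUnion A) : indLin A lam g = 0 := by
  rw [indLin, indFun_def, Finset.sum_eq_zero fun x _ => ?_, mul_zero]
  exact extendByZero_of_not_mem _ fun h => hgA ⟨hg, x⁻¹, by simpa using h⟩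

theorem norm_indLin_le (A : Subgroup G) (lam : A →* ℂˣ)
    (hTI : ∀ x a, a ∈ A → a ≠ 1 → x * a * x⁻¹ ∈ A → x ∈ Subgroup.normalizer (A : Set G))
    {e : ℕ} (hN : Nat.card (Subgroup.normalizer (A : Set G)) = e * Nat.card A) {g : G}
    (hg : g ≠ 1) : ‖indLin A lam g‖ ≤ e := by
  classical
  by_cases hgA : g ∈ Suzuki.conjUnion A
  swap
  · rw [indLin_eq_zero A lam hg hgA, norm_zero]
    positivity
  obtain ⟨-, y, hy⟩ := hgA
  set S := Finset.univ.filter fun x : G => x⁻¹ * g * x ∈ A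
  have hS : S.card ≤ e * Nat.card A := by
    rw [← hN, Nat.card_eq_fintype_card, Fintype.card_subtype]
    refine Finset.card_le_card_of_injOn (fun x => y * x) (fun x hx => ?_)
      (mul_right_injective y).injOn
    simp only [S, Finset.coe_filter, Finset.mem_univ, true_and, Set.mem_ofPred_eq] at hx
    simp only [Finset.coe_filter, Finset.mem_univ, true_and, Set.mem_ofPred_eq]
    have h1 : x⁻¹ * g * x ≠ 1 := fun e =>
      hg ((conj_eq_one_iff (a := x⁻¹) (b := g)).1 (by rwa [inv_inv]))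
    refine hTI (y * x) (x⁻¹ * g * x) hx h1 ?_
    rw [show y * x * (x⁻¹ * g * x) * (y * x)⁻¹ = y * g * y⁻¹ by group]
    exact hy
  have hA0 : (0 : ℝ) < Nat.card A := by exact_mod_cast Nat.card_pos
  rw [indLin, indFun_def, norm_mul, norm_inv, Complex.norm_natCast, inv_mul_le_iff₀ hA0]
  calc ‖∑ x : G, Cfsg.extendByZero A (fun a => (lam a : ℂ)) (x⁻¹ * g * x)‖
      = ‖∑ x ∈ S, Cfsg.extendByZero A (fun a => (lam a : ℂ)) (x⁻¹ * g * x)‖ := by
        rw [Finset.sum_subset (Finset.subset_univ S) fun x _ hx =>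
          extendByZero_of_not_mem _ fun h => hx (by simpa [S] using h)]
    _ ≤ ∑ x ∈ S, ‖Cfsg.extendByZero A (fun a => (lam a : ℂ)) (x⁻¹ * g * x)‖ := norm_sum_le _ _
    _ ≤ ∑ _x ∈ S, (1 : ℝ) := Finset.sum_le_sum fun x hx => by
        rw [extendByZero_of_mem _ (Finset.mem_filter.1 hx).2, norm_lam]
    _ ≤ (Nat.card A : ℝ) * e := by
        rw [Finset.sum_const, nsmul_eq_mul, mul_one, mul_comm]
        exact_mod_cast hS

/-- A non-trivial character of a self-centralizing TI-subgroup has a regular orbit. -/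
theorem exists_lam_ne {A : Subgroup G} (hcomm : ∀ a ∈ A, ∀ b ∈ A, a * b = b * a)
    (hC : ∀ a ∈ A, a ≠ 1 → Subgroup.centralizer ({a} : Set G) = A) {lam : A →* ℂˣ}
    (hlam : lam ≠ 1) {x : G} (hxN : x ∈ Subgroup.normalizer (A : Set G)) (hxA : x ∉ A) :
    ∃ a : A, lam ⟨x⁻¹ * a * x, by
      simpa using (Subgroup.mem_normalizer_iff.1 (inv_mem hxN) (a : G)).1 a.2⟩ ≠ lam a := by
  have hmem : ∀ a : A, x⁻¹ * a * x ∈ A := fun a => by
    simpa using (Subgroup.mem_normalizer_iff.1 (inv_mem hxN) (a : G)).1 a.2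
  by_contra hall
  push Not at hall
  let φ : A → A := fun a => ⟨x⁻¹ * a * x, hmem a⟩ * a⁻¹
  have hinj : Function.Injective φ := by
    intro a b e
    have e' : x⁻¹ * (a : G) * x * (a : G)⁻¹ = x⁻¹ * (b : G) * x * (b : G)⁻¹ :=
      congrArg Subtype.val e
    set c : G := (b : G)⁻¹ * a with hcdef
    have hcA : c ∈ A := mul_mem (inv_mem b.2) a.2
    have hcx : x⁻¹ * c * x = c := by
      calc x⁻¹ * c * x = (x⁻¹ * (b : G) * x)⁻¹ * (x⁻¹ * a * x * (a : G)⁻¹) * a := by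
            rw [hcdef]; group
        _ = (x⁻¹ * (b : G) * x)⁻¹ * (x⁻¹ * b * x * (b : G)⁻¹) * a := by rw [e']
        _ = c := by rw [hcdef]; group
    by_contra hne
    have hc1 : c ≠ 1 := fun h => hne (Subtype.ext (inv_mul_eq_one.1 h).symm)
    refine hxA ?_
    rw [← hC c hcA hc1, Subgroup.mem_centralizer_singleton_iff]
    calc x * c = x * (x⁻¹ * c * x) := by rw [hcx]
      _ = c * x := by group
  refine hlam (MonoidHom.ext fun b => ?_)
  obtain ⟨a, rfl⟩ := Finite.surjective_of_injective hinj b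
  rw [map_mul, map_inv, hall a, mul_inv_cancel, MonoidHom.one_apply]

open scoped _root_.Classical in
/-- The sum of a linear character over the group. -/
theorem sum_lam {H : Type*} [Group H] [Fintype H] (μ : H →* ℂˣ) :
    ∑ a : H, (μ a : ℂ) = if μ = 1 then (Nat.card H : ℂ) else 0 := by
  by_cases h : μ = 1
  · subst h
    simp [Nat.card_eq_fintype_card]
  · rw [if_neg h]
    exact sum_hom_units_eq_zero ((Units.coeHom ℂ).comp μ) fun e => h
      (MonoidHom.ext fun a => Units.ext (DFunLike.congr_fun e a))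

/-- The norm of the induced linear character. -/
theorem classInner_indLin_self {A : Subgroup G} (hcomm : ∀ a ∈ A, ∀ b ∈ A, a * b = b * a)
    (hC : ∀ a ∈ A, a ≠ 1 → Subgroup.centralizer ({a} : Set G) = A) {lam : A →* ℂˣ}
    (hlam : lam ≠ 1) {e : ℕ} (hN : Nat.card (Subgroup.normalizer (A : Set G)) = e * Nat.card A) :
    Cfsg.classInner (indLin A lam) (indLin A lam) =
      1 + ((A.index : ℂ) - e) / (Nat.card A : ℂ) := by
  classical
  set N := Subgroup.normalizer (A : Set G)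
  have hfr := frobenius_reciprocity A (fun a => (lam a : ℂ)) (indLin A lam)
    (indFun_isClassFunction _ _)
  rw [indLin] at *
  rw [hfr, classInner_def]
  simp only [indFun_def, map_mul, map_inv₀, map_natCast, map_sum]
  simp only [Finset.mul_sum, ← mul_assoc]
  rw [Finset.sum_comm]
  have key : ∀ x : G, ∑ a : A, (lam a : ℂ) *
      conj (Cfsg.extendByZero A (fun a => (lam a : ℂ)) (x⁻¹ * (a : G) * x)) =
      (if x ∈ A then (Nat.card A : ℂ) else 0) + (if x ∈ N then 0 else 1) := by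
    intro x
    by_cases hxA : x ∈ A
    · rw [if_pos hxA, if_pos (Subgroup.le_normalizer hxA), add_zero,
        Nat.card_eq_fintype_card, ← Finset.card_univ, ← nsmul_one, ← Finset.sum_const]
      refine Finset.sum_congr rfl fun a _ => ?_
      have e1 : x⁻¹ * (a : G) * x = a := by
        rw [mul_assoc, hcomm a a.2 x hxA, inv_mul_cancel_left]
      rw [e1, extendByZero_of_mem _ a.2, Subtype.coe_eta, lam_conj, ← Units.val_mul, ← map_mul,
        mul_inv_cancel, map_one, Units.val_one]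
    by_cases hxN : x ∈ N
    · rw [if_neg hxA, if_pos hxN, add_zero]
      have hmem : ∀ a : A, x⁻¹ * a * x ∈ A := fun a => by
        simpa using (Subgroup.mem_normalizer_iff.1 (inv_mem hxN) (a : G)).1 a.2
      let μ : A →* ℂˣ :=
        { toFun := fun a => lam a * (lam ⟨x⁻¹ * a * x, hmem a⟩)⁻¹
          map_one' := by
            rw [show (⟨x⁻¹ * ((1 : A) : G) * x, hmem 1⟩ : A) = 1 from Subtype.ext (by simp),
              map_one, inv_one, mul_one]
          map_mul' := fun a b => by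
            rw [show (⟨x⁻¹ * ((a * b : A) : G) * x, hmem (a * b)⟩ : A) =
              ⟨x⁻¹ * a * x, hmem a⟩ * ⟨x⁻¹ * b * x, hmem b⟩ from Subtype.ext (by simp [mul_assoc]),
              map_mul, map_mul, _root_.mul_inv, mul_mul_mul_comm] }
      have hμ : μ ≠ 1 := by
        obtain ⟨a, ha⟩ := exists_lam_ne hcomm hC hlam hxN hxA
        intro e
        exact ha (mul_inv_eq_one.1 (DFunLike.congr_fun e a)).symm
      have h0 := sum_lam μ
      rw [if_neg hμ] at h0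
      rw [← h0]
      refine Finset.sum_congr rfl fun a _ => ?_
      rw [extendByZero_of_mem _ (hmem a), lam_conj, map_inv]
      exact (Units.val_mul _ _).symm
    · rw [if_neg hxA, if_neg hxN, zero_add, Finset.sum_eq_single 1]
      · rw [OneMemClass.coe_one, mul_one, inv_mul_cancel, extendByZero_of_mem _ A.one_mem,
          show (⟨1, A.one_mem⟩ : A) = 1 from rfl, map_one, Units.val_one, map_one, mul_one]
      · intro a _ ha
        rw [extendByZero_of_not_mem, map_zero, mul_zero]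
        intro hmem
        refine hxN ?_
        have := ti_of_centralizer hC x⁻¹ (a : G) a.2 (fun h => ha (Subtype.ext h))
          (by simpa using hmem)
        simpa using inv_mem this
      · simp
  have e2 : ∀ x : G, ∑ a : A, (Nat.card A : ℂ)⁻¹ * (lam a : ℂ) * (Nat.card A : ℂ)⁻¹ *
      conj (Cfsg.extendByZero A (fun a => (lam a : ℂ)) (x⁻¹ * (a : G) * x)) =
      (Nat.card A : ℂ)⁻¹ * (Nat.card A : ℂ)⁻¹ *
      ((if x ∈ A then (Nat.card A : ℂ) else 0) + (if x ∈ N then 0 else 1)) := fun x => by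
    rw [← key x, Finset.mul_sum]
    exact Finset.sum_congr rfl fun a _ => by ring
  rw [Finset.sum_congr rfl fun x _ => e2 x, ← Finset.mul_sum, Finset.sum_add_distrib,
    ← Finset.sum_filter, Finset.sum_const, Finset.sum_ite, Finset.sum_const_zero, zero_add,
    Finset.sum_const, nsmul_eq_mul, nsmul_eq_mul, mul_one, ← Fintype.card_subtype,
    Finset.filter_not, Finset.card_univ_sdiff, ← Fintype.card_subtype,
    Nat.cast_sub (Fintype.card_subtype_le _)]
  rw [← Nat.card_eq_fintype_card, ← Nat.card_eq_fintype_card, ← Nat.card_eq_fintype_card]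
  change (Nat.card A : ℂ)⁻¹ * (Nat.card A : ℂ)⁻¹ * ((Nat.card A : ℂ) * (Nat.card A : ℂ) +
    ((Nat.card G : ℂ) - (Nat.card N : ℂ))) = _
  rw [hN, ← A.index_mul_card, Nat.cast_mul, Nat.cast_mul]
  have : (Nat.card A : ℂ) ≠ 0 := natCard_ne_zero
  field_simp

/-- Inner product of an induced linear character with a function constant on the subgroup minus
one. -/
theorem classInner_indLin {A : Subgroup G} {lam : A →* ℂˣ} (hlam : lam ≠ 1) {φ : G → ℂ}
    (hφ : Cfsg.IsClassFunction G φ) {v : ℂ} (hv : ∀ a ∈ A, a ≠ 1 → φ a = v) :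
    Cfsg.classInner (indLin A lam) φ = (conj (φ 1) - conj v) / (Nat.card A : ℂ) := by
  classical
  rw [indLin, frobenius_reciprocity A _ φ hφ, classInner_def, inv_mul_eq_div]
  congr 1
  have e : ∀ a : A, (lam a : ℂ) * conj (φ (a : G)) =
      (lam a : ℂ) * conj v + if a = 1 then conj (φ 1) - conj v else 0 := by
    intro a
    by_cases ha : a = 1
    · subst ha
      rw [if_pos rfl, map_one, Units.val_one, OneMemClass.coe_one]
      ring
    · rw [if_neg ha, hv a a.2 (fun h => ha (Subtype.ext h)), add_zero]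
  rw [Finset.sum_congr rfl fun a _ => e a, Finset.sum_add_distrib, Finset.sum_ite_eq',
    if_pos (Finset.mem_univ _), ← Finset.sum_mul, sum_lam, if_neg hlam, zero_mul, zero_add]

/-- An irreducible character orthogonal to all members of a family is constant off one on the
subgroup. -/
theorem const_of_orth {A : Subgroup G} [Fintype A] (hcomm : ∀ a ∈ A, ∀ b ∈ A, a * b = b * a)
    {χ : G → ℂ} (hχ : Cfsg.IsIrrCharacter G χ) {T : ℤ}
    (hT : ∀ lam : A →* ℂˣ, lam ≠ 1 →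
      Cfsg.classInner (fun a : A => χ a) (fun a : A => (lam a : ℂ)) = T) :
    ∀ a ∈ A, a ≠ 1 → χ a = χ 1 - T * (Nat.card A : ℂ) := by
  classical
  intro a ha ha1
  have := Fintype.ofFinite (Cfsg.IrrCharacter A)
  have hc : ∀ x y : A, x * y = y * x := fun x y => Subtype.ext (hcomm x x.2 y y.2)
  have hcl : Cfsg.IsClassFunction A (fun a : A => χ a) := fun g h => by
    show χ ((h * g * h⁻¹ : A) : G) = _
    simpa using irr_isClassFunction hχ g h
  have h1 := classFunction_apply_eq_sum hcl (⟨a, ha⟩ : A)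
  have h2 := classFunction_apply_eq_sum hcl (1 : A)
  have key : ∀ ψ : Cfsg.IrrCharacter A,
      Cfsg.classInner (fun a : A => χ a) (ψ : A → ℂ) = T +
        if (ψ : A → ℂ) = (fun _ => 1) then
          Cfsg.classInner (fun a : A => χ a) (fun _ : A => (1 : ℂ)) - T else 0 := by
    intro ψ
    by_cases hψ : (ψ : A → ℂ) = fun _ => 1
    · rw [if_pos hψ, hψ]; ring
    · rw [if_neg hψ, add_zero]
      obtain ⟨lam, hlam⟩ := exists_hom_of_degree_one (irr_isCharacter ψ.2)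
        (irr_degree_one_of_comm hc ψ.2)
      rw [hlam]
      exact hT lam fun e => hψ (by rw [hlam, e]; rfl)
  have hdeg : ∀ ψ : Cfsg.IrrCharacter A, (ψ : A → ℂ) 1 = 1 := fun ψ =>
    irr_degree_one_of_comm hc ψ.2
  have hs : ∀ g : A, ∑ ψ : Cfsg.IrrCharacter A, (ψ : A → ℂ) g =
      if g = 1 then (Nat.card A : ℂ) else 0 := fun g => by
    rw [← sum_irr_mul_degree g]
    exact Finset.sum_congr rfl fun ψ _ => by rw [hdeg, one_mul]
  have hone : ∀ g : A, ∑ ψ : Cfsg.IrrCharacter A,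
      (if (ψ : A → ℂ) = (fun _ => 1) then
        Cfsg.classInner (fun a : A => χ a) (fun _ : A => (1 : ℂ)) - T else 0) * (ψ : A → ℂ) g =
      Cfsg.classInner (fun a : A => χ a) (fun _ : A => (1 : ℂ)) - T := fun g => by
    rw [Finset.sum_eq_single (⟨fun _ => 1, isIrrCharacter_one⟩ : Cfsg.IrrCharacter A)]
    · simp
    · intro ψ _ hψ
      rw [if_neg fun e => hψ (Subtype.ext e), zero_mul]
    · simp
  simp only [key, add_mul, Finset.sum_add_distrib, ← Finset.mul_sum, hs, hone] at h1 h2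
  rw [if_neg (fun e => ha1 (congrArg Subtype.val e))] at h1
  simp only [if_true, OneMemClass.coe_one] at h2
  linear_combination h1 - h2

end Generic

variable {F : Type*} [Field F] [CharP F 2] [Fintype F] {m : ℕ}
variable (hm : 1 ≤ m) (hF : Fintype.card F = 2 ^ (2 * m + 1))

local notation "KK" => ((2 : ℤ) ^ m)
local notation "QQ" => (2 * ((2 : ℤ) ^ m) ^ 2)
local notation "Kc" => ((2 : ℂ) ^ m)
local notation "Qc" => (2 * ((2 : ℂ) ^ m) ^ 2)

/-- The Steinberg character. -/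
noncomputable def stChar : Cfsg.Sz F m → ℂ := tv hF (QQ ^ 2) 0 0 1 (-1) (-1)

/-- The sum of the two cuspidal characters of degree `r(q-1)/2`. -/
noncomputable def wSum : Cfsg.Sz F m → ℂ := tv hF (2 * KK * (QQ - 1)) (-(2 * KK)) 0 0 2 (-2)

variable [Fintype (Cfsg.Sz F m)]

/-- The characters of degree `q² + 1`. -/
noncomputable def xChar (lam : hSub (thSq_of_card hF) →* ℂˣ) : Cfsg.Sz F m → ℂ := fun g =>
  tv hF ((QQ ^ 2 + 1) * (1 - QQ ^ 2)) 1 1 0 0 0 g + indLin (hSub (thSq_of_card hF)) lam g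

/-- The characters of degree `(q-1)(q-r+1)`. -/
noncomputable def yChar (lam : torP hm hF →* ℂˣ) : Cfsg.Sz F m → ℂ := fun g =>
  tv hF ((QQ - 1) * (QQ - 2 * KK + 1) * (QQ ^ 2 + 1)) (2 * KK - 1) (-1) 0 0 0 g -
    indLin (torP hm hF) lam g

/-- The characters of degree `(q-1)(q+r+1)`. -/
noncomputable def zChar (lam : torM hm hF →* ℂˣ) : Cfsg.Sz F m → ℂ := fun g =>
  tv hF ((QQ - 1) * (QQ + 2 * KK + 1) * (QQ ^ 2 + 1)) (-(2 * KK) - 1) (-1) 0 0 0 g -
    indLin (torM hm hF) lam g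

omit [Fintype (Cfsg.Sz F m)] in
/-- The two characters of degree `r(q-1)/2`. -/
def IsW (χ : Cfsg.Sz F m → ℂ) : Prop :=
  χ 1 = Kc * (Qc - 1) ∧ (∀ g ∈ zSub (thSq_of_card hF), g ≠ 1 → χ g = -Kc) ∧
    (∀ g ∈ hSub (thSq_of_card hF), g ≠ 1 → χ g = 0) ∧
    (∀ g ∈ torP hm hF, g ≠ 1 → χ g = 1) ∧ ∀ g ∈ torM hm hF, g ≠ 1 → χ g = -1

include hm hF

omit [Fintype (Cfsg.Sz F m)] in
theorem Kc_ne : (Kc : ℂ) ≠ 0 ∧ Qc ≠ 0 ∧ Qc - 1 ≠ 0 ∧ Qc + 2 * Kc + 1 ≠ 0 ∧
    Qc - 2 * Kc + 1 ≠ 0 ∧ Qc ^ 2 + 1 ≠ 0 := by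
  have hk : (2 : ℤ) ≤ KK := by exact_mod_cast k_two_le hm
  have h1 : (KK : ℤ) ≠ 0 := by omega
  have h2 : QQ ≠ 0 := by nlinarith
  have h3 : QQ - 1 ≠ 0 := by nlinarith
  have h4 : QQ + 2 * KK + 1 ≠ 0 := by nlinarith
  have h5 : QQ - 2 * KK + 1 ≠ 0 := by nlinarith
  have h6 : QQ ^ 2 + 1 ≠ 0 := by nlinarith
  have key : ∀ {x : ℤ}, x ≠ 0 → ∀ {y : ℂ}, (x : ℂ) = y → y ≠ 0 := fun hx _ e =>
    e ▸ Int.cast_ne_zero.2 hx
  exact ⟨key h1 (by push_cast; ring), key h2 (by push_cast; ring), key h3 (by push_cast; ring),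
    key h4 (by push_cast; ring), key h5 (by push_cast; ring), key h6 (by push_cast; ring)⟩

omit [Fintype (Cfsg.Sz F m)] in
theorem card_torP_cast : (Nat.card (torP hm hF) : ℂ) = Qc + 2 * Kc + 1 := by
  rw [card_torP hm hF]; push_cast; ring

omit [Fintype (Cfsg.Sz F m)] in
theorem card_torM_cast : (Nat.card (torM hm hF) : ℂ) = Qc - 2 * Kc + 1 := by
  rw [card_torM hm hF, Nat.cast_add,
    Nat.cast_sub (Nat.mul_le_mul_left 2 (Nat.le_self_pow two_ne_zero _))]
  push_cast; ring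

omit [Fintype (Cfsg.Sz F m)] in
theorem card_hSub_cast : (Nat.card (hSub (thSq_of_card hF)) : ℂ) = Qc - 1 := by
  rw [card_hSub' hm hF, Nat.cast_sub (Nat.one_le_iff_ne_zero.2 (by positivity))]
  push_cast; ring

omit [Fintype (Cfsg.Sz F m)] in
theorem card_zSub_cast : (Nat.card (zSub (thSq_of_card hF)) : ℂ) = Qc := by
  rw [card_zSub' hm hF]; push_cast; ring

omit [Fintype (Cfsg.Sz F m)] in
theorem card_uSub_cast : (Nat.card (uSub (thSq_of_card hF)) : ℂ) = Qc ^ 2 := by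
  rw [card_uSub' hm hF]; push_cast; ring

omit [Fintype (Cfsg.Sz F m)] in
theorem index_cast :
    ((hSub (thSq_of_card hF)).index : ℂ) = Qc ^ 2 * (Qc ^ 2 + 1) ∧
    ((torP hm hF).index : ℂ) = Qc ^ 2 * (Qc - 1) * (Qc - 2 * Kc + 1) ∧
    ((torM hm hF).index : ℂ) = Qc ^ 2 * (Qc - 1) * (Qc + 2 * Kc + 1) := by
  obtain ⟨-, -, h3, h4, h5, -⟩ := Kc_ne hm hF
  have key : ∀ A : Subgroup (Cfsg.Sz F m), (A.index : ℂ) * (Nat.card A : ℂ) =
      Qc ^ 2 * (Qc - 1) * (Qc ^ 2 + 1) := fun A => by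
    rw [← card_G_cast hm hF]
    exact_mod_cast A.index_mul_card
  refine ⟨?_, ?_, ?_⟩
  · refine mul_right_cancel₀ h3 ?_
    have := key (hSub (thSq_of_card hF))
    rw [card_hSub_cast hm hF] at this
    linear_combination this
  · refine mul_right_cancel₀ h4 ?_
    have := key (torP hm hF)
    rw [card_torP_cast hm hF] at this
    linear_combination this
  · refine mul_right_cancel₀ h5 ?_
    have := key (torM hm hF)
    rw [card_torM_cast hm hF] at this
    linear_combination this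

/-- The inner product of two type functions. -/
theorem classInner_tv_tv (d z w a b c d' z' w' a' b' c' : ℤ) :
    Cfsg.classInner (tv hF d z w a b c) (tv hF d' z' w' a' b' c') =
      (d : ℂ) * d' / (Qc ^ 2 * (Qc - 1) * (Qc ^ 2 + 1)) +
      ((z : ℂ) * z' * (Qc - 1) + w * w' * (Qc ^ 2 - Qc)) / (Qc ^ 2 * (Qc - 1)) +
      a * a' * (Qc - 2) / (2 * (Qc - 1)) + b * b' * (Qc + 2 * Kc) / (4 * (Qc + 2 * Kc + 1)) +
      c * c' * (Qc - 2 * Kc) / (4 * (Qc - 2 * Kc + 1)) := by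
  classical
  rw [classInner_tv hm hF d z w a b c (isClassFunction_tv hm hF d' z' w' a' b' c'),
    card_G_cast hm hF, tv_one hm hF, map_intCast]
  simp only [conj_tv hm hF]
  rw [sumPunct_congr (A := hSub (thSq_of_card hF)) (g := fun _ => (a' : ℂ))
      (fun g hg hg1 => tv_hSub hm hF _ _ _ _ _ _ hg hg1),
    sumPunct_congr (A := torP hm hF) (g := fun _ => (b' : ℂ))
      (fun g hg hg1 => tv_torP hm hF _ _ _ _ _ _ hg hg1),
    sumPunct_congr (A := torM hm hF) (g := fun _ => (c' : ℂ))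
      (fun g hg hg1 => tv_torM hm hF _ _ _ _ _ _ hg hg1),
    sumPunct_congr (A := zSub (thSq_of_card hF)) (g := fun _ => (z' : ℂ))
      (fun g hg hg1 => tv_z hm hF _ _ _ _ _ _ hg hg1),
    sumPunct_congr (A := uSub (thSq_of_card hF))
      (g := fun g => (w' : ℂ) + ((z' : ℂ) - w') *
        if g ∈ zSub (thSq_of_card hF) then 1 else 0)
      (fun g hg hg1 => by
        by_cases hgz : g ∈ zSub (thSq_of_card hF)
        · rw [if_pos hgz, tv_z hm hF _ _ _ _ _ _ hgz hg1]; ring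
        · rw [if_neg hgz, tv_u hm hF _ _ _ _ _ _ hg hgz]; ring),
    sumPunct_add, sumPunct_smul]
  have e : sumPunct (uSub (thSq_of_card hF))
      (fun g => if g ∈ zSub (thSq_of_card hF) then (1 : ℂ) else 0) =
      sumPunct (zSub (thSq_of_card hF)) (fun _ => (1 : ℂ)) := by
    rw [sumPunct_eq, sumPunct_eq]
    refine Finset.sum_congr rfl fun g _ => ?_
    by_cases hgz : g ∈ zSub (thSq_of_card hF)
    · simp [hgz, zSub_le (thSq_of_card hF) hgz]
    · simp [hgz]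
  rw [e]
  simp only [sumPunct_const, card_hSub_cast hm hF, card_torP_cast hm hF, card_torM_cast hm hF,
    card_zSub_cast hm hF, card_uSub_cast hm hF]
  ring

omit [Fintype (Cfsg.Sz F m)] in
theorem deg_pos (D : ℤ) (hD : 0 < D) {χ : Cfsg.Sz F m → ℂ} (h1 : χ 1 = D)
    (h : Cfsg.IsIrrCharacter (Cfsg.Sz F m) χ ∨ Cfsg.IsIrrCharacter (Cfsg.Sz F m) (-χ)) :
    Cfsg.IsIrrCharacter (Cfsg.Sz F m) χ := by
  refine h.resolve_right fun hn => ?_
  obtain ⟨n, hn'⟩ := char_apply_one_eq_nat (irr_isCharacter hn)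
  rw [Pi.neg_apply, h1] at hn'
  have : -D = (n : ℤ) := by exact_mod_cast hn'
  omega

theorem isGen_one : Cfsg.IsGeneralizedCharacter (Cfsg.Sz F m) (tv hF 1 1 1 1 1 1) :=
  isGeneralized_tv hm hF 1 1 1 1 1 1 0 0 (by ring) (by ring) (by simp) (by simp) (by simp)

theorem isGen_st : Cfsg.IsGeneralizedCharacter (Cfsg.Sz F m) (stChar hF) :=
  isGeneralized_tv hm hF _ _ _ _ _ _ 0 1 (by ring) (by ring) ⟨QQ + 1, by ring⟩
    ⟨QQ - 2 * KK + 1, by ring⟩ ⟨QQ + 2 * KK + 1, by ring⟩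

theorem isGen_wSum : Cfsg.IsGeneralizedCharacter (Cfsg.Sz F m) (wSum hF) :=
  isGeneralized_tv hm hF _ _ _ _ _ _ 1 0 (by ring) (by ring) ⟨2 * KK, by ring⟩
    ⟨2 * KK - 2, by ring⟩ ⟨2 * KK + 2, by ring⟩

theorem isIrr_st : Cfsg.IsIrrCharacter (Cfsg.Sz F m) (stChar hF) := by
  obtain ⟨h1, h2, h3, h4, h5, h6⟩ := Kc_ne hm hF
  have hk : (2 : ℤ) ≤ KK := by exact_mod_cast k_two_le hm
  refine deg_pos hm hF (QQ ^ 2) (by positivity) (by rw [stChar, tv_one hm hF])
    (isGeneralized_norm_one (isGen_st hm hF) ?_)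
  rw [stChar, classInner_tv_tv hm hF]
  push_cast
  generalize ((2 : ℂ) ^ m) = K at *
  obtain ⟨n4, n5, n6⟩ := nf_ne h4 h5 h6
  field_simp
  ring

theorem classInner_wSum : Cfsg.classInner (wSum hF) (wSum hF) = 2 := by
  obtain ⟨h1, h2, h3, h4, h5, h6⟩ := Kc_ne hm hF
  rw [wSum, classInner_tv_tv hm hF]
  push_cast
  generalize ((2 : ℂ) ^ m) = K at *
  obtain ⟨n4, n5, n6⟩ := nf_ne h4 h5 h6
  field_simp
  ring

omit [Fintype (Cfsg.Sz F m)] in
theorem cell_comm {A : Subgroup (Cfsg.Sz F m)} (hA : IsCell (thSq_of_card hF) A) :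
    ∀ a ∈ A, ∀ b ∈ A, a * b = b * a := fun _ ha _ hb => hA.comm hF ha hb

/-- The norm of `tv ± Ind`. -/
theorem classInner_family {A : Subgroup (Cfsg.Sz F m)} (hA : IsCell (thSq_of_card hF) A)
    {lam : A →* ℂˣ} (hlam : lam ≠ 1) {e : ℕ}
    (hN : Nat.card (Subgroup.normalizer (A : Set (Cfsg.Sz F m))) = e * Nat.card A)
    {d z w a b c : ℤ} (h0 : ∀ g ∈ A, g ≠ 1 → tv hF d z w a b c g = 0) {s : ℂ} (hs : s * s = 1)
    (hsc : conj s = s) :
    Cfsg.classInner (fun g => tv hF d z w a b c g + s * indLin A lam g)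
        (fun g => tv hF d z w a b c g + s * indLin A lam g) =
      Cfsg.classInner (tv hF d z w a b c) (tv hF d z w a b c) + 1 +
        (2 * s * (d : ℂ) + (A.index : ℂ) - e) / (Nat.card A : ℂ) := by
  have hcl := isClassFunction_tv hm hF d z w a b c
  have e1 := classInner_indLin hlam hcl h0
  rw [tv_one hm hF, map_intCast, map_zero, sub_zero] at e1
  have e2 : Cfsg.classInner (tv hF d z w a b c) (indLin A lam) = (d : ℂ) / (Nat.card A : ℂ) := by
    rw [← classInner_conj_symm, e1, map_div₀, map_intCast, map_natCast]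
  have e3 := classInner_indLin_self (cell_comm hm hF hA)
    (fun a ha ha1 => hA.centralizer_eq hm hF ha ha1) hlam hN
  have e4 : (fun g => tv hF d z w a b c g + s * indLin A lam g) =
      tv hF d z w a b c + s • indLin A lam := funext fun g => rfl
  rw [e4, classInner_add_left, classInner_add_right, classInner_add_right, classInner_smul_left,
    classInner_smul_right, classInner_smul_left, classInner_smul_right, e1, e2, e3, hsc]
  linear_combination (1 + ((A.index : ℂ) - e) / (Nat.card A : ℂ)) * hs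

omit [Fintype (Cfsg.Sz F m)] in
theorem linear_gen {A : Subgroup (Cfsg.Sz F m)} (lam : A →* ℂˣ) :
    Cfsg.IsGeneralizedCharacter A (fun a => (lam a : ℂ)) :=
  isGeneralized_of_isCharacter (irr_isCharacter (isIrrCharacter_linear lam))

theorem isGen_x0 : Cfsg.IsGeneralizedCharacter (Cfsg.Sz F m)
    (tv hF ((QQ ^ 2 + 1) * (1 - QQ ^ 2)) 1 1 0 0 0) :=
  isGeneralized_tv hm hF _ _ _ _ _ _ 0 (-QQ ^ 2) (by ring) (by ring)
    ⟨-(QQ + 1) * (QQ ^ 2 + 1), by ring⟩ ⟨(QQ - 2 * KK + 1) * (1 - QQ ^ 2), by ring⟩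
    ⟨(QQ + 2 * KK + 1) * (1 - QQ ^ 2), by ring⟩

theorem isGen_y0 : Cfsg.IsGeneralizedCharacter (Cfsg.Sz F m)
    (tv hF ((QQ - 1) * (QQ - 2 * KK + 1) * (QQ ^ 2 + 1)) (2 * KK - 1) (-1) 0 0 0) :=
  isGeneralized_tv hm hF _ _ _ _ _ _ (-1) ((QQ - 1) * (QQ - 2 * KK + 1) + 1) (by ring) (by ring)
    ⟨(QQ - 2 * KK + 1) * (QQ ^ 2 + 1), by ring⟩ ⟨(QQ - 1) * (QQ - 2 * KK + 1) ^ 2, by ring⟩
    ⟨(QQ - 1) * (QQ ^ 2 + 1), by ring⟩

theorem isGen_z0 : Cfsg.IsGeneralizedCharacter (Cfsg.Sz F m)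
    (tv hF ((QQ - 1) * (QQ + 2 * KK + 1) * (QQ ^ 2 + 1)) (-(2 * KK) - 1) (-1) 0 0 0) :=
  isGeneralized_tv hm hF _ _ _ _ _ _ 1 ((QQ - 1) * (QQ + 2 * KK + 1) + 1) (by ring) (by ring)
    ⟨(QQ + 2 * KK + 1) * (QQ ^ 2 + 1), by ring⟩ ⟨(QQ - 1) * (QQ ^ 2 + 1), by ring⟩
    ⟨(QQ - 1) * (QQ + 2 * KK + 1) ^ 2, by ring⟩

theorem xChar_one (lam : hSub (thSq_of_card hF) →* ℂˣ) : xChar hF lam 1 = Qc ^ 2 + 1 := by
  rw [xChar, tv_one hm hF, indLin_one, (index_cast hm hF).1]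
  push_cast
  ring

theorem yChar_one (lam : torP hm hF →* ℂˣ) :
    yChar hm hF lam 1 = (Qc - 1) * (Qc - 2 * Kc + 1) := by
  rw [yChar, tv_one hm hF, indLin_one, (index_cast hm hF).2.1]
  push_cast
  ring

theorem zChar_one (lam : torM hm hF →* ℂˣ) :
    zChar hm hF lam 1 = (Qc - 1) * (Qc + 2 * Kc + 1) := by
  rw [zChar, tv_one hm hF, indLin_one, (index_cast hm hF).2.2]
  push_cast
  ring

theorem isIrr_x {lam : hSub (thSq_of_card hF) →* ℂˣ} (hlam : lam ≠ 1) :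
    Cfsg.IsIrrCharacter (Cfsg.Sz F m) (xChar hF lam) := by
  obtain ⟨h1, h2, h3, h4, h5, h6⟩ := Kc_ne hm hF
  refine deg_pos hm hF (QQ ^ 2 + 1) (by positivity)
    (by rw [xChar_one hm hF]; push_cast; ring) (isGeneralized_norm_one
    (isGeneralized_add (isGen_x0 hm hF) (isGeneralized_indFun _ (linear_gen hm hF lam))) ?_)
  have key := classInner_family hm hF (isCell_hSub hm hF) hlam (card_normalizer_hSub' hm hF)
    (d := (QQ ^ 2 + 1) * (1 - QQ ^ 2)) (z := 1) (w := 1) (a := 0) (b := 0) (c := 0)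
    (fun g hg hg1 => by rw [tv_hSub hm hF _ _ _ _ _ _ hg hg1, Int.cast_zero])
    (s := 1) (one_mul 1) (map_one _)
  simp only [one_mul] at key
  refine (Eq.trans ?_ key).trans ?_
  · rfl
  rw [classInner_tv_tv hm hF, card_hSub_cast hm hF, (index_cast hm hF).1]
  push_cast
  generalize ((2 : ℂ) ^ m) = K at *
  obtain ⟨n4, n5, n6⟩ := nf_ne h4 h5 h6
  field_simp
  ring

theorem isIrr_y {lam : torP hm hF →* ℂˣ} (hlam : lam ≠ 1) :
    Cfsg.IsIrrCharacter (Cfsg.Sz F m) (yChar hm hF lam) := by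
  obtain ⟨h1, h2, h3, h4, h5, h6⟩ := Kc_ne hm hF
  have hk : (2 : ℤ) ≤ KK := by exact_mod_cast k_two_le hm
  refine deg_pos hm hF ((QQ - 1) * (QQ - 2 * KK + 1)) (mul_pos (by nlinarith) (by nlinarith))
    (by rw [yChar_one hm hF]; push_cast; ring) (isGeneralized_norm_one
    (isGeneralized_sub (isGen_y0 hm hF) (isGeneralized_indFun _ (linear_gen hm hF lam))) ?_)
  have key := classInner_family hm hF (isCell_torP hm hF) hlam (card_normalizer_torP hm hF)
    (d := (QQ - 1) * (QQ - 2 * KK + 1) * (QQ ^ 2 + 1)) (z := 2 * KK - 1) (w := -1)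
    (a := 0) (b := 0) (c := 0)
    (fun g hg hg1 => by rw [tv_torP hm hF _ _ _ _ _ _ hg hg1, Int.cast_zero])
    (s := -1) (by ring) (by simp)
  simp only [neg_one_mul, ← sub_eq_add_neg] at key
  refine (Eq.trans ?_ key).trans ?_
  · rfl
  rw [classInner_tv_tv hm hF, card_torP_cast hm hF, (index_cast hm hF).2.1]
  push_cast
  generalize ((2 : ℂ) ^ m) = K at *
  obtain ⟨n4, n5, n6⟩ := nf_ne h4 h5 h6
  field_simp
  ring

theorem isIrr_z {lam : torM hm hF →* ℂˣ} (hlam : lam ≠ 1) :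
    Cfsg.IsIrrCharacter (Cfsg.Sz F m) (zChar hm hF lam) := by
  obtain ⟨h1, h2, h3, h4, h5, h6⟩ := Kc_ne hm hF
  have hk : (2 : ℤ) ≤ KK := by exact_mod_cast k_two_le hm
  refine deg_pos hm hF ((QQ - 1) * (QQ + 2 * KK + 1)) (mul_pos (by nlinarith) (by nlinarith))
    (by rw [zChar_one hm hF]; push_cast; ring) (isGeneralized_norm_one
    (isGeneralized_sub (isGen_z0 hm hF) (isGeneralized_indFun _ (linear_gen hm hF lam))) ?_)
  have key := classInner_family hm hF (isCell_torM hm hF) hlam (card_normalizer_torM hm hF)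
    (d := (QQ - 1) * (QQ + 2 * KK + 1) * (QQ ^ 2 + 1)) (z := -(2 * KK) - 1) (w := -1)
    (a := 0) (b := 0) (c := 0)
    (fun g hg hg1 => by rw [tv_torM hm hF _ _ _ _ _ _ hg hg1, Int.cast_zero])
    (s := -1) (by ring) (by simp)
  simp only [neg_one_mul, ← sub_eq_add_neg] at key
  refine (Eq.trans ?_ key).trans ?_
  · rfl
  rw [classInner_tv_tv hm hF, card_torM_cast hm hF, (index_cast hm hF).2.2]
  push_cast
  generalize ((2 : ℂ) ^ m) = K at *
  obtain ⟨n4, n5, n6⟩ := nf_ne h4 h5 h6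
  field_simp
  ring

omit [Fintype (Cfsg.Sz F m)] in
/-- The non-trivial central elements of `U` are conjugate. -/
theorem zSub_isConj {g g' : Cfsg.Sz F m} (hg : g ∈ zSub (thSq_of_card hF)) (hg1 : g ≠ 1)
    (hg' : g' ∈ zSub (thSq_of_card hF)) (hg1' : g' ≠ 1) : IsConj g g' := by
  obtain ⟨b, rfl⟩ := hg
  obtain ⟨b', rfl⟩ := hg'
  have hb : b ≠ 0 := fun e => hg1 (by rw [e, tG_zero])
  have hb' : b' ≠ 0 := fun e => hg1' (by rw [e, tG_zero])
  obtain ⟨s, hs⟩ := SzDeg.torus_surjective (thSq_of_card hF) (div_ne_zero hb' hb)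
  refine isConj_iff.2 ⟨hG (thSq_of_card hF) s, ?_⟩
  rw [hG_conj, mul_zero, hs, div_mul_cancel₀ _ hb]

/-- A consequence of orthogonality to a family. -/
theorem family_orth {A : Subgroup (Cfsg.Sz F m)} (hA : IsCell (thSq_of_card hF) A)
    {χ : Cfsg.Sz F m → ℂ} (hχ : Cfsg.IsIrrCharacter (Cfsg.Sz F m) χ) {s : ℤ} (hs : s * s = 1)
    {f : Cfsg.Sz F m → ℂ} (hf : Cfsg.IsGeneralizedCharacter (Cfsg.Sz F m) f)
    (horth : ∀ lam : A →* ℂˣ, lam ≠ 1 →
      Cfsg.classInner (fun g => f g + (s : ℂ) * indLin A lam g) χ = 0) :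
    ∃ v : ℤ, (∀ a ∈ A, a ≠ 1 → χ a = v) ∧
      Cfsg.classInner f χ = -(s : ℂ) * (χ 1 - v) / (Nat.card A : ℂ) := by
  classical
  obtain ⟨t, ht⟩ := classInner_isGeneralized_int hf (isGeneralized_of_isCharacter (irr_isCharacter hχ))
  obtain ⟨D, hD⟩ := char_apply_one_eq_nat (irr_isCharacter hχ)
  have hT : ∀ lam : A →* ℂˣ, lam ≠ 1 →
      Cfsg.classInner (fun a : A => χ a) (fun a : A => (lam a : ℂ)) = ((-(s * t) : ℤ) : ℂ) := by
    intro lam hlam
    have h := horth lam hlam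
    rw [show (fun g => f g + (s : ℂ) * indLin A lam g) = f + (s : ℂ) • indLin A lam from rfl,
      classInner_add_left, classInner_smul_left, indLin,
      frobenius_reciprocity A _ χ (irr_isClassFunction hχ), ht] at h
    have hs' : (s : ℂ) * s = 1 := by exact_mod_cast hs
    rw [← classInner_conj_symm,
      show Cfsg.classInner (fun a : A => (lam a : ℂ)) (fun a : A => χ a) = -((s : ℂ) * t) by
        linear_combination (s : ℂ) * h -
          Cfsg.classInner (fun a : A => (lam a : ℂ)) (fun a : A => χ a) * hs']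
    push_cast
    simp
  refine ⟨(D : ℤ) - -(s * t) * (Nat.card A : ℤ), fun a ha ha1 => ?_, ?_⟩
  · rw [const_of_orth (cell_comm hm hF hA) hχ hT a ha ha1, hD]
    push_cast
    ring
  · have hA0 : (Nat.card A : ℂ) ≠ 0 := natCard_ne_zero
    have hs' : (s : ℂ) * s = 1 := by exact_mod_cast hs
    rw [ht, hD]
    push_cast
    field_simp
    linear_combination (-(t : ℂ) * (Nat.card A : ℂ)) * hs'

/-- The classification of the irreducible characters of `Sz(q)`. -/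
theorem irr_cases {χ : Cfsg.Sz F m → ℂ} (hχ : Cfsg.IsIrrCharacter (Cfsg.Sz F m) χ) :
    χ = (fun _ => 1) ∨ χ = stChar hF ∨
      (∃ lam, lam ≠ 1 ∧ χ = xChar hF lam) ∨ (∃ lam, lam ≠ 1 ∧ χ = yChar hm hF lam) ∨
      (∃ lam, lam ≠ 1 ∧ χ = zChar hm hF lam) ∨
      (IsW hm hF χ ∧ Cfsg.classInner (wSum hF) χ = 1) := by
  classical
  by_contra hcon
  simp only [not_or] at hcon
  obtain ⟨n1, n2, n3, n4, n5, n6⟩ := hcon
  apply n6
  clear n6
  obtain ⟨k1, k2, k3, k4, k5, k6⟩ := Kc_ne hm hF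
  have := Fintype.ofFinite (Cfsg.IrrCharacter (Cfsg.Sz F m))
  have hcl := irr_isClassFunction hχ
  have orth : ∀ ψ, Cfsg.IsIrrCharacter (Cfsg.Sz F m) ψ → χ ≠ ψ → Cfsg.classInner ψ χ = 0 :=
    fun ψ hψ h => irr_classInner_ne hψ hχ h.symm
  obtain ⟨aH, hH, eH⟩ := family_orth hm hF (isCell_hSub hm hF) hχ (s := 1) (one_mul 1)
    (isGen_x0 hm hF) fun lam hlam => by
      push_cast
      simp only [one_mul]
      exact orth _ (isIrr_x hm hF hlam) fun e => n3 ⟨lam, hlam, e⟩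
  obtain ⟨aP, hP, eP⟩ := family_orth hm hF (isCell_torP hm hF) hχ (s := -1) (by norm_num)
    (isGen_y0 hm hF) fun lam hlam => by
      push_cast
      simp only [neg_one_mul, ← sub_eq_add_neg]
      exact orth _ (isIrr_y hm hF hlam) fun e => n4 ⟨lam, hlam, e⟩
  obtain ⟨aM, hM, eM⟩ := family_orth hm hF (isCell_torM hm hF) hχ (s := -1) (by norm_num)
    (isGen_z0 hm hF) fun lam hlam => by
      push_cast
      simp only [neg_one_mul, ← sub_eq_add_neg]
      exact orth _ (isIrr_z hm hF hlam) fun e => n5 ⟨lam, hlam, e⟩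
  have e1 := orth _ isIrrCharacter_one n1
  have eS := orth _ (isIrr_st hm hF) n2
  have hone : (fun _ : Cfsg.Sz F m => (1 : ℂ)) = tv hF 1 1 1 1 1 1 := by
    funext g
    unfold tv
    split_ifs <;> simp
  rw [hone] at e1
  obtain ⟨D, hD⟩ := char_apply_one_eq_nat (irr_isCharacter hχ)
  have sums : sumPunct (hSub (thSq_of_card hF)) (fun g => conj (χ g)) = (Qc - 2) * aH ∧
      sumPunct (torP hm hF) (fun g => conj (χ g)) = (Qc + 2 * Kc) * aP ∧
      sumPunct (torM hm hF) (fun g => conj (χ g)) = (Qc - 2 * Kc) * aM := by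
    refine ⟨?_, ?_, ?_⟩
    · rw [sumPunct_congr (g := fun _ => (aH : ℂ)) (fun g hg hg1 => by
        rw [hH g hg hg1, map_intCast]), sumPunct_const, card_hSub_cast hm hF]
      ring
    · rw [sumPunct_congr (g := fun _ => (aP : ℂ)) (fun g hg hg1 => by
        rw [hP g hg hg1, map_intCast]), sumPunct_const, card_torP_cast hm hF]
      ring
    · rw [sumPunct_congr (g := fun _ => (aM : ℂ)) (fun g hg hg1 => by
        rw [hM g hg hg1, map_intCast]), sumPunct_const, card_torM_cast hm hF]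
      ring
  obtain ⟨sH, sP, sM⟩ := sums
  simp only [stChar, classInner_tv hm hF _ _ _ _ _ _ hcl, card_G_cast hm hF, sH, sP, sM, hD,
    map_natCast, card_hSub_cast hm hF, card_torP_cast hm hF, card_torM_cast hm hF]
    at e1 eS eH eP eM
  generalize hSU : sumPunct (uSub (thSq_of_card hF)) (fun g => conj (χ g)) = SU at e1 eS eH eP eM
  generalize hSZ : sumPunct (zSub (thSq_of_card hF)) (fun g => conj (χ g)) = SZ at e1 eS eH eP eM
  push_cast at e1 eS eH eP eM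
  obtain ⟨t, ht, ht1⟩ : ∃ t ∈ zSub (thSq_of_card hF), t ≠ 1 :=
    ⟨tG (thSq_of_card hF) 0 1, ⟨1, rfl⟩, fun e => one_ne_zero ((tG_eq_one _).1 e).2⟩
  have hz : ∀ g ∈ zSub (thSq_of_card hF), g ≠ 1 → χ g = χ t := fun g hg hg1 =>
    isClassFunction_isConj hcl (zSub_isConj hm hF hg hg1 ht ht1)
  have hSZ' : SZ = (Qc - 1) * conj (χ t) := by
    rw [← hSZ, sumPunct_congr (g := fun _ => conj (χ t)) (fun g hg hg1 => by rw [hz g hg hg1]),
      sumPunct_const, card_zSub_cast hm hF]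
  obtain ⟨haH, haM, hDv, hZv⟩ := solve_lin (D := (D : ℂ)) (SU := SU) (SZ := SZ)
    (aH := (aH : ℂ)) (aP := (aP : ℂ)) (aM := (aM : ℂ)) k1 k2 k3 k4 k5 k6 (by linear_combination e1)
    (by linear_combination eS) (by linear_combination eH) (by linear_combination eP)
    (by linear_combination eM)
  have haH' : aH = 0 := by exact_mod_cast haH
  have haM' : aM = -aP := by exact_mod_cast haM
  have hw : Cfsg.classInner (wSum hF) χ = (aP : ℂ) := by
    rw [wSum, classInner_tv hm hF _ _ _ _ _ _ hcl, card_G_cast hm hF, sH, sP, sM, hD, hSZ, hSU,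
      hDv, hZv, haH', haM', map_mul, map_mul, map_sub, map_intCast]
    simp only [map_mul, map_pow, map_ofNat, map_one]
    push_cast
    clear e1 eS eH eP eM hSZ' hDv hZv hD hz hSU hSZ
    generalize ((2 : ℂ) ^ m) = K at *
    obtain ⟨n4, n5, n6⟩ := nf_ne k4 k5 k6
    field_simp
    ring
  have hk : (2 : ℤ) ≤ KK := by exact_mod_cast k_two_le hm
  have haP : aP = 1 := by
    have hpos : 0 < D := by
      refine Nat.pos_of_ne_zero fun h => irr_apply_one_ne_zero hχ ?_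
      rw [hD, h, Nat.cast_zero]
    have h2 := classInner_eq_sum_mul (isClassFunction_tv hm hF (2 * KK * (QQ - 1)) (-(2 * KK))
      0 0 2 (-2)) (wSum hF)
    rw [← wSum, classInner_wSum hm hF] at h2
    choose c hc using fun ψ : Cfsg.IrrCharacter (Cfsg.Sz F m) =>
      classInner_isGeneralized_int (isGen_wSum hm hF) (isGeneralized_of_isCharacter
        (irr_isCharacter ψ.2))
    simp only [hc, map_intCast] at h2
    have h3 : (2 : ℤ) = ∑ ψ, c ψ * c ψ := by exact_mod_cast h2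
    have hcχ : c ⟨χ, hχ⟩ = aP := by exact_mod_cast (hc ⟨χ, hχ⟩).symm.trans hw
    have h4 := Finset.single_le_sum (fun ψ _ => mul_self_nonneg (c ψ))
      (Finset.mem_univ (⟨χ, hχ⟩ : Cfsg.IrrCharacter (Cfsg.Sz F m)))
    rw [← h3, hcχ] at h4
    have h5 : (D : ℤ) = aP * KK * (QQ - 1) := by exact_mod_cast hDv
    have h6 : 0 < KK * (QQ - 1) := mul_pos (by omega) (by nlinarith)
    have h7 : 0 < aP := by
      by_contra hle
      have : aP * (KK * (QQ - 1)) ≤ 0 := mul_nonpos_of_nonpos_of_nonneg (by omega) h6.le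
      rw [← mul_assoc] at this
      omega
    nlinarith
  subst haP haH'
  refine ⟨⟨?_, fun g hg hg1 => ?_, fun g hg hg1 => by rw [hH g hg hg1, Int.cast_zero],
    fun g hg hg1 => by rw [hP g hg hg1, Int.cast_one],
    fun g hg hg1 => by rw [hM g hg hg1, haM']; norm_num⟩, by rw [hw, Int.cast_one]⟩
  · rw [hD, hDv, Int.cast_one, one_mul]
  · rw [hz g hg hg1]
    have h8 : conj (χ t) = -Kc := mul_left_cancel₀ k3 (by
      rw [← hSZ', hZv, Int.cast_one]
      ring)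
    have h9 := congrArg conj h8
    rw [Complex.conj_conj] at h9
    rw [h9, map_neg, map_pow, map_ofNat]

end CfsgLib.KnownB.SzCh
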