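import Cfsg.Agent.Lib.Suzuki.Count
import Cfsg.Agent.Lib.Char.Induce

/-!
# The element types of `Sz(q)` and sums of class functions over them

Every element is trivial, or conjugate into `U`, or conjugate into one of three cyclic cells
(of orders `q - 1`, `q + r + 1`, `q - r + 1`), and exactly one of these holds.
-/

set_option autoImplicit false
set_option linter.unusedSectionVars false

namespace CfsgLib.KnownB.SzCh

open CfsgLib.Suzuki
open scoped Pointwise

section Generic

variable {G : Type*} [Group G]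

/-- Sum over the non-identity elements of a subgroup. -/
noncomputable def sumPunct [Fintype G] (A : Subgroup G) (f : G → ℂ) : ℂ :=
  open scoped _root_.Classical in ∑ a : A, if a = 1 then 0 else f a

theorem conjUnion_conj {A : Subgroup G} {g : G} (hg : g ∈ conjUnion A) (x : G) :
    x * g * x⁻¹ ∈ conjUnion A := by
  obtain ⟨hg1, y, hy⟩ := hg
  exact ⟨fun e => hg1 (conj_eq_one_iff.1 e), y * x⁻¹, by simpa [mul_assoc] using hy⟩

theorem conjUnion_conj_iff {A : Subgroup G} (g x : G) :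
    x * g * x⁻¹ ∈ conjUnion A ↔ g ∈ conjUnion A :=
  ⟨fun h => by simpa [mul_assoc] using conjUnion_conj h x⁻¹, fun h => conjUnion_conj h x⟩

/-- The sum of a class function over the conjugates of a TI-subgroup. -/
theorem sum_conjUnion [Fintype G] {A : Subgroup G}
    (hTI : ∀ x a, a ∈ A → a ≠ 1 → x * a * x⁻¹ ∈ A → x ∈ Subgroup.normalizer (A : Set G))
    {f : G → ℂ} (hf : Cfsg.IsClassFunction G f) :
    open scoped _root_.Classical in
    (Nat.card (Subgroup.normalizer (A : Set G)) : ℂ) *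
        (∑ g : G, if g ∈ conjUnion A then f g else 0) =
      (Nat.card G : ℂ) * sumPunct A f := by
  classical
  set N := Subgroup.normalizer (A : Set G)
  have h1 : (Nat.card G : ℂ) * sumPunct A f =
      ∑ x : G, ∑ g : G, if g ≠ 1 ∧ x⁻¹ * g * x ∈ A then f g else 0 := by
    rw [Nat.card_eq_fintype_card, ← nsmul_eq_mul, ← Finset.card_univ, ← Finset.sum_const]
    refine Finset.sum_congr rfl fun x _ => ?_
    have e : ∀ g : G, (if g ≠ 1 ∧ x⁻¹ * g * x ∈ A then f g else 0) =
        (fun a : G => if a ∈ A then (if a = 1 then 0 else f a) else 0) (x⁻¹ * g * x) := by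
      intro g
      have hfg : f (x⁻¹ * g * x) = f g := by simpa using hf g x⁻¹
      have h1 : x⁻¹ * g * x = 1 ↔ g = 1 := by
        simpa using conj_eq_one_iff (a := x⁻¹) (b := g)
      by_cases hA : x⁻¹ * g * x ∈ A <;> by_cases hg : g = 1 <;> simp [hA, hg, h1, hfg]
    rw [Finset.sum_congr rfl fun g _ => e g]
    have e2 : ∑ g : G, (fun a : G => if a ∈ A then (if a = 1 then 0 else f a) else 0) (x⁻¹ * g * x) =
        ∑ a : G, if a ∈ A then (if a = 1 then 0 else f a) else 0 :=
      Fintype.sum_equiv (MulAut.conj x⁻¹).toEquiv _ _ fun g => by simp [mul_assoc]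
    rw [e2, ← Finset.sum_filter, Finset.sum_subtype (Finset.univ.filter fun a : G => a ∈ A)
      (p := fun a => a ∈ A) (by simp)]
    unfold sumPunct
    exact Finset.sum_congr rfl fun a _ => by
      by_cases ha : a = 1
      · simp [ha]
      · rw [if_neg ha, if_neg (fun e : (a : G) = 1 => ha (Subtype.ext e))]
  rw [h1, Finset.sum_comm, Finset.mul_sum]
  refine Finset.sum_congr rfl fun g _ => ?_
  by_cases hg : g ∈ conjUnion A
  · obtain ⟨hg1, y, hy⟩ := hg
    rw [if_pos ⟨hg1, y, hy⟩, ← Finset.sum_filter, Finset.sum_const, nsmul_eq_mul]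
    congr 1
    norm_cast
    rw [Nat.card_eq_fintype_card, Fintype.card_subtype]
    refine Finset.card_equiv (Equiv.mulLeft y⁻¹) fun x => ?_
    simp only [Finset.mem_filter, Finset.mem_univ, true_and, Equiv.coe_mulLeft, ne_eq, hg1,
      not_false_iff]
    have hy1 : y * g * y⁻¹ ≠ 1 := fun e => hg1 (conj_eq_one_iff.1 e)
    constructor
    · intro hx
      have := (Subgroup.mem_normalizer_iff.1 (inv_mem hx) (y * g * y⁻¹)).1 hy
      simpa [mul_assoc] using this
    · intro hx
      have := hTI x⁻¹ (y * g * y⁻¹) hy hy1 (by simpa [mul_assoc] using hx)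
      simpa using inv_mem this
  · rw [if_neg hg, mul_zero]
    refine (Finset.sum_eq_zero fun x _ => ?_).symm
    rw [if_neg]
    exact fun h => hg ⟨h.1, x⁻¹, by simpa using h.2⟩

end Generic

variable {F : Type*} [Field F] [CharP F 2] [Fintype F] {m : ℕ}

theorem card_eq_two_sq (hF : Fintype.card F = 2 ^ (2 * m + 1)) :
    Fintype.card F = 2 * (2 ^ m) ^ 2 := by
  rw [hF, ← pow_mul, ← pow_succ']
  congr 1
  omega

theorem k_two_le (hm : 1 ≤ m) : 2 ≤ 2 ^ m := Nat.le_self_pow (by omega) 2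

theorem cards_distinct (hm : 1 ≤ m) :
    2 * (2 ^ m) ^ 2 + 2 * 2 ^ m + 1 ≠ 2 * (2 ^ m) ^ 2 - 1 ∧
    2 * (2 ^ m) ^ 2 - 2 * 2 ^ m + 1 ≠ 2 * (2 ^ m) ^ 2 - 1 ∧
    2 * (2 ^ m) ^ 2 + 2 * 2 ^ m + 1 ≠ 2 * (2 ^ m) ^ 2 - 2 * 2 ^ m + 1 := by
  have := k_two_le hm
  have : 2 * 2 ^ m ≤ (2 ^ m) ^ 2 := by rw [pow_two]; gcongr
  omega

variable (hm : 1 ≤ m) (hF : Fintype.card F = 2 ^ (2 * m + 1))
include hm hF

theorem card_G_cast : (Nat.card (Cfsg.Sz F m) : ℂ) =
    (2 * (2 ^ m : ℂ) ^ 2) ^ 2 * (2 * (2 ^ m : ℂ) ^ 2 - 1) * ((2 * (2 ^ m : ℂ) ^ 2) ^ 2 + 1) := by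
  rw [card_sz hm hF, Nat.cast_mul, Nat.cast_mul, Nat.cast_pow, Nat.cast_sub Fintype.card_pos,
    card_eq_two_sq hF]
  push_cast
  ring

/-- The torus of order `q + r + 1`. -/
noncomputable def torP : Subgroup (Cfsg.Sz F m) :=
  (exists_torus_of_card hm hF (k := 2 ^ (2 * m + 1) + 2 ^ (m + 1) + 1) (Or.inl rfl)).choose

/-- The torus of order `q - r + 1`. -/
noncomputable def torM : Subgroup (Cfsg.Sz F m) :=
  (exists_torus_of_card hm hF (k := 2 ^ (2 * m + 1) - 2 ^ (m + 1) + 1) (Or.inr rfl)).choose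

theorem isTorus_torP : IsTorus (torP hm hF) :=
  (exists_torus_of_card hm hF (k := 2 ^ (2 * m + 1) + 2 ^ (m + 1) + 1) (Or.inl rfl)).choose_spec.1

theorem isTorus_torM : IsTorus (torM hm hF) :=
  (exists_torus_of_card hm hF (k := 2 ^ (2 * m + 1) - 2 ^ (m + 1) + 1) (Or.inr rfl)).choose_spec.1

theorem card_torP : Nat.card (torP hm hF) = 2 * (2 ^ m) ^ 2 + 2 * 2 ^ m + 1 := by
  have h := (exists_torus_of_card hm hF (k := 2 ^ (2 * m + 1) + 2 ^ (m + 1) + 1)
    (Or.inl rfl)).choose_spec.2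
  exact h.trans (by rw [← hF, card_eq_two_sq hF, pow_succ' 2 m])

theorem card_torM : Nat.card (torM hm hF) = 2 * (2 ^ m) ^ 2 - 2 * 2 ^ m + 1 := by
  have h := (exists_torus_of_card hm hF (k := 2 ^ (2 * m + 1) - 2 ^ (m + 1) + 1)
    (Or.inr rfl)).choose_spec.2
  exact h.trans (by rw [← hF, card_eq_two_sq hF, pow_succ' 2 m])

theorem card_hSub' : Nat.card (hSub (thSq_of_card hF)) = 2 * (2 ^ m) ^ 2 - 1 := by
  rw [card_hSub, card_eq_two_sq hF]

theorem isCell_hSub : IsCell (thSq_of_card hF) (hSub (thSq_of_card hF)) :=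
  Or.inl ⟨1, by ext; simp⟩

theorem isCell_torP : IsCell (thSq_of_card hF) (torP hm hF) := Or.inr (isTorus_torP hm hF)

theorem isCell_torM : IsCell (thSq_of_card hF) (torM hm hF) := Or.inr (isTorus_torM hm hF)

/-- Cells of equal order are conjugate. -/
theorem cell_conj {A B : Subgroup (Cfsg.Sz F m)} (hA : IsCell (thSq_of_card hF) A)
    (hB : IsCell (thSq_of_card hF) B) (he : Nat.card A = Nat.card B) :
    ∃ x : Cfsg.Sz F m, B = A.map (MulAut.conj x).toMonoidHom := by
  have hd := cards_distinct hm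
  have hne : ∀ T : Subgroup (Cfsg.Sz F m), IsTorus T → Nat.card T ≠ 2 * (2 ^ m) ^ 2 - 1 := by
    intro T hT h
    have h' := (hT.card_mem hm hF).1
    rw [← hF, card_eq_two_sq hF, pow_succ' 2 m] at h'
    omega
  have hmap : ∀ (T : Subgroup (Cfsg.Sz F m)) (x y : Cfsg.Sz F m),
      T.map (MulAut.conj y).toMonoidHom =
        (T.map (MulAut.conj x).toMonoidHom).map (MulAut.conj (y * x⁻¹)).toMonoidHom := by
    intro T x y
    rw [Subgroup.map_map]
    congr 1
    ext g
    simp [mul_assoc]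
  rcases hA with ⟨x, rfl⟩ | hA <;> rcases hB with ⟨y, rfl⟩ | hB
  · exact ⟨y * x⁻¹, hmap _ x y⟩
  · refine absurd ?_ (hne B hB)
    rw [← he, IsHConj.card (h := thSq_of_card hF) ⟨x, rfl⟩, card_eq_two_sq hF]
  · refine absurd ?_ (hne A hA)
    rw [he, IsHConj.card (h := thSq_of_card hF) ⟨y, rfl⟩, card_eq_two_sq hF]
  · obtain ⟨A₀, B₀, -, -, hprod, hsum, -, -, hall⟩ := exists_two_tori hm hF
    have hAB : Nat.card A₀ ≠ Nat.card B₀ := by
      intro e
      rw [← e] at hprod hsum
      have h1 : Nat.card A₀ = Fintype.card F + 1 := by omega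
      rw [h1] at hprod
      have h2 : 0 < Fintype.card F := Fintype.card_pos
      nlinarith
    obtain ⟨x, hx⟩ := hall A hA
    obtain ⟨y, hy⟩ := hall B hB
    rcases hx with rfl | rfl <;> rcases hy with rfl | rfl
    · exact ⟨y * x⁻¹, hmap _ x y⟩
    · rw [Subgroup.card_map_of_injective (MulAut.conj x).injective,
        Subgroup.card_map_of_injective (MulAut.conj y).injective] at he
      exact absurd he hAB
    · rw [Subgroup.card_map_of_injective (MulAut.conj x).injective,
        Subgroup.card_map_of_injective (MulAut.conj y).injective] at he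
      exact absurd he.symm hAB
    · exact ⟨y * x⁻¹, hmap _ x y⟩

/-- A cell meets the conjugates of a cell only when the orders agree. -/
theorem card_eq_of_mem_conjUnion {A : Subgroup (Cfsg.Sz F m)}
    (hA : IsCell (thSq_of_card hF) A) {g : Cfsg.Sz F m} (hg : g ∈ conjUnion A) :
    Nat.card (Subgroup.centralizer ({g} : Set (Cfsg.Sz F m))) = Nat.card A := by
  obtain ⟨hg1, x, hx⟩ := hg
  have h1 := hA.centralizer_eq hm hF hx fun e => hg1 (conj_eq_one_iff.1 e)
  rw [centralizer_conj] at h1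
  rw [← h1, Subgroup.card_map_of_injective (MulAut.conj x).injective]

theorem not_mem_u_of_cell {A : Subgroup (Cfsg.Sz F m)}
    (hA : IsCell (thSq_of_card hF) A) {g : Cfsg.Sz F m} (hg : g ∈ conjUnion A) :
    g ∉ conjUnion (uSub (thSq_of_card hF)) := by
  obtain ⟨hg1, x, hx⟩ := hg
  rintro ⟨-, y, hy⟩
  exact hA.not_two_element hm hF hx (fun e => hg1 (conj_eq_one_iff.1 e)) (y * x⁻¹)
    (by simpa [mul_assoc] using hy)

/-- Every non-trivial element is conjugate into `U` or into one of the three cells. -/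
theorem type_cases (g : Cfsg.Sz F m) (hg : g ≠ 1) :
    g ∈ conjUnion (uSub (thSq_of_card hF)) ∨ g ∈ conjUnion (hSub (thSq_of_card hF)) ∨
      g ∈ conjUnion (torP hm hF) ∨ g ∈ conjUnion (torM hm hF) := by
  rcases two_or_cell hm hF g with h | h
  · exact Or.inl ⟨hg, h⟩
  right
  set C := Subgroup.centralizer ({g} : Set (Cfsg.Sz F m))
  have hgC : g ∈ C := Subgroup.mem_centralizer_singleton_iff.2 rfl
  have key : ∀ R : Subgroup (Cfsg.Sz F m), IsCell (thSq_of_card hF) R →
      Nat.card C = Nat.card R → g ∈ conjUnion R := by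
    intro R hR he
    obtain ⟨x, hx⟩ := cell_conj hm hF h hR he
    exact ⟨hg, x, hx ▸ ⟨g, hgC, rfl⟩⟩
  have hmem := h.card_mem hm hF
  rw [← hF, card_eq_two_sq hF, pow_succ' 2 m] at hmem
  simp only [Set.mem_insert_iff, Set.mem_singleton_iff] at hmem
  rcases hmem with e | e | e
  · exact Or.inl (key _ (isCell_hSub hm hF) (e.trans (card_hSub' hm hF).symm))
  · exact Or.inr (Or.inl (key _ (isCell_torP hm hF) (e.trans (card_torP hm hF).symm)))
  · exact Or.inr (Or.inr (key _ (isCell_torM hm hF) (e.trans (card_torM hm hF).symm)))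

theorem ti_uSub (x a : Cfsg.Sz F m) (ha : a ∈ uSub (thSq_of_card hF)) (ha1 : a ≠ 1)
    (hxa : x * a * x⁻¹ ∈ uSub (thSq_of_card hF)) :
    x ∈ Subgroup.normalizer (uSub (thSq_of_card hF) : Set (Cfsg.Sz F m)) := by
  rw [normalizer_uSub hm hF]
  exact mem_bSub_of_conj ha ha1 (uSub_le_bSub _ hxa)

theorem ti_cell {A : Subgroup (Cfsg.Sz F m)} (hA : IsCell (thSq_of_card hF) A)
    (x a : Cfsg.Sz F m) (ha : a ∈ A) (ha1 : a ≠ 1) (hxa : x * a * x⁻¹ ∈ A) :
    x ∈ Subgroup.normalizer (A : Set (Cfsg.Sz F m)) :=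
  ti_of_centralizer (fun _ hc hc1 => hA.centralizer_eq hm hF hc hc1) x a ha ha1 hxa

theorem card_normalizer_torP :
    Nat.card (Subgroup.normalizer (torP hm hF : Set (Cfsg.Sz F m))) = 4 * Nat.card (torP hm hF) :=
  ((isTorus_torP hm hF).card_mem hm hF).2

theorem card_normalizer_torM :
    Nat.card (Subgroup.normalizer (torM hm hF : Set (Cfsg.Sz F m))) = 4 * Nat.card (torM hm hF) :=
  ((isTorus_torM hm hF).card_mem hm hF).2

theorem card_normalizer_hSub' :
    Nat.card (Subgroup.normalizer (hSub (thSq_of_card hF) : Set (Cfsg.Sz F m))) =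
      2 * Nat.card (hSub (thSq_of_card hF)) := by
  rw [card_normalizer_hSub hm hF, card_hSub]

section Sum

variable [Fintype (Cfsg.Sz F m)]

/-- The sum of a class function, type by type. -/
theorem sum_class_fun {f : Cfsg.Sz F m → ℂ} (hf : Cfsg.IsClassFunction (Cfsg.Sz F m) f) :
    (∑ g, f g) / (Nat.card (Cfsg.Sz F m) : ℂ) = f 1 / (Nat.card (Cfsg.Sz F m) : ℂ) +
      sumPunct (uSub (thSq_of_card hF)) f /
        ((2 * (2 ^ m : ℂ) ^ 2) ^ 2 * (2 * (2 ^ m : ℂ) ^ 2 - 1)) +
      sumPunct (hSub (thSq_of_card hF)) f / (2 * (2 * (2 ^ m : ℂ) ^ 2 - 1)) +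
      sumPunct (torP hm hF) f / (4 * (2 * (2 ^ m : ℂ) ^ 2 + 2 * 2 ^ m + 1)) +
      sumPunct (torM hm hF) f / (4 * (2 * (2 ^ m : ℂ) ^ 2 - 2 * 2 ^ m + 1)) := by
  classical
  have hd := cards_distinct hm
  have hP := fun {g : Cfsg.Sz F m} (hg : g ∈ conjUnion (torP hm hF)) =>
    (card_eq_of_mem_conjUnion hm hF (isCell_torP hm hF) hg).trans (card_torP hm hF)
  have hM := fun {g : Cfsg.Sz F m} (hg : g ∈ conjUnion (torM hm hF)) =>
    (card_eq_of_mem_conjUnion hm hF (isCell_torM hm hF) hg).trans (card_torM hm hF)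
  have hH := fun {g : Cfsg.Sz F m} (hg : g ∈ conjUnion (hSub (thSq_of_card hF))) =>
    (card_eq_of_mem_conjUnion hm hF (isCell_hSub hm hF) hg).trans (card_hSub' hm hF)
  have split : ∀ g, f g = (if g = 1 then f g else 0) +
      (if g ∈ conjUnion (uSub (thSq_of_card hF)) then f g else 0) +
      (if g ∈ conjUnion (hSub (thSq_of_card hF)) then f g else 0) +
      (if g ∈ conjUnion (torP hm hF) then f g else 0) +
      (if g ∈ conjUnion (torM hm hF) then f g else 0) := by
    intro g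
    by_cases hg : g = 1
    · subst hg
      rw [if_pos rfl, if_neg (fun h => h.1 rfl), if_neg (fun h => h.1 rfl),
        if_neg (fun h => h.1 rfl), if_neg (fun h => h.1 rfl)]
      ring
    rw [if_neg hg]
    rcases type_cases hm hF g hg with h | h | h | h
    · rw [if_pos h, if_neg (fun h' => not_mem_u_of_cell hm hF (isCell_hSub hm hF) h' h),
        if_neg (fun h' => not_mem_u_of_cell hm hF (isCell_torP hm hF) h' h),
        if_neg (fun h' => not_mem_u_of_cell hm hF (isCell_torM hm hF) h' h)]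
      ring
    · rw [if_pos h, if_neg (not_mem_u_of_cell hm hF (isCell_hSub hm hF) h),
        if_neg (fun h' => hd.1 ((hP h').symm.trans (hH h))),
        if_neg (fun h' => hd.2.1 ((hM h').symm.trans (hH h)))]
      ring
    · rw [if_pos h, if_neg (not_mem_u_of_cell hm hF (isCell_torP hm hF) h),
        if_neg (fun h' => hd.1 ((hP h).symm.trans (hH h'))),
        if_neg (fun h' => hd.2.2 ((hP h).symm.trans (hM h')))]
      ring
    · rw [if_pos h, if_neg (not_mem_u_of_cell hm hF (isCell_torM hm hF) h),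
        if_neg (fun h' => hd.2.1 ((hM h).symm.trans (hH h'))),
        if_neg (fun h' => hd.2.2 ((hP h').symm.trans (hM h)))]
      ring
  have hG : (Nat.card (Cfsg.Sz F m) : ℂ) ≠ 0 := by exact_mod_cast Nat.card_pos.ne'
  have part : ∀ {A : Subgroup (Cfsg.Sz F m)} (c : ℂ),
      (∀ x a, a ∈ A → a ≠ 1 → x * a * x⁻¹ ∈ A →
        x ∈ Subgroup.normalizer (A : Set (Cfsg.Sz F m))) →
      (Nat.card (Subgroup.normalizer (A : Set (Cfsg.Sz F m))) : ℂ) = c →
      (∑ g, if g ∈ conjUnion A then f g else 0) / (Nat.card (Cfsg.Sz F m) : ℂ) =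
        sumPunct A f / c := by
    intro A c hTI hc
    have h := sum_conjUnion hTI hf
    have hc0 : c ≠ 0 := by
      rw [← hc]
      exact_mod_cast Nat.card_pos.ne'
    rw [hc] at h
    rw [div_eq_div_iff hG hc0]
    linear_combination h
  rw [Finset.sum_congr rfl fun g _ => split g]
  simp only [Finset.sum_add_distrib, add_div, Finset.sum_ite_eq', Finset.mem_univ, if_true]
  have h1 : 2 * 2 ^ m ≤ 2 * (2 ^ m) ^ 2 := Nat.mul_le_mul_left 2 (Nat.le_self_pow two_ne_zero _)
  rw [part ((2 * (2 ^ m : ℂ) ^ 2) ^ 2 * (2 * (2 ^ m : ℂ) ^ 2 - 1)) (ti_uSub hm hF) (by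
      rw [normalizer_uSub hm hF, card_bSub hm hF, card_eq_two_sq hF, Nat.cast_mul, Nat.cast_pow, Nat.cast_sub (Nat.one_le_iff_ne_zero.2 (by positivity))]
      push_cast
      ring),
    part (2 * (2 * (2 ^ m : ℂ) ^ 2 - 1)) (ti_cell hm hF (isCell_hSub hm hF)) (by
      rw [card_normalizer_hSub' hm hF, card_hSub' hm hF, Nat.cast_mul,
        Nat.cast_sub (Nat.one_le_iff_ne_zero.2 (by positivity))]
      push_cast
      ring),
    part (4 * (2 * (2 ^ m : ℂ) ^ 2 + 2 * 2 ^ m + 1)) (ti_cell hm hF (isCell_torP hm hF)) (by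
      rw [card_normalizer_torP hm hF, card_torP hm hF]
      push_cast
      ring),
    part (4 * (2 * (2 ^ m : ℂ) ^ 2 - 2 * 2 ^ m + 1)) (ti_cell hm hF (isCell_torM hm hF)) (by
      rw [card_normalizer_torM hm hF, card_torM hm hF, Nat.cast_mul, Nat.cast_add,
        Nat.cast_sub h1]
      push_cast
      ring)]

end Sum

theorem mem_zSub_of_conj {u x : Cfsg.Sz F m} (hu : u ∈ uSub (thSq_of_card hF))
    (hx : x * u * x⁻¹ ∈ zSub (thSq_of_card hF)) : u ∈ zSub (thSq_of_card hF) := by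
  refine mem_zSub_of_sq hu ?_
  obtain ⟨b, hb⟩ := hx
  have e : x * (u * u) * x⁻¹ = 1 := by
    rw [show x * (u * u) * x⁻¹ = x * u * x⁻¹ * (x * u * x⁻¹) by group, hb, tG_sq, map_zero,
      zero_mul, tG_zero]
  exact conj_eq_one_iff.1 e

/-- The centraliser of a non-trivial central element of `U` is `U`. -/
theorem centralizer_zSub {z : Cfsg.Sz F m} (hz : z ∈ zSub (thSq_of_card hF)) (hz1 : z ≠ 1) :
    Subgroup.centralizer ({z} : Set (Cfsg.Sz F m)) = uSub (thSq_of_card hF) := by
  refine le_antisymm (centralizer_le_uSub hm hF (zSub_le _ hz) hz1) fun u hu => ?_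
  obtain ⟨b, rfl⟩ := hz
  obtain ⟨c, d, rfl⟩ := hu
  rw [Subgroup.mem_centralizer_singleton_iff, tG_mul, tG_mul]
  simp [add_comm]

/-- The centraliser of an element of order four has order `2q`. -/
theorem card_centralizer_four {x : Cfsg.Sz F m} (hx : x ∈ uSub (thSq_of_card hF))
    (hxz : x ∉ zSub (thSq_of_card hF)) :
    Nat.card (Subgroup.centralizer ({x} : Set (Cfsg.Sz F m))) = 2 * Fintype.card F := by
  classical
  set h := thSq_of_card hF
  have hx1 : x ≠ 1 := fun e => hxz (e ▸ one_mem _)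
  obtain ⟨a, b, rfl⟩ := hx
  have ha : a ≠ 0 := fun e => hxz ⟨b, by rw [e]⟩
  have key : ∀ c d, tG h c d * tG h a b = tG h a b * tG h c d ↔ th m a * c = th m c * a := by
    intro c d
    rw [tG_mul, tG_mul]
    constructor
    · intro e
      have := (tG_inj h e).2
      linear_combination this + (th m a * c - th m c * a) * (CharTwo.two_eq_zero (R := F))
    · intro e
      congr 1
      · ring
      · linear_combination e + (th m c * a - th m a * c) * (CharTwo.two_eq_zero (R := F))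
  refine (Nat.card_eq_of_bijective (fun p : Bool × F =>
    (⟨tG h (if p.1 then a else 0) p.2, Subgroup.mem_centralizer_singleton_iff.2 ?_⟩ :
      Subgroup.centralizer ({tG h a b} : Set (Cfsg.Sz F m)))) ⟨?_, ?_⟩).symm.trans ?_
  · rw [key]
    rcases p.1 <;> simp
  · rintro ⟨i, c⟩ ⟨j, d⟩ e
    obtain ⟨e1, rfl⟩ := tG_inj h (congrArg Subtype.val e)
    cases i <;> cases j <;> simp_all
  · rintro ⟨g, hg⟩
    obtain ⟨c, d, rfl⟩ := centralizer_le_uSub hm hF ⟨a, b, rfl⟩ hx1 hg
    rw [Subgroup.mem_centralizer_singleton_iff, key] at hg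
    obtain ⟨t, rfl⟩ : ∃ t, c = t * a := ⟨c / a, by rw [div_mul_cancel₀ _ ha]⟩
    have ht : th m t = t := by
      rw [map_mul] at hg
      apply mul_right_cancel₀ (mul_ne_zero (by simpa using ha : th m a ≠ 0) ha)
      linear_combination -hg
    rcases th_eq_self h ht with rfl | rfl
    · exact ⟨(false, d), Subtype.ext (by simp)⟩
    · exact ⟨(true, d), Subtype.ext (by simp)⟩
  · rw [Nat.card_prod, Nat.card_eq_fintype_card, Nat.card_eq_fintype_card, Fintype.card_bool]

/-- An element of order four is not conjugate to its inverse. -/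
theorem not_isConj_inv {x : Cfsg.Sz F m} (hx : x ∈ uSub (thSq_of_card hF))
    (hxz : x ∉ zSub (thSq_of_card hF)) : ¬ IsConj x x⁻¹ := by
  set h := thSq_of_card hF
  have hx1 : x ≠ 1 := fun e => hxz (e ▸ one_mem _)
  obtain ⟨a, b, rfl⟩ := hx
  have ha : a ≠ 0 := fun e => hxz ⟨b, by rw [e]⟩
  intro hc
  obtain ⟨x, hx⟩ := isConj_iff.1 hc
  have hxB : x ∈ bSub F m := by
    refine mem_bSub_of_conj (h := h) ⟨a, b, rfl⟩ hx1 ?_
    rw [hx]
    exact inv_mem (tG_mem_bSub h a b)
  obtain ⟨c, d, s, rfl⟩ := exists_of_mem_bSub hm hF hxB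
  rw [_root_.mul_inv_rev, show tG h c d * hG h s * tG h a b * ((hG h s)⁻¹ * (tG h c d)⁻¹) =
    tG h c d * (hG h s * tG h a b * (hG h s)⁻¹) * (tG h c d)⁻¹ by group,
    hG_conj, tG_inv, tG_inv, tG_mul, tG_mul] at hx
  obtain ⟨e1, e2⟩ := tG_inj h hx
  have hs : (s : F) = 1 := by
    refine RingHom.injective (th m) ?_
    rw [map_one]
    apply mul_right_cancel₀ ha
    linear_combination e1 - c * (CharTwo.two_eq_zero (R := F))
  rw [hs] at e2
  simp only [map_add, map_mul, map_one, one_mul, one_pow] at e2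
  have hta : th m a ≠ 0 := by simpa using ha
  have e3 : th m c * a + th m a * c = th m a * a := by
    linear_combination e2 - (d + th m c * c) * (CharTwo.two_eq_zero (R := F))
  obtain ⟨z, rfl⟩ : ∃ z, c = z * a := ⟨c / a, by rw [div_mul_cancel₀ _ ha]⟩
  have e4 : th m z + z = 1 := by
    apply mul_right_cancel₀ (mul_ne_zero hta ha)
    rw [map_mul] at e3
    linear_combination e3
  have e5 := congrArg (th m) e4
  rw [map_add, h z, map_one] at e5
  rcases mul_eq_zero.1 (show z * (z - 1) = 0 by linear_combination e5 - e4) with h' | h'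
  · rw [h'] at e4; simp at e4
  · rw [sub_eq_zero.1 h', map_one, CharTwo.add_self_eq_zero] at e4
    exact zero_ne_one e4

end CfsgLib.KnownB.SzCh
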