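import Cfsg.Agent.Lib.Suzuki.Simple
import Mathlib.GroupTheory.Nilpotent
import Mathlib.RingTheory.IntegralDomain

/-!
# `Sz(q)` has no minimal cover by nilpotent subgroups

In a nilpotent cover each split torus lies in its own member, and all these members can be traded
for the `q² + 1` point stabilisers.
-/

set_option autoImplicit false
set_option linter.unusedSectionVars false

namespace CfsgLib.KnownB.SzCover

open CfsgLib.Suzuki Cfsg

universe u

variable {F : Type u} [Field F] [CharP F 2] [Fintype F] {m : ℕ}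

local notation "PF" => Projectivization F (Fin 4 → F)

/-- An element of a nilpotent group conjugated to its inverse has `2`-power order. -/
theorem pow_two_eq_one {A : Type*} [Group A] [Group.IsNilpotent A] {a x : A}
    (h : a * x * a⁻¹ = x⁻¹) : ∃ k : ℕ, x ^ 2 ^ k = 1 := by
  obtain ⟨k, hk⟩ := Subgroup.nilpotent_iff_lowerCentralSeries.mp (inferInstance : Group.IsNilpotent A)
  have key : ∀ i, x ^ 2 ^ i ∈ Subgroup.lowerCentralSeries ⊤ i := by
    intro i
    induction i with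
    | zero => exact Subgroup.mem_top _
    | succ i ih =>
      have hc : x ^ 2 ^ i * a * (x ^ 2 ^ i)⁻¹ * a⁻¹ = x ^ 2 ^ (i + 1) := by
        have e : a * (x ^ 2 ^ i)⁻¹ * a⁻¹ = x ^ 2 ^ i := by
          rw [← conj_inv, ← conj_pow, h, inv_pow, inv_inv]
        calc x ^ 2 ^ i * a * (x ^ 2 ^ i)⁻¹ * a⁻¹ = x ^ 2 ^ i * (a * (x ^ 2 ^ i)⁻¹ * a⁻¹) := by
              simp only [mul_assoc]
          _ = x ^ 2 ^ (i + 1) := by rw [e, ← pow_add, pow_succ, Nat.mul_two]
      rw [← hc, ← commutatorElement_def]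
      exact Subgroup.commutator_mem_commutator ih (Subgroup.mem_top a)
  have := key k
  rw [hk, Subgroup.mem_bot] at this
  exact ⟨k, this⟩

variable (hm : 1 ≤ m) (hF : Fintype.card F = 2 ^ (2 * m + 1))

include hm hF in
theorem exists_torus : ∃ x : Cfsg.Sz F m, x ≠ 1 ∧ Odd (orderOf x) ∧
    x • pInf F = pInf F ∧ x • pFin m (0 : F) 0 = pFin m 0 0 ∧
    ∀ g : Cfsg.Sz F m, g • pInf F = pFin m (0 : F) 0 → g • pFin m (0 : F) 0 = pInf F →
      g * x * g⁻¹ = x⁻¹ := by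
  have h := thSq_of_card hF
  obtain ⟨s, hs⟩ := exists_unit_ne_one hm hF
  refine ⟨hG h s, ?_, ?_, hSL_smul_inf s, ?_, fun g h1 h2 => ?_⟩
  · exact fun e => hs (hG_injective h (e.trans (map_one _).symm))
  · rw [orderOf_injective (hG h) (hG_injective h)]
    have hd : orderOf s ∣ Fintype.card F - 1 := by
      rw [← Nat.card_eq_fintype_card (α := F), ← Nat.card_units]
      exact orderOf_dvd_natCard s
    refine Odd.of_dvd_nat ?_ hd
    rw [hF, pow_succ]
    exact ⟨2 ^ (2 * m) - 1, by have := Nat.one_le_two_pow (n := 2 * m); omega⟩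
  · show hSL m s • pFin m (0 : F) 0 = _
    rw [hSL_smul h, mul_zero, mul_zero]
  · obtain ⟨t, ht⟩ := stab_two hm hF (wG h * g).2
      (by show (wG h * g) • pInf F = pInf F; rw [mul_smul, h1]; exact wSL_smul_zero)
      (by show (wG h * g) • pFin m (0 : F) 0 = _; rw [mul_smul, h2]; exact wSL_smul_inf)
    have hg : g = wG h * hG h t := by
      have e : wG h * g = hG h t := Subtype.ext ht
      rw [← e, ← mul_assoc, wG_sq, one_mul]
    have hc : hG h t * hG h s = hG h s * hG h t := by rw [← map_mul, ← map_mul, mul_comm]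
    have e2 : wG h * hG h t * hG h s * (wG h * hG h t)⁻¹ = wG h * hG h s * (wG h)⁻¹ := by
      rw [mul_inv_rev, mul_assoc (wG h) (hG h t), hc]
      simp only [mul_assoc, mul_inv_cancel_left]
    rw [hg, e2, ← map_inv]
    exact hG_w h s

include hm hF in
/-- A nilpotent subgroup containing the torus element fixes both of its fixed points. -/
theorem le_stab {A : Subgroup (Cfsg.Sz F m)} (hA : Group.IsNilpotent A) {x : Cfsg.Sz F m}
    (hxA : x ∈ A) (hx1 : x ≠ 1) (hodd : Odd (orderOf x)) {p q : PF}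
    (hp : p ∈ suzukiOvoid F m) (hq : q ∈ suzukiOvoid F m) (hpq : p ≠ q)
    (hxp : x • p = p) (hxq : x • q = q)
    (hinv : ∀ g : Cfsg.Sz F m, g • p = q → g • q = p → g * x * g⁻¹ = x⁻¹) :
    ∀ a ∈ A, a • p = p ∧ a • q = q := by
  have hfix : ∀ (y : Cfsg.Sz F m), y ≠ 1 → y • p = p → y • q = q →
      ∀ r ∈ suzukiOvoid F m, y • r = r → r = p ∨ r = q := by
    intro y hy h1 h2 r hr h3
    by_contra hc
    push Not at hc
    exact hy (three_fixed hm hF hp hq hr hpq (Ne.symm hc.2) (Ne.symm hc.1) h1 h2 h3)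
  have hperm : ∀ (y : Cfsg.Sz F m), y ≠ 1 → y • p = p → y • q = q → ∀ a : Cfsg.Sz F m,
      a * y = y * a → (a • p = p ∧ a • q = q) ∨ (a • p = q ∧ a • q = p) := by
    intro y hy h1 h2 a hay
    have e : ∀ r : PF, y • r = r → y • (a • r) = a • r := fun r hr => by
      rw [← mul_smul, ← hay, mul_smul, hr]
    have hne : a • p ≠ a • q := fun he => hpq (MulAction.injective a he)
    rcases hfix y hy h1 h2 _ (smul_mem_ovoid a.2 hp) (e p h1) with h3 | h3 <;>
      rcases hfix y hy h1 h2 _ (smul_mem_ovoid a.2 hq) (e q h2) with h4 | h4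
    · exact absurd (h3.trans h4.symm) hne
    · exact Or.inl ⟨h3, h4⟩
    · exact Or.inr ⟨h3, h4⟩
    · exact absurd (h3.trans h4.symm) hne
  have hno : ∀ a ∈ A, a * x * a⁻¹ ≠ x⁻¹ := by
    intro a ha he
    obtain ⟨k, hk⟩ := pow_two_eq_one (A := A) (a := ⟨a, ha⟩) (x := ⟨x, hxA⟩) (Subtype.ext he)
    have hk' : x ^ 2 ^ k = 1 := congrArg Subtype.val hk
    have hd := orderOf_dvd_of_pow_eq_one hk'
    obtain ⟨i, -, hi⟩ := (Nat.dvd_prime_pow Nat.prime_two).mp hd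
    rcases Nat.eq_zero_or_pos i with h0 | h0
    · rw [h0, pow_zero] at hi
      exact hx1 (orderOf_eq_one_iff.mp hi)
    · rw [hi] at hodd
      exact Nat.not_even_iff_odd.mpr hodd (Nat.even_pow.mpr ⟨even_two, h0.ne'⟩)
  have : Nontrivial A := ⟨⟨⟨x, hxA⟩, 1, fun e => hx1 (congrArg Subtype.val e)⟩⟩
  have : Nontrivial (Subgroup.center A) :=
    (Subgroup.nontrivial_iff_ne_bot _).mpr (Group.IsNilpotent.center_ne_bot (G := A))
  obtain ⟨⟨z, hz⟩, hz1⟩ := exists_ne (1 : Subgroup.center A)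
  have hz1' : (z : Cfsg.Sz F m) ≠ 1 := fun e => hz1 (Subtype.ext (Subtype.ext e))
  have hcomm : ∀ a ∈ A, a * (z : Cfsg.Sz F m) = z * a := fun a ha =>
    congrArg Subtype.val (Subgroup.mem_center_iff.mp hz ⟨a, ha⟩)
  have hzfix : (z : Cfsg.Sz F m) • p = p ∧ (z : Cfsg.Sz F m) • q = q := by
    rcases hperm x hx1 hxp hxq z (hcomm x hxA).symm with h | h
    · exact h
    · exact absurd (hinv _ h.1 h.2) (hno _ z.2)
  intro a ha
  rcases hperm z hz1' hzfix.1 hzfix.2 a (hcomm a ha) with h | h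
  · exact h
  · exact absurd (hinv _ h.1 h.2) (hno a ha)

include hm hF in
theorem no_cover (𝓐 : Finset (Subgroup (Cfsg.Sz F m)))
    (hcov : (∀ A ∈ 𝓐, A ≠ ⊤) ∧ ∀ g : Cfsg.Sz F m, ∃ A ∈ 𝓐, g ∈ A)
    (hnil : ∀ A ∈ 𝓐, Group.IsNilpotent A) :
    ∃ 𝓑 : Finset (Subgroup (Cfsg.Sz F m)),
      ((∀ A ∈ 𝓑, A ≠ ⊤) ∧ ∀ g : Cfsg.Sz F m, ∃ A ∈ 𝓑, g ∈ A) ∧ 𝓑.card < 𝓐.card := by
  classical
  obtain ⟨Ov, hOv⟩ : ∃ Ov : Finset PF, ∀ p, p ∈ Ov ↔ p ∈ suzukiOvoid F m :=
    ⟨(Set.toFinite (suzukiOvoid F m)).toFinset, fun p => Set.Finite.mem_toFinset _⟩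
  have hOvc : Ov.card = Fintype.card F ^ 2 + 1 := by
    rw [← Nat.card_eq_fintype_card, ← card_ovoid (F := F) (m := m),
      Set.ncard_eq_toFinset_card _ (Set.toFinite _)]
    congr 1
    ext p
    simp [hOv]
  let Bs : Finset (Subgroup (Cfsg.Sz F m)) :=
    Ov.image fun p => MulAction.stabilizer (Cfsg.Sz F m) p
  let In : Finset (Subgroup (Cfsg.Sz F m)) :=
    𝓐.filter fun A => ∃ p ∈ Ov, A ≤ MulAction.stabilizer (Cfsg.Sz F m) p
  obtain ⟨x, hx1, hxo, hxi, hx0, hxinv⟩ := exists_torus hm hF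
  let P := {pq : PF × PF // pq.1 ∈ Ov ∧ pq.2 ∈ Ov ∧ pq.1 ≠ pq.2}
  have hmem : ∀ pq : P, ∃ A ∈ In, ∃ y ∈ A, y ≠ 1 ∧ y • pq.1.1 = pq.1.1 ∧ y • pq.1.2 = pq.1.2 ∧
      ∀ a ∈ A, a • pq.1.1 = pq.1.1 ∧ a • pq.1.2 = pq.1.2 := by
    rintro ⟨⟨p, q⟩, hp, hq, hpq⟩
    obtain ⟨g, hgp, hgq⟩ := exists_sz_two_point hF ((hOv p).mp hp) ((hOv q).mp hq) hpq
    obtain ⟨A, hA, hyA⟩ := hcov.2 (g⁻¹ * x * g)
    have hp' : (g⁻¹ * x * g) • p = p := by rw [mul_smul, mul_smul, hgp, hxi, ← hgp, inv_smul_smul]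
    have hq' : (g⁻¹ * x * g) • q = q := by rw [mul_smul, mul_smul, hgq, hx0, ← hgq, inv_smul_smul]
    have hy1 : g⁻¹ * x * g ≠ 1 := fun e => hx1 (by
      rw [show x = g * (g⁻¹ * x * g) * g⁻¹ by group, e, mul_one, mul_inv_cancel])
    have hyo : Odd (orderOf (g⁻¹ * x * g)) := by
      have := MulEquiv.orderOf_eq (MulAut.conj g⁻¹) x
      rw [MulAut.conj_apply, inv_inv] at this
      rwa [this]
    have hle := le_stab hm hF (hnil A hA) hyA hy1 hyo ((hOv p).mp hp) ((hOv q).mp hq) hpq hp' hq'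
      (fun k h1 h2 => by
        have h' := hxinv (g * k * g⁻¹)
          (by rw [mul_smul, mul_smul, ← hgp, inv_smul_smul, h1, hgq])
          (by rw [mul_smul, mul_smul, ← hgq, inv_smul_smul, h2, hgp])
        calc k * (g⁻¹ * x * g) * k⁻¹ = g⁻¹ * ((g * k * g⁻¹) * x * (g * k * g⁻¹)⁻¹) * g := by group
          _ = (g⁻¹ * x * g)⁻¹ := by rw [h']; group)
    exact ⟨A, Finset.mem_filter.mpr ⟨hA, p, hp, fun a ha => (hle a ha).1⟩, _, hyA, hy1, hp', hq', hle⟩
  choose Φ hΦ y hyΦ hy1 hyp hyq hΦfix using hmem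
  have hpair : ∀ a b : P, Φ a = Φ b → (b.1.1 = a.1.1 ∨ b.1.1 = a.1.2) ∧
      (b.1.2 = a.1.1 ∨ b.1.2 = a.1.2) := by
    intro a b hab
    have h := hΦfix b (y a) (hab ▸ hyΦ a)
    have hf : ∀ r ∈ suzukiOvoid F m, y a • r = r → r = a.1.1 ∨ r = a.1.2 := by
      intro r hr h3
      by_contra hc
      push Not at hc
      exact hy1 a (three_fixed hm hF ((hOv _).mp a.2.1) ((hOv _).mp a.2.2.1) hr a.2.2.2
        (Ne.symm hc.2) (Ne.symm hc.1) (hyp a) (hyq a) h3)
    exact ⟨hf _ ((hOv _).mp b.2.1) h.1, hf _ ((hOv _).mp b.2.2.1) h.2⟩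
  have hfin : ∀ a b : F, pFin m a b ∈ Ov := fun a b =>
    (hOv _).mpr (mem_ovoid.mpr (Or.inr ⟨a, b, rfl⟩))
  have hinf : pInf F ∈ Ov := (hOv _).mpr (mem_ovoid.mpr (Or.inl rfl))
  let J := (F × F) ⊕ {w : F × F // w ≠ 0}
  let ι : J → P := Sum.elim (fun w => ⟨(pInf F, pFin m w.1 w.2), hinf, hfin _ _, (pFin_ne_inf _ _).symm⟩)
    (fun w => ⟨(pFin m (0 : F) 0, pFin m w.1.1 w.1.2), hfin _ _, hfin _ _,
      fun e => w.2 (Prod.ext (pFin_inj e).1.symm (pFin_inj e).2.symm)⟩)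
  have hinj : Function.Injective (Φ ∘ ι) := by
    intro a b hab
    have h := hpair (ι a) (ι b) hab
    rcases a with ⟨a1, a2⟩ | ⟨⟨a1, a2⟩, ha⟩ <;> rcases b with ⟨b1, b2⟩ | ⟨⟨b1, b2⟩, hb⟩ <;>
      simp only [ι, Sum.elim_inl, Sum.elim_inr] at h
    · rcases h.2 with h2 | h2
      · exact absurd h2 (pFin_ne_inf _ _)
      · exact congrArg Sum.inl (Prod.ext (pFin_inj h2).1.symm (pFin_inj h2).2.symm)
    · rcases h.1 with h1 | h1
      · exact absurd h1 (pFin_ne_inf _ _)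
      · rcases h.2 with h2 | h2
        · exact absurd h2 (pFin_ne_inf _ _)
        · exact absurd (Prod.ext ((pFin_inj h2).1.trans (pFin_inj h1).1.symm)
            ((pFin_inj h2).2.trans (pFin_inj h1).2.symm)) hb
    · rcases h.1 with h1 | h1
      · exact absurd h1.symm (pFin_ne_inf _ _)
      · exact absurd h1.symm (pFin_ne_inf _ _)
    · rcases h.2 with h2 | h2
      · exact absurd (Prod.ext (pFin_inj h2).1 (pFin_inj h2).2) hb
      · exact congrArg Sum.inr (Subtype.ext (Prod.ext (pFin_inj h2).1.symm (pFin_inj h2).2.symm))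
  have hIn : Fintype.card J ≤ In.card := by
    rw [← Finset.card_univ]
    exact Finset.card_le_card_of_injOn (Φ ∘ ι) (fun a _ => hΦ _) hinj.injOn
  have hJ : Fintype.card J = Fintype.card F ^ 2 + (Fintype.card F ^ 2 - 1) := by
    rw [Fintype.card_sum, Fintype.card_prod, ← sq, Fintype.card_subtype_compl,
      Fintype.card_subtype_eq, Fintype.card_prod, ← sq]
  refine ⟨(𝓐 \ In) ∪ Bs, ⟨fun A hA => ?_, fun g => ?_⟩, ?_⟩
  · rcases Finset.mem_union.mp hA with h | h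
    · exact hcov.1 A (Finset.mem_sdiff.mp h).1
    obtain ⟨p, hp, rfl⟩ := Finset.mem_image.mp h
    intro htop
    obtain ⟨q, hq, hqp⟩ := Finset.exists_mem_ne (s := Ov)
      (by rw [hOvc]; have := pow_pos (Fintype.card_pos (α := F)) 2; omega) p
    have hall : ∀ k : Cfsg.Sz F m, k • p = p := fun k => by
      have : k ∈ MulAction.stabilizer (Cfsg.Sz F m) p := htop ▸ Subgroup.mem_top k
      exact MulAction.mem_stabilizer_iff.mp this
    obtain ⟨k, hk1, -⟩ := exists_sz_two_point hF ((hOv p).mp hp) ((hOv q).mp hq) hqp.symm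
    obtain ⟨k', -, hk2⟩ := exists_sz_two_point hF ((hOv q).mp hq) ((hOv p).mp hp) hqp
    rw [hall k] at hk1
    rw [hall k', hk1] at hk2
    exact pFin_ne_inf _ _ hk2.symm
  · obtain ⟨A, hA, hg⟩ := hcov.2 g
    by_cases hin : A ∈ In
    · obtain ⟨p, hp, hle⟩ := (Finset.mem_filter.mp hin).2
      exact ⟨_, Finset.mem_union_right _ (Finset.mem_image_of_mem _ hp), hle hg⟩
    · exact ⟨A, Finset.mem_union_left _ (Finset.mem_sdiff.mpr ⟨hA, hin⟩), hg⟩
  · have h1 := Finset.card_union_le (𝓐 \ In) Bs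
    have h2 : Bs.card ≤ Fintype.card F ^ 2 + 1 := hOvc ▸ Finset.card_image_le
    have h3 : (𝓐 \ In).card + In.card = 𝓐.card :=
      Finset.card_sdiff_add_card_eq_card (Finset.filter_subset _ _)
    have h4 : 3 ≤ Fintype.card F ^ 2 := by
      have := two_lt_card hm hF
      nlinarith
    omega

end CfsgLib.KnownB.SzCover
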