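import Cfsg.Agent.Lib.Suzuki.Simple
import Mathlib.Analysis.Fourier.FiniteAbelian.PontryaginDuality
import Mathlib.NumberTheory.LegendreSymbol.AddCharacter
import Mathlib.RepresentationTheory.Irreducible

/-!
# Minimal degree of a faithful representation of `Sz(q)`

The non-trivial characters of `Z = Z(U)` form one orbit under the torus, and each of their
eigenspaces carries an extraspecial group of order at least `2^(2m+1)`.
-/

set_option autoImplicit false
set_option linter.unusedSectionVars false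

namespace CfsgLib.KnownB.SzDeg

open CfsgLib.Suzuki Module

universe u v

variable {F : Type u} [Field F] [CharP F 2] [Fintype F] {m : ℕ}

section Chars

theorem mulShift_surjective {ψ : AddChar F ℂ} (hψ : ψ ≠ 1) (χ : AddChar F ℂ) :
    ∃ ν : F, χ = ψ.mulShift ν := by
  classical
  have hinj := AddChar.to_mulShift_inj_of_isPrimitive (AddChar.IsPrimitive.of_ne_one hψ)
  have hsurj : Function.Surjective (fun ν : F => ψ.mulShift ν) :=
    ((Fintype.bijective_iff_injective_and_card _).mpr ⟨hinj, AddChar.card_eq.symm⟩).2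
  obtain ⟨ν, hν⟩ := hsurj χ
  exact ⟨ν, hν.symm⟩

theorem radical_le (h : ThSq F m) {ψ : AddChar F ℂ} (hψ : ψ ≠ 1) :
    ∃ r : F, ∀ a : F, (∀ c : F, ψ (th m a * c + th m c * a) = 1) → a = 0 ∨ a = r := by
  obtain ⟨κ, hκ⟩ := mulShift_surjective hψ (ψ.compAddMonoidHom (th (F := F) m).toAddMonoidHom)
  have hκ' : ∀ x : F, ψ (th m x) = ψ (κ * x) := fun x => by
    have := DFunLike.congr_fun hκ x
    rwa [AddChar.mulShift_apply] at this
  have hκ0 : κ ≠ 0 := by
    intro h0
    refine hψ (DFunLike.ext _ _ fun x => ?_)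
    obtain ⟨y, rfl⟩ := th_surjective h x
    rw [hκ', h0, zero_mul, AddChar.map_zero_eq_one, AddChar.one_apply]
  refine ⟨th m κ, fun a ha => ?_⟩
  obtain ⟨w, hw⟩ := th_surjective h a
  have h1 : ψ.mulShift (th m a + κ * w) = ψ.mulShift 0 := by
    refine DFunLike.ext _ _ fun c => ?_
    rw [AddChar.mulShift_apply, AddChar.mulShift_apply, zero_mul, AddChar.map_zero_eq_one]
    have e : ψ (th m c * a) = ψ (κ * w * c) := by
      rw [← hw, ← map_mul, hκ', mul_assoc, mul_comm c w]
    have hc := ha c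
    rw [AddChar.map_add_eq_mul, e, ← AddChar.map_add_eq_mul] at hc
    rwa [add_mul]
  have h2 := AddChar.to_mulShift_inj_of_isPrimitive (AddChar.IsPrimitive.of_ne_one hψ) h1
  have h3 : th m a = κ * w := by
    rw [CharTwo.add_eq_zero] at h2; exact h2
  have h4 : a ^ 2 = th m κ * a := by rw [← h a, h3, map_mul, hw]
  have h5 : a * (a - th m κ) = 0 := by linear_combination h4
  rcases mul_eq_zero.mp h5 with h6 | h6
  · exact Or.inl h6
  · exact Or.inr (sub_eq_zero.mp h6)

theorem torus_surjective (h : ThSq F m) {μ : F} (hμ : μ ≠ 0) :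
    ∃ s : Fˣ, th m (s : F) * (s : F) ^ 2 = μ := by
  have hinj : Function.Injective fun x : F => th m x * x ^ 2 := by
    intro x y hxy
    have hxy' : th m x * x ^ 2 = th m y * y ^ 2 := hxy
    rcases eq_or_ne y 0 with rfl | hy
    · rcases mul_eq_zero.mp (show th m x * x ^ 2 = 0 by simpa using hxy') with h0 | h0
      · exact (map_eq_zero (th (F := F) m)).mp h0
      · exact (pow_eq_zero_iff two_ne_zero).mp h0
    have hy' : th m y ≠ 0 := (map_ne_zero (th (F := F) m)).mpr hy
    obtain ⟨s, rfl⟩ : ∃ s, x = s * y := ⟨x / y, by rw [div_mul_cancel₀ _ hy]⟩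
    have h1 : th m s * s ^ 2 = 1 := by
      rw [map_mul] at hxy'
      have : (th m s * s ^ 2 - 1) * (th m y * y ^ 2) = 0 := by linear_combination hxy'
      exact sub_eq_zero.mp ((mul_eq_zero.mp this).resolve_right (mul_ne_zero hy' (pow_ne_zero 2 hy)))
    have h2 : s ^ 2 * th m s ^ 2 = 1 := by
      have := congrArg (th m) h1
      rwa [map_mul, map_pow, map_one, h s] at this
    have h3 : th m s = 1 := by
      linear_combination h2 - th m s * h1
    rw [h3, one_mul] at h1
    have : (s - 1) ^ 2 = 0 := by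
      linear_combination h1 + (1 - s) * (CharTwo.two_eq_zero (R := F))
    rw [sub_eq_zero.mp ((pow_eq_zero_iff two_ne_zero).mp this), one_mul]
  obtain ⟨x, hx⟩ := Finite.surjective_of_injective hinj μ
  have hx0 : x ≠ 0 := fun h0 => hμ (by rw [← hx]; simp [h0])
  exact ⟨Units.mk0 x hx0, hx⟩

theorem sign_sq (ψ : AddChar F ℂ) (z : F) : ψ z * ψ z = 1 := by
  rw [← AddChar.map_add_eq_mul, CharTwo.add_self_eq_zero, AddChar.map_zero_eq_one]

end Chars

section Rep

variable {V : Type v} [AddCommGroup V] [Module ℂ V] [FiniteDimensional ℂ V]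
  (h : ThSq F m) (ρ : Representation ℂ (Cfsg.Sz F m) V)

/-- The projection to the `ψ`-eigenspace of the centre of `U`. -/
noncomputable def proj (ψ : AddChar F ℂ) : Module.End ℂ V :=
  (Fintype.card F : ℂ)⁻¹ • ∑ z : F, ψ z • ρ (tG h 0 z)

theorem tG_zero_mul (y z : F) : tG h 0 y * tG h 0 z = tG h 0 (y + z) := by
  rw [tG_mul, map_zero, zero_mul, add_zero, add_zero, add_comm]

theorem rho_proj (ψ : AddChar F ℂ) (y : F) : ρ (tG h 0 y) * proj h ρ ψ = ψ y • proj h ρ ψ := by
  rw [proj, mul_smul_comm, smul_comm, Finset.mul_sum, Finset.smul_sum (r := ψ y)]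
  congr 1
  rw [← Equiv.sum_comp (Equiv.addLeft y) (fun z => ψ y • ψ z • ρ (tG h 0 z))]
  refine Finset.sum_congr rfl fun z _ => ?_
  rw [Equiv.coe_addLeft, mul_smul_comm, ← map_mul, tG_zero_mul, smul_smul,
    AddChar.map_add_eq_mul, ← mul_assoc, sign_sq, one_mul]

theorem proj_isIdempotent (ψ : AddChar F ℂ) : IsIdempotentElem (proj h ρ ψ) := by
  show proj h ρ ψ * proj h ρ ψ = proj h ρ ψ
  conv_lhs => arg 1; rw [proj]
  rw [smul_mul_assoc, Finset.sum_mul]
  simp only [smul_mul_assoc, rho_proj, smul_smul, sign_sq, one_smul]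
  rw [Finset.sum_const, Finset.card_univ, ← Nat.cast_smul_eq_nsmul ℂ, smul_smul,
    inv_mul_cancel₀ (Nat.cast_ne_zero.mpr Fintype.card_ne_zero), one_smul]

theorem sum_proj [DecidableEq F] : ∑ ψ : AddChar F ℂ, proj h ρ ψ = 1 := by
  simp only [proj, ← Finset.smul_sum]
  rw [Finset.sum_comm]
  simp only [← Finset.sum_smul, AddChar.sum_apply_eq_ite, ite_smul, zero_smul]
  rw [Finset.sum_ite_eq' Finset.univ (0 : F), if_pos (Finset.mem_univ _), tG_zero, map_one,
    smul_smul, inv_mul_cancel₀ (Nat.cast_ne_zero.mpr Fintype.card_ne_zero), one_smul]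

/-- The dimension of the eigenspace. -/
noncomputable def eigDim (ψ : AddChar F ℂ) : ℕ := finrank ℂ (LinearMap.range (proj h ρ ψ))

theorem trace_proj (ψ : AddChar F ℂ) : LinearMap.trace ℂ V (proj h ρ ψ) = eigDim h ρ ψ :=
  (LinearMap.IsProj.trace ((LinearMap.isProj_range_iff_isIdempotentElem _).mpr (proj_isIdempotent h ρ ψ)))

theorem sum_eigDim [DecidableEq F] : ∑ ψ : AddChar F ℂ, eigDim h ρ ψ = finrank ℂ V := by
  have := congrArg (LinearMap.trace ℂ V) (sum_proj h ρ)
  rw [map_sum, LinearMap.trace_one] at this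
  simp only [trace_proj] at this
  exact_mod_cast this

theorem eigDim_shift (ψ : AddChar F ℂ) (s : Fˣ) :
    eigDim h ρ (ψ.mulShift (th m (s : F) * (s : F) ^ 2)) = eigDim h ρ ψ := by
  obtain ⟨μ, hμ⟩ : ∃ μ, th m (s : F) * (s : F) ^ 2 = μ := ⟨_, rfl⟩
  rw [hμ]
  have hμ0 : μ ≠ 0 := by
    rw [← hμ]
    exact mul_ne_zero ((map_ne_zero (th (F := F) m)).mpr s.ne_zero) (pow_ne_zero 2 s.ne_zero)
  have e : ρ (hG h s) * proj h ρ (ψ.mulShift μ) * ρ (hG h s⁻¹) = proj h ρ ψ := by
    rw [proj, proj, mul_smul_comm, smul_mul_assoc, Finset.mul_sum, Finset.sum_mul]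
    congr 1
    rw [← Equiv.sum_comp (Equiv.mulLeft₀ μ hμ0) (fun z => ψ z • ρ (tG h 0 z))]
    refine Finset.sum_congr rfl fun z _ => ?_
    rw [mul_smul_comm, smul_mul_assoc, ← map_mul, ← map_mul, map_inv, hG_conj, mul_zero, hμ,
      AddChar.mulShift_apply]
    rfl
  have h1 : ρ (hG h s⁻¹) * ρ (hG h s) = 1 := by
    rw [← map_mul, ← map_mul, inv_mul_cancel, map_one, map_one]
  have h2 := trace_proj h ρ ψ
  rw [← e, LinearMap.trace_mul_comm, ← mul_assoc, h1, one_mul, trace_proj] at h2
  exact_mod_cast h2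

theorem pow_le_eigDim_sq (hF : Fintype.card F = 2 ^ (2 * m + 1)) {ψ : AddChar F ℂ} (hψ : ψ ≠ 1)
    (hd : 0 < eigDim h ρ ψ) : 2 ^ (2 * m) ≤ eigDim h ρ ψ * eigDim h ρ ψ := by
  classical
  obtain ⟨r, hr⟩ := radical_le h hψ
  let W := LinearMap.range (proj h ρ ψ)
  have hcomm : ∀ a z : F, ρ (tG h a 0) * ρ (tG h 0 z) = ρ (tG h 0 z) * ρ (tG h a 0) := fun a z => by
    rw [← map_mul, ← map_mul, tG_mul, tG_mul]
    simp
  have hPa : ∀ a : F, ρ (tG h a 0) * proj h ρ ψ = proj h ρ ψ * ρ (tG h a 0) := fun a => by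
    rw [proj, mul_smul_comm, smul_mul_assoc, Finset.mul_sum, Finset.sum_mul]
    congr 1
    exact Finset.sum_congr rfl fun z _ => by rw [mul_smul_comm, smul_mul_assoc, hcomm]
  have hinv : ∀ a : F, ∀ x ∈ W, ρ (tG h a 0) x ∈ W := by
    rintro a _ ⟨y, rfl⟩
    exact ⟨ρ (tG h a 0) y, (LinearMap.congr_fun (hPa a) y).symm⟩
  let Y : F → Module.End ℂ W := fun a => (ρ (tG h a 0)).restrict (hinv a)
  have hYinj : ∀ a, Function.Injective (Y a) := fun a x y hxy => by
    have h0 : ρ (tG h a 0) (x : V) = ρ (tG h a 0) (y : V) := congrArg Subtype.val hxy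
    have := congrArg (ρ (tG h a 0)⁻¹) h0
    rw [← Module.End.mul_apply, ← Module.End.mul_apply, ← map_mul, inv_mul_cancel, map_one] at this
    exact Subtype.ext this
  have hrel : ∀ c a : F, Y c * Y a = ψ (th m a * c + th m c * a) • (Y a * Y c) := by
    intro c a
    refine LinearMap.ext fun x => Subtype.ext ?_
    have e1 : tG h c 0 * tG h a 0 = tG h 0 (th m a * c + th m c * a) * (tG h a 0 * tG h c 0) := by
      rw [tG_mul, tG_mul, tG_mul]
      simp only [map_zero, zero_mul, zero_add, add_zero]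
      congr 1
      · ring
      · linear_combination (-(th m a * c)) * (CharTwo.two_eq_zero (R := F))
    have hz : ∀ y : V, y ∈ W → ∀ z, ρ (tG h 0 z) y = ψ z • y := by
      rintro _ ⟨y, rfl⟩ z
      exact LinearMap.congr_fun (rho_proj h ρ ψ z) y
    show ρ (tG h c 0) (ρ (tG h a 0) (x : V)) =
      ψ (th m a * c + th m c * a) • ρ (tG h a 0) (ρ (tG h c 0) (x : V))
    rw [← Module.End.mul_apply, ← map_mul, e1, map_mul, Module.End.mul_apply,
      hz _ (by rw [map_mul, Module.End.mul_apply]; exact hinv a _ (hinv c _ x.2)), map_mul,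
      Module.End.mul_apply]
  let R : AddSubgroup F :=
    { carrier := {a | ∀ c, ψ (th m a * c + th m c * a) = 1}
      zero_mem' := fun c => by simp
      add_mem' := fun {a b} ha hb c => by
        rw [map_add (th (F := F) m), show (th m a + th m b) * c + th m c * (a + b) =
          (th m a * c + th m c * a) + (th m b * c + th m c * b) by ring, AddChar.map_add_eq_mul,
          ha, hb, one_mul]
      neg_mem' := fun {a} ha c => by rw [CharTwo.neg_eq]; exact ha c }
  let χ : F ⧸ R → (Multiplicative F →* ℂ) := fun q =>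
    { toFun := fun c => ψ (th m q.out * Multiplicative.toAdd c + th m (Multiplicative.toAdd c) * q.out)
      map_one' := by simp
      map_mul' := fun c d => by
        rw [toAdd_mul, map_add (th (F := F) m), ← AddChar.map_add_eq_mul]
        congr 1
        ring }
  have hχ : Function.Injective χ := by
    intro q q' hqq
    rw [← Quotient.out_eq q, ← Quotient.out_eq q']
    refine QuotientAddGroup.eq.mpr fun c => ?_
    have hc := DFunLike.congr_fun hqq (Multiplicative.ofAdd c)
    simp only [χ, MonoidHom.coe_mk, OneHom.coe_mk, toAdd_ofAdd] at hc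
    rw [map_add (th (F := F) m), map_neg (th (F := F) m), show (-th m q.out + th m q'.out) * c + th m c * (-q.out + q'.out) =
      (-(th m q.out * c + th m c * q.out)) + (th m q'.out * c + th m c * q'.out) by ring,
      CharTwo.neg_eq, AddChar.map_add_eq_mul, hc, sign_sq]
  have hli : LinearIndependent ℂ fun q : F ⧸ R => Y q.out := by
    rw [Fintype.linearIndependent_iff]
    intro g hg q
    have h0 : ∀ c : F, ∑ q : F ⧸ R, (g q * χ q (Multiplicative.ofAdd c)) • Y q.out = 0 := by
      intro c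
      have h1 : (∑ q : F ⧸ R, (g q * χ q (Multiplicative.ofAdd c)) • Y q.out) * Y c = 0 := by
        rw [Finset.sum_mul]
        calc ∑ q : F ⧸ R, ((g q * χ q (Multiplicative.ofAdd c)) • Y q.out) * Y c
            = ∑ q : F ⧸ R, Y c * (g q • Y q.out) := by
              refine Finset.sum_congr rfl fun q _ => ?_
              rw [mul_smul_comm, hrel, smul_smul, smul_mul_assoc]
              rfl
          _ = 0 := by rw [← Finset.mul_sum, hg, mul_zero]
      refine LinearMap.ext fun x => ?_
      obtain ⟨y, rfl⟩ := LinearMap.surjective_of_injective (hYinj c) x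
      exact LinearMap.congr_fun h1 y
    by_contra hgq
    have hdual : ∀ φ : Module.Dual ℂ (Module.End ℂ W), φ (g q • Y q.out) = 0 := by
      intro φ
      have hlin := (linearIndependent_monoidHom (Multiplicative F) ℂ).comp χ hχ
      rw [Fintype.linearIndependent_iff] at hlin
      have := hlin (fun q' => g q' * φ (Y q'.out)) (funext fun c => by
        have := congrArg φ (h0 (Multiplicative.toAdd c))
        rw [map_sum, map_zero] at this
        simp only [map_smul, smul_eq_mul, ofAdd_toAdd] at this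
        simp only [Finset.sum_apply, Pi.smul_apply, Function.comp_apply, smul_eq_mul, Pi.zero_apply]
        rw [← this]
        exact Finset.sum_congr rfl fun q' _ => by ring) q
      rw [map_smul, smul_eq_mul, this]
    have hY0 : Y q.out = 0 :=
      (smul_eq_zero.mp ((Module.forall_dual_apply_eq_zero_iff ℂ _).mp hdual)).resolve_left hgq
    have : Nontrivial W := Module.finrank_pos_iff.mp hd
    obtain ⟨x, hx⟩ := exists_ne (0 : W)
    exact hx (hYinj q.out (by rw [hY0]; simp))
  have hle := hli.fintype_card_le_finrank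
  rw [Module.finrank_linearMap, ← Nat.card_eq_fintype_card] at hle
  have hR : Nat.card R ≤ 2 := by
    rw [Nat.card_eq_fintype_card, Fintype.card_subtype]
    refine (Finset.card_le_card (t := {0, r}) fun a ha => ?_).trans Finset.card_le_two
    simp only [Finset.mem_insert, Finset.mem_singleton]
    exact hr a (Finset.mem_filter.mp ha).2
  have hlag := R.card_eq_card_quotient_mul_card_addSubgroup
  rw [Nat.card_eq_fintype_card (α := F), hF, pow_succ] at hlag
  have h2 : 2 ^ (2 * m) * 2 ≤ Nat.card (F ⧸ R) * 2 := hlag ▸ Nat.mul_le_mul_left _ hR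
  exact le_trans (Nat.le_of_mul_le_mul_right h2 two_pos) hle

theorem min_degree (hm : 1 ≤ m) (hF : Fintype.card F = 2 ^ (2 * m + 1)) [ρ.IsIrreducible]
    (hV : 2 ≤ finrank ℂ V) : 2 ^ m * (2 ^ (2 * m + 1) - 1) ≤ finrank ℂ V := by
  classical
  have h := thSq_of_card hF
  obtain ⟨ψ, hψ, hd⟩ : ∃ ψ : AddChar F ℂ, ψ ≠ 1 ∧ 0 < eigDim h ρ ψ := by
    by_contra hcon
    push Not at hcon
    have hP1 : proj h ρ (1 : AddChar F ℂ) = 1 := by
      rw [← sum_proj h ρ]
      refine (Finset.sum_eq_single _ (fun ψ _ hψ => ?_) (by simp)).symm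
      exact LinearMap.range_eq_bot.mp (Submodule.finrank_eq_zero.mp (Nat.le_zero.mp (hcon ψ hψ)))
    have hker : tG h 0 1 ∈ ρ.toHomUnits.ker := by
      refine MonoidHom.mem_ker.mpr (Units.ext ?_)
      have := rho_proj h ρ (1 : AddChar F ℂ) 1
      rw [hP1, mul_one, AddChar.one_apply, one_smul] at this
      exact this
    have hne : tG h (0 : F) 1 ≠ 1 := fun h1 => one_ne_zero ((tG_eq_one h).mp h1).2
    have := isSimpleGroup_sz hm hF
    rcases (inferInstance : ρ.toHomUnits.ker.Normal).eq_bot_or_eq_top with hk | hk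
    · rw [hk, Subgroup.mem_bot] at hker
      exact hne hker
    have htriv : ∀ g, ρ g = 1 := fun g => by
      have hg : g ∈ ρ.toHomUnits.ker := hk ▸ Subgroup.mem_top g
      exact congrArg Units.val (MonoidHom.mem_ker.mp hg)
    have : Nontrivial V := Module.finrank_pos_iff.mp (by omega : 0 < finrank ℂ V)
    obtain ⟨v, hv⟩ := exists_ne (0 : V)
    let S : Subrepresentation ρ := ⟨Submodule.span ℂ {v}, fun g x hx => by rw [htriv g]; exact hx⟩
    rcases eq_bot_or_eq_top S with hS | hS
    · have : v ∈ (⊥ : Subrepresentation ρ).toSubmodule := hS ▸ Submodule.mem_span_singleton_self v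
      exact hv ((Submodule.mem_bot ℂ).mp this)
    · have h1 : Submodule.span ℂ {v} = ⊤ := congrArg Subrepresentation.toSubmodule hS
      have h2 := finrank_span_singleton (K := ℂ) hv
      rw [h1, finrank_top] at h2
      omega
  have hall : ∀ χ : AddChar F ℂ, χ ≠ 1 → eigDim h ρ χ = eigDim h ρ ψ := by
    intro χ hχ
    obtain ⟨ν, rfl⟩ := mulShift_surjective hψ χ
    obtain ⟨s, rfl⟩ := torus_surjective h (μ := ν) fun h0 => hχ (by rw [h0, AddChar.mulShift_zero])
    exact eigDim_shift h ρ ψ s
  have hd2 := pow_le_eigDim_sq h ρ hF hψ hd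
  have hd' : 2 ^ m ≤ eigDim h ρ ψ := by
    by_contra hc
    push Not at hc
    have := Nat.mul_lt_mul_of_lt_of_lt hc hc
    rw [← pow_add, ← two_mul] at this
    omega
  calc 2 ^ m * (2 ^ (2 * m + 1) - 1) ≤ eigDim h ρ ψ * (2 ^ (2 * m + 1) - 1) :=
        Nat.mul_le_mul_right _ hd'
    _ = ∑ χ ∈ Finset.univ.erase (1 : AddChar F ℂ), eigDim h ρ χ := by
        rw [Finset.sum_congr rfl fun χ hχ => hall χ (Finset.ne_of_mem_erase hχ), Finset.sum_const,
          Finset.card_erase_of_mem (Finset.mem_univ _), Finset.card_univ, AddChar.card_eq, hF,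
          smul_eq_mul, mul_comm]
    _ ≤ finrank ℂ V := by
        rw [← sum_eigDim h ρ]
        exact Finset.sum_le_sum_of_subset (Finset.erase_subset _ _)

end Rep

end CfsgLib.KnownB.SzDeg

namespace CfsgLib.KnownB.SzDeg

theorem isIrreducible_comp {G H W : Type*} [Group G] [Group H] [AddCommGroup W] [Module ℂ W]
    (ρ : Representation ℂ H W) [hρ : ρ.IsIrreducible] (e : G ≃* H) :
    Representation.IsIrreducible (ρ.comp e.toMonoidHom : Representation ℂ G W) := by
  have hpush : ∀ S : Subrepresentation (ρ.comp e.toMonoidHom : Representation ℂ G W),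
      ∃ T : Subrepresentation ρ, T.toSubmodule = S.toSubmodule := fun S =>
    ⟨⟨S.toSubmodule, fun h x hx => by
      have := S.apply_mem_toSubmodule (e.symm h) hx
      simpa using this⟩, rfl⟩
  have : Nontrivial (Subrepresentation (ρ.comp e.toMonoidHom : Representation ℂ G W)) := by
    refine ⟨⊥, ⊤, fun hbt => ?_⟩
    have h1 : (⊥ : Submodule ℂ W) = ⊤ := congrArg Subrepresentation.toSubmodule hbt
    exact bot_ne_top (α := Subrepresentation ρ) (Subrepresentation.toSubmodule_injective h1)
  exact ⟨fun S => by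
    obtain ⟨T, hT⟩ := hpush S
    rcases eq_bot_or_eq_top T with h | h
    · exact Or.inl (Subrepresentation.toSubmodule_injective (by rw [← hT, h]; rfl))
    · exact Or.inr (Subrepresentation.toSubmodule_injective (by rw [← hT, h]; rfl))⟩

end CfsgLib.KnownB.SzDeg
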