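import Cfsg.Agent.Lib.KnownB.SzTable
import Cfsg.Prelude.Def_DegreeGraph

/-!
# The degrees of the irreducible characters of `Sz(q)` and its degree graph
-/

set_option autoImplicit false
set_option linter.unusedSectionVars false

namespace CfsgLib.KnownB.SzCh

open CfsgLib.Suzuki CfsgLib.Char
open scoped ComplexConjugate

section Transport

variable {A B : Type*} [Group A] [Group B]

theorem charDegrees_congr (e : A ≃* B) : Cfsg.charDegrees A = Cfsg.charDegrees B := by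
  have key : ∀ {A B : Type _} [Group A] [Group B], (A ≃* B) → ∀ d, d ∈ Cfsg.charDegrees B →
      d ∈ Cfsg.charDegrees A := by
    intro A B _ _ e d hd
    obtain ⟨χ, hχ⟩ := hd
    refine ⟨⟨_, isIrrCharacter_comp_surjective χ.2 e.toMonoidHom e.surjective⟩, ?_⟩
    simpa [Cfsg.charDegree] using hχ
  refine Set.ext fun d => ⟨fun hd => ?_, key e d⟩
  obtain ⟨χ, hχ⟩ := hd
  refine ⟨⟨_, isIrrCharacter_comp_surjective χ.2 e.symm.toMonoidHom e.symm.surjective⟩, ?_⟩
  simpa [Cfsg.charDegree] using hχ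

end Transport

variable {F : Type*} [Field F] [CharP F 2] [Fintype F] {m : ℕ}
variable (hm : 1 ≤ m) (hF : Fintype.card F = 2 ^ (2 * m + 1))

local notation "Kc" => ((2 : ℂ) ^ m)
local notation "Qc" => (2 * ((2 : ℂ) ^ m) ^ 2)
local notation "GG" => Cfsg.Sz F m
local notation "QN" => (2 * ((2 : ℕ) ^ m) ^ 2)
local notation "KN" => ((2 : ℕ) ^ m)

include hm hF

theorem exists_lam {A : Subgroup GG} (hA : IsCell (thSq_of_card hF) A) (h : 1 < Nat.card A) :
    ∃ lam : A →* ℂˣ, lam ≠ 1 := by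
  have : Nontrivial A := Finite.one_lt_card_iff_nontrivial.1 h
  obtain ⟨a, ha⟩ := exists_ne (1 : A)
  obtain ⟨lam, hlam⟩ := exists_linear_ne_one
    (fun x y : A => Subtype.ext (hA.comm hF x.2 y.2)) ha
  exact ⟨lam, fun e => hlam (by rw [e, MonoidHom.one_apply])⟩

/-- The degrees of the irreducible characters. -/
theorem charDegrees_sz : Cfsg.charDegrees GG =
    {1, QN ^ 2, QN ^ 2 + 1, (QN - 1) * (QN - 2 * KN + 1), (QN - 1) * (QN + 2 * KN + 1),
      KN * (QN - 1)} := by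
  classical
  have := Fintype.ofFinite GG
  have := Fintype.ofFinite (Cfsg.IrrCharacter GG)
  obtain ⟨cX, cY, cZ, cW, cS⟩ := degree_casts hm hF
  have deg : ∀ (χ : Cfsg.IrrCharacter GG) (d : ℕ), (χ : GG → ℂ) 1 = (d : ℂ) →
      Cfsg.charDegree (χ : GG → ℂ) = d := fun χ d h => by
    simp [Cfsg.charDegree, h]
  have hk := k_two_le hm
  have hq : 8 ≤ QN := by nlinarith
  ext d
  simp only [Set.mem_insert_iff, Set.mem_singleton_iff]
  constructor
  · rintro ⟨χ, rfl⟩
    rcases irr_cases hm hF χ.2 with e | e | ⟨lam, -, e⟩ | ⟨lam, -, e⟩ | ⟨lam, -, e⟩ | ⟨e, -⟩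
    · exact Or.inl (deg χ 1 (by rw [e, Nat.cast_one]))
    · exact Or.inr (Or.inl (deg χ _ (by rw [e, stChar_one hF, cS])))
    · exact Or.inr (Or.inr (Or.inl (deg χ _ (by rw [e, xChar_one hm hF, cX]))))
    · exact Or.inr (Or.inr (Or.inr (Or.inl (deg χ _ (by rw [e, yChar_one hm hF, cY])))))
    · exact Or.inr (Or.inr (Or.inr (Or.inr (Or.inl (deg χ _ (by rw [e, zChar_one hm hF, cZ]))))))
    · exact Or.inr (Or.inr (Or.inr (Or.inr (Or.inr (deg χ _ (by rw [e.1, cW]))))))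
  · rintro (rfl | rfl | rfl | rfl | rfl | rfl)
    · exact ⟨⟨fun _ => 1, isIrrCharacter_one⟩, deg _ _ (by simp)⟩
    · exact ⟨⟨_, isIrr_st hm hF⟩, deg _ _ (by rw [← cS]; exact stChar_one hF)⟩
    · obtain ⟨lam, hlam⟩ := exists_lam hm hF (isCell_hSub hm hF)
        (by rw [card_hSub' hm hF]; omega)
      exact ⟨⟨_, isIrr_x hm hF hlam⟩, deg _ _ (by rw [← cX]; exact xChar_one hm hF lam)⟩
    · obtain ⟨lam, hlam⟩ := exists_lam hm hF (isCell_torP hm hF)
        (by rw [card_torP hm hF]; omega)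
      exact ⟨⟨_, isIrr_y hm hF hlam⟩, deg _ _ (by rw [← cY]; exact yChar_one hm hF lam)⟩
    · have h2 : 2 * KN < QN := by nlinarith
      obtain ⟨lam, hlam⟩ := exists_lam hm hF (isCell_torM hm hF)
        (by rw [card_torM hm hF]; omega)
      exact ⟨⟨_, isIrr_z hm hF hlam⟩, deg _ _ (by rw [← cZ]; exact zChar_one hm hF lam)⟩
    · obtain ⟨χ, hχ⟩ := Finset.card_pos.1 (by rw [(sum_setW hm hF).1]; norm_num :
        0 < (setW (F := F) (m := m)).card)
      exact ⟨χ, deg χ _ (by rw [((mem_setW hm hF).1 hχ).1.1, cW])⟩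

/-- The degree graph. -/
theorem degree_graph :
    Cfsg.degreePrimes GG = {r : ℕ | r.Prime ∧ (r = 2 ∨ r ∣ (QN - 1) * (QN ^ 2 + 1))} ∧
    ∀ r s : ℕ, (Cfsg.degreeGraph GG).Adj r s ↔
      (r ≠ s ∧ r.Prime ∧ s.Prime ∧
        ((r ∣ (QN - 1) * (QN ^ 2 + 1) ∧ s ∣ (QN - 1) * (QN ^ 2 + 1)) ∨
          (r = 2 ∧ s ∣ QN - 1) ∨ (s = 2 ∧ r ∣ QN - 1))) := by
  have hk := k_two_le hm
  have h2 : 2 * KN ≤ QN := by nlinarith
  have hm0 : m ≠ 0 := by omega
  have hprod : (QN + 2 * KN + 1) * (QN - 2 * KN + 1) = QN ^ 2 + 1 := by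
    zify [h2]
    ring
  have hQ2 : ∀ r : ℕ, r.Prime → r ∣ QN ^ 2 → r = 2 := by
    intro r hr h
    rw [show QN ^ 2 = 2 ^ (4 * m + 2) by ring] at h
    exact (Nat.prime_dvd_prime_iff_eq hr Nat.prime_two).1 (hr.dvd_of_dvd_pow h)
  have hK2 : ∀ r : ℕ, r.Prime → r ∣ KN → r = 2 := fun r hr h =>
    (Nat.prime_dvd_prime_iff_eq hr Nat.prime_two).1 (hr.dvd_of_dvd_pow h)
  have hY : (QN - 1) * (QN - 2 * KN + 1) ∣ (QN - 1) * (QN ^ 2 + 1) :=
    mul_dvd_mul_left _ ⟨_, by rw [← hprod, mul_comm]⟩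
  have hZ : (QN - 1) * (QN + 2 * KN + 1) ∣ (QN - 1) * (QN ^ 2 + 1) :=
    mul_dvd_mul_left _ ⟨_, hprod.symm⟩
  have hW : ∀ r : ℕ, r.Prime → r ∣ KN * (QN - 1) → r = 2 ∨ r ∣ QN - 1 := fun r hr h =>
    (hr.dvd_mul.1 h).imp (hK2 r hr) id
  have h1A : QN - 1 ∣ (QN - 1) * (QN ^ 2 + 1) := dvd_mul_right _ _
  have hdeg := charDegrees_sz hm hF
  refine ⟨?_, fun r s => ?_⟩
  · ext r
    simp only [Cfsg.degreePrimes, hdeg, Set.mem_setOf_eq, Set.mem_insert_iff, Set.mem_singleton_iff,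
      exists_eq_or_imp, exists_eq_left]
    refine and_congr_right fun hr => ⟨?_, ?_⟩
    · rintro (h | h | h | h | h | h)
      · exact absurd h hr.not_dvd_one
      · exact Or.inl (hQ2 r hr h)
      · exact Or.inr (h.trans (dvd_mul_left _ _))
      · exact Or.inr (h.trans hY)
      · exact Or.inr (h.trans hZ)
      · exact (hW r hr h).imp id fun h => h.trans h1A
    · rintro (rfl | h)
      · exact Or.inr (Or.inl (dvd_pow (dvd_mul_right _ _) two_ne_zero))
      · rcases hr.dvd_mul.1 h with h | h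
        · exact Or.inr (Or.inr (Or.inr (Or.inl (h.trans (dvd_mul_right _ _)))))
        · exact Or.inr (Or.inr (Or.inl h))
  · simp only [Cfsg.degreeGraph, hdeg, Set.mem_insert_iff, Set.mem_singleton_iff,
      exists_eq_or_imp, exists_eq_left]
    refine and_congr_right fun hne => and_congr_right fun hr => and_congr_right fun hs => ⟨?_, ?_⟩
    · rintro (h | h | h | h | h | h)
      · exact absurd ((dvd_mul_right r s).trans h) hr.not_dvd_one
      · exact absurd ((hQ2 r hr ((dvd_mul_right r s).trans h)).trans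
          (hQ2 s hs ((dvd_mul_left s r).trans h)).symm) hne
      · exact Or.inl ⟨((dvd_mul_right r s).trans h).trans (dvd_mul_left _ _),
          ((dvd_mul_left s r).trans h).trans (dvd_mul_left _ _)⟩
      · exact Or.inl ⟨((dvd_mul_right r s).trans h).trans hY,
          ((dvd_mul_left s r).trans h).trans hY⟩
      · exact Or.inl ⟨((dvd_mul_right r s).trans h).trans hZ,
          ((dvd_mul_left s r).trans h).trans hZ⟩
      · rcases hW r hr ((dvd_mul_right r s).trans h) with e | e <;>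
          rcases hW s hs ((dvd_mul_left s r).trans h) with f | f
        · exact absurd (e.trans f.symm) hne
        · exact Or.inr (Or.inl ⟨e, f⟩)
        · exact Or.inr (Or.inr ⟨f, e⟩)
        · exact Or.inl ⟨e.trans h1A, f.trans h1A⟩
    · have hco := (Nat.coprime_primes hr hs).2 hne
      have split : ∀ t : ℕ, t.Prime → t ∣ (QN - 1) * (QN ^ 2 + 1) →
          t ∣ QN - 1 ∨ t ∣ QN + 2 * KN + 1 ∨ t ∣ QN - 2 * KN + 1 := fun t ht h => by
        rw [← hprod] at h
        exact (ht.dvd_mul.1 h).imp id ht.dvd_mul.1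
      rintro (⟨hr', hs'⟩ | ⟨rfl, hs'⟩ | ⟨rfl, hr'⟩)
      · rcases split r hr hr' with a | a | a <;> rcases split s hs hs' with b | b | b
        · exact Or.inr (Or.inr (Or.inr (Or.inl ((hco.mul_dvd_of_dvd_of_dvd a b).trans
            (dvd_mul_right _ _)))))
        · exact Or.inr (Or.inr (Or.inr (Or.inr (Or.inl (mul_dvd_mul a b)))))
        · exact Or.inr (Or.inr (Or.inr (Or.inl (mul_dvd_mul a b))))
        · exact Or.inr (Or.inr (Or.inr (Or.inr (Or.inl (by rw [mul_comm]; exact mul_dvd_mul b a)))))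
        · exact Or.inr (Or.inr (Or.inl (hco.mul_dvd_of_dvd_of_dvd
            (hprod ▸ a.trans (dvd_mul_right _ _)) (hprod ▸ b.trans (dvd_mul_right _ _)))))
        · exact Or.inr (Or.inr (Or.inl (hprod ▸ mul_dvd_mul a b)))
        · exact Or.inr (Or.inr (Or.inr (Or.inl (by rw [mul_comm]; exact mul_dvd_mul b a))))
        · exact Or.inr (Or.inr (Or.inl (by rw [mul_comm, ← hprod]; exact mul_dvd_mul b a)))
        · exact Or.inr (Or.inr (Or.inl (hco.mul_dvd_of_dvd_of_dvd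
            (hprod ▸ a.trans (dvd_mul_left _ _)) (hprod ▸ b.trans (dvd_mul_left _ _)))))
      · exact Or.inr (Or.inr (Or.inr (Or.inr (Or.inr (mul_dvd_mul (dvd_pow_self 2 hm0) hs')))))
      · exact Or.inr (Or.inr (Or.inr (Or.inr (Or.inr (by
          rw [mul_comm r 2]; exact mul_dvd_mul (dvd_pow_self 2 hm0) hr')))))

end CfsgLib.KnownB.SzCh
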