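import Cfsg.Agent.Lib.Suzuki.Tori

/-!
# Transitive actions of `Sz(q)` with fixity two
-/

set_option autoImplicit false
set_option linter.unusedSectionVars false

namespace CfsgLib.KnownB.SzFix

open CfsgLib.Suzuki Cfsg MulAction

universe u v

/-- Elements conjugating a stabilised element back into the stabiliser form a set of index at most two. -/
theorem index_le_two {G : Type*} [Group G] [Finite G] {Ω : Type*} [MulAction G Ω] [Finite Ω] {α : Ω}
    {x : G} (hx : Nat.card (fixedBy Ω x) ≤ 2) (K : Subgroup G)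
    (hK : ∀ g ∈ K, g⁻¹ * x * g ∈ stabilizer G α) : ((stabilizer G α).subgroupOf K).index ≤ 2 := by
  refine le_trans ?_ hx
  refine Nat.card_le_card_of_injective (fun c : K ⧸ (stabilizer G α).subgroupOf K =>
    (⟨((c.out : K) : G) • α, ?_⟩ : fixedBy Ω x)) ?_
  · have h := mem_stabilizer_iff.mp (hK _ (c.out : K).2)
    rw [mul_smul, mul_smul, inv_smul_eq_iff] at h
    exact h
  · intro c d hcd
    have h : ((c.out : K) : G) • α = ((d.out : K) : G) • α := congrArg Subtype.val hcd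
    rw [← c.out_eq', ← d.out_eq', QuotientGroup.eq, Subgroup.mem_subgroupOf, mem_stabilizer_iff,
      Subgroup.coe_mul, Subgroup.coe_inv, mul_smul, ← h, inv_smul_smul]

theorem mem_of_index_le_two {G : Type*} [Group G] [Finite G] {H K : Subgroup G}
    (h : (H.subgroupOf K).index ≤ 2) :
    (∀ g ∈ K, Odd (orderOf g) → g ∈ H) ∧ ∀ g ∈ K, g * g ∈ H := by
  have hsq : ∀ g ∈ K, g * g ∈ H := fun g hg => by
    have h0 : (H.subgroupOf K).index ≠ 0 := Subgroup.index_ne_zero_of_finite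
    rcases (show (H.subgroupOf K).index = 1 ∨ (H.subgroupOf K).index = 2 by omega) with h1 | h1
    · rw [Subgroup.index_eq_one] at h1
      exact Subgroup.subgroupOf_eq_top.mp h1 (mul_mem hg hg)
    · exact Subgroup.mul_self_mem_of_index_two h1 ⟨g, hg⟩
  refine ⟨fun g hg ho => ?_, hsq⟩
  obtain ⟨k, hk⟩ := ho
  have e : g = (g * g) ^ (k + 1) := by
    rw [← sq, ← pow_mul, show 2 * (k + 1) = orderOf g + 1 by omega, pow_succ, pow_orderOf_eq_one,
      one_mul]
  rw [e]
  exact pow_mem (hsq g hg) _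

variable {F : Type u} [Field F] [CharP F 2] [Fintype F] {m : ℕ}

section

variable (hm : 1 ≤ m) (hF : Fintype.card F = 2 ^ (2 * m + 1))
  {Ω : Type v} [MulAction (Cfsg.Sz F m) Ω] [Finite Ω]
  (hfix : ∀ g : Cfsg.Sz F m, g ≠ 1 → Nat.card (fixedBy Ω g) ≤ 2)

include hm hF hfix

theorem centralizer_index_le (α : Ω) {x : Cfsg.Sz F m} (hx : x ∈ stabilizer (Cfsg.Sz F m) α)
    (hx1 : x ≠ 1) (K : Subgroup (Cfsg.Sz F m)) (hK : K ≤ Subgroup.centralizer {x}) :
    ((stabilizer (Cfsg.Sz F m) α).subgroupOf K).index ≤ 2 :=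
  index_le_two (hfix x hx1) K fun g hg => by
    rw [mul_assoc, ← Subgroup.mem_centralizer_singleton_iff.mp (hK hg), inv_mul_cancel_left]
    exact hx

/-- A stabiliser containing an involution is a point stabiliser of the ovoid. -/
theorem eq_bSub_of_even (α : Ω) {z : Cfsg.Sz F m} (hz : z ∈ stabilizer (Cfsg.Sz F m) α)
    (hz2 : orderOf z = 2) :
    ∃ k : Cfsg.Sz F m, stabilizer (Cfsg.Sz F m) (k • α) = ⊤ ∨
      stabilizer (Cfsg.Sz F m) (k • α) = bSub F m := by
  classical
  have h := thSq_of_card hF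
  have hzz : z * z = 1 := by rw [← sq, ← hz2, pow_orderOf_eq_one]
  obtain ⟨p, hp, hzp⟩ := exists_fixed_point hzz
  obtain ⟨k, hk⟩ : ∃ k : Cfsg.Sz F m, k • p = pInf F := by
    have : p ∈ orbit (Cfsg.Sz F m) (pInf F) := by rw [orbit_pInf hF]; exact hp
    obtain ⟨k, rfl⟩ := this
    exact ⟨k⁻¹, inv_smul_smul k _⟩
  refine ⟨k, ?_⟩
  obtain ⟨H, hH⟩ : ∃ H, H = stabilizer (Cfsg.Sz F m) (k • α) := ⟨_, rfl⟩
  have hyH : k * z * k⁻¹ ∈ H := by
    rw [hH, mem_stabilizer_iff, mul_smul, mul_smul, inv_smul_smul, mem_stabilizer_iff.mp hz]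
  have hyB : k * z * k⁻¹ ∈ bSub F m := by
    have := conj_smul_fix (k := k) hzp
    rwa [hk] at this
  have hy1 : k * z * k⁻¹ ≠ 1 := fun e => by
    rw [conj_eq_one_iff] at e
    rw [e, orderOf_one] at hz2
    omega
  obtain ⟨a, b, s, hy⟩ := exists_of_mem_bSub hm hF hyB
  -- the involution lies in the centre of the unipotent radical
  have hyZ : ∃ b₀, k * z * k⁻¹ = tG h 0 b₀ := by
    have hyy : k * z * k⁻¹ * (k * z * k⁻¹) = 1 := by
      rw [show k * z * k⁻¹ * (k * z * k⁻¹) = k * (z * z) * k⁻¹ by group, hzz, mul_one, mul_inv_cancel]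
    have hyo : orderOf (k * z * k⁻¹) = 2 :=
      (MulEquiv.orderOf_eq (MulAut.conj k) z).trans hz2
    by_cases hu : k * z * k⁻¹ ∈ uSub h
    · obtain ⟨a', b', e⟩ := hu
      refine ⟨b', ?_⟩
      by_cases ha' : a' = 0
      · rw [e, ha']
      · rw [e, orderOf_tG_of_ne_zero h ha'] at hyo
        omega
    · obtain ⟨k', s', hs', e⟩ := exists_conj_hG hm hF hyB hu
      have ho : orderOf (hG h s') = 2 := by
        rw [← e]; exact (MulEquiv.orderOf_eq (MulAut.conj k') _).trans hyo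
      rw [orderOf_injective (hG h) (hG_injective h)] at ho
      exact absurd (ho ▸ orderOf_dvd_natCard s') (by
        rw [Nat.card_units, Nat.card_eq_fintype_card]; exact card_units_odd hF)
  obtain ⟨b₀, hb₀⟩ := hyZ
  have hb0 : b₀ ≠ 0 := fun e => hy1 (by rw [hb₀, e, tG_zero])
  have hUc : uSub h ≤ Subgroup.centralizer {k * z * k⁻¹} := by
    rintro _ ⟨a', b', rfl⟩
    rw [Subgroup.mem_centralizer_singleton_iff, hb₀, tG_mul, tG_mul, map_zero]
    congr 1
    · ring
    · ring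
  have hU := mem_of_index_le_two
    (centralizer_index_le hm hF hfix (k • α) (hH ▸ hyH) hy1 (uSub h) hUc)
  rw [← hH] at hU
  have hZ : ∀ c, tG h 0 c ∈ H := by
    intro c
    by_cases hc : c = 0
    · rw [hc, tG_zero]; exact one_mem H
    · obtain ⟨l, hl⟩ := exists_th_mul_self h hc
      have := hU.2 (tG h (l : F) 0) ⟨_, _, rfl⟩
      rwa [tG_sq, hl] at this
  have hB := mem_of_index_le_two (index_le_two (α := k • α) (hfix _ hy1) (bSub F m) (fun g hg => by
    obtain ⟨a', b', t, rfl⟩ := exists_of_mem_bSub hm hF hg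
    rw [← hH, hb₀, show (tG h a' b' * hG h t)⁻¹ * tG h 0 b₀ * (tG h a' b' * hG h t) =
      (hG h t)⁻¹ * ((tG h a' b')⁻¹ * (tG h 0 b₀ * tG h a' b')) * hG h t by group]
    have e : tG h 0 b₀ * tG h a' b' = tG h a' b' * tG h 0 b₀ := by
      rw [tG_mul, tG_mul, map_zero]; congr 1 <;> ring
    rw [e, inv_mul_cancel_left]
    have e2 := hG_conj h t⁻¹ (0 : F) b₀
    rw [map_inv, inv_inv, mul_zero] at e2
    rw [e2]
    exact hZ _))
  rw [← hH] at hB
  have hT : ∀ t, hG h t ∈ H := fun t => hB.1 _ (hG_mem_bSub h t) (by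
    rw [orderOf_injective (hG h) (hG_injective h)]
    refine Nat.not_even_iff_odd.mp fun he => card_units_odd hF ?_
    rw [← Nat.card_eq_fintype_card, ← Nat.card_units]
    exact (even_iff_two_dvd.mp he).trans (orderOf_dvd_natCard t))
  obtain ⟨t₁, ht₁⟩ := exists_unit_ne_one hm hF
  have hT2 : ∀ a' : F, tG h a' 0 * hG h t₁ * (tG h a' 0)⁻¹ ∈ H := fun a' => by
    refine hB.1 _ (mul_mem (mul_mem (tG_mem_bSub h _ _) (hG_mem_bSub h _)) (inv_mem (tG_mem_bSub h _ _))) ?_
    have e0 := MulEquiv.orderOf_eq (MulAut.conj (tG h a' 0)) (hG h t₁)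
    rw [MulAut.conj_apply] at e0
    rw [e0, orderOf_injective (hG h) (hG_injective h)]
    refine Nat.not_even_iff_odd.mp fun he => card_units_odd hF ?_
    rw [← Nat.card_eq_fintype_card, ← Nat.card_units]
    exact (even_iff_two_dvd.mp he).trans (orderOf_dvd_natCard t₁)
  have hU' : ∀ a' c, tG h a' c ∈ H := by
    intro a' c
    obtain ⟨x, hx⟩ : ∃ x, x + th m (t₁ : F) * x = a' := by
      refine ⟨a' / (1 + th m (t₁ : F)), ?_⟩
      have : (1 : F) + th m (t₁ : F) ≠ 0 := fun e =>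
        th_ne_one ht₁ (by linear_combination e - (CharTwo.two_eq_zero (R := F)))
      field_simp
    have h1 := mul_mem (hT2 x) (inv_mem (hT t₁))
    rw [show tG h x 0 * hG h t₁ * (tG h x 0)⁻¹ * (hG h t₁)⁻¹ =
      tG h x 0 * (hG h t₁ * (tG h x 0)⁻¹ * (hG h t₁)⁻¹) by simp only [mul_assoc], tG_inv, hG_conj,
      tG_mul, show th m (t₁ : F) * x + x = a' by rw [← hx, add_comm]] at h1
    set d := 0 + th m (t₁ : F) * (t₁ : F) ^ 2 * (0 + th m x * x) + th m x * (th m (t₁ : F) * x)
    have h2 := mul_mem h1 (hZ (c + d))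
    rw [tG_mul, zero_add] at h2
    convert h2 using 2
    linear_combination -(d + th m a' * 0) * (CharTwo.two_eq_zero (R := F))
  have hBH : bSub F m ≤ H := fun g hg => by
    obtain ⟨a', b', t, rfl⟩ := exists_of_mem_bSub hm hF hg
    exact mul_mem (hU' a' b') (hT t)
  rw [← hH]
  exact ((isCoatom_bSub hm hF).le_iff.mp hBH)

/-- A stabiliser of odd order containing a non-trivial element is conjugate to the split torus. -/
theorem card_of_odd (α : Ω) (hne : stabilizer (Cfsg.Sz F m) α ≠ ⊥)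
    (hodd : ∀ x ∈ stabilizer (Cfsg.Sz F m) α, orderOf x ≠ 2) :
    Nat.card (stabilizer (Cfsg.Sz F m) α) = Fintype.card F - 1 := by
  classical
  have h := thSq_of_card hF
  set H := stabilizer (Cfsg.Sz F m) α with hH
  have hall : ∀ x ∈ H, Odd (orderOf x) := by
    intro x hx
    rw [← Nat.not_even_iff_odd, even_iff_two_dvd]
    intro hd
    exact hodd _ (pow_mem hx (orderOf x / 2)) (orderOf_pow_orderOf_div (orderOf_pos x).ne' hd)
  -- no free elements
  have hnf : ∀ x ∈ H, ¬ Free x := by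
    intro x hx hfree
    have hA := hfree.isTorus hm hF
    set A := Subgroup.centralizer ({x} : Set (Cfsg.Sz F m))
    have hAH : A ≤ H := by
      intro g hg
      refine (mem_of_index_le_two (centralizer_index_le hm hF hfix α hx hfree.ne_one A le_rfl)).1 g hg ?_
      obtain ⟨hd, -⟩ := hA.numbers hm hF
      rw [← Nat.not_even_iff_odd, even_iff_two_dvd]
      intro he
      refine odd_card_ovoid hF (he.trans (dvd_trans ?_ hd))
      rw [show g = ((⟨g, hg⟩ : A) : Cfsg.Sz F m) from rfl, Subgroup.orderOf_coe]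
      exact orderOf_dvd_natCard _
    have hN := index_le_two (α := α) (hfix x hfree.ne_one)
      (Subgroup.normalizer (A : Set (Cfsg.Sz F m))) (fun g hg => hAH (by
        have := (Subgroup.mem_normalizer_iff.mp (inv_mem hg) x).mp
          (Subgroup.mem_centralizer_singleton_iff.mpr rfl)
        rwa [inv_inv] at this))
    obtain ⟨-, hN4⟩ := hA.card_mem hm hF
    rw [← hH] at hN
    -- an element of order two in `H ∩ N(A)`
    have hcard : 2 * Nat.card A ∣ Nat.card (H.subgroupOf (Subgroup.normalizer (A : Set (Cfsg.Sz F m)))) := by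
      have h1 := Subgroup.card_mul_index (H.subgroupOf (Subgroup.normalizer (A : Set (Cfsg.Sz F m))))
      have h0 : (H.subgroupOf (Subgroup.normalizer (A : Set (Cfsg.Sz F m)))).index ≠ 0 :=
        Subgroup.index_ne_zero_of_finite
      rw [hN4] at h1
      rcases (show (H.subgroupOf (Subgroup.normalizer (A : Set (Cfsg.Sz F m)))).index = 1 ∨
        (H.subgroupOf (Subgroup.normalizer (A : Set (Cfsg.Sz F m)))).index = 2 by omega) with h2 | h2 <;>
        rw [h2] at h1
      · exact ⟨2, by omega⟩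
      · exact ⟨1, by omega⟩
    have : Fact (Nat.Prime 2) := ⟨Nat.prime_two⟩
    obtain ⟨y, hy⟩ := exists_prime_orderOf_dvd_card' 2 ((dvd_mul_right 2 _).trans hcard)
    exact hodd _ (Subgroup.mem_subgroupOf.mp y.2) (by rw [Subgroup.orderOf_coe, Subgroup.orderOf_coe, hy])
  -- every non-trivial element lies in a conjugate of the torus inside `H`
  have htor : ∀ x ∈ H, x ≠ 1 → ∃ k : Cfsg.Sz F m, x ∈ (hSub h).map (MulAut.conj k).toMonoidHom ∧
      (hSub h).map (MulAut.conj k).toMonoidHom ≤ H := by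
    intro x hx hx1
    rcases conj_cases hm hF x with hf | ⟨k, hk⟩ | ⟨k, s, hs, hk⟩
    · exact absurd hf (hnf x hx)
    · exfalso
      obtain ⟨a, b, e⟩ := hk
      have hpow : x ^ 4 = 1 := by
        have e4 : (k * x * k⁻¹) ^ 4 = 1 := by
          rw [e]
          show tG h a b ^ (2 * 2) = 1
          rw [pow_mul, sq, sq, tG_sq, tG_sq, map_zero, zero_mul, tG_zero]
        rwa [conj_pow, conj_eq_one_iff] at e4
      have hd := orderOf_dvd_of_pow_eq_one hpow
      obtain ⟨i, -, hi⟩ := (Nat.dvd_prime_pow Nat.prime_two).mp (show orderOf x ∣ 2 ^ 2 from hd)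
      have := hall x hx
      rcases Nat.eq_zero_or_pos i with h0 | h0
      · rw [h0, pow_zero] at hi; exact hx1 (orderOf_eq_one_iff.mp hi)
      · rw [hi] at this
        exact Nat.not_even_iff_odd.mpr this (Nat.even_pow.mpr ⟨even_two, h0.ne'⟩)
    · refine ⟨k⁻¹, ⟨hG h s, ⟨s, rfl⟩, ?_⟩, ?_⟩
      · show k⁻¹ * hG h s * k⁻¹⁻¹ = x
        rw [← hk]; group
      rintro _ ⟨g, ⟨t, rfl⟩, rfl⟩
      refine (mem_of_index_le_two (centralizer_index_le hm hF hfix α hx hx1
        ((hSub h).map (MulAut.conj k⁻¹).toMonoidHom) ?_)).1 _ ⟨_, ⟨t, rfl⟩, rfl⟩ ?_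
      · rintro _ ⟨g, ⟨t', rfl⟩, rfl⟩
        rw [Subgroup.mem_centralizer_singleton_iff]
        show k⁻¹ * hG h t' * k⁻¹⁻¹ * x = x * (k⁻¹ * hG h t' * k⁻¹⁻¹)
        rw [show x = k⁻¹ * hG h s * k⁻¹⁻¹ by rw [← hk]; group]
        have : hG h t' * hG h s = hG h s * hG h t' := by rw [← map_mul, ← map_mul, mul_comm]
        calc k⁻¹ * hG h t' * k⁻¹⁻¹ * (k⁻¹ * hG h s * k⁻¹⁻¹) = k⁻¹ * (hG h t' * hG h s) * k⁻¹⁻¹ := by group
          _ = k⁻¹ * (hG h s * hG h t') * k⁻¹⁻¹ := by rw [this]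
          _ = _ := by group
      · rw [show ((MulAut.conj k⁻¹).toMonoidHom (hG h t)) = MulAut.conj k⁻¹ (hG h t) from rfl,
          MulEquiv.orderOf_eq, orderOf_injective (hG h) (hG_injective h)]
        refine Nat.not_even_iff_odd.mp fun he => card_units_odd hF ?_
        rw [← Nat.card_eq_fintype_card, ← Nat.card_units]
        exact (even_iff_two_dvd.mp he).trans (orderOf_dvd_natCard t)
  -- the conjugates are TI in `H`
  have hcen : ∀ (k : Cfsg.Sz F m) a, a ∈ (hSub h).map (MulAut.conj k).toMonoidHom → a ≠ 1 →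
      Subgroup.centralizer {a} = (hSub h).map (MulAut.conj k).toMonoidHom := by
    rintro k _ ⟨g, hg, rfl⟩ hne1
    have hg1 : g ≠ 1 := fun e => hne1 (by rw [e, map_one])
    have h0 := centralizer_of_mem_hSub hm hF g hg hg1
    ext y
    rw [Subgroup.mem_centralizer_singleton_iff, Subgroup.mem_map_equiv, ← h0,
      Subgroup.mem_centralizer_singleton_iff, ← (MulAut.conj k).symm.injective.eq_iff, map_mul, map_mul]
    simp only [MulEquiv.coe_toMonoidHom, MulEquiv.symm_apply_apply]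
  have hq2 := two_lt_card hm hF
  have hcount : ∀ k, (hSub h).map (MulAut.conj k).toMonoidHom ≤ H →
      ∃ T : Subgroup H, Nat.card T = Fintype.card F - 1 ∧
        T.map H.subtype = (hSub h).map (MulAut.conj k).toMonoidHom ∧
        (conjUnion T).ncard = T.index * (Nat.card T - 1) := by
    intro k hk
    obtain ⟨T, hTd⟩ : ∃ T : Subgroup H, T = ((hSub h).map (MulAut.conj k).toMonoidHom).subgroupOf H :=
      ⟨_, rfl⟩
    have hmap : T.map H.subtype = (hSub h).map (MulAut.conj k).toMonoidHom := by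
      rw [hTd, Subgroup.map_subgroupOf_eq_of_le hk]
    have hTc : Nat.card T = Fintype.card F - 1 := by
      rw [← Subgroup.card_map_of_injective H.subtype_injective, hmap,
        Subgroup.card_map_of_injective (MulAut.conj k).injective, card_hSub]
    have hT1 : ∀ a : H, a ∈ T ↔ (a : Cfsg.Sz F m) ∈ (hSub h).map (MulAut.conj k).toMonoidHom :=
      fun a => by rw [hTd]; rfl
    have hcenT : ∀ a, a ∈ T → a ≠ 1 → Subgroup.centralizer {a} = T := fun a ha ha1 => by
      ext y
      rw [Subgroup.mem_centralizer_singleton_iff, hT1,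
        ← hcen k a ((hT1 a).mp ha) (fun e => ha1 (Subtype.ext e)), Subgroup.mem_centralizer_singleton_iff]
      exact Subtype.ext_iff
    have hN : Subgroup.normalizer (T : Set H) = T := by
      refine le_antisymm ?_ Subgroup.le_normalizer
      intro y hy
      have hycard : (y : Cfsg.Sz F m) ∈ Subgroup.normalizer
          (((hSub h).map (MulAut.conj k).toMonoidHom : Subgroup (Cfsg.Sz F m)) : Set (Cfsg.Sz F m)) := by
        obtain ⟨s, hs⟩ := exists_unit_ne_one hm hF
        have ha : MulAut.conj k (hG h s) ∈ (hSub h).map (MulAut.conj k).toMonoidHom := ⟨_, ⟨s, rfl⟩, rfl⟩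
        exact ti_of_centralizer (hcen k) _ _ ha
          (fun e => hs (hG_injective h ((map_eq_one_iff _ (MulAut.conj k).injective).mp e |>.trans (map_one _).symm)))
          ((hT1 _).mp ((Subgroup.mem_normalizer_iff.mp hy ⟨_, hk ha⟩).mp ((hT1 _).mpr ha)))
      -- `N(T₀) = 2 (q - 1)` and `y` has odd order
      have hN2 : Nat.card (Subgroup.normalizer
          (((hSub h).map (MulAut.conj k).toMonoidHom : Subgroup (Cfsg.Sz F m)) : Set (Cfsg.Sz F m))) =
          2 * (Fintype.card F - 1) := by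
        rw [normalizer_map_conj, Subgroup.card_map_of_injective (MulAut.conj k).injective,
          card_normalizer_hSub hm hF]
      rw [hT1]
      have hidx : (((hSub h).map (MulAut.conj k).toMonoidHom).subgroupOf (Subgroup.normalizer
          (((hSub h).map (MulAut.conj k).toMonoidHom : Subgroup (Cfsg.Sz F m)) : Set (Cfsg.Sz F m)))).index ≤ 2 := by
        have h1 := Subgroup.card_mul_index (((hSub h).map (MulAut.conj k).toMonoidHom).subgroupOf (Subgroup.normalizer
          (((hSub h).map (MulAut.conj k).toMonoidHom : Subgroup (Cfsg.Sz F m)) : Set (Cfsg.Sz F m))))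
        rw [hN2, Nat.card_congr (Subgroup.subgroupOfEquivOfLe Subgroup.le_normalizer).toEquiv,
          Subgroup.card_map_of_injective (MulAut.conj k).injective, card_hSub, mul_comm] at h1
        exact (Nat.eq_of_mul_eq_mul_right (by omega) h1).le
      exact (mem_of_index_le_two hidx).1 _ hycard (hall _ y.2)
    refine ⟨T, hTc, hmap, ?_⟩
    rw [ncard_conjUnion (ti_of_centralizer hcenT), hN]
  obtain ⟨x₀, hx₀⟩ : ∃ x : H, x ≠ 1 := by
    have := (Subgroup.nontrivial_iff_ne_bot H).mpr hne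
    exact exists_ne 1
  obtain ⟨k, -, hk⟩ := htor _ x₀.2 (fun e => hx₀ (Subtype.ext e))
  obtain ⟨T, hTc, hTm, hTu⟩ := hcount k hk
  have hmul := Subgroup.card_mul_index T
  rw [hTc] at hmul
  have huniv : conjUnion T = {g : H | g ≠ 1} := by
    refine Set.eq_of_subset_of_subset (fun g hg => hg.1) fun y hy => ?_
    by_contra hyT
    obtain ⟨k', hyk', hk'⟩ := htor _ y.2 (fun e => hy (Subtype.ext e))
    obtain ⟨T', hT'c, hT'm, hT'u⟩ := hcount k' hk'
    have hmul' := Subgroup.card_mul_index T'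
    rw [hT'c] at hmul'
    have hyT' : y ∈ T' := by
      obtain ⟨y', hy', e⟩ := hT'm.ge hyk'
      rwa [← Subtype.ext e]
    have hdisj : Disjoint (conjUnion T) (conjUnion T') := by
      rw [Set.disjoint_left]
      rintro g ⟨hg, a, ha⟩ ⟨-, b, hb⟩
      apply hyT
      refine ⟨hy, ?_⟩
      have ha' : ((a * g * a⁻¹ : H) : Cfsg.Sz F m) ∈ (hSub h).map (MulAut.conj k).toMonoidHom :=
        hTm.le ⟨_, ha, rfl⟩
      have hb' : ((b * g * b⁻¹ : H) : Cfsg.Sz F m) ∈ (hSub h).map (MulAut.conj k').toMonoidHom :=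
        hT'm.le ⟨_, hb, rfl⟩
      have hne' : ∀ c : H, ((c * g * c⁻¹ : H) : Cfsg.Sz F m) ≠ 1 := fun c e =>
        hg (conj_eq_one_iff.mp (Subtype.ext e : c * g * c⁻¹ = 1))
      have c1 := hcen k _ ha' (hne' a)
      have c2 := hcen k' _ hb' (hne' b)
      refine ⟨a * b⁻¹, ?_⟩
      have hc : Commute (b * g * b⁻¹ : H) y := by
        have : (y : Cfsg.Sz F m) ∈ Subgroup.centralizer {((b * g * b⁻¹ : H) : Cfsg.Sz F m)} := c2.ge hyk'
        exact (Subtype.ext (Subgroup.mem_centralizer_singleton_iff.mp this)).symm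
      have hc' := hc.map (MulAut.conj (a * b⁻¹))
      have e1 : MulAut.conj (a * b⁻¹) (b * g * b⁻¹) = a * g * a⁻¹ := by
        simp [mul_assoc]
      rw [e1] at hc'
      have : ((a * b⁻¹ * y * (a * b⁻¹)⁻¹ : H) : Cfsg.Sz F m) ∈
          (hSub h).map (MulAut.conj k).toMonoidHom := by
        rw [← c1, Subgroup.mem_centralizer_singleton_iff]
        exact congrArg Subtype.val hc'.eq.symm
      obtain ⟨w, hw, e⟩ := hTm.ge this
      rwa [← Subtype.ext e]
    have hle := Set.ncard_le_ncard (show conjUnion T ∪ conjUnion T' ⊆ {g : H | g ≠ 1} from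
      Set.union_subset (fun g hg => hg.1) (fun g hg => hg.1))
    rw [Set.ncard_union_eq hdisj, hTu, hT'u, hTc, hT'c] at hle
    have hcompl : ({g : H | g ≠ 1} : Set H).ncard = Nat.card H - 1 := by
      rw [show ({g : H | g ≠ 1} : Set H) = {(1 : H)}ᶜ from rfl, Set.ncard_compl, Set.ncard_singleton]
    rw [hcompl] at hle
    obtain ⟨r, hr⟩ : ∃ r, Fintype.card F - 1 = r + 2 := ⟨Fintype.card F - 3, by omega⟩
    rw [hr] at hle hmul hmul'
    have hpos : 0 < Nat.card H := Nat.card_pos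
    rw [show r + 2 - 1 = r + 1 from rfl] at hle
    nlinarith [Nat.sub_add_cancel hpos]
  rw [huniv, show ({g : H | g ≠ 1} : Set H) = {(1 : H)}ᶜ from rfl, Set.ncard_compl, Set.ncard_singleton,
    hTc] at hTu
  obtain ⟨r, hr⟩ : ∃ r, Fintype.card F - 1 = r + 2 := ⟨Fintype.card F - 3, by omega⟩
  rw [hr] at hTu hmul ⊢
  rw [show r + 2 - 1 = r + 1 from rfl] at hTu
  have hpos : 0 < Nat.card H := Nat.card_pos
  nlinarith [Nat.sub_add_cancel hpos]

end

end CfsgLib.KnownB.SzFix

namespace CfsgLib.KnownB.SzFix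

open CfsgLib.Suzuki Cfsg MulAction

universe u v

variable {F : Type u} [Field F] [CharP F 2] [Fintype F] {m : ℕ}

/-- The dichotomy for a transitive action with fixity two. -/
theorem dichotomy (hm : 1 ≤ m) (hF : Fintype.card F = 2 ^ (2 * m + 1))
    {Ω : Type v} [MulAction (Cfsg.Sz F m) Ω] [Fintype Ω] [IsPretransitive (Cfsg.Sz F m) Ω]
    (hfix : ∀ g : Cfsg.Sz F m, g ≠ 1 → Nat.card (fixedBy Ω g) ≤ 2)
    (hex : ∃ g : Cfsg.Sz F m, g ≠ 1 ∧ Nat.card (fixedBy Ω g) = 2) :
    (Fintype.card Ω = Fintype.card F ^ 2 + 1 ∧ IsMultiplyPretransitive (Cfsg.Sz F m) Ω 2) ∨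
      (Fintype.card Ω = Fintype.card F ^ 2 * (Fintype.card F ^ 2 + 1) ∧
        ∀ α : Ω, Nat.card (stabilizer (Cfsg.Sz F m) α) = Fintype.card F - 1) := by
  classical
  have h := thSq_of_card hF
  obtain ⟨g₀, hg₀, hg2⟩ := hex
  obtain ⟨α, β, hαβ, hfb⟩ := Nat.card_eq_two_iff.mp hg2
  have hαg : g₀ ∈ stabilizer (Cfsg.Sz F m) (α : Ω) := α.2
  have hcard : ∀ γ : Ω, Fintype.card Ω * Nat.card (stabilizer (Cfsg.Sz F m) γ) =
      Nat.card (Cfsg.Sz F m) := fun γ => by
    rw [← Subgroup.card_mul_index (stabilizer (Cfsg.Sz F m) γ), index_stabilizer_of_transitive,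
      Nat.card_eq_fintype_card (α := Ω), mul_comm]
  have hnt : ∀ γ : Ω, stabilizer (Cfsg.Sz F m) γ ≠ ⊤ := by
    intro γ htop
    have h1 := hcard γ
    rw [htop, Subgroup.card_top] at h1
    have h2 : 1 < Fintype.card Ω := Fintype.one_lt_card_iff.mpr ⟨α, β, fun e => hαβ (Subtype.ext e)⟩
    have h3 : 0 < Nat.card (Cfsg.Sz F m) := Nat.card_pos
    nlinarith
  by_cases hev : ∃ z ∈ stabilizer (Cfsg.Sz F m) (α : Ω), orderOf z = 2
  · left
    obtain ⟨z, hz, hz2⟩ := hev
    obtain ⟨k, hk | hk⟩ := eq_bSub_of_even hm hF hfix (α : Ω) hz hz2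
    · exact absurd hk (hnt _)
    obtain ⟨γ, hγ⟩ : ∃ γ, γ = k • (α : Ω) := ⟨_, rfl⟩
    rw [← hγ] at hk
    refine ⟨?_, ?_⟩
    · have h1 := hcard γ
      rw [hk, ← Subgroup.card_mul_index (bSub F m), index_bSub hF, mul_comm] at h1
      exact Nat.eq_of_mul_eq_mul_left Nat.card_pos h1
    · rw [is_two_pretransitive_iff]
      have hiff : ∀ g g' : Cfsg.Sz F m, g • γ = g' • γ ↔ g • pInf F = g' • pInf F := by
        intro g g'
        have h2 : ∀ x, x ∈ stabilizer (Cfsg.Sz F m) γ ↔ x • pInf F = pInf F := fun x => by rw [hk]; rfl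
        have h3 := h2 (g'⁻¹ * g)
        rw [mem_stabilizer_iff, mul_smul, mul_smul, inv_smul_eq_iff, inv_smul_eq_iff] at h3
        exact h3
      obtain ⟨w, hw⟩ : ∃ w : Cfsg.Sz F m, w = wG h := ⟨_, rfl⟩
      have canon : ∀ a b : Ω, a ≠ b → ∃ g : Cfsg.Sz F m, g • a = γ ∧ g • b = w • γ := by
        intro a b hab
        obtain ⟨g1, rfl⟩ := exists_smul_eq (Cfsg.Sz F m) γ a
        obtain ⟨g2, rfl⟩ := exists_smul_eq (Cfsg.Sz F m) γ b
        have hinfmem : pInf F ∈ suzukiOvoid F m := mem_ovoid.2 (Or.inl rfl)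
        obtain ⟨g, hg1, hg2⟩ := exists_sz_two_point hF (smul_mem_ovoid g1.2 hinfmem)
          (smul_mem_ovoid g2.2 hinfmem) (fun e => hab ((hiff g1 g2).mpr e))
        refine ⟨g, ?_, ?_⟩
        · rw [← mul_smul]
          nth_rw 2 [← one_smul (Cfsg.Sz F m) γ]
          rw [hiff, mul_smul, one_smul]
          exact hg1
        · rw [← mul_smul, hiff, mul_smul, hw]
          exact hg2.trans wSL_smul_inf.symm
      intro a b c d hab hcd
      obtain ⟨g1, h1, h2⟩ := canon a b hab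
      obtain ⟨g2, h3, h4⟩ := canon c d hcd
      exact ⟨g2⁻¹ * g1, by rw [mul_smul, h1, ← h3, inv_smul_smul],
        by rw [mul_smul, h2, ← h4, inv_smul_smul]⟩
  · right
    push Not at hev
    have hne : stabilizer (Cfsg.Sz F m) (α : Ω) ≠ ⊥ := fun e => hg₀ (by
      rw [e] at hαg; exact Subgroup.mem_bot.mp hαg)
    have hT := card_of_odd hm hF hfix (α : Ω) hne hev
    have hall : ∀ γ : Ω, Nat.card (stabilizer (Cfsg.Sz F m) γ) = Fintype.card F - 1 := fun γ => by
      have h1 := hcard γ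
      rw [← hcard (α : Ω), hT] at h1
      exact Nat.eq_of_mul_eq_mul_left (Fintype.card_pos_iff.mpr ⟨γ⟩) h1
    refine ⟨?_, hall⟩
    have h1 := hcard α
    have hq2 := two_lt_card hm hF
    rw [hT, card_sz hm hF] at h1
    exact Nat.eq_of_mul_eq_mul_right (show 0 < Fintype.card F - 1 by omega) (by rw [h1]; ring)

end CfsgLib.KnownB.SzFix
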