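import Cfsg.Agent.Lib.KnownB.SzConjCover

/-!
# An element of `Sz(q)` as a product of two conjugates of itself, the first outside a given subgroup
-/

set_option autoImplicit false
set_option linter.unusedSectionVars false

namespace CfsgLib.KnownB.SzCh

open CfsgLib.Suzuki CfsgLib.Char
open scoped ComplexConjugate

section Criterion

variable {G : Type*} [Group G] [Fintype G] [Fintype (Cfsg.IrrCharacter G)]

/-- If `x` is the product of two of its conjugates more often than the normaliser of `S` allows,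
then it is such a product with the first factor outside `S`. -/
theorem exists_two_conj_notMem {S : Subgroup G} {x : G} (hx : x ∈ S) (hx1 : x ≠ 1)
    (hTI : ∀ w a : G, a ∈ S → a ≠ 1 → w * a * w⁻¹ ∈ S → w ∈ Subgroup.normalizer (S : Set G))
    (h : (Nat.card (Subgroup.normalizer (S : Set G)) : ℝ) <
      (Nat.card (ConjClasses.mk x).carrier : ℝ) * (frobSum x x).re) :
    ∃ u v : G, x = (u * x * u⁻¹) * (v * x * v⁻¹) ∧ u * x * u⁻¹ ∉ S := by
  classical
  by_contra hcon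
  push Not at hcon
  set T := Finset.univ.filter fun t : G => IsConj x (x * (t * x * t⁻¹)) with hT
  have h1 := CfsgLib.BlockB.sum_classFun_mul_conj
    (classIndicator_isClassFunction (ConjClasses.mk x)) x x
  have hL : ∑ t : G, classIndicator (ConjClasses.mk x) (x * (t * x * t⁻¹)) = (T.card : ℂ) := by
    rw [hT, ← Finset.sum_boole]
    refine Finset.sum_congr rfl fun t _ => ?_
    unfold classIndicator
    simp only [ConjClasses.mk_eq_mk_iff_isConj]
    exact if_congr ⟨fun e => e.symm, fun e => e.symm⟩ rfl rfl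
  have h2 : ∀ χ : Cfsg.IrrCharacter G,
      (Nat.card G : ℂ) * (Cfsg.classInner (classIndicator (ConjClasses.mk x)) (χ : G → ℂ) *
        (χ : G → ℂ) x * (χ : G → ℂ) x / (χ : G → ℂ) 1) =
      (Nat.card (ConjClasses.mk x).carrier : ℂ) *
        ((χ : G → ℂ) x ^ 2 * conj ((χ : G → ℂ) x) / (χ : G → ℂ) 1) := by
    intro χ
    rw [classInner_def, sum_classIndicator_mul _ _ (irr_isClassFunction χ.2) x rfl]
    have := natCard_ne_zero (G := G)
    field_simp
  rw [hL, Finset.mul_sum, Finset.sum_congr rfl fun χ _ => h2 χ, ← Finset.mul_sum] at h1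
  have h3 : (T.card : ℝ) = (Nat.card (ConjClasses.mk x).carrier : ℝ) * (frobSum x x).re := by
    have := congrArg Complex.re h1
    simpa [frobSum] using this
  rw [← h3, Nat.cast_lt, Nat.card_eq_fintype_card, Fintype.card_subtype] at h
  refine absurd (Finset.card_le_card fun t ht => ?_) (not_le.2 h)
  rw [hT, Finset.mem_filter] at ht
  obtain ⟨w, hw⟩ := isConj_iff.1 ht.2
  rw [Finset.mem_filter]
  refine ⟨Finset.mem_univ _, ?_⟩
  have hS : w⁻¹ * x * (w⁻¹)⁻¹ ∈ S := hcon w⁻¹ (w⁻¹ * t) (by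
    rw [eq_comm] at hw
    calc x = w⁻¹ * (w * x * w⁻¹) * w := by group
      _ = _ := by rw [← hw]; group)
  have hwN := hTI _ x hx hx1 hS
  have h4 : w * x * w⁻¹ ∈ S :=
    (Subgroup.mem_normalizer_iff.1 ((Subgroup.inv_mem_iff _).1 hwN) x).1 hx
  rw [hw, Subgroup.mul_mem_cancel_left _ hx] at h4
  exact hTI t x hx hx1 h4

theorem le_re_of_norm_sub {z : ℂ} (r d : ℝ) (h : ‖z - (r : ℂ)‖ ≤ d) : r - d ≤ z.re := by
  have := (Complex.abs_re_le_norm _).trans h
  rw [Complex.sub_re, Complex.ofReal_re, abs_le] at this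
  linarith

end Criterion

variable {F : Type*} [Field F] [CharP F 2] [Fintype F] {m : ℕ}
variable (hm : 1 ≤ m) (hF : Fintype.card F = 2 ^ (2 * m + 1))
variable [Fintype (Cfsg.Sz F m)] [Fintype (Cfsg.IrrCharacter (Cfsg.Sz F m))]

local notation "Kc" => ((2 : ℂ) ^ m)
local notation "Qc" => (2 * ((2 : ℂ) ^ m) ^ 2)
local notation "Kr" => ((2 : ℝ) ^ m)
local notation "Qr" => (2 * ((2 : ℝ) ^ m) ^ 2)
local notation "GG" => Cfsg.Sz F m
local notation "sX" => setX (F := F) (m := m)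
local notation "sY" => setY (F := F) (m := m)
local notation "sZ" => setZ (F := F) (m := m)
local notation "sW" => setW (F := F) (m := m)

include hm hF

theorem re_u {x : GG} (hx : x ∈ uSub (thSq_of_card hF)) (hxz : x ∉ zSub (thSq_of_card hF)) :
    1 / 2 ≤ (frobSum x x).re := by
  obtain ⟨-, sU, -, -, -, -⟩ := stChar_vals hm hF
  obtain ⟨hN, hW⟩ := setW_u hm hF
  obtain ⟨-, wU, -, -, -⟩ := wSum_vals hm hF
  have hk := k_cases hm hF
  have hk2 : 2 ≤ Kr := by rcases hk with h | h <;> linarith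
  have hQ : 8 ≤ Qr := by nlinarith
  have hnM : 5 ≤ Qr - 2 * Kr + 1 := by nlinarith
  have hnP : 13 ≤ Qr + 2 * Kr + 1 := by nlinarith
  have hN' : ((sX).card : ℝ) + (sY).card + (sZ).card = Qr - 1 := by
    apply Complex.ofReal_injective
    push_cast
    exact hN
  have c1 : (0 : ℝ) ≤ (sX).card := Nat.cast_nonneg _
  have c2 : (0 : ℝ) ≤ (sY).card := Nat.cast_nonneg _
  have c3 : (0 : ℝ) ≤ (sZ).card := Nat.cast_nonneg _
  have p1 : 0 < (Qr - 1) * (Qr - 2 * Kr + 1) := mul_pos (by linarith) (by linarith)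
  have p2 : 0 < (Qr - 1) * (Qr + 2 * Kr + 1) := mul_pos (by linarith) (by linarith)
  have base : frobSum x x = ((1 + (sX).card / (Qr ^ 2 + 1) -
      (sY).card / ((Qr - 1) * (Qr - 2 * Kr + 1)) -
      (sZ).card / ((Qr - 1) * (Qr + 2 * Kr + 1)) : ℝ) : ℂ) := by
    rw [frobSum_split hm hF (fun χ h => hW χ h x hx hxz), sU x hx hxz, wU x hx hxz,
      Finset.sum_congr (s₁ := sX) rfl fun χ h => by
        rw [(setX_vals hm hF h).2.1 x hx hxz, one_pow, one_mul, map_one],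
      Finset.sum_congr (s₁ := sY) rfl fun χ h => by
        rw [(setY_vals hm hF h).2.1 x hx hxz, neg_one_sq, one_mul, map_neg, map_one],
      Finset.sum_congr (s₁ := sZ) rfl fun χ h => by
        rw [(setZ_vals hm hF h).2.1 x hx hxz, neg_one_sq, one_mul, map_neg, map_one]]
    simp only [Finset.sum_const, nsmul_eq_mul, map_zero]
    push_cast
    ring
  rw [base, Complex.ofReal_re]
  have t1 : (sY).card / ((Qr - 1) * (Qr - 2 * Kr + 1)) ≤ 1 / 5 := by
    rw [div_le_iff₀ p1]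
    nlinarith
  have t2 : (sZ).card / ((Qr - 1) * (Qr + 2 * Kr + 1)) ≤ 1 / 13 := by
    rw [div_le_iff₀ p2]
    nlinarith
  have t3 : 0 ≤ (sX).card / (Qr ^ 2 + 1) := by positivity
  linarith

theorem re_h {x : GG} (hx : x ∈ hSub (thSq_of_card hF)) (hx1 : x ≠ 1) :
    1 / 16 ≤ (frobSum x x).re := by
  obtain ⟨-, -, sH, -, -, -⟩ := stChar_vals hm hF
  obtain ⟨i1, -, -, -, -, -, -, -, -, -, -, i12⟩ := ineqs (k_cases hm hF)
  have base : frobSum x x - ((1 + 1 / Qr ^ 2 : ℝ) : ℂ) =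
      (∑ χ ∈ sX, (χ : GG → ℂ) x ^ 2 * conj ((χ : GG → ℂ) x)) / (Qc ^ 2 + 1) := by
    rw [frobSum_split hm hF (wv := 0) (fun χ h => by
        rw [((mem_setW hm hF).1 h).1.2.2.1 x hx hx1, zero_pow two_ne_zero]),
      sH x hx hx1,
      Finset.sum_eq_zero (s := sY) fun χ h => by
        rw [(setY_vals hm hF h).2.2.1 x hx hx1, zero_pow two_ne_zero, zero_mul],
      Finset.sum_eq_zero (s := sZ) fun χ h => by
        rw [(setZ_vals hm hF h).2.2.1 x hx hx1, zero_pow two_ne_zero, zero_mul]]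
    simp only [map_one]
    push_cast
    ring
  refine le_trans ?_ (le_re_of_norm_sub (1 + 1 / Qr ^ 2) (2 * Qr / (Qr ^ 2 + 1)) ?_)
  · have : 0 ≤ 1 / Qr ^ 2 := by positivity
    linarith
  have e3 : ‖Qc ^ 2 + 1‖ = Qr ^ 2 + 1 := by
    rw [show Qc ^ 2 + 1 = ((Qr ^ 2 + 1 : ℝ) : ℂ) by push_cast; ring, Complex.norm_real,
      Real.norm_eq_abs, abs_of_pos (by positivity)]
  rw [base, norm_div, e3]
  gcongr
  refine (norm_sum_le _ _).trans ((Finset.sum_le_sum fun χ h => ?_).trans (b := ∑ χ ∈ sX,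
    2 * ‖(χ : GG → ℂ) x‖ ^ 2) ?_)
  · rw [norm_mul, norm_pow, Complex.norm_conj, mul_comm 2]
    gcongr
    exact (setX_vals hm hF h).2.2.2.2 x hx1
  · rw [← Finset.mul_sum, sum_X_sq hm hF hx hx1]
    linarith

theorem re_p {x : GG} (hx : x ∈ torP hm hF) (hx1 : x ≠ 1) : 1 / 16 ≤ (frobSum x x).re := by
  obtain ⟨-, -, -, sP, -, -⟩ := stChar_vals hm hF
  obtain ⟨-, -, -, wP, -⟩ := wSum_vals hm hF
  obtain ⟨hY2, -⟩ := sum_Y_sq hm hF hx hx1
  have hk := k_cases hm hF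
  have hk2 : 2 ≤ Kr := by rcases hk with h | h <;> linarith
  have hQ : 8 ≤ Qr := by nlinarith
  have hnM : 5 ≤ Qr - 2 * Kr + 1 := by nlinarith
  have p1 : 0 < (Qr - 1) * (Qr - 2 * Kr + 1) := mul_pos (by linarith) (by linarith)
  have e : frobSum x x - ((1 - 1 / Qr ^ 2 + 2 / (Kr * (Qr - 1)) : ℝ) : ℂ) =
      (∑ χ ∈ sY, (χ : GG → ℂ) x ^ 2 * conj ((χ : GG → ℂ) x)) /
        ((((Qr - 1) * (Qr - 2 * Kr + 1)) : ℝ) : ℂ) := by
    rw [frobSum_split hm hF (wv := 1) (fun χ h => by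
        rw [((mem_setW hm hF).1 h).1.2.2.2.1 x hx hx1, one_pow]),
      sP x hx hx1, wP x hx hx1,
      Finset.sum_eq_zero (s := sX) fun χ h => by
        rw [(setX_vals hm hF h).2.2.1 x hx hx1, zero_pow two_ne_zero, zero_mul],
      Finset.sum_eq_zero (s := sZ) fun χ h => by
        rw [(setZ_vals hm hF h).2.2.2.1 x hx hx1, zero_pow two_ne_zero, zero_mul]]
    simp only [map_neg, map_one, map_ofNat]
    push_cast
    ring
  refine le_trans ?_ (le_re_of_norm_sub (1 - 1 / Qr ^ 2 + 2 / (Kr * (Qr - 1)))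
    (4 * (Qr + 2 * Kr - 3) / ((Qr - 1) * (Qr - 2 * Kr + 1))) ?_)
  · rcases hk with hk | hk
    · rw [hk]; norm_num
    have hk' : 32 ≤ Qr := by nlinarith
    have b1 : 1 / Qr ^ 2 ≤ 1 / 64 := by
      rw [div_le_iff₀ (by positivity)]; nlinarith
    have b2 : 0 ≤ 2 / (Kr * (Qr - 1)) :=
      div_nonneg (by norm_num) (mul_nonneg (by linarith) (by linarith))
    have b3 : 4 * (Qr + 2 * Kr - 3) / ((Qr - 1) * (Qr - 2 * Kr + 1)) ≤ 1 / 2 := by
      rw [div_le_iff₀ p1]
      nlinarith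
    linarith
  rw [e, norm_div, Complex.norm_real, Real.norm_eq_abs, abs_of_pos p1]
  gcongr
  refine (norm_sum_le _ _).trans ((Finset.sum_le_sum fun χ h => ?_).trans (b := ∑ χ ∈ sY,
    4 * ‖(χ : GG → ℂ) x‖ ^ 2) ?_)
  · rw [norm_mul, norm_pow, Complex.norm_conj, mul_comm 4]
    gcongr
    exact (setY_vals hm hF h).2.2.2.2 x hx hx1
  · rw [← Finset.mul_sum, hY2]

theorem re_m {x : GG} (hx : x ∈ torM hm hF) (hx1 : x ≠ 1) : 1 / 16 ≤ (frobSum x x).re := by
  obtain ⟨-, -, -, -, sM, -⟩ := stChar_vals hm hF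
  obtain ⟨-, -, -, -, wM⟩ := wSum_vals hm hF
  obtain ⟨hZ2, -⟩ := sum_Z_sq hm hF hx hx1
  have hk := k_cases hm hF
  obtain ⟨i1, i2, -, -, -, -, -, -, -, i10, -, -⟩ := ineqs hk
  have hk2 : 2 ≤ Kr := by rcases hk with h | h <;> linarith
  have hQ : 8 ≤ Qr := by nlinarith
  have p2 : 0 < (Qr - 1) * (Qr + 2 * Kr + 1) := mul_pos (by linarith) (by linarith)
  have e : frobSum x x - ((1 - 1 / Qr ^ 2 - 2 / (Kr * (Qr - 1)) : ℝ) : ℂ) =
      (∑ χ ∈ sZ, (χ : GG → ℂ) x ^ 2 * conj ((χ : GG → ℂ) x)) /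
        ((((Qr - 1) * (Qr + 2 * Kr + 1)) : ℝ) : ℂ) := by
    rw [frobSum_split hm hF (wv := 1) (fun χ h => by
        rw [((mem_setW hm hF).1 h).1.2.2.2.2 x hx hx1, neg_one_sq]),
      sM x hx hx1, wM x hx hx1,
      Finset.sum_eq_zero (s := sX) fun χ h => by
        rw [(setX_vals hm hF h).2.2.2.1 x hx hx1, zero_pow two_ne_zero, zero_mul],
      Finset.sum_eq_zero (s := sY) fun χ h => by
        rw [(setY_vals hm hF h).2.2.2.1 x hx hx1, zero_pow two_ne_zero, zero_mul]]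
    simp only [map_neg, map_one, map_ofNat]
    push_cast
    ring
  refine le_trans ?_ (le_re_of_norm_sub (1 - 1 / Qr ^ 2 - 2 / (Kr * (Qr - 1)))
    (4 * (Qr - 2 * Kr - 3) / ((Qr - 1) * (Qr + 2 * Kr + 1))) ?_)
  · linarith
  rw [e, norm_div, Complex.norm_real, Real.norm_eq_abs, abs_of_pos p2]
  gcongr
  refine (norm_sum_le _ _).trans ((Finset.sum_le_sum fun χ h => ?_).trans (b := ∑ χ ∈ sZ,
    4 * ‖(χ : GG → ℂ) x‖ ^ 2) ?_)
  · rw [norm_mul, norm_pow, Complex.norm_conj, mul_comm 4]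
    gcongr
    exact (setZ_vals hm hF h).2.2.2.2 x hx hx1
  · rw [← Finset.mul_sum, hZ2]

omit [Fintype (Cfsg.IrrCharacter (Cfsg.Sz F m))] in
/-- An element of order four of `U` is a product of two of its conjugates lying outside `U`. -/
theorem four_outside {x : GG} (hx : x ∈ uSub (thSq_of_card hF))
    (hxz : x ∉ zSub (thSq_of_card hF)) :
    ∃ u v : GG, x = (u * x * u⁻¹) * (v * x * v⁻¹) ∧ u * x * u⁻¹ ∉ uSub (thSq_of_card hF) ∧
      v * x * v⁻¹ ∉ uSub (thSq_of_card hF) := by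
  have := Fintype.ofFinite (Cfsg.IrrCharacter GG)
  have hx1 : x ≠ 1 := fun e => hxz (e ▸ one_mem _)
  obtain ⟨u, v, e, hu⟩ := exists_two_conj_notMem hx hx1 (fun w a => ti_uSub hm hF w a) (by
    have hK := natCard_carrier_mul_centralizer (G := GG) x
    rw [card_centralizer_four hm hF hx hxz, card_sz hm hF] at hK
    rw [normalizer_uSub hm hF, card_bSub hm hF]
    refine lt_of_lt_of_le ?_
      (mul_le_mul_of_nonneg_left (re_u hm hF hx hxz) (Nat.cast_nonneg _))
    have h8 : 8 ≤ Fintype.card F := by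
      rw [hF]
      calc 8 = 2 ^ 3 := rfl
        _ ≤ _ := Nat.pow_le_pow_right (by norm_num) (by omega)
    generalize Fintype.card F = q at hK h8 ⊢
    generalize Nat.card (ConjClasses.mk x).carrier = K at hK ⊢
    obtain ⟨r, rfl⟩ : ∃ r, q = r + 1 := ⟨q - 1, by omega⟩
    rw [Nat.add_sub_cancel] at hK ⊢
    have hK' : (K : ℝ) * (2 * (r + 1)) = (r + 1) ^ 2 * r * ((r + 1) ^ 2 + 1) := by exact_mod_cast hK
    have hr : (7 : ℝ) ≤ r := by exact_mod_cast (show 7 ≤ r by omega)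
    push_cast
    have hp : (0 : ℝ) < (r + 1) ^ 2 * r := by positivity
    refine lt_of_mul_lt_mul_right ?_ (show (0 : ℝ) ≤ 4 * (r + 1) by positivity)
    rw [show (K : ℝ) * (1 / 2) * (4 * (r + 1)) = (K : ℝ) * (2 * (r + 1)) by ring, hK']
    exact mul_lt_mul_of_pos_left (by nlinarith) hp)
  refine ⟨u, v, e, hu, fun hv => hu ?_⟩
  rw [show u * x * u⁻¹ = x * (v * x * v⁻¹)⁻¹ by
    rw [eq_mul_inv_iff_mul_eq]; exact e.symm]
  exact mul_mem hx (inv_mem hv)

omit [Fintype (Cfsg.IrrCharacter (Cfsg.Sz F m))] in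
/-- A non-trivial element of one of the standard tori is a product of two of its conjugates, the
first outside the torus. -/
theorem cell_outside {A : Subgroup GG} (hA : A = hSub (thSq_of_card hF) ∨ A = torP hm hF ∨
    A = torM hm hF) {x : GG} (hx : x ∈ A) (hx1 : x ≠ 1) :
    ∃ u v : GG, x = (u * x * u⁻¹) * (v * x * v⁻¹) ∧ u * x * u⁻¹ ∉ A := by
  have := Fintype.ofFinite (Cfsg.IrrCharacter GG)
  have key : IsCell (thSq_of_card hF) A ∧ Nat.card A ≤ 2 * Fintype.card F ∧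
      Nat.card (Subgroup.normalizer (A : Set GG)) ≤ 4 * Nat.card A ∧
      1 / 16 ≤ (frobSum x x).re := by
    have hk := k_two_le hm
    have hsq : 2 * 2 ^ m ≤ (2 ^ m) ^ 2 := by rw [pow_two]; gcongr
    rcases hA with rfl | rfl | rfl
    · refine ⟨isCell_hSub hm hF, ?_, ?_, re_h hm hF hx hx1⟩
      · rw [card_hSub' hm hF, card_eq_two_sq hF]; omega
      · rw [card_normalizer_hSub' hm hF]; omega
    · refine ⟨isCell_torP hm hF, ?_, (card_normalizer_torP hm hF).le, re_p hm hF hx hx1⟩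
      rw [card_torP hm hF, card_eq_two_sq hF]
      have : 4 ≤ (2 ^ m) ^ 2 := by nlinarith
      omega
    · refine ⟨isCell_torM hm hF, ?_, (card_normalizer_torM hm hF).le, re_m hm hF hx hx1⟩
      rw [card_torM hm hF, card_eq_two_sq hF]; omega
  obtain ⟨hcell, hn, hN, hre⟩ := key
  refine exists_two_conj_notMem hx hx1 (fun w a => ti_cell hm hF hcell w a) ?_
  have hK := natCard_carrier_mul_centralizer (G := GG) x
  rw [hcell.centralizer_eq hm hF hx hx1, card_sz hm hF] at hK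
  refine lt_of_le_of_lt (show (Nat.card (Subgroup.normalizer (A : Set GG)) : ℝ) ≤
    4 * (Nat.card A : ℝ) by exact_mod_cast hN) ?_
  refine lt_of_lt_of_le ?_ (mul_le_mul_of_nonneg_left hre (Nat.cast_nonneg _))
  have h8 : 8 ≤ Fintype.card F := by
    rw [hF]
    calc 8 = 2 ^ 3 := rfl
      _ ≤ _ := Nat.pow_le_pow_right (by norm_num) (by omega)
  have hpos : 0 < Nat.card A := Nat.card_pos
  generalize Fintype.card F = q at hK h8 hn ⊢
  generalize Nat.card A = n at hK hn hpos ⊢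
  generalize Nat.card (ConjClasses.mk x).carrier = K at hK ⊢
  obtain ⟨r, rfl⟩ : ∃ r, q = r + 1 := ⟨q - 1, by omega⟩
  rw [Nat.add_sub_cancel] at hK
  have hK' : (K : ℝ) * n = (r + 1) ^ 2 * r * ((r + 1) ^ 2 + 1) := by exact_mod_cast hK
  have hr : (7 : ℝ) ≤ r := by exact_mod_cast (show 7 ≤ r by omega)
  have hn' : (n : ℝ) ≤ 2 * (r + 1) := by exact_mod_cast hn
  have hn0 : (0 : ℝ) < n := by exact_mod_cast hpos
  refine lt_of_mul_lt_mul_right ?_ hn0.le
  rw [show (K : ℝ) * (1 / 16) * n = (K : ℝ) * n / 16 by ring, hK', lt_div_iff₀ (by norm_num)]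
  calc 4 * (n : ℝ) * n * 16 ≤ 4 * (2 * (r + 1)) * (2 * (r + 1)) * 16 := by gcongr
    _ < (r + 1) ^ 2 * r * ((r + 1) ^ 2 + 1) := by
      have hp : (0 : ℝ) < (r + 1) ^ 2 := by positivity
      have : (256 : ℝ) < r * ((r + 1) ^ 2 + 1) := by nlinarith
      nlinarith

end CfsgLib.KnownB.SzCh
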