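import Cfsg.Agent.Lib.Suzuki.Centralizer

/-!
# `Sz(q)` is generated by two elements
-/

set_option autoImplicit false

namespace CfsgLib.KnownB.SzGen

open CfsgLib.Suzuki Cfsg

universe u

variable {F : Type u} [Field F] [CharP F 2] [Fintype F] {m : ℕ}

theorem exists_two_generators (hm : 1 ≤ m) (hF : Fintype.card F = 2 ^ (2 * m + 1)) :
    ∃ a b : Cfsg.Sz F m, Subgroup.closure ({a, b} : Set (Cfsg.Sz F m)) = ⊤ := by
  have h := thSq_of_card hF
  obtain ⟨γ, hγ⟩ := IsCyclic.exists_generator (α := Fˣ)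
  refine ⟨hG h γ, tG h 1 0 * wG h, ?_⟩
  set K := Subgroup.closure ({hG h γ, tG h 1 0 * wG h} : Set (Cfsg.Sz F m))
  have ha : hG h γ ∈ K := Subgroup.subset_closure (Set.mem_insert _ _)
  have hb : tG h 1 0 * wG h ∈ K := Subgroup.subset_closure (Set.mem_insert_of_mem _ rfl)
  have hall : ∀ s, hG h s ∈ K := fun s => by
    obtain ⟨i, rfl⟩ := hγ s
    show hG h (γ ^ i) ∈ K
    rw [map_zpow]
    exact zpow_mem ha i
  have ht : ∀ s, tG h 1 0 * hG h s * (tG h 1 0)⁻¹ ∈ K := fun s => by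
    have := mul_mem (mul_mem hb (hall s⁻¹)) (inv_mem hb)
    rwa [mul_inv_rev, show tG h 1 0 * wG h * hG h s⁻¹ * ((wG h)⁻¹ * (tG h 1 0)⁻¹) =
      tG h 1 0 * (wG h * hG h s⁻¹ * (wG h)⁻¹) * (tG h 1 0)⁻¹ by simp only [mul_assoc], hG_w,
      inv_inv] at this
  obtain ⟨s, hs⟩ := exists_unit_ne_one hm hF
  obtain ⟨a₀, b₀, ha0, hmem⟩ : ∃ a₀ b₀, a₀ ≠ 0 ∧ tG h a₀ b₀ ∈ K := by
    have := mul_mem (ht s) (inv_mem (hall s))
    rw [show tG h 1 0 * hG h s * (tG h 1 0)⁻¹ * (hG h s)⁻¹ =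
      tG h 1 0 * (hG h s * (tG h 1 0)⁻¹ * (hG h s)⁻¹) by simp only [mul_assoc], tG_inv, hG_conj,
      tG_mul] at this
    refine ⟨_, _, ?_, this⟩
    intro e
    apply th_ne_one (m := m) hs
    linear_combination e - (CharTwo.two_eq_zero (R := F))
  have hA : ∀ a : F, a ≠ 0 → ∃ b, tG h a b ∈ K := by
    intro a ha'
    obtain ⟨l, hl⟩ := th_surjective h (a / a₀)
    have hl0 : l ≠ 0 := by rintro rfl; simp [eq_comm, div_eq_zero_iff, ha', ha0] at hl
    have := mul_mem (mul_mem (hall (Units.mk0 l hl0)) hmem) (inv_mem (hall (Units.mk0 l hl0)))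
    rw [hG_conj, Units.val_mk0, hl, div_mul_cancel₀ _ ha0] at this
    exact ⟨_, this⟩
  have hZ : ∀ b : F, tG h 0 b ∈ K := by
    intro b
    by_cases hb0 : b = 0
    · rw [hb0, tG_zero]; exact one_mem K
    · obtain ⟨l, hl⟩ := exists_th_mul_self h hb0
      obtain ⟨b', hb'⟩ := hA (l : F) l.ne_zero
      have := mul_mem hb' hb'
      rwa [tG_sq, hl] at this
  have hU : ∀ a b, tG h a b ∈ K := by
    intro a b
    by_cases ha' : a = 0
    · rw [ha']; exact hZ b
    · obtain ⟨b', hb'⟩ := hA a ha'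
      have := mul_mem hb' (hZ (b + b'))
      rw [tG_mul] at this
      convert this using 2
      · simp
      · linear_combination -b' * (CharTwo.two_eq_zero (R := F))
  have hBK : bSub F m ≤ K := fun g hg => by
    obtain ⟨a, b, t, rfl⟩ := exists_of_mem_bSub hm hF hg
    exact mul_mem (hU a b) (hall t)
  have hwK : wG h ∈ K := by
    have := mul_mem (inv_mem (hU 1 0)) hb
    rwa [inv_mul_cancel_left] at this
  by_contra htop
  have he := ((isCoatom_bSub hm hF).le_iff.1 hBK).resolve_left htop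
  have hw : wG h ∈ bSub F m := he ▸ hwK
  exact pFin_ne_inf (m := m) (0 : F) 0 (wSL_smul_inf.symm.trans hw)

end CfsgLib.KnownB.SzGen
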