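import Cfsg.Agent.Lib.KnownB.SzTable

/-!
# Column sums of the character table of `Sz(q)`
-/

set_option autoImplicit false
set_option linter.unusedSectionVars false

namespace CfsgLib.KnownB.SzCh

open CfsgLib.Suzuki CfsgLib.Char
open scoped ComplexConjugate

variable {F : Type*} [Field F] [CharP F 2] [Fintype F] {m : ℕ}
variable (hm : 1 ≤ m) (hF : Fintype.card F = 2 ^ (2 * m + 1))
variable [Fintype (Cfsg.Sz F m)] [Fintype (Cfsg.IrrCharacter (Cfsg.Sz F m))]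

local notation "Kc" => ((2 : ℂ) ^ m)
local notation "Qc" => (2 * ((2 : ℂ) ^ m) ^ 2)
local notation "GG" => Cfsg.Sz F m
local notation "sX" => setX (F := F) (m := m)
local notation "sY" => setY (F := F) (m := m)
local notation "sZ" => setZ (F := F) (m := m)
local notation "sW" => setW (F := F) (m := m)

include hm hF

theorem one_of_deg {χ : Cfsg.IrrCharacter GG} :
    (χ ∈ sX → (χ : GG → ℂ) 1 = Qc ^ 2 + 1) ∧
    (χ ∈ sY → (χ : GG → ℂ) 1 = (Qc - 1) * (Qc - 2 * Kc + 1)) ∧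
    (χ ∈ sZ → (χ : GG → ℂ) 1 = (Qc - 1) * (Qc + 2 * Kc + 1)) ∧
    (χ ∈ sW → (χ : GG → ℂ) 1 = Kc * (Qc - 1)) := by
  refine ⟨fun h => ?_, fun h => ?_, fun h => ?_, fun h => ((mem_setW hm hF).1 h).1.1⟩
  · obtain ⟨lam, -, e⟩ := (mem_setX hm hF).1 h
    rw [e, xChar_one hm hF]
  · obtain ⟨lam, -, e⟩ := (mem_setY hm hF).1 h
    rw [e, yChar_one hm hF]
  · obtain ⟨lam, -, e⟩ := (mem_setZ hm hF).1 h
    rw [e, zChar_one hm hF]

/-- The first orthogonality between a column and the column of `1`. -/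
theorem col_one {g : GG} (hg : g ≠ 1) :
    1 + Qc ^ 2 * stChar hF g + (Qc ^ 2 + 1) * ∑ χ ∈ sX, (χ : GG → ℂ) g +
      (Qc - 1) * (Qc - 2 * Kc + 1) * ∑ χ ∈ sY, (χ : GG → ℂ) g +
      (Qc - 1) * (Qc + 2 * Kc + 1) * ∑ χ ∈ sZ, (χ : GG → ℂ) g +
      Kc * (Qc - 1) * wSum hF g = 0 := by
  classical
  have h := sum_irr_mul_degree g
  rw [if_neg hg, sum_split hm hF (fun χ => χ 1 * χ g), stChar_one hF,
    Finset.sum_congr (s₁ := sX) rfl fun χ h => by rw [(one_of_deg hm hF).1 h],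
    Finset.sum_congr (s₁ := sY) rfl fun χ h => by rw [(one_of_deg hm hF).2.1 h],
    Finset.sum_congr (s₁ := sZ) rfl fun χ h => by rw [(one_of_deg hm hF).2.2.1 h],
    Finset.sum_congr (s₁ := sW) rfl fun χ h => by rw [(one_of_deg hm hF).2.2.2 h],
    ← Finset.mul_sum sX, ← Finset.mul_sum sY, ← Finset.mul_sum sZ, ← Finset.mul_sum sW,
    (sum_setW hm hF).2, mul_one] at h
  linear_combination h

theorem sum_X_hSub {g : GG} (hg : g ∈ hSub (thSq_of_card hF)) (hg1 : g ≠ 1) :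
    ∑ χ ∈ sX, (χ : GG → ℂ) g = -1 := by
  obtain ⟨k1, k2, k3, k4, k5, k6⟩ := Kc_ne hm hF
  have h := col_one hm hF hg1
  rw [(stChar_vals hm hF).2.2.1 g hg hg1, (wSum_vals hm hF).2.2.1 g hg hg1,
    Finset.sum_eq_zero (s := sY) fun χ h => (setY_vals hm hF h).2.2.1 g hg hg1,
    Finset.sum_eq_zero (s := sZ) fun χ h => (setZ_vals hm hF h).2.2.1 g hg hg1] at h
  refine mul_left_cancel₀ k6 ?_
  linear_combination h

theorem sum_Y_torP {g : GG} (hg : g ∈ torP hm hF) (hg1 : g ≠ 1) :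
    ∑ χ ∈ sY, (χ : GG → ℂ) g = 1 := by
  obtain ⟨k1, k2, k3, k4, k5, k6⟩ := Kc_ne hm hF
  have h := col_one hm hF hg1
  rw [(stChar_vals hm hF).2.2.2.1 g hg hg1, (wSum_vals hm hF).2.2.2.1 g hg hg1,
    Finset.sum_eq_zero (s := sX) fun χ h => (setX_vals hm hF h).2.2.1 g hg hg1,
    Finset.sum_eq_zero (s := sZ) fun χ h => (setZ_vals hm hF h).2.2.2.1 g hg hg1] at h
  refine mul_left_cancel₀ (mul_ne_zero k3 k5) ?_
  linear_combination h

theorem sum_Z_torM {g : GG} (hg : g ∈ torM hm hF) (hg1 : g ≠ 1) :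
    ∑ χ ∈ sZ, (χ : GG → ℂ) g = 1 := by
  obtain ⟨k1, k2, k3, k4, k5, k6⟩ := Kc_ne hm hF
  have h := col_one hm hF hg1
  rw [(stChar_vals hm hF).2.2.2.2.1 g hg hg1, (wSum_vals hm hF).2.2.2.2 g hg hg1,
    Finset.sum_eq_zero (s := sX) fun χ h => (setX_vals hm hF h).2.2.2.1 g hg hg1,
    Finset.sum_eq_zero (s := sY) fun χ h => (setY_vals hm hF h).2.2.2.1 g hg hg1] at h
  refine mul_left_cancel₀ (mul_ne_zero k3 k4) ?_
  linear_combination h

theorem sum_X_sq {g : GG} (hg : g ∈ hSub (thSq_of_card hF)) (hg1 : g ≠ 1) :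
    ∑ χ ∈ sX, ‖(χ : GG → ℂ) g‖ ^ 2 = 2 * ((2 : ℝ) ^ m) ^ 2 - 3 := by
  classical
  have h := column_orthogonality g g
  rw [if_pos (IsConj.refl g), card_centralizer_cell hm hF (isCell_hSub hm hF) hg hg1,
    card_hSub_cast hm hF, sum_split hm hF (fun χ => χ g * conj (χ g)),
    (stChar_vals hm hF).2.2.1 g hg hg1,
    Finset.sum_eq_zero (s := sY) fun χ h => by
      rw [(setY_vals hm hF h).2.2.1 g hg hg1, zero_mul],
    Finset.sum_eq_zero (s := sZ) fun χ h => by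
      rw [(setZ_vals hm hF h).2.2.1 g hg hg1, zero_mul],
    Finset.sum_eq_zero (s := sW) fun χ h => by
      rw [((mem_setW hm hF).1 h).1.2.2.1 g hg hg1, zero_mul]] at h
  simp only [map_one, mul_one, add_zero, Complex.mul_conj'] at h
  apply Complex.ofReal_injective
  push_cast
  linear_combination h

theorem sum_Y_sq {g : GG} (hg : g ∈ torP hm hF) (hg1 : g ≠ 1) :
    ∑ χ ∈ sY, ‖(χ : GG → ℂ) g‖ ^ 2 = 2 * ((2 : ℝ) ^ m) ^ 2 + 2 * (2 : ℝ) ^ m - 3 ∧
    ∃ c : ℝ, -4 ≤ c ∧ c ≤ 2 * ((2 : ℝ) ^ m) ^ 2 + 2 * (2 : ℝ) ^ m - 3 ∧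
      ∑ χ ∈ sY, (χ : GG → ℂ) g ^ 2 = c := by
  classical
  obtain ⟨hcard, -⟩ := sum_setW hm hF
  have hk : (0 : ℝ) ≤ 2 * ((2 : ℝ) ^ m) ^ 2 + 2 * (2 : ℝ) ^ m := by positivity
  have gen : ∀ g' : GG, g' ∈ torP hm hF → g' ≠ 1 →
      ∑ χ ∈ sY, (χ : GG → ℂ) g * conj ((χ : GG → ℂ) g') =
        (if IsConj g g' then Qc + 2 * Kc + 1 else 0) - 4 := by
    intro g' hg' hg1'
    have h := column_orthogonality g g'
    rw [card_centralizer_cell hm hF (isCell_torP hm hF) hg hg1, card_torP_cast hm hF,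
      sum_split hm hF (fun χ => χ g * conj (χ g')),
      (stChar_vals hm hF).2.2.2.1 g hg hg1, (stChar_vals hm hF).2.2.2.1 g' hg' hg1',
      Finset.sum_eq_zero (s := sX) fun χ h => by
        rw [(setX_vals hm hF h).2.2.1 g hg hg1, zero_mul],
      Finset.sum_eq_zero (s := sZ) fun χ h => by
        rw [(setZ_vals hm hF h).2.2.2.1 g hg hg1, zero_mul],
      Finset.sum_congr (s₁ := sW) rfl fun χ h => by
        rw [((mem_setW hm hF).1 h).1.2.2.2.1 g hg hg1,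
          ((mem_setW hm hF).1 h).1.2.2.2.1 g' hg' hg1']] at h
    simp only [Finset.sum_const, nsmul_eq_mul, hcard, map_neg, map_one, neg_mul_neg, mul_one,
      add_zero] at h
    push_cast at h
    by_cases hc : IsConj g g' <;> simp only [hc, if_true, if_false] at h ⊢ <;> linear_combination h
  refine ⟨?_, ?_⟩
  · have h := gen g hg hg1
    rw [if_pos (IsConj.refl g)] at h
    simp only [Complex.mul_conj'] at h
    apply Complex.ofReal_injective
    push_cast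
    linear_combination h
  · have h := gen g⁻¹ (inv_mem hg) (inv_ne_one.2 hg1)
    simp only [char_inv (irr_isCharacter (Subtype.prop _)), Complex.conj_conj, ← pow_two] at h
    by_cases hc : IsConj g g⁻¹
    · rw [if_pos hc] at h
      refine ⟨2 * ((2 : ℝ) ^ m) ^ 2 + 2 * (2 : ℝ) ^ m - 3, by linarith, le_rfl, ?_⟩
      push_cast
      linear_combination h
    · rw [if_neg hc] at h
      refine ⟨-4, le_rfl, by linarith, ?_⟩
      push_cast
      linear_combination h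

theorem sum_Z_sq {g : GG} (hg : g ∈ torM hm hF) (hg1 : g ≠ 1) :
    ∑ χ ∈ sZ, ‖(χ : GG → ℂ) g‖ ^ 2 = 2 * ((2 : ℝ) ^ m) ^ 2 - 2 * (2 : ℝ) ^ m - 3 ∧
    ∃ c : ℝ, -4 ≤ c ∧ c ≤ 2 * ((2 : ℝ) ^ m) ^ 2 - 2 * (2 : ℝ) ^ m - 3 ∧
      ∑ χ ∈ sZ, (χ : GG → ℂ) g ^ 2 = c := by
  classical
  obtain ⟨hcard, -⟩ := sum_setW hm hF
  have hk2 : (2 : ℝ) ≤ (2 : ℝ) ^ m := by exact_mod_cast k_two_le hm
  have hk : (-1 : ℝ) ≤ 2 * ((2 : ℝ) ^ m) ^ 2 - 2 * (2 : ℝ) ^ m := by nlinarith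
  have gen : ∀ g' : GG, g' ∈ torM hm hF → g' ≠ 1 →
      ∑ χ ∈ sZ, (χ : GG → ℂ) g * conj ((χ : GG → ℂ) g') =
        (if IsConj g g' then Qc - 2 * Kc + 1 else 0) - 4 := by
    intro g' hg' hg1'
    have h := column_orthogonality g g'
    rw [card_centralizer_cell hm hF (isCell_torM hm hF) hg hg1, card_torM_cast hm hF,
      sum_split hm hF (fun χ => χ g * conj (χ g')),
      (stChar_vals hm hF).2.2.2.2.1 g hg hg1, (stChar_vals hm hF).2.2.2.2.1 g' hg' hg1',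
      Finset.sum_eq_zero (s := sX) fun χ h => by
        rw [(setX_vals hm hF h).2.2.2.1 g hg hg1, zero_mul],
      Finset.sum_eq_zero (s := sY) fun χ h => by
        rw [(setY_vals hm hF h).2.2.2.1 g hg hg1, zero_mul],
      Finset.sum_congr (s₁ := sW) rfl fun χ h => by
        rw [((mem_setW hm hF).1 h).1.2.2.2.2 g hg hg1,
          ((mem_setW hm hF).1 h).1.2.2.2.2 g' hg' hg1']] at h
    simp only [Finset.sum_const, nsmul_eq_mul, hcard, map_neg, map_one, neg_mul_neg, mul_one,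
      add_zero] at h
    push_cast at h
    by_cases hc : IsConj g g' <;> simp only [hc, if_true, if_false] at h ⊢ <;> linear_combination h
  refine ⟨?_, ?_⟩
  · have h := gen g hg hg1
    rw [if_pos (IsConj.refl g)] at h
    simp only [Complex.mul_conj'] at h
    apply Complex.ofReal_injective
    push_cast
    linear_combination h
  · have h := gen g⁻¹ (inv_mem hg) (inv_ne_one.2 hg1)
    simp only [char_inv (irr_isCharacter (Subtype.prop _)), Complex.conj_conj, ← pow_two] at h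
    by_cases hc : IsConj g g⁻¹
    · rw [if_pos hc] at h
      refine ⟨2 * ((2 : ℝ) ^ m) ^ 2 - 2 * (2 : ℝ) ^ m - 3, by linarith, le_rfl, ?_⟩
      push_cast
      linear_combination h
    · rw [if_neg hc] at h
      refine ⟨-4, le_rfl, by linarith, ?_⟩
      push_cast
      linear_combination h

end CfsgLib.KnownB.SzCh
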