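import Cfsg.Agent.Lib.KnownB.SzChars

/-!
# The character table of `Sz(q)`, by degrees

The irreducible characters are `1`, the Steinberg character and four sets, told apart by their
degrees `q² + 1`, `(q-1)(q-r+1)`, `(q-1)(q+r+1)`, `r(q-1)/2`.
-/

set_option autoImplicit false
set_option linter.unusedSectionVars false

namespace CfsgLib.KnownB.SzCh

open CfsgLib.Suzuki CfsgLib.Char
open scoped ComplexConjugate

variable {F : Type*} [Field F] [CharP F 2] [Fintype F] {m : ℕ}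
variable (hm : 1 ≤ m) (hF : Fintype.card F = 2 ^ (2 * m + 1))

local notation "Kc" => ((2 : ℂ) ^ m)
local notation "Qc" => (2 * ((2 : ℂ) ^ m) ^ 2)
local notation "GG" => Cfsg.Sz F m
local notation "Irr" => Cfsg.IrrCharacter (Cfsg.Sz F m)
local notation "QN" => (2 * ((2 : ℕ) ^ m) ^ 2)
local notation "KN" => ((2 : ℕ) ^ m)

include hm hF

/-- The four non-trivial degrees besides `q²` are different from each other and from `1`, `q²`. -/
theorem degrees_distinct :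
    (QN ^ 2 + 1 ≠ 1 ∧ QN ^ 2 + 1 ≠ QN ^ 2) ∧
    ((QN - 1) * (QN - 2 * KN + 1) ≠ 1 ∧ (QN - 1) * (QN - 2 * KN + 1) ≠ QN ^ 2 ∧
      (QN - 1) * (QN - 2 * KN + 1) ≠ QN ^ 2 + 1) ∧
    ((QN - 1) * (QN + 2 * KN + 1) ≠ 1 ∧ (QN - 1) * (QN + 2 * KN + 1) ≠ QN ^ 2 ∧
      (QN - 1) * (QN + 2 * KN + 1) ≠ QN ^ 2 + 1 ∧
      (QN - 1) * (QN + 2 * KN + 1) ≠ (QN - 1) * (QN - 2 * KN + 1)) ∧
    (KN * (QN - 1) ≠ 1 ∧ KN * (QN - 1) ≠ QN ^ 2 ∧ KN * (QN - 1) ≠ QN ^ 2 + 1 ∧
      KN * (QN - 1) ≠ (QN - 1) * (QN - 2 * KN + 1) ∧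
      KN * (QN - 1) ≠ (QN - 1) * (QN + 2 * KN + 1)) ∧ 1 ≠ QN ^ 2 := by
  have hk := k_two_le hm
  obtain ⟨K, hK⟩ : ∃ K : ℤ, ((KN : ℕ) : ℤ) = K := ⟨_, rfl⟩
  have hk' : 2 ≤ K := by rw [← hK]; exact_mod_cast hk
  have h1 : 1 ≤ QN := by nlinarith
  have h2 : 2 * KN ≤ QN := by nlinarith
  have a1 : 1 < 2 * K ^ 2 - 1 := by nlinarith
  have a2 : K < 2 * K ^ 2 - 2 * K + 1 := by nlinarith
  have a3 : (2 * K ^ 2 - 1) * (2 * K ^ 2 - 2 * K + 1) < (2 * K ^ 2) ^ 2 := by nlinarith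
  have a4 : (2 * K ^ 2) ^ 2 + 1 < (2 * K ^ 2 - 1) * (2 * K ^ 2 + 2 * K + 1) := by nlinarith
  have a5 : K * (2 * K ^ 2 - 1) < (2 * K ^ 2 - 1) * (2 * K ^ 2 - 2 * K + 1) := by nlinarith
  have a6 : 1 < K * (2 * K ^ 2 - 1) := by nlinarith
  zify [h1, h2]
  push_cast at hK ⊢
  rw [hK]
  refine ⟨⟨?_, ?_⟩, ⟨?_, ?_, ?_⟩, ⟨?_, ?_, ?_, ?_⟩, ⟨?_, ?_, ?_, ?_, ?_⟩, ?_⟩ <;> nlinarith

variable [Fintype (Cfsg.Sz F m)]

/-- The degrees, as complex numbers. -/
theorem degree_casts :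
    Qc ^ 2 + 1 = ((QN ^ 2 + 1 : ℕ) : ℂ) ∧
    (Qc - 1) * (Qc - 2 * Kc + 1) = (((QN - 1) * (QN - 2 * KN + 1) : ℕ) : ℂ) ∧
    (Qc - 1) * (Qc + 2 * Kc + 1) = (((QN - 1) * (QN + 2 * KN + 1) : ℕ) : ℂ) ∧
    Kc * (Qc - 1) = ((KN * (QN - 1) : ℕ) : ℂ) ∧ Qc ^ 2 = ((QN ^ 2 : ℕ) : ℂ) := by
  have hk := k_two_le hm
  have h1 : 1 ≤ QN := by nlinarith
  have h2 : 2 * KN ≤ QN := by nlinarith
  refine ⟨?_, ?_, ?_, ?_, ?_⟩ <;> (push_cast [Nat.cast_sub h1, Nat.cast_sub h2]; ring)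

/-- The irreducible characters of degree `q² + 1`. -/
noncomputable def setX [Fintype (Cfsg.IrrCharacter (Cfsg.Sz F m))] : Finset Irr :=
  open scoped _root_.Classical in Finset.univ.filter fun χ => (χ : GG → ℂ) 1 = Qc ^ 2 + 1

/-- The irreducible characters of degree `(q-1)(q-r+1)`. -/
noncomputable def setY [Fintype (Cfsg.IrrCharacter (Cfsg.Sz F m))] : Finset Irr :=
  open scoped _root_.Classical in
  Finset.univ.filter fun χ => (χ : GG → ℂ) 1 = (Qc - 1) * (Qc - 2 * Kc + 1)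

/-- The irreducible characters of degree `(q-1)(q+r+1)`. -/
noncomputable def setZ [Fintype (Cfsg.IrrCharacter (Cfsg.Sz F m))] : Finset Irr :=
  open scoped _root_.Classical in
  Finset.univ.filter fun χ => (χ : GG → ℂ) 1 = (Qc - 1) * (Qc + 2 * Kc + 1)

/-- The irreducible characters of degree `r(q-1)/2`. -/
noncomputable def setW [Fintype (Cfsg.IrrCharacter (Cfsg.Sz F m))] : Finset Irr :=
  open scoped _root_.Classical in Finset.univ.filter fun χ => (χ : GG → ℂ) 1 = Kc * (Qc - 1)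

variable [Fintype (Cfsg.IrrCharacter (Cfsg.Sz F m))]

omit hm in
theorem stChar_one : stChar hF (1 : GG) = Qc ^ 2 := by
  simp [stChar, tv]

theorem mem_setX {χ : Irr} : χ ∈ setX (F := F) (m := m) ↔
    ∃ lam, lam ≠ 1 ∧ (χ : GG → ℂ) = xChar hF lam := by
  classical
  obtain ⟨⟨x1, x2⟩, ⟨y1, y2, y3⟩, ⟨z1, z2, z3, z4⟩, ⟨w1, w2, w3, w4, w5⟩, -⟩ :=
    degrees_distinct hm hF
  obtain ⟨cX, cY, cZ, cW, cS⟩ := degree_casts hm hF
  simp only [setX, Finset.mem_filter, Finset.mem_univ, true_and]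
  refine ⟨fun h => ?_, fun ⟨lam, _, e⟩ => by rw [e, xChar_one hm hF]⟩
  rcases irr_cases hm hF χ.2 with e | e | e | ⟨lam, -, e⟩ | ⟨lam, -, e⟩ | ⟨e, -⟩
  · rw [e, cX] at h
    exact absurd (Nat.cast_injective (R := ℂ) (h.symm.trans Nat.cast_one.symm)) x1
  · rw [e, stChar_one hF, cX, cS, Nat.cast_inj] at h
    exact absurd h.symm x2
  · exact e
  · rw [e, yChar_one hm hF, cX, cY, Nat.cast_inj] at h
    exact absurd h y3
  · rw [e, zChar_one hm hF, cX, cZ, Nat.cast_inj] at h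
    exact absurd h z3
  · rw [e.1, cX, cW, Nat.cast_inj] at h
    exact absurd h w3

theorem mem_setY {χ : Irr} : χ ∈ setY (F := F) (m := m) ↔
    ∃ lam, lam ≠ 1 ∧ (χ : GG → ℂ) = yChar hm hF lam := by
  classical
  obtain ⟨⟨x1, x2⟩, ⟨y1, y2, y3⟩, ⟨z1, z2, z3, z4⟩, ⟨w1, w2, w3, w4, w5⟩, -⟩ :=
    degrees_distinct hm hF
  obtain ⟨cX, cY, cZ, cW, cS⟩ := degree_casts hm hF
  simp only [setY, Finset.mem_filter, Finset.mem_univ, true_and]
  refine ⟨fun h => ?_, fun ⟨lam, _, e⟩ => by rw [e, yChar_one hm hF]⟩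
  rcases irr_cases hm hF χ.2 with e | e | ⟨lam, -, e⟩ | e | ⟨lam, -, e⟩ | ⟨e, -⟩
  · rw [e, cY] at h
    exact absurd (Nat.cast_injective (R := ℂ) (h.symm.trans Nat.cast_one.symm)) y1
  · rw [e, stChar_one hF, cY, cS, Nat.cast_inj] at h
    exact absurd h.symm y2
  · rw [e, xChar_one hm hF, cX, cY, Nat.cast_inj] at h
    exact absurd h.symm y3
  · exact e
  · rw [e, zChar_one hm hF, cY, cZ, Nat.cast_inj] at h
    exact absurd h z4
  · rw [e.1, cY, cW, Nat.cast_inj] at h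
    exact absurd h w4

theorem mem_setZ {χ : Irr} : χ ∈ setZ (F := F) (m := m) ↔
    ∃ lam, lam ≠ 1 ∧ (χ : GG → ℂ) = zChar hm hF lam := by
  classical
  obtain ⟨⟨x1, x2⟩, ⟨y1, y2, y3⟩, ⟨z1, z2, z3, z4⟩, ⟨w1, w2, w3, w4, w5⟩, -⟩ :=
    degrees_distinct hm hF
  obtain ⟨cX, cY, cZ, cW, cS⟩ := degree_casts hm hF
  simp only [setZ, Finset.mem_filter, Finset.mem_univ, true_and]
  refine ⟨fun h => ?_, fun ⟨lam, _, e⟩ => by rw [e, zChar_one hm hF]⟩
  rcases irr_cases hm hF χ.2 with e | e | ⟨lam, -, e⟩ | ⟨lam, -, e⟩ | e | ⟨e, -⟩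
  · rw [e, cZ] at h
    exact absurd (Nat.cast_injective (R := ℂ) (h.symm.trans Nat.cast_one.symm)) z1
  · rw [e, stChar_one hF, cZ, cS, Nat.cast_inj] at h
    exact absurd h.symm z2
  · rw [e, xChar_one hm hF, cX, cZ, Nat.cast_inj] at h
    exact absurd h.symm z3
  · rw [e, yChar_one hm hF, cY, cZ, Nat.cast_inj] at h
    exact absurd h.symm z4
  · exact e
  · rw [e.1, cZ, cW, Nat.cast_inj] at h
    exact absurd h w5

theorem mem_setW {χ : Irr} : χ ∈ setW (F := F) (m := m) ↔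
    IsW hm hF (χ : GG → ℂ) ∧ Cfsg.classInner (wSum hF) (χ : GG → ℂ) = 1 := by
  classical
  obtain ⟨⟨x1, x2⟩, ⟨y1, y2, y3⟩, ⟨z1, z2, z3, z4⟩, ⟨w1, w2, w3, w4, w5⟩, -⟩ :=
    degrees_distinct hm hF
  obtain ⟨cX, cY, cZ, cW, cS⟩ := degree_casts hm hF
  simp only [setW, Finset.mem_filter, Finset.mem_univ, true_and]
  refine ⟨fun h => ?_, fun e => e.1.1⟩
  rcases irr_cases hm hF χ.2 with e | e | ⟨lam, -, e⟩ | ⟨lam, -, e⟩ | ⟨lam, -, e⟩ | e
  · rw [e, cW] at h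
    exact absurd (Nat.cast_injective (R := ℂ) (h.symm.trans Nat.cast_one.symm)) w1
  · rw [e, stChar_one hF, cW, cS, Nat.cast_inj] at h
    exact absurd h.symm w2
  · rw [e, xChar_one hm hF, cX, cW, Nat.cast_inj] at h
    exact absurd h.symm w3
  · rw [e, yChar_one hm hF, cY, cW, Nat.cast_inj] at h
    exact absurd h.symm w4
  · rw [e, zChar_one hm hF, cZ, cW, Nat.cast_inj] at h
    exact absurd h.symm w5
  · exact e

/-- Sums over the irreducible characters, split by type. -/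
theorem sum_split (Φ : (GG → ℂ) → ℂ) :
    ∑ χ : Irr, Φ χ = Φ (fun _ => 1) + Φ (stChar hF) + ∑ χ ∈ setX (F := F) (m := m), Φ χ +
      ∑ χ ∈ setY (F := F) (m := m), Φ χ + ∑ χ ∈ setZ (F := F) (m := m), Φ χ +
      ∑ χ ∈ setW (F := F) (m := m), Φ χ := by
  classical
  obtain ⟨⟨x1, x2⟩, ⟨y1, y2, y3⟩, ⟨z1, z2, z3, z4⟩, ⟨w1, w2, w3, w4, w5⟩, s1⟩ :=
    degrees_distinct hm hF
  obtain ⟨cX, cY, cZ, cW, cS⟩ := degree_casts hm hF
  have hne : ∀ {a b : ℕ}, a ≠ b → ∀ {c d : ℂ}, c = a → d = b → c ≠ d :=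
    fun h _ _ h1 h2 e => h (Nat.cast_inj.1 (h1.symm.trans (e.trans h2)))
  have split : ∀ χ : Irr, Φ χ =
      (if χ = ⟨fun _ => 1, isIrrCharacter_one⟩ then Φ χ else 0) +
      (if χ = ⟨stChar hF, isIrr_st hm hF⟩ then Φ χ else 0) +
      (if χ ∈ setX (F := F) (m := m) then Φ χ else 0) +
      (if χ ∈ setY (F := F) (m := m) then Φ χ else 0) +
      (if χ ∈ setZ (F := F) (m := m) then Φ χ else 0) +
      (if χ ∈ setW (F := F) (m := m) then Φ χ else 0) := by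
    intro χ
    have f1 : χ = (⟨fun _ => 1, isIrrCharacter_one⟩ : Irr) → (χ : GG → ℂ) 1 = ((1 : ℕ) : ℂ) :=
      fun e => by rw [e, Nat.cast_one]
    have f2 : χ = (⟨stChar hF, isIrr_st hm hF⟩ : Irr) → (χ : GG → ℂ) 1 = ((QN ^ 2 : ℕ) : ℂ) :=
      fun e => by rw [e, ← cS]; exact stChar_one hF
    have f3 : χ ∈ setX (F := F) (m := m) → (χ : GG → ℂ) 1 = ((QN ^ 2 + 1 : ℕ) : ℂ) :=
      fun h => by rw [← cX]; simpa [setX] using h
    have f4 : χ ∈ setY (F := F) (m := m) →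
        (χ : GG → ℂ) 1 = (((QN - 1) * (QN - 2 * KN + 1) : ℕ) : ℂ) :=
      fun h => by rw [← cY]; simpa [setY] using h
    have f5 : χ ∈ setZ (F := F) (m := m) →
        (χ : GG → ℂ) 1 = (((QN - 1) * (QN + 2 * KN + 1) : ℕ) : ℂ) :=
      fun h => by rw [← cZ]; simpa [setZ] using h
    have f6 : χ ∈ setW (F := F) (m := m) → (χ : GG → ℂ) 1 = ((KN * (QN - 1) : ℕ) : ℂ) :=
      fun h => by rw [← cW]; simpa [setW] using h
    have ex : ∀ {a b : ℕ}, (χ : GG → ℂ) 1 = (a : ℂ) → (χ : GG → ℂ) 1 = (b : ℂ) → a ≠ b → False :=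
      fun ha hb h => h (Nat.cast_inj.1 (ha.symm.trans hb))
    rcases irr_cases hm hF χ.2 with e | e | e | e | e | e
    · have h := f1 (Subtype.ext e)
      rw [if_pos (Subtype.ext e), if_neg fun c => ex h (f2 c) s1,
        if_neg fun c => ex (f3 c) h x1, if_neg fun c => ex (f4 c) h y1,
        if_neg fun c => ex (f5 c) h z1, if_neg fun c => ex (f6 c) h w1]
      ring
    · have h := f2 (Subtype.ext e)
      rw [if_neg fun c => ex (f1 c) h s1, if_pos (Subtype.ext e),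
        if_neg fun c => ex (f3 c) h x2, if_neg fun c => ex (f4 c) h y2,
        if_neg fun c => ex (f5 c) h z2, if_neg fun c => ex (f6 c) h w2]
      ring
    · have hm' := (mem_setX hm hF).2 e
      have h := f3 hm'
      rw [if_neg fun c => ex h (f1 c) x1, if_neg fun c => ex h (f2 c) x2, if_pos hm',
        if_neg fun c => ex (f4 c) h y3, if_neg fun c => ex (f5 c) h z3,
        if_neg fun c => ex (f6 c) h w3]
      ring
    · have hm' := (mem_setY hm hF).2 e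
      have h := f4 hm'
      rw [if_neg fun c => ex h (f1 c) y1, if_neg fun c => ex h (f2 c) y2,
        if_neg fun c => ex h (f3 c) y3, if_pos hm', if_neg fun c => ex (f5 c) h z4,
        if_neg fun c => ex (f6 c) h w4]
      ring
    · have hm' := (mem_setZ hm hF).2 e
      have h := f5 hm'
      rw [if_neg fun c => ex h (f1 c) z1, if_neg fun c => ex h (f2 c) z2,
        if_neg fun c => ex h (f3 c) z3, if_neg fun c => ex h (f4 c) z4, if_pos hm',
        if_neg fun c => ex (f6 c) h w5]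
      ring
    · have hm' := (mem_setW hm hF).2 e
      have h := f6 hm'
      rw [if_neg fun c => ex h (f1 c) w1, if_neg fun c => ex h (f2 c) w2,
        if_neg fun c => ex h (f3 c) w3, if_neg fun c => ex h (f4 c) w4,
        if_neg fun c => ex h (f5 c) w5, if_pos hm']
      ring
  rw [Finset.sum_congr rfl fun χ _ => split χ]
  simp only [Finset.sum_add_distrib, Finset.sum_ite_eq', Finset.mem_univ, if_true,
    Finset.sum_ite_mem, Finset.univ_inter]

/-- The values of the Steinberg character. -/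
theorem stChar_vals :
    (∀ g ∈ zSub (thSq_of_card hF), g ≠ 1 → stChar hF g = 0) ∧
    (∀ g ∈ uSub (thSq_of_card hF), g ∉ zSub (thSq_of_card hF) → stChar hF g = 0) ∧
    (∀ g ∈ hSub (thSq_of_card hF), g ≠ 1 → stChar hF g = 1) ∧
    (∀ g ∈ torP hm hF, g ≠ 1 → stChar hF g = -1) ∧
    (∀ g ∈ torM hm hF, g ≠ 1 → stChar hF g = -1) ∧
    ∀ g, g ≠ 1 → ‖stChar hF g‖ ≤ 1 := by
  refine ⟨fun g hg hg1 => ?_, fun g hg hg1 => ?_, fun g hg hg1 => ?_, fun g hg hg1 => ?_,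
    fun g hg hg1 => ?_, fun g hg1 => ?_⟩
  · rw [stChar, tv_z hm hF _ _ _ _ _ _ hg hg1, Int.cast_zero]
  · rw [stChar, tv_u hm hF _ _ _ _ _ _ hg hg1, Int.cast_zero]
  · rw [stChar, tv_hSub hm hF _ _ _ _ _ _ hg hg1, Int.cast_one]
  · rw [stChar, tv_torP hm hF _ _ _ _ _ _ hg hg1]; norm_num
  · rw [stChar, tv_torM hm hF _ _ _ _ _ _ hg hg1]; norm_num
  · simp only [stChar, tv, if_neg hg1]
    split_ifs <;> norm_num

omit [Fintype (Cfsg.IrrCharacter (Cfsg.Sz F m))] in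
theorem not_mem_conjUnion_of_card {A : Subgroup GG} (hA : IsCell (thSq_of_card hF) A)
    {B : Subgroup GG} (hB : IsCell (thSq_of_card hF) B) (hne : Nat.card A ≠ Nat.card B)
    {g : GG} (hg : g ∈ A) (hg1 : g ≠ 1) : g ∉ conjUnion B := fun h =>
  hne ((card_eq_of_mem_conjUnion hm hF hA ⟨hg1, 1, by simpa using hg⟩).symm.trans
    (card_eq_of_mem_conjUnion hm hF hB h))

omit [Fintype (Cfsg.IrrCharacter (Cfsg.Sz F m))] in
theorem not_mem_conjUnion_of_u {B : Subgroup GG} (hB : IsCell (thSq_of_card hF) B) {g : GG}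
    (hg : g ∈ uSub (thSq_of_card hF)) (hg1 : g ≠ 1) : g ∉ conjUnion B := fun h =>
  not_mem_u_of_cell hm hF hB h ⟨hg1, 1, by simpa using hg⟩

/-- The values of the characters of degree `q² + 1`. -/
theorem setX_vals {χ : Irr} (hχ : χ ∈ setX (F := F) (m := m)) :
    (∀ g ∈ zSub (thSq_of_card hF), g ≠ 1 → (χ : GG → ℂ) g = 1) ∧
    (∀ g ∈ uSub (thSq_of_card hF), g ∉ zSub (thSq_of_card hF) → (χ : GG → ℂ) g = 1) ∧
    (∀ g ∈ torP hm hF, g ≠ 1 → (χ : GG → ℂ) g = 0) ∧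
    (∀ g ∈ torM hm hF, g ≠ 1 → (χ : GG → ℂ) g = 0) ∧
    ∀ g, g ≠ 1 → ‖(χ : GG → ℂ) g‖ ≤ 2 := by
  obtain ⟨lam, -, e⟩ := (mem_setX hm hF).1 hχ
  have hd := cards_distinct hm
  have hH := isCell_hSub hm hF
  have cH := card_hSub' hm hF
  rw [e]
  refine ⟨fun g hg hg1 => ?_, fun g hg hg1 => ?_, fun g hg hg1 => ?_, fun g hg hg1 => ?_,
    fun g hg1 => ?_⟩
  · rw [xChar, tv_z hm hF _ _ _ _ _ _ hg hg1, indLin_eq_zero _ _ hg1
      (not_mem_conjUnion_of_u hm hF hH (zSub_le _ hg) hg1), Int.cast_one, add_zero]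
  · have hg1' : g ≠ 1 := fun h => hg1 (h ▸ one_mem _)
    rw [xChar, tv_u hm hF _ _ _ _ _ _ hg hg1, indLin_eq_zero _ _ hg1'
      (not_mem_conjUnion_of_u hm hF hH hg hg1'), Int.cast_one, add_zero]
  · rw [xChar, tv_torP hm hF _ _ _ _ _ _ hg hg1, indLin_eq_zero _ _ hg1
      (not_mem_conjUnion_of_card hm hF (isCell_torP hm hF) hH
        (by rw [card_torP hm hF, cH]; exact hd.1) hg hg1), Int.cast_zero, add_zero]
  · rw [xChar, tv_torM hm hF _ _ _ _ _ _ hg hg1, indLin_eq_zero _ _ hg1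
      (not_mem_conjUnion_of_card hm hF (isCell_torM hm hF) hH
        (by rw [card_torM hm hF, cH]; exact hd.2.1) hg hg1), Int.cast_zero, add_zero]
  · have hle := norm_indLin_le _ lam (ti_cell hm hF hH) (card_normalizer_hSub' hm hF) hg1
    by_cases hgH : g ∈ conjUnion (hSub (thSq_of_card hF))
    · obtain ⟨-, x, hx⟩ := hgH
      have h0 : tv hF ((2 * ((2 : ℤ) ^ m) ^ 2) ^ 2 * 0 +
          ((2 * ((2 : ℤ) ^ m) ^ 2) ^ 2 + 1) * (1 - (2 * ((2 : ℤ) ^ m) ^ 2) ^ 2)) 1 1 0 0 0 g = 0 := by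
        rw [← isClassFunction_tv hm hF _ _ _ _ _ _ g x,
          tv_hSub hm hF _ _ _ _ _ _ hx (fun h => hg1 (conj_eq_one_iff.1 h)), Int.cast_zero]
      rw [mul_zero, zero_add] at h0
      rw [xChar, h0, zero_add]
      exact_mod_cast hle
    · rw [xChar, indLin_eq_zero _ _ hg1 hgH, add_zero]
      simp only [tv, if_neg hg1]
      split_ifs <;> norm_num

/-- The values of the characters of degree `(q-1)(q-r+1)`. -/
theorem setY_vals {χ : Irr} (hχ : χ ∈ setY (F := F) (m := m)) :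
    (∀ g ∈ zSub (thSq_of_card hF), g ≠ 1 → (χ : GG → ℂ) g = 2 * Kc - 1) ∧
    (∀ g ∈ uSub (thSq_of_card hF), g ∉ zSub (thSq_of_card hF) → (χ : GG → ℂ) g = -1) ∧
    (∀ g ∈ hSub (thSq_of_card hF), g ≠ 1 → (χ : GG → ℂ) g = 0) ∧
    (∀ g ∈ torM hm hF, g ≠ 1 → (χ : GG → ℂ) g = 0) ∧
    ∀ g ∈ torP hm hF, g ≠ 1 → ‖(χ : GG → ℂ) g‖ ≤ 4 := by
  obtain ⟨lam, -, e⟩ := (mem_setY hm hF).1 hχ
  have hd := cards_distinct hm
  have hP := isCell_torP hm hF
  have cP := card_torP hm hF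
  rw [e]
  refine ⟨fun g hg hg1 => ?_, fun g hg hg1 => ?_, fun g hg hg1 => ?_, fun g hg hg1 => ?_,
    fun g hg hg1 => ?_⟩
  · rw [yChar, tv_z hm hF _ _ _ _ _ _ hg hg1, indLin_eq_zero _ _ hg1
      (not_mem_conjUnion_of_u hm hF hP (zSub_le _ hg) hg1)]
    push_cast
    ring
  · have hg1' : g ≠ 1 := fun h => hg1 (h ▸ one_mem _)
    rw [yChar, tv_u hm hF _ _ _ _ _ _ hg hg1, indLin_eq_zero _ _ hg1'
      (not_mem_conjUnion_of_u hm hF hP hg hg1')]
    push_cast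
    ring
  · rw [yChar, tv_hSub hm hF _ _ _ _ _ _ hg hg1, indLin_eq_zero _ _ hg1
      (not_mem_conjUnion_of_card hm hF (isCell_hSub hm hF) hP
        (by rw [card_hSub' hm hF, cP]; exact hd.1.symm) hg hg1), Int.cast_zero, sub_zero]
  · rw [yChar, tv_torM hm hF _ _ _ _ _ _ hg hg1, indLin_eq_zero _ _ hg1
      (not_mem_conjUnion_of_card hm hF (isCell_torM hm hF) hP
        (by rw [card_torM hm hF, cP]; exact hd.2.2.symm) hg hg1), Int.cast_zero, sub_zero]
  · rw [yChar, tv_torP hm hF _ _ _ _ _ _ hg hg1, Int.cast_zero, zero_sub, norm_neg]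
    exact_mod_cast norm_indLin_le _ lam (ti_cell hm hF hP) (card_normalizer_torP hm hF) hg1

/-- The values of the characters of degree `(q-1)(q+r+1)`. -/
theorem setZ_vals {χ : Irr} (hχ : χ ∈ setZ (F := F) (m := m)) :
    (∀ g ∈ zSub (thSq_of_card hF), g ≠ 1 → (χ : GG → ℂ) g = -(2 * Kc) - 1) ∧
    (∀ g ∈ uSub (thSq_of_card hF), g ∉ zSub (thSq_of_card hF) → (χ : GG → ℂ) g = -1) ∧
    (∀ g ∈ hSub (thSq_of_card hF), g ≠ 1 → (χ : GG → ℂ) g = 0) ∧
    (∀ g ∈ torP hm hF, g ≠ 1 → (χ : GG → ℂ) g = 0) ∧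
    ∀ g ∈ torM hm hF, g ≠ 1 → ‖(χ : GG → ℂ) g‖ ≤ 4 := by
  obtain ⟨lam, -, e⟩ := (mem_setZ hm hF).1 hχ
  have hd := cards_distinct hm
  have hM := isCell_torM hm hF
  have cM := card_torM hm hF
  rw [e]
  refine ⟨fun g hg hg1 => ?_, fun g hg hg1 => ?_, fun g hg hg1 => ?_, fun g hg hg1 => ?_,
    fun g hg hg1 => ?_⟩
  · rw [zChar, tv_z hm hF _ _ _ _ _ _ hg hg1, indLin_eq_zero _ _ hg1
      (not_mem_conjUnion_of_u hm hF hM (zSub_le _ hg) hg1)]
    push_cast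
    ring
  · have hg1' : g ≠ 1 := fun h => hg1 (h ▸ one_mem _)
    rw [zChar, tv_u hm hF _ _ _ _ _ _ hg hg1, indLin_eq_zero _ _ hg1'
      (not_mem_conjUnion_of_u hm hF hM hg hg1')]
    push_cast
    ring
  · rw [zChar, tv_hSub hm hF _ _ _ _ _ _ hg hg1, indLin_eq_zero _ _ hg1
      (not_mem_conjUnion_of_card hm hF (isCell_hSub hm hF) hM
        (by rw [card_hSub' hm hF, cM]; exact hd.2.1.symm) hg hg1), Int.cast_zero, sub_zero]
  · rw [zChar, tv_torP hm hF _ _ _ _ _ _ hg hg1, indLin_eq_zero _ _ hg1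
      (not_mem_conjUnion_of_card hm hF (isCell_torP hm hF) hM
        (by rw [card_torP hm hF, cM]; exact hd.2.2) hg hg1), Int.cast_zero, sub_zero]
  · rw [zChar, tv_torM hm hF _ _ _ _ _ _ hg hg1, Int.cast_zero, zero_sub, norm_neg]
    exact_mod_cast norm_indLin_le _ lam (ti_cell hm hF hM) (card_normalizer_torM hm hF) hg1

/-- The two characters of degree `r(q-1)/2` add up to `wSum`. -/
theorem sum_setW :
    (setW (F := F) (m := m)).card = 2 ∧
      ∀ g : GG, ∑ χ ∈ setW (F := F) (m := m), (χ : GG → ℂ) g = wSum hF g := by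
  classical
  obtain ⟨k1, k2, k3, k4, k5, k6⟩ := Kc_ne hm hF
  have hw := isClassFunction_tv hm hF (2 * 2 ^ m * (2 * (2 ^ m) ^ 2 - 1)) (-(2 * 2 ^ m)) 0 0 2 (-2)
  have coef : ∀ χ : Irr, Cfsg.classInner (wSum hF) (χ : GG → ℂ) =
      if χ ∈ setW (F := F) (m := m) then 1 else 0 := by
    intro χ
    split_ifs with h
    · exact ((mem_setW hm hF).1 h).2
    rcases irr_cases hm hF χ.2 with e | e | ⟨lam, hlam, e⟩ | ⟨lam, hlam, e⟩ | ⟨lam, hlam, e⟩ | e
    · have hone : (fun _ : GG => (1 : ℂ)) = tv hF 1 1 1 1 1 1 := by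
        funext g
        unfold tv
        split_ifs <;> simp
      rw [e, hone, wSum, classInner_tv_tv hm hF]
      push_cast
      generalize ((2 : ℂ) ^ m) = K at *
      obtain ⟨n4, n5, n6⟩ := nf_ne k4 k5 k6
      field_simp
      ring
    · rw [e, wSum, stChar, classInner_tv_tv hm hF]
      push_cast
      generalize ((2 : ℂ) ^ m) = K at *
      obtain ⟨n4, n5, n6⟩ := nf_ne k4 k5 k6
      field_simp
      ring
    · have e' : (χ : GG → ℂ) = tv hF (((2 * (2 ^ m) ^ 2) ^ 2 + 1) * (1 - (2 * (2 ^ m) ^ 2) ^ 2))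
          1 1 0 0 0 + indLin _ lam := e
      rw [e', classInner_add_right, wSum, classInner_tv_tv hm hF, ← classInner_conj_symm
        (indLin _ lam), classInner_indLin hlam hw
        (fun g hg hg1 => tv_hSub hm hF _ _ _ _ _ _ hg hg1), tv_one hm hF, card_hSub_cast hm hF]
      simp only [map_div₀, map_sub, Complex.conj_conj, map_mul, map_pow, map_ofNat, map_one,
        map_intCast]
      push_cast
      generalize ((2 : ℂ) ^ m) = K at *
      obtain ⟨n4, n5, n6⟩ := nf_ne k4 k5 k6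
      field_simp
      ring
    · have e' : (χ : GG → ℂ) = tv hF ((2 * (2 ^ m) ^ 2 - 1) * (2 * (2 ^ m) ^ 2 - 2 * 2 ^ m + 1) *
          ((2 * (2 ^ m) ^ 2) ^ 2 + 1)) (2 * 2 ^ m - 1) (-1) 0 0 0 - indLin _ lam := e
      rw [e', classInner_sub_right, wSum, classInner_tv_tv hm hF, ← classInner_conj_symm
        (indLin _ lam), classInner_indLin hlam hw
        (fun g hg hg1 => tv_torP hm hF _ _ _ _ _ _ hg hg1), tv_one hm hF, card_torP_cast hm hF]
      simp only [map_div₀, map_sub, map_add, Complex.conj_conj, map_mul, map_pow, map_ofNat,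
        map_one, map_intCast]
      push_cast
      generalize ((2 : ℂ) ^ m) = K at *
      obtain ⟨n4, n5, n6⟩ := nf_ne k4 k5 k6
      field_simp
      ring
    · have e' : (χ : GG → ℂ) = tv hF ((2 * (2 ^ m) ^ 2 - 1) * (2 * (2 ^ m) ^ 2 + 2 * 2 ^ m + 1) *
          ((2 * (2 ^ m) ^ 2) ^ 2 + 1)) (-(2 * 2 ^ m) - 1) (-1) 0 0 0 - indLin _ lam := e
      rw [e', classInner_sub_right, wSum, classInner_tv_tv hm hF, ← classInner_conj_symm
        (indLin _ lam), classInner_indLin hlam hw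
        (fun g hg hg1 => tv_torM hm hF _ _ _ _ _ _ hg hg1), tv_one hm hF, card_torM_cast hm hF]
      simp only [map_div₀, map_sub, map_add, Complex.conj_conj, map_mul, map_pow, map_ofNat,
        map_one, map_intCast]
      push_cast
      generalize ((2 : ℂ) ^ m) = K at *
      obtain ⟨n4, n5, n6⟩ := nf_ne k4 k5 k6
      field_simp
      ring
    · exact absurd ((mem_setW hm hF).2 e) h
  have hsum : ∀ g : GG, ∑ χ ∈ setW (F := F) (m := m), (χ : GG → ℂ) g = wSum hF g := by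
    intro g
    have h := classFunction_apply_eq_sum (ψ := wSum hF) hw g
    simp only [coef, ite_mul, one_mul, zero_mul, Finset.sum_ite_mem, Finset.univ_inter] at h
    exact h.symm
  refine ⟨?_, hsum⟩
  have h := hsum 1
  rw [Finset.sum_congr rfl fun χ hχ => ((mem_setW hm hF).1 hχ).1.1, Finset.sum_const, nsmul_eq_mul,
    wSum, tv_one hm hF] at h
  push_cast at h
  have h2 : ((setW (F := F) (m := m)).card : ℂ) = ((2 : ℕ) : ℂ) := by
    refine mul_right_cancel₀ (mul_ne_zero k1 k3) ?_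
    push_cast
    linear_combination h
  exact_mod_cast h2

omit [Fintype (Cfsg.IrrCharacter (Cfsg.Sz F m))] in
theorem wSum_vals :
    (∀ g ∈ zSub (thSq_of_card hF), g ≠ 1 → wSum hF g = -(2 * Kc)) ∧
    (∀ g ∈ uSub (thSq_of_card hF), g ∉ zSub (thSq_of_card hF) → wSum hF g = 0) ∧
    (∀ g ∈ hSub (thSq_of_card hF), g ≠ 1 → wSum hF g = 0) ∧
    (∀ g ∈ torP hm hF, g ≠ 1 → wSum hF g = 2) ∧
    ∀ g ∈ torM hm hF, g ≠ 1 → wSum hF g = -2 := by
  refine ⟨fun g hg hg1 => ?_, fun g hg hg1 => ?_, fun g hg hg1 => ?_, fun g hg hg1 => ?_,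
    fun g hg hg1 => ?_⟩
  · rw [wSum, tv_z hm hF _ _ _ _ _ _ hg hg1]; norm_num
  · rw [wSum, tv_u hm hF _ _ _ _ _ _ hg hg1, Int.cast_zero]
  · rw [wSum, tv_hSub hm hF _ _ _ _ _ _ hg hg1, Int.cast_zero]
  · rw [wSum, tv_torP hm hF _ _ _ _ _ _ hg hg1]; norm_num
  · rw [wSum, tv_torM hm hF _ _ _ _ _ _ hg hg1]; norm_num

omit [Fintype (Cfsg.IrrCharacter (Cfsg.Sz F m))] in
theorem card_centralizer_cell {A : Subgroup GG} (hA : IsCell (thSq_of_card hF) A) {g : GG}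
    (hg : g ∈ A) (hg1 : g ≠ 1) :
    Nat.card (Subgroup.centralizer ({g} : Set GG)) = Nat.card A := by
  rw [hA.centralizer_eq hm hF hg hg1]

/-- The number of characters in the three families and the values of the last two characters on
elements of order four. -/
theorem setW_u :
    ((setX (F := F) (m := m)).card : ℂ) + (setY (F := F) (m := m)).card +
        (setZ (F := F) (m := m)).card = Qc - 1 ∧
    ∀ χ ∈ setW (F := F) (m := m), ∀ g ∈ uSub (thSq_of_card hF), g ∉ zSub (thSq_of_card hF) →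
      (χ : GG → ℂ) g ^ 2 = -(Kc ^ 2) := by
  classical
  obtain ⟨k1, k2, k3, k4, k5, k6⟩ := Kc_ne hm hF
  obtain ⟨hcard, hsum⟩ := sum_setW hm hF
  obtain ⟨t, ht, ht1⟩ : ∃ t ∈ zSub (thSq_of_card hF), t ≠ 1 :=
    ⟨tG (thSq_of_card hF) 0 1, ⟨1, rfl⟩, fun e => one_ne_zero ((tG_eq_one _).1 e).2⟩
  obtain ⟨u, hu, huz⟩ : ∃ u ∈ uSub (thSq_of_card hF), u ∉ zSub (thSq_of_card hF) :=
    ⟨tG (thSq_of_card hF) 1 0, ⟨1, 0, rfl⟩, fun ⟨b, hb⟩ => one_ne_zero (tG_inj _ hb).1⟩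
  have hu1 : u ≠ 1 := fun e => huz (e ▸ one_mem _)
  obtain ⟨sZ, sU, -, -, -, -⟩ := stChar_vals hm hF
  obtain ⟨wZ, wU, -, -, -⟩ := wSum_vals hm hF
  have cC : (Nat.card (Subgroup.centralizer ({t} : Set GG)) : ℂ) = Qc ^ 2 := by
    rw [centralizer_zSub hm hF ht ht1, card_uSub_cast hm hF]
  have cU : ∀ g ∈ uSub (thSq_of_card hF), g ∉ zSub (thSq_of_card hF) →
      (Nat.card (Subgroup.centralizer ({g} : Set GG)) : ℂ) = 2 * Qc := fun g hg hgz => by
    rw [card_centralizer_four hm hF hg hgz, card_eq_two_sq hF]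
    push_cast
    ring
  have hX1 : ∀ χ ∈ setX (F := F) (m := m), (χ : GG → ℂ) 1 = Qc ^ 2 + 1 := fun χ h => by
    obtain ⟨lam, -, e⟩ := (mem_setX hm hF).1 h
    rw [e, xChar_one hm hF]
  have hY1 : ∀ χ ∈ setY (F := F) (m := m),
      (χ : GG → ℂ) 1 = (Qc - 1) * (Qc - 2 * Kc + 1) := fun χ h => by
    obtain ⟨lam, -, e⟩ := (mem_setY hm hF).1 h
    rw [e, yChar_one hm hF]
  have hZ1 : ∀ χ ∈ setZ (F := F) (m := m),
      (χ : GG → ℂ) 1 = (Qc - 1) * (Qc + 2 * Kc + 1) := fun χ h => by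
    obtain ⟨lam, -, e⟩ := (mem_setZ hm hF).1 h
    rw [e, zChar_one hm hF]
  have ea := column_orthogonality t t
  rw [if_pos (IsConj.refl t), cC,
    sum_split hm hF (fun χ => χ t * conj (χ t)), sZ t ht ht1,
    Finset.sum_congr (s₁ := setX (F := F) (m := m)) rfl fun χ h => by rw [(setX_vals hm hF h).1 t ht ht1],
    Finset.sum_congr (s₁ := setY (F := F) (m := m)) rfl fun χ h => by rw [(setY_vals hm hF h).1 t ht ht1],
    Finset.sum_congr (s₁ := setZ (F := F) (m := m)) rfl fun χ h => by rw [(setZ_vals hm hF h).1 t ht ht1],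
    Finset.sum_congr (s₁ := setW (F := F) (m := m)) rfl fun χ h => by rw [((mem_setW hm hF).1 h).1.2.1 t ht ht1]] at ea
  simp only [Finset.sum_const, nsmul_eq_mul, hcard, map_one, map_zero, map_sub, map_neg, map_mul,
    map_pow, map_ofNat] at ea
  push_cast at ea
  have ec := sum_irr_mul_degree t
  rw [if_neg ht1, sum_split hm hF (fun χ => χ 1 * χ t), sZ t ht ht1,
    Finset.sum_congr (s₁ := setX (F := F) (m := m)) rfl fun χ h => by rw [hX1 χ h, (setX_vals hm hF h).1 t ht ht1],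
    Finset.sum_congr (s₁ := setY (F := F) (m := m)) rfl fun χ h => by rw [hY1 χ h, (setY_vals hm hF h).1 t ht ht1],
    Finset.sum_congr (s₁ := setZ (F := F) (m := m)) rfl fun χ h => by rw [hZ1 χ h, (setZ_vals hm hF h).1 t ht ht1],
    Finset.sum_congr (s₁ := setW (F := F) (m := m)) rfl fun χ h => by
      rw [((mem_setW hm hF).1 h).1.1, ((mem_setW hm hF).1 h).1.2.1 t ht ht1]] at ec
  simp only [Finset.sum_const, nsmul_eq_mul, hcard, mul_zero] at ec
  push_cast at ec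
  have ed := sum_irr_mul_degree u
  rw [if_neg hu1, sum_split hm hF (fun χ => χ 1 * χ u), sU u hu huz,
    Finset.sum_congr (s₁ := setX (F := F) (m := m)) rfl fun χ h => by rw [hX1 χ h, (setX_vals hm hF h).2.1 u hu huz],
    Finset.sum_congr (s₁ := setY (F := F) (m := m)) rfl fun χ h => by rw [hY1 χ h, (setY_vals hm hF h).2.1 u hu huz],
    Finset.sum_congr (s₁ := setZ (F := F) (m := m)) rfl fun χ h => by rw [hZ1 χ h, (setZ_vals hm hF h).2.1 u hu huz],
    Finset.sum_congr (s₁ := setW (F := F) (m := m)) rfl fun χ h => by rw [((mem_setW hm hF).1 h).1.1],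
    ← Finset.mul_sum (setW (F := F) (m := m)), hsum, wU u hu huz] at ed
  simp only [Finset.sum_const, nsmul_eq_mul, mul_zero, mul_one] at ed
  generalize hNX : ((setX (F := F) (m := m)).card : ℂ) = N1 at ea ec ed
  generalize hNY : ((setY (F := F) (m := m)).card : ℂ) = N2 at ea ec ed
  generalize hNZ : ((setZ (F := F) (m := m)).card : ℂ) = N3 at ea ec ed
  have hN : N1 + N2 + N3 = Qc - 1 := by
    clear hNX hNY hNZ
    generalize ((2 : ℂ) ^ m) = K at *
    have hE : (2 * K ^ 2 - 2 * K + 1) * N2 - (2 * K ^ 2 + 2 * K + 1) * N3 = K := by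
      refine mul_left_cancel₀ (mul_ne_zero (mul_ne_zero two_ne_zero k1) k3) ?_
      linear_combination ec - ed
    obtain ⟨T, hT⟩ : ∃ T, T = (2 * K ^ 2 - 2 * K + 1) * N2 + (2 * K ^ 2 + 2 * K + 1) * N3 :=
      ⟨_, rfl⟩
    have hS : ((2 * K ^ 2) ^ 2 + 1) * (N2 + N3) = (2 * K ^ 2 + 1) * T + 2 * K ^ 2 := by
      subst hT
      linear_combination (2 * K) * hE
    have hX : ((2 * K ^ 2) ^ 2 + 1) * N1 = (2 * K ^ 2 - 1) * T - 1 := by
      subst hT
      linear_combination ed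
    have hTv : T = K ^ 2 * (2 * K ^ 2 - 1) := by
      refine mul_left_cancel₀ (mul_ne_zero two_ne_zero (pow_ne_zero 2 k2)) ?_
      subst hT
      linear_combination ((2 * K ^ 2) ^ 2 + 1) * ea - hX + hS
    refine mul_left_cancel₀ k6 ?_
    rw [hTv] at hS hX
    linear_combination hX + hS
  refine ⟨hN, fun χ hχ g hg hgz => ?_⟩
  have hg1 : g ≠ 1 := fun e => hgz (e ▸ one_mem _)
  have e2 := column_orthogonality g g
  rw [if_pos (IsConj.refl g), cU g hg hgz,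
    sum_split hm hF (fun χ => χ g * conj (χ g)), sU g hg hgz,
    Finset.sum_congr (s₁ := setX (F := F) (m := m)) rfl fun χ h => by rw [(setX_vals hm hF h).2.1 g hg hgz],
    Finset.sum_congr (s₁ := setY (F := F) (m := m)) rfl fun χ h => by rw [(setY_vals hm hF h).2.1 g hg hgz],
    Finset.sum_congr (s₁ := setZ (F := F) (m := m)) rfl fun χ h => by rw [(setZ_vals hm hF h).2.1 g hg hgz]] at e2
  simp only [Finset.sum_const, nsmul_eq_mul, map_one, map_zero, map_neg, mul_zero, mul_one,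
    neg_mul_neg, hNX, hNY, hNZ] at e2
  obtain ⟨ψ, ψ', hne, hW⟩ := Finset.card_eq_two.1 hcard
  have hs := hsum g
  rw [hW, Finset.sum_pair hne, wU g hg hgz] at hs
  rw [hW, Finset.sum_pair hne] at e2
  have hneg : (ψ' : GG → ℂ) g = -(ψ : GG → ℂ) g := by linear_combination hs
  rw [hneg, map_neg, neg_mul_neg] at e2
  have habs : (ψ : GG → ℂ) g * conj ((ψ : GG → ℂ) g) = Kc ^ 2 := by
    refine mul_left_cancel₀ (two_ne_zero (α := ℂ)) ?_
    linear_combination e2 - hN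
  have hconj : conj ((ψ : GG → ℂ) g) = -(ψ : GG → ℂ) g := by
    let cψ : Irr := ⟨_, isIrrCharacter_conj ψ.2⟩
    have hmem : cψ ∈ setW (F := F) (m := m) := by
      have h1 : ψ ∈ setW (F := F) (m := m) := by rw [hW]; simp
      simp only [setW, Finset.mem_filter, Finset.mem_univ, true_and] at h1 ⊢
      show conj ((ψ : GG → ℂ) 1) = _
      rw [h1]
      simp only [map_mul, map_sub, map_pow, map_ofNat, map_one]
    rw [hW, Finset.mem_insert, Finset.mem_singleton] at hmem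
    rcases hmem with h | h
    · exfalso
      refine not_isConj_inv hm hF hg hgz ((isConj_iff_forall_irr _ _).2 fun φ => ?_)
      rw [char_inv (irr_isCharacter φ.2)]
      have hr : conj ((ψ : GG → ℂ) g) = (ψ : GG → ℂ) g :=
        congrFun (congrArg Subtype.val h) g
      rcases irr_cases hm hF φ.2 with e | e | e | e | e | e
      · simp [e]
      · simp [e, sU g hg hgz]
      · simp [(setX_vals hm hF ((mem_setX hm hF).2 e)).2.1 g hg hgz]
      · simp [(setY_vals hm hF ((mem_setY hm hF).2 e)).2.1 g hg hgz]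
      · simp [(setZ_vals hm hF ((mem_setZ hm hF).2 e)).2.1 g hg hgz]
      · have h2 := (mem_setW hm hF).2 e
        rw [hW, Finset.mem_insert, Finset.mem_singleton] at h2
        rcases h2 with rfl | rfl
        · exact hr.symm
        · rw [hneg, map_neg, hr]
    · rw [← hneg]
      exact congrFun (congrArg Subtype.val h) g
  rw [hconj] at habs
  rw [hW, Finset.mem_insert, Finset.mem_singleton] at hχ
  rcases hχ with rfl | rfl
  · linear_combination -habs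
  · rw [hneg]
    linear_combination -habs

end CfsgLib.KnownB.SzCh
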