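import Cfsg.Agent.Lib.KnownB.SzClasses
import Cfsg.Agent.Lib.KnownB.SzDegree
import Cfsg.Agent.Lib.Char.Brauer
import Cfsg.Agent.Lib.Char.Linear
import Cfsg.Agent.Lib.Char.Column
import Cfsg.Agent.Lib.BlockA.CentralDefect
import Cfsg.Agent.Lib.BlockB.ClassMul

/-!
# Generalized characters of `Sz(q)` which are constant on each type of element
-/

set_option autoImplicit false
set_option linter.unusedSectionVars false

namespace CfsgLib.KnownB.SzCh

open CfsgLib.Suzuki CfsgLib.Char
open scoped ComplexConjugate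

section Generic

variable {G : Type*} [Group G] [Fintype G]

theorem sumPunct_eq (A : Subgroup G) (f : G → ℂ) :
    open scoped _root_.Classical in
    sumPunct A f = ∑ g : G, if g ∈ A ∧ g ≠ 1 then f g else 0 := by
  classical
  rw [← Finset.sum_filter, ← Finset.filter_filter, Finset.sum_filter,
    Finset.sum_subtype (Finset.univ.filter fun g : G => g ∈ A) (p := fun g => g ∈ A) (by simp)]
  unfold sumPunct
  exact Finset.sum_congr rfl fun a _ => by
    by_cases ha : a = 1
    · simp [ha]
    · rw [if_neg ha, if_pos (fun e : (a : G) = 1 => ha (Subtype.ext e))]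

theorem sumPunct_congr {A : Subgroup G} {f g : G → ℂ} (h : ∀ a ∈ A, a ≠ 1 → f a = g a) :
    sumPunct A f = sumPunct A g := by
  classical
  unfold sumPunct
  refine Finset.sum_congr rfl fun a _ => ?_
  by_cases ha : a = 1
  · simp [ha]
  · rw [if_neg ha, if_neg ha, h a a.2 fun e => ha (Subtype.ext e)]

theorem sumPunct_add (A : Subgroup G) (f g : G → ℂ) :
    sumPunct A (fun x => f x + g x) = sumPunct A f + sumPunct A g := by
  classical
  unfold sumPunct
  rw [← Finset.sum_add_distrib]
  exact Finset.sum_congr rfl fun a _ => by by_cases ha : a = 1 <;> simp [ha]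

theorem sumPunct_smul (A : Subgroup G) (r : ℂ) (f : G → ℂ) :
    sumPunct A (fun x => r * f x) = r * sumPunct A f := by
  classical
  unfold sumPunct
  rw [Finset.mul_sum]
  exact Finset.sum_congr rfl fun a _ => by by_cases ha : a = 1 <;> simp [ha]

theorem sumPunct_const (A : Subgroup G) (r : ℂ) :
    sumPunct A (fun _ => r) = ((Nat.card A : ℂ) - 1) * r := by
  classical
  unfold sumPunct
  rw [Finset.sum_ite, Finset.sum_const_zero, zero_add, Finset.sum_const, Finset.filter_ne',
    Finset.card_erase_of_mem (Finset.mem_univ _), Finset.card_univ, nsmul_eq_mul,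
    Nat.card_eq_fintype_card, Nat.cast_sub Fintype.card_pos, Nat.cast_one]

/-- The multiples of the regular and trivial characters are generalized characters. -/
theorem isGeneralized_triv_reg {H : Type*} [Group H] [Finite H] (a j : ℤ) {f : H → ℂ}
    (h1 : f 1 = a + j * (Nat.card H : ℂ)) (hne : ∀ x : H, x ≠ 1 → f x = a) :
    Cfsg.IsGeneralizedCharacter H f := by
  classical
  have := Fintype.ofFinite H
  have e : f = (a : ℂ) • (fun _ : H => (1 : ℂ)) +
      (j : ℂ) • (Representation.leftRegular ℂ H).character := by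
    funext x
    simp only [Pi.add_apply, Pi.smul_apply, smul_eq_mul, mul_one, char_leftRegular]
    split_ifs with hx
    · rw [hx, h1]
    · rw [hne x hx, mul_zero, add_zero]
  rw [e]
  exact isGeneralized_add (isGeneralized_zsmul (isGeneralized_of_isCharacter isCharacter_one) a)
    (isGeneralized_zsmul (isGeneralized_of_isCharacter (isCharacter_of_rep _)) j)

end Generic

theorem isGeneralized_comp' {G H : Type*} [Group G] [Group H] {θ : G → ℂ}
    (h : Cfsg.IsGeneralizedCharacter G θ) (f : H →* G) :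
    Cfsg.IsGeneralizedCharacter H (θ ∘ f) := by
  obtain ⟨a, b, ha, hb, rfl⟩ := h
  exact ⟨a ∘ f, b ∘ f, isCharacter_comp ha f, isCharacter_comp hb f, rfl⟩

variable {F : Type*} [Field F] [CharP F 2] [Fintype F] {m : ℕ}
variable (hm : 1 ≤ m) (hF : Fintype.card F = 2 ^ (2 * m + 1))

open scoped _root_.Classical in
/-- A function constant on the involutions, on the elements of order four and on each kind of
cell: `d` at `1`, `z` on involutions, `w` on elements of order four, `a`, `b`, `c` on the cells of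
order `q - 1`, `q + r + 1`, `q - r + 1`. -/
noncomputable def tv (d z w a b c : ℤ) : Cfsg.Sz F m → ℂ := fun g =>
  if g = 1 then d else if g ∈ conjUnion (zSub (thSq_of_card hF)) then z else
  if g ∈ conjUnion (uSub (thSq_of_card hF)) then w else
  if Nat.card (Subgroup.centralizer ({g} : Set (Cfsg.Sz F m))) = 2 * (2 ^ m) ^ 2 - 1 then a else
  if Nat.card (Subgroup.centralizer ({g} : Set (Cfsg.Sz F m))) = 2 * (2 ^ m) ^ 2 + 2 * 2 ^ m + 1
  then b else c

include hm hF

section Values

variable (d z w a b c : ℤ)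

theorem tv_one : tv hF d z w a b c 1 = d := by simp [tv]

theorem tv_z {g : Cfsg.Sz F m} (hg : g ∈ zSub (thSq_of_card hF)) (hg1 : g ≠ 1) :
    tv hF d z w a b c g = z := by
  simp only [tv, if_neg hg1]
  rw [if_pos ⟨hg1, 1, by simpa using hg⟩]

theorem tv_u {g : Cfsg.Sz F m} (hg : g ∈ uSub (thSq_of_card hF))
    (hgz : g ∉ zSub (thSq_of_card hF)) : tv hF d z w a b c g = w := by
  have hg1 : g ≠ 1 := fun e => hgz (e ▸ one_mem _)
  simp only [tv, if_neg hg1]
  rw [if_neg (fun ⟨_, x, hx⟩ => hgz (mem_zSub_of_conj hm hF hg hx)),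
    if_pos ⟨hg1, 1, by simpa using hg⟩]

theorem tv_cell {A : Subgroup (Cfsg.Sz F m)} (hA : IsCell (thSq_of_card hF) A)
    {g : Cfsg.Sz F m} (hg : g ∈ A) (hg1 : g ≠ 1) :
    tv hF d z w a b c g =
      if Nat.card A = 2 * (2 ^ m) ^ 2 - 1 then (a : ℂ) else
      if Nat.card A = 2 * (2 ^ m) ^ 2 + 2 * 2 ^ m + 1 then (b : ℂ) else c := by
  have hgA : g ∈ conjUnion A := ⟨hg1, 1, by simpa using hg⟩
  have hu := not_mem_u_of_cell hm hF hA hgA
  simp only [tv, if_neg hg1]
  rw [if_neg (fun ⟨h1, x, hx⟩ => hu ⟨h1, x, zSub_le _ hx⟩), if_neg hu,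
    card_eq_of_mem_conjUnion hm hF hA hgA]

theorem tv_hSub {g : Cfsg.Sz F m} (hg : g ∈ hSub (thSq_of_card hF)) (hg1 : g ≠ 1) :
    tv hF d z w a b c g = a := by
  rw [tv_cell hm hF d z w a b c (isCell_hSub hm hF) hg hg1, if_pos (card_hSub' hm hF)]

theorem tv_torP {g : Cfsg.Sz F m} (hg : g ∈ torP hm hF) (hg1 : g ≠ 1) :
    tv hF d z w a b c g = b := by
  rw [tv_cell hm hF d z w a b c (isCell_torP hm hF) hg hg1, card_torP hm hF,
    if_neg (cards_distinct hm).1, if_pos rfl]

theorem tv_torM {g : Cfsg.Sz F m} (hg : g ∈ torM hm hF) (hg1 : g ≠ 1) :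
    tv hF d z w a b c g = c := by
  rw [tv_cell hm hF d z w a b c (isCell_torM hm hF) hg hg1, card_torM hm hF,
    if_neg (cards_distinct hm).2.1, if_neg (cards_distinct hm).2.2.symm]

theorem isClassFunction_tv : Cfsg.IsClassFunction (Cfsg.Sz F m) (tv hF d z w a b c) := by
  classical
  intro g x
  have hc : Nat.card (Subgroup.centralizer ({x * g * x⁻¹} : Set (Cfsg.Sz F m))) =
      Nat.card (Subgroup.centralizer ({g} : Set (Cfsg.Sz F m))) := by
    rw [centralizer_conj, Subgroup.card_map_of_injective (MulAut.conj x).injective]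
  unfold tv
  rw [hc]
  exact if_congr conj_eq_one_iff rfl
    (if_congr (conjUnion_conj_iff g x) rfl (if_congr (conjUnion_conj_iff g x) rfl rfl))

theorem conj_tv (g : Cfsg.Sz F m) : conj (tv hF d z w a b c g) = tv hF d z w a b c g := by
  unfold tv
  split_ifs <;> exact map_intCast _ _

end Values

variable [Fintype (Cfsg.Sz F m)]

/-- The inner product of a type function with a class function. -/
theorem classInner_tv (d z w a b c : ℤ) {φ : Cfsg.Sz F m → ℂ}
    (hφ : Cfsg.IsClassFunction (Cfsg.Sz F m) φ) :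
    Cfsg.classInner (tv hF d z w a b c) φ =
      d * conj (φ 1) / (Nat.card (Cfsg.Sz F m) : ℂ) +
      (((z : ℂ) - w) * sumPunct (zSub (thSq_of_card hF)) (fun g => conj (φ g)) +
        w * sumPunct (uSub (thSq_of_card hF)) (fun g => conj (φ g))) /
        ((2 * (2 ^ m : ℂ) ^ 2) ^ 2 * (2 * (2 ^ m : ℂ) ^ 2 - 1)) +
      a * sumPunct (hSub (thSq_of_card hF)) (fun g => conj (φ g)) /
        (2 * (2 * (2 ^ m : ℂ) ^ 2 - 1)) +
      b * sumPunct (torP hm hF) (fun g => conj (φ g)) /
        (4 * (2 * (2 ^ m : ℂ) ^ 2 + 2 * 2 ^ m + 1)) +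
      c * sumPunct (torM hm hF) (fun g => conj (φ g)) /
        (4 * (2 * (2 ^ m : ℂ) ^ 2 - 2 * 2 ^ m + 1)) := by
  classical
  have hcf : Cfsg.IsClassFunction (Cfsg.Sz F m)
      (fun g => tv hF d z w a b c g * conj (φ g)) := fun g x => by
    simp only [isClassFunction_tv hm hF d z w a b c g x, hφ g x]
  rw [classInner_def, inv_mul_eq_div, sum_class_fun hm hF hcf, tv_one hm hF,
    sumPunct_congr (f := fun g => tv hF d z w a b c g * conj (φ g))
      (A := hSub (thSq_of_card hF)) (g := fun g => (a : ℂ) * conj (φ g))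
      (fun g hg hg1 => by rw [tv_hSub hm hF d z w a b c hg hg1]),
    sumPunct_congr (f := fun g => tv hF d z w a b c g * conj (φ g))
      (A := torP hm hF) (g := fun g => (b : ℂ) * conj (φ g))
      (fun g hg hg1 => by rw [tv_torP hm hF d z w a b c hg hg1]),
    sumPunct_congr (f := fun g => tv hF d z w a b c g * conj (φ g))
      (A := torM hm hF) (g := fun g => (c : ℂ) * conj (φ g))
      (fun g hg hg1 => by rw [tv_torM hm hF d z w a b c hg hg1]),
    sumPunct_congr (f := fun g => tv hF d z w a b c g * conj (φ g))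
      (A := uSub (thSq_of_card hF)) (g := fun g => (w : ℂ) * conj (φ g) +
        ((z : ℂ) - w) * if g ∈ zSub (thSq_of_card hF) then conj (φ g) else 0)
      (fun g hg hg1 => by
        by_cases hgz : g ∈ zSub (thSq_of_card hF)
        · rw [if_pos hgz, tv_z hm hF d z w a b c hgz hg1]
          ring
        · rw [if_neg hgz, tv_u hm hF d z w a b c hg hgz]
          ring),
    sumPunct_add, sumPunct_smul, sumPunct_smul, sumPunct_smul, sumPunct_smul, sumPunct_smul]
  have e : sumPunct (uSub (thSq_of_card hF))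
      (fun g => if g ∈ zSub (thSq_of_card hF) then conj (φ g) else 0) =
      sumPunct (zSub (thSq_of_card hF)) (fun g => conj (φ g)) := by
    rw [sumPunct_eq, sumPunct_eq]
    refine Finset.sum_congr rfl fun g _ => ?_
    by_cases hgz : g ∈ zSub (thSq_of_card hF)
    · simp [hgz, zSub_le (thSq_of_card hF) hgz]
    · simp [hgz]
  rw [e]
  ring

omit [Fintype (Cfsg.Sz F m)] in
theorem card_uSub' : Nat.card (uSub (thSq_of_card hF)) = (2 * (2 ^ m) ^ 2) ^ 2 := by
  rw [card_uSub, Nat.card_eq_fintype_card, card_eq_two_sq hF]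

omit [Fintype (Cfsg.Sz F m)] in
theorem card_zSub' : Nat.card (zSub (thSq_of_card hF)) = 2 * (2 ^ m) ^ 2 := by
  rw [card_zSub, Nat.card_eq_fintype_card, card_eq_two_sq hF]

omit [Fintype (Cfsg.Sz F m)] in
/-- The irreducible characters of `U` which are non-trivial on the centre have degree divisible
by `2^m`. -/
theorem degree_dvd {θ : uSub (thSq_of_card hF) → ℂ}
    (hθ : Cfsg.IsIrrCharacter (uSub (thSq_of_card hF)) θ) (b₀ : F)
    (hb₀ : θ ⟨tG (thSq_of_card hF) 0 b₀, 0, b₀, rfl⟩ ≠ θ 1) :
    ∃ k : ℕ, θ 1 = ((2 ^ m * k : ℕ) : ℂ) := by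
  classical
  set h := thSq_of_card hF
  have := Fintype.ofFinite (uSub h)
  obtain ⟨n, ρ, hρ, rfl⟩ := hθ
  set χ : Cfsg.IrrCharacter (uSub h) := ⟨ρ.character, n, ρ, hρ, rfl⟩
  let u : F → F → uSub h := fun a b => ⟨tG h a b, a, b, rfl⟩
  have hcen : ∀ b : F, ∀ y : uSub h, u 0 b * y = y * u 0 b := by
    rintro b ⟨_, c, d, rfl⟩
    refine Subtype.ext ?_
    show tG h 0 b * tG h c d = tG h c d * tG h 0 b
    rw [tG_mul, tG_mul]
    simp [add_comm]
  have hmul : ∀ b y, ρ.character (u 0 b * y) =
      ρ.character (u 0 b) / ρ.character 1 * ρ.character y := fun b y =>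
    CfsgLib.BlockA.irr_central_mul χ (hcen b) y
  have hd0 : ρ.character 1 ≠ 0 := irr_apply_one_ne_zero χ.2
  let ψ : AddChar F ℂ :=
    { toFun := fun b => ρ.character (u 0 b) / ρ.character 1
      map_zero_eq_one' := by
        rw [show u 0 0 = 1 from Subtype.ext (tG_zero h), div_self hd0]
      map_add_eq_mul' := fun b b' => by
        have e : u 0 (b + b') = u 0 b * u 0 b' := Subtype.ext (by
          show tG h 0 (b + b') = tG h 0 b * tG h 0 b'
          rw [tG_mul]
          simp [add_comm])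
        rw [e, hmul, mul_div_assoc] }
  have hψ : ψ ≠ 1 := by
    intro e
    apply hb₀
    have := DFunLike.congr_fun e b₀
    rw [AddChar.one_apply] at this
    exact (div_eq_one_iff_eq hd0).1 this
  obtain ⟨r, hr⟩ := SzDeg.radical_le h hψ
  have hvan : ∀ a b : F, a ≠ 0 → a ≠ r → ρ.character (u a b) = 0 := by
    intro a b ha0 har
    obtain ⟨c, hc⟩ : ∃ c, ψ (th m a * c + th m c * a) ≠ 1 := by
      by_contra hall
      push Not at hall
      exact (hr a hall).elim ha0 har
    have e : u c 0 * u a b * (u c 0)⁻¹ = u 0 (th m a * c + th m c * a) * u a b := by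
      refine Subtype.ext ?_
      have h1 := tG_commutator h c 0 a b
      show tG h c 0 * tG h a b * (tG h c 0)⁻¹ =
        tG h 0 (th m a * c + th m c * a) * tG h a b
      rw [show th m a * c + th m c * a = th m c * a + th m a * c by ring, ← h1]
      group
    have h2 : ρ.character (u a b) =
        ψ (th m a * c + th m c * a) * ρ.character (u a b) := by
      rw [show ψ (th m a * c + th m c * a) * ρ.character (u a b) =
        ρ.character (u 0 (th m a * c + th m c * a) * u a b) from (hmul _ _).symm, ← e]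
      exact (isCharacter_isClassFunction ⟨n, ρ, rfl⟩ _ _).symm
    by_contra hne
    exact hc (mul_right_cancel₀ hne (h2.symm.trans (one_mul _).symm))
  obtain ⟨D, hD⟩ : ∃ D : ℕ, ρ.character 1 = D := char_apply_one_eq_nat ⟨n, ρ, rfl⟩
  have hbij : Function.Bijective fun p : F × F => u p.1 p.2 := by
    constructor
    · intro p p' e
      obtain ⟨e1, e2⟩ := tG_inj h (congrArg Subtype.val e)
      exact Prod.ext e1 e2
    · rintro ⟨_, a, b, rfl⟩
      exact ⟨(a, b), rfl⟩
  have hnorm := irr_classInner_self χ.2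
  rw [classInner_def, inv_mul_eq_div, div_eq_one_iff_eq natCard_ne_zero] at hnorm
  have hre : ∑ p : F × F, ‖ρ.character (u p.1 p.2)‖ ^ 2 = (Nat.card (uSub h) : ℝ) := by
    rw [hbij.sum_comp (fun y => ‖ρ.character y‖ ^ 2)]
    have := congrArg Complex.re hnorm
    rw [Complex.natCast_re, Complex.re_sum] at this
    rw [← this]
    refine Finset.sum_congr rfl fun y _ => ?_
    show _ = (ρ.character y * conj (ρ.character y)).re
    rw [Complex.mul_conj', ← Complex.ofReal_pow, Complex.ofReal_re]
  have hle : ∑ p : F × F, ‖ρ.character (u p.1 p.2)‖ ^ 2 ≤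
      ((2 * Fintype.card F : ℕ) : ℝ) * (D : ℝ) ^ 2 := by
    have hb : ∀ y, ‖ρ.character y‖ ≤ (D : ℝ) := fun y => by
      have := norm_char_le (ρ := ρ) y
      have e : (D : ℂ) = (Module.finrank ℂ (Fin n → ℂ) : ℂ) := by
        rw [← hD, Representation.char_one]
      rw [Nat.cast_inj.1 e]
      exact this
    calc ∑ p : F × F, ‖ρ.character (u p.1 p.2)‖ ^ 2
        = ∑ p ∈ ({0, r} : Finset F) ×ˢ Finset.univ, ‖ρ.character (u p.1 p.2)‖ ^ 2 := by
          refine (Finset.sum_subset (Finset.subset_univ _) fun p _ hp => ?_).symm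
          simp only [Finset.mem_product, Finset.mem_insert, Finset.mem_singleton, Finset.mem_univ,
            and_true, not_or] at hp
          rw [hvan _ _ hp.1 hp.2, norm_zero]
          ring
      _ ≤ ∑ _p ∈ ({0, r} : Finset F) ×ˢ (Finset.univ : Finset F), (D : ℝ) ^ 2 :=
          Finset.sum_le_sum fun p _ => pow_le_pow_left₀ (norm_nonneg _) (hb _) 2
      _ ≤ _ := by
          rw [Finset.sum_const, nsmul_eq_mul, Finset.card_product, Finset.card_univ]
          gcongr
          exact_mod_cast Finset.card_le_two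
  rw [hre, card_uSub' hm hF, card_eq_two_sq hF] at hle
  have hle' : (2 * (2 ^ m) ^ 2) ^ 2 ≤ 2 * (2 * (2 ^ m) ^ 2) * D ^ 2 := by exact_mod_cast hle
  have hdvd : D ∣ Nat.card (uSub h) := by
    have h1 := CfsgLib.BlockB.irr_degree_dvd_card χ
    have h2 := CfsgLib.BlockB.irr_degree_cast χ
    rwa [Nat.cast_inj.1 (h2.trans hD)] at h1
  rw [card_uSub' hm hF] at hdvd
  obtain ⟨i, -, hi⟩ : ∃ i, i ≤ 4 * m + 2 ∧ D = 2 ^ i := by
    refine (Nat.dvd_prime_pow Nat.prime_two).1 (hdvd.trans (dvd_of_eq ?_))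
    ring
  have him : m ≤ i := by
    by_contra hlt
    push Not at hlt
    rw [hi] at hle'
    have h3 : 2 * 2 ^ i ≤ 2 ^ m := by rw [← pow_succ']; exact Nat.pow_le_pow_right (by norm_num) hlt
    have h4 : 0 < 2 ^ i := Nat.two_pow_pos i
    nlinarith [Nat.mul_le_mul_left ((2 ^ m) ^ 2) (Nat.mul_le_mul h3 h3),
      Nat.mul_pos (pow_pos (Nat.two_pow_pos m) 2) (pow_pos h4 2)]
  refine ⟨2 ^ (i - m), ?_⟩
  rw [hD, hi, ← pow_add, Nat.add_sub_cancel' him]

omit [Fintype (Cfsg.Sz F m)] in
open scoped _root_.Classical in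
/-- The sum of the irreducible characters of `U` which are non-trivial on the centre. -/
theorem isGeneralized_sFun :
    Cfsg.IsGeneralizedCharacter (uSub (thSq_of_card hF)) (fun y =>
      if y = 1 then 2 * (2 ^ m : ℂ) * (2 * (2 ^ m : ℂ) ^ 2 - 1)
      else if (y : Cfsg.Sz F m) ∈ zSub (thSq_of_card hF) then -(2 * (2 ^ m : ℂ)) else 0) := by
  set h := thSq_of_card hF
  have := Fintype.ofFinite (uSub h)
  set K : ℂ := 2 ^ m
  have hK : K ≠ 0 := pow_ne_zero _ two_ne_zero
  refine isGeneralized_of_int (fun y x => ?_) fun θ hθ => ?_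
  · have e : ((x * y * x⁻¹ : uSub h) : Cfsg.Sz F m) ∈ zSub h ↔ (y : Cfsg.Sz F m) ∈ zSub h := by
      constructor
      · intro hz
        exact mem_zSub_of_conj hm hF y.2 (x := (x : Cfsg.Sz F m)) (by simpa using hz)
      · intro hz
        show (x : Cfsg.Sz F m) * y * (x : Cfsg.Sz F m)⁻¹ ∈ zSub h
        exact conj_mem_zSub hm hF (uSub_le_bSub h x.2) hz
    simp only [e, conj_eq_one_iff]
  · let u : F → uSub h := fun b => ⟨tG h 0 b, 0, b, rfl⟩
    have hu : Function.Injective u := fun b b' e => (tG_inj h (congrArg Subtype.val e)).2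
    have hu0 : u 0 = 1 := Subtype.ext (tG_zero h)
    have hval : Cfsg.classInner (fun y : uSub h =>
        if y = 1 then 2 * K * (2 * K ^ 2 - 1)
        else if (y : Cfsg.Sz F m) ∈ zSub h then -(2 * K) else 0) θ =
        (2 * K * (2 * K ^ 2) * conj (θ 1) - 2 * K * ∑ b : F, conj (θ (u b))) /
          (2 * K ^ 2) ^ 2 := by
      rw [classInner_def, inv_mul_eq_div]
      congr 1
      · have e : ∀ y : uSub h, (if y = 1 then 2 * K * (2 * K ^ 2 - 1)
            else if (y : Cfsg.Sz F m) ∈ zSub h then -(2 * K) else 0) * conj (θ y) =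
          (if y = 1 then 2 * K * (2 * K ^ 2) * conj (θ 1) else 0) +
            (if y ∈ Finset.univ.image u then -(2 * K) * conj (θ y) else 0) := by
          intro y
          have hy : y ∈ Finset.univ.image u ↔ (y : Cfsg.Sz F m) ∈ zSub h := by
            simp only [Finset.mem_image, Finset.mem_univ, true_and]
            exact ⟨fun ⟨b, hb⟩ => hb ▸ ⟨b, rfl⟩, fun ⟨b, hb⟩ => ⟨b, Subtype.ext hb.symm⟩⟩
          by_cases h1 : y = 1
          · subst h1
            rw [if_pos rfl, if_pos rfl, if_pos (hy.2 (one_mem _))]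
            ring
          · rw [if_neg h1, if_neg h1]
            by_cases h2 : (y : Cfsg.Sz F m) ∈ zSub h
            · rw [if_pos h2, if_pos (hy.2 h2), zero_add]
            · rw [if_neg h2, if_neg (mt hy.1 h2), zero_mul, add_zero]
        rw [Finset.sum_congr rfl fun y _ => e y, Finset.sum_add_distrib, Finset.sum_ite_eq',
          if_pos (Finset.mem_univ _), Finset.sum_ite_mem, Finset.univ_inter,
          Finset.sum_image hu.injOn, ← Finset.mul_sum]
        ring
      · rw [card_uSub' hm hF]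
        push_cast
        ring
    obtain ⟨D, hD⟩ := char_apply_one_eq_nat (irr_isCharacter hθ)
    by_cases htriv : ∀ b, θ (u b) = θ 1
    · refine ⟨0, ?_⟩
      rw [hval, Finset.sum_congr rfl fun b _ => congrArg conj (htriv b), Finset.sum_const,
        Finset.card_univ, nsmul_eq_mul, card_eq_two_sq hF]
      push_cast
      ring
    · push Not at htriv
      obtain ⟨b₀, hb₀⟩ := htriv
      obtain ⟨k, hk⟩ := degree_dvd hm hF hθ b₀ hb₀
      refine ⟨k, ?_⟩
      have hzero : ∑ b : F, θ (u b) = 0 := by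
        have hshift : ∀ b, θ (u (b₀ + b)) = θ (u b₀) / θ 1 * θ (u b) := by
          intro b
          have e : u (b₀ + b) = u b₀ * u b := Subtype.ext (by
            show tG h 0 (b₀ + b) = tG h 0 b₀ * tG h 0 b
            rw [tG_mul]
            simp [add_comm])
          rw [e]
          refine CfsgLib.BlockA.irr_central_mul ⟨θ, hθ⟩ (fun y => ?_) _
          obtain ⟨_, c, d, rfl⟩ := y
          refine Subtype.ext ?_
          show tG h 0 b₀ * tG h c d = tG h c d * tG h 0 b₀
          rw [tG_mul, tG_mul]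
          simp [add_comm]
        have h1 := Equiv.sum_comp (Equiv.addLeft b₀) (fun b => θ (u b))
        simp only [Equiv.coe_addLeft, hshift, ← Finset.mul_sum] at h1
        have hne : θ (u b₀) / θ 1 - 1 ≠ 0 := by
          rw [sub_ne_zero, ne_eq, div_eq_one_iff_eq (irr_apply_one_ne_zero hθ)]
          exact hb₀
        exact (mul_eq_zero.1 (show (θ (u b₀) / θ 1 - 1) * ∑ b : F, θ (u b) = 0 by
          linear_combination h1)).resolve_left hne
      rw [hval, ← map_sum, hzero, map_zero, hk, map_natCast]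
      push_cast
      field_simp
      ring

/-- Criterion for a type function to be a generalized character. -/
theorem isGeneralized_tv (d z w a b c k j : ℤ) (hk : w - z = k * (2 * 2 ^ m))
    (hj : d - w - k * (2 * 2 ^ m) * (2 * (2 ^ m) ^ 2 - 1) = j * (2 * (2 ^ m) ^ 2) ^ 2)
    (ha : (2 * (2 ^ m) ^ 2 - 1 : ℤ) ∣ d - a)
    (hb : (2 * (2 ^ m) ^ 2 + 2 * 2 ^ m + 1 : ℤ) ∣ d - b)
    (hc : (2 * (2 ^ m) ^ 2 - 2 * 2 ^ m + 1 : ℤ) ∣ d - c) :
    Cfsg.IsGeneralizedCharacter (Cfsg.Sz F m) (tv hF d z w a b c) := by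
  classical
  set h := thSq_of_card hF
  set f := tv hF d z w a b c with hfdef
  have hf := isClassFunction_tv hm hF d z w a b c
  have hU : Cfsg.IsGeneralizedCharacter (uSub h) (fun y => f y) := by
    have e : (fun y : uSub h => f y) = (w : ℂ) • (fun _ : uSub h => (1 : ℂ)) +
        ((k : ℂ) • (fun y : uSub h => if y = 1 then 2 * (2 ^ m : ℂ) * (2 * (2 ^ m : ℂ) ^ 2 - 1)
          else if (y : Cfsg.Sz F m) ∈ zSub h then -(2 * (2 ^ m : ℂ)) else 0) +
        (j : ℂ) • (Representation.leftRegular ℂ (uSub h)).character) := by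
      have := Fintype.ofFinite (uSub h)
      funext y
      simp only [Pi.add_apply, Pi.smul_apply, smul_eq_mul, mul_one, char_leftRegular]
      by_cases hy : y = 1
      · subst hy
        rw [if_pos rfl, if_pos rfl, OneMemClass.coe_one, hfdef, tv_one hm hF, card_uSub' hm hF]
        have hj' := congrArg (Int.cast : ℤ → ℂ) hj
        push_cast at hj' ⊢
        linear_combination hj'
      · have hy' : (y : Cfsg.Sz F m) ≠ 1 := fun e => hy (Subtype.ext e)
        rw [if_neg hy, if_neg hy, mul_zero, add_zero]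
        by_cases hyz : (y : Cfsg.Sz F m) ∈ zSub h
        · rw [if_pos hyz, hfdef, tv_z hm hF d z w a b c hyz hy']
          have hk' := congrArg (Int.cast : ℤ → ℂ) hk
          push_cast at hk' ⊢
          linear_combination -hk'
        · rw [if_neg hyz, hfdef, tv_u hm hF d z w a b c y.2 hyz]
          ring
    rw [e]
    exact isGeneralized_add (isGeneralized_zsmul (isGeneralized_of_isCharacter isCharacter_one) w)
      (isGeneralized_add (isGeneralized_zsmul (isGeneralized_sFun hm hF) k)
        (isGeneralized_zsmul (isGeneralized_of_isCharacter (isCharacter_of_rep _)) j))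
  have hCell : ∀ A : Subgroup (Cfsg.Sz F m), IsCell h A →
      Cfsg.IsGeneralizedCharacter A (fun y => f y) := by
    intro A hA
    have hcard := hA.card_mem hm hF
    rw [← hF, card_eq_two_sq hF, pow_succ' 2 m] at hcard
    simp only [Set.mem_insert_iff, Set.mem_singleton_iff] at hcard
    have hd := cards_distinct hm
    have h1 : 2 * 2 ^ m ≤ 2 * (2 ^ m) ^ 2 :=
      Nat.mul_le_mul_left 2 (Nat.le_self_pow two_ne_zero _)
    obtain ⟨v, hv, hv'⟩ : ∃ v : ℤ, ((Nat.card A : ℤ) ∣ d - v) ∧
        ∀ g ∈ A, g ≠ 1 → f g = v := by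
      rcases hcard with e | e | e
      · refine ⟨a, ?_, fun g hg hg1 => by rw [hfdef, tv_cell hm hF _ _ _ _ _ _ hA hg hg1, if_pos e]⟩
        rw [e, Nat.cast_sub (Nat.one_le_iff_ne_zero.2 (by positivity))]
        push_cast
        exact ha
      · refine ⟨b, ?_, fun g hg hg1 => by
          rw [hfdef, tv_cell hm hF _ _ _ _ _ _ hA hg hg1, e, if_neg hd.1, if_pos rfl]⟩
        rw [e]
        push_cast
        exact hb
      · refine ⟨c, ?_, fun g hg hg1 => by
          rw [hfdef, tv_cell hm hF _ _ _ _ _ _ hA hg hg1, e, if_neg hd.2.1, if_neg hd.2.2.symm]⟩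
        rw [e, Nat.cast_add, Nat.cast_sub h1]
        push_cast
        exact hc
    obtain ⟨i, hi⟩ := hv
    refine isGeneralized_triv_reg v i ?_ fun x hx => hv' x x.2 fun e => hx (Subtype.ext e)
    rw [OneMemClass.coe_one, hfdef, tv_one hm hF]
    have hi' := congrArg (Int.cast : ℤ → ℂ) hi
    push_cast at hi'
    linear_combination hi'
  refine brauer_characterization hf fun E p hp hE => ?_
  by_cases hE1 : E = ⊥
  · subst hE1
    refine isGeneralized_triv_reg d 0 ?_ fun x hx => absurd (Subtype.ext (Subgroup.mem_bot.1 x.2)) hx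
    show f 1 = _
    rw [hfdef, tv_one hm hF]
    push_cast
    ring
  obtain ⟨y, hyE, hy1, hyc⟩ : ∃ y ∈ E, y ≠ 1 ∧ ∀ x ∈ E, x * y = y * x := by
    obtain ⟨x, hxc, -, i, hi⟩ := hE
    by_cases hx : x = 1
    · have : Fact p.Prime := ⟨hp⟩
      subst hx
      rw [Subgroup.zpowers_one_eq_bot, Subgroup.index_bot] at hi
      have hP : IsPGroup p E := IsPGroup.of_card hi
      have : Nontrivial E := (Subgroup.nontrivial_iff_ne_bot E).2 hE1
      have := hP.center_nontrivial
      obtain ⟨y, hy⟩ := exists_ne (1 : Subgroup.center E)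
      exact ⟨y.1.1, y.1.2, fun e => hy (Subtype.ext (Subtype.ext e)), fun x hx =>
        congrArg Subtype.val (Subgroup.mem_center_iff.1 y.2 ⟨x, hx⟩)⟩
    · exact ⟨x.1, x.2, fun e => hx (Subtype.ext e), fun g hg =>
        congrArg Subtype.val (Subgroup.mem_center_iff.1 hxc ⟨g, hg⟩)⟩
  have hEC : E ≤ Subgroup.centralizer ({y} : Set (Cfsg.Sz F m)) := fun g hg =>
    Subgroup.mem_centralizer_singleton_iff.2 (hyc g hg)
  rcases two_or_cell hm hF y with ⟨x, hx⟩ | hC
  · have hEU : ∀ g ∈ E, x * g * x⁻¹ ∈ uSub h := by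
      intro g hg
      refine centralizer_le_uSub hm hF hx (fun e => hy1 (conj_eq_one_iff.1 e)) ?_
      rw [centralizer_conj]
      exact ⟨g, hEC hg, rfl⟩
    let φ : E →* uSub h :=
      ((MulAut.conj x).toMonoidHom.comp E.subtype).codRestrict _ fun g => hEU g g.2
    have e : (fun g : E => f g) = (fun u : uSub h => f u) ∘ φ := by
      funext g
      exact (hf g x).symm
    rw [e]
    exact isGeneralized_comp' hU φ
  · exact isGeneralized_comp' (hCell _ hC) (Subgroup.inclusion hEC)

end CfsgLib.KnownB.SzCh
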