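import Cfsg.Agent.Lib.KnownB.FlagCount
import Cfsg.Agent.Lib.KnownB.JacobiTrudi
import Cfsg.Agent.Lib.Char.Inner
import Cfsg.Agent.Lib.Char.Induce

/-!
# The characters of `GL_n(q)` indexed by partitions
-/

set_option autoImplicit false

namespace CfsgLib.KnownB.Unip

open scoped MatrixGroups ComplexConjugate
open Finset CfsgLib.KnownB.Flag

universe u

variable {F : Type u} [Field F] [Fintype F] {n : ℕ}

theorem fixedPointCharacter_isCharacter {G : Type*} [Group G] [Fintype G] (H : Subgroup G) :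
    Cfsg.IsCharacter G (Cfsg.fixedPointCharacter H) := by
  have e : Cfsg.fixedPointCharacter H = Cfsg.indFun H (fun _ => 1) := funext fun g => by
    have h := CfsgLib.Char.natCard_fixedBy_eq_indFun (G ⧸ H) ((1 : G) : G ⧸ H) g
    rwa [MulAction.stabilizer_quotient] at h
  rw [e]
  exact CfsgLib.Char.isCharacter_indFun H CfsgLib.Char.isCharacter_one

theorem fixedPointCharacter_one {G : Type*} [Group G] [Finite G] (H : Subgroup G) :
    Cfsg.fixedPointCharacter H 1 = (Nat.card (G ⧸ H) : ℂ) := by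
  rw [Cfsg.fixedPointCharacter, Nat.cast_inj]
  exact Nat.card_congr ((Equiv.subtypeUnivEquiv (p := fun x => x ∈ MulAction.fixedBy (G ⧸ H) (1 : G))
    fun x => one_smul G x))

theorem sum_sub_perm {ν : Fin n → ℕ} (hs : ∑ i, ν i = n) (κ : Equiv.Perm (Fin n))
    (h : ∀ i : Fin n, (κ i).val ≤ ν i + i.val) :
    ∑ i : Fin n, (ν i + i.val - (κ i).val) = n := by
  have h1 : ∑ i : Fin n, (ν i + i.val - (κ i).val) + ∑ i : Fin n, (κ i).val =
      ∑ i : Fin n, (ν i + i.val) := by
    rw [← Finset.sum_add_distrib]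
    exact Finset.sum_congr rfl fun i _ => Nat.sub_add_cancel (h i)
  rw [Equiv.sum_comp κ (fun i : Fin n => i.val), Finset.sum_add_distrib, hs] at h1
  exact Nat.add_right_cancel h1

theorem strictMono_lam {ν : Fin n → ℕ} (hν : Monotone ν) : StrictMono fun i : Fin n => ν i + i.val :=
  fun _ _ h => add_lt_add_of_le_of_lt (hν h.le) h

theorem unip_isGeneralized (ν : Fin n → ℕ) :
    Cfsg.IsGeneralizedCharacter (GL (Fin n) F) (Cfsg.unipotentCharacterGL n F ν) := by
  classical
  have e : Cfsg.unipotentCharacterGL n F ν = ∑ κ : Equiv.Perm (Fin n),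
      (((if ∀ i : Fin n, (κ i).val ≤ ν i + i.val then (Equiv.Perm.sign κ : ℤ) else 0) : ℤ) : ℂ) •
        Cfsg.fixedPointCharacter (Cfsg.parabolicGL n F fun i => ν i + i.val - (κ i).val) := by
    funext g
    rw [Cfsg.unipotentCharacterGL, Finset.sum_apply]
    refine Finset.sum_congr rfl fun κ _ => ?_
    rw [Pi.smul_apply, smul_eq_mul]
    split_ifs <;> simp
  rw [e]
  exact CfsgLib.Char.isGeneralized_sum _ fun κ _ => CfsgLib.Char.isGeneralized_zsmul
    (CfsgLib.Char.isGeneralized_of_isCharacter (fixedPointCharacter_isCharacter _)) _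

theorem inner_unip [DecidableEq F] {ν ν' : Fin n → ℕ} (hν : Monotone ν) (hs : ∑ i, ν i = n) (hν' : Monotone ν')
    (hs' : ∑ i, ν' i = n) :
    Cfsg.classInner (Cfsg.unipotentCharacterGL n F ν) (Cfsg.unipotentCharacterGL n F ν') =
      if ν = ν' then 1 else 0 := by
  classical
  have hlam : (fun i : Fin n => ν i + i.val) = (fun i => ν' i + i.val) ↔ ν = ν' :=
    ⟨fun h => funext fun i => Nat.add_right_cancel (congrFun h i), fun h => h ▸ rfl⟩
  have key := congrArg (fun z : ℤ => (z : ℂ))
    (JT.alt_margins _ _ (strictMono_lam hν) (strictMono_lam hν'))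
  simp only [Int.cast_ite, Int.cast_one, Int.cast_zero, Int.cast_sum, Int.cast_mul, hlam] at key
  rw [← key, Cfsg.classInner]
  simp only [Cfsg.unipotentCharacterGL, map_sum]
  simp only [Finset.sum_mul, Finset.mul_sum]
  rw [Finset.sum_comm, Finset.sum_congr rfl fun κ' _ => Finset.sum_comm, Finset.sum_comm]
  refine Finset.sum_congr rfl fun κ _ => Finset.sum_congr rfl fun κ' _ => ?_
  by_cases h : (∀ i : Fin n, (κ i).val ≤ ν i + i.val) ∧ ∀ i : Fin n, (κ' i).val ≤ ν' i + i.val
  · rw [if_pos h, Int.cast_natCast, ← natCard_young_double (sum_sub_perm hs κ h.1)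
      (sum_sub_perm hs' κ' h.2), ← natCard_parabolic_double (F := F) (sum_sub_perm hs κ h.1)
      (sum_sub_perm hs' κ' h.2), ← inner_fixedPointCharacter, Finset.mul_sum, Finset.mul_sum]
    refine Finset.sum_congr rfl fun g _ => ?_
    rw [if_pos h.1, if_pos h.2, map_mul, map_intCast]
    simp only [Cfsg.fixedPointCharacter, map_natCast]
    ring
  · rw [if_neg h]
    refine Finset.sum_eq_zero fun g _ => ?_
    rcases not_and_or.mp h with h1 | h1 <;> simp [h1]

/-- `Q(r)`. -/
noncomputable def Q (q r : ℕ) : ℂ := (qInt q r : ℂ)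

/-- Falling q-factorial. -/
noncomputable def qFall (q k m : ℕ) : ℂ := ∏ t ∈ range k, Q q (m - t)

theorem qFact_eq_fall (q : ℕ) {k m : ℕ} (h : k ≤ m) :
    (qFact q m : ℂ) = qFact q (m - k) * qFall q k m := by
  induction k with
  | zero => simp [qFall]
  | succ k ih =>
    rw [ih (by omega), show m - k = m - (k + 1) + 1 by omega, qFact_succ, qFall, qFall,
      Finset.prod_range_succ, Nat.cast_mul, Q, show m - (k + 1) + 1 = m - k by omega]
    ring

theorem qFall_eq_zero (q : ℕ) {k m : ℕ} (h : m < k) : qFall q k m = 0 :=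
  Finset.prod_eq_zero (Finset.mem_range.mpr h) (by simp [Q, qInt])

theorem pow_mul_qFall (q k m : ℕ) :
    (q : ℂ) ^ k.choose 2 * qFall q k m = ∏ t ∈ range k, (Q q m - Q q t) := by
  rcases Nat.lt_or_ge m k with h | h
  · rw [qFall_eq_zero q h, mul_zero]
    exact (Finset.prod_eq_zero (Finset.mem_range.mpr h) (sub_self _)).symm
  · rw [Nat.choose_two_right, ← Finset.sum_range_id, ← Finset.prod_pow_eq_pow_sum, qFall,
      ← Finset.prod_mul_distrib]
    refine Finset.prod_congr rfl fun t ht => ?_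
    rw [Finset.mem_range] at ht
    obtain ⟨b, rfl⟩ := Nat.exists_eq_add_of_le (show t ≤ m by omega)
    rw [Nat.add_sub_cancel_left]
    simp only [Q, qInt, Nat.cast_sum, Nat.cast_pow, Finset.sum_range_add, Nat.cast_add,
      Finset.mul_sum, pow_add]
    push_cast
    ring

theorem sum_choose_two (n : ℕ) :
    ∑ k : Fin n, (k : ℕ).choose 2 = n * (n - 1) * (n - 2) / 6 := by
  have h1 : ∀ m, ∑ k : Fin m, (k : ℕ).choose 2 = m.choose 3 := by
    intro m
    induction m with
    | zero => simp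
    | succ m ih =>
      rw [Fin.sum_univ_castSucc, Nat.choose_succ_succ, add_comm (m.choose 2)]
      simp only [Fin.val_castSucc, Fin.val_last, ih]
  rw [h1, Nat.choose_eq_descFactorial_div_factorial]
  simp only [Nat.descFactorial, Nat.factorial, Nat.sub_zero]
  congr 1
  ring_nf

theorem degree_formula (q : ℕ) (hq : Fintype.card F = q) {ν : Fin n → ℕ}
    (hs : ∑ i, ν i = n) :
    Cfsg.unipotentCharacterGL n F ν 1 * (q : ℂ) ^ (n * (n - 1) * (n - 2) / 6) *
        ∏ i : Fin n, (qFact q (ν i + i.val) : ℂ) =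
      (qFact q n : ℂ) * ∏ i : Fin n, ∏ j ∈ Finset.Ioi i, (Q q (ν j + j.val) - Q q (ν i + i.val)) := by
  classical
  subst hq
  set q := Fintype.card F
  let M : Matrix (Fin n) (Fin n) ℂ := Matrix.of fun i k => qFall q (k : ℕ) (ν i + i.val)
  have h1 : Cfsg.unipotentCharacterGL n F ν 1 * ∏ i : Fin n, (qFact q (ν i + i.val) : ℂ) =
      (qFact q n : ℂ) * M.det := by
    rw [← Matrix.det_transpose, Matrix.det_apply', Cfsg.unipotentCharacterGL, Finset.sum_mul,
      Finset.mul_sum]
    refine Finset.sum_congr rfl fun κ _ => ?_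
    by_cases h : ∀ i : Fin n, (κ i).val ≤ ν i + i.val
    · rw [if_pos h, fixedPointCharacter_one, Finset.prod_congr rfl fun i _ => qFact_eq_fall q (h i),
        Finset.prod_mul_distrib, ← index_mul (F := F) (sum_sub_perm hs κ h), Nat.cast_mul,
        Nat.cast_prod]
      simp only [M, Matrix.transpose_apply, Matrix.of_apply]
      ring
    · rw [if_neg h, zero_mul]
      push Not at h
      obtain ⟨i, hi⟩ := h
      rw [Finset.prod_eq_zero (Finset.mem_univ i), mul_zero, mul_zero]
      simp [M, qFall_eq_zero q hi]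
  let v : Fin n → ℂ := fun i => Q q (ν i + i.val)
  let p : Fin n → Polynomial ℂ := fun k => ∏ t ∈ range (k : ℕ), (Polynomial.X - Polynomial.C (Q q t))
  have h2 : (q : ℂ) ^ (n * (n - 1) * (n - 2) / 6) * M.det = (Matrix.vandermonde v).det := by
    rw [Matrix.det_eval_matrixOfPolynomials_eq_det_vandermonde v p
      (fun k => by simp [p, Polynomial.natDegree_finsetProd_X_sub_C_eq_card])
      (fun k => Polynomial.monic_prod_of_monic _ _ fun t _ => Polynomial.monic_X_sub_C _),
      ← sum_choose_two, ← Finset.prod_pow_eq_pow_sum, ← Matrix.det_mul_row]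
    congr 1
    ext i k
    simp only [M, p, v, Matrix.of_apply, Polynomial.eval_prod, Polynomial.eval_sub, Polynomial.eval_X,
      Polynomial.eval_C, pow_mul_qFall]
  rw [mul_right_comm, h1, mul_assoc, mul_comm M.det, h2, Matrix.det_vandermonde]

theorem degree_pos {ν : Fin n → ℕ} (hν : Monotone ν) (hs : ∑ i, ν i = n) :
    ∃ r : ℝ, 0 < r ∧ Cfsg.unipotentCharacterGL n F ν 1 = r := by
  classical
  set q := Fintype.card F
  have hq : 0 < q := Fintype.card_pos
  have hQ : StrictMono fun m => qInt q m := strictMono_nat_of_lt_succ fun m => by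
    simp only [qInt, Finset.sum_range_succ]
    exact Nat.lt_add_of_pos_right (pow_pos hq _)
  let P : ℝ := ∏ i : Fin n, (qFact q (ν i + i.val) : ℝ)
  let D : ℝ := ∏ i : Fin n, ∏ j ∈ Finset.Ioi i,
    ((qInt q (ν j + j.val) : ℝ) - (qInt q (ν i + i.val) : ℝ))
  have hP : 0 < P := Finset.prod_pos fun i _ => by exact_mod_cast qFact_pos _
  have hD : 0 < D := Finset.prod_pos fun i _ => Finset.prod_pos fun j hj => by
    rw [sub_pos, Nat.cast_lt]
    exact hQ (strictMono_lam hν (Finset.mem_Ioi.mp hj))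
  have hqq : 0 < (q : ℝ) ^ (n * (n - 1) * (n - 2) / 6) := pow_pos (by exact_mod_cast hq) _
  refine ⟨(qFact q n : ℝ) * D / ((q : ℝ) ^ (n * (n - 1) * (n - 2) / 6) * P),
    div_pos (mul_pos (by exact_mod_cast qFact_pos _) hD) (mul_pos hqq hP), ?_⟩
  have h := degree_formula q rfl hs (F := F)
  rw [Complex.ofReal_div, eq_div_iff (Complex.ofReal_ne_zero.mpr (mul_pos hqq hP).ne'),
    Complex.ofReal_mul, Complex.ofReal_mul, ← mul_assoc, Complex.ofReal_pow, Complex.ofReal_natCast,
    Complex.ofReal_natCast]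
  simpa [P, D, Q, Complex.ofReal_prod] using h

theorem unip_isIrr {ν : Fin n → ℕ} (hν : Monotone ν) (hs : ∑ i, ν i = n) :
    Cfsg.IsIrrCharacter (GL (Fin n) F) (Cfsg.unipotentCharacterGL n F ν) := by
  classical
  refine (CfsgLib.Char.isGeneralized_norm_one (unip_isGeneralized ν)
    (by rw [inner_unip hν hs hν hs, if_pos rfl])).resolve_right fun h => ?_
  obtain ⟨r, hr, hr1⟩ := degree_pos (F := F) hν hs
  obtain ⟨d, hd, hd1⟩ := CfsgLib.Char.irr_apply_one_pos h
  rw [Pi.neg_apply, hr1] at hd1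
  have := congrArg Complex.re hd1
  simp at this
  have : (0 : ℝ) < d := by exact_mod_cast hd
  linarith

theorem unip_injective {ν ν' : Fin n → ℕ} (hν : Monotone ν) (hs : ∑ i, ν i = n) (hν' : Monotone ν')
    (hs' : ∑ i, ν' i = n)
    (h : Cfsg.unipotentCharacterGL n F ν = Cfsg.unipotentCharacterGL n F ν') : ν = ν' := by
  classical
  have h1 := inner_unip (F := F) hν hs hν hs
  rw [if_pos rfl] at h1
  by_contra hne
  have h2 := inner_unip (F := F) hν hs hν' hs'
  rw [if_neg hne, ← h, h1] at h2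
  exact one_ne_zero h2

end CfsgLib.KnownB.Unip
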