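import Mathlib
import Cfsg.Agent.Lib.Chev.WeylMatch

/-!
The centres of the seven Weyl groups.
-/

set_option autoImplicit false
set_option maxRecDepth 100000

namespace CfsgLib.Chev

open Cfsg.Lie

section Checks

variable (D : ChevalleyDatum) (dat : LieData) (sd : StructData)

/-- The Dynkin diagram is a tree towards `root` along `par`. -/
noncomputable def treeDiagOK (root : ℕ) (par : List ℕ) : Bool :=
  Nat.blt root D.rank &&
  allR (fun i => let p := nth 0 par i
    Nat.blt p D.rank &&
    Nat.beq (Nat.rec i (fun _ x => nth 0 par x) D.rank) root &&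
    (Nat.beq i p ||
      (!decide (fcartan D i (fsimple dat p) = 0) && !decide (fcartan D p (fsimple dat i) = 0))))
    (upto D.rank)

/-- The `k`-th power of the Coxeter element is minus one. -/
noncomputable def negOK (k : ℕ) : Bool :=
  let c : ℕ → ℕ := fun s => List.rec s (fun i _ ih => strictN ih (refl sd i)) (upto D.rank)
  allR (fun s => Nat.beq (Nat.rec s (fun _ x => strictN x c) k) (fneg D s)) (upto D.nroots)

/-- `v` is a nonzero kernel vector of the Cartan matrix modulo 3. -/
noncomputable def fixModOK (v : List ℤ) : Bool :=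
  Nat.blt 0 D.rank && decide (nth 0 v 0 = 1) &&
  allR (fun i => decide ((sumUpto D.rank fun k => nth 0 v k * fcartan D i (fsimple dat k)) % 3 = 0))
    (upto D.rank)

end Checks

namespace Good

variable {D : ChevalleyDatum} {dat : LieData} {sd : StructData} (g : Good D)
include g

theorem co_nroot (a : Fin D.nroots) {j : ℕ} (hj : j < D.rank) : g.co (g.nroot a) j = - g.co a j :=
  g.co_neg a.2 hj

theorem co_sroot (q : Fin D.rank) {j : ℕ} (hj : j < D.rank) :
    g.co (g.sroot q) j = if (q : ℕ) = j then 1 else 0 := g.co_simple q.2 hj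

/-- A central element maps every fundamental root to itself or its opposite. -/
theorem central_sroot {z : ↥g.weyl} (hz : z ∈ Subgroup.center ↥g.weyl) (i : Fin D.rank) :
    z.1 (g.sroot i) = g.sroot i ∨ z.1 (g.sroot i) = g.nroot (g.sroot i) := by
  obtain ⟨l, hl⟩ := g.exists_wperm z.2
  have key : g.IsReflIn (g.wperm l (g.sroot i)) (g.wperm l * g.rperm i * (g.wperm l)⁻¹) := by
    clear hl
    induction l with
    | nil => simpa [wperm_nil] using g.isReflIn_rperm i
    | cons k m ih =>
      have := g.isReflIn_conj k ih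
      rw [wperm_cons, _root_.mul_inv_rev, g.rperm_inv, Equiv.Perm.mul_apply]
      simpa only [mul_assoc] using this
  have hcomm : g.wperm l * g.rperm i = g.rperm i * g.wperm l := by
    rw [hl]
    exact (congrArg Subtype.val (Subgroup.mem_center_iff.1 hz (g.wS i))).symm
  rw [hcomm, mul_inv_cancel_right, hl] at key
  set r := z.1 (g.sroot i) with hr
  have hneg : g.rperm i r = g.nroot r := g.co_ext fun j hj => by
    rw [key r j hj, g.co_nroot r hj]
    have h3 : ∀ m : List (Fin D.rank), pair D (g.wperm m (g.sroot i)) (g.wperm m (g.sroot i)) = 2 := by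
      intro m
      induction m with
      | nil =>
        show pair D (D.simple i) (D.simple i) = 2
        rw [g.pair_simple i.2 (g.simple_lt i.2), g.cartan_simple i.2]
      | cons k m ih =>
        rw [wperm_cons, Equiv.Perm.mul_apply]
        show pair D (D.reflectRoot k _) (D.reflectRoot k _) = 2
        rw [g.pair_refl k.2 (g.wperm m (g.sroot i)).2 (g.refl_lt k.2 (g.wperm m (g.sroot i)).2),
          g.refl_refl k.2 (g.wperm m (g.sroot i)).2, ih]
    have h2 : pair D r r = 2 := by rw [hr, ← hl]; exact h3 l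
    rw [h2]; ring
  by_cases hp : half D ≤ r.val
  · left
    by_contra hne
    have h := g.rperm_pos i hp hne
    rw [hneg, g.nroot_pos_iff] at h
    omega
  · right
    by_contra hne
    have h := g.rperm_neg i (by omega) hne
    have h' := (g.nroot_pos_iff r).2 (by omega : r.val < half D)
    rw [hneg] at h
    omega

theorem not_mixed {z : ↥g.weyl} (hz : z ∈ Subgroup.center ↥g.weyl) {i j : Fin D.rank} (hij : i ≠ j)
    (hc : D.cartan i (D.simple j) ≠ 0) (hi : z.1 (g.sroot i) = g.sroot i) :
    z.1 (g.sroot j) = g.sroot j := by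
  refine (g.central_sroot hz j).resolve_right fun hj => ?_
  obtain ⟨l, hl⟩ := g.exists_wperm z.2
  have hij' : (i : ℕ) ≠ j := fun h => hij (Fin.ext h)
  set a := g.rperm i (g.sroot j) with ha
  set c := D.cartan i (D.simple j) with hcdef
  have hco : ∀ k < D.rank, g.co a k = (if (j : ℕ) = k then 1 else 0) - if (i : ℕ) = k then c else 0 := by
    intro k hk
    show g.co (D.reflectRoot i (D.simple j)) k = _
    rw [g.co_refl i.2 (g.simple_lt j.2) hk, g.co_simple j.2 hk]
  have hapos : half D ≤ a.val :=
    g.rperm_pos i (g.sroot_pos j) fun h => hij (g.sroot_injective h).symm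
  have hcneg : c ≤ 0 := by
    have h := g.co_nonneg a.2 hapos i.2
    rw [hco i i.2, if_neg (Ne.symm hij'), if_pos rfl] at h
    linarith
  have him : ∀ k < D.rank, g.co (z.1 a) k = -(if (j : ℕ) = k then 1 else 0) - if (i : ℕ) = k then c else 0 := by
    intro k hk
    rw [← hl, g.co_wperm l a hk, hl, Fintype.sum_eq_add i j hij]
    · rw [hi, hj, g.co_nroot _ hk, g.co_sroot i hk, g.co_sroot j hk, hco i i.2, hco j j.2, if_pos rfl,
        if_pos rfl, if_neg hij', if_neg (Ne.symm hij')]
      split_ifs <;> ring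
    · intro x hx
      rw [hco x x.2, if_neg (fun h => hx.2 (Fin.ext h).symm), if_neg (fun h => hx.1 (Fin.ext h).symm)]
      ring
  by_cases hp : half D ≤ (z.1 a).val
  · have h := g.co_nonneg (z.1 a).2 hp j.2
    rw [him j j.2, if_pos rfl, if_neg hij'] at h
    linarith
  · have h := g.co_nonneg (g.nroot (z.1 a)).2 ((g.nroot_pos_iff _).2 (by omega)) i.2
    rw [g.co_nroot _ i.2, him i i.2, if_pos rfl, if_neg (Ne.symm hij')] at h
    exact hc (by linarith)

theorem eq_one_of_fix {z : ↥g.weyl} (h : ∀ i, z.1 (g.sroot i) = g.sroot i) : z = 1 := by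
  obtain ⟨l, hl⟩ := g.exists_wperm z.2
  refine Subtype.ext (Equiv.ext fun a => g.co_ext fun j hj => ?_)
  rw [← hl, g.co_wperm l a hj, hl, Finset.sum_eq_single (⟨j, hj⟩ : Fin D.rank)]
  · rw [h, g.co_sroot _ hj, if_pos rfl, mul_one]; rfl
  · intro q _ hq
    rw [h, g.co_sroot _ hj, if_neg fun e => hq (Fin.ext e), mul_zero]
  · simp

theorem eq_nroot_of_neg {z : ↥g.weyl} (h : ∀ i, z.1 (g.sroot i) = g.nroot (g.sroot i)) (a : Fin D.nroots) :
    z.1 a = g.nroot a := by
  obtain ⟨l, hl⟩ := g.exists_wperm z.2
  refine g.co_ext fun j hj => ?_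
  rw [← hl, g.co_wperm l a hj, hl, Finset.sum_eq_single (⟨j, hj⟩ : Fin D.rank)]
  · rw [h, g.co_nroot _ hj, g.co_sroot _ hj, if_pos rfl, g.co_nroot _ hj]; ring
  · intro q _ hq
    rw [h, g.co_nroot _ hj, g.co_sroot _ hj, if_neg fun e => hq (Fin.ext e)]; ring
  · simp

/-- Central elements are `1` or `-1`. -/
theorem central_cases (hl : LieChecks D dat) {root : ℕ} {par : List ℕ} (h : treeDiagOK D dat root par = true)
    {z : ↥g.weyl} (hz : z ∈ Subgroup.center ↥g.weyl) : z = 1 ∨ ∀ a, z.1 a = g.nroot a := by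
  simp only [treeDiagOK, allR_eq, List.all_eq_true, upto_eq, List.mem_range, Bool.and_eq_true, Bool.or_eq_true,
    Nat.blt, Nat.ble_eq, Nat.beq_eq, Bool.not_eq_true', decide_eq_false_iff_not] at h
  obtain ⟨hroot, h⟩ := h
  let fixed : ℕ → Prop := fun i => ∀ hi : i < D.rank, z.1 (g.sroot ⟨i, hi⟩) = g.sroot ⟨i, hi⟩
  have hstep : ∀ i, i < D.rank → nth 0 par i < D.rank ∧ (fixed i ↔ fixed (nth 0 par i)) := by
    intro i hi
    obtain ⟨⟨hp, -⟩, hadj⟩ := h i hi
    have hp' : nth 0 par i < D.rank := by omega
    refine ⟨hp', ?_⟩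
    rcases hadj with he | ⟨h1, h2⟩
    · rw [← he]
    rcases eq_or_ne i (nth 0 par i) with he | hne
    · rw [← he]
    rw [← (hl.simple_facts hp').1, ← cartan_eq hl.pack hi (g.simple_lt hp')] at h1
    rw [← (hl.simple_facts hi).1, ← cartan_eq hl.pack hp' (g.simple_lt hi)] at h2
    have hne' : (⟨i, hi⟩ : Fin D.rank) ≠ ⟨nth 0 par i, hp'⟩ := fun e => hne (congrArg Fin.val e)
    exact ⟨fun hf _ => g.not_mixed hz hne' h1 (hf hi), fun hf _ => g.not_mixed hz hne'.symm h2 (hf hp')⟩
  have hroot' : ∀ i, i < D.rank → (fixed i ↔ fixed root) := by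
    intro i hi
    have key : ∀ k, (Nat.rec i (fun _ x => nth 0 par x) k : ℕ) < D.rank ∧
        (fixed i ↔ fixed (Nat.rec i (fun _ x => nth 0 par x) k : ℕ)) := by
      intro k
      induction k with
      | zero => exact ⟨hi, Iff.rfl⟩
      | succ k ih => exact ⟨(hstep _ ih.1).1, ih.2.trans (hstep _ ih.1).2⟩
    have := (key D.rank).2
    rwa [(h i hi).1.2] at this
  by_cases hf : fixed root
  · exact Or.inl (g.eq_one_of_fix fun i => (hroot' i i.2).2 hf i.2)
  · exact Or.inr (g.eq_nroot_of_neg fun i =>
      (g.central_sroot hz i).resolve_left fun e => hf ((hroot' i i.2).1 fun _ => e))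

/-- The Coxeter element generates a centre of order two. -/
theorem center_two (hl : LieChecks D dat) (hs : StructChecks D dat sd) {root : ℕ} {par : List ℕ}
    (h : treeDiagOK D dat root par = true) {k : ℕ} (hk : negOK D sd k = true) :
    Nat.card (Subgroup.center ↥g.weyl) = 2 ∧
      Subgroup.center ↥g.weyl ≤ Subgroup.zpowers ((List.finRange D.rank).map g.wS).prod := by
  set c : ↥g.weyl := ((List.finRange D.rank).map g.wS).prod with hc
  have hm : ∀ a, (c ^ k).1 a = g.nroot a := by
    simp only [negOK, strictN_eq, allR_eq, List.all_eq_true, upto_eq, List.mem_range, Nat.beq_eq] at hk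
    have h1 : ∀ (l : List (Fin D.rank)) (s : Fin D.nroots), ((((l.map g.wS).prod : ↥g.weyl)).1 s).val =
        (List.rec (s : ℕ) (fun i _ ih => refl sd i ih) (l.map Fin.val) : ℕ) := by
      intro l s
      induction l with
      | nil => rfl
      | cons i l ih =>
        rw [List.map_cons, List.prod_cons, Subgroup.coe_mul, Equiv.Perm.mul_apply]
        show (g.rperm i _).val = refl sd i _
        rw [g.rperm_tab hl hs, ih]
    have hit : ∀ (m : ℕ) (s : Fin D.nroots), ((c ^ m).1 s).val = (Nat.rec (s : ℕ)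
        (fun _ x => List.rec x (fun i _ ih => refl sd i ih) (List.range D.rank)) m : ℕ) := by
      intro m
      induction m with
      | zero => intro s; rfl
      | succ m ih =>
        intro s
        rw [pow_succ', Subgroup.coe_mul, Equiv.Perm.mul_apply, hc, h1, ← hc, ih, List.map_coe_finRange_eq_range]
    intro a
    refine Fin.ext ?_
    rw [hit, hk a a.2]
    show fneg D a = D.neg a
    rw [g.neg_rev a.2]
    rfl
  have hcen : c ^ k ∈ Subgroup.center ↥g.weyl := by
    refine Subgroup.mem_center_iff.2 fun w => Subtype.ext (Equiv.ext fun a => ?_)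
    obtain ⟨l, hl'⟩ := g.exists_wperm w.2
    rw [Subgroup.coe_mul, Subgroup.coe_mul, Equiv.Perm.mul_apply, Equiv.Perm.mul_apply, hm, hm, ← hl',
      g.wperm_nroot]
  have hne : c ^ k ≠ 1 := by
    intro e
    have hpos : 0 < D.nroots := by have := g.nroots_eq; omega
    have h1 := hm ⟨0, hpos⟩
    rw [e] at h1
    exact g.neg_ne hpos (congrArg Fin.val h1).symm
  have hall : ∀ z ∈ Subgroup.center ↥g.weyl, z = 1 ∨ z = c ^ k := fun z hz =>
    (g.central_cases hl h hz).imp id fun e => Subtype.ext (Equiv.ext fun a => (e a).trans (hm a).symm)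
  refine ⟨?_, fun z hz => ?_⟩
  · rw [Nat.card_eq_two_iff]
    refine ⟨⟨1, one_mem _⟩, ⟨c ^ k, hcen⟩, fun e => hne (congrArg Subtype.val e).symm,
      Set.eq_univ_of_forall fun z => ?_⟩
    rcases hall z.1 z.2 with e | e
    · exact Or.inl (Subtype.ext e)
    · exact Or.inr (Subtype.ext e)
  · rcases hall z hz with rfl | rfl
    · exact one_mem _
    · exact Subgroup.npow_mem_zpowers c k

/-- The centre is trivial when the Cartan matrix is singular modulo 3. -/
theorem center_bot (hl : LieChecks D dat) {root : ℕ} {par : List ℕ} (h : treeDiagOK D dat root par = true)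
    {v : List ℤ} (hv : fixModOK D dat v = true) : Subgroup.center ↥g.weyl = ⊥ := by
  simp only [fixModOK, allR_eq, List.all_eq_true, upto_eq, List.mem_range, Bool.and_eq_true, Nat.blt,
    Nat.ble_eq, decide_eq_true_eq, sumUpto_eq] at hv
  obtain ⟨⟨hrk, hv0⟩, hv⟩ := hv
  set u : ℕ → ZMod 3 := fun k => ((nth 0 v k : ℤ) : ZMod 3) with hu
  have hker : ∀ i, i < D.rank →
      ∑ k ∈ Finset.range D.rank, u k * ((D.cartan i (D.simple k) : ℤ) : ZMod 3) = 0 := by
    intro i hi
    have h1 := (ZMod.intCast_zmod_eq_zero_iff_dvd _ 3).2 (Int.dvd_of_emod_eq_zero (hv i hi))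
    rw [Int.cast_sum] at h1
    refine (Finset.sum_congr rfl fun k hk => ?_).trans h1
    have hk' := Finset.mem_range.1 hk
    rw [Int.cast_mul, cartan_eq hl.pack hi (g.simple_lt hk'), (hl.simple_facts hk').1]
  have hfix : ∀ (l : List (Fin D.rank)), ∀ j < D.rank,
      ∑ q : Fin D.rank, u q * ((g.co (g.wperm l (g.sroot q)) j : ℤ) : ZMod 3) = u j := by
    intro l
    induction l with
    | nil =>
      intro j hj
      rw [Finset.sum_eq_single (⟨j, hj⟩ : Fin D.rank)]
      · rw [wperm_nil, Equiv.Perm.one_apply, g.co_sroot _ hj, if_pos rfl, Int.cast_one, mul_one]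
      · intro q _ hq
        rw [wperm_nil, Equiv.Perm.one_apply, g.co_sroot _ hj, if_neg fun e => hq (Fin.ext e), Int.cast_zero,
          mul_zero]
      · simp
    | cons i l ih =>
      intro j hj
      have hstep : ∀ q : Fin D.rank, g.co (g.wperm (i :: l) (g.sroot q)) j = g.co (g.wperm l (g.sroot q)) j -
          if (i : ℕ) = j then D.cartan i (g.wperm l (g.sroot q)) else 0 := fun q => by
        rw [wperm_cons, Equiv.Perm.mul_apply]
        exact g.co_refl i.2 (g.wperm l (g.sroot q)).2 hj
      simp only [hstep, Int.cast_sub, mul_sub, Finset.sum_sub_distrib, ih j hj]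
      by_cases hij : (i : ℕ) = j
      · simp only [if_pos hij]
        rw [sub_eq_self]
        refine (Eq.trans ?_ (hker i i.2))
        calc ∑ q : Fin D.rank, u q * ((D.cartan i (g.wperm l (g.sroot q)) : ℤ) : ZMod 3)
            = ∑ q : Fin D.rank, ∑ k ∈ Finset.range D.rank,
                (u q * ((g.co (g.wperm l (g.sroot q)) k : ℤ) : ZMod 3)) *
                  ((D.cartan i (D.simple k) : ℤ) : ZMod 3) := by
              refine Finset.sum_congr rfl fun q _ => ?_
              rw [g.cartan_eq_sum (g.wperm l (g.sroot q)).2 i.2, Int.cast_sum, Finset.mul_sum]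
              exact Finset.sum_congr rfl fun k _ => by rw [Int.cast_mul]; ring
          _ = _ := by
              rw [Finset.sum_comm]
              refine Finset.sum_congr rfl fun k hk => ?_
              rw [← Finset.sum_mul, ih k (Finset.mem_range.1 hk)]
      · simp [hij]
  refine (Subgroup.eq_bot_iff_forall _).2 fun z hz => (g.central_cases hl h hz).resolve_right fun e => ?_
  obtain ⟨l, hl'⟩ := g.exists_wperm z.2
  have h1 := hfix l 0 hrk
  rw [Finset.sum_eq_single (⟨0, hrk⟩ : Fin D.rank)] at h1
  · rw [hl', e, g.co_nroot _ hrk, g.co_sroot _ hrk, if_pos rfl, hu] at h1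
    simp only [hv0] at h1
    exact absurd h1 (by decide)
  · intro q _ hq
    rw [hl', e, g.co_nroot _ hrk, g.co_sroot _ hrk, if_neg fun e' => hq (Fin.ext e'), neg_zero, Int.cast_zero,
      mul_zero]
  · simp

end Good

theorem center_transfer {n : ℕ} {M : CoxeterMatrix (Fin n)} {W : Type} [Group W] {s : Fin n → W}
    (h : ∃ e : W ≃* M.Group, ∀ i, e (s i) = M.simple i) {c : ℕ}
    (hW : Nat.card (Subgroup.center W) = c ∧
      Subgroup.center W ≤ Subgroup.zpowers ((List.finRange n).map s).prod) :
    Nat.card (Subgroup.center M.Group) = c ∧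
      Subgroup.center M.Group ≤ Subgroup.zpowers ((List.finRange n).map M.simple).prod := by
  obtain ⟨e, he⟩ := h
  refine ⟨(Nat.card_congr (Subgroup.centerCongr e).toEquiv).symm.trans hW.1, fun x hx => ?_⟩
  have hc : ((List.finRange n).map M.simple).prod = e ((List.finRange n).map s).prod := by
    rw [map_list_prod, List.map_map]
    exact congrArg List.prod (List.map_congr_left fun i _ => (he i).symm)
  obtain ⟨m, hm⟩ := Subgroup.mem_zpowers_iff.1 (hW.2 (show e.symm x ∈ Subgroup.center W from
    Subgroup.mem_center_iff.2 fun w => e.injective (by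
      rw [map_mul, map_mul, e.apply_symm_apply]; exact Subgroup.mem_center_iff.1 hx (e w))))
  refine Subgroup.mem_zpowers_iff.2 ⟨m, ?_⟩
  rw [hc, ← map_zpow, hm, e.apply_symm_apply]

theorem treeG2 : treeDiagOK chevG2 dataG2 0 [0, 0] = true := by decide +kernel
theorem treeB2 : treeDiagOK chevB2 dataB2 0 [0, 0] = true := by decide +kernel
theorem treeD4 : treeDiagOK chevD4 dataD4 1 [1, 1, 1, 1] = true := by decide +kernel
theorem treeF4 : treeDiagOK chevF4 dataF4 3 [1, 2, 3, 3] = true := by decide +kernel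
theorem treeE6 : treeDiagOK chevE6 dataE6 5 [2, 3, 3, 4, 5, 5] = true := by decide +kernel
theorem treeE7 : treeDiagOK chevE7 dataE7 6 [2, 3, 3, 4, 5, 6, 6] = true := by decide +kernel
theorem treeE8 : treeDiagOK chevE8 dataE8 7 [2, 3, 3, 4, 5, 6, 7, 7] = true := by decide +kernel

theorem negG2 : negOK chevG2 sdataG2 3 = true := by decide +kernel
theorem negB2 : negOK chevB2 sdataB2 2 = true := by decide +kernel
theorem negD4 : negOK chevD4 sdataD4 3 = true := by decide +kernel
theorem negF4 : negOK chevF4 sdataF4 6 = true := by decide +kernel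
theorem negE7 : negOK chevE7 sdataE7 9 = true := by decide +kernel
theorem negE8 : negOK chevE8 sdataE8 15 = true := by decide +kernel
theorem fixE6 : fixModOK chevE6 dataE6 [1, 0, 2, 0, 1, 2] = true := by decide +kernel

end CfsgLib.Chev
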